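import Mathlib

namespace Groth.Agent.Helper26.MvHens

open Polynomial

universe u

theorem exists_section (A : Type u) [CommRing A] [HenselianLocalRing A] (T : Type u) [CommRing T]
    [Algebra A T] [Algebra.FinitePresentation A T] [Algebra.Etale A T]
    (χ : T →ₐ[A] IsLocalRing.ResidueField A) :
    ∃ ρ : T →ₐ[A] A, ∀ t, IsLocalRing.residue A (ρ t) = χ t := by
  set Q := RingHom.ker χ.toRingHom with hQ
  have hQprime : Q.IsPrime := RingHom.ker_isPrime _
  have hloc : Algebra.etaleLocus A T = Set.univ :=
    Algebra.etaleLocus_eq_univ_iff.2 inferInstance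
  have hEt : Algebra.IsEtaleAt A Q := by
    have : (⟨Q, hQprime⟩ : PrimeSpectrum T) ∈ Algebra.etaleLocus A T := hloc ▸ Set.mem_univ _
    exact this
  obtain ⟨f, hfQ, hstd⟩ := Algebra.IsEtaleAt.exists_isStandardEtale (R := A) Q
  have hχf : IsUnit (χ f) := by
    rw [isUnit_iff_ne_zero]
    intro h
    exact hfQ (by rw [hQ, RingHom.mem_ker]; exact h)
  let χf : Localization.Away f →ₐ[A] IsLocalRing.ResidueField A :=
    IsLocalization.liftAlgHom (M := Submonoid.powers f) (f := χ) (by
      rintro ⟨y, n, rfl⟩
      simpa using hχf.pow n)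
  have hχf_alg : ∀ t : T, χf (algebraMap T (Localization.Away f) t) = χ t := by
    intro t
    simp [χf]
  obtain ⟨PP⟩ := hstd.nonempty_standardEtalePresentation
  set xb := χf PP.x with hxb
  have hmapb : PP.P.HasMap xb := PP.hasMap.map χf
  have hderb : IsUnit (aeval xb PP.P.f.derivative) := hmapb.isUnit_derivative_f
  obtain ⟨x₀, hx₀⟩ := IsLocalRing.residue_surjective xb
  have haeval : ∀ p : A[X], aeval xb p = IsLocalRing.residue A (p.eval x₀) := by
    intro p
    rw [← hx₀, ← IsLocalRing.ResidueField.algebraMap_eq,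
      Polynomial.aeval_algebraMap_apply_eq_algebraMap_eval]
  have h1 : PP.P.f.eval x₀ ∈ IsLocalRing.maximalIdeal A := by
    rw [← IsLocalRing.residue_eq_zero_iff, ← haeval]
    exact hmapb.1
  have h2 : IsUnit (PP.P.f.derivative.eval x₀) := by
    rw [haeval] at hderb
    by_contra hnu
    have : PP.P.f.derivative.eval x₀ ∈ IsLocalRing.maximalIdeal A :=
      (IsLocalRing.mem_maximalIdeal _).2 hnu
    rw [← IsLocalRing.residue_eq_zero_iff] at this
    rw [this] at hderb
    exact not_isUnit_zero hderb
  obtain ⟨x, hxroot, hxx₀⟩ := HenselianLocalRing.is_henselian PP.P.f PP.P.monic_f x₀ h1 h2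
  have hresx : IsLocalRing.residue A x = xb := by
    rw [← hx₀, ← sub_eq_zero, ← map_sub, IsLocalRing.residue_eq_zero_iff]
    exact hxx₀
  have haeval' : ∀ p : A[X], aeval xb p = IsLocalRing.residue A (p.eval x) := by
    intro p
    rw [← hresx, ← IsLocalRing.ResidueField.algebraMap_eq,
      Polynomial.aeval_algebraMap_apply_eq_algebraMap_eval]
  have hmapx : PP.P.HasMap x := by
    refine ⟨?_, ?_⟩
    · rw [Polynomial.coe_aeval_eq_eval]; exact hxroot
    · rw [Polynomial.coe_aeval_eq_eval]
      have hu := hmapb.2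
      rw [haeval'] at hu
      by_contra hnu
      have : PP.P.g.eval x ∈ IsLocalRing.maximalIdeal A := (IsLocalRing.mem_maximalIdeal _).2 hnu
      rw [← IsLocalRing.residue_eq_zero_iff] at this
      rw [this] at hu
      exact not_isUnit_zero hu
  let ρf : Localization.Away f →ₐ[A] A := (PP.P.lift x hmapx).comp PP.equivRing.toAlgHom
  have hcomp : (Algebra.ofId A (IsLocalRing.ResidueField A)).comp ρf = χf := by
    apply PP.hom_ext
    have e1 : ρf PP.x = x := by
      change (PP.P.lift x hmapx) (PP.equivRing PP.x) = x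
      rw [StandardEtalePresentation.equivRing_x, StandardEtalePair.lift_X]
    rw [AlgHom.comp_apply, e1, Algebra.ofId_apply, IsLocalRing.ResidueField.algebraMap_eq, hresx]
  refine ⟨ρf.comp (IsScalarTower.toAlgHom A T (Localization.Away f)), fun t => ?_⟩
  have := congrArg (fun φ => φ (algebraMap T (Localization.Away f) t)) hcomp
  simp only [AlgHom.comp_apply, Algebra.ofId_apply, IsLocalRing.ResidueField.algebraMap_eq,
    hχf_alg] at this
  exact this

end Groth.Agent.Helper26.MvHens
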