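import Mathlib
import Groth.Agent.Lib.Helper26.HensSec1

/-!
# Sections of étale morphisms through prescribed points (helper26)
-/

set_option autoImplicit false
set_option linter.unusedSectionVars false
set_option linter.style.haveILetI false

open CategoryTheory CategoryTheory.Limits AlgebraicGeometry IsLocalRing

namespace Groth.Agent.Helper26.EtSecPt

universe u

/-- over a local ring with separably closed residue field, every prime of an étale algebra over the
maximal ideal is the kernel of a map to the residue field -/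
theorem exists_algHom_ker_eq (A : Type u) [CommRing A] [IsLocalRing A]
    [IsSepClosed (ResidueField A)] (T : Type u) [CommRing T] [Algebra A T] [Algebra.Etale A T]
    (q : Ideal T) [q.IsPrime] (hq : q.comap (algebraMap A T) = maximalIdeal A) :
    ∃ χ : T →ₐ[A] ResidueField A, RingHom.ker χ.toRingHom = q := by
  haveI : q.LiesOver (maximalIdeal A) := ⟨hq.symm⟩
  let k := A ⧸ maximalIdeal A
  let L := T ⧸ q
  letI : Field k := Ideal.Quotient.field (maximalIdeal A)
  haveI : IsSepClosed k := inferInstanceAs (IsSepClosed (ResidueField A))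
  haveI : Algebra.FormallyUnramified A T := inferInstance
  haveI : Algebra.FormallyUnramified T L := Algebra.FormallyUnramified.quotient q
  haveI : Algebra.FormallyUnramified A L := Algebra.FormallyUnramified.comp A T L
  haveI : Algebra.FormallyUnramified k L := Algebra.FormallyUnramified.of_restrictScalars A k L
  haveI : Algebra.FiniteType A T := inferInstance
  haveI : Algebra.FiniteType A L := Algebra.FiniteType.trans ‹Algebra.FiniteType A T› inferInstance
  haveI : Algebra.FiniteType k L := Algebra.FiniteType.of_restrictScalars_finiteType A k L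
  haveI : Module.Finite k L := Algebra.FormallyUnramified.finite_of_free k L
  haveI : Algebra.IsIntegral k L := Algebra.IsIntegral.of_finite k L
  have hLf : IsField L := isField_of_isIntegral_of_isField' (Field.toIsField k)
  haveI : q.IsMaximal := Ideal.Quotient.maximal_of_isField q hLf
  letI : Field L := Ideal.Quotient.field q
  haveI : Algebra.IsSeparable k L := Algebra.FormallyUnramified.isSeparable k L
  have hbij : Function.Bijective (algebraMap k L) := IsSepClosed.algebraMap_bijective k L
  let e : k ≃ₐ[k] L := AlgEquiv.ofBijective (Algebra.ofId k L) hbij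
  let χ : T →ₐ[A] k := (e.symm.toAlgHom.restrictScalars A).comp (Ideal.Quotient.mkₐ A q)
  refine ⟨χ, ?_⟩
  ext t
  rw [RingHom.mem_ker]
  change e.symm (Ideal.Quotient.mk q t) = 0 ↔ _
  rw [map_eq_zero_iff _ e.symm.injective, Ideal.Quotient.eq_zero_iff_mem]

/-- the closed point is the image of the point of the residue field -/
theorem residue_base (A : Type u) [CommRing A] [IsLocalRing A]
    (pt : Spec (CommRingCat.of (ResidueField A))) :
    (Spec.map (CommRingCat.ofHom (residue A))).base pt = closedPoint A := by
  apply PrimeSpectrum.ext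
  change Ideal.comap (residue A) pt.asIdeal = maximalIdeal A
  haveI : pt.asIdeal.IsPrime := pt.isPrime
  have : pt.asIdeal = ⊥ := Ideal.eq_bot_of_prime _
  rw [this, ← RingHom.ker_eq_comap_bot, IsLocalRing.ker_residue]

theorem exists_section_through (A : Type u) [CommRing A] [HenselianLocalRing A]
    [IsSepClosed (ResidueField A)] (X : Scheme.{u}) (f : X ⟶ Spec (CommRingCat.of A)) [Etale f]
    (x : X) (hx : f.base x = closedPoint A) :
    ∃ u : Spec (CommRingCat.of A) ⟶ X, u ≫ f = 𝟙 _ ∧ u.base (closedPoint A) = x := by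
  classical
  obtain ⟨U, hU, hxU⟩ : ∃ U : X.Opens, IsAffineOpen U ∧ x ∈ U := by
    obtain ⟨_, ⟨U, hU, rfl⟩, hxU, -⟩ :=
      X.isBasis_affineOpens.exists_subset_of_mem_open (Set.mem_univ x) isOpen_univ
    exact ⟨U, hU, hxU⟩
  let φ : CommRingCat.of A ⟶ Γ(X, U) := Spec.preimage (hU.fromSpec ≫ f)
  have hφ : Spec.map φ = hU.fromSpec ≫ f := Spec.map_preimage _
  have hEt : φ.hom.Etale := by
    have : Etale (Spec.map φ) := by rw [hφ]; infer_instance
    exact (HasRingHomProperty.Spec_iff (P := @Etale)).mp this
  letI : Algebra A Γ(X, U) := φ.hom.toAlgebra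
  haveI hEt' : Algebra.Etale A Γ(X, U) := hEt
  let y : Spec Γ(X, U) := hU.primeIdealOf ⟨x, hxU⟩
  have hy : hU.fromSpec.base y = x := hU.fromSpec_primeIdealOf ⟨x, hxU⟩
  let q : Ideal Γ(X, U) := y.asIdeal
  haveI : q.IsPrime := y.isPrime
  have hq : q.comap (algebraMap A Γ(X, U)) = maximalIdeal A := by
    have h1 : (Spec.map φ).base y = closedPoint A := by
      rw [hφ, Scheme.Hom.comp_base, TopCat.comp_app, hy, hx]
    exact congrArg PrimeSpectrum.asIdeal h1
  obtain ⟨χ, hχ⟩ := exists_algHom_ker_eq A Γ(X, U) q hq
  let t : Spec (CommRingCat.of (ResidueField A)) ⟶ X :=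
    Spec.map (CommRingCat.ofHom χ.toRingHom) ≫ hU.fromSpec
  have hcomp : φ ≫ CommRingCat.ofHom χ.toRingHom = CommRingCat.ofHom (residue A) := by
    ext r
    exact χ.commutes r
  have ht : t ≫ f = Spec.map (CommRingCat.ofHom (residue A)) := by
    rw [Category.assoc, ← hφ, ← Spec.map_comp, hcomp]
  obtain ⟨s, hs1, hs2⟩ := HensSec.exists_sec A f t ht
  refine ⟨s, hs1, ?_⟩
  let pt : Spec (CommRingCat.of (ResidueField A)) := default
  have h1 : s.base (closedPoint A) = t.base pt := by
    rw [← residue_base A pt, ← hs2, Scheme.Hom.comp_base, TopCat.comp_app]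
  rw [h1]
  change hU.fromSpec.base ((Spec.map (CommRingCat.ofHom χ.toRingHom)).base pt) = x
  have h2 : (Spec.map (CommRingCat.ofHom χ.toRingHom)).base pt = y := by
    apply PrimeSpectrum.ext
    change Ideal.comap χ.toRingHom pt.asIdeal = q
    haveI : pt.asIdeal.IsPrime := pt.isPrime
    have : pt.asIdeal = ⊥ := Ideal.eq_bot_of_prime _
    rw [this, ← RingHom.ker_eq_comap_bot, hχ]
  rw [h2, hy]

end Groth.Agent.Helper26.EtSecPt
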