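import Mathlib

namespace Groth.Agent.Helper26.LocOne1

open PrimeSpectrum

theorem exists_basicOpen (R : Type*) [CommRing R] (J : Ideal R) (U : Set (PrimeSpectrum R))
    (hU : IsOpen U) (hJU : zeroLocus (J : Set R) ⊆ U) :
    ∃ f : R, f - 1 ∈ J ∧ (basicOpen f : Set (PrimeSpectrum R)) ⊆ U := by
  obtain ⟨𝔞, h𝔞⟩ := (PrimeSpectrum.isClosed_iff_zeroLocus_ideal _).1 hU.isClosed_compl
  have htop : 𝔞 ⊔ J = ⊤ := by
    rw [← zeroLocus_empty_iff_eq_top, zeroLocus_sup, ← h𝔞]
    ext x
    simp only [Set.mem_inter_iff, Set.mem_compl_iff, Set.mem_empty_iff_false, iff_false, not_and]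
    intro hx hx'
    exact hx (hJU hx')
  obtain ⟨a, ha, j, hj, haj⟩ := Submodule.mem_sup.1 (htop ▸ Submodule.mem_top : (1 : R) ∈ 𝔞 ⊔ J)
  refine ⟨a, ?_, ?_⟩
  · have : a - 1 = -j := by rw [← haj]; ring
    rw [this]; exact J.neg_mem hj
  · intro x hx
    by_contra hxU
    have : x ∈ zeroLocus (𝔞 : Set R) := by rw [← h𝔞]; exact hxU
    exact hx (this ha)

theorem pow_sub_one_mem {R : Type*} [CommRing R] (J : Ideal R) (f : R) (hf : f - 1 ∈ J) (n : ℕ) :
    f ^ n - 1 ∈ J := by
  induction n with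
  | zero => simp
  | succ n ih =>
    have : f ^ (n + 1) - 1 = f ^ n * (f - 1) + (f ^ n - 1) := by ring
    rw [this]
    exact J.add_mem (J.mul_mem_left _ hf) ih

theorem quotientMap_bijective (R : Type*) [CommRing R] (J : Ideal R) (f : R) (hf : f - 1 ∈ J)
    (R' : Type*) [CommRing R'] [Algebra R R'] [IsLocalization.Away f R'] :
    Function.Bijective (Ideal.quotientMap (J.map (algebraMap R R')) (algebraMap R R')
      Ideal.le_comap_map) := by
  constructor
  · rw [injective_iff_map_eq_zero]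
    intro x
    obtain ⟨r, rfl⟩ := Ideal.Quotient.mk_surjective x
    rw [Ideal.quotientMap_mk, Ideal.Quotient.eq_zero_iff_mem, Ideal.Quotient.eq_zero_iff_mem]
    intro hr
    rw [IsLocalization.mem_map_algebraMap_iff (Submonoid.powers f)] at hr
    obtain ⟨⟨⟨j, hj⟩, ⟨s, n, rfl⟩⟩, h⟩ := hr
    simp only at h
    rw [← map_mul, IsLocalization.eq_iff_exists (Submonoid.powers f)] at h
    obtain ⟨⟨c, m, rfl⟩, hc⟩ := h
    simp only at hc
    have h1 : f ^ (m + n) * r ∈ J := by
      have : f ^ (m + n) * r = f ^ m * j := by rw [← hc]; ring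
      rw [this]; exact J.mul_mem_left _ hj
    have h2 := pow_sub_one_mem J f hf (m + n)
    have : r = f ^ (m + n) * r - (f ^ (m + n) - 1) * r := by ring
    rw [this]
    exact J.sub_mem h1 (J.mul_mem_right _ h2)
  · intro y
    obtain ⟨x, rfl⟩ := Ideal.Quotient.mk_surjective y
    obtain ⟨a, ⟨s, n, rfl⟩, rfl⟩ := IsLocalization.exists_mk'_eq (Submonoid.powers f) x
    refine ⟨Ideal.Quotient.mk _ a, ?_⟩
    rw [Ideal.quotientMap_mk, Ideal.Quotient.eq]
    have h2 := pow_sub_one_mem J f hf n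
    have key : algebraMap R R' a - IsLocalization.mk' R' a (⟨f ^ n, n, rfl⟩ : Submonoid.powers f)
        = IsLocalization.mk' R' a (⟨f ^ n, n, rfl⟩ : Submonoid.powers f) *
          algebraMap R R' (f ^ n - 1) := by
      have h3 : IsLocalization.mk' R' a (⟨f ^ n, n, rfl⟩ : Submonoid.powers f) *
          algebraMap R R' (f ^ n) = algebraMap R R' a :=
        IsLocalization.mk'_spec R' a (⟨f ^ n, n, rfl⟩ : Submonoid.powers f)
      rw [map_sub, map_one, mul_sub, h3, mul_one]
    rw [key]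
    exact Ideal.mul_mem_left _ _ (Ideal.mem_map_of_mem _ h2)

end Groth.Agent.Helper26.LocOne1
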