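import Mathlib

/-!
# Étale neighbourhoods of a pair (helper26)
-/

set_option autoImplicit false

namespace Groth.Agent.Helper26.PH

open TensorProduct

universe u

section basic

variable (R : Type u) [CommRing R] (J : Ideal R) (R' : Type u) [CommRing R'] [Algebra R R']

/-- `R'` is an étale neighbourhood of the pair `(R, J)`. -/
structure IsNbhd : Prop where
  etale : Algebra.Etale R R'
  bij : Function.Bijective
    (Ideal.quotientMap (J.map (algebraMap R R')) (algebraMap R R') Ideal.le_comap_map)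

variable {R J R'}

theorem bij_iff : Function.Bijective
    (Ideal.quotientMap (J.map (algebraMap R R')) (algebraMap R R') Ideal.le_comap_map) ↔
    (∀ r, algebraMap R R' r ∈ J.map (algebraMap R R') → r ∈ J) ∧
    (∀ x : R', ∃ r, x - algebraMap R R' r ∈ J.map (algebraMap R R')) := by
  constructor
  · rintro ⟨hi, hs⟩
    constructor
    · intro r hr
      rw [← Ideal.Quotient.eq_zero_iff_mem] at hr ⊢
      apply hi
      rw [Ideal.quotientMap_mk, hr, map_zero]
    · intro x
      obtain ⟨rbar, hr⟩ := hs (Ideal.Quotient.mk _ x)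
      obtain ⟨r, rfl⟩ := Ideal.Quotient.mk_surjective rbar
      rw [Ideal.quotientMap_mk, eq_comm, Ideal.Quotient.eq] at hr
      exact ⟨r, hr⟩
  · rintro ⟨hi, hs⟩
    constructor
    · rw [injective_iff_map_eq_zero]
      intro x hx
      obtain ⟨r, rfl⟩ := Ideal.Quotient.mk_surjective x
      rw [Ideal.quotientMap_mk, Ideal.Quotient.eq_zero_iff_mem] at hx
      rw [Ideal.Quotient.eq_zero_iff_mem]
      exact hi r hx
    · intro y
      obtain ⟨x, rfl⟩ := Ideal.Quotient.mk_surjective y
      obtain ⟨r, hr⟩ := hs x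
      refine ⟨Ideal.Quotient.mk _ r, ?_⟩
      rw [Ideal.quotientMap_mk, eq_comm, Ideal.Quotient.eq]
      exact hr

/-- criterion: a retraction to `R ⧸ J` gives injectivity -/
theorem IsNbhd.of_retr [Algebra.Etale R R'] (ρ : R' →ₐ[R] R ⧸ J)
    (hs : ∀ x : R', ∃ r, x - algebraMap R R' r ∈ J.map (algebraMap R R')) : IsNbhd R J R' := by
  refine ⟨inferInstance, bij_iff.2 ⟨?_, hs⟩⟩
  intro r hr
  have h1 : J.map (algebraMap R R') ≤ RingHom.ker (ρ : R' →+* R ⧸ J) := by
    rw [Ideal.map_le_iff_le_comap]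
    intro j hj
    rw [Ideal.mem_comap, RingHom.mem_ker]
    change ρ (algebraMap R R' j) = 0
    rw [AlgHom.commutes]
    exact Ideal.Quotient.eq_zero_iff_mem.2 hj
  have h2 := h1 hr
  rw [RingHom.mem_ker] at h2
  change ρ (algebraMap R R' r) = 0 at h2
  rw [AlgHom.commutes] at h2
  exact Ideal.Quotient.eq_zero_iff_mem.1 h2

namespace IsNbhd

variable (h : IsNbhd R J R')
include h

theorem inj (r : R) (hr : algebraMap R R' r ∈ J.map (algebraMap R R')) : r ∈ J :=
  (bij_iff.1 h.bij).1 r hr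

theorem surj (x : R') : ∃ r, x - algebraMap R R' r ∈ J.map (algebraMap R R') :=
  (bij_iff.1 h.bij).2 x

/-- the retraction `R' → R ⧸ J` -/
noncomputable def retr : R' →ₐ[R] R ⧸ J :=
  { ((RingEquiv.ofBijective _ h.bij).symm : (R' ⧸ J.map (algebraMap R R')) →+* (R ⧸ J)).comp
      (Ideal.Quotient.mk _) with
    commutes' := by
      intro r
      have h1 : (Ideal.Quotient.mk (J.map (algebraMap R R'))) (algebraMap R R' r) =
          RingEquiv.ofBijective _ h.bij (Ideal.Quotient.mk J r) := by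
        change _ = Ideal.quotientMap (J.map (algebraMap R R')) (algebraMap R R')
          Ideal.le_comap_map (Ideal.Quotient.mk J r)
        rw [Ideal.quotientMap_mk]
      change (RingEquiv.ofBijective _ h.bij).symm
        ((Ideal.Quotient.mk _) (algebraMap R R' r)) = _
      rw [h1, RingEquiv.symm_apply_apply]
      rfl }

theorem retr_eq_zero_iff (x : R') : h.retr x = 0 ↔ x ∈ J.map (algebraMap R R') := by
  change (RingEquiv.ofBijective _ h.bij).symm ((Ideal.Quotient.mk _) x) = 0 ↔ _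
  rw [RingEquiv.map_eq_zero_iff, Ideal.Quotient.eq_zero_iff_mem]

end IsNbhd

end basic

section closure

variable {R : Type u} [CommRing R] {J : Ideal R}

/-- the base ring is a neighbourhood of itself -/
theorem IsNbhd.self : IsNbhd R J R := by
  refine IsNbhd.of_retr (Ideal.Quotient.mkₐ R J) ?_
  intro x
  exact ⟨x, by simp⟩

/-- transport along an isomorphism -/
theorem IsNbhd.of_algEquiv {R' R'' : Type u} [CommRing R'] [Algebra R R'] [CommRing R'']
    [Algebra R R''] (h : IsNbhd R J R') (e : R' ≃ₐ[R] R'') : IsNbhd R J R'' := by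
  have := h.etale
  have : Algebra.Etale R R'' := Algebra.Etale.of_equiv e
  refine IsNbhd.of_retr (h.retr.comp e.symm.toAlgHom) ?_
  intro x
  obtain ⟨r, hr⟩ := h.surj (e.symm x)
  refine ⟨r, ?_⟩
  have h1 : x - algebraMap R R'' r = e (e.symm x - algebraMap R R' r) := by simp
  rw [h1]
  have h2 : (J.map (algebraMap R R')).map (e : R' →+* R'') = J.map (algebraMap R R'') := by
    rw [Ideal.map_map]
    congr 1
    ext a
    simp
  rw [← h2]
  exact Ideal.mem_map_of_mem _ hr

/-- composition of neighbourhoods -/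
theorem IsNbhd.comp {R' R'' : Type u} [CommRing R'] [Algebra R R'] [CommRing R'']
    [Algebra R R''] [Algebra R' R''] [IsScalarTower R R' R''] (h : IsNbhd R J R')
    (h' : IsNbhd R' (J.map (algebraMap R R')) R'') : IsNbhd R J R'' := by
  have := h.etale
  have := h'.etale
  have : Algebra.Etale R R'' := Algebra.Etale.comp R R' R''
  have hmap : (J.map (algebraMap R R')).map (algebraMap R' R'') = J.map (algebraMap R R'') := by
    rw [Ideal.map_map, ← IsScalarTower.algebraMap_eq]
  -- the retraction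
  let ρ₁ : R' ⧸ J.map (algebraMap R R') →ₐ[R] R ⧸ J :=
    Ideal.Quotient.liftₐ _ h.retr (fun a ha => (h.retr_eq_zero_iff a).2 ha)
  refine IsNbhd.of_retr (ρ₁.comp (h'.retr.restrictScalars R)) ?_
  intro x
  obtain ⟨x', hx'⟩ := h'.surj x
  obtain ⟨r, hr⟩ := h.surj x'
  refine ⟨r, ?_⟩
  have h1 : x - algebraMap R R'' r = (x - algebraMap R' R'' x') +
      algebraMap R' R'' (x' - algebraMap R R' r) := by
    rw [map_sub, ← IsScalarTower.algebraMap_apply]; ring
  rw [h1, ← hmap]
  exact Ideal.add_mem _ hx' (Ideal.mem_map_of_mem _ hr)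

/-- tensor product of neighbourhoods -/
theorem IsNbhd.tensor {R₁ R₂ : Type u} [CommRing R₁] [Algebra R R₁] [CommRing R₂]
    [Algebra R R₂] (h₁ : IsNbhd R J R₁) (h₂ : IsNbhd R J R₂) : IsNbhd R J (R₁ ⊗[R] R₂) := by
  have := h₁.etale
  have := h₂.etale
  have : Algebra.Etale R (R₁ ⊗[R] R₂) := Algebra.Etale.comp R R₁ (R₁ ⊗[R] R₂)
  refine IsNbhd.of_retr (Algebra.TensorProduct.lift h₁.retr h₂.retr (fun _ _ => Commute.all _ _)) ?_
  intro x
  induction x using TensorProduct.induction_on with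
  | zero => exact ⟨0, by simp⟩
  | tmul a b =>
    obtain ⟨r, hr⟩ := h₁.surj a
    obtain ⟨s, hs⟩ := h₂.surj b
    refine ⟨r * s, ?_⟩
    have h1 : a ⊗ₜ[R] b - algebraMap R (R₁ ⊗[R] R₂) (r * s) =
        (a - algebraMap R R₁ r) ⊗ₜ[R] b + (algebraMap R R₁ r) ⊗ₜ[R] (b - algebraMap R R₂ s) := by
      have h0 : (algebraMap R R₁ r) ⊗ₜ[R] (algebraMap R R₂ s) =
          (algebraMap R R₁ r * algebraMap R R₁ s) ⊗ₜ[R] (1 : R₂) := by
        rw [Algebra.algebraMap_eq_smul_one (A := R₂) s, TensorProduct.tmul_smul,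
          TensorProduct.smul_tmul', Algebra.smul_def, mul_comm]
      rw [TensorProduct.sub_tmul, TensorProduct.tmul_sub, Algebra.TensorProduct.algebraMap_apply,
        map_mul, h0]
      abel
    rw [h1]
    refine Ideal.add_mem _ ?_ ?_
    · have : (a - algebraMap R R₁ r) ⊗ₜ[R] b =
          (Algebra.TensorProduct.includeLeft : R₁ →ₐ[R] R₁ ⊗[R] R₂) (a - algebraMap R R₁ r) *
            ((1 : R₁) ⊗ₜ[R] b) := by
        simp
      rw [this]
      apply Ideal.mul_mem_right
      have h2 : (J.map (algebraMap R R₁)).map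
          ((Algebra.TensorProduct.includeLeft : R₁ →ₐ[R] R₁ ⊗[R] R₂) : R₁ →+* R₁ ⊗[R] R₂) =
          J.map (algebraMap R (R₁ ⊗[R] R₂)) := by
        rw [Ideal.map_map]
        congr 1
      rw [← h2]
      exact Ideal.mem_map_of_mem _ hr
    · have : (algebraMap R R₁ r) ⊗ₜ[R] (b - algebraMap R R₂ s) =
          (Algebra.TensorProduct.includeRight : R₂ →ₐ[R] R₁ ⊗[R] R₂) (b - algebraMap R R₂ s) *
            ((algebraMap R R₁ r) ⊗ₜ[R] (1 : R₂)) := by
        simp
      rw [this]
      apply Ideal.mul_mem_right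
      have h2 : (J.map (algebraMap R R₂)).map
          ((Algebra.TensorProduct.includeRight : R₂ →ₐ[R] R₁ ⊗[R] R₂) : R₂ →+* R₁ ⊗[R] R₂) =
          J.map (algebraMap R (R₁ ⊗[R] R₂)) := by
        rw [Ideal.map_map]
        congr 1
        exact (Algebra.TensorProduct.includeRight : R₂ →ₐ[R] R₁ ⊗[R] R₂).comp_algebraMap
      rw [← h2]
      exact Ideal.mem_map_of_mem _ hs
  | add x y hx hy =>
    obtain ⟨r, hr⟩ := hx
    obtain ⟨s, hs⟩ := hy
    refine ⟨r + s, ?_⟩
    have : x + y - algebraMap R (R₁ ⊗[R] R₂) (r + s) =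
        (x - algebraMap R (R₁ ⊗[R] R₂) r) + (y - algebraMap R (R₁ ⊗[R] R₂) s) := by
      rw [map_add]; ring
    rw [this]
    exact Ideal.add_mem _ hr hs

end closure

end Groth.Agent.Helper26.PH
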