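import Mathlib
import Groth.Agent.Lib.Helper26.PHNbhd
import Groth.Agent.Lib.Helper26.LocOne1

/-!
# Étale neighbourhoods of a pair: localization and coequalizers (helper26)
-/

set_option autoImplicit false

namespace Groth.Agent.Helper26.PH

open TensorProduct

universe u

variable {R : Type u} [CommRing R] {J : Ideal R}

/-- localization at an element congruent to `1` -/
theorem IsNbhd.away {R' : Type u} [CommRing R'] [Algebra R R'] (h : IsNbhd R J R') (f : R')
    (hf : f - 1 ∈ J.map (algebraMap R R')) : IsNbhd R J (Localization.Away f) := by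
  refine h.comp ⟨Algebra.Etale.of_isLocalizationAway f, ?_⟩
  exact LocOne1.quotientMap_bijective R' _ f hf _

/-- any `R`-algebra map to `R ⧸ J` is the retraction -/
theorem IsNbhd.retr_unique {R' : Type u} [CommRing R'] [Algebra R R'] (h : IsNbhd R J R')
    (ρ : R' →ₐ[R] R ⧸ J) : ρ = h.retr := by
  have key : ∀ (ρ : R' →ₐ[R] R ⧸ J) (y : R'), y ∈ J.map (algebraMap R R') → ρ y = 0 := by
    intro ρ y hy
    have h1 : J.map (algebraMap R R') ≤ RingHom.ker (ρ : R' →+* R ⧸ J) := by
      rw [Ideal.map_le_iff_le_comap]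
      intro j hj
      rw [Ideal.mem_comap, RingHom.mem_ker]
      change ρ (algebraMap R R' j) = 0
      rw [AlgHom.commutes]
      exact Ideal.Quotient.eq_zero_iff_mem.2 hj
    exact h1 hy
  apply AlgHom.ext
  intro x
  obtain ⟨r, hr⟩ := h.surj x
  have hx : x = algebraMap R R' r + (x - algebraMap R R' r) := by ring
  rw [hx, map_add, map_add, key ρ _ hr, key h.retr _ hr, AlgHom.commutes, AlgHom.commutes]

/-- coequalizers of parallel maps of neighbourhoods -/
theorem exists_coequalizer {R' R'' : Type u} [CommRing R'] [Algebra R R'] [CommRing R'']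
    [Algebra R R''] (h' : IsNbhd R J R') (h'' : IsNbhd R J R'') (u v : R' →ₐ[R] R'') :
    ∃ (Q : Type u) (_ : CommRing Q) (_ : Algebra R Q) (_ : IsNbhd R J Q) (w : R'' →ₐ[R] Q),
      w.comp u = w.comp v := by
  classical
  have := h'.etale
  have := h''.etale
  obtain ⟨s, hs⟩ := (Algebra.FiniteType.out : (⊤ : Subalgebra R R').FG)
  let 𝔡 : Ideal R'' := Ideal.span ((fun x => u x - v x) '' (s : Set R'))
  have h𝔡fg : 𝔡.FG := ⟨s.image (fun x => u x - v x), by simp [𝔡]⟩
  let π : R'' →ₐ[R] R'' ⧸ 𝔡 := Ideal.Quotient.mkₐ R 𝔡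
  have hπ : π.comp u = π.comp v := by
    apply AlgHom.ext_of_adjoin_eq_top hs
    intro x hx
    simp only [AlgHom.comp_apply, π, Ideal.Quotient.mkₐ_eq_mk]
    rw [Ideal.Quotient.eq]
    exact Ideal.subset_span ⟨x, hx, rfl⟩
  -- finite presentation
  have hfp : Algebra.FinitePresentation R (R'' ⧸ 𝔡) :=
    Algebra.FinitePresentation.of_surjective (f := π) Ideal.Quotient.mk_surjective (by
      have : RingHom.ker π.toRingHom = 𝔡 := Ideal.mk_ker
      rw [this]; exact h𝔡fg)
  -- formally unramified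
  have hunr : Algebra.FormallyUnramified R (R'' ⧸ 𝔡) :=
    Algebra.FormallyUnramified.of_surjective π Ideal.Quotient.mk_surjective
  -- formally smooth
  have hsm : Algebra.FormallySmooth R (R'' ⧸ 𝔡) := by
    apply Algebra.FormallySmooth.of_comp_surjective
    intro T _ _ N hN g
    obtain ⟨g', hg'⟩ := Algebra.FormallySmooth.comp_surjective R R'' N hN (g.comp π)
    have hcomp : g'.comp u = g'.comp v := by
      apply Algebra.FormallyUnramified.comp_injective N hN
      rw [← AlgHom.comp_assoc, ← AlgHom.comp_assoc, hg', AlgHom.comp_assoc, AlgHom.comp_assoc, hπ]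
    have hkill : ∀ a ∈ 𝔡, g' a = 0 := by
      intro a ha
      have : 𝔡 ≤ RingHom.ker (g' : R'' →+* T) := by
        rw [Ideal.span_le]
        rintro _ ⟨x, -, rfl⟩
        rw [SetLike.mem_coe, RingHom.mem_ker]
        change g' (u x - v x) = 0
        rw [map_sub, sub_eq_zero]
        exact DFunLike.congr_fun hcomp x
      exact this ha
    refine ⟨Ideal.Quotient.liftₐ 𝔡 g' hkill, ?_⟩
    apply AlgHom.ext
    intro y
    obtain ⟨y, rfl⟩ := Ideal.Quotient.mk_surjective y
    have := DFunLike.congr_fun hg' y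
    simp only [AlgHom.comp_apply, π, Ideal.Quotient.mkₐ_eq_mk] at this
    simp only [AlgHom.comp_apply, Ideal.Quotient.mkₐ_eq_mk, Ideal.Quotient.liftₐ_apply,
      Ideal.Quotient.lift_mk]
    exact this
  have het : Algebra.Etale R (R'' ⧸ 𝔡) :=
    { formallyEtale := Algebra.FormallyEtale.of_formallyUnramified_and_formallySmooth
      finitePresentation := hfp }
  -- the retraction
  have hretr : ∀ a ∈ 𝔡, h''.retr a = 0 := by
    intro a ha
    have : 𝔡 ≤ RingHom.ker (h''.retr : R'' →+* R ⧸ J) := by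
      rw [Ideal.span_le]
      rintro _ ⟨x, -, rfl⟩
      rw [SetLike.mem_coe, RingHom.mem_ker]
      change h''.retr (u x - v x) = 0
      rw [map_sub, sub_eq_zero]
      have h1 := h'.retr_unique (h''.retr.comp u)
      have h2 := h'.retr_unique (h''.retr.comp v)
      exact DFunLike.congr_fun (h1.trans h2.symm) x
    exact this ha
  refine ⟨R'' ⧸ 𝔡, inferInstance, inferInstance, ?_, π, hπ⟩
  refine IsNbhd.of_retr (Ideal.Quotient.liftₐ 𝔡 h''.retr hretr) ?_
  intro y
  obtain ⟨y, rfl⟩ := Ideal.Quotient.mk_surjective y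
  obtain ⟨r, hr⟩ := h''.surj y
  refine ⟨r, ?_⟩
  have h1 : Ideal.Quotient.mk 𝔡 y - algebraMap R (R'' ⧸ 𝔡) r = π (y - algebraMap R R'' r) := by
    rw [map_sub, AlgHom.commutes]; rfl
  rw [h1]
  have h2 : (J.map (algebraMap R R'')).map (π : R'' →+* R'' ⧸ 𝔡) =
      J.map (algebraMap R (R'' ⧸ 𝔡)) := by
    rw [Ideal.map_map]
    congr 1
  rw [← h2]
  exact Ideal.mem_map_of_mem _ hr

end Groth.Agent.Helper26.PH
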