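import Mathlib
import Groth.Agent.Lib.Helper26.PHNbhd2

/-!
# The filtered colimit of the étale neighbourhoods of a pair (helper26)
-/

set_option autoImplicit false

open CategoryTheory Limits TensorProduct

namespace Groth.Agent.Helper26.PH

universe u

variable (R : Type u) [CommRing R] (J : Ideal R)

/-- index type for the étale neighbourhoods of `(R, J)` -/
def Idx : Type u :=
  {P : FGAlgCatSkeleton R // IsNbhd R J (MvPolynomial (Fin P.n) R ⧸ P.I)}

variable {R J}

/-- the ring attached to an index -/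
abbrev Idx.ring (i : Idx R J) : Type u := MvPolynomial (Fin i.1.n) R ⧸ i.1.I

theorem Idx.isNbhd (i : Idx R J) : IsNbhd R J i.ring := i.2

theorem exists_idx (R' : Type u) [CommRing R'] [Algebra R R'] (h : IsNbhd R J R') :
    ∃ i : Idx R J, Nonempty (R' ≃ₐ[R] i.ring) := by
  have := h.etale
  have : Algebra.FiniteType R R' := inferInstance
  obtain ⟨n, f, hf⟩ := Algebra.FiniteType.iff_quotient_mvPolynomial''.mp this
  let e : R' ≃ₐ[R] (MvPolynomial (Fin n) R ⧸ RingHom.ker f) :=
    (Ideal.quotientKerAlgEquivOfSurjective hf).symm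
  exact ⟨⟨⟨n, RingHom.ker f⟩, h.of_algEquiv e⟩, ⟨e⟩⟩

noncomputable instance : SmallCategory (Idx R J) where
  Hom i j := i.ring →ₐ[R] j.ring
  id i := AlgHom.id R _
  comp f g := g.comp f

theorem Idx.comp_def {i j k : Idx R J} (f : i ⟶ j) (g : j ⟶ k) :
    (f ≫ g : i.ring →ₐ[R] k.ring) = (g : j.ring →ₐ[R] k.ring).comp f := rfl

instance : IsFiltered (Idx R J) where
  cocone_objs i j := by
    obtain ⟨k, ⟨e⟩⟩ := exists_idx (i.ring ⊗[R] j.ring) (i.isNbhd.tensor j.isNbhd)
    exact ⟨k, e.toAlgHom.comp Algebra.TensorProduct.includeLeft,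
      e.toAlgHom.comp Algebra.TensorProduct.includeRight, trivial⟩
  cocone_maps i j f g := by
    obtain ⟨Q, _, _, hQ, w, hw⟩ := exists_coequalizer i.isNbhd j.isNbhd f g
    obtain ⟨k, ⟨e⟩⟩ := exists_idx Q hQ
    refine ⟨k, e.toAlgHom.comp w, ?_⟩
    change (e.toAlgHom.comp w).comp f = (e.toAlgHom.comp w).comp g
    rw [AlgHom.comp_assoc, AlgHom.comp_assoc, hw]
  nonempty := by
    obtain ⟨k, -⟩ := exists_idx (J := J) R IsNbhd.self
    exact ⟨k⟩

variable (R J)

/-- the diagram of rings -/
noncomputable def diag : Idx R J ⥤ CommRingCat.{u} where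
  obj i := CommRingCat.of i.ring
  map f := CommRingCat.ofHom (f : _ →ₐ[R] _).toRingHom
  map_id _ := rfl
  map_comp _ _ := rfl

/-- the colimit ring -/
noncomputable def Colim : Type u := (colimit (diag R J) : CommRingCat.{u})

noncomputable instance : CommRing (Colim R J) :=
  inferInstanceAs (CommRing (colimit (diag R J) : CommRingCat.{u}))

/-- the coprojections as ring homs -/
noncomputable def ιR (i : Idx R J) : i.ring →+* Colim R J := (colimit.ι (diag R J) i).hom

theorem ιR_comp {i j : Idx R J} (f : i.ring →ₐ[R] j.ring) (x : i.ring) :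
    ιR R J j (f x) = ιR R J i x := by
  have := colimit.w (diag R J) (show i ⟶ j from f)
  exact congrArg (fun g => g.hom x) this

theorem ιR_algebraMap (i j : Idx R J) (r : R) :
    ιR R J i (algebraMap R i.ring r) = ιR R J j (algebraMap R j.ring r) := by
  obtain ⟨k, f, g, -⟩ := IsFilteredOrEmpty.cocone_objs i j
  have hf := ιR_comp R J (show i.ring →ₐ[R] k.ring from f) (algebraMap R i.ring r)
  have hg := ιR_comp R J (show j.ring →ₐ[R] k.ring from g) (algebraMap R j.ring r)
  rw [AlgHom.commutes] at hf hg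
  rw [← hf, ← hg]

/-- a base index -/
noncomputable def idx₀ : Idx R J := (exists_idx (J := J) R IsNbhd.self).choose

noncomputable instance : Algebra R (Colim R J) :=
  ((ιR R J (idx₀ R J)).comp (algebraMap R (idx₀ R J).ring)).toAlgebra

theorem algebraMap_colim (i : Idx R J) (r : R) :
    algebraMap R (Colim R J) r = ιR R J i (algebraMap R i.ring r) :=
  ιR_algebraMap R J _ _ r

/-- the coprojections as algebra homs -/
noncomputable def ιA (i : Idx R J) : i.ring →ₐ[R] Colim R J :=
  { ιR R J i with commutes' := fun r => (algebraMap_colim R J i r).symm }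

theorem ιA_comp {i j : Idx R J} (f : i.ring →ₐ[R] j.ring) : (ιA R J j).comp f = ιA R J i :=
  AlgHom.ext fun x => ιR_comp R J f x

theorem ιA_rep (b : Colim R J) : ∃ (i : Idx R J) (x : i.ring), ιA R J i x = b := by
  obtain ⟨i, x, hx⟩ := Concrete.colimit_exists_rep (diag R J) b
  exact ⟨i, x, hx⟩

theorem ιA_eq_iff {i j : Idx R J} (x : i.ring) (y : j.ring) :
    ιA R J i x = ιA R J j y ↔
      ∃ (k : Idx R J) (f : i.ring →ₐ[R] k.ring) (g : j.ring →ₐ[R] k.ring), f x = g y := by
  have := Concrete.colimit_rep_eq_iff_exists (F := diag R J) (i := i) (j := j) x y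
  exact this

theorem ιA_eq_zero {i : Idx R J} (x : i.ring) (hx : ιA R J i x = 0) :
    ∃ (k : Idx R J) (f : i.ring →ₐ[R] k.ring), f x = 0 := by
  have h0 : ιA R J i x = ιA R J i 0 := by rw [hx, map_zero]
  obtain ⟨k, f, g, hfg⟩ := (ιA_eq_iff R J x 0).1 h0
  exact ⟨k, f, by rw [hfg, map_zero]⟩

/-- the universal property of the colimit -/
theorem ιA_desc (C : Type u) [CommRing C] [Algebra R C] (τ : ∀ i : Idx R J, i.ring →ₐ[R] C)
    (hτ : ∀ (i j : Idx R J) (f : i.ring →ₐ[R] j.ring), (τ j).comp f = τ i) :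
    ∃ g : Colim R J →ₐ[R] C, ∀ i, g.comp (ιA R J i) = τ i := by
  let c : Cocone (diag R J) :=
    { pt := CommRingCat.of C
      ι :=
        { app := fun i => CommRingCat.ofHom (τ i).toRingHom
          naturality := by
            intro i j f
            ext x
            exact DFunLike.congr_fun (hτ i j f) x } }
  let g₀ : Colim R J →+* C := (colimit.desc (diag R J) c).hom
  have hg₀ : ∀ i (x : i.ring), g₀ (ιR R J i x) = τ i x := by
    intro i x
    have := colimit.ι_desc c i
    exact congrArg (fun g => g.hom x) this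
  refine ⟨{ g₀ with commutes' := ?_ }, ?_⟩
  · intro r
    change g₀ (algebraMap R (Colim R J) r) = _
    rw [algebraMap_colim R J (idx₀ R J), hg₀, AlgHom.commutes]
  · intro i
    exact AlgHom.ext fun x => hg₀ i x

end Groth.Agent.Helper26.PH
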