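import Mathlib
import Groth.Agent.Lib.Helper26.PHNbhd

/-!
# The standard étale neighbourhood solving a Hensel problem (helper26)
-/

set_option autoImplicit false

namespace Groth.Agent.Helper26.PH

open Polynomial

universe u

section std

variable {A : Type u} [CommRing A] (I : Ideal A) (f : A[X]) (a₀ : A)

/-- the quotient of `f` by `X - a₀` -/
noncomputable def hquot : A[X] := f /ₘ (X - C a₀)

theorem f_eq : f = (X - C a₀) * hquot f a₀ + C (f.eval a₀) := by
  have := Polynomial.modByMonic_add_div f (X - C a₀)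
  rw [Polynomial.modByMonic_X_sub_C_eq_C_eval] at this
  rw [hquot, add_comm]
  exact this.symm

theorem hquot_eval : (hquot f a₀).eval a₀ = f.derivative.eval a₀ := by
  have h := congrArg (fun p => (derivative p).eval a₀) (f_eq f a₀)
  simp only [derivative_add, derivative_mul, derivative_sub, derivative_X, derivative_C,
    sub_zero, one_mul, eval_add, eval_mul, eval_sub, eval_X, eval_C, sub_self, zero_mul,
    add_zero] at h
  exact h.symm

/-- the standard étale pair -/
noncomputable def stdPair (hf : f.Monic) : StandardEtalePair A where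
  f := f
  monic_f := hf
  g := hquot f a₀ * derivative f
  cond := ⟨hquot f a₀, 0, 1, by ring⟩

variable {I f a₀}

theorem exists_std (hf : f.Monic) (h0 : f.eval a₀ ∈ I)
    (h1 : IsUnit (Ideal.Quotient.mk I (f.derivative.eval a₀))) :
    ∃ (E : Type u) (_ : CommRing E) (_ : Algebra A E) (_ : IsNbhd A I E) (a : E),
      aeval a f = 0 ∧ a - algebraMap A E a₀ ∈ I.map (algebraMap A E) := by
  let P := stdPair f a₀ hf
  let E := P.Ring
  let a : E := P.X
  have hmap : P.HasMap a := StandardEtalePair.hasMap_X
  have hfa : aeval a f = 0 := hmap.1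
  have hga : IsUnit (aeval a (hquot f a₀ * derivative f)) := hmap.2
  have hha : IsUnit (aeval a (hquot f a₀)) := by
    rw [map_mul] at hga
    exact isUnit_of_mul_isUnit_left hga
  -- `a - a₀ ∈ I E`
  have hsub : a - algebraMap A E a₀ ∈ I.map (algebraMap A E) := by
    have h2 := congrArg (aeval a) (f_eq f a₀)
    rw [hfa, map_add, map_mul, map_sub, aeval_X, aeval_C, aeval_C] at h2
    have h3 : (a - algebraMap A E a₀) * aeval a (hquot f a₀) =
        - algebraMap A E (f.eval a₀) := by
      linear_combination -h2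
    obtain ⟨w, hw⟩ := hha
    have h4 : a - algebraMap A E a₀ = - algebraMap A E (f.eval a₀) * (w⁻¹ : Eˣ) := by
      rw [← h3, ← hw, mul_assoc, Units.mul_inv, mul_one]
    rw [h4]
    exact Ideal.mul_mem_right _ _ (Ideal.neg_mem_iff _ |>.2 (Ideal.mem_map_of_mem _ h0))
  -- the retraction
  have hmap0 : P.HasMap (Ideal.Quotient.mk I a₀) := by
    constructor
    · change aeval (Ideal.Quotient.mk I a₀) f = 0
      have : aeval (Ideal.Quotient.mk I a₀) f = Ideal.Quotient.mk I (f.eval a₀) := by
        rw [← Ideal.Quotient.algebraMap_eq]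
        exact Polynomial.aeval_algebraMap_apply_eq_algebraMap_eval a₀ f
      rw [this]
      exact Ideal.Quotient.eq_zero_iff_mem.2 h0
    · change IsUnit (aeval (Ideal.Quotient.mk I a₀) (hquot f a₀ * derivative f))
      have : aeval (Ideal.Quotient.mk I a₀) (hquot f a₀ * derivative f) =
          Ideal.Quotient.mk I ((hquot f a₀ * derivative f).eval a₀) := by
        rw [← Ideal.Quotient.algebraMap_eq]
        exact Polynomial.aeval_algebraMap_apply_eq_algebraMap_eval a₀ _
      rw [this, eval_mul, hquot_eval, map_mul]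
      exact h1.mul h1
  let ρ : E →ₐ[A] A ⧸ I := P.lift _ hmap0
  -- the quotient
  let K : Ideal E := I.map (algebraMap A E)
  let θ : A ⧸ I →ₐ[A] E ⧸ K := Ideal.Quotient.liftₐ I (Algebra.ofId A (E ⧸ K)) (by
    intro x hx
    change algebraMap A (E ⧸ K) x = 0
    rw [IsScalarTower.algebraMap_apply A E (E ⧸ K), Ideal.Quotient.algebraMap_eq,
      Ideal.Quotient.eq_zero_iff_mem]
    exact Ideal.mem_map_of_mem _ hx)
  have hπ : (Ideal.Quotient.mkₐ A K : E →ₐ[A] E ⧸ K) = θ.comp ρ := by
    apply StandardEtalePair.hom_ext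
    change Ideal.Quotient.mk K a = θ (ρ P.X)
    have : ρ P.X = Ideal.Quotient.mk I a₀ := P.lift_X _ hmap0
    rw [this]
    change _ = algebraMap A (E ⧸ K) a₀
    rw [IsScalarTower.algebraMap_apply A E (E ⧸ K), Ideal.Quotient.algebraMap_eq,
      Ideal.Quotient.eq]
    exact hsub
  refine ⟨E, inferInstance, inferInstance, ?_, a, hfa, hsub⟩
  refine IsNbhd.of_retr ρ ?_
  intro y
  obtain ⟨r, hr⟩ := Ideal.Quotient.mk_surjective (ρ y)
  refine ⟨r, ?_⟩
  have h5 := DFunLike.congr_fun hπ y
  rw [AlgHom.comp_apply, ← hr] at h5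
  change Ideal.Quotient.mk K y = algebraMap A (E ⧸ K) r at h5
  rw [IsScalarTower.algebraMap_apply A E (E ⧸ K), Ideal.Quotient.algebraMap_eq,
    Ideal.Quotient.eq] at h5
  exact h5

end std

end Groth.Agent.Helper26.PH
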