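import Mathlib
import Groth.Prelude.Def_Hens2
import Groth.Agent.Lib.Helper1.HPEtale
import Groth.Agent.Lib.Helper1.HPFinEt

/-!
# Henselization of a pair along an étale extension with trivial reduction (helper26)
-/

set_option autoImplicit false

namespace Groth.Agent.Helper26.PairHens1

open TensorProduct

universe u

section ext

variable (R : Type u) [CommRing R] (I : Ideal R) (S : Type u) [CommRing S] [Algebra R S]
  [Algebra.Etale R S]
  (hq : Function.Bijective
    (Ideal.quotientMap (I.map (algebraMap R S)) (algebraMap R S) Ideal.le_comap_map))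
  (C : Type u) [CommRing C] (J : Ideal C) [HenselianRing C J] [Algebra R C]
  (hf : I.map (algebraMap R C) ≤ J)

omit [Algebra.Etale R S] [HenselianRing C J] in
include hq hf in
/-- reductions of `R`-algebra maps `S → C` are all equal -/
theorem mk_eq_of_algHom (s₁ s₂ : S →ₐ[R] C) (x : S) :
    Ideal.Quotient.mk J (s₁ x) = Ideal.Quotient.mk J (s₂ x) := by
  obtain ⟨rbar, hr⟩ := hq.2 (Ideal.Quotient.mk _ x)
  obtain ⟨r, rfl⟩ := Ideal.Quotient.mk_surjective rbar
  rw [Ideal.quotientMap_mk, Ideal.Quotient.eq] at hr
  have key : ∀ s : S →ₐ[R] C, Ideal.Quotient.mk J (s x) =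
      Ideal.Quotient.mk J (algebraMap R C r) := by
    intro s
    have h1 : s (algebraMap R S r - x) ∈ J := by
      apply hf
      have h2 : (I.map (algebraMap R S)).map (s : S →+* C) = I.map (algebraMap R C) := by
        rw [Ideal.map_map]
        congr 1
        ext a
        simp
      rw [← h2]
      exact Ideal.mem_map_of_mem _ hr
    rw [map_sub, AlgHom.commutes] at h1
    rw [eq_comm, Ideal.Quotient.eq]
    exact h1
  rw [key s₁, key s₂]

include hq hf in
theorem existsUnique_algHom : ∃! _s : S →ₐ[R] C, True := by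
  have hG : Groth.Agent.Helper1.GabberProp C J := Groth.Agent.Helper1.gabberProp_of_henselianRing
  -- the reduction map
  let e : (R ⧸ I) ≃+* (S ⧸ I.map (algebraMap R S)) := RingEquiv.ofBijective _ hq
  let fbar : R ⧸ I →+* C ⧸ J :=
    Ideal.quotientMap J (algebraMap R C) (Ideal.map_le_iff_le_comap.1 hf)
  let g₀ : S →+* C ⧸ J :=
    fbar.comp ((e.symm : (S ⧸ I.map (algebraMap R S)) →+* (R ⧸ I)).comp (Ideal.Quotient.mk _))
  have hg₀ : ∀ r : R, g₀ (algebraMap R S r) = algebraMap R (C ⧸ J) r := by
    intro r
    have h1 : (Ideal.Quotient.mk (I.map (algebraMap R S))) (algebraMap R S r) =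
        e (Ideal.Quotient.mk I r) := by
      change _ = Ideal.quotientMap (I.map (algebraMap R S)) (algebraMap R S) Ideal.le_comap_map
        (Ideal.Quotient.mk I r)
      rw [Ideal.quotientMap_mk]
    change fbar (e.symm ((Ideal.Quotient.mk _) (algebraMap R S r))) = _
    rw [h1, RingEquiv.symm_apply_apply]
    change Ideal.quotientMap J (algebraMap R C) (Ideal.map_le_iff_le_comap.1 hf)
      (Ideal.Quotient.mk I r) = _
    rw [Ideal.quotientMap_mk]
    rfl
  let g₀' : S →ₐ[R] C ⧸ J := { g₀ with commutes' := hg₀ }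
  let σ : C ⊗[R] S →ₐ[C] C ⧸ J :=
    Algebra.TensorProduct.lift (Algebra.ofId C (C ⧸ J)) g₀' (fun _ _ => Commute.all _ _)
  obtain ⟨τ, -⟩ := Groth.Agent.Helper1.exists_algHom_lift_of_etale hG (C ⊗[R] S) σ
  refine ⟨(τ.restrictScalars R).comp Algebra.TensorProduct.includeRight, trivial, ?_⟩
  intro s₂ _
  -- uniqueness
  have huniq : ∀ s₁ s₂ : S →ₐ[R] C, s₁ = s₂ := by
    intro s₁ s₂
    let τ₁ : C ⊗[R] S →ₐ[C] C :=
      Algebra.TensorProduct.lift (AlgHom.id C C) s₁ (fun _ _ => Commute.all _ _)
    let τ₂ : C ⊗[R] S →ₐ[C] C :=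
      Algebra.TensorProduct.lift (AlgHom.id C C) s₂ (fun _ _ => Commute.all _ _)
    have hint : Algebra.IsIntegral C C := Algebra.IsIntegral.of_finite C C
    have hτ : τ₁ = τ₂ := by
      apply Groth.Agent.Helper1.algHom_ext_of_unramified_of_le_jacobson (I := J)
        (HenselianRing.jac)
      intro z
      have hmap : J.map (algebraMap C C) = J := by
        rw [Algebra.algebraMap_self]; exact Ideal.map_id J
      rw [hmap, ← Ideal.Quotient.eq]
      have hcomp : (Ideal.Quotient.mkₐ C J).comp τ₁ = (Ideal.Quotient.mkₐ C J).comp τ₂ := by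
        apply Algebra.TensorProduct.ext'
        intro c x
        simp only [τ₁, τ₂, AlgHom.comp_apply, Algebra.TensorProduct.lift_tmul, AlgHom.id_apply,
          map_mul, Ideal.Quotient.mkₐ_eq_mk]
        rw [mk_eq_of_algHom R I S hq C J hf s₁ s₂ x]
      exact DFunLike.congr_fun hcomp z
    apply AlgHom.ext
    intro x
    have := DFunLike.congr_fun hτ ((1 : C) ⊗ₜ[R] x)
    simpa [τ₁, τ₂] using this
  exact huniq _ _

end ext

theorem main (R : Type u) [CommRing R] (I : Ideal R)
    (S : Type u) [CommRing S] [Algebra R S] [Algebra.Etale R S]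
    (hq : Function.Bijective
      (Ideal.quotientMap (I.map (algebraMap R S)) (algebraMap R S) Ideal.le_comap_map))
    (H : Type u) [CommRing H] [Algebra S H] [Algebra R H] [IsScalarTower R S H]
    (hH : Hens2.IsPairHenselization S (I.map (algebraMap R S)) H) :
    Hens2.IsPairHenselization R I H := by
  obtain ⟨hH1, hH2⟩ := hH
  refine ⟨?_, ?_⟩
  · have : I.map (algebraMap R H) = (I.map (algebraMap R S)).map (algebraMap S H) := by
      rw [Ideal.map_map, ← IsScalarTower.algebraMap_eq]
    rw [this]
    exact hH1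
  · intro C _ J f hC hfJ
    let _ : Algebra R C := f.toAlgebra
    have hfJ' : I.map (algebraMap R C) ≤ J := hfJ
    obtain ⟨s, -, hs⟩ := existsUnique_algHom R I S hq C J hfJ'
    have hsJ : (I.map (algebraMap R S)).map (s : S →+* C) ≤ J := by
      have h2 : (I.map (algebraMap R S)).map (s : S →+* C) = I.map (algebraMap R C) := by
        rw [Ideal.map_map]
        congr 1
        ext a
        simp
      rw [h2]
      exact hfJ'
    obtain ⟨g, hg, hguniq⟩ := hH2 C J (s : S →+* C) hC hsJ
    refine ⟨g, ?_, ?_⟩
    · ext r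
      rw [RingHom.comp_apply, IsScalarTower.algebraMap_apply R S H]
      have h1 := RingHom.congr_fun hg (algebraMap R S r)
      rw [RingHom.comp_apply] at h1
      rw [h1]
      exact s.commutes r
    · intro g' hg'
      apply hguniq
      let s' : S →ₐ[R] C :=
        { g'.comp (algebraMap S H) with
          commutes' := by
            intro r
            have h1 := RingHom.congr_fun hg' r
            rw [RingHom.comp_apply, IsScalarTower.algebraMap_apply R S H] at h1
            exact h1 }
      have h2 : s' = s := hs s' trivial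
      rw [← h2]
      rfl

end Groth.Agent.Helper26.PairHens1
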