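import Mathlib
import Groth.Prelude.Def_Hens2
import Groth.Agent.Lib.Helper26.PHColim1
import Groth.Agent.Lib.Helper26.PHStd
import Groth.Agent.Lib.Helper26.PairHens1

/-!
# The colimit of the étale neighbourhoods is a henselization of the pair (helper26)
-/

set_option autoImplicit false

open TensorProduct Polynomial

namespace Groth.Agent.Helper26.PH

universe u

section poly

variable {T : Type*} [CommRing T]

/-- monic polynomial with prescribed lower coefficients -/
noncomputable def mpoly (n : ℕ) (c : Fin n → T) : T[X] :=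
  X ^ n + ∑ i : Fin n, C (c i) * X ^ (i : ℕ)

theorem mpoly_monic (n : ℕ) (c : Fin n → T) : (mpoly n c).Monic :=
  monic_X_pow_add (degree_sum_fin_lt c)

theorem mpoly_map {T' : Type*} [CommRing T'] (φ : T →+* T') (n : ℕ) (c : Fin n → T) :
    (mpoly n c).map φ = mpoly n (fun i => φ (c i)) := by
  simp [mpoly, Polynomial.map_sum]

theorem exists_eq_mpoly {p : T[X]} (hp : p.Monic) :
    ∃ (n : ℕ) (c : Fin n → T), p = mpoly n c := by
  refine ⟨p.natDegree, fun i => p.coeff i, ?_⟩
  have h := hp.as_sum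
  have h2 : ∑ i : Fin p.natDegree, C (p.coeff i) * X ^ (i : ℕ) =
      ∑ i ∈ Finset.range p.natDegree, C (p.coeff i) * X ^ i :=
    Fin.sum_univ_eq_sum_range (fun i => C (p.coeff i) * X ^ i) p.natDegree
  show p = X ^ p.natDegree + ∑ i : Fin p.natDegree, C (p.coeff i) * X ^ (i : ℕ)
  rw [h2]
  exact h

theorem map_eval' {B : Type*} [CommRing B] (φ : T →+* B) (p : T[X]) (x : T) :
    φ (p.eval x) = (p.map φ).eval (φ x) := by
  rw [Polynomial.eval_map, Polynomial.eval₂_at_apply]

theorem map_derivative_eval' {B : Type*} [CommRing B] (φ : T →+* B) (p : T[X]) (x : T) :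
    φ (p.derivative.eval x) = (p.map φ).derivative.eval (φ x) := by
  rw [Polynomial.derivative_map, ← map_eval']

end poly

section ideals

variable {R : Type u} [CommRing R] (J : Ideal R)

/-- algebra maps carry `J A` into `J A'` -/
theorem map_map_algHom {A A' : Type*} [CommRing A] [Algebra R A] [CommRing A'] [Algebra R A']
    (f : A →ₐ[R] A') :
    (J.map (algebraMap R A)).map (f : A →+* A') = J.map (algebraMap R A') := by
  rw [Ideal.map_map]
  congr 1
  exact f.comp_algebraMap

theorem mem_map_algHom {A A' : Type*} [CommRing A] [Algebra R A] [CommRing A'] [Algebra R A']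
    (f : A →ₐ[R] A') {x : A} (hx : x ∈ J.map (algebraMap R A)) :
    f x ∈ J.map (algebraMap R A') := by
  rw [← map_map_algHom J f]
  exact Ideal.mem_map_of_mem _ hx

theorem isUnit_mk_of_mul_sub_one_mem {A : Type*} [CommRing A] (I : Ideal A) (a w : A)
    (h : a * w - 1 ∈ I) : IsUnit (Ideal.Quotient.mk I a) := by
  refine isUnit_iff_exists_inv.2 ⟨Ideal.Quotient.mk I w, ?_⟩
  rw [← map_mul, ← map_one (Ideal.Quotient.mk I), Ideal.Quotient.eq]
  exact h

theorem exists_mul_sub_one_mem_of_isUnit_mk {A : Type*} [CommRing A] (I : Ideal A) (a : A)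
    (h : IsUnit (Ideal.Quotient.mk I a)) : ∃ w, a * w - 1 ∈ I := by
  obtain ⟨v, hv⟩ := h
  obtain ⟨w, hw⟩ := Ideal.Quotient.mk_surjective ((v⁻¹ : (A ⧸ I)ˣ) : A ⧸ I)
  refine ⟨w, ?_⟩
  rw [← Ideal.Quotient.eq, map_mul, hw, ← hv, map_one]
  exact v.mul_inv

end ideals

variable (R : Type u) [CommRing R] (J : Ideal R)

theorem exists_join (i j : Idx R J) :
    ∃ (k : Idx R J) (_ : i.ring →ₐ[R] k.ring) (_ : j.ring →ₐ[R] k.ring), True := by
  obtain ⟨k, ⟨e⟩⟩ := exists_idx (i.ring ⊗[R] j.ring) (i.isNbhd.tensor j.isNbhd)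
  exact ⟨k, e.toAlgHom.comp Algebra.TensorProduct.includeLeft,
    e.toAlgHom.comp Algebra.TensorProduct.includeRight, trivial⟩

theorem ιA_comp_apply {i j : Idx R J} (f : i.ring →ₐ[R] j.ring) (x : i.ring) :
    ιA R J j (f x) = ιA R J i x := DFunLike.congr_fun (ιA_comp R J f) x

/-- finite families of elements of the colimit come from a single stage -/
theorem exists_rep_fin : ∀ (n : ℕ) (b : Fin n → Colim R J),
    ∃ (i : Idx R J) (x : Fin n → i.ring), ∀ l, ιA R J i (x l) = b l := by
  intro n
  induction n with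
  | zero => intro b; exact ⟨idx₀ R J, Fin.elim0, fun l => Fin.elim0 l⟩
  | succ n ih =>
    intro b
    obtain ⟨i, x, hx⟩ := ih (fun l => b l.succ)
    obtain ⟨j, y, hy⟩ := ιA_rep R J (b 0)
    obtain ⟨k, f, g, -⟩ := exists_join R J i j
    refine ⟨k, Fin.cons (g y) (fun l => f (x l)), ?_⟩
    intro l
    refine Fin.cases ?_ ?_ l
    · rw [Fin.cons_zero, ιA_comp_apply, hy]
    · intro l
      rw [Fin.cons_succ, ιA_comp_apply, hx]

/-- the ideal of elements represented by an element of `J A_i` -/
def repIdeal : Ideal (Colim R J) where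
  carrier := {b | ∃ (i : Idx R J) (x : i.ring), ιA R J i x = b ∧ x ∈ J.map (algebraMap R i.ring)}
  zero_mem' := ⟨idx₀ R J, 0, map_zero _, Ideal.zero_mem _⟩
  add_mem' := by
    rintro _ _ ⟨i, x, rfl, hx⟩ ⟨j, y, rfl, hy⟩
    obtain ⟨k, f, g, -⟩ := exists_join R J i j
    refine ⟨k, f x + g y, ?_, Ideal.add_mem _ (mem_map_algHom J f hx) (mem_map_algHom J g hy)⟩
    rw [map_add, ιA_comp_apply, ιA_comp_apply]
  smul_mem' := by
    rintro c _ ⟨i, x, rfl, hx⟩
    obtain ⟨j, y, rfl⟩ := ιA_rep R J c
    obtain ⟨k, f, g, -⟩ := exists_join R J i j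
    refine ⟨k, g y * f x, ?_, Ideal.mul_mem_left _ _ (mem_map_algHom J f hx)⟩
    rw [map_mul, ιA_comp_apply, ιA_comp_apply, smul_eq_mul]

theorem map_le_repIdeal : J.map (algebraMap R (Colim R J)) ≤ repIdeal R J := by
  rw [Ideal.map_le_iff_le_comap]
  intro r hr
  refine ⟨idx₀ R J, algebraMap R _ r, ?_, Ideal.mem_map_of_mem _ hr⟩
  exact (ιA R J (idx₀ R J)).commutes r

theorem repIdeal_le : repIdeal R J ≤ J.map (algebraMap R (Colim R J)) := by
  rintro _ ⟨i, x, rfl, hx⟩
  exact mem_map_algHom J (ιA R J i) hx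

/-- membership of `J B` descends to a finite stage -/
theorem exists_mem_of_ιA_mem {i : Idx R J} (x : i.ring)
    (hx : ιA R J i x ∈ J.map (algebraMap R (Colim R J))) :
    ∃ (k : Idx R J) (f : i.ring →ₐ[R] k.ring), f x ∈ J.map (algebraMap R k.ring) := by
  obtain ⟨j, y, hy, hyJ⟩ := map_le_repIdeal R J hx
  obtain ⟨k, f, g, hfg⟩ := (ιA_eq_iff R J x y).1 hy.symm
  exact ⟨k, f, hfg ▸ mem_map_algHom J g hyJ⟩

theorem exists_mem_of_ιA_mem₂ {i : Idx R J} (x y : i.ring)
    (hx : ιA R J i x ∈ J.map (algebraMap R (Colim R J)))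
    (hy : ιA R J i y ∈ J.map (algebraMap R (Colim R J))) :
    ∃ (k : Idx R J) (f : i.ring →ₐ[R] k.ring), f x ∈ J.map (algebraMap R k.ring) ∧
      f y ∈ J.map (algebraMap R k.ring) := by
  obtain ⟨k₁, f₁, h₁⟩ := exists_mem_of_ιA_mem R J x hx
  have hy' : ιA R J k₁ (f₁ y) ∈ J.map (algebraMap R (Colim R J)) := by
    rw [ιA_comp_apply]; exact hy
  obtain ⟨k₂, f₂, h₂⟩ := exists_mem_of_ιA_mem R J (f₁ y) hy'
  exact ⟨k₂, f₂.comp f₁, mem_map_algHom J f₂ h₁, h₂⟩

/-- the Jacobson condition -/
theorem colim_jac : J.map (algebraMap R (Colim R J)) ≤ Ideal.jacobson ⊥ := by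
  have key : ∀ b ∈ repIdeal R J, IsUnit (b + 1) := by
    rintro _ ⟨i, x, rfl, hx⟩
    have hN : IsNbhd R J (Localization.Away (x + 1)) :=
      i.isNbhd.away (x + 1) (by simpa using hx)
    obtain ⟨k, ⟨e⟩⟩ := exists_idx _ hN
    let f : i.ring →ₐ[R] k.ring :=
      e.toAlgHom.comp (IsScalarTower.toAlgHom R i.ring (Localization.Away (x + 1)))
    have hu : IsUnit (f (x + 1)) := by
      have : IsUnit (algebraMap i.ring (Localization.Away (x + 1)) (x + 1)) :=
        IsLocalization.Away.algebraMap_isUnit (x + 1)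
      exact this.map e
    have := hu.map (ιA R J k)
    rwa [ιA_comp_apply, map_add, map_one] at this
  intro b hb
  rw [Ideal.mem_jacobson_bot]
  intro y
  exact key _ (Ideal.mul_mem_right _ _ (map_le_repIdeal R J hb))

/-- the core Hensel step at a finite stage -/
theorem colim_hensel_core (k : Idx R J) (f : k.ring[X]) (hf : f.Monic) (a₀ : k.ring)
    (h0 : f.eval a₀ ∈ J.map (algebraMap R k.ring))
    (h1 : IsUnit (Ideal.Quotient.mk (J.map (algebraMap R k.ring)) (f.derivative.eval a₀))) :
    ∃ b : Colim R J, (f.map (ιA R J k : k.ring →+* Colim R J)).IsRoot b ∧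
      b - ιA R J k a₀ ∈ J.map (algebraMap R (Colim R J)) := by
  obtain ⟨E, _, _, hE, a, ha, haJ⟩ := exists_std hf h0 h1
  let _ : Algebra R E := ((algebraMap k.ring E).comp (algebraMap R k.ring)).toAlgebra
  have hst : @IsScalarTower R k.ring E Algebra.toSMul Algebra.toSMul Algebra.toSMul :=
    IsScalarTower.of_algebraMap_eq (fun _ => rfl)
  have hN : IsNbhd R J E := k.isNbhd.comp hE
  obtain ⟨k', ⟨e⟩⟩ := exists_idx E hN
  let g : k.ring →ₐ[R] k'.ring := e.toAlgHom.comp (IsScalarTower.toAlgHom R k.ring E)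
  refine ⟨ιA R J k' (e a), ?_, ?_⟩
  · have h2 : (f.map (ιA R J k : k.ring →+* Colim R J)) =
        (f.map (g : k.ring →+* k'.ring)).map (ιA R J k' : k'.ring →+* Colim R J) := by
      rw [Polynomial.map_map]
      congr 1
      exact RingHom.ext fun x => (ιA_comp_apply R J g x).symm
    rw [Polynomial.IsRoot, h2]
    change ((f.map (g : k.ring →+* k'.ring)).map (ιA R J k' : k'.ring →+* Colim R J)).eval
      ((ιA R J k' : k'.ring →+* Colim R J) (e a)) = 0
    rw [← map_eval']
    have h3 : (f.map (g : k.ring →+* k'.ring)).eval (e a) = e (aeval a f) := by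
      rw [Polynomial.aeval_def, Polynomial.eval_map]
      have : (g : k.ring →+* k'.ring) = (e : E →+* k'.ring).comp (algebraMap k.ring E) := rfl
      rw [this]
      exact (Polynomial.hom_eval₂ f (algebraMap k.ring E) (e : E →+* k'.ring) a).symm
    rw [h3, ha, map_zero, map_zero]
  · have h4 : ιA R J k' (e a) - ιA R J k a₀ =
        ιA R J k' (e (a - algebraMap k.ring E a₀)) := by
      rw [map_sub, map_sub]
      congr 1
      exact (ιA_comp_apply R J g a₀).symm
    rw [h4]
    apply mem_map_algHom J (ιA R J k')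
    apply mem_map_algHom J e.toAlgHom
    have h5 : (J.map (algebraMap R k.ring)).map (algebraMap k.ring E) =
        J.map (algebraMap R E) := by
      rw [Ideal.map_map, ← IsScalarTower.algebraMap_eq]
    rw [← h5]
    exact haJ

theorem colim_henselian : HenselianRing (Colim R J) (J.map (algebraMap R (Colim R J))) where
  jac := colim_jac R J
  is_henselian := by
    intro f hf a₀ h0 h1
    obtain ⟨n, c, rfl⟩ := exists_eq_mpoly hf
    obtain ⟨w, hw⟩ : ∃ w, (mpoly n c).derivative.eval a₀ * w - 1 ∈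
        J.map (algebraMap R (Colim R J)) := by
      exact exists_mul_sub_one_mem_of_isUnit_mk _ _ h1
    let b : Fin (n + 2) → Colim R J := Fin.cons a₀ (Fin.cons w c)
    obtain ⟨i, x, hx⟩ := exists_rep_fin R J (n + 2) b
    have hxa : ιA R J i (x 0) = a₀ := by
      have := hx 0
      simpa [b] using this
    have hxw : ιA R J i (x (Fin.succ 0)) = w := by
      have := hx (Fin.succ 0)
      rw [this]
      simp only [b, Fin.cons_succ, Fin.cons_zero]
    have hxc : ∀ l : Fin n, ιA R J i (x l.succ.succ) = c l := by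
      intro l
      have := hx l.succ.succ
      rw [this]
      simp only [b, Fin.cons_succ]
    let f' : i.ring[X] := mpoly n (fun l => x l.succ.succ)
    have hmap : f'.map (ιA R J i : i.ring →+* Colim R J) = mpoly n c := by
      rw [mpoly_map]
      congr 1
      funext l
      exact hxc l
    have hz₁ : ιA R J i (f'.eval (x 0)) ∈ J.map (algebraMap R (Colim R J)) := by
      have := map_eval' (ιA R J i : i.ring →+* Colim R J) f' (x 0)
      rw [hmap] at this
      change ιA R J i (f'.eval (x 0)) = _ at this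
      rw [this]
      change (mpoly n c).eval (ιA R J i (x 0)) ∈ _
      rw [hxa]
      exact h0
    have hz₂ : ιA R J i (f'.derivative.eval (x 0) * x (Fin.succ 0) - 1) ∈
        J.map (algebraMap R (Colim R J)) := by
      have := map_derivative_eval' (ιA R J i : i.ring →+* Colim R J) f' (x 0)
      rw [hmap] at this
      change ιA R J i (f'.derivative.eval (x 0)) = _ at this
      rw [map_sub, map_mul, map_one, this, hxw]
      change (mpoly n c).derivative.eval (ιA R J i (x 0)) * w - 1 ∈ _
      rw [hxa]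
      exact hw
    obtain ⟨k, g, hg1, hg2⟩ := exists_mem_of_ιA_mem₂ R J _ _ hz₁ hz₂
    have hf'' : (f'.map (g : i.ring →+* k.ring)).Monic := (mpoly_monic n _).map _
    have h0' : (f'.map (g : i.ring →+* k.ring)).eval (g (x 0)) ∈ J.map (algebraMap R k.ring) := by
      have := map_eval' (g : i.ring →+* k.ring) f' (x 0)
      change g (f'.eval (x 0)) = (f'.map (g : i.ring →+* k.ring)).eval (g (x 0)) at this
      rw [← this]
      exact hg1
    have h1' : IsUnit (Ideal.Quotient.mk (J.map (algebraMap R k.ring))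
        ((f'.map (g : i.ring →+* k.ring)).derivative.eval (g (x 0)))) := by
      have := map_derivative_eval' (g : i.ring →+* k.ring) f' (x 0)
      change g (f'.derivative.eval (x 0)) =
        (f'.map (g : i.ring →+* k.ring)).derivative.eval (g (x 0)) at this
      rw [← this]
      refine isUnit_mk_of_mul_sub_one_mem _ _ (g (x (Fin.succ 0))) ?_
      rw [← map_mul]
      have h3 : g (f'.derivative.eval (x 0) * x (Fin.succ 0)) - 1 =
          g (f'.derivative.eval (x 0) * x (Fin.succ 0) - 1) := by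
        rw [map_sub, map_one]
      rw [h3]
      exact hg2
    obtain ⟨r, hr1, hr2⟩ := colim_hensel_core R J k _ hf'' (g (x 0)) h0' h1'
    refine ⟨r, ?_, ?_⟩
    · have h4 : (f'.map (g : i.ring →+* k.ring)).map (ιA R J k : k.ring →+* Colim R J) =
          mpoly n c := by
        rw [Polynomial.map_map, ← hmap]
        congr 1
        exact RingHom.ext fun y => ιA_comp_apply R J g y
      rw [h4] at hr1
      exact hr1
    · rw [ιA_comp_apply, hxa] at hr2
      exact hr2

theorem colim_universal (C : Type u) [CommRing C] (K : Ideal C) (φ : R →+* C)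
    (hC : HenselianRing C K) (hφ : J.map φ ≤ K) :
    ∃! g : Colim R J →+* C, g.comp (algebraMap R (Colim R J)) = φ := by
  let _ : Algebra R C := φ.toAlgebra
  have hφ' : J.map (algebraMap R C) ≤ K := hφ
  have hex : ∀ i : Idx R J, ∃! _s : i.ring →ₐ[R] C, True := fun i => by
    have := i.isNbhd.etale
    exact PairHens1.existsUnique_algHom R J i.ring i.isNbhd.bij C K hφ'
  let τ : ∀ i : Idx R J, i.ring →ₐ[R] C := fun i => (hex i).choose
  have hτ_unique : ∀ i (s : i.ring →ₐ[R] C), s = τ i :=
    fun i s => (hex i).choose_spec.2 s trivial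
  obtain ⟨g, hg⟩ := ιA_desc R J C τ (fun i j f => hτ_unique i _)
  refine ⟨g, ?_, ?_⟩
  · exact RingHom.ext fun r => g.commutes r
  · intro g' hg'
    let g'' : Colim R J →ₐ[R] C := { g' with commutes' := fun r => RingHom.congr_fun hg' r }
    apply RingHom.ext
    intro b
    obtain ⟨i, x, rfl⟩ := ιA_rep R J b
    have h1 : g''.comp (ιA R J i) = τ i := hτ_unique i _
    have h2 := hg i
    exact (DFunLike.congr_fun h1 x).trans (DFunLike.congr_fun h2 x).symm

/-- existence of the henselization of a pair -/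
theorem colim_isPairHenselization : Hens2.IsPairHenselization R J (Colim R J) :=
  ⟨colim_henselian R J, fun C _ K φ hC hφ => colim_universal R J C K φ hC hφ⟩

end Groth.Agent.Helper26.PH
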