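import Mathlib
import Groth.Agent.Lib.Helper26.PHColim2

/-!
# The subalgebra of elements coming from étale algebras (helper26)
-/

set_option autoImplicit false
set_option linter.unusedSectionVars false
set_option linter.style.haveILetI false

open TensorProduct Polynomial

namespace Groth.Agent.Helper26.EtSub

universe u

variable (R : Type u) [CommRing R] (T : Type u) [CommRing T] [Algebra R T]

/-- `x` lies in the image of an étale `R`-algebra -/
def IsEt (x : T) : Prop :=
  ∃ (C : Type u) (_ : CommRing C) (_ : Algebra R C) (_ : Algebra.Etale R C) (φ : C →ₐ[R] T) (c : C),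
    φ c = x

variable {R T}

theorem isEt_algebraMap (r : R) : IsEt R T (algebraMap R T r) :=
  ⟨R, inferInstance, inferInstance, inferInstance, Algebra.ofId R T, r, rfl⟩

/-- finitely many such elements come from a common étale algebra -/
theorem exists_common : ∀ (n : ℕ) (x : Fin n → T), (∀ i, IsEt R T (x i)) →
    ∃ (C : Type u) (_ : CommRing C) (_ : Algebra R C) (_ : Algebra.Etale R C) (φ : C →ₐ[R] T)
      (c : Fin n → C), ∀ i, φ (c i) = x i := by
  intro n
  induction n with
  | zero =>
    intro x _
    exact ⟨R, inferInstance, inferInstance, inferInstance, Algebra.ofId R T, fun i => i.elim0,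
      fun i => i.elim0⟩
  | succ n ih =>
    intro x hx
    obtain ⟨C₁, _, _, _, φ₁, c₁, hc₁⟩ := ih (fun i => x i.succ) (fun i => hx i.succ)
    obtain ⟨C₂, _, _, _, φ₂, c₂, hc₂⟩ := hx 0
    haveI : Algebra.Etale C₁ (C₁ ⊗[R] C₂) := inferInstance
    haveI : Algebra.Etale R (C₁ ⊗[R] C₂) := Algebra.Etale.comp R C₁ (C₁ ⊗[R] C₂)
    refine ⟨C₁ ⊗[R] C₂, inferInstance, inferInstance, inferInstance,
      Algebra.TensorProduct.productMap φ₁ φ₂,
      Fin.cons ((1 : C₁) ⊗ₜ[R] c₂) (fun i => c₁ i ⊗ₜ[R] (1 : C₂)), ?_⟩
    intro i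
    refine Fin.cases ?_ (fun j => ?_) i
    · rw [Fin.cons_zero, Algebra.TensorProduct.productMap_right_apply, hc₂]
    · rw [Fin.cons_succ, Algebra.TensorProduct.productMap_left_apply, hc₁]

theorem IsEt.add {x y : T} (hx : IsEt R T x) (hy : IsEt R T y) : IsEt R T (x + y) := by
  obtain ⟨C, _, _, _, φ, c, hc⟩ := exists_common 2 ![x, y] (by
    intro i
    fin_cases i
    · exact hx
    · exact hy)
  refine ⟨C, inferInstance, inferInstance, inferInstance, φ, c 0 + c 1, ?_⟩
  rw [map_add, hc 0, hc 1]
  rfl

theorem IsEt.mul {x y : T} (hx : IsEt R T x) (hy : IsEt R T y) : IsEt R T (x * y) := by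
  obtain ⟨C, _, _, _, φ, c, hc⟩ := exists_common 2 ![x, y] (by
    intro i
    fin_cases i
    · exact hx
    · exact hy)
  refine ⟨C, inferInstance, inferInstance, inferInstance, φ, c 0 * c 1, ?_⟩
  rw [map_mul, hc 0, hc 1]
  rfl

/-- inverses of units -/
theorem IsEt.inv {x y : T} (hx : IsEt R T x) (hxy : x * y = 1) : IsEt R T y := by
  obtain ⟨C, _, _, _, φ, c, rfl⟩ := hx
  have hu : IsUnit (φ c) := IsUnit.of_mul_eq_one _ hxy
  let C' := Localization.Away c
  haveI : Algebra.Etale C C' := Algebra.Etale.of_isLocalizationAway c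
  haveI : Algebra.Etale R C' := Algebra.Etale.comp R C C'
  let φ' : C' →+* T := IsLocalization.Away.lift (S := C') c (g := (φ : C →+* T)) hu
  have hφ' : ∀ z : C, φ' (algebraMap C C' z) = φ z := fun z =>
    IsLocalization.Away.lift_eq c hu z
  let φA : C' →ₐ[R] T :=
    { φ' with
      commutes' := fun r => by
        change φ' (algebraMap R C' r) = _
        rw [IsScalarTower.algebraMap_apply R C C', hφ', AlgHom.commutes] }
  refine ⟨C', inferInstance, inferInstance, inferInstance, φA, IsLocalization.Away.invSelf c, ?_⟩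
  have h1 : φ c * φA (IsLocalization.Away.invSelf c) = 1 := by
    have : φA (algebraMap C C' c) = φ c := hφ' c
    rw [← this, ← map_mul, IsLocalization.Away.mul_invSelf, map_one]
  calc φA (IsLocalization.Away.invSelf c) = (y * φ c) * φA (IsLocalization.Away.invSelf c) := by
        rw [mul_comm y, hxy, one_mul]
    _ = y := by rw [mul_assoc, h1, mul_one]

/-- simple roots of monic polynomials -/
theorem IsEt.root (n : ℕ) (x : Fin n → T) (hx : ∀ i, IsEt R T (x i)) (a : T)
    (ha : (PH.mpoly n x).IsRoot a) (hu : IsUnit ((PH.mpoly n x).derivative.eval a)) :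
    IsEt R T a := by
  obtain ⟨C, _, _, _, φ, c, hc⟩ := exists_common n x hx
  let F : C[X] := PH.mpoly n c
  have hFmap : F.map (φ : C →+* T) = PH.mpoly n x := by
    rw [PH.mpoly_map]
    congr 1
    funext i
    exact hc i
  let P : StandardEtalePair C :=
    { f := F
      monic_f := PH.mpoly_monic n c
      g := derivative F
      cond := ⟨1, 0, 1, by ring⟩ }
  letI : Algebra C T := (φ : C →+* T).toAlgebra
  haveI : IsScalarTower R C T := IsScalarTower.of_algebraMap_eq (fun r => (φ.commutes r).symm)
  have haeval : ∀ p : C[X], aeval a p = (p.map (φ : C →+* T)).eval a := by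
    intro p
    rw [Polynomial.aeval_def, Polynomial.eval_map]
    rfl
  have hmap : P.HasMap a := by
    refine ⟨?_, ?_⟩
    · change aeval a F = 0
      rw [haeval, hFmap]
      exact ha
    · change IsUnit (aeval a (derivative F))
      rw [haeval, ← Polynomial.derivative_map, hFmap]
      exact hu
  letI : Algebra R P.Ring := ((algebraMap C P.Ring).comp (algebraMap R C)).toAlgebra
  haveI : IsScalarTower R C P.Ring := IsScalarTower.of_algebraMap_eq (fun r => rfl)
  haveI : Algebra.Etale R P.Ring := Algebra.Etale.comp R C P.Ring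
  refine ⟨P.Ring, inferInstance, inferInstance, inferInstance,
    (P.lift a hmap).restrictScalars R, P.X, ?_⟩
  exact P.lift_X a hmap

variable (R T)

/-- the subalgebra of étale elements -/
def sub : Subalgebra R T where
  carrier := {x | IsEt R T x}
  mul_mem' := fun hx hy => hx.mul hy
  add_mem' := fun hx hy => hx.add hy
  algebraMap_mem' := fun r => isEt_algebraMap r

variable {R T}

theorem mem_sub {x : T} : x ∈ sub R T ↔ IsEt R T x := Iff.rfl

end Groth.Agent.Helper26.EtSub
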