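import Mathlib
import Groth.Agent.Lib.Helper26.EtSub1

/-!
# The subalgebra of étale elements of a henselian local algebra is henselian local (helper26)
-/

set_option autoImplicit false
set_option linter.unusedSectionVars false
set_option linter.style.haveILetI false

open TensorProduct Polynomial IsLocalRing

namespace Groth.Agent.Helper26.EtSub

universe u

variable {R : Type u} [CommRing R] {T : Type u} [CommRing T] [Algebra R T]

theorem isUnit_of_isUnit_coe (x : sub R T) (hx : IsUnit (x : T)) : IsUnit x := by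
  obtain ⟨y, hy⟩ := hx.exists_right_inv
  have hyE : IsEt R T y := IsEt.inv x.2 hy
  refine IsUnit.of_mul_eq_one (⟨y, hyE⟩ : sub R T) ?_
  apply Subtype.ext
  exact hy

variable [HenselianLocalRing T]

instance : IsLocalRing (sub R T) := by
  haveI : Nontrivial (sub R T) := ⟨⟨0, 1, fun h => zero_ne_one (α := T) (congrArg Subtype.val h)⟩⟩
  apply IsLocalRing.of_isUnit_or_isUnit_one_sub_self
  intro a
  rcases IsLocalRing.isUnit_or_isUnit_one_sub_self (a : T) with h | h
  · exact Or.inl (isUnit_of_isUnit_coe a h)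
  · exact Or.inr (isUnit_of_isUnit_coe (1 - a) h)

theorem isUnit_iff (x : sub R T) : IsUnit x ↔ IsUnit (x : T) :=
  ⟨fun h => h.map (sub R T).val, isUnit_of_isUnit_coe x⟩

theorem mem_maximalIdeal_iff (x : sub R T) :
    x ∈ maximalIdeal (sub R T) ↔ (x : T) ∈ maximalIdeal T := by
  rw [IsLocalRing.mem_maximalIdeal, IsLocalRing.mem_maximalIdeal, mem_nonunits_iff,
    mem_nonunits_iff, isUnit_iff]

instance : IsLocalHom (algebraMap (sub R T) T) := by
  constructor
  intro x hx
  exact isUnit_of_isUnit_coe x hx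

theorem isUnit_eval_of_sub_mem (p : T[X]) (a b : T) (hab : a - b ∈ maximalIdeal T)
    (hb : IsUnit (p.eval b)) : IsUnit (p.eval a) := by
  by_contra h
  have h1 : p.eval a ∈ maximalIdeal T := (IsLocalRing.mem_maximalIdeal _).2 h
  have h2 : p.eval a - p.eval b ∈ maximalIdeal T := by
    obtain ⟨c, hc⟩ := Polynomial.sub_dvd_eval_sub a b p
    rw [hc]
    exact Ideal.mul_mem_right _ _ hab
  have h3 : p.eval b ∈ maximalIdeal T := by
    have : p.eval b = p.eval a - (p.eval a - p.eval b) := by ring
    rw [this]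
    exact Ideal.sub_mem _ h1 h2
  exact (IsLocalRing.mem_maximalIdeal _).1 h3 hb

instance : HenselianLocalRing (sub R T) where
  is_henselian := by
    intro f hf a₀ h0 h1
    obtain ⟨n, c, rfl⟩ := PH.exists_eq_mpoly hf
    let ι : sub R T →+* T := algebraMap (sub R T) T
    have hF : (PH.mpoly n c).map ι = PH.mpoly n (fun i => (c i : T)) := PH.mpoly_map ι n c
    have h0' : (PH.mpoly n (fun i => (c i : T))).eval (a₀ : T) ∈ maximalIdeal T := by
      rw [← hF]
      have := PH.map_eval' ι (PH.mpoly n c) a₀
      change ((PH.mpoly n c).map ι).eval (ι a₀) ∈ _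
      rw [← this]
      exact (mem_maximalIdeal_iff _).1 h0
    have h1' : IsUnit ((PH.mpoly n (fun i => (c i : T))).derivative.eval (a₀ : T)) := by
      rw [← hF]
      have := PH.map_derivative_eval' ι (PH.mpoly n c) a₀
      change IsUnit (((PH.mpoly n c).map ι).derivative.eval (ι a₀))
      rw [← this]
      exact h1.map ι
    obtain ⟨a, ha, haa₀⟩ := HenselianLocalRing.is_henselian
      (PH.mpoly n (fun i => (c i : T))) (PH.mpoly_monic n _) (a₀ : T) h0' h1'
    have hu : IsUnit ((PH.mpoly n (fun i => (c i : T))).derivative.eval a) :=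
      isUnit_eval_of_sub_mem _ a a₀ haa₀ h1'
    have haE : IsEt R T a := IsEt.root n (fun i => (c i : T)) (fun i => (c i).2) a ha hu
    refine ⟨⟨a, haE⟩, ?_, ?_⟩
    · change (PH.mpoly n c).eval (⟨a, haE⟩ : sub R T) = 0
      apply Subtype.val_injective
      have := PH.map_eval' ι (PH.mpoly n c) (⟨a, haE⟩ : sub R T)
      change ι ((PH.mpoly n c).eval (⟨a, haE⟩ : sub R T)) = 0
      rw [this, hF]
      exact ha
    · rw [mem_maximalIdeal_iff]
      exact haa₀

end Groth.Agent.Helper26.EtSub
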