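import Mathlib
import Groth.Prelude.Def_Hensel
import Groth.Agent.Lib.Helper26.EtSub2

/-!
# Every element of a strict henselization comes from an étale algebra (helper26)
-/

set_option autoImplicit false
set_option linter.unusedSectionVars false
set_option linter.style.haveILetI false

namespace Groth.Agent.Helper26.SHIndEt

universe u
open IsLocalRing Polynomial

variable (R : Type u) [CommRing R] [IsLocalRing R]
  (Rsh : Type u) [CommRing Rsh] [IsLocalRing Rsh] [Algebra R Rsh] [IsLocalHom (algebraMap R Rsh)]
  [Hensel.IsStrictHenselization R Rsh]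

/-- every residue class of the strict henselization is represented by an étale element -/
theorem exists_isEt_residue (α : ResidueField Rsh) :
    ∃ a : Rsh, EtSub.IsEt R Rsh a ∧ residue Rsh a = α := by
  haveI : HenselianLocalRing Rsh := Hensel.IsStrictHenselization.henselian (R := R)
  haveI hsc : IsSepClosure (ResidueField R) (ResidueField Rsh) :=
    Hensel.IsStrictHenselization.isSepClosure
  haveI : Algebra.IsSeparable (ResidueField R) (ResidueField Rsh) := hsc.separable
  have hsep : (minpoly (ResidueField R) α).Separable := Algebra.IsSeparable.isSeparable _ α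
  have hint : IsIntegral (ResidueField R) α := Algebra.IsSeparable.isIntegral _ α
  have hmonic : (minpoly (ResidueField R) α).Monic := minpoly.monic hint
  obtain ⟨n, cbar, hcbar⟩ := PH.exists_eq_mpoly hmonic
  choose c hc using fun i => residue_surjective (cbar i)
  let x : Fin n → Rsh := fun i => algebraMap R Rsh (c i)
  have hx : ∀ i, EtSub.IsEt R Rsh (x i) := fun i => EtSub.isEt_algebraMap (c i)
  -- the reduction of `mpoly n x`
  have hred : (PH.mpoly n x).map (residue Rsh) =
      (minpoly (ResidueField R) α).map (algebraMap (ResidueField R) (ResidueField Rsh)) := by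
    rw [hcbar, PH.mpoly_map, PH.mpoly_map]
    congr 1
    funext i
    rw [← hc i]
    rfl
  obtain ⟨a₀, ha₀⟩ := residue_surjective α
  have h0 : (PH.mpoly n x).eval a₀ ∈ maximalIdeal Rsh := by
    rw [← residue_eq_zero_iff, ← Polynomial.eval₂_hom, ← Polynomial.eval_map, hred, ha₀,
      Polynomial.eval_map, ← Polynomial.aeval_def]
    exact minpoly.aeval _ α
  have h1 : IsUnit ((PH.mpoly n x).derivative.eval a₀) := by
    have : IsUnit (residue Rsh ((PH.mpoly n x).derivative.eval a₀)) := by
      rw [← Polynomial.eval₂_hom, ← Polynomial.eval_map, ← Polynomial.derivative_map, hred, ha₀,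
        Polynomial.derivative_map, Polynomial.eval_map, ← Polynomial.aeval_def, isUnit_iff_ne_zero]
      exact hsep.aeval_derivative_ne_zero (minpoly.aeval _ α)
    exact isUnit_of_map_unit (residue Rsh) _ this
  obtain ⟨a, ha, haa₀⟩ := HenselianLocalRing.is_henselian (PH.mpoly n x) (PH.mpoly_monic n x) a₀ h0 h1
  have h1' : IsUnit ((PH.mpoly n x).derivative.eval a) :=
    EtSub.isUnit_eval_of_sub_mem _ a a₀ haa₀ h1
  refine ⟨a, EtSub.IsEt.root n x hx a ha h1', ?_⟩
  rw [← ha₀, ← sub_eq_zero, ← map_sub, residue_eq_zero_iff]
  exact haa₀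

/-- every element of a strict henselization comes from an étale algebra -/
theorem isEt (x : Rsh) : EtSub.IsEt R Rsh x := by
  haveI : HenselianLocalRing Rsh := Hensel.IsStrictHenselization.henselian (R := R)
  let T' := EtSub.sub R Rsh
  let ι : T' →+* Rsh := algebraMap T' Rsh
  have hι : ∀ y : T', ι y = (y : Rsh) := fun _ => rfl
  haveI hιloc : IsLocalHom ι := inferInstanceAs (IsLocalHom (algebraMap T' Rsh))
  let f : R →+* T' := algebraMap R T'
  have hιf : ∀ r : R, ι (f r) = algebraMap R Rsh r := fun _ => rfl
  haveI hfloc : IsLocalHom f := by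
    constructor
    intro r hr
    have h1 : IsUnit (ι (f r)) := hr.map ι
    rw [hιf] at h1
    exact isUnit_of_map_unit (algebraMap R Rsh) r h1
  -- the residue field map of `ι` is bijective
  let κι : ResidueField T' →+* ResidueField Rsh := ResidueField.map ι
  have hκι : ∀ y : T', κι (residue T' y) = residue Rsh (y : Rsh) := fun _ => rfl
  have hbij : Function.Bijective κι := by
    refine ⟨RingHom.injective _, ?_⟩
    intro α
    obtain ⟨a, ha, hα⟩ := exists_isEt_residue R Rsh α
    exact ⟨residue T' ⟨a, ha⟩, by rw [hκι]; exact hα⟩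
  let e : ResidueField T' ≃+* ResidueField Rsh := RingEquiv.ofBijective κι hbij
  have he : ∀ y : T', e (residue T' y) = residue Rsh (y : Rsh) := fun _ => rfl
  let τ : ResidueField Rsh →+* ResidueField T' := (e.symm : ResidueField Rsh →+* ResidueField T')
  have hτ : τ.comp (ResidueField.map (algebraMap R Rsh)) = ResidueField.map f := by
    apply RingHom.ext
    intro y
    obtain ⟨r, rfl⟩ := residue_surjective y
    change e.symm (residue Rsh (algebraMap R Rsh r)) = residue T' (f r)
    rw [RingEquiv.symm_apply_eq, he]
    rfl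
  obtain ⟨g, ⟨hg1, hg2⟩, -⟩ := Hensel.IsStrictHenselization.universal (R := R) (S := Rsh) T' f τ hτ
  obtain ⟨i, -, hiu⟩ := Hensel.IsStrictHenselization.universal (R := R) (S := Rsh) Rsh
    (algebraMap R Rsh) (RingHom.id _) (RingHom.id_comp _)
  have e1 : ι.comp g = i := by
    apply hiu
    refine ⟨?_, ?_⟩
    · rw [RingHom.comp_assoc, hg1]
      rfl
    · intro z
      change residue Rsh (ι (g z)) = residue Rsh z
      have h3 : residue Rsh (ι (g z)) = e (residue T' (g z)) := rfl
      rw [h3, hg2 z]
      exact e.apply_symm_apply _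
  have e2 : RingHom.id Rsh = i := by
    apply hiu
    exact ⟨rfl, fun _ => rfl⟩
  have e3 : ι (g x) = x := DFunLike.congr_fun (e1.trans e2.symm) x
  rw [← e3]
  exact (g x).2

end Groth.Agent.Helper26.SHIndEt
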