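import Mathlib
import Groth.Prelude.Def_Twist2
import Groth.Prelude.Def_Curv2
import Groth.Agent.Lib.Helper28.TwistTensor

/-!
# The twisting sheaves on projective space `CohB1.ProjSpace n R`
-/

set_option autoImplicit false
set_option linter.unusedSectionVars false
set_option linter.style.haveILetI false
universe u
open CategoryTheory CategoryTheory.Limits AlgebraicGeometry Opposite TopologicalSpace

namespace Groth.Agent.Helper26.PnTwist

variable (n : ℕ) (R : Type u) [CommRing R]

/-- projective space is covered by the `D_+(X_i)`. -/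
theorem hcov (x : Proj (CohB1.polyGrading n R)) :
    ∃ f ∈ CohB1.polyGrading n R 1, f ∉ x.asHomogeneousIdeal := by
  by_contra hcon
  push Not at hcon
  apply x.not_irrelevant_le
  rw [HomogeneousIdeal.irrelevant_le]
  intro i hi p hp
  have hp' : p ∈ MvPolynomial.homogeneousSubmodule (Fin (n + 1)) R i := hp
  rw [MvPolynomial.mem_homogeneousSubmodule] at hp'
  have hX : ∀ j : Fin (n + 1), (MvPolynomial.X j : MvPolynomial (Fin (n + 1)) R) ∈
      x.asHomogeneousIdeal.toIdeal := by
    intro j
    apply hcon
    change MvPolynomial.X j ∈ MvPolynomial.homogeneousSubmodule (Fin (n + 1)) R 1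
    rw [MvPolynomial.mem_homogeneousSubmodule]
    exact MvPolynomial.isHomogeneous_X R j
  have hspan : Ideal.span ((MvPolynomial.X : Fin (n + 1) → MvPolynomial (Fin (n + 1)) R) ''
      Set.univ) ≤ x.asHomogeneousIdeal.toIdeal := by
    rw [Ideal.span_le]
    rintro _ ⟨j, -, rfl⟩
    exact hX j
  apply hspan
  rw [MvPolynomial.mem_ideal_span_X_image]
  intro m hm
  by_contra hall
  push Not at hall
  have hm0 : m = 0 := by
    ext j
    simpa using hall j (Set.mem_univ j)
  have hc : MvPolynomial.coeff m p ≠ 0 := MvPolynomial.mem_support_iff.1 hm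
  have hdeg := hp' hc
  rw [hm0] at hdeg
  simp at hdeg
  omega

theorem isInvertible_twist (d : ℤ) : PicF.IsInvertible (Twist.twistProjSpace n R d) :=
  (Groth.Agent.Helper28.TwistMul.twist_all_of_degree_one (CohB1.polyGrading n R)
    (hcov n R)).1 d

theorem twist_tensor_iso (a b : ℤ) :
    Nonempty (CohB1.tensorMod (Twist.twistProjSpace n R a) (Twist.twistProjSpace n R b) ≅
      Twist.twistProjSpace n R (a + b)) :=
  (Groth.Agent.Helper28.TwistMul.twist_all_of_degree_one (CohB1.polyGrading n R)
    (hcov n R)).2.1 a b

end Groth.Agent.Helper26.PnTwist
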