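import Mathlib
import Groth.Prelude.Def_Coh
import Groth.Prelude.Def_Canon
import Groth.Agent.Lib.Helper13.ToAbExact

set_option autoImplicit false
set_option linter.unusedSectionVars false
set_option linter.unusedVariables false
universe u
open CategoryTheory CategoryTheory.Limits AlgebraicGeometry Opposite TopologicalSpace

namespace Groth.Agent.Helper26.PnFin

section Alg

variable {R : Type*} [CommRing R] [IsNoetherianRing R]
  {A B C : Type*} [AddCommGroup A] [AddCommGroup B] [AddCommGroup C]
  [Module R A] [Module R B] [Module R C]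

/-- the middle term of an exact sequence of modules over a Noetherian ring with finite outer
terms is finite. -/
theorem finite_of_exact (f : A →ₗ[R] B) (g : B →ₗ[R] C)
    (hex : ∀ b, g b = 0 → ∃ a, f a = b) [Module.Finite R A] [Module.Finite R C] :
    Module.Finite R B := by
  have : IsNoetherian R A := isNoetherian_of_isNoetherianRing_of_finite R A
  have : IsNoetherian R C := isNoetherian_of_isNoetherianRing_of_finite R C
  rw [Module.finite_def]
  apply Submodule.fg_of_fg_map_of_fg_inf_ker g
  · exact IsNoetherian.noetherian _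
  · rw [top_inf_eq]
    have h1 : LinearMap.ker g = Submodule.map f (Submodule.comap f (LinearMap.ker g)) := by
      rw [Submodule.map_comap_eq]
      apply le_antisymm
      · intro b hb
        refine ⟨?_, hb⟩
        obtain ⟨a, ha⟩ := hex b hb
        exact ⟨a, ha⟩
      · exact inf_le_right
    rw [h1]
    exact Submodule.FG.map f (IsNoetherian.noetherian _)

end Alg

section Delta

variable (A : Type u) [CommRing A] {X : Scheme.{u}} [X.Over (Spec (CommRingCat.of A))]

open Groth.Agent.Helper13.ToAbExact Abelian

theorem comp_extClass_natural {C : Type*} [Category C] [Abelian C] [HasExt C]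
    {S : ShortComplex C} (hS : S.ShortExact) (f : S ⟶ S) {Z : C} {i : ℕ} (x : Ext Z S.X₃ i) :
    (x.comp (Ext.mk₀ f.τ₃) (add_zero i)).comp hS.extClass rfl =
      (x.comp hS.extClass rfl).comp (Ext.mk₀ f.τ₁) (add_zero (i + 1)) := by
  have hnat := ShortComplex.ShortExact.extClass_naturality hS hS f
  rw [Ext.comp_assoc_of_second_deg_zero, Ext.comp_assoc_of_third_deg_zero, hnat]

/-- the connecting homomorphism commutes with multiplication by global functions. -/
theorem delta_smulAb (S : ShortComplex X.Modules) (hS : S.ShortExact) (i : ℕ) (c : Coh.Γtop X)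
    (x : Coh.HH X S.X₃ i) :
    (Sheaf.H.map (Coh.smulAb S.X₃ c) i x).comp (toAb_shortExact S hS).extClass rfl =
      Sheaf.H.map (Coh.smulAb S.X₁ c) (i + 1)
        (x.comp (toAb_shortExact S hS).extClass rfl) := by
  let f : S.map (toAbF X) ⟶ S.map (toAbF X) :=
    { τ₁ := Coh.smulAb S.X₁ c
      τ₂ := Coh.smulAb S.X₂ c
      τ₃ := Coh.smulAb S.X₃ c
      comm₁₂ := (Canon.toSheaf_map_comp_smulAb S.f c).symm
      comm₂₃ := (Canon.toSheaf_map_comp_smulAb S.g c).symm }
  exact comp_extClass_natural (toAb_shortExact S hS) f x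

/-- the connecting homomorphism, as a linear map. -/
noncomputable def deltaLin (S : ShortComplex X.Modules) (hS : S.ShortExact) (i : ℕ) :
    Coh.HH X S.X₃ i →ₗ[A] Coh.HH X S.X₁ (i + 1) where
  toFun x := x.comp (toAb_shortExact S hS).extClass rfl
  map_add' x y := Ext.add_comp _ _ _ _
  map_smul' a x := delta_smulAb S hS i (Coh.toGlobal (X ↘ Spec (CommRingCat.of A)) a) x

theorem deltaLin_exact (S : ShortComplex X.Modules) (hS : S.ShortExact) (i : ℕ)
    (x : Coh.HH X S.X₃ i) (hx : deltaLin A S hS i x = 0) :
    ∃ y : Coh.HH X S.X₂ i, Canon.HHlin A S.g i y = x :=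
  Ext.covariant_sequence_exact₃ _ (toAb_shortExact S hS) x rfl hx

/-- finiteness passes from the middle term and the next cohomology of the kernel to the
quotient. -/
theorem finite_HH_X₃ [IsNoetherianRing A] (S : ShortComplex X.Modules) (hS : S.ShortExact)
    (i : ℕ) [Module.Finite A (Coh.HH X S.X₂ i)] [Module.Finite A (Coh.HH X S.X₁ (i + 1))] :
    Module.Finite A (Coh.HH X S.X₃ i) :=
  finite_of_exact (Canon.HHlin A S.g i) (deltaLin A S hS i) (deltaLin_exact A S hS i)

end Delta

end Groth.Agent.Helper26.PnFin
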