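import Mathlib
import Groth.Prelude.Def_CohTop
import Groth.Agent.Lib.Helper13.CechAcyc

universe u
set_option linter.unusedSectionVars false
set_option linter.unusedVariables false
set_option autoImplicit false
open CategoryTheory CategoryTheory.Limits Opposite TopologicalSpace

namespace Groth.Agent.Helper26.PnCoh

open Groth.Agent.Helper24.CechEv Groth.Agent.Helper13.CechAcyc

section Abstract

variable {X : TopCat.{u}} {ι : Type u} (V : ι → Opens X) (P : (Opens X)ᵒᵖ ⥤ AddCommGrpCat.{u})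
  {Λ : Type*} [AddCommGroup Λ] (W : Opens X) (ρ : P.obj (op W) →+ Λ)

/-- expansion of a section over a larger open. -/
noncomputable def th (T : Opens X) (hT : W ≤ T) : P.obj (op T) →+ Λ :=
  ρ.comp (P.map (homOfLE hT).op).hom

theorem th_res {T T' : Opens X} (hT : W ≤ T') (hTT : T' ≤ T) (m : P.obj (op T)) :
    th P W ρ T' hT ((P.map (homOfLE hTT).op).hom m) = th P W ρ T (hT.trans hTT) m := by
  unfold th
  simp only [AddMonoidHom.comp_apply]
  congr 1
  rw [← ConcreteCategory.comp_apply, ← P.map_comp]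
  rfl

variable [Fintype ι] (Pk : ι → Λ →+ Λ) (hW : ∀ k, W ≤ V k)

include hW in
theorem W_le_Va {n : ℕ} (a : Fin (n + 1) → ι) : W ≤ Va V a := le_Va V a (fun k => hW (a k))

include hW in
theorem W_le_inf {n : ℕ} (k : ι) (a : Fin (n + 1) → ι) : W ≤ V k ⊓ Va V a :=
  le_inf (hW k) (W_le_Va V W hW a)

/-- the abstract contracting homotopy argument. -/
theorem exists_primitive_of_expansion (n : ℕ)
    (Ha : ∀ (a : Fin (n + 1) → ι) (k : ι) (m : P.obj (op (V k ⊓ Va V a))),
      ∃ m' : P.obj (op (Va V a)), th P W ρ (Va V a) (W_le_Va V W hW a) m' =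
        Pk k (th P W ρ (V k ⊓ Va V a) (W_le_inf V W hW k a) m))
    (Hb1 : ∀ b : Fin (n + 2) → ι, Function.Injective (th P W ρ (Va V b) (W_le_Va V W hW b)))
    (Hb2 : ∀ (b : Fin (n + 2) → ι) (m : P.obj (op (Va V b))),
      ∑ k, Pk k (th P W ρ (Va V b) (W_le_Va V W hW b) m) =
        th P W ρ (Va V b) (W_le_Va V W hW b) m)
    (s : (cech V P).X (n + 1)) (hs : ((cech V P).d (n + 1) (n + 2)).hom s = 0) :
    ∃ t : (cech V P).X n, ((cech V P).d n (n + 1)).hom t = s := by
  classical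
  have hWc : ∀ (k : ι) (a : Fin (n + 1) → ι) j,
      V k ⊓ Va V a ≤ V ((Fin.cons k a : Fin (n + 2) → ι) j) := fun k a =>
    cons_le V k a inf_le_left (fun j => inf_le_right.trans (Va_le V a j))
  let tk : ∀ (k : ι) (a : Fin (n + 1) → ι), P.obj (op (V k ⊓ Va V a)) := fun k a =>
    evT V P (V k ⊓ Va V a) (Fin.cons k a) (hWc k a) s
  choose m' hm' using fun (ka : ι × (Fin (n + 1) → ι)) => Ha ka.2 ka.1 (tk ka.1 ka.2)
  obtain ⟨t, ht⟩ := exists_cochain V P (fun a => ∑ k, m' (k, a))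
  refine ⟨t, ext_cochain V P _ _ fun b => ?_⟩
  apply Hb1 b
  rw [evT_d, map_sum]
  have key : ∀ j : Fin (n + 2),
      th P W ρ (Va V b) (W_le_Va V W hW b)
        (evT V P (Va V b) (b ∘ (SimplexCategory.δ j).toOrderHom) (fun k => Va_le V b _) t) =
      ∑ k, Pk k (th P W ρ (V k ⊓ Va V b) (W_le_inf V W hW k b)
        (evT V P (V k ⊓ Va V b) (Fin.cons k (b ∘ (SimplexCategory.δ j).toOrderHom))
          (cons_le V k _ inf_le_left (fun i => inf_le_right.trans (Va_le V b _))) s)) := by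
    intro j
    have hle : Va V b ≤ Va V (b ∘ (SimplexCategory.δ j).toOrderHom) :=
      le_Va V _ (fun i => Va_le V b _)
    have e1 := evT_res V P hle (b ∘ (SimplexCategory.δ j).toOrderHom) (Va_le V _) t
    rw [← e1, ht, th_res, map_sum]
    refine Finset.sum_congr rfl fun k _ => ?_
    rw [hm' (k, b ∘ (SimplexCategory.δ j).toOrderHom)]
    congr 1
    have hle2 : V k ⊓ Va V b ≤ V k ⊓ Va V (b ∘ (SimplexCategory.δ j).toOrderHom) :=
      inf_le_inf_left _ hle
    have e2 := evT_res V P hle2 (Fin.cons k (b ∘ (SimplexCategory.δ j).toOrderHom))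
      (hWc k _) s
    rw [← e2, th_res]
  have key2 : ∀ k : ι,
      th P W ρ (V k ⊓ Va V b) (W_le_inf V W hW k b)
        (evT V P (V k ⊓ Va V b) b (fun j => inf_le_right.trans (Va_le V b j)) s) =
      th P W ρ (Va V b) (W_le_Va V W hW b) (evT V P (Va V b) b (Va_le V b) s) := by
    intro k
    have e3 := evT_res V P (inf_le_right : V k ⊓ Va V b ≤ Va V b) b (Va_le V b) s
    rw [← e3, th_res]
  rw [← Hb2 b (evT V P (Va V b) b (Va_le V b) s)]
  simp only [map_zsmul, key, Finset.smul_sum]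
  rw [Finset.sum_comm]
  refine Finset.sum_congr rfl fun k _ => ?_
  rw [← key2 k, cocycle_cons V P s hs k b (V k ⊓ Va V b) inf_le_left
    (fun j => inf_le_right.trans (Va_le V b j)), map_sum, map_sum]
  refine Finset.sum_congr rfl fun j _ => ?_
  rw [map_zsmul, map_zsmul]


theorem isZero_cechH_succ (n : ℕ)
    (Ha : ∀ (a : Fin (n + 1) → ι) (k : ι) (m : P.obj (op (V k ⊓ Va V a))),
      ∃ m' : P.obj (op (Va V a)), th P W ρ (Va V a) (W_le_Va V W hW a) m' =
        Pk k (th P W ρ (V k ⊓ Va V a) (W_le_inf V W hW k a) m))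
    (Hb1 : ∀ b : Fin (n + 2) → ι, Function.Injective (th P W ρ (Va V b) (W_le_Va V W hW b)))
    (Hb2 : ∀ (b : Fin (n + 2) → ι) (m : P.obj (op (Va V b))),
      ∑ k, Pk k (th P W ρ (Va V b) (W_le_Va V W hW b) m) =
        th P W ρ (Va V b) (W_le_Va V W hW b) m) :
    IsZero (CohTop.cechH P V (n + 1)) := by
  show IsZero ((cech V P).homology (n + 1))
  rw [← HomologicalComplex.exactAt_iff_isZero_homology,
    HomologicalComplex.exactAt_iff' (cech V P) n (n + 1) (n + 2) (by simp) (by simp),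
    ShortComplex.ab_exact_iff]
  intro x hx
  exact exists_primitive_of_expansion V P W ρ Pk hW n Ha Hb1 Hb2 x hx

lemma cocycle_cons0 (s : (cech V P).X 0) (hs : ((cech V P).d 0 1).hom s = 0)
    (k : ι) (b : Fin 1 → ι) (T : Opens X) (hk : T ≤ V k) (hb : ∀ j, T ≤ V (b j)) :
    evT V P T b hb s = evT V P T (fun _ => k) (fun _ => hk) s := by
  have h1 := evT_d V P T (Fin.cons k b : Fin 2 → ι) (cons_le V k b hk hb) s
  rw [hs, map_zero, Fin.sum_univ_two] at h1
  have h2 : evT V P T ((Fin.cons k b : Fin 2 → ι) ∘ (SimplexCategory.δ (0 : Fin 2)).toOrderHom)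
      (fun i => cons_le V k b hk hb _) s = evT V P T b hb s :=
    evT_congr V P T (cons_comp_δ_zero k b) _ _ s
  have h3 : evT V P T ((Fin.cons k b : Fin 2 → ι) ∘ (SimplexCategory.δ (1 : Fin 2)).toOrderHom)
      (fun i => cons_le V k b hk hb _) s = evT V P T (fun _ => k) (fun _ => hk) s := by
    refine evT_congr V P T ?_ _ _ s
    funext i
    fin_cases i
    rfl
  rw [h2, h3] at h1
  simp only [Fin.val_zero, pow_zero, one_smul, Fin.val_one, pow_one, neg_smul] at h1
  exact (sub_eq_zero.1 (by rw [sub_eq_add_neg]; exact h1.symm))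

theorem eq_zero_of_expansion
    (Ha0 : ∀ (k : ι) (m : P.obj (op (V k))), Pk k (th P W ρ (V k) (hW k) m) = 0)
    (Hb1 : ∀ b : Fin 1 → ι, Function.Injective (th P W ρ (Va V b) (W_le_Va V W hW b)))
    (Hb2 : ∀ (b : Fin 1 → ι) (m : P.obj (op (Va V b))),
      ∑ k, Pk k (th P W ρ (Va V b) (W_le_Va V W hW b) m) =
        th P W ρ (Va V b) (W_le_Va V W hW b) m)
    (s : (cech V P).X 0) (hs : ((cech V P).d 0 1).hom s = 0) : s = 0 := by
  refine ext_cochain V P _ _ fun b => ?_
  apply Hb1 b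
  rw [map_zero, map_zero, ← Hb2 b]
  refine Finset.sum_eq_zero fun k _ => ?_
  have e3 := evT_res V P (inf_le_right : V k ⊓ Va V b ≤ Va V b) b (Va_le V b) s
  have e4 := evT_res V P (inf_le_left : V k ⊓ Va V b ≤ V k) (fun _ : Fin 1 => k)
    (fun _ => le_rfl) s
  have e5 := cocycle_cons0 V P s hs k b (V k ⊓ Va V b) inf_le_left
    (fun j => inf_le_right.trans (Va_le V b j))
  have e6 : th P W ρ (Va V b) (W_le_Va V W hW b) (evT V P (Va V b) b (Va_le V b) s) =
      th P W ρ (V k) (hW k) (evT V P (V k) (fun _ : Fin 1 => k) (fun _ => le_rfl) s) := by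
    rw [← th_res P W ρ (W_le_inf V W hW k b) inf_le_right, e3, e5, ← e4, th_res]
  rw [e6, Ha0]

theorem isZero_cechH_zero
    (Ha0 : ∀ (k : ι) (m : P.obj (op (V k))), Pk k (th P W ρ (V k) (hW k) m) = 0)
    (Hb1 : ∀ b : Fin 1 → ι, Function.Injective (th P W ρ (Va V b) (W_le_Va V W hW b)))
    (Hb2 : ∀ (b : Fin 1 → ι) (m : P.obj (op (Va V b))),
      ∑ k, Pk k (th P W ρ (Va V b) (W_le_Va V W hW b) m) =
        th P W ρ (Va V b) (W_le_Va V W hW b) m) :
    IsZero (CohTop.cechH P V 0) := by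
  show IsZero ((cech V P).homology 0)
  rw [← HomologicalComplex.exactAt_iff_isZero_homology,
    HomologicalComplex.exactAt_iff' (cech V P) 0 0 1 (by simp) (by simp),
    ShortComplex.ab_exact_iff]
  intro x hx
  refine ⟨0, ?_⟩
  rw [map_zero]
  exact (eq_zero_of_expansion V P W ρ Pk hW Ha0 Hb1 Hb2 x hx).symm

end Abstract

end Groth.Agent.Helper26.PnCoh
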