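import Mathlib

set_option autoImplicit false
set_option linter.unusedSectionVars false
set_option linter.unusedVariables false
universe u
open Finsupp

namespace Groth.Agent.Helper26.PnCoh

section Laurent
variable (n : ℕ) (R : Type u) [CommRing R]

/-- exponent vectors of Laurent monomials. -/
abbrev E := Fin (n + 1) →₀ ℤ

/-- the additive group of Laurent polynomials. -/
abbrev Lam := E n →₀ R

variable {n}

/-- natural exponents as integer exponents. -/
noncomputable def castE : (Fin (n + 1) →₀ ℕ) →+ E n := Finsupp.mapRange.addMonoidHom (Nat.castAddMonoidHom ℤ)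

theorem castE_apply (μ : Fin (n + 1) →₀ ℕ) (i : Fin (n + 1)) : castE μ i = (μ i : ℤ) := rfl

theorem castE_injective : Function.Injective (castE (n := n)) := by
  intro μ ν h
  ext i
  have := DFunLike.congr_fun h i
  rw [castE_apply, castE_apply] at this
  exact_mod_cast this

variable {R}

/-- the Laurent polynomial `b · x^v`. -/
noncomputable def sh (v : E n) (b : MvPolynomial (Fin (n + 1)) R) : Lam n R :=
  Finsupp.mapDomain (fun μ : Fin (n + 1) →₀ ℕ => castE μ + v) (AddMonoidAlgebra.coeff b)

theorem sh_add (v : E n) (b b' : MvPolynomial (Fin (n + 1)) R) :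
    sh v (b + b') = sh v b + sh v b' := by
  unfold sh
  rw [AddMonoidAlgebra.coeff_add, Finsupp.mapDomain_add]

theorem sh_zero (v : E n) : sh v (0 : MvPolynomial (Fin (n + 1)) R) = 0 := by
  unfold sh
  rw [AddMonoidAlgebra.coeff_zero, Finsupp.mapDomain_zero]

theorem sh_monomial (v : E n) (μ : Fin (n + 1) →₀ ℕ) (r : R) :
    sh v (MvPolynomial.monomial μ r) = Finsupp.single (castE μ + v) r := by
  unfold sh
  have : AddMonoidAlgebra.coeff (MvPolynomial.monomial μ r) = Finsupp.single μ r := rfl
  rw [this, Finsupp.mapDomain_single]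

theorem sh_injective (v : E n) : Function.Injective (sh (R := R) v) := by
  intro b b' h
  apply AddMonoidAlgebra.coeff_injective
  refine Finsupp.mapDomain_injective ?_ h
  intro μ ν h
  exact castE_injective (add_right_cancel h)

theorem sh_mul_monomial (v : E n) (b : MvPolynomial (Fin (n + 1)) R) (ν : Fin (n + 1) →₀ ℕ) :
    sh v (b * MvPolynomial.monomial ν 1) = sh (v + castE ν) b := by
  induction b using MvPolynomial.induction_on' with
  | monomial μ r =>
    rw [MvPolynomial.monomial_mul, mul_one, sh_monomial, sh_monomial, map_add]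
    congr 1
    abel
  | add p q hp hq => rw [add_mul, sh_add, sh_add, hp, hq]

theorem mem_support_sh {v : E n} {b : MvPolynomial (Fin (n + 1)) R} {e : E n}
    (he : e ∈ (sh v b).support) : ∃ μ ∈ b.support, e = castE μ + v := by
  have := Finsupp.mapDomain_support (f := fun μ : Fin (n + 1) →₀ ℕ => castE μ + v)
    (s := AddMonoidAlgebra.coeff b) he
  rw [Finset.mem_image] at this
  obtain ⟨μ, hμ, rfl⟩ := this
  exact ⟨μ, hμ, rfl⟩


section Ones

/-- the `0/1` exponent vector of a set of indices. -/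
noncomputable def natOne (J : Finset (Fin (n + 1))) : Fin (n + 1) →₀ ℕ :=
  ∑ i ∈ J, Finsupp.single i 1

theorem natOne_apply (J : Finset (Fin (n + 1))) (i : Fin (n + 1)) :
    natOne J i = if i ∈ J then 1 else 0 := by
  classical
  unfold natOne
  rw [Finsupp.finsetSum_apply]
  simp only [Finsupp.single_apply]
  rw [Finset.sum_ite_eq']

theorem natOne_insert {J : Finset (Fin (n + 1))} {i : Fin (n + 1)} (hi : i ∉ J) :
    natOne (insert i J) = Finsupp.single i 1 + natOne J := by
  classical
  unfold natOne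
  rw [Finset.sum_insert hi]

theorem natOne_degree (J : Finset (Fin (n + 1))) : (natOne J).degree = J.card := by
  classical
  unfold natOne
  rw [map_sum]
  simp

/-- the integer version of `natOne`. -/
noncomputable def oneJ (J : Finset (Fin (n + 1))) : E n := castE (natOne J)

theorem oneJ_apply (J : Finset (Fin (n + 1))) (i : Fin (n + 1)) :
    oneJ J i = if i ∈ J then 1 else 0 := by
  unfold oneJ
  rw [castE_apply, natOne_apply]
  split_ifs <;> simp

theorem natOne_union_compl (J : Finset (Fin (n + 1))) :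
    natOne (Finset.univ : Finset (Fin (n + 1))) = natOne J + natOne Jᶜ := by
  ext i
  rw [Finsupp.add_apply, natOne_apply, natOne_apply, natOne_apply]
  by_cases hi : i ∈ J <;> simp [hi]

/-- the monomial `∏_{i ∈ J} X_i`. -/
noncomputable def gI (R : Type u) [CommRing R] (J : Finset (Fin (n + 1))) :
    MvPolynomial (Fin (n + 1)) R :=
  MvPolynomial.monomial (natOne J) 1

theorem gI_pow (J : Finset (Fin (n + 1))) (k : ℕ) :
    gI R J ^ k = MvPolynomial.monomial (k • natOne J) 1 := by
  unfold gI
  rw [MvPolynomial.monomial_pow, one_pow]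

theorem gI_insert {J : Finset (Fin (n + 1))} {i : Fin (n + 1)} (hi : i ∉ J) :
    gI R (insert i J) = MvPolynomial.X i * gI R J := by
  unfold gI
  rw [natOne_insert hi, MvPolynomial.X, MvPolynomial.monomial_mul, one_mul]

theorem gI_eq_prod (J : Finset (Fin (n + 1))) :
    gI R J = ∏ i ∈ J, (MvPolynomial.X i : MvPolynomial (Fin (n + 1)) R) := by
  classical
  induction J using Finset.induction_on with
  | empty =>
    unfold gI natOne
    simp
  | insert i J hi ih => rw [gI_insert hi, Finset.prod_insert hi, ih]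

theorem gI_univ_eq (J : Finset (Fin (n + 1))) :
    gI R (Finset.univ : Finset (Fin (n + 1))) = gI R J * gI R Jᶜ := by
  unfold gI
  rw [MvPolynomial.monomial_mul, one_mul, ← natOne_union_compl]

theorem gI_isHomogeneous (J : Finset (Fin (n + 1))) : (gI R J).IsHomogeneous J.card := by
  unfold gI
  apply MvPolynomial.isHomogeneous_monomial
  rw [← natOne_degree J]

end Ones


section InL

/-- Laurent polynomials of degree `d` whose negative exponents only occur at indices in `J`. -/
def InL (d : ℤ) (J : Finset (Fin (n + 1))) (l : Lam n R) : Prop :=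
  ∀ e ∈ l.support, (∑ i, e i = d) ∧ ∀ i, e i < 0 → i ∈ J

theorem sum_castE (μ : Fin (n + 1) →₀ ℕ) : ∑ i, castE μ i = (μ.degree : ℤ) := by
  rw [Finsupp.degree_eq_sum]
  push_cast
  rfl

theorem sum_oneJ (J : Finset (Fin (n + 1))) : ∑ i, oneJ J i = (J.card : ℤ) := by
  simp only [oneJ_apply]
  rw [Finset.sum_ite_mem]
  simp

theorem degree_of_mem_support {b : MvPolynomial (Fin (n + 1)) R} {j : ℕ} (hb : b.IsHomogeneous j)
    {μ : Fin (n + 1) →₀ ℕ} (hμ : μ ∈ b.support) : μ.degree = j := by
  have h1 := hb (MvPolynomial.mem_support_iff.1 hμ)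
  rw [Finsupp.degree_eq_weight_one, ← Pi.one_def]
  exact h1

theorem inL_sh {d : ℤ} {J : Finset (Fin (n + 1))} {k j : ℕ} {b : MvPolynomial (Fin (n + 1)) R}
    (hb : b.IsHomogeneous j) (hij : (j : ℤ) = ((k * J.card : ℕ) : ℤ) + d) :
    InL d J (sh (-(k • oneJ J)) b) := by
  intro e he
  obtain ⟨μ, hμ, rfl⟩ := mem_support_sh he
  have hdeg := degree_of_mem_support hb hμ
  constructor
  · simp only [Finsupp.add_apply, Finsupp.neg_apply, Finsupp.smul_apply]
    rw [Finset.sum_add_distrib, Finset.sum_neg_distrib, ← Finset.smul_sum, sum_castE, sum_oneJ,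
      hdeg, hij]
    push_cast
    simp
  · intro i hi
    simp only [Finsupp.add_apply, Finsupp.neg_apply, Finsupp.smul_apply, castE_apply,
      oneJ_apply] at hi
    by_contra hiJ
    rw [if_neg hiJ] at hi
    simp at hi
    omega

end InL


section Rep

/-- nonnegative part of an exponent vector. -/
noncomputable def toNatE : E n → (Fin (n + 1) →₀ ℕ) := Finsupp.mapRange Int.toNat (by simp)

theorem toNatE_apply (e : E n) (i : Fin (n + 1)) : toNatE e i = (e i).toNat := rfl

theorem castE_toNatE {e : E n} (he : ∀ i, 0 ≤ e i) : castE (toNatE e) = e := by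
  ext i
  rw [castE_apply, toNatE_apply, Int.toNat_of_nonneg (he i)]

theorem exists_rep {d : ℤ} {J : Finset (Fin (n + 1))} (hJ : J.Nonempty) {l : Lam n R}
    (hl : InL d J l) :
    ∃ (k j : ℕ) (b : MvPolynomial (Fin (n + 1)) R), b.IsHomogeneous j ∧
      (j : ℤ) = ((k * J.card : ℕ) : ℤ) + d ∧ sh (-(k • oneJ J)) b = l := by
  classical
  let k : ℕ := l.support.sup (fun e => Finset.univ.sup (fun i => (e i).natAbs)) + d.natAbs
  have hk : ∀ e ∈ l.support, ∀ i, (e i).natAbs ≤ k := by
    intro e he i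
    have h1 : (e i).natAbs ≤ Finset.univ.sup (fun i => (e i).natAbs) :=
      Finset.le_sup (f := fun i => (e i).natAbs) (Finset.mem_univ i)
    have h2 : Finset.univ.sup (fun i => (e i).natAbs) ≤
        l.support.sup (fun e => Finset.univ.sup (fun i => (e i).natAbs)) :=
      Finset.le_sup (f := fun e : E n => Finset.univ.sup (fun i => (e i).natAbs)) he
    omega
  have hnn : ∀ e ∈ l.support, ∀ i, 0 ≤ (e + k • oneJ J) i := by
    intro e he i
    simp only [Finsupp.add_apply, Finsupp.smul_apply, oneJ_apply]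
    by_cases hi : i ∈ J
    · rw [if_pos hi]
      have := hk e he i
      simp only [nsmul_eq_mul, mul_one]
      omega
    · rw [if_neg hi]
      have : 0 ≤ e i := by
        by_contra h
        exact hi ((hl e he).2 i (by omega))
      simpa using this
  have hjn : 0 ≤ ((k * J.card : ℕ) : ℤ) + d := by
    have h0 : 1 ≤ J.card := hJ.card_pos
    have h1 : d.natAbs ≤ k * J.card :=
      le_trans (Nat.le_add_left _ _) (Nat.le_mul_of_pos_right k h0)
    omega
  let φ : E n → (Fin (n + 1) →₀ ℕ) := fun e => toNatE (e + k • oneJ J)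
  refine ⟨k, (((k * J.card : ℕ) : ℤ) + d).toNat,
    AddMonoidAlgebra.ofCoeff (Finsupp.mapDomain φ l), ?_, ?_, ?_⟩
  · intro μ hμ
    have h1 : μ ∈ (Finsupp.mapDomain φ l).support := by
      rw [Finsupp.mem_support_iff]
      exact hμ
    obtain ⟨e, he, rfl⟩ := Finset.mem_image.1 (Finsupp.mapDomain_support h1)
    have h2 : ((φ e).degree : ℤ) = ((k * J.card : ℕ) : ℤ) + d := by
      rw [← sum_castE, castE_toNatE (hnn e he)]
      simp only [Finsupp.add_apply, Finsupp.smul_apply]
      rw [Finset.sum_add_distrib, ← Finset.smul_sum, sum_oneJ, (hl e he).1]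
      push_cast
      simp [add_comm]
    have h3 : (φ e).degree = (((k * J.card : ℕ) : ℤ) + d).toNat := by
      rw [← h2]
      simp
    rw [← h3, Finsupp.degree_eq_weight_one, ← Pi.one_def]
  · rw [Int.toNat_of_nonneg hjn]
  · unfold sh
    rw [AddMonoidAlgebra.coeff_ofCoeff, ← Finsupp.mapDomain_comp]
    conv_rhs => rw [← Finsupp.mapDomain_id (v := l)]
    apply Finsupp.mapDomain_congr
    intro e he
    simp only [Function.comp_apply, id_eq, φ]
    rw [castE_toNatE (hnn e he)]
    abel

end Rep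


section Cancel

theorem sh_cancel {b b' : MvPolynomial (Fin (n + 1)) R} {μ μ' : Fin (n + 1) →₀ ℕ}
    (h : b * MvPolynomial.monomial μ 1 = b' * MvPolynomial.monomial μ' 1) (w v v' : E n)
    (hv : v = w + castE μ) (hv' : v' = w + castE μ') : sh v b = sh v' b' := by
  rw [hv, hv', ← sh_mul_monomial, ← sh_mul_monomial, h]

theorem mul_eq_of_sh {b b' : MvPolynomial (Fin (n + 1)) R} {μ μ' : Fin (n + 1) →₀ ℕ}
    (w v v' : E n) (hv : v = w + castE μ) (hv' : v' = w + castE μ') (h : sh v b = sh v' b') :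
    b * MvPolynomial.monomial μ 1 = b' * MvPolynomial.monomial μ' 1 := by
  apply sh_injective w
  rw [sh_mul_monomial, sh_mul_monomial, ← hv, ← hv', h]

theorem castE_nsmul_natOne (k : ℕ) (J : Finset (Fin (n + 1))) :
    castE (k • natOne J) = k • oneJ J := by
  rw [map_nsmul]
  rfl


theorem mul_monomial_cancel {c c' : MvPolynomial (Fin (n + 1)) R} {ν : Fin (n + 1) →₀ ℕ}
    (h : c * MvPolynomial.monomial ν 1 = c' * MvPolynomial.monomial ν 1) : c = c' := by
  apply sh_injective (castE ν)
  have h1 := congrArg (sh (0 : E n)) h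
  rwa [sh_mul_monomial, sh_mul_monomial, zero_add] at h1

theorem sh_eq_of_mul_pow_eq {J : Finset (Fin (n + 1))} {k k' : ℕ}
    {b b' : MvPolynomial (Fin (n + 1)) R} (h : b * gI R J ^ k' = b' * gI R J ^ k) :
    sh (-(k • oneJ J)) b = sh (-(k' • oneJ J)) b' := by
  rw [gI_pow, gI_pow] at h
  refine sh_cancel h (-(k • oneJ J) - k' • oneJ J) _ _ ?_ ?_
  · rw [castE_nsmul_natOne]; abel
  · rw [castE_nsmul_natOne]; abel

theorem mul_pow_eq_of_sh_eq {J : Finset (Fin (n + 1))} {k k' : ℕ}
    {b b' : MvPolynomial (Fin (n + 1)) R} (h : sh (-(k • oneJ J)) b = sh (-(k' • oneJ J)) b') :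
    b * gI R J ^ k' = b' * gI R J ^ k := by
  rw [gI_pow, gI_pow]
  refine mul_eq_of_sh (-(k • oneJ J) - k' • oneJ J) _ _ ?_ ?_ h
  · rw [castE_nsmul_natOne]; abel
  · rw [castE_nsmul_natOne]; abel

theorem oneJ_univ_eq (J : Finset (Fin (n + 1))) :
    oneJ (Finset.univ : Finset (Fin (n + 1))) = oneJ J + oneJ Jᶜ := by
  unfold oneJ
  rw [natOne_union_compl J, map_add]

theorem sh_mul_gI_compl_pow (J : Finset (Fin (n + 1))) (k : ℕ)
    (b : MvPolynomial (Fin (n + 1)) R) :
    sh (-(k • oneJ (Finset.univ : Finset (Fin (n + 1))))) (b * gI R Jᶜ ^ k) =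
      sh (-(k • oneJ J)) b := by
  rw [gI_pow, sh_mul_monomial, castE_nsmul_natOne, oneJ_univ_eq J]
  congr 1
  rw [smul_add]
  abel

end Cancel

section Proj

/-- `v` is the least index at which `e` is nonnegative. -/
def isLnn (e : E n) (v : Fin (n + 1)) : Prop := 0 ≤ e v ∧ ∀ j < v, e j < 0

theorem isLnn_unique {e : E n} {v v' : Fin (n + 1)} (h : isLnn e v) (h' : isLnn e v') :
    v = v' := by
  rcases lt_trichotomy v v' with hlt | heq | hgt
  · exact absurd h.1 (not_le.2 (h'.2 v hlt))
  · exact heq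
  · exact absurd h'.1 (not_le.2 (h.2 v' hgt))

theorem exists_isLnn {e : E n} (h : ∃ i, 0 ≤ e i) : ∃ v, isLnn e v := by
  classical
  let S : Finset (Fin (n + 1)) := Finset.univ.filter (fun i => 0 ≤ e i)
  have hS : S.Nonempty := by
    obtain ⟨i, hi⟩ := h
    exact ⟨i, by simp [S, hi]⟩
  refine ⟨S.min' hS, ?_, ?_⟩
  · exact (Finset.mem_filter.1 (S.min'_mem hS)).2
  · intro j hj
    by_contra hc
    push Not at hc
    have hjS : j ∈ S := by simp [S, hc]
    exact absurd (S.min'_le j hjS) (not_le.2 hj)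

open Classical in
/-- the part of a Laurent polynomial made of the monomials whose least nonnegative exponent
is at `v`. -/
noncomputable def Pv (v : Fin (n + 1)) : Lam n R →+ Lam n R :=
  Finsupp.filterAddHom (fun e => isLnn e v)

open Classical in
theorem Pv_apply (v : Fin (n + 1)) (l : Lam n R) (e : E n) :
    Pv v l e = if isLnn e v then l e else 0 := rfl

theorem mem_support_Pv {v : Fin (n + 1)} {l : Lam n R} {e : E n} (he : e ∈ (Pv v l).support) :
    e ∈ l.support ∧ isLnn e v := by
  classical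
  rw [Finsupp.mem_support_iff, Pv_apply] at he
  by_cases h : isLnn e v
  · rw [if_pos h] at he
    exact ⟨Finsupp.mem_support_iff.2 he, h⟩
  · rw [if_neg h] at he
    exact absurd rfl he

theorem inL_Pv {d : ℤ} {J : Finset (Fin (n + 1))} {v : Fin (n + 1)} {l : Lam n R}
    (hl : InL d (insert v J) l) : InL d J (Pv v l) := by
  intro e he
  obtain ⟨he1, he2⟩ := mem_support_Pv he
  refine ⟨(hl e he1).1, fun i hi => ?_⟩
  have h1 := (hl e he1).2 i hi
  rw [Finset.mem_insert] at h1
  rcases h1 with rfl | h1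
  · exact absurd he2.1 (not_le.2 hi)
  · exact h1

theorem sum_Pv {l : Lam n R} (h : ∀ e ∈ l.support, ∃ i, 0 ≤ e i) : ∑ v, Pv v l = l := by
  classical
  ext e
  rw [Finsupp.finsetSum_apply]
  simp only [Pv_apply]
  by_cases he : e ∈ l.support
  · obtain ⟨v0, hv0⟩ := exists_isLnn (h e he)
    rw [Finset.sum_eq_single v0]
    · rw [if_pos hv0]
    · intro v _ hv
      rw [if_neg]
      intro hv'
      exact hv (isLnn_unique hv' hv0)
    · intro hv
      exact absurd (Finset.mem_univ v0) hv
  · rw [Finsupp.notMem_support_iff] at he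
    rw [he]
    simp

theorem good_of_ne_univ {d : ℤ} {J : Finset (Fin (n + 1))} {l : Lam n R} (hl : InL d J l)
    (hJ : J ≠ Finset.univ) : ∀ e ∈ l.support, ∃ i, 0 ≤ e i := by
  intro e he
  obtain ⟨i, hi⟩ : ∃ i, i ∉ J := by
    by_contra hcon
    push Not at hcon
    exact hJ (Finset.eq_univ_iff_forall.2 hcon)
  refine ⟨i, ?_⟩
  by_contra hc
  exact hi ((hl e he).2 i (by omega))

theorem good_of_le {d : ℤ} {J : Finset (Fin (n + 1))} {l : Lam n R} (hl : InL d J l)
    (hd : -(n : ℤ) ≤ d) : ∀ e ∈ l.support, ∃ i, 0 ≤ e i := by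
  intro e he
  by_contra hcon
  push Not at hcon
  have h1 : ∑ i, e i ≤ ∑ i : Fin (n + 1), (-1 : ℤ) :=
    Finset.sum_le_sum (fun i _ => by have := hcon i; omega)
  rw [(hl e he).1] at h1
  simp at h1
  omega

theorem eq_zero_of_inL_empty {d : ℤ} {l : Lam n R} (hl : InL d ∅ l) (hd : d < 0) : l = 0 := by
  rw [← Finsupp.support_eq_empty]
  by_contra hne
  obtain ⟨e, he⟩ := Finset.nonempty_iff_ne_empty.2 hne
  have h1 : (0 : ℤ) ≤ ∑ i, e i := Finset.sum_nonneg (fun i _ => by
    by_contra hc
    exact absurd ((hl e he).2 i (by omega)) (Finset.notMem_empty i))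
  rw [(hl e he).1] at h1
  omega

theorem inL_mono {d : ℤ} {J J' : Finset (Fin (n + 1))} (hJ : J ⊆ J') {l : Lam n R}
    (hl : InL d J l) : InL d J' l :=
  fun e he => ⟨(hl e he).1, fun i hi => hJ ((hl e he).2 i hi)⟩

end Proj

end Laurent

end Groth.Agent.Helper26.PnCoh
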