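import Mathlib
import Groth.Agent.Lib.Helper28.TwistZero

set_option autoImplicit false
set_option linter.unusedSectionVars false
set_option linter.unusedVariables false
universe u
open CategoryTheory AlgebraicGeometry Opposite TopologicalSpace TopCat
open Twist Groth.Agent.Helper28.TwistMul

namespace Groth.Agent.Helper26.PnCoh

variable {R A : Type u} [CommRing R] [CommRing A] [Algebra R A] {𝒜 : ℕ → Submodule R A}
  [GradedAlgebra 𝒜]

/-- extensionality for sections of the twisting sheaves. -/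
theorem sectN_ext {d : ℤ} {U : (Opens (ProjectiveSpectrum.top 𝒜))ᵒᵖ} (s t : sectN (𝒜 := 𝒜) d U)
    (h : ∀ x : U.unop, ((s.1 x).1 : Loc 𝒜 x.1) = (t.1 x).1) : s = t := by
  apply Subtype.ext
  funext x
  apply Subtype.ext
  exact h x

/-- the section of `O(d)` over `U` given by the fraction `b / s`. -/
def fracSec (d : ℤ) (U : Opens (ProjectiveSpectrum.top 𝒜)) {i j : ℕ} (b : A) (hb : b ∈ 𝒜 i)
    (s : A) (hs : s ∈ 𝒜 j) (hij : (i : ℤ) = j + d)
    (nin : ∀ x : U, s ∉ x.1.asHomogeneousIdeal) : sectN (𝒜 := 𝒜) d (op U) :=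
  ⟨fun x => ⟨Localization.mk b ⟨s, nin x⟩,
      Submodule.subset_span ⟨i, j, ⟨b, hb⟩, ⟨s, hs⟩, nin x, hij, rfl⟩⟩,
    fun x => ⟨U, x.2, 𝟙 _, i, j, ⟨b, hb⟩, ⟨s, hs⟩, nin, Or.inl hij, fun _ => rfl⟩⟩

theorem fracSec_val (d : ℤ) (U : Opens (ProjectiveSpectrum.top 𝒜)) {i j : ℕ} (b : A)
    (hb : b ∈ 𝒜 i) (s : A) (hs : s ∈ 𝒜 j) (hij : (i : ℤ) = j + d)
    (nin : ∀ x : U, s ∉ x.1.asHomogeneousIdeal) (x : U) :
    (((fracSec d U b hb s hs hij nin).1 x).1 : Loc 𝒜 x.1) = Localization.mk b ⟨s, nin x⟩ := rfl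

theorem pow_nin {f : A} {U : Opens (ProjectiveSpectrum.top 𝒜)}
    (hU : ∀ x : U, f ∉ x.1.asHomogeneousIdeal) (k : ℕ) :
    ∀ x : U, f ^ k ∉ x.1.asHomogeneousIdeal :=
  fun x h => hU x (x.1.isPrime.mem_of_pow_mem k h)

/-- the basic open `D₊(f)`, typed as an open of the topological space `ProjectiveSpectrum.top`. -/
def DP (𝒜 : ℕ → Submodule R A) [GradedAlgebra 𝒜] (f : A) : Opens (ProjectiveSpectrum.top 𝒜) :=
  ProjectiveSpectrum.basicOpen 𝒜 f

theorem nin_pbo (f : A) : ∀ x : DP 𝒜 f, f ∉ x.1.asHomogeneousIdeal :=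
  fun x => x.2

section Zero

variable {m : ℕ} {f : A} (hf : f ∈ 𝒜 m) (hm : 0 < m)

include hf hm in
theorem awayToSection_bijective :
    Function.Bijective (ProjectiveSpectrum.Proj.awayToSection 𝒜 f).hom := by
  have h1 : IsIso (Proj.awayToSection 𝒜 f) := by
    rw [← Proj.basicOpenIsoAway_hom 𝒜 f hf hm]
    infer_instance
  exact (ConcreteCategory.isIso_iff_bijective (Proj.awayToSection 𝒜 f)).1 h1

include hf hm in
/-- every section of `O(0)` over `D₊(f)` is a fraction `a / f ^ k`. -/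
theorem exists_frac_zero (τ : sectN (𝒜 := 𝒜) 0 (op (DP 𝒜 f))) :
    ∃ (k : ℕ) (a : A) (ha : a ∈ 𝒜 (k * m)),
      τ = fracSec 0 (DP 𝒜 f) a ha (f ^ k)
        (SetLike.pow_mem_graded k hf) (by simp [mul_comm]) (pow_nin (nin_pbo f) k) := by
  obtain ⟨c, rfl⟩ := (smul_oneSec_bijective (op (DP 𝒜 f))).2 τ
  obtain ⟨z, rfl⟩ := (awayToSection_bijective hf hm).2 c
  obtain ⟨q, rfl⟩ := HomogeneousLocalization.mk_surjective z
  obtain ⟨k, hk⟩ := q.den_mem
  have hk' : f ^ k = q.den.1 := hk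
  by_cases h0 : (q.den : A) = 0
  · refine ⟨0, 0, Submodule.zero_mem _, ?_⟩
    apply sectN_ext
    intro x
    exfalso
    have : f ^ k ∈ x.1.asHomogeneousIdeal := by rw [hk', h0]; exact Submodule.zero_mem _
    exact x.2 (x.1.isPrime.mem_of_pow_mem k this)
  · have hdeg : q.deg = k * m :=
      DirectSum.degree_eq_of_mem_mem 𝒜 q.den.2 (hk' ▸ SetLike.pow_mem_graded k hf) h0
    refine ⟨k, q.num.1, hdeg ▸ q.num.2, ?_⟩
    apply sectN_ext
    intro x
    have h1 := smul_oneSec_val (op (DP 𝒜 f))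
      ((ProjectiveSpectrum.Proj.awayToSection 𝒜 f).hom (HomogeneousLocalization.mk q)) x
    refine h1.trans ?_
    change (HomogeneousLocalization.mapId 𝒜 _ (HomogeneousLocalization.mk q)).val =
      Localization.mk q.num.1 ⟨f ^ k, _⟩
    erw [HomogeneousLocalization.map_mk, HomogeneousLocalization.val_mk]
    simp only [hk']
    rfl

/-- `c ↦ c • 1`. -/
noncomputable def smulOne (U : (Opens (ProjectiveSpectrum.top 𝒜))ᵒᵖ) (c : O U) :
    sectN (𝒜 := 𝒜) 0 U := c • oneSec U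

/-- the section of `O(0)` over `D₊(f)` attached to an element of `A_(f)`. -/
noncomputable def awaySec (f : A) (z : HomogeneousLocalization.Away 𝒜 f) :
    sectN (𝒜 := 𝒜) 0 (op (DP 𝒜 f)) :=
  smulOne (op (DP 𝒜 f))
    (show O (op (DP 𝒜 f)) from (ProjectiveSpectrum.Proj.awayToSection 𝒜 f).hom z)

include hf hm in
theorem awaySec_injective : Function.Injective (awaySec (𝒜 := 𝒜) f) := by
  intro z z' h
  exact (awayToSection_bijective hf hm).1
    ((smul_oneSec_bijective (op (DP 𝒜 f))).1 h)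

include hf in
theorem fracSec_zero_eq (k : ℕ) (a : A) (ha : a ∈ 𝒜 (k * m)) :
    fracSec 0 (DP 𝒜 f) a ha (f ^ k) (SetLike.pow_mem_graded k hf) (by simp [mul_comm])
        (pow_nin (nin_pbo f) k) =
      awaySec f (HomogeneousLocalization.mk
        ⟨k * m, ⟨a, ha⟩, ⟨f ^ k, by
          have := SetLike.pow_mem_graded k hf
          rwa [smul_eq_mul] at this⟩, ⟨k, rfl⟩⟩) := by
  apply sectN_ext
  intro x
  symm
  refine (smul_oneSec_val (op (DP 𝒜 f)) _ x).trans ?_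
  change (HomogeneousLocalization.mapId 𝒜 _ (HomogeneousLocalization.mk _)).val =
    Localization.mk a ⟨f ^ k, _⟩
  erw [HomogeneousLocalization.map_mk, HomogeneousLocalization.val_mk]
  rfl

include hf hm in
/-- two fractions defining the same section of `O(0)` over `D₊(f)` agree after multiplication
by a power of `f`. -/
theorem frac_zero_inj (k k' : ℕ) (a a' : A) (ha : a ∈ 𝒜 (k * m)) (ha' : a' ∈ 𝒜 (k' * m))
    (h : fracSec 0 (DP 𝒜 f) a ha (f ^ k) (SetLike.pow_mem_graded k hf) (by simp [mul_comm])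
        (pow_nin (nin_pbo f) k) =
      fracSec 0 (DP 𝒜 f) a' ha' (f ^ k') (SetLike.pow_mem_graded k' hf) (by simp [mul_comm])
        (pow_nin (nin_pbo f) k')) :
    ∃ N : ℕ, f ^ N * (a * f ^ k') = f ^ N * (a' * f ^ k) := by
  rw [fracSec_zero_eq hf, fracSec_zero_eq hf] at h
  have h2 := awaySec_injective hf hm h
  have h3 := congrArg HomogeneousLocalization.val h2
  rw [HomogeneousLocalization.val_mk, HomogeneousLocalization.val_mk] at h3
  rw [Localization.mk_eq_mk_iff, Localization.r_iff_exists] at h3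
  obtain ⟨⟨c, N, rfl⟩, hc⟩ := h3
  refine ⟨N, ?_⟩
  simp only at hc
  linear_combination hc

end Zero

section General

variable {m' : ℕ} {t h : A} (ht : t ∈ 𝒜 1) (hh : h ∈ 𝒜 m')

theorem th_mem (ht : t ∈ 𝒜 1) (hh : h ∈ 𝒜 m') : t * h ∈ 𝒜 (1 + m') := SetLike.mul_mem_graded ht hh

theorem t_nin : ∀ x : DP 𝒜 (t * h), t ∉ x.1.asHomogeneousIdeal :=
  fun x hx => x.2 (Ideal.mul_mem_right _ _ hx)

theorem tpow_mem (ht : t ∈ 𝒜 1) (e : ℕ) : t ^ e ∈ 𝒜 e := by
  have := SetLike.pow_mem_graded e ht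
  rwa [smul_eq_mul, mul_one] at this

/-- pointwise equality of fractions. -/
theorem fracSec_eq_of_mul_eq (d : ℤ) (U : Opens (ProjectiveSpectrum.top 𝒜)) {i j i' j' : ℕ}
    (b : A) (hb : b ∈ 𝒜 i) (s : A) (hs : s ∈ 𝒜 j) (hij : (i : ℤ) = j + d)
    (nin : ∀ x : U, s ∉ x.1.asHomogeneousIdeal)
    (b' : A) (hb' : b' ∈ 𝒜 i') (s' : A) (hs' : s' ∈ 𝒜 j') (hij' : (i' : ℤ) = j' + d)
    (nin' : ∀ x : U, s' ∉ x.1.asHomogeneousIdeal) (h : b * s' = b' * s) :
    fracSec d U b hb s hs hij nin = fracSec d U b' hb' s' hs' hij' nin' := by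
  apply sectN_ext
  intro x
  rw [fracSec_val, fracSec_val, Localization.mk_eq_mk_iff, Localization.r_iff_exists]
  refine ⟨1, ?_⟩
  simp only [OneMemClass.coe_one, one_mul]
  linear_combination h

theorem mulSec_fracSec {e : ℕ} {g : A} (hg : g ∈ 𝒜 e) {d d' : ℤ} (hd : d' = d + e)
    (U : Opens (ProjectiveSpectrum.top 𝒜)) {i j : ℕ}
    (b : A) (hb : b ∈ 𝒜 i) (s : A) (hs : s ∈ 𝒜 j) (hij : (i : ℤ) = j + d)
    (nin : ∀ x : U, s ∉ x.1.asHomogeneousIdeal) :
    mulSec hg hd (op U) (fracSec d U b hb s hs hij nin) =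
      fracSec d' U (g * b) (SetLike.mul_mem_graded hg hb) s hs (by push_cast; omega) nin := by
  apply sectN_ext
  intro x
  rw [mulSec_val, fracSec_val, fracSec_val, ← Localization.mk_one_eq_algebraMap,
    Localization.mk_mul, one_mul]

include ht hh in
/-- every section of `O(d)` over `D₊(t h)` is a fraction with denominator a power of `t h`. -/
theorem exists_frac (d : ℤ) (σ : sectN (𝒜 := 𝒜) d (op (DP 𝒜 (t * h)))) :
    ∃ (k j : ℕ) (b : A) (hb : b ∈ 𝒜 j) (hij : (j : ℤ) = ((k * (1 + m') : ℕ) : ℤ) + d),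
      σ = fracSec d (DP 𝒜 (t * h)) b hb ((t * h) ^ k)
        (SetLike.pow_mem_graded k (th_mem ht hh)) hij (pow_nin (nin_pbo (t * h)) k) := by
  have hf := th_mem ht hh
  have hm : 0 < 1 + m' := by omega
  obtain ⟨e, rfl | rfl⟩ := Int.eq_nat_or_neg d
  · -- `d = e ≥ 0`
    have hbij := mulSec_bijective (𝒜 := 𝒜) (tpow_mem ht e) (show ((e : ℕ) : ℤ) = 0 + e by simp)
      (DP 𝒜 (t * h)) (pow_nin t_nin e)
    obtain ⟨τ, rfl⟩ := hbij.2 σ
    obtain ⟨k, a, ha, rfl⟩ := exists_frac_zero hf hm τ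
    refine ⟨k, e + k * (1 + m'), t ^ e * a, SetLike.mul_mem_graded (tpow_mem ht e) ha,
      by push_cast; ring, ?_⟩
    rw [mulSec_fracSec]
  · -- `d = -e`
    have hbij := mulSec_bijective (𝒜 := 𝒜) (tpow_mem ht e) (show (0 : ℤ) = -(e : ℤ) + e by simp)
      (DP 𝒜 (t * h)) (pow_nin t_nin e)
    obtain ⟨k, a, ha, hτ⟩ := exists_frac_zero hf hm (mulSec (tpow_mem ht e)
      (show (0 : ℤ) = -(e : ℤ) + e by simp) (op (DP 𝒜 (t * h))) σ)
    have hb : a * h ^ e ∈ 𝒜 (k * (1 + m') + e * m') := by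
      refine SetLike.mul_mem_graded ha ?_
      have := SetLike.pow_mem_graded e hh
      rwa [smul_eq_mul] at this
    refine ⟨k + e, k * (1 + m') + e * m', a * h ^ e, hb, by push_cast; ring, ?_⟩
    apply hbij.1
    rw [hτ, mulSec_fracSec]
    apply fracSec_eq_of_mul_eq
    rw [pow_add, mul_pow]
    ring

include ht hh in
/-- two fractions defining the same section of `O(d)` over `D₊(t h)` agree up to multiplication
by powers of `t` and `h`. -/
theorem frac_inj (d : ℤ) (k k' j j' : ℕ) (b b' : A) (hb : b ∈ 𝒜 j) (hb' : b' ∈ 𝒜 j')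
    (hij : (j : ℤ) = ((k * (1 + m') : ℕ) : ℤ) + d)
    (hij' : (j' : ℤ) = ((k' * (1 + m') : ℕ) : ℤ) + d)
    (heq : fracSec d (DP 𝒜 (t * h)) b hb ((t * h) ^ k)
        (SetLike.pow_mem_graded k (th_mem ht hh)) hij (pow_nin (nin_pbo (t * h)) k) =
      fracSec d (DP 𝒜 (t * h)) b' hb' ((t * h) ^ k')
        (SetLike.pow_mem_graded k' (th_mem ht hh)) hij' (pow_nin (nin_pbo (t * h)) k')) :
    ∃ N M : ℕ, t ^ N * h ^ M * (b * (t * h) ^ k') = t ^ N * h ^ M * (b' * (t * h) ^ k) := by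
  have hf := th_mem ht hh
  have hm : 0 < 1 + m' := by omega
  have hhe : ∀ e : ℕ, h ^ e ∈ 𝒜 (e * m') := fun e => by
    have := SetLike.pow_mem_graded e hh
    rwa [smul_eq_mul] at this
  obtain ⟨e, rfl | rfl⟩ := Int.eq_nat_or_neg d
  · have hbij := mulSec_bijective (𝒜 := 𝒜) (tpow_mem ht e) (show ((e : ℕ) : ℤ) = 0 + e by simp)
      (DP 𝒜 (t * h)) (pow_nin t_nin e)
    have hj : j + e * m' = (k + e) * (1 + m') := by
      have : (j : ℤ) + e * m' = (k + e) * (1 + m') := by rw [hij]; push_cast; ring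
      exact_mod_cast this
    have hj' : j' + e * m' = (k' + e) * (1 + m') := by
      have : (j' : ℤ) + e * m' = (k' + e) * (1 + m') := by rw [hij']; push_cast; ring
      exact_mod_cast this
    have ha : b * h ^ e ∈ 𝒜 ((k + e) * (1 + m')) := hj ▸ SetLike.mul_mem_graded hb (hhe e)
    have ha' : b' * h ^ e ∈ 𝒜 ((k' + e) * (1 + m')) := hj' ▸ SetLike.mul_mem_graded hb' (hhe e)
    have key : ∀ (k j : ℕ) (b : A) (hb : b ∈ 𝒜 j)
        (hij : (j : ℤ) = ((k * (1 + m') : ℕ) : ℤ) + (e : ℤ))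
        (ha : b * h ^ e ∈ 𝒜 ((k + e) * (1 + m'))),
        fracSec (e : ℤ) (DP 𝒜 (t * h)) b hb ((t * h) ^ k)
          (SetLike.pow_mem_graded k hf) hij (pow_nin (nin_pbo (t * h)) k) =
        mulSec (tpow_mem ht e) (show ((e : ℕ) : ℤ) = 0 + e by simp) (op (DP 𝒜 (t * h)))
          (fracSec 0 (DP 𝒜 (t * h)) (b * h ^ e) ha ((t * h) ^ (k + e))
            (SetLike.pow_mem_graded (k + e) hf) (by simp [mul_comm])
            (pow_nin (nin_pbo (t * h)) (k + e))) := by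
      intro k j b hb hij ha
      rw [mulSec_fracSec]
      apply fracSec_eq_of_mul_eq
      rw [pow_add, mul_pow]
      ring
    rw [key k j b hb hij ha, key k' j' b' hb' hij' ha'] at heq
    obtain ⟨N, hN⟩ := frac_zero_inj hf hm _ _ _ _ ha ha' (hbij.1 heq)
    refine ⟨N + e, N + 2 * e, ?_⟩
    have e1 : t ^ (N + e) * h ^ (N + 2 * e) * (b * (t * h) ^ k') =
        (t * h) ^ N * (b * h ^ e * (t * h) ^ (k' + e)) := by ring
    have e2 : t ^ (N + e) * h ^ (N + 2 * e) * (b' * (t * h) ^ k) =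
        (t * h) ^ N * (b' * h ^ e * (t * h) ^ (k + e)) := by ring
    rw [e1, e2, hN]
  · have hj : e + j = k * (1 + m') := by
      have : (e : ℤ) + j = k * (1 + m') := by rw [hij]; push_cast; ring
      exact_mod_cast this
    have hj' : e + j' = k' * (1 + m') := by
      have : (e : ℤ) + j' = k' * (1 + m') := by rw [hij']; push_cast; ring
      exact_mod_cast this
    have ha : t ^ e * b ∈ 𝒜 (k * (1 + m')) := hj ▸ SetLike.mul_mem_graded (tpow_mem ht e) hb
    have ha' : t ^ e * b' ∈ 𝒜 (k' * (1 + m')) := hj' ▸ SetLike.mul_mem_graded (tpow_mem ht e) hb'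
    have h2 := congrArg (mulSec (tpow_mem ht e) (show (0 : ℤ) = -(e : ℤ) + e by simp)
      (op (DP 𝒜 (t * h)))) heq
    rw [mulSec_fracSec, mulSec_fracSec] at h2
    have h3 : fracSec 0 (DP 𝒜 (t * h)) (t ^ e * b) ha ((t * h) ^ k)
        (SetLike.pow_mem_graded k hf) (by simp [mul_comm]) (pow_nin (nin_pbo (t * h)) k) =
      fracSec 0 (DP 𝒜 (t * h)) (t ^ e * b') ha' ((t * h) ^ k')
        (SetLike.pow_mem_graded k' hf) (by simp [mul_comm]) (pow_nin (nin_pbo (t * h)) k') := by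
      refine (fracSec_eq_of_mul_eq _ _ _ _ _ _ _ _ _ _ _ _ _ _ rfl).trans (h2.trans ?_)
      exact fracSec_eq_of_mul_eq _ _ _ _ _ _ _ _ _ _ _ _ _ _ rfl
    obtain ⟨N, hN⟩ := frac_zero_inj hf hm _ _ _ _ ha ha' h3
    refine ⟨N + e, N, ?_⟩
    have e1 : t ^ (N + e) * h ^ N * (b * (t * h) ^ k') =
        (t * h) ^ N * (t ^ e * b * (t * h) ^ k') := by ring
    have e2 : t ^ (N + e) * h ^ N * (b' * (t * h) ^ k) =
        (t * h) ^ N * (t ^ e * b' * (t * h) ^ k) := by ring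
    rw [e1, e2, hN]

end General

end Groth.Agent.Helper26.PnCoh
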