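import Mathlib
import Groth.Agent.Lib.Helper26.PnSec1
import Groth.Agent.Lib.Helper26.PnLaurent

set_option autoImplicit false
set_option linter.unusedSectionVars false
set_option linter.unusedVariables false
universe u
open CategoryTheory AlgebraicGeometry Opposite TopologicalSpace TopCat
open Twist Groth.Agent.Helper28.TwistMul

namespace Groth.Agent.Helper26.PnCoh

section General

variable {R A : Type u} [CommRing R] [CommRing A] [Algebra R A] {𝒜 : ℕ → Submodule R A}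
  [GradedAlgebra 𝒜]

theorem exists_frac' {m m' : ℕ} {f t h : A} (ht : t ∈ 𝒜 1) (hh : h ∈ 𝒜 m') (hfe : f = t * h)
    (hme : m = 1 + m') (hf : f ∈ 𝒜 m) (d : ℤ) (σ : sectN (𝒜 := 𝒜) d (op (DP 𝒜 f))) :
    ∃ (k j : ℕ) (b : A) (hb : b ∈ 𝒜 j) (hij : (j : ℤ) = ((k * m : ℕ) : ℤ) + d),
      σ = fracSec d (DP 𝒜 f) b hb (f ^ k) (SetLike.pow_mem_graded k hf) hij
        (pow_nin (nin_pbo f) k) := by
  subst hfe hme
  exact exists_frac ht hh d σ

theorem frac_inj' {m m' : ℕ} {f t h : A} (ht : t ∈ 𝒜 1) (hh : h ∈ 𝒜 m') (hfe : f = t * h)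
    (hme : m = 1 + m') (hf : f ∈ 𝒜 m) (d : ℤ) (k k' j j' : ℕ) (b b' : A) (hb : b ∈ 𝒜 j)
    (hb' : b' ∈ 𝒜 j') (hij : (j : ℤ) = ((k * m : ℕ) : ℤ) + d)
    (hij' : (j' : ℤ) = ((k' * m : ℕ) : ℤ) + d)
    (heq : fracSec d (DP 𝒜 f) b hb (f ^ k) (SetLike.pow_mem_graded k hf) hij
        (pow_nin (nin_pbo f) k) =
      fracSec d (DP 𝒜 f) b' hb' (f ^ k') (SetLike.pow_mem_graded k' hf) hij'
        (pow_nin (nin_pbo f) k')) :
    ∃ N M : ℕ, t ^ N * h ^ M * (b * f ^ k') = t ^ N * h ^ M * (b' * f ^ k) := by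
  subst hfe hme
  exact frac_inj ht hh d k k' j j' b b' hb hb' hij hij' heq

/-- restriction of a fraction. -/
theorem resN_fracSec (d : ℤ) {U V : Opens (ProjectiveSpectrum.top 𝒜)} (hVU : V ≤ U) {i j : ℕ}
    (b : A) (hb : b ∈ 𝒜 i) (s : A) (hs : s ∈ 𝒜 j) (hij : (i : ℤ) = j + d)
    (nin : ∀ x : U, s ∉ x.1.asHomogeneousIdeal) :
    resN d (homOfLE hVU).op (fracSec d U b hb s hs hij nin) =
      fracSec d V b hb s hs hij (fun x => nin ⟨x.1, hVU x.2⟩) := by
  apply sectN_ext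
  intro x
  rfl

/-- sum of two fractions. -/
theorem fracSec_add (d : ℤ) (U : Opens (ProjectiveSpectrum.top 𝒜)) {i j i' j' : ℕ}
    (b : A) (hb : b ∈ 𝒜 i) (s : A) (hs : s ∈ 𝒜 j) (hij : (i : ℤ) = j + d)
    (nin : ∀ x : U, s ∉ x.1.asHomogeneousIdeal)
    (b' : A) (hb' : b' ∈ 𝒜 i') (s' : A) (hs' : s' ∈ 𝒜 j') (hij' : (i' : ℤ) = j' + d)
    (nin' : ∀ x : U, s' ∉ x.1.asHomogeneousIdeal)
    (hsum : s * b' + s' * b ∈ 𝒜 (j + i')) :
    fracSec d U b hb s hs hij nin + fracSec d U b' hb' s' hs' hij' nin' =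
      fracSec d U (s * b' + s' * b) hsum (s * s') (SetLike.mul_mem_graded hs hs')
        (by push_cast; omega)
        (fun x hx => (x.1.isPrime.mem_or_mem hx).elim (nin x) (nin' x)) := by
  apply sectN_ext
  intro x
  rw [fracSec_val]
  change ((fracSec d U b hb s hs hij nin).1 x).1 + ((fracSec d U b' hb' s' hs' hij' nin').1 x).1 = _
  rw [fracSec_val, fracSec_val, Localization.add_mk]
  rfl

end General


section Poly

variable {n : ℕ} {R : Type u} [CommRing R]

theorem gI_mem (J : Finset (Fin (n + 1))) : gI R J ∈ CohB1.polyGrading n R J.card :=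
  (MvPolynomial.mem_homogeneousSubmodule _ _).2 (gI_isHomogeneous J)

theorem X_mem' (i : Fin (n + 1)) :
    (MvPolynomial.X i : MvPolynomial (Fin (n + 1)) R) ∈ CohB1.polyGrading n R 1 :=
  (MvPolynomial.mem_homogeneousSubmodule _ _).2 (MvPolynomial.isHomogeneous_X R i)

/-- every section of `O(d)` over `D₊(g_J)` is a fraction with denominator a power of `g_J`. -/
theorem exists_frac_J {J : Finset (Fin (n + 1))} (hJ : J.Nonempty) (d : ℤ)
    (σ : sectN (𝒜 := CohB1.polyGrading n R) d (op (DP (CohB1.polyGrading n R) (gI R J)))) :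
    ∃ (k j : ℕ) (b : MvPolynomial (Fin (n + 1)) R) (hb : b ∈ CohB1.polyGrading n R j)
      (hij : (j : ℤ) = ((k * J.card : ℕ) : ℤ) + d),
      σ = fracSec d (DP (CohB1.polyGrading n R) (gI R J)) b hb (gI R J ^ k)
        (SetLike.pow_mem_graded k (gI_mem J)) hij (pow_nin (nin_pbo (gI R J)) k) := by
  classical
  obtain ⟨i, hi⟩ := hJ
  have h1 : gI R J = MvPolynomial.X i * gI R (J.erase i) := by
    rw [← gI_insert (Finset.notMem_erase i J), Finset.insert_erase hi]
  have h2 : J.card = 1 + (J.erase i).card := by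
    rw [Finset.card_erase_of_mem hi]
    have := Finset.card_pos.2 ⟨i, hi⟩
    omega
  exact exists_frac' (X_mem' i) (gI_mem (J.erase i)) h1 h2 (gI_mem J) d σ

/-- two fractions over `D₊(g_J)` defining the same section are equal as fractions. -/
theorem frac_inj_J {J : Finset (Fin (n + 1))} (hJ : J.Nonempty) (d : ℤ) (k k' j j' : ℕ)
    (b b' : MvPolynomial (Fin (n + 1)) R) (hb : b ∈ CohB1.polyGrading n R j)
    (hb' : b' ∈ CohB1.polyGrading n R j')
    (hij : (j : ℤ) = ((k * J.card : ℕ) : ℤ) + d) (hij' : (j' : ℤ) = ((k' * J.card : ℕ) : ℤ) + d)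
    (heq : fracSec d (DP (CohB1.polyGrading n R) (gI R J)) b hb (gI R J ^ k)
        (SetLike.pow_mem_graded k (gI_mem J)) hij (pow_nin (nin_pbo (gI R J)) k) =
      fracSec d (DP (CohB1.polyGrading n R) (gI R J)) b' hb' (gI R J ^ k')
        (SetLike.pow_mem_graded k' (gI_mem J)) hij' (pow_nin (nin_pbo (gI R J)) k')) :
    b * gI R J ^ k' = b' * gI R J ^ k := by
  classical
  obtain ⟨i, hi⟩ := hJ
  have h1 : gI R J = MvPolynomial.X i * gI R (J.erase i) := by
    rw [← gI_insert (Finset.notMem_erase i J), Finset.insert_erase hi]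
  have h2 : J.card = 1 + (J.erase i).card := by
    rw [Finset.card_erase_of_mem hi]
    have := Finset.card_pos.2 ⟨i, hi⟩
    omega
  obtain ⟨N, M, hNM⟩ := frac_inj' (X_mem' i) (gI_mem (J.erase i)) h1 h2 (gI_mem J) d k k' j j'
    b b' hb hb' hij hij' heq
  have h3 : (MvPolynomial.X i : MvPolynomial (Fin (n + 1)) R) ^ N * gI R (J.erase i) ^ M =
      MvPolynomial.monomial (Finsupp.single i N + M • natOne (J.erase i)) 1 := by
    rw [gI_pow, MvPolynomial.X_pow_eq_monomial, MvPolynomial.monomial_mul, one_mul]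
  rw [h3] at hNM
  apply mul_monomial_cancel (ν := Finsupp.single i N + M • natOne (J.erase i))
  rw [mul_comm, hNM, mul_comm]

end Poly


section Rho

variable {n : ℕ} {R : Type u} [CommRing R]

/-- all indices. -/
abbrev Uall (n : ℕ) : Finset (Fin (n + 1)) := Finset.univ

theorem rho_exists (d : ℤ)
    (σ : sectN (𝒜 := CohB1.polyGrading n R) d
      (op (DP (CohB1.polyGrading n R) (gI R (Uall n))))) :
    ∃ l : Lam n R, ∀ (k j : ℕ) (b : MvPolynomial (Fin (n + 1)) R)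
      (hb : b ∈ CohB1.polyGrading n R j) (hij : (j : ℤ) = ((k * (Uall n).card : ℕ) : ℤ) + d),
      σ = fracSec d (DP (CohB1.polyGrading n R) (gI R (Uall n))) b hb (gI R (Uall n) ^ k)
        (SetLike.pow_mem_graded k (gI_mem (Uall n))) hij
        (pow_nin (nin_pbo (gI R (Uall n))) k) → l = sh (-(k • oneJ (Uall n))) b := by
  obtain ⟨k0, j0, b0, hb0, hij0, rfl⟩ := exists_frac_J (Finset.univ_nonempty) d σ
  refine ⟨sh (-(k0 • oneJ (Uall n))) b0, ?_⟩
  intro k j b hb hij heq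
  exact sh_eq_of_mul_pow_eq
    (frac_inj_J (Finset.univ_nonempty) d k0 k j0 j b0 b hb0 hb hij0 hij heq)

/-- the Laurent expansion of a section of `O(d)` over `D₊(X_0 ⋯ X_n)`. -/
noncomputable def rho (d : ℤ)
    (σ : sectN (𝒜 := CohB1.polyGrading n R) d
      (op (DP (CohB1.polyGrading n R) (gI R (Uall n))))) : Lam n R :=
  Classical.choose (rho_exists d σ)

theorem rho_frac (d : ℤ) (k j : ℕ) (b : MvPolynomial (Fin (n + 1)) R)
    (hb : b ∈ CohB1.polyGrading n R j) (hij : (j : ℤ) = ((k * (Uall n).card : ℕ) : ℤ) + d) :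
    rho d (fracSec d (DP (CohB1.polyGrading n R) (gI R (Uall n))) b hb (gI R (Uall n) ^ k)
        (SetLike.pow_mem_graded k (gI_mem (Uall n))) hij
        (pow_nin (nin_pbo (gI R (Uall n))) k)) = sh (-(k • oneJ (Uall n))) b :=
  Classical.choose_spec (rho_exists d _) k j b hb hij rfl

theorem rho_add (d : ℤ)
    (σ σ' : sectN (𝒜 := CohB1.polyGrading n R) d
      (op (DP (CohB1.polyGrading n R) (gI R (Uall n))))) :
    rho d (σ + σ') = rho d σ + rho d σ' := by
  have h := exists_frac_J (J := Uall n) Finset.univ_nonempty d σ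
  obtain ⟨k, h⟩ := h
  obtain ⟨j, h⟩ := h
  obtain ⟨b, h⟩ := h
  obtain ⟨hb, h⟩ := h
  obtain ⟨hij, hσ⟩ := h
  have h' := exists_frac_J (J := Uall n) Finset.univ_nonempty d σ'
  obtain ⟨k', h'⟩ := h'
  obtain ⟨j', h'⟩ := h'
  obtain ⟨b', h'⟩ := h'
  obtain ⟨hb', h'⟩ := h'
  obtain ⟨hij', hσ'⟩ := h'
  subst hσ
  subst hσ'
  have hsum : gI R (Uall n) ^ k * b' + gI R (Uall n) ^ k' * b ∈
      CohB1.polyGrading n R (k • (Uall n).card + j') := by
    refine add_mem (SetLike.mul_mem_graded (SetLike.pow_mem_graded k (gI_mem (Uall n))) hb') ?_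
    have h1 := SetLike.mul_mem_graded (SetLike.pow_mem_graded k' (gI_mem (Uall n))) hb
    have h2 : k' • (Uall n).card + j = k • (Uall n).card + j' := by
      have : ((k' • (Uall n).card + j : ℕ) : ℤ) = ((k • (Uall n).card + j' : ℕ) : ℤ) := by
        simp only [smul_eq_mul]
        push_cast at hij hij' ⊢
        rw [hij, hij']
        ring
      exact_mod_cast this
    rw [← h2]
    exact h1
  rw [fracSec_add d _ b hb _ _ hij _ b' hb' _ _ hij' _ hsum]
  have hsum' : gI R (Uall n) ^ k * b' + gI R (Uall n) ^ k' * b ∈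
      CohB1.polyGrading n R (k * (Uall n).card + j') := hsum
  have e1 : fracSec d (DP (CohB1.polyGrading n R) (gI R (Uall n)))
      (gI R (Uall n) ^ k * b' + gI R (Uall n) ^ k' * b) hsum
      (gI R (Uall n) ^ k * gI R (Uall n) ^ k')
      (SetLike.mul_mem_graded (SetLike.pow_mem_graded k (gI_mem (Uall n)))
        (SetLike.pow_mem_graded k' (gI_mem (Uall n))))
      (by simp only [smul_eq_mul]; push_cast at hij hij' ⊢; rw [hij']; ring)
      (fun x hx => (x.1.isPrime.mem_or_mem hx).elim (pow_nin (nin_pbo (gI R (Uall n))) k x)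
        (pow_nin (nin_pbo (gI R (Uall n))) k' x)) =
    fracSec d (DP (CohB1.polyGrading n R) (gI R (Uall n)))
      (gI R (Uall n) ^ k * b' + gI R (Uall n) ^ k' * b) hsum'
      (gI R (Uall n) ^ (k + k')) (SetLike.pow_mem_graded (k + k') (gI_mem (Uall n)))
      (by simp only [smul_eq_mul]; push_cast at hij hij' ⊢; rw [hij']; ring)
      (pow_nin (nin_pbo (gI R (Uall n))) (k + k')) := by
    apply fracSec_eq_of_mul_eq
    rw [pow_add]
  rw [e1, rho_frac, rho_frac, rho_frac, sh_add]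
  have e2 : sh (-((k + k') • oneJ (Uall n))) (gI R (Uall n) ^ k * b') =
      sh (-(k' • oneJ (Uall n))) b' := by
    rw [mul_comm, gI_pow, sh_mul_monomial, castE_nsmul_natOne]
    congr 1
    rw [add_smul]
    abel
  have e3 : sh (-((k + k') • oneJ (Uall n))) (gI R (Uall n) ^ k' * b) =
      sh (-(k • oneJ (Uall n))) b := by
    rw [mul_comm, gI_pow, sh_mul_monomial, castE_nsmul_natOne]
    congr 1
    rw [add_smul]
    abel
  rw [e2, e3, add_comm]

/-- `rho` as an additive map. -/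
noncomputable def rhoHom (d : ℤ) :
    sectN (𝒜 := CohB1.polyGrading n R) d
      (op (DP (CohB1.polyGrading n R) (gI R (Uall n)))) →+ Lam n R :=
  AddMonoidHom.mk' (rho d) (rho_add d)

end Rho


section Theta

variable {n : ℕ} {R : Type u} [CommRing R]

theorem Wtop_le (J : Finset (Fin (n + 1))) :
    DP (CohB1.polyGrading n R) (gI R (Uall n)) ≤ DP (CohB1.polyGrading n R) (gI R J) := by
  intro x hx hJ
  apply hx
  change gI R (Uall n) ∈ x.asHomogeneousIdeal
  rw [gI_univ_eq J]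
  exact Ideal.mul_mem_right _ _ hJ

theorem theta_frac {J : Finset (Fin (n + 1))} (d : ℤ) (k j : ℕ)
    (b : MvPolynomial (Fin (n + 1)) R) (hb : b ∈ CohB1.polyGrading n R j)
    (hij : (j : ℤ) = ((k * J.card : ℕ) : ℤ) + d)
    (hWJ : DP (CohB1.polyGrading n R) (gI R (Uall n)) ≤ DP (CohB1.polyGrading n R) (gI R J)) :
    rho d (resN d (homOfLE hWJ).op
      (fracSec d (DP (CohB1.polyGrading n R) (gI R J)) b hb (gI R J ^ k)
        (SetLike.pow_mem_graded k (gI_mem J)) hij (pow_nin (nin_pbo (gI R J)) k))) =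
      sh (-(k • oneJ J)) b := by
  classical
  rw [resN_fracSec]
  have hb2 : b * gI R Jᶜ ^ k ∈ CohB1.polyGrading n R (j + k • Jᶜ.card) :=
    SetLike.mul_mem_graded hb (SetLike.pow_mem_graded k (gI_mem Jᶜ))
  have hcard : (Uall n).card = J.card + Jᶜ.card := (Finset.card_add_card_compl J).symm
  have hij2 : ((j + k • Jᶜ.card : ℕ) : ℤ) = ((k * (Uall n).card : ℕ) : ℤ) + d := by
    rw [hcard]
    simp only [smul_eq_mul]
    push_cast at hij ⊢
    rw [hij]
    ring
  rw [fracSec_eq_of_mul_eq d _ b hb (gI R J ^ k) _ hij _ (b * gI R Jᶜ ^ k) hb2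
    (gI R (Uall n) ^ k) (SetLike.pow_mem_graded k (gI_mem (Uall n))) hij2
    (pow_nin (nin_pbo (gI R (Uall n))) k) (by rw [gI_univ_eq J, mul_pow]; ring)]
  rw [rho_frac, sh_mul_gI_compl_pow]

theorem theta_inL {J : Finset (Fin (n + 1))} (hJ : J.Nonempty) (d : ℤ)
    (hWJ : DP (CohB1.polyGrading n R) (gI R (Uall n)) ≤ DP (CohB1.polyGrading n R) (gI R J))
    (σ : sectN (𝒜 := CohB1.polyGrading n R) d (op (DP (CohB1.polyGrading n R) (gI R J)))) :
    InL d J (rho d (resN d (homOfLE hWJ).op σ)) := by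
  have h := exists_frac_J hJ d σ
  obtain ⟨k, h⟩ := h
  obtain ⟨j, h⟩ := h
  obtain ⟨b, h⟩ := h
  obtain ⟨hb, h⟩ := h
  obtain ⟨hij, hσ⟩ := h
  subst hσ
  rw [theta_frac]
  exact inL_sh ((MvPolynomial.mem_homogeneousSubmodule _ _).1 hb) hij

theorem theta_surj {J : Finset (Fin (n + 1))} (hJ : J.Nonempty) (d : ℤ)
    (hWJ : DP (CohB1.polyGrading n R) (gI R (Uall n)) ≤ DP (CohB1.polyGrading n R) (gI R J))
    {l : Lam n R} (hl : InL d J l) :
    ∃ σ : sectN (𝒜 := CohB1.polyGrading n R) d (op (DP (CohB1.polyGrading n R) (gI R J))),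
      rho d (resN d (homOfLE hWJ).op σ) = l := by
  obtain ⟨k, j, b, hb, hij, rfl⟩ := exists_rep hJ hl
  exact ⟨fracSec d (DP (CohB1.polyGrading n R) (gI R J)) b
    ((MvPolynomial.mem_homogeneousSubmodule _ _).2 hb) (gI R J ^ k)
    (SetLike.pow_mem_graded k (gI_mem J)) hij (pow_nin (nin_pbo (gI R J)) k),
    theta_frac d k j b _ hij hWJ⟩

theorem theta_inj {J : Finset (Fin (n + 1))} (hJ : J.Nonempty) (d : ℤ)
    (hWJ : DP (CohB1.polyGrading n R) (gI R (Uall n)) ≤ DP (CohB1.polyGrading n R) (gI R J))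
    (σ σ' : sectN (𝒜 := CohB1.polyGrading n R) d (op (DP (CohB1.polyGrading n R) (gI R J))))
    (heq : rho d (resN d (homOfLE hWJ).op σ) = rho d (resN d (homOfLE hWJ).op σ')) :
    σ = σ' := by
  have h := exists_frac_J hJ d σ
  obtain ⟨k, h⟩ := h
  obtain ⟨j, h⟩ := h
  obtain ⟨b, h⟩ := h
  obtain ⟨hb, h⟩ := h
  obtain ⟨hij, hσ⟩ := h
  have h' := exists_frac_J hJ d σ'
  obtain ⟨k', h'⟩ := h'
  obtain ⟨j', h'⟩ := h'
  obtain ⟨b', h'⟩ := h'
  obtain ⟨hb', h'⟩ := h'
  obtain ⟨hij', hσ'⟩ := h'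
  subst hσ
  subst hσ'
  rw [theta_frac, theta_frac] at heq
  exact fracSec_eq_of_mul_eq _ _ _ _ _ _ _ _ _ _ _ _ _ _ (mul_pow_eq_of_sh_eq heq)

end Theta

end Groth.Agent.Helper26.PnCoh
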