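import Mathlib
import Groth.Agent.Lib.Helper26.PnSec2
import Groth.Agent.Lib.Helper26.PnCech

set_option autoImplicit false
set_option linter.unusedSectionVars false
set_option linter.unusedVariables false
universe u
open CategoryTheory CategoryTheory.Limits AlgebraicGeometry Opposite TopologicalSpace TopCat
open Twist Groth.Agent.Helper28.TwistMul
open Groth.Agent.Helper24.CechEv Groth.Agent.Helper13.CechAcyc

namespace Groth.Agent.Helper26.PnCoh

section Cover

variable (n : ℕ) (R : Type u) [CommRing R]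

/-- the standard cover of projective space, indexed in the universe of `R`. -/
noncomputable def Vst : ULift.{u} (Fin (n + 1)) →
    Opens (ProjectiveSpectrum.top (CohB1.polyGrading n R)) :=
  fun i => DP (CohB1.polyGrading n R) (MvPolynomial.X i.down)

variable {n R}

theorem mem_DP_iff (f : MvPolynomial (Fin (n + 1)) R)
    (x : ProjectiveSpectrum.top (CohB1.polyGrading n R)) :
    x ∈ DP (CohB1.polyGrading n R) f ↔ f ∉ x.asHomogeneousIdeal := Iff.rfl

theorem mem_DP_gI (J : Finset (Fin (n + 1)))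
    (x : ProjectiveSpectrum.top (CohB1.polyGrading n R)) :
    x ∈ DP (CohB1.polyGrading n R) (gI R J) ↔
      ∀ i ∈ J, x ∈ DP (CohB1.polyGrading n R) (MvPolynomial.X i) := by
  rw [mem_DP_iff, gI_eq_prod]
  have h1 : (∏ i ∈ J, (MvPolynomial.X i : MvPolynomial (Fin (n + 1)) R)) ∈
      x.asHomogeneousIdeal ↔ ∃ i ∈ J, (MvPolynomial.X i : MvPolynomial (Fin (n + 1)) R) ∈
      x.asHomogeneousIdeal := x.isPrime.prod_mem_iff
  rw [h1]
  push Not
  rfl

/-- the set of indices occurring in a tuple. -/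
noncomputable def imJ {m : ℕ} (a : Fin (m + 1) → ULift.{u} (Fin (n + 1))) :
    Finset (Fin (n + 1)) :=
  Finset.univ.image (fun k => (a k).down)

theorem imJ_nonempty {m : ℕ} (a : Fin (m + 1) → ULift.{u} (Fin (n + 1))) :
    (imJ a).Nonempty :=
  ⟨(a 0).down, Finset.mem_image.2 ⟨0, Finset.mem_univ _, rfl⟩⟩

theorem imJ_card_le {m : ℕ} (a : Fin (m + 1) → ULift.{u} (Fin (n + 1))) :
    (imJ a).card ≤ m + 1 := by
  refine Finset.card_image_le.trans ?_
  simp

theorem Va_eq {m : ℕ} (a : Fin (m + 1) → ULift.{u} (Fin (n + 1))) :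
    Va (Vst n R) a = DP (CohB1.polyGrading n R) (gI R (imJ a)) := by
  apply le_antisymm
  · intro x hx
    rw [mem_DP_gI]
    intro i hi
    obtain ⟨k, -, rfl⟩ := Finset.mem_image.1 hi
    exact Va_le (Vst n R) a k hx
  · apply le_Va
    intro k x hx
    rw [mem_DP_gI] at hx
    exact hx _ (Finset.mem_image.2 ⟨k, Finset.mem_univ _, rfl⟩)

theorem inf_Va_eq {m : ℕ} (k : ULift.{u} (Fin (n + 1)))
    (a : Fin (m + 1) → ULift.{u} (Fin (n + 1))) :
    Vst n R k ⊓ Va (Vst n R) a =
      DP (CohB1.polyGrading n R) (gI R (insert k.down (imJ a))) := by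
  classical
  rw [Va_eq]
  ext x
  change (x ∈ Vst n R k ∧ x ∈ DP (CohB1.polyGrading n R) (gI R (imJ a))) ↔
    x ∈ DP (CohB1.polyGrading n R) (gI R (insert k.down (imJ a)))
  rw [mem_DP_gI, mem_DP_gI]
  constructor
  · rintro ⟨h1, h2⟩ i hi
    rw [Finset.mem_insert] at hi
    rcases hi with rfl | hi
    · exact h1
    · exact h2 i hi
  · intro h
    exact ⟨h _ (Finset.mem_insert_self _ _), fun i hi => h i (Finset.mem_insert_of_mem hi)⟩

theorem Vst_eq (k : ULift.{u} (Fin (n + 1))) :
    Vst n R k = DP (CohB1.polyGrading n R) (gI R {k.down}) := by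
  unfold Vst
  congr 1
  rw [gI_eq_prod, Finset.prod_singleton]

end Cover


section Main

variable (n : ℕ) (R : Type u) [CommRing R] (d : ℤ)

/-- the smallest open of the nerve of the standard cover. -/
noncomputable def Wst : Opens (ProjectiveSpectrum.top (CohB1.polyGrading n R)) :=
  DP (CohB1.polyGrading n R) (gI R (Uall n))

/-- the Laurent expansion, on the sections of the presheaf `twistPre`. -/
noncomputable def rhoP :
    ((twistPre (CohB1.polyGrading n R) d).obj (op (Wst n R)) : Type u) →+ Lam n R :=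
  rhoHom d

theorem Wst_le (k : ULift.{u} (Fin (n + 1))) : Wst n R ≤ Vst n R k := by
  rw [Vst_eq]
  exact Wtop_le _

variable {n R d}

theorem th_eq (T : Opens (ProjectiveSpectrum.top (CohB1.polyGrading n R))) (hWT : Wst n R ≤ T)
    (m : (twistPre (CohB1.polyGrading n R) d).obj (op T)) :
    th (twistPre (CohB1.polyGrading n R) d) (Wst n R) (rhoP n R d) T hWT m =
      rho d (resN d (homOfLE hWT).op m) := rfl

theorem thJ_inL {J : Finset (Fin (n + 1))} (hJ : J.Nonempty)
    (T : Opens (ProjectiveSpectrum.top (CohB1.polyGrading n R)))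
    (hT : T = DP (CohB1.polyGrading n R) (gI R J)) (hWT : Wst n R ≤ T)
    (m : (twistPre (CohB1.polyGrading n R) d).obj (op T)) :
    InL d J (th (twistPre (CohB1.polyGrading n R) d) (Wst n R) (rhoP n R d) T hWT m) := by
  subst hT
  rw [th_eq]
  exact theta_inL hJ d hWT m

theorem thJ_surj {J : Finset (Fin (n + 1))} (hJ : J.Nonempty)
    (T : Opens (ProjectiveSpectrum.top (CohB1.polyGrading n R)))
    (hT : T = DP (CohB1.polyGrading n R) (gI R J)) (hWT : Wst n R ≤ T)
    {l : Lam n R} (hl : InL d J l) :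
    ∃ m : (twistPre (CohB1.polyGrading n R) d).obj (op T),
      th (twistPre (CohB1.polyGrading n R) d) (Wst n R) (rhoP n R d) T hWT m = l := by
  subst hT
  obtain ⟨σ, hσ⟩ := theta_surj hJ d hWT hl
  exact ⟨σ, hσ⟩

theorem thJ_inj {J : Finset (Fin (n + 1))} (hJ : J.Nonempty)
    (T : Opens (ProjectiveSpectrum.top (CohB1.polyGrading n R)))
    (hT : T = DP (CohB1.polyGrading n R) (gI R J)) (hWT : Wst n R ≤ T) :
    Function.Injective
      (th (twistPre (CohB1.polyGrading n R) d) (Wst n R) (rhoP n R d) T hWT) := by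
  subst hT
  intro m m' h
  rw [th_eq, th_eq] at h
  exact theta_inj hJ d hWT m m' h

variable (n R d)

/-- the projectors, indexed by the lifted index type. -/
noncomputable def PkU (k : ULift.{u} (Fin (n + 1))) : Lam n R →+ Lam n R := Pv k.down

variable {n R}

theorem sum_PkU {l : Lam n R} (h : ∀ e ∈ l.support, ∃ i, 0 ≤ e i) :
    ∑ k, PkU n R k l = l := by
  have h1 : ∑ k : ULift.{u} (Fin (n + 1)), PkU n R k l = ∑ v : Fin (n + 1), Pv v l :=
    Fintype.sum_equiv Equiv.ulift _ _ (fun k => rfl)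
  rw [h1, sum_Pv h]

variable (n R)

theorem isZero_cechH_twist_succ (q : ℕ) (hgood : q + 1 < n ∨ -(n : ℤ) ≤ d) :
    IsZero (CohTop.cechH (twistPre (CohB1.polyGrading n R) d) (Vst n R) (q + 1)) := by
  classical
  refine isZero_cechH_succ (Vst n R) (twistPre (CohB1.polyGrading n R) d) (Wst n R)
    (rhoP n R d) (PkU n R) (Wst_le n R) q ?_ ?_ ?_
  · intro a k m
    have h1 := thJ_inL (d := d) (Finset.insert_nonempty k.down (imJ a)) _ (inf_Va_eq k a)
      (W_le_inf (Vst n R) (Wst n R) (Wst_le n R) k a) m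
    exact thJ_surj (imJ_nonempty a) _ (Va_eq a) _ (inL_Pv h1)
  · intro b
    exact thJ_inj (imJ_nonempty b) _ (Va_eq b) _
  · intro b m
    have h1 := thJ_inL (d := d) (imJ_nonempty b) _ (Va_eq b)
      (W_le_Va (Vst n R) (Wst n R) (Wst_le n R) b) m
    apply sum_PkU
    rcases hgood with hq | hd
    · apply good_of_ne_univ h1
      intro hcon
      have h2 := imJ_card_le b
      rw [hcon, Finset.card_univ, Fintype.card_fin] at h2
      omega
    · exact good_of_le h1 hd

theorem isZero_cechH_twist_zero (hn : 1 ≤ n) (hd : d < 0) :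
    IsZero (CohTop.cechH (twistPre (CohB1.polyGrading n R) d) (Vst n R) 0) := by
  classical
  refine isZero_cechH_zero (Vst n R) (twistPre (CohB1.polyGrading n R) d) (Wst n R)
    (rhoP n R d) (PkU n R) (Wst_le n R) ?_ ?_ ?_
  · intro k m
    have h1 := thJ_inL (d := d) (Finset.singleton_nonempty k.down) _ (Vst_eq k)
      (Wst_le n R k) m
    have h2 : InL d (insert k.down ∅) (th (twistPre (CohB1.polyGrading n R) d) (Wst n R)
        (rhoP n R d) (Vst n R k) (Wst_le n R k) m) := by
      rwa [← LawfulSingleton.insert_empty_eq] at h1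
    exact eq_zero_of_inL_empty (inL_Pv h2) hd
  · intro b
    exact thJ_inj (imJ_nonempty b) _ (Va_eq b) _
  · intro b m
    have h1 := thJ_inL (d := d) (imJ_nonempty b) _ (Va_eq b)
      (W_le_Va (Vst n R) (Wst n R) (Wst_le n R) b) m
    apply sum_PkU
    apply good_of_ne_univ h1
    intro hcon
    have h2 := imJ_card_le b
    rw [hcon, Finset.card_univ, Fintype.card_fin] at h2
    omega

end Main

end Groth.Agent.Helper26.PnCoh
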