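import Mathlib
import Groth.Agent.Lib.Helper26.PnCoh1
import Groth.Agent.Lib.Helper26.PnTwist
import Groth.Agent.Lib.Helper13.InvQCoh
import Groth.Agent.S0013

set_option autoImplicit false
set_option linter.unusedSectionVars false
set_option linter.unusedVariables false
universe u
open CategoryTheory CategoryTheory.Limits AlgebraicGeometry Opposite TopologicalSpace TopCat
open Twist Coherent

namespace Groth.Agent.Helper26.PnCoh

section Scheme

variable (n : ℕ) (R : Type u) [CommRing R]

lemma irrelevant_le :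
    (HomogeneousIdeal.irrelevant (CohB1.polyGrading n R)).toIdeal ≤
      Ideal.span (Set.range (MvPolynomial.X : Fin (n + 1) → MvPolynomial (Fin (n + 1)) R)) := by
  intro p hp
  have h0 : GradedRing.proj (CohB1.polyGrading n R) 0 p = 0 :=
    (HomogeneousIdeal.mem_irrelevant_iff _ _).mp hp
  have h1 : MvPolynomial.homogeneousComponent 0 p = 0 := by
    rw [← h0, GradedRing.proj_apply]
    exact (MvPolynomial.decomposition.decompose'_apply p 0).symm
  have h2 : p ∈ MvPolynomial.idealOfVars (Fin (n + 1)) R ^ 1 := by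
    rw [MvPolynomial.mem_pow_idealOfVars_iff']
    intro x hx
    have hx0 : x = 0 := by
      have : x.degree = 0 := by omega
      exact (Finsupp.degree_eq_zero_iff x).1 this
    subst hx0
    have := congrArg (MvPolynomial.coeff 0) h1
    simpa [MvPolynomial.coeff_homogeneousComponent] using this
  simpa using h2

/-- the standard cover of the scheme `P^n_R`. -/
noncomputable def Ust : ULift.{u} (Fin (n + 1)) → (CohB1.ProjSpace n R).Opens :=
  fun i => Proj.basicOpen (CohB1.polyGrading n R) (MvPolynomial.X i.down)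

theorem Ust_cov : ⨆ i, Ust n R i = ⊤ := by
  apply Proj.iSup_basicOpen_eq_top (CohB1.polyGrading n R)
    (fun i : ULift.{u} (Fin (n + 1)) => (MvPolynomial.X i.down : MvPolynomial (Fin (n + 1)) R))
  refine (irrelevant_le n R).trans (Ideal.span_mono ?_)
  rintro _ ⟨i, rfl⟩
  exact ⟨⟨i⟩, rfl⟩

theorem Ust_affine (s : Finset (ULift.{u} (Fin (n + 1)))) (hs : s.Nonempty) :
    IsAffineOpen (⨅ i ∈ s, Ust n R i) := by
  classical
  have key : ∃ (f : MvPolynomial (Fin (n + 1)) R) (m : ℕ), f ∈ CohB1.polyGrading n R m ∧ 0 < m ∧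
      (⨅ i ∈ s, Ust n R i) = Proj.basicOpen (CohB1.polyGrading n R) f := by
    induction hs using Finset.Nonempty.cons_induction with
    | singleton a =>
      refine ⟨MvPolynomial.X a.down, 1, X_mem' a.down, Nat.one_pos, ?_⟩
      rw [Finset.iInf_singleton]
      rfl
    | cons a s ha hs ih =>
      obtain ⟨f, m, hf, hm, he⟩ := ih
      refine ⟨MvPolynomial.X a.down * f, 1 + m, SetLike.mul_mem_graded (X_mem' a.down) hf,
        by omega, ?_⟩
      rw [Finset.cons_eq_insert, Finset.iInf_insert, he, Proj.basicOpen_mul]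
      rfl
  obtain ⟨f, m, hf, hm, he⟩ := key
  rw [he]
  exact Proj.isAffineOpen_basicOpen _ f hf hm

instance isQCoh_twist (d : ℤ) : Coh.IsQCoh (Twist.twistProjSpace n R d) :=
  Groth.Agent.Helper13.Inv.isQuasicoherent_of_isInvertible _
    (Groth.Agent.Helper26.PnTwist.isInvertible_twist n R d)

/-- Čech vanishing gives cohomology vanishing. -/
theorem HH_subsingleton_of_isZero_cechH (d : ℤ) (q : ℕ)
    (hz : IsZero (CohTop.cechH (twistPre (CohB1.polyGrading n R) d) (Vst n R) q)) :
    Subsingleton (Coh.HH (CohB1.ProjSpace n R) (Twist.twistProjSpace n R d) q) := by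
  obtain ⟨e⟩ := Groth.Agent.S0013.result (CohB1.ProjSpace n R) (Ust n R) (Ust_cov n R)
    (Ust_affine n R) (Twist.twistProjSpace n R d) q
  have hz' : IsZero (CohB1.cechH (Ust n R) (Twist.twistProjSpace n R d) q) := hz
  have : Subsingleton ↑(CohB1.cechH (Ust n R) (Twist.twistProjSpace n R d) q) :=
    AddCommGrpCat.subsingleton_of_isZero hz'
  exact e.symm.injective.subsingleton

end Scheme

end Groth.Agent.Helper26.PnCoh
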