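import Mathlib
import Groth.Prelude.Def_Coh
import Groth.Prelude.Def_CohB1
import Groth.Agent.Lib.Helper26.PnCoh2

set_option autoImplicit false
universe u
open CategoryTheory AlgebraicGeometry Opposite TopologicalSpace TopCat HomogeneousLocalization

namespace Groth.Agent.Helper26.PnCoh

section
variable {R A : Type u} [CommRing R] [CommRing A] [Algebra R A] (𝒜 : ℕ → Submodule R A)
  [GradedAlgebra 𝒜] {m : ℕ} (f : A) (hf : f ∈ 𝒜 m) (hm : 0 < m)

include hf hm in
theorem toSpecZero_res (a : 𝒜 0) :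
    ((Proj 𝒜).presheaf.map (homOfLE (le_top : Proj.basicOpen 𝒜 f ≤ ⊤)).op).hom
      ((Proj.toSpecZero 𝒜).appTop.hom ((Scheme.ΓSpecIso (CommRingCat.of (𝒜 0))).inv.hom a)) =
    (Proj.awayToSection 𝒜 f).hom (fromZeroRingHom 𝒜 _ a) := by
  have h := Proj.awayι_toSpecZero 𝒜 f hf hm
  rw [Proj.awayι, Category.assoc, Iso.inv_comp_eq, Proj.basicOpenIsoSpec_hom] at h
  have h2 := congrArg Scheme.Hom.appTop h
  have h3 : (Proj.basicOpenToSpec 𝒜 f).appTop = _ := Proj.basicOpenToSpec_app_top 𝒜 f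
  rw [Scheme.Hom.comp_appTop, Scheme.Hom.comp_appTop, h3, ← Category.assoc,
    Scheme.ΓSpecIso_naturality, Category.assoc] at h2
  have h4 := congrArg (fun φ => (Scheme.ΓSpecIso (CommRingCat.of (𝒜 0))).inv ≫ φ ≫
    (Proj.basicOpen 𝒜 f).topIso.hom) h2
  simp only [Category.assoc, Iso.inv_hom_id_assoc, Iso.inv_hom_id, Category.comp_id] at h4
  have h5 := congrArg (fun φ => φ.hom a) h4
  simp only [CommRingCat.hom_comp, RingHom.comp_apply, CommRingCat.hom_ofHom] at h5
  refine Eq.trans ?_ h5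
  have h6 : (Proj.basicOpen 𝒜 f).ι.appTop ≫ (Proj.basicOpen 𝒜 f).topIso.hom =
      (Proj 𝒜).presheaf.map (homOfLE (le_top : Proj.basicOpen 𝒜 f ≤ ⊤)).op := by
    change (Proj 𝒜).presheaf.map (homOfLE (x := (Proj.basicOpen 𝒜 f).ι ''ᵁ ⊤) le_top).op ≫
      (Proj 𝒜).presheaf.map (eqToHom (Proj.basicOpen 𝒜 f).ι_image_top.symm).op = _
    rw [← Functor.map_comp]
    rfl
  rw [← h6]
  rfl


include hf hm in
/-- the global function attached to `a ∈ 𝒜 0` is pointwise the fraction `a / 1`. -/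
theorem toSpecZero_val (a : 𝒜 0) (x : ProjectiveSpectrum 𝒜)
    (hx : f ∉ x.asHomogeneousIdeal) :
    ((((Proj.toSpecZero 𝒜).appTop.hom ((Scheme.ΓSpecIso (CommRingCat.of (𝒜 0))).inv.hom a) :
      (ProjectiveSpectrum.Proj.structureSheaf 𝒜).1.obj (op ⊤)).1 ⟨x, trivial⟩).val :
        Localization.AtPrime x.asHomogeneousIdeal.toIdeal) =
      Localization.mk a.1 1 := by
  have h := toSpecZero_res 𝒜 f hf hm a
  have h2 := congrArg (fun (s : (ProjectiveSpectrum.Proj.structureSheaf 𝒜).1.obj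
    (op (ProjectiveSpectrum.basicOpen 𝒜 f))) => (s.1 ⟨x, hx⟩).val) h
  refine Eq.trans ?_ (h2.trans ?_)
  · rfl
  · change (HomogeneousLocalization.mapId 𝒜 _ (HomogeneousLocalization.mk _)).val = _
    erw [HomogeneousLocalization.map_mk, HomogeneousLocalization.val_mk]
    rfl

end

section Pn
variable (n : ℕ) (R : Type u) [CommRing R]

theorem toGlobal_eq (r : R) :
    Coh.toGlobal (CohB1.ProjSpace.toSpec n R) r =
      (Proj.toSpecZero (CohB1.polyGrading n R)).appTop.hom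
        ((Scheme.ΓSpecIso (CommRingCat.of (CohB1.polyGrading n R 0))).inv.hom
          (algebraMap R (CohB1.polyGrading n R 0) r)) := by
  change (Scheme.Hom.appTop (Proj.toSpecZero (CohB1.polyGrading n R) ≫
    Spec.map (CommRingCat.ofHom (algebraMap R (CohB1.polyGrading n R 0))))).hom
      ((Scheme.ΓSpecIso (CommRingCat.of R)).inv.hom r) = _
  rw [Scheme.Hom.comp_appTop]
  have h := Scheme.ΓSpecIso_inv_naturality
    (CommRingCat.ofHom (algebraMap R (CohB1.polyGrading n R 0)))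
  have h2 := congrArg (fun φ => φ.hom r) h
  simp only [CommRingCat.hom_comp, RingHom.comp_apply, CommRingCat.hom_ofHom] at h2 ⊢
  rw [h2]

theorem exists_X_notMem (x : ProjectiveSpectrum (CohB1.polyGrading n R)) :
    ∃ i : Fin (n + 1), (MvPolynomial.X i : MvPolynomial (Fin (n + 1)) R) ∉
      x.asHomogeneousIdeal := by
  have key : ∀ y : ↥(CohB1.ProjSpace n R), ∃ i : ULift.{u} (Fin (n + 1)), y ∈ Ust n R i := by
    intro y
    have h : y ∈ (⊤ : (CohB1.ProjSpace n R).Opens) := trivial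
    rw [← Ust_cov n R, Opens.mem_iSup] at h
    exact h
  obtain ⟨i, hi⟩ := key x
  exact ⟨i.down, hi⟩

theorem toGlobal_val (r : R) (x : ProjectiveSpectrum (CohB1.polyGrading n R)) :
    (((Coh.toGlobal (CohB1.ProjSpace.toSpec n R) r :
      (ProjectiveSpectrum.Proj.structureSheaf (CohB1.polyGrading n R)).1.obj (op ⊤)).1
        ⟨x, trivial⟩).val : Localization.AtPrime x.asHomogeneousIdeal.toIdeal) =
      Localization.mk (MvPolynomial.C r) 1 := by
  obtain ⟨i, hi⟩ := exists_X_notMem n R x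
  rw [toGlobal_eq]
  exact toSpecZero_val (CohB1.polyGrading n R) (MvPolynomial.X i) (X_mem' i) Nat.one_pos
    (algebraMap R (CohB1.polyGrading n R 0) r) x hi

end Pn

end Groth.Agent.Helper26.PnCoh
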