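import Mathlib
import Groth.Agent.Lib.Helper26.PnLaurent

set_option autoImplicit false
set_option linter.unusedSectionVars false
set_option linter.unusedVariables false
universe u
open Finsupp

namespace Groth.Agent.Helper26.PnCoh

section
variable {n : ℕ} {R : Type u} [CommRing R]

theorem oneJ_empty : oneJ (∅ : Finset (Fin (n + 1))) = 0 := by
  ext i
  rw [oneJ_apply]
  simp

/-- a Laurent polynomial without negative exponents is a polynomial. -/
theorem exists_poly {d : ℕ} {l : Lam n R} (hl : InL (d : ℤ) ∅ l) :
    ∃ b : MvPolynomial (Fin (n + 1)) R, b.IsHomogeneous d ∧ sh 0 b = l := by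
  classical
  have hnn : ∀ e ∈ l.support, ∀ i, 0 ≤ e i := by
    intro e he i
    by_contra h
    exact absurd ((hl e he).2 i (by omega)) (Finset.notMem_empty i)
  refine ⟨AddMonoidAlgebra.ofCoeff (Finsupp.mapDomain toNatE l), ?_, ?_⟩
  · intro μ hμ
    have h1 : μ ∈ (Finsupp.mapDomain toNatE l).support := by
      rw [Finsupp.mem_support_iff]
      exact hμ
    obtain ⟨e, he, rfl⟩ := Finset.mem_image.1 (Finsupp.mapDomain_support h1)
    have h2 : ((toNatE e).degree : ℤ) = (d : ℤ) := by
      rw [← sum_castE, castE_toNatE (hnn e he), (hl e he).1]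
    have h3 : (toNatE e).degree = d := by exact_mod_cast h2
    rw [← h3, Finsupp.degree_eq_weight_one, ← Pi.one_def]
  · unfold sh
    rw [AddMonoidAlgebra.coeff_ofCoeff, ← Finsupp.mapDomain_comp]
    conv_rhs => rw [← Finsupp.mapDomain_id (v := l)]
    apply Finsupp.mapDomain_congr
    intro e he
    simp only [Function.comp_apply, id_eq, add_zero]
    exact castE_toNatE (hnn e he)

/-- if all the `InL d {i}` hold then no exponent is negative (for `d ≥ 0`). -/
theorem inL_empty_of_forall {d : ℕ} {l : Lam n R}
    (h : ∀ i : Fin (n + 1), InL (d : ℤ) {i} l) : InL (d : ℤ) ∅ l := by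
  intro e he
  refine ⟨(h 0 e he).1, fun j hj => ?_⟩
  exfalso
  have hall : ∀ i : Fin (n + 1), i = j := by
    intro i
    have := (h i e he).2 j hj
    rw [Finset.mem_singleton] at this
    exact this.symm
  have hsum : ∑ i, e i = e j := by
    rw [Finset.sum_eq_single j]
    · intro i _ hi
      exact absurd (hall i) hi
    · intro hj'
      exact absurd (Finset.mem_univ j) hj'
  have := (h 0 e he).1
  rw [hsum] at this
  omega

end

end Groth.Agent.Helper26.PnCoh
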