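import Mathlib
import Groth.Agent.Lib.Helper26.PnGlob
import Groth.Agent.Lib.Helper26.PnLaurent2

set_option autoImplicit false
set_option linter.unusedSectionVars false
set_option linter.unusedVariables false
universe u
open CategoryTheory CategoryTheory.Limits AlgebraicGeometry Opposite TopologicalSpace TopCat
open Twist Coherent

namespace Groth.Agent.Helper26.PnCoh

section H0

variable (n : ℕ) (R : Type u) [CommRing R] (d : ℤ)

/-- `H⁰(P^n, O(d))` is the group of global sections of the twisting sheaf. -/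
noncomputable def h0Equiv :
    Coh.HH (CohB1.ProjSpace n R) (Twist.twistProjSpace n R d) 0 ≃+
      sectN (𝒜 := CohB1.polyGrading n R) d (op ⊤) :=
  Sheaf.H.equiv₀ (Coh.toAb (Twist.twistProjSpace n R d))
    (isTerminalTop : IsTerminal (⊤ : Opens (CohB1.ProjSpace n R)))

theorem resTop_top (X : Scheme.{u}) (r : Coh.Γtop X) : Coh.resTop X (op ⊤) r = r := by
  have h : (homOfLE (le_top (a := (op (⊤ : Opens X)).unop))).op = 𝟙 (op (⊤ : Opens X)) :=
    Subsingleton.elim _ _
  change (X.ringCatSheaf.obj.map (homOfLE (le_top (a := (op (⊤ : Opens X)).unop))).op).hom r = r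
  rw [h, X.ringCatSheaf.obj.map_id]
  rfl

theorem h0Equiv_smul_val (c : Coh.Γtop (CohB1.ProjSpace n R))
    (x : Coh.HH (CohB1.ProjSpace n R) (Twist.twistProjSpace n R d) 0)
    (y : (⊤ : Opens (ProjectiveSpectrum.top (CohB1.polyGrading n R)))) :
    (((h0Equiv n R d (c • x)).1 y).1 : Loc (CohB1.polyGrading n R) y.1) =
      ((c : (ProjectiveSpectrum.Proj.structureSheaf (CohB1.polyGrading n R)).1.obj (op ⊤)).1 y).val *
        (((h0Equiv n R d x).1 y).1 : Loc (CohB1.polyGrading n R) y.1) := by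
  have h := Sheaf.H.equiv₀_naturality (Coh.smulAb (Twist.twistProjSpace n R d) c)
    (hT := (isTerminalTop : IsTerminal (⊤ : Opens (CohB1.ProjSpace n R)))) x
  have h2 : h0Equiv n R d (c • x) =
      (Coh.smulAb (Twist.twistProjSpace n R d) c).hom.app (op ⊤) (h0Equiv n R d x) := h.symm
  have h3 := Coh.smulAb_app (Twist.twistProjSpace n R d) c (op ⊤) (h0Equiv n R d x)
  have h4 := h2.trans h3
  have h5 := congrArg (fun s : sectN (𝒜 := CohB1.polyGrading n R) d (op ⊤) =>
    ((s.1 y).1 : Loc (CohB1.polyGrading n R) y.1)) h4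
  refine h5.trans ?_
  have h6 := resTop_top (CohB1.ProjSpace n R) c
  have h7 := congrArg (fun c' : (ProjectiveSpectrum.Proj.structureSheaf
    (CohB1.polyGrading n R)).1.obj (op ⊤) => (c'.1 y).val *
      (((h0Equiv n R d x).1 y).1 : Loc (CohB1.polyGrading n R) y.1)) h6
  refine Eq.trans ?_ h7
  exact Twist.coe_smul_val d y.1 _ _

end H0

section Poly

variable (n : ℕ) (R : Type u) [CommRing R] (d : ℕ)

theorem one_nin (U : Opens (ProjectiveSpectrum.top (CohB1.polyGrading n R))) :
    ∀ x : U, (1 : MvPolynomial (Fin (n + 1)) R) ∉ x.1.asHomogeneousIdeal :=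
  fun x h => x.1.isPrime.ne_top ((Ideal.eq_top_iff_one _).mpr h)

theorem one_mem0 : (1 : MvPolynomial (Fin (n + 1)) R) ∈ CohB1.polyGrading n R 0 :=
  SetLike.GradedOne.one_mem

/-- the section `b / 1` of `O(d)` over `U` attached to a homogeneous polynomial of degree `d`. -/
noncomputable def polySecU (U : Opens (ProjectiveSpectrum.top (CohB1.polyGrading n R)))
    (b : MvPolynomial.homogeneousSubmodule (Fin (n + 1)) R d) :
    sectN (𝒜 := CohB1.polyGrading n R) (d : ℤ) (op U) :=
  fracSec (d : ℤ) U b.1 b.2 1 (one_mem0 n R) (by simp) (one_nin n R U)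

/-- the global section `b / 1`. -/
noncomputable def polySec (b : MvPolynomial.homogeneousSubmodule (Fin (n + 1)) R d) :
    sectN (𝒜 := CohB1.polyGrading n R) (d : ℤ) (op ⊤) := polySecU n R d ⊤ b

theorem polySec_val (b : MvPolynomial.homogeneousSubmodule (Fin (n + 1)) R d)
    (y : (⊤ : Opens (ProjectiveSpectrum.top (CohB1.polyGrading n R)))) :
    (((polySec n R d b).1 y).1 : Loc (CohB1.polyGrading n R) y.1) =
      Localization.mk b.1 ⟨1, one_nin n R ⊤ y⟩ := rfl

theorem polySec_add (b b' : MvPolynomial.homogeneousSubmodule (Fin (n + 1)) R d) :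
    polySec n R d (b + b') = polySec n R d b + polySec n R d b' := by
  apply sectN_ext
  intro y
  change Localization.mk (b.1 + b'.1) ⟨1, one_nin n R ⊤ y⟩ =
    Localization.mk b.1 ⟨1, one_nin n R ⊤ y⟩ + Localization.mk b'.1 ⟨1, one_nin n R ⊤ y⟩
  rw [Localization.add_mk_self]

/-- restriction of `polySec` to `D₊(g_J)` as a fraction with denominator `g_J ^ 0`. -/
theorem res_polySec (J : Finset (Fin (n + 1)))
    (b : MvPolynomial.homogeneousSubmodule (Fin (n + 1)) R d) :
    resN (d : ℤ) (homOfLE (le_top : DP (CohB1.polyGrading n R) (gI R J) ≤ ⊤)).op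
        (polySec n R d b) =
      fracSec (d : ℤ) (DP (CohB1.polyGrading n R) (gI R J)) b.1 b.2 (gI R J ^ 0)
        (SetLike.pow_mem_graded 0 (gI_mem J)) (by simp)
        (pow_nin (nin_pbo (gI R J)) 0) := by
  unfold polySec polySecU
  rw [resN_fracSec]
  apply fracSec_eq_of_mul_eq
  rw [pow_zero]

theorem rho_res_polySec (b : MvPolynomial.homogeneousSubmodule (Fin (n + 1)) R d) :
    rho (d : ℤ) (resN (d : ℤ)
      (homOfLE (le_top : DP (CohB1.polyGrading n R) (gI R (Uall n)) ≤ ⊤)).op
        (polySec n R d b)) = sh 0 b.1 := by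
  rw [res_polySec, rho_frac]
  congr 1
  simp

theorem polySec_injective : Function.Injective (polySec n R d) := by
  intro b b' h
  apply Subtype.ext
  apply sh_injective (0 : E n)
  rw [← rho_res_polySec, ← rho_res_polySec, h]

set_option maxHeartbeats 400000 in
theorem polySec_surjective : Function.Surjective (polySec n R d) := by
  intro σ
  have hi : ∀ i : Fin (n + 1), InL (d : ℤ) {i} (rho (d : ℤ) (resN (d : ℤ)
      (homOfLE (le_top : DP (CohB1.polyGrading n R) (gI R (Uall n)) ≤ ⊤)).op σ)) := by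
    intro i
    exact theta_inL (Finset.singleton_nonempty i) (d : ℤ) (Wtop_le {i})
      (resN (d : ℤ) (homOfLE (le_top : DP (CohB1.polyGrading n R) (gI R {i}) ≤ ⊤)).op σ)
  refine Exists.elim (exists_poly (inL_empty_of_forall hi)) (fun b hb' => ?_)
  have hb := hb'.1
  have hbl := hb'.2
  refine ⟨⟨b, (MvPolynomial.mem_homogeneousSubmodule _ _).2 hb⟩, ?_⟩
  apply sectN_ext
  intro y
  refine Exists.elim (exists_X_notMem n R y.1) (fun i hi' => ?_)
  have hy : y.1 ∈ DP (CohB1.polyGrading n R) (gI R {i}) := by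
    rw [mem_DP_gI]
    intro j hj
    rw [Finset.mem_singleton] at hj
    subst hj
    exact hi'
  have key : resN (d : ℤ) (homOfLE (le_top : DP (CohB1.polyGrading n R) (gI R {i}) ≤ ⊤)).op
      (polySec n R d ⟨b, (MvPolynomial.mem_homogeneousSubmodule _ _).2 hb⟩) =
      resN (d : ℤ) (homOfLE (le_top : DP (CohB1.polyGrading n R) (gI R {i}) ≤ ⊤)).op σ := by
    apply theta_inj (Finset.singleton_nonempty i) (d : ℤ) (Wtop_le {i})
    rw [res_polySec, theta_frac]
    refine Eq.trans ?_ (hbl.trans ?_)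
    · congr 1
      simp
    · rfl
  exact congrArg (fun s : sectN (𝒜 := CohB1.polyGrading n R) (d : ℤ)
    (op (DP (CohB1.polyGrading n R) (gI R {i}))) =>
      ((s.1 ⟨y.1, hy⟩).1 : Loc (CohB1.polyGrading n R) y.1)) key

/-- homogeneous polynomials of degree `d` are the global sections of `O(d)`. -/
noncomputable def polySecEquiv :
    MvPolynomial.homogeneousSubmodule (Fin (n + 1)) R d ≃+
      sectN (𝒜 := CohB1.polyGrading n R) (d : ℤ) (op ⊤) :=
  AddEquiv.ofBijective (AddMonoidHom.mk' (polySec n R d) (polySec_add n R d))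
    ⟨polySec_injective n R d, polySec_surjective n R d⟩

theorem polySecEquiv_apply (b : MvPolynomial.homogeneousSubmodule (Fin (n + 1)) R d) :
    polySecEquiv n R d b = polySec n R d b := rfl

/-- multiplying the section `b / 1` by the global function attached to `r`. -/
theorem toGlobal_smul_polySec (r : R)
    (b : MvPolynomial.homogeneousSubmodule (Fin (n + 1)) R d)
    (y : (⊤ : Opens (ProjectiveSpectrum.top (CohB1.polyGrading n R)))) :
    ((Coh.toGlobal (CohB1.ProjSpace.toSpec n R) r :
      (ProjectiveSpectrum.Proj.structureSheaf (CohB1.polyGrading n R)).1.obj (op ⊤)).1 y).val *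
        (((polySec n R d b).1 y).1 : Loc (CohB1.polyGrading n R) y.1) =
      (((polySec n R d (r • b)).1 y).1 : Loc (CohB1.polyGrading n R) y.1) := by
  have h := toGlobal_val n R r y.1
  have h2 := congrArg (fun z : Loc (CohB1.polyGrading n R) y.1 =>
    z * Localization.mk b.1 ⟨1, one_nin n R ⊤ y⟩) h
  refine Eq.trans ?_ (h2.trans ?_)
  · rfl
  · change _ = Localization.mk (r • b).1 ⟨1, one_nin n R ⊤ y⟩
    rw [Localization.mk_mul]
    congr 1
    · exact (MvPolynomial.smul_eq_C_mul _ _).symm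
    · exact Subtype.ext (one_mul _)

theorem h0Equiv_smul (r : R)
    (x : Coh.HH (CohB1.ProjSpace n R) (Twist.twistProjSpace n R (d : ℤ)) 0) :
    h0Equiv n R (d : ℤ) (r • x) =
      polySec n R d (r • (polySecEquiv n R d).symm (h0Equiv n R (d : ℤ) x)) := by
  have hb : polySec n R d ((polySecEquiv n R d).symm (h0Equiv n R (d : ℤ) x)) =
      h0Equiv n R (d : ℤ) x := (polySecEquiv n R d).apply_symm_apply _
  apply sectN_ext
  intro y
  have h1 := h0Equiv_smul_val n R (d : ℤ) (Coh.toGlobal (CohB1.ProjSpace.toSpec n R) r) x y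
  have h2 := congrArg (fun s : sectN (𝒜 := CohB1.polyGrading n R) (d : ℤ) (op ⊤) =>
    ((Coh.toGlobal (CohB1.ProjSpace.toSpec n R) r :
      (ProjectiveSpectrum.Proj.structureSheaf (CohB1.polyGrading n R)).1.obj (op ⊤)).1 y).val *
        ((s.1 y).1 : Loc (CohB1.polyGrading n R) y.1)) hb
  refine Eq.trans ?_ (h1.trans (h2.symm.trans ?_))
  · rfl
  · exact toGlobal_smul_polySec n R d r _ y

theorem h0Poly_smul (r : R)
    (x : Coh.HH (CohB1.ProjSpace n R) (Twist.twistProjSpace n R (d : ℤ)) 0) :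
    (polySecEquiv n R d).symm (h0Equiv n R (d : ℤ) (r • x)) =
      r • (polySecEquiv n R d).symm (h0Equiv n R (d : ℤ) x) :=
  (congrArg (polySecEquiv n R d).symm (h0Equiv_smul n R d r x)).trans
    ((polySecEquiv n R d).symm_apply_apply _)

end Poly

end Groth.Agent.Helper26.PnCoh
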