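import Mathlib
import Groth.Agent.Lib.Helper26.PnH0

set_option autoImplicit false
set_option linter.unusedSectionVars false
set_option linter.unusedVariables false
universe u
open CategoryTheory CategoryTheory.Limits AlgebraicGeometry Opposite TopologicalSpace TopCat
open Twist Coherent

namespace Groth.Agent.Helper26.PnCoh

variable (n : ℕ) (R : Type u) [CommRing R] (d : ℕ)

/-- the polynomial attached to a class in `H⁰(P^n_R, O(d))`. -/
noncomputable def f0 (x : Coh.HH (CohB1.ProjSpace n R) (Twist.twistProjSpace n R (d : ℤ)) 0) :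
      MvPolynomial.homogeneousSubmodule (Fin (n + 1)) R d :=
  (polySecEquiv n R d).symm (h0Equiv n R (d : ℤ) x)

/-- the class in `H⁰(P^n_R, O(d))` attached to a homogeneous polynomial. -/
noncomputable def g0 (b : MvPolynomial.homogeneousSubmodule (Fin (n + 1)) R d) :
    Coh.HH (CohB1.ProjSpace n R) (Twist.twistProjSpace n R (d : ℤ)) 0 :=
  (h0Equiv n R (d : ℤ)).symm (polySecEquiv n R d b)

theorem f0_add (x y : Coh.HH (CohB1.ProjSpace n R) (Twist.twistProjSpace n R (d : ℤ)) 0) :
    f0 n R d (x + y) = f0 n R d x + f0 n R d y :=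
  (congrArg (polySecEquiv n R d).symm ((h0Equiv n R (d : ℤ)).map_add x y)).trans
    ((polySecEquiv n R d).symm.map_add _ _)

theorem f0_smul (r : R) (x : Coh.HH (CohB1.ProjSpace n R) (Twist.twistProjSpace n R (d : ℤ)) 0) :
    f0 n R d (r • x) = r • f0 n R d x := h0Poly_smul n R d r x

theorem g0_f0 (x : Coh.HH (CohB1.ProjSpace n R) (Twist.twistProjSpace n R (d : ℤ)) 0) :
    g0 n R d (f0 n R d x) = x :=
  (congrArg (h0Equiv n R (d : ℤ)).symm ((polySecEquiv n R d).apply_symm_apply _)).trans
    ((h0Equiv n R (d : ℤ)).symm_apply_apply x)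

theorem f0_g0 (b : MvPolynomial.homogeneousSubmodule (Fin (n + 1)) R d) :
    f0 n R d (g0 n R d b) = b :=
  (congrArg (polySecEquiv n R d).symm ((h0Equiv n R (d : ℤ)).apply_symm_apply _)).trans
    ((polySecEquiv n R d).symm_apply_apply b)

/-- `H⁰(P^n_R, O(d))` is the module of homogeneous polynomials of degree `d`. -/
noncomputable def h0PolyEquiv :
    Coh.HH (CohB1.ProjSpace n R) (Twist.twistProjSpace n R (d : ℤ)) 0 ≃ₗ[R]
      MvPolynomial.homogeneousSubmodule (Fin (n + 1)) R d where
  toFun := f0 n R d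
  map_add' := f0_add n R d
  map_smul' := f0_smul n R d
  invFun := g0 n R d
  left_inv := g0_f0 n R d
  right_inv := f0_g0 n R d

end Groth.Agent.Helper26.PnCoh
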