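import Mathlib
import Groth.Prelude.Def_CechEdge
import Groth.Prelude.Def_CohTop
import Groth.Agent.Lib.Helper24.CechTop
import Groth.Agent.Lib.Helper13.HUTop
import Groth.Agent.S16019
import Groth.Agent.S16022

universe u
set_option linter.unusedSectionVars false
set_option autoImplicit false
open CategoryTheory CategoryTheory.Limits Opposite TopologicalSpace

namespace Groth.Agent.Helper26.CechNat

open Groth.Agent.Helper24 Groth.Agent.Helper24.CechEv Groth.Agent.Helper24.CechTop
open Groth.Agent.Helper13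

section Part1
variable {X : TopCat.{u}} {U₀ : Opens X} {ι : Type u} (Y : ι → Over U₀)
  {P P' : (Opens X)ᵒᵖ ⥤ AddCommGrpCat.{u}} (ψ : P ⟶ P')

lemma φ_natural :
    CechTop.φ Y P ≫ (CechEdge.cxFunctor Y).map ψ =
      (cechComplexFunctor (CechTop.V Y)).map ψ ≫ CechTop.φ Y P' := by
  apply HomologicalComplex.hom_ext
  intro n
  apply CechEv.hom_ext
  intro T σ
  have hL : (CechTop.φf Y P n ≫ ((CechEdge.cxFunctor Y).map ψ).f n) ≫ ev Y (QP P') T σ =
      ev (CechTop.V Y) P T.left (forgetσ Y σ) ≫ ψ.app (op T.left) := by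
    rw [Category.assoc]
    have h1 : ((CechEdge.cxFunctor Y).map ψ).f n ≫ ev Y (QP P') T σ =
        ev Y (QP P) T σ ≫ ψ.app (op T.left) :=
      CechEv.map_ev Y (Q := QP P) (Q' := QP P') (Functor.whiskerLeft (Over.forget U₀).op ψ) T σ
    rw [h1]
    exact (Category.assoc _ _ _).symm.trans
      (congrArg (fun m => m ≫ ψ.app (op T.left)) (φf_ev Y P T σ))
  have hR : (((cechComplexFunctor (CechTop.V Y)).map ψ).f n ≫ CechTop.φf Y P' n) ≫
      ev Y (QP P') T σ = ev (CechTop.V Y) P T.left (forgetσ Y σ) ≫ ψ.app (op T.left) := by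
    rw [Category.assoc, φf_ev]
    exact CechEv.map_ev (CechTop.V Y) ψ T.left (forgetσ Y σ)
  exact hL.trans hR.symm

lemma cechHIso_natural (p : ℕ) :
    (CechTop.cechHIso Y P p).hom ≫
        HomologicalComplex.homologyMap ((CechEdge.cxFunctor Y).map ψ) p =
      HomologicalComplex.homologyMap ((cechComplexFunctor (CechTop.V Y)).map ψ) p ≫
        (CechTop.cechHIso Y P' p).hom := by
  change HomologicalComplex.homologyMap (CechTop.φ Y P) p ≫ _ =
    _ ≫ HomologicalComplex.homologyMap (CechTop.φ Y P') p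
  rw [← HomologicalComplex.homologyMap_comp, ← HomologicalComplex.homologyMap_comp, φ_natural]

lemma cechHIso_natural_apply (p : ℕ) (x : CohTop.cechH P (CechTop.V Y) p) :
    CechEdge.cechHMap Y ψ p ((CechTop.cechHIso Y P p).hom.hom x) =
      (CechTop.cechHIso Y P' p).hom.hom
        ((HomologicalComplex.homologyMap ((cechComplexFunctor (CechTop.V Y)).map ψ) p).hom x) :=
  congrArg (fun m => m.hom x) (cechHIso_natural Y ψ p)

end Part1

section Part2
variable {C : Type u} [SmallCategory C] [HasPullbacks C] {J : GrothendieckTopology C}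

lemma HUmap_comp_apply {F G H : Sheaf J AddCommGrpCat.{u}} (a : F ⟶ G) (b : G ⟶ H) (p : ℕ) (U : C)
    (x : CohSite.HU F p U) :
    CechEdge.HUmap (a ≫ b) p U x = CechEdge.HUmap b p U (CechEdge.HUmap a p U x) := by
  have h : (Sheaf.cohomologyPresheafFunctor J p).map (a ≫ b) =
      (Sheaf.cohomologyPresheafFunctor J p).map a ≫ (Sheaf.cohomologyPresheafFunctor J p).map b :=
    Functor.map_comp _ _ _
  exact congrArg (fun m => (m.app (op U)).hom x) h

variable {U : C} {ι : Type u} {Y : ι → Over U}
  (e : ∀ (P : Cᵒᵖ ⥤ AddCommGrpCat.{u}) (p : ℕ),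
    CohCx.cechH P Y p →+ CohSite.HU (CechEdge.shf J P) p U)
  (he : CechEdge.IsEdge J Y e) {F G : Sheaf J AddCommGrpCat.{u}} (ψ : F ⟶ G)

include he in
lemma edgeSh_natural (p : ℕ) (x : CohCx.cechH F.obj Y p) :
    CechEdge.edgeSh e G p (CechEdge.cechHMap Y ψ.hom p x) =
      CechEdge.HUmap ψ p U (CechEdge.edgeSh e F p x) := by
  change CechEdge.HUmap ((sheafificationAdjunction J AddCommGrpCat.{u}).counit.app G) p U
      (e G.obj p (CechEdge.cechHMap Y ψ.hom p x)) =
    CechEdge.HUmap ψ p U
      (CechEdge.HUmap ((sheafificationAdjunction J AddCommGrpCat.{u}).counit.app F) p U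
        (e F.obj p x))
  rw [he.natural, ← HUmap_comp_apply, ← HUmap_comp_apply]
  congr 2
  exact (sheafificationAdjunction J AddCommGrpCat.{u}).counit.naturality ψ

end Part2

section Part3
variable {C : Type u} [SmallCategory C] (J : GrothendieckTopology C) {T : C} (hT : IsTerminal T)
  {F G : Sheaf J AddCommGrpCat.{u}} (ψ : F ⟶ G)

lemma H'Equiv_natural (n : ℕ) (x : CohSite.HU F n T) :
    HUTop.H'Equiv J hT G n
        ((((Sheaf.cohomologyPresheafFunctor J n).map ψ).app (op T)).hom x) =
      Sheaf.H.map ψ n (HUTop.H'Equiv J hT F n x) := by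
  have h := ((Abelian.extFunctor n).mapIso (HUTop.freeSheafIsoConst J hT).op).inv.naturality ψ
  exact congrArg (fun m => m.hom x) h

end Part3

section Part4
variable {X : TopCat.{u}} {ι : Type u} (U : ι → Opens X)

/-- the map induced on Čech cohomology (of a family of opens) by a morphism of presheaves -/
noncomputable abbrev cechMapTop {P P' : (Opens X)ᵒᵖ ⥤ AddCommGrpCat.{u}} (ψ : P ⟶ P') (p : ℕ) :
    CohTop.cechH P U p →+ CohTop.cechH P' U p :=
  (HomologicalComplex.homologyMap ((cechComplexFunctor U).map ψ) p).hom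

/-- an open equal to `⊤` is terminal -/
def isTerminalOfEqTop {T : Opens X} (h : T = ⊤) : IsTerminal T :=
  IsTerminal.ofUniqueHom (fun W => homOfLE (h ▸ le_top)) (fun _ _ => Subsingleton.elim _ _)

/-- A natural comparison map from Čech cohomology of an open cover to sheaf cohomology,
bijective for sheaves acyclic on all finite intersections. -/
theorem exists_natural_comparison (hcov : iSup U = ⊤) :
    ∃ c : ∀ (F : CohTop.Ab X) (p : ℕ), CohTop.cechH F.obj U p →+ CohTop.H F p,
      (∀ (F G : CohTop.Ab X) (ψ : F ⟶ G) (p : ℕ) (x : CohTop.cechH F.obj U p),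
        c G p (cechMapTop U ψ.hom p x) = Sheaf.H.map ψ p (c F p x)) ∧
      (∀ (F : CohTop.Ab X),
        (∀ (p : ℕ) (a : Fin (p + 1) → ι) (q : ℕ),
          Subsingleton (CohTop.HU F (q + 1) (iInf fun k => U (a k)))) →
        ∀ p, Function.Bijective (c F p)) := by
  have hY := CechTop.cover_of_iSup_eq (CechEdge.opensFam U) rfl
  obtain ⟨e, he⟩ := Groth.Agent.S16019.result (Opens.grothendieckTopology X) (CechEdge.opensFam U) hY
  have hT := isTerminalOfEqTop hcov
  refine ⟨fun F p => ((HUTop.H'Equiv (Opens.grothendieckTopology X) hT F p).toAddMonoidHom.comp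
    (CechEdge.edgeSh e F p)).comp
      (CechTop.cechHIso (CechEdge.opensFam U) F.obj p).hom.hom, ?_, ?_⟩
  · intro F G ψ p x
    change HUTop.H'Equiv (Opens.grothendieckTopology X) hT G p (CechEdge.edgeSh e G p
      ((CechTop.cechHIso (CechEdge.opensFam U) G.obj p).hom.hom (cechMapTop U ψ.hom p x))) =
      Sheaf.H.map ψ p (HUTop.H'Equiv (Opens.grothendieckTopology X) hT F p (CechEdge.edgeSh e F p
        ((CechTop.cechHIso (CechEdge.opensFam U) F.obj p).hom.hom x)))
    rw [← H'Equiv_natural, ← edgeSh_natural e he,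
      cechHIso_natural_apply (CechEdge.opensFam U) ψ.hom p x]
    rfl
  · intro F h p
    have h' : ∀ (p : ℕ) (a : Fin (p + 1) → ι) (q : ℕ),
        Subsingleton (CohSite.HU F (q + 1) (Limits.piObj fun k => CechEdge.opensFam U (a k)).left) := by
      intro p a q
      rw [CechTop.left_prod_eq (CechEdge.opensFam U) a]
      exact h p a q
    have hb := Groth.Agent.S16022.result (Opens.grothendieckTopology X) (CechEdge.opensFam U) e he F h' p
    have hi : Function.Bijective (CechTop.cechHIso (CechEdge.opensFam U) F.obj p).hom.hom :=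
      ConcreteCategory.bijective_of_isIso _
    exact ((HUTop.H'Equiv (Opens.grothendieckTopology X) hT F p).bijective.comp hb).comp hi

end Part4

end Groth.Agent.Helper26.CechNat
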