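import Mathlib
import Groth.Prelude.Def_Coh
import Groth.Prelude.Def_CohB1
import Groth.Agent.Lib.Helper26.CechNat
import Groth.Agent.Lib.Helper13.AffineVanish

universe u
set_option linter.unusedSectionVars false
set_option autoImplicit false
open CategoryTheory CategoryTheory.Limits Opposite TopologicalSpace AlgebraicGeometry

namespace Groth.Agent.Helper26.CechNat

/-- Scheme-level natural comparison from Čech cohomology of a cover with affine finite
intersections to cohomology, bijective on quasi-coherent modules. -/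
theorem exists_comparison_scheme (X : Scheme.{u}) {ι : Type u} (U : ι → X.Opens)
    (hcov : ⨆ i, U i = ⊤)
    (hU : ∀ s : Finset ι, s.Nonempty → IsAffineOpen (⨅ i ∈ s, U i)) :
    ∃ c : ∀ (M : X.Modules) (p : ℕ), CohTop.cechH (X := X.toTopCat) (Coh.toAb M).obj U p →+
        Coh.HH X M p,
      (∀ (M N : X.Modules) (ψ : Coh.toAb M ⟶ Coh.toAb N) (p : ℕ)
          (x : CohTop.cechH (X := X.toTopCat) (Coh.toAb M).obj U p),
        c N p (cechMapTop (X := X.toTopCat) U ψ.hom p x) = Sheaf.H.map ψ p (c M p x)) ∧
      (∀ (M : X.Modules) [Coh.IsQCoh M] (p : ℕ), Function.Bijective (c M p)) := by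
  classical
  obtain ⟨c, hc1, hc2⟩ := exists_natural_comparison (X := X.toTopCat) U hcov
  refine ⟨fun M p => c (Coh.toAb M) p, fun M N ψ p x => hc1 _ _ ψ p x, ?_⟩
  intro M _ p
  apply hc2
  intro p a q
  apply Groth.Agent.Helper13.AffineVanish.HU_subsingleton_of_isAffineOpen
  have h1 := hU (Finset.univ.image a) (Finset.image_nonempty.2 Finset.univ_nonempty)
  have h2 : (⨅ i ∈ Finset.univ.image a, U i) = iInf fun k => U (a k) := by
    rw [Finset.iInf_finset_image]
    simp
  rw [← h2]
  exact h1

end Groth.Agent.Helper26.CechNat
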