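import Mathlib

universe u
set_option linter.unusedSectionVars false
set_option autoImplicit false
open CategoryTheory CategoryTheory.Limits

namespace Groth.Agent.Helper26.HomFun

variable (K : CochainComplex AddCommGrpCat.{u} ℕ) (p i : ℕ)
  (hi : (ComplexShape.up ℕ).prev p = i)
  {A : Type u} [AddCommGroup A] (Φ : K.X p →+ A)

lemma exists_cycle (x : K.X p) (hx : (K.d p (p + 1)).hom x = 0) :
    ∃ z : K.cycles p, (K.iCycles p).hom z = x := by
  let k : AddCommGrpCat.of (AddMonoidHom.ker (K.d p (p + 1)).hom) ⟶ K.X p :=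
    AddCommGrpCat.ofHom (AddSubgroup.subtype _)
  have hk : k ≫ K.d p (p + 1) = 0 := by
    ext ⟨y, hy⟩
    exact hy
  refine ⟨(K.liftCycles k (p + 1) (by simp) hk).hom ⟨x, hx⟩, ?_⟩
  have := K.liftCycles_i k (p + 1) (by simp) hk
  exact congrArg (fun m => m.hom ⟨x, hx⟩) this

lemma iCycles_injective : Function.Injective (K.iCycles p).hom :=
  (AddCommGrpCat.mono_iff_injective _).1 inferInstance

lemma homologyπ_surjective : Function.Surjective (K.homologyπ p).hom :=
  (AddCommGrpCat.epi_iff_surjective _).1 inferInstance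

lemma d_iCycles (z : K.cycles p) : (K.d p (p + 1)).hom ((K.iCycles p).hom z) = 0 :=
  congrArg (fun m => m.hom z) (K.iCycles_d p (p + 1))

include hi in
/-- A functional on `p`-cochains killing coboundaries descends to homology. -/
theorem exists_desc (h1 : ∀ t : K.X i, Φ ((K.d i p).hom t) = 0) :
    ∃ Ψ : K.homology p →+ A,
      ∀ z : K.cycles p, Ψ ((K.homologyπ p).hom z) = Φ ((K.iCycles p).hom z) := by
  let k : K.cycles p ⟶ AddCommGrpCat.of A := K.iCycles p ≫ AddCommGrpCat.ofHom Φ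
  have hk : K.toCycles i p ≫ k = 0 := by
    ext t
    change Φ ((K.toCycles i p ≫ K.iCycles p).hom t) = 0
    rw [K.toCycles_i]
    exact h1 t
  let Ψ := (K.homologyIsCokernel i p hi).desc (CokernelCofork.ofπ k hk)
  have hΨ : K.homologyπ p ≫ Ψ = k :=
    (K.homologyIsCokernel i p hi).fac (CokernelCofork.ofπ k hk) WalkingParallelPair.one
  exact ⟨Ψ.hom, fun z => congrArg (fun m => m.hom z) hΨ⟩

include hi in
theorem desc_injective (Ψ : K.homology p →+ A)
    (hΨ : ∀ z : K.cycles p, Ψ ((K.homologyπ p).hom z) = Φ ((K.iCycles p).hom z))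
    (h2 : ∀ x : K.X p, (K.d p (p + 1)).hom x = 0 → Φ x = 0 →
      ∃ t : K.X i, (K.d i p).hom t = x) :
    Function.Injective Ψ := by
  rw [injective_iff_map_eq_zero]
  intro y hy
  obtain ⟨z, rfl⟩ := homologyπ_surjective K p y
  rw [hΨ] at hy
  obtain ⟨t, ht⟩ := h2 _ (d_iCycles K p z) hy
  have hz : z = (K.toCycles i p).hom t := by
    apply iCycles_injective K p
    rw [← ht]
    exact (congrArg (fun m => m.hom t) (K.toCycles_i i p)).symm
  rw [hz]
  exact congrArg (fun m => m.hom t) (K.toCycles_comp_homologyπ i p)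

theorem desc_range (Ψ : K.homology p →+ A)
    (hΨ : ∀ z : K.cycles p, Ψ ((K.homologyπ p).hom z) = Φ ((K.iCycles p).hom z)) (a : A) :
    (∃ y, Ψ y = a) ↔ ∃ x : K.X p, (K.d p (p + 1)).hom x = 0 ∧ Φ x = a := by
  constructor
  · rintro ⟨y, rfl⟩
    obtain ⟨z, rfl⟩ := homologyπ_surjective K p y
    exact ⟨_, d_iCycles K p z, (hΨ z).symm⟩
  · rintro ⟨x, hx, rfl⟩
    obtain ⟨z, rfl⟩ := exists_cycle K p x hx
    exact ⟨_, hΨ z⟩

theorem desc_natural (Ψ : K.homology p →+ A)
    (hΨ : ∀ z : K.cycles p, Ψ ((K.homologyπ p).hom z) = Φ ((K.iCycles p).hom z))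
    (f : K ⟶ K) (g : A →+ A) (hfg : ∀ x : K.X p, Φ ((f.f p).hom x) = g (Φ x))
    (y : K.homology p) :
    Ψ ((HomologicalComplex.homologyMap f p).hom y) = g (Ψ y) := by
  obtain ⟨z, rfl⟩ := homologyπ_surjective K p y
  have e1 : (HomologicalComplex.homologyMap f p).hom ((K.homologyπ p).hom z) =
      (K.homologyπ p).hom ((HomologicalComplex.cyclesMap f p).hom z) :=
    congrArg (fun m => m.hom z) (HomologicalComplex.homologyπ_naturality f p)
  have e2 : (K.iCycles p).hom ((HomologicalComplex.cyclesMap f p).hom z) =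
      (f.f p).hom ((K.iCycles p).hom z) :=
    congrArg (fun m => m.hom z) (HomologicalComplex.cyclesMap_i f p)
  rw [e1, hΨ, e2, hfg, hΨ]

end Groth.Agent.Helper26.HomFun
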