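import Mathlib
import Groth.Agent.Lib.Helper26.PnLaurent2

set_option autoImplicit false
set_option linter.unusedSectionVars false
set_option linter.unusedVariables false
universe u
open Finsupp

namespace Groth.Agent.Helper26.PnCoh

section
variable {n : ℕ} {R : Type u} [CommRing R]

/-- all exponents are negative. -/
def AllNeg (e : E n) : Prop := ∀ i, e i < 0

open Classical in
/-- the part of a Laurent polynomial made of the monomials with all exponents negative. -/
noncomputable def Nv : Lam n R →+ Lam n R :=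
  Finsupp.filterAddHom (fun e => AllNeg e)

open Classical in
theorem Nv_apply (l : Lam n R) (e : E n) : Nv l e = if AllNeg e then l e else 0 := rfl

theorem Nv_smul (r : R) (l : Lam n R) : Nv (r • l) = r • Nv l := by
  classical
  ext e
  rw [Nv_apply, Finsupp.smul_apply, Finsupp.smul_apply, Nv_apply]
  split_ifs <;> simp

theorem mem_support_Nv {l : Lam n R} {e : E n} (he : e ∈ (Nv l).support) :
    e ∈ l.support ∧ AllNeg e := by
  classical
  rw [Finsupp.mem_support_iff, Nv_apply] at he
  by_cases h : AllNeg e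
  · rw [if_pos h] at he
    exact ⟨Finsupp.mem_support_iff.2 he, h⟩
  · rw [if_neg h] at he
    exact absurd rfl he

theorem Nv_eq_self {l : Lam n R} (h : ∀ e ∈ l.support, AllNeg e) : Nv l = l := by
  classical
  ext e
  rw [Nv_apply]
  by_cases he : e ∈ l.support
  · rw [if_pos (h e he)]
  · rw [Finsupp.notMem_support_iff] at he
    rw [he]
    simp

theorem Nv_Nv (l : Lam n R) : Nv (Nv l) = Nv l :=
  Nv_eq_self (fun e he => (mem_support_Nv he).2)

theorem Nv_eq_zero_of_good {l : Lam n R} (h : ∀ e ∈ l.support, ∃ i, 0 ≤ e i) : Nv l = 0 := by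
  classical
  ext e
  rw [Nv_apply, Finsupp.zero_apply]
  by_cases he : e ∈ l.support
  · obtain ⟨i, hi⟩ := h e he
    rw [if_neg]
    intro hneg
    exact absurd (hneg i) (not_lt.2 hi)
  · rw [Finsupp.notMem_support_iff] at he
    rw [he]
    simp

theorem inL_Nv {d : ℤ} {J : Finset (Fin (n + 1))} {l : Lam n R} (hl : InL d J l) :
    InL d J (Nv l) :=
  fun e he => hl e (mem_support_Nv he).1

theorem sum_Pv_add_Nv (l : Lam n R) : ∑ v, Pv v l + Nv l = l := by
  classical
  ext e
  rw [Finsupp.add_apply, Finsupp.finsetSum_apply, Nv_apply]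
  simp only [Pv_apply]
  by_cases hneg : AllNeg e
  · rw [if_pos hneg, Finset.sum_eq_zero, zero_add]
    intro v _
    rw [if_neg]
    intro hv
    exact absurd (hneg v) (not_lt.2 hv.1)
  · rw [if_neg hneg, add_zero]
    have hex : ∃ i, 0 ≤ e i := by
      unfold AllNeg at hneg
      push Not at hneg
      exact hneg
    obtain ⟨v0, hv0⟩ := exists_isLnn hex
    rw [Finset.sum_eq_single v0]
    · rw [if_pos hv0]
    · intro v _ hv
      rw [if_neg]
      intro hv'
      exact hv (isLnn_unique hv' hv0)
    · intro hv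
      exact absurd (Finset.mem_univ v0) hv

theorem sh_smul (v : E n) (r : R) (b : MvPolynomial (Fin (n + 1)) R) :
    sh v (r • b) = r • sh v b := by
  unfold sh
  rw [AddMonoidAlgebra.coeff_smul, Finsupp.mapDomain_smul]

theorem sh_C_mul (v : E n) (r : R) (b : MvPolynomial (Fin (n + 1)) R) :
    sh v (MvPolynomial.C r * b) = r • sh v b := by
  rw [MvPolynomial.C_mul', sh_smul]

end

section Neg
variable (n : ℕ) (R : Type u) [CommRing R]

/-- Laurent polynomials of degree `d` all of whose exponents are negative. -/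
def LamNeg (d : ℤ) : Submodule R (Lam n R) where
  carrier := {l | ∀ e ∈ l.support, (∑ i, e i = d) ∧ AllNeg e}
  zero_mem' := by
    intro e he
    simp at he
  add_mem' := by
    classical
    intro l l' hl hl' e he
    rcases Finset.mem_union.1 (Finsupp.support_add he) with h | h
    · exact hl e h
    · exact hl' e h
  smul_mem' := by
    intro r l hl e he
    exact hl e (Finsupp.support_smul he)

variable {n R}

theorem mem_LamNeg {d : ℤ} {l : Lam n R} :
    l ∈ LamNeg n R d ↔ ∀ e ∈ l.support, (∑ i, e i = d) ∧ AllNeg e := Iff.rfl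

theorem mem_LamNeg_of {d : ℤ} {l : Lam n R} (hl : InL d (Finset.univ) l) (hN : Nv l = l) :
    l ∈ LamNeg n R d := by
  intro e he
  rw [← hN] at he
  exact ⟨(hl e (mem_support_Nv he).1).1, (mem_support_Nv he).2⟩

theorem inL_of_mem_LamNeg {d : ℤ} {l : Lam n R} (hl : l ∈ LamNeg n R d) :
    InL d (Finset.univ) l :=
  fun e he => ⟨(hl e he).1, fun i _ => Finset.mem_univ i⟩

theorem Nv_of_mem_LamNeg {d : ℤ} {l : Lam n R} (hl : l ∈ LamNeg n R d) : Nv l = l :=
  Nv_eq_self (fun e he => (hl e he).2)

/-- the exponent flip `μ ↦ -μ - 1`. -/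
noncomputable def flipE (μ : Fin (n + 1) →₀ ℕ) : E n := -(castE μ) - oneJ Finset.univ

theorem flipE_apply (μ : Fin (n + 1) →₀ ℕ) (i : Fin (n + 1)) : flipE μ i = -(μ i : ℤ) - 1 := by
  unfold flipE
  rw [Finsupp.sub_apply, Finsupp.neg_apply, castE_apply, oneJ_apply, if_pos (Finset.mem_univ i)]

theorem flipE_injective : Function.Injective (flipE (n := n)) := by
  intro μ ν h
  ext i
  have := DFunLike.congr_fun h i
  rw [flipE_apply, flipE_apply] at this
  omega

variable (n R) in
/-- the flip map from polynomials to Laurent polynomials. -/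
noncomputable def flipL : MvPolynomial (Fin (n + 1)) R →ₗ[R] Lam n R :=
  (Finsupp.lmapDomain R R flipE) ∘ₗ (AddMonoidAlgebra.coeffLinearEquiv R).toLinearMap

theorem flipL_apply (b : MvPolynomial (Fin (n + 1)) R) :
    flipL n R b = Finsupp.mapDomain flipE (AddMonoidAlgebra.coeff b) := rfl

theorem flipL_injective : Function.Injective (flipL n R) := by
  intro b b' h
  apply AddMonoidAlgebra.coeff_injective
  exact Finsupp.mapDomain_injective flipE_injective h

theorem sum_flipE (μ : Fin (n + 1) →₀ ℕ) :
    ∑ i, flipE μ i = -((n : ℤ) + 1 + μ.degree) := by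
  simp only [flipE_apply]
  rw [Finset.sum_sub_distrib, Finset.sum_neg_distrib]
  have h1 : ∑ i : Fin (n + 1), ((μ i : ℕ) : ℤ) = (μ.degree : ℤ) := by
    rw [Finsupp.degree_eq_sum]
    push_cast
    rfl
  rw [h1]
  simp
  ring

theorem flipL_mem {k : ℕ} {b : MvPolynomial (Fin (n + 1)) R} (hb : b.IsHomogeneous k) :
    flipL n R b ∈ LamNeg n R (-((n : ℤ) + 1 + k)) := by
  classical
  intro e he
  rw [flipL_apply] at he
  obtain ⟨μ, hμ, rfl⟩ := Finset.mem_image.1 (Finsupp.mapDomain_support he)
  have hdeg := degree_of_mem_support hb hμ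
  refine ⟨?_, fun i => ?_⟩
  · rw [sum_flipE, hdeg]
  · rw [flipE_apply]
    omega

/-- inverse of the exponent flip. -/
noncomputable def unflipE (e : E n) : Fin (n + 1) →₀ ℕ := toNatE (-e - oneJ Finset.univ)

theorem flipE_unflipE {e : E n} (he : AllNeg e) : flipE (unflipE e) = e := by
  ext i
  rw [flipE_apply]
  unfold unflipE
  rw [toNatE_apply, Finsupp.sub_apply, Finsupp.neg_apply, oneJ_apply,
    if_pos (Finset.mem_univ i)]
  have := he i
  omega

theorem flipL_surj {k : ℕ} {l : Lam n R} (hl : l ∈ LamNeg n R (-((n : ℤ) + 1 + k))) :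
    ∃ b : MvPolynomial (Fin (n + 1)) R, b.IsHomogeneous k ∧ flipL n R b = l := by
  classical
  refine ⟨AddMonoidAlgebra.ofCoeff (Finsupp.mapDomain unflipE l), ?_, ?_⟩
  · intro μ hμ
    have h1 : μ ∈ (Finsupp.mapDomain unflipE l).support := by
      rw [Finsupp.mem_support_iff]
      exact hμ
    obtain ⟨e, he, rfl⟩ := Finset.mem_image.1 (Finsupp.mapDomain_support h1)
    have h2 := sum_flipE (unflipE e)
    rw [flipE_unflipE (hl e he).2, (hl e he).1] at h2
    have h3 : (unflipE e).degree = k := by
      have : ((unflipE e).degree : ℤ) = (k : ℤ) := by omega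
      exact_mod_cast this
    rw [← h3, Finsupp.degree_eq_weight_one, ← Pi.one_def]
  · rw [flipL_apply, AddMonoidAlgebra.coeff_ofCoeff, ← Finsupp.mapDomain_comp]
    conv_rhs => rw [← Finsupp.mapDomain_id (v := l)]
    apply Finsupp.mapDomain_congr
    intro e he
    simp only [Function.comp_apply, id_eq]
    exact flipE_unflipE (hl e he).2

variable (n R) in
/-- homogeneous polynomials of degree `k` are the all-negative Laurent polynomials of degree
`-(n+1+k)`. -/
noncomputable def negPolyEquiv (k : ℕ) :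
    MvPolynomial.homogeneousSubmodule (Fin (n + 1)) R k ≃ₗ[R]
      LamNeg n R (-((n : ℤ) + 1 + k)) :=
  LinearEquiv.ofBijective
    (((flipL n R).comp (MvPolynomial.homogeneousSubmodule (Fin (n + 1)) R k).subtype).codRestrict
      (LamNeg n R (-((n : ℤ) + 1 + k)))
      (fun b => flipL_mem ((MvPolynomial.mem_homogeneousSubmodule _ _).1 b.2)))
    ⟨fun b b' h => Subtype.ext (flipL_injective (congrArg Subtype.val h)),
      fun l => by
        obtain ⟨b, hb, hbl⟩ := flipL_surj l.2
        exact ⟨⟨b, (MvPolynomial.mem_homogeneousSubmodule _ _).2 hb⟩, Subtype.ext hbl⟩⟩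

end Neg

end Groth.Agent.Helper26.PnCoh
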