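import Mathlib

set_option linter.unusedSectionVars false
set_option autoImplicit false

namespace Groth.Agent.Helper26.AltCocycle

variable {ι : Type*} {A : Type*} [AddCommGroup A] {m : ℕ}

/-- index map duplicating the entry `i` at position `i+2`. -/
def dupIdx (i : Fin m) : Fin (m + 2) → Fin (m + 1) := fun x =>
  if h1 : x.val ≤ i.val + 1 then ⟨x.val, by omega⟩
  else if h2 : x.val = i.val + 2 then ⟨i.val, by omega⟩
  else ⟨x.val - 1, by omega⟩

theorem dupIdx_val (i : Fin m) (x : Fin (m + 2)) :
    (dupIdx i x).val = if x.val ≤ i.val + 1 then x.val else if x.val = i.val + 2 then i.val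
      else x.val - 1 := by
  unfold dupIdx
  split_ifs <;> rfl

theorem succAbove_val {k : ℕ} (j : Fin (k + 1)) (x : Fin k) :
    (j.succAbove x).val = if x.val < j.val then x.val else x.val + 1 := by
  unfold Fin.succAbove
  split_ifs with h1 h2 h2
  · rfl
  · exact absurd (Fin.lt_def.1 h1) h2
  · exact absurd (Fin.lt_def.2 h2) h1
  · rfl

theorem dup_face_top (i : Fin m) : dupIdx i ∘ (i.succ.succ).succAbove = id := by
  funext k
  apply Fin.ext
  simp only [Function.comp_apply, dupIdx_val, succAbove_val, Fin.val_succ, id_eq]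
  split_ifs <;> omega

theorem dup_face_bot (i : Fin m) :
    dupIdx i ∘ (i.castSucc.castSucc).succAbove = Equiv.swap i.castSucc i.succ := by
  funext k
  apply Fin.ext
  rw [Equiv.swap_apply_def]
  simp only [Function.comp_apply, dupIdx_val, succAbove_val, Fin.val_castSucc]
  by_cases h1 : k = i.castSucc
  · subst h1
    simp
  · by_cases h2 : k = i.succ
    · subst h2
      have h3 : ¬ (i.succ = i.castSucc) := by
        intro h; have := congrArg Fin.val h; simp at this
      rw [if_neg h3, if_pos rfl]
      simp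
    · rw [if_neg h1, if_neg h2]
      have h1' : k.val ≠ i.val := fun h => h1 (Fin.ext h)
      have h2' : k.val ≠ i.val + 1 := fun h => h2 (Fin.ext h)
      split_ifs <;> omega

theorem dup_face_other (i : Fin m) (j : Fin (m + 2)) (h1 : j ≠ i.castSucc.castSucc)
    (h2 : j ≠ i.succ.succ) : ¬ Function.Injective (dupIdx i ∘ j.succAbove) := by
  intro hinj
  obtain ⟨k, hk⟩ := Fin.exists_succAbove_eq (Ne.symm h1)
  obtain ⟨k', hk'⟩ := Fin.exists_succAbove_eq (Ne.symm h2)
  have h3 : (dupIdx i ∘ j.succAbove) k = (dupIdx i ∘ j.succAbove) k' := by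
    apply Fin.ext
    simp only [Function.comp_apply, hk, hk', dupIdx_val, Fin.val_castSucc, Fin.val_succ]
    split_ifs <;> omega
  have h4 := hinj h3
  subst h4
  have h5 := hk.symm.trans hk'
  have h6 := congrArg Fin.val h5
  simp only [Fin.val_castSucc, Fin.val_succ] at h6
  omega

/-- A cocycle on the full simplex vanishing on non-injective tuples is alternating with
respect to adjacent transpositions. -/
theorem alt_swap (φ : (Fin (m + 1) → ι) → A)
    (hcoc : ∀ c : Fin (m + 2) → ι, ∑ j : Fin (m + 2), (-1 : ℤ) ^ (j : ℕ) • φ (c ∘ j.succAbove) = 0)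
    (hdeg : ∀ b, ¬ Function.Injective b → φ b = 0) (b : Fin (m + 1) → ι) (i : Fin m) :
    φ (b ∘ Equiv.swap i.castSucc i.succ) = - φ b := by
  have h := hcoc (b ∘ dupIdx i)
  rw [Finset.sum_eq_add (i.castSucc.castSucc) (i.succ.succ)] at h
  · rw [Function.comp_assoc, Function.comp_assoc, dup_face_top, dup_face_bot] at h
    simp only [Fin.val_castSucc, Fin.val_succ, Function.comp_id] at h
    have h7 : ((-1 : ℤ) ^ (i.val + 1 + 1)) = (-1) ^ i.val := by
      rw [pow_succ, pow_succ]; ring
    rw [h7, ← smul_add] at h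
    have h8 : φ (b ∘ ⇑(Equiv.swap i.castSucc i.succ)) + φ b = 0 := by
      rcases neg_one_pow_eq_or ℤ i.val with h9 | h9
      · rwa [h9, one_smul] at h
      · rw [h9, neg_smul, one_smul, neg_eq_zero] at h
        exact h
    exact eq_neg_of_add_eq_zero_left h8
  · intro h9
    have := congrArg Fin.val h9
    simp only [Fin.val_castSucc, Fin.val_succ] at this
    omega
  · intro j _ hj
    rw [Function.comp_assoc, hdeg, smul_zero]
    intro hinj
    apply dup_face_other i j hj.1 hj.2
    intro x y hxy
    apply hinj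
    simp only [Function.comp_apply] at hxy ⊢
    rw [hxy]
  · intro h9; exact absurd (Finset.mem_univ _) h9
  · intro h9; exact absurd (Finset.mem_univ _) h9

/-- Vanishing propagates along all permutations. -/
theorem vanish_perm (φ : (Fin (m + 1) → ι) → A)
    (hcoc : ∀ c : Fin (m + 2) → ι, ∑ j : Fin (m + 2), (-1 : ℤ) ^ (j : ℕ) • φ (c ∘ j.succAbove) = 0)
    (hdeg : ∀ b, ¬ Function.Injective b → φ b = 0) (σ : Equiv.Perm (Fin (m + 1))) :
    ∀ b : Fin (m + 1) → ι, φ b = 0 → φ (b ∘ σ) = 0 := by
  have hσ : σ ∈ Submonoid.closure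
      (Set.range fun i : Fin m => Equiv.swap i.castSucc i.succ) := by
    rw [Equiv.Perm.mclosure_swap_castSucc_succ]
    trivial
  induction hσ using Submonoid.closure_induction with
  | mem x hx =>
    obtain ⟨i, rfl⟩ := hx
    intro b hb
    rw [alt_swap φ hcoc hdeg b i, hb, neg_zero]
  | one =>
    intro b hb
    exact hb
  | mul x y _ _ hx hy =>
    intro b hb
    have : b ∘ ⇑(x * y) = (b ∘ ⇑x) ∘ ⇑y := rfl
    rw [this]
    exact hy _ (hx _ hb)

end Groth.Agent.Helper26.AltCocycle
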