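import Mathlib

set_option linter.unusedSectionVars false
set_option autoImplicit false

namespace Groth.Agent.Helper26.EpsDet

variable {m : ℕ}

/-- incidence matrix of a tuple of indices. -/
def incM (b : Fin (m + 1) → Fin (m + 1)) : Matrix (Fin (m + 1)) (Fin (m + 1)) ℤ :=
  fun i k => if b k = i then 1 else 0

/-- the sign of a tuple: the determinant of its incidence matrix. -/
def eps (b : Fin (m + 1) → Fin (m + 1)) : ℤ := (incM b).det

theorem eps_id : eps (id : Fin (m + 1) → Fin (m + 1)) = 1 := by
  unfold eps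
  have : incM (id : Fin (m + 1) → Fin (m + 1)) = 1 := by
    ext i k
    unfold incM
    rw [Matrix.one_apply]
    simp [eq_comm]
  rw [this, Matrix.det_one]

theorem eps_of_not_surjective (b : Fin (m + 1) → Fin (m + 1)) (h : ¬ Function.Surjective b) :
    eps b = 0 := by
  unfold Function.Surjective at h
  push Not at h
  obtain ⟨i, hi⟩ := h
  unfold eps
  apply Matrix.det_eq_zero_of_row_eq_zero i
  intro k
  unfold incM
  rw [if_neg (hi k)]

theorem eps_of_not_injective (b : Fin (m + 1) → Fin (m + 1)) (h : ¬ Function.Injective b) :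
    eps b = 0 :=
  eps_of_not_surjective b (fun hs => h (Finite.injective_iff_surjective.2 hs))

/-- the bordered matrix. -/
def bordM (c : Fin (m + 2) → Fin (m + 1)) : Matrix (Fin (m + 2)) (Fin (m + 2)) ℤ :=
  fun r k => Fin.cases 1 (fun i => if c k = i then 1 else 0) r

theorem det_bordM (c : Fin (m + 2) → Fin (m + 1)) : (bordM c).det = 0 := by
  rw [← Matrix.exists_vecMul_eq_zero_iff]
  refine ⟨Fin.cases 1 (fun _ => -1), ?_, ?_⟩
  · intro h
    have := congrFun h 0
    simp at this
  · funext k
    rw [Matrix.vecMul, dotProduct, Fin.sum_univ_succ]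
    simp only [Fin.cases_zero, Fin.cases_succ, bordM, Pi.zero_apply]
    simp

theorem eps_cocycle (c : Fin (m + 2) → Fin (m + 1)) :
    ∑ j : Fin (m + 2), (-1 : ℤ) ^ (j : ℕ) * eps (c ∘ j.succAbove) = 0 := by
  have h := Matrix.det_succ_row_zero (bordM c)
  rw [det_bordM] at h
  rw [h]
  refine Finset.sum_congr rfl fun j _ => ?_
  have h1 : bordM c 0 j = 1 := rfl
  have h2 : (bordM c).submatrix Fin.succ j.succAbove = incM (c ∘ j.succAbove) := by
    ext i k
    rfl
  rw [h1, h2, mul_one]
  rfl

end Groth.Agent.Helper26.EpsDet
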