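import Mathlib
import Groth.Agent.Lib.Helper26.PnCech
import Groth.Agent.Lib.Helper26.AltCocycle
import Groth.Agent.Lib.Helper26.EpsDet

universe u
set_option linter.unusedSectionVars false
set_option linter.unusedVariables false
set_option autoImplicit false
open CategoryTheory CategoryTheory.Limits Opposite TopologicalSpace

namespace Groth.Agent.Helper26.PnCoh

open Groth.Agent.Helper24.CechEv Groth.Agent.Helper13.CechAcyc

section AbstractTop

variable {X : TopCat.{u}} {ι : Type u} (V : ι → Opens X) (P : (Opens X)ᵒᵖ ⥤ AddCommGrpCat.{u})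
  {Λ : Type*} [AddCommGroup Λ] (W : Opens X) (ρ : P.obj (op W) →+ Λ)
variable [Fintype ι] (Pk : ι → Λ →+ Λ) (hW : ∀ k, W ≤ V k) (N : Λ →+ Λ)

theorem δ_eq {k : ℕ} (j : Fin (k + 2)) :
    ⇑(SimplexCategory.δ j).toOrderHom = j.succAbove := rfl

/-- the expansion of the value of a cochain at a tuple. -/
noncomputable def thEv {k : ℕ} (b : Fin (k + 1) → ι) : (cech V P).X k →+ Λ :=
  (th P W ρ (Va V b) (W_le_Va V W hW b)).comp (evT V P (Va V b) b (Va_le V b))

theorem thEv_apply {k : ℕ} (b : Fin (k + 1) → ι) (s : (cech V P).X k) :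
    thEv V P W ρ hW b s =
      th P W ρ (Va V b) (W_le_Va V W hW b) (evT V P (Va V b) b (Va_le V b) s) := rfl

theorem th_evT {k : ℕ} (T : Opens X) (hT : W ≤ T) (b : Fin (k + 1) → ι) (h : ∀ j, T ≤ V (b j))
    (s : (cech V P).X k) :
    th P W ρ T hT (evT V P T b h s) = thEv V P W ρ hW b s := by
  have e1 := evT_res V P (le_Va V b h) b (Va_le V b) s
  rw [thEv_apply, ← e1, th_res]

theorem thEv_d {k : ℕ} (c : Fin (k + 2) → ι) (s : (cech V P).X k) :
    thEv V P W ρ hW c (((cech V P).d k (k + 1)).hom s) =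
      ∑ j : Fin (k + 2), (-1 : ℤ) ^ (j : ℕ) • thEv V P W ρ hW (c ∘ j.succAbove) s := by
  rw [thEv_apply, evT_d, map_sum]
  refine Finset.sum_congr rfl fun j _ => ?_
  rw [map_zsmul]
  congr 1
  exact th_evT V P W ρ hW _ _ _ _ s

/-- the contracting homotopy argument, for a single cocycle. -/
theorem exists_primitive_of_expansion' (n : ℕ)
    (Ha : ∀ (a : Fin (n + 1) → ι) (k : ι) (m : P.obj (op (V k ⊓ Va V a))),
      ∃ m' : P.obj (op (Va V a)), th P W ρ (Va V a) (W_le_Va V W hW a) m' =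
        Pk k (th P W ρ (V k ⊓ Va V a) (W_le_inf V W hW k a) m))
    (Hb1 : ∀ b : Fin (n + 2) → ι, Function.Injective (th P W ρ (Va V b) (W_le_Va V W hW b)))
    (s : (cech V P).X (n + 1)) (hs : ((cech V P).d (n + 1) (n + 2)).hom s = 0)
    (Hs : ∀ (b : Fin (n + 2) → ι),
      ∑ k, Pk k (thEv V P W ρ hW b s) = thEv V P W ρ hW b s) :
    ∃ t : (cech V P).X n, ((cech V P).d n (n + 1)).hom t = s := by
  classical
  have hWc : ∀ (k : ι) (a : Fin (n + 1) → ι) j,
      V k ⊓ Va V a ≤ V ((Fin.cons k a : Fin (n + 2) → ι) j) := fun k a =>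
    cons_le V k a inf_le_left (fun j => inf_le_right.trans (Va_le V a j))
  let tk : ∀ (k : ι) (a : Fin (n + 1) → ι), P.obj (op (V k ⊓ Va V a)) := fun k a =>
    evT V P (V k ⊓ Va V a) (Fin.cons k a) (hWc k a) s
  choose m' hm' using fun (ka : ι × (Fin (n + 1) → ι)) => Ha ka.2 ka.1 (tk ka.1 ka.2)
  obtain ⟨t, ht⟩ := exists_cochain V P (fun a => ∑ k, m' (k, a))
  refine ⟨t, ext_cochain V P _ _ fun b => ?_⟩
  apply Hb1 b
  rw [evT_d, map_sum]
  have key : ∀ j : Fin (n + 2),
      th P W ρ (Va V b) (W_le_Va V W hW b)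
        (evT V P (Va V b) (b ∘ (SimplexCategory.δ j).toOrderHom) (fun k => Va_le V b _) t) =
      ∑ k, Pk k (th P W ρ (V k ⊓ Va V b) (W_le_inf V W hW k b)
        (evT V P (V k ⊓ Va V b) (Fin.cons k (b ∘ (SimplexCategory.δ j).toOrderHom))
          (cons_le V k _ inf_le_left (fun i => inf_le_right.trans (Va_le V b _))) s)) := by
    intro j
    have hle : Va V b ≤ Va V (b ∘ (SimplexCategory.δ j).toOrderHom) :=
      le_Va V _ (fun i => Va_le V b _)
    have e1 := evT_res V P hle (b ∘ (SimplexCategory.δ j).toOrderHom) (Va_le V _) t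
    rw [← e1, ht, th_res, map_sum]
    refine Finset.sum_congr rfl fun k _ => ?_
    rw [hm' (k, b ∘ (SimplexCategory.δ j).toOrderHom)]
    congr 1
    have hle2 : V k ⊓ Va V b ≤ V k ⊓ Va V (b ∘ (SimplexCategory.δ j).toOrderHom) :=
      inf_le_inf_left _ hle
    have e2 := evT_res V P hle2 (Fin.cons k (b ∘ (SimplexCategory.δ j).toOrderHom))
      (hWc k _) s
    rw [← e2, th_res]
  have key2 : ∀ k : ι,
      th P W ρ (V k ⊓ Va V b) (W_le_inf V W hW k b)
        (evT V P (V k ⊓ Va V b) b (fun j => inf_le_right.trans (Va_le V b j)) s) =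
      th P W ρ (Va V b) (W_le_Va V W hW b) (evT V P (Va V b) b (Va_le V b) s) := by
    intro k
    have e3 := evT_res V P (inf_le_right : V k ⊓ Va V b ≤ Va V b) b (Va_le V b) s
    rw [← e3, th_res]
  have Hs' : ∑ k, Pk k (th P W ρ (Va V b) (W_le_Va V W hW b)
      (evT V P (Va V b) b (Va_le V b) s)) =
      th P W ρ (Va V b) (W_le_Va V W hW b) (evT V P (Va V b) b (Va_le V b) s) := Hs b
  rw [← Hs']
  simp only [map_zsmul, key, Finset.smul_sum]
  rw [Finset.sum_comm]
  refine Finset.sum_congr rfl fun k _ => ?_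
  rw [← key2 k, cocycle_cons V P s hs k b (V k ⊓ Va V b) inf_le_left
    (fun j => inf_le_right.trans (Va_le V b j)), map_sum, map_sum]
  refine Finset.sum_congr rfl fun j _ => ?_
  rw [map_zsmul, map_zsmul]

section Top

variable {m : ℕ} (e : ι ≃ Fin (m + 1))

/-- the top-degree functional: the negative part of the expansion at the distinguished tuple. -/
noncomputable def PhiTop : (cech V P).X m →+ Λ :=
  N.comp (thEv V P W ρ hW (e.symm : Fin (m + 1) → ι))

theorem PhiTop_apply (s : (cech V P).X m) :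
    PhiTop V P W ρ hW N e s = N (thEv V P W ρ hW (e.symm : Fin (m + 1) → ι) s) := rfl

/-- existence of a cocycle with prescribed negative part. -/
theorem exists_cocycle_top
    (Hb1 : ∀ c : Fin (m + 2) → ι, Function.Injective (th P W ρ (Va V c) (W_le_Va V W hW c)))
    (l : Λ) (hl : N l = l)
    (HS : ∀ b : Fin (m + 1) → ι, Function.Injective b →
      ∃ x : P.obj (op (Va V b)), th P W ρ (Va V b) (W_le_Va V W hW b) x = l) :
    ∃ s : (cech V P).X m, ((cech V P).d m (m + 1)).hom s = 0 ∧ PhiTop V P W ρ hW N e s = l := by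
  classical
  let xb : ∀ b : Fin (m + 1) → ι, P.obj (op (Va V b)) := fun b =>
    if h : Function.Injective b then (HS b h).choose else 0
  have hxb : ∀ b : Fin (m + 1) → ι, Function.Injective b →
      th P W ρ (Va V b) (W_le_Va V W hW b) (xb b) = l := by
    intro b h
    simp only [xb, dif_pos h]
    exact (HS b h).choose_spec
  obtain ⟨s, hs⟩ := exists_cochain V P (fun b => EpsDet.eps (e ∘ b) • xb b)
  have hth : ∀ b : Fin (m + 1) → ι, thEv V P W ρ hW b s = EpsDet.eps (e ∘ b) • l := by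
    intro b
    rw [thEv_apply, hs b, map_zsmul]
    by_cases h : Function.Injective b
    · rw [hxb b h]
    · have h' : ¬ Function.Injective (e ∘ b) := fun h2 => h (fun x y hxy => h2 (by
        simp only [Function.comp_apply, hxy]))
      rw [EpsDet.eps_of_not_injective _ h', zero_smul, zero_smul]
  refine ⟨s, ?_, ?_⟩
  · refine ext_cochain V P _ _ fun c => ?_
    apply Hb1 c
    have h1 := thEv_d V P W ρ hW c s
    rw [thEv_apply] at h1
    rw [h1, map_zero, map_zero]
    simp only [hth]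
    have h2 := EpsDet.eps_cocycle (e ∘ c)
    simp only [smul_smul]
    rw [← Finset.sum_smul]
    have h3 : ∑ j : Fin (m + 2), (-1 : ℤ) ^ (j : ℕ) * EpsDet.eps (e ∘ c ∘ j.succAbove) = 0 := h2
    rw [h3, zero_smul]
  · rw [PhiTop_apply, hth]
    have h4 : (e ∘ (e.symm : Fin (m + 1) → ι)) = id := by
      funext x
      simp
    rw [h4, EpsDet.eps_id, one_smul, hl]

end Top

section TopSucc

variable (n : ℕ) (e : ι ≃ Fin (n + 2))

theorem PhiTop_d
    (HN3 : ∀ (a : Fin (n + 1) → ι) (x : P.obj (op (Va V a))),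
      N (th P W ρ (Va V a) (W_le_Va V W hW a) x) = 0)
    (t : (cech V P).X n) :
    PhiTop V P W ρ hW N e (((cech V P).d n (n + 1)).hom t) = 0 := by
  rw [PhiTop_apply, thEv_d, map_sum]
  refine Finset.sum_eq_zero fun j _ => ?_
  rw [map_zsmul, thEv_apply, HN3, smul_zero]

theorem exists_primitive_top
    (Ha : ∀ (a : Fin (n + 1) → ι) (k : ι) (m : P.obj (op (V k ⊓ Va V a))),
      ∃ m' : P.obj (op (Va V a)), th P W ρ (Va V a) (W_le_Va V W hW a) m' =
        Pk k (th P W ρ (V k ⊓ Va V a) (W_le_inf V W hW k a) m))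
    (Hb1 : ∀ b : Fin (n + 2) → ι, Function.Injective (th P W ρ (Va V b) (W_le_Va V W hW b)))
    (HN1 : ∀ (b : Fin (n + 2) → ι) (x : P.obj (op (Va V b))),
      ∑ k, Pk k (th P W ρ (Va V b) (W_le_Va V W hW b) x) +
        N (th P W ρ (Va V b) (W_le_Va V W hW b) x) = th P W ρ (Va V b) (W_le_Va V W hW b) x)
    (HN2 : ∀ (b : Fin (n + 2) → ι), ¬ Function.Injective b → ∀ x : P.obj (op (Va V b)),
      N (th P W ρ (Va V b) (W_le_Va V W hW b) x) = 0)
    (s : (cech V P).X (n + 1)) (hs : ((cech V P).d (n + 1) (n + 2)).hom s = 0)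
    (hΦ : PhiTop V P W ρ hW N e s = 0) :
    ∃ t : (cech V P).X n, ((cech V P).d n (n + 1)).hom t = s := by
  classical
  refine exists_primitive_of_expansion' V P W ρ Pk hW n Ha Hb1 s hs ?_
  intro b
  have hN : N (thEv V P W ρ hW b s) = 0 := by
    let φ : (Fin (n + 2) → ι) → Λ := fun b => N (thEv V P W ρ hW b s)
    have hcoc : ∀ c : Fin (n + 3) → ι,
        ∑ j : Fin (n + 3), (-1 : ℤ) ^ (j : ℕ) • φ (c ∘ j.succAbove) = 0 := by
      intro c
      have h1 := thEv_d V P W ρ hW c s
      rw [hs, map_zero] at h1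
      have h2 := congrArg N h1
      rw [map_zero, map_sum] at h2
      simp only [map_zsmul] at h2
      exact h2.symm
    have hdeg : ∀ b, ¬ Function.Injective b → φ b = 0 := fun b hb => HN2 b hb _
    by_cases hb : Function.Injective b
    · have hbij : Function.Bijective (e ∘ b) :=
        (Fintype.bijective_iff_injective_and_card _).2 ⟨e.injective.comp hb, by simp⟩
      let σ : Equiv.Perm (Fin (n + 2)) := Equiv.ofBijective _ hbij
      have h3 := AltCocycle.vanish_perm φ hcoc hdeg σ (e.symm : Fin (n + 2) → ι) hΦ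
      have h4 : (e.symm : Fin (n + 2) → ι) ∘ σ = b := by
        funext x
        simp [σ]
      rw [h4] at h3
      exact h3
    · exact hdeg b hb
  have h5 := HN1 b (evT V P (Va V b) b (Va_le V b) s)
  rw [← thEv_apply, hN, add_zero] at h5
  exact h5

end TopSucc

section TopZero

variable (e : ι ≃ Fin 1)

theorem eq_zero_of_PhiTop_zero
    (Hb1 : ∀ b : Fin 1 → ι, Function.Injective (th P W ρ (Va V b) (W_le_Va V W hW b)))
    (H0 : ∀ (b : Fin 1 → ι) (x : P.obj (op (Va V b))),
      N (th P W ρ (Va V b) (W_le_Va V W hW b) x) = th P W ρ (Va V b) (W_le_Va V W hW b) x)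
    (s : (cech V P).X 0) (hΦ : PhiTop V P W ρ hW N e s = 0) : s = 0 := by
  refine ext_cochain V P _ _ fun b => ?_
  apply Hb1 b
  have hb : b = (e.symm : Fin 1 → ι) := by
    funext x
    apply e.injective
    exact Subsingleton.elim _ _
  rw [map_zero, map_zero, ← H0, ← thEv_apply, hb]
  exact hΦ

end TopZero

end AbstractTop

end Groth.Agent.Helper26.PnCoh
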