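import Mathlib
import Groth.Agent.Lib.Helper26.PnCoh1
import Groth.Agent.Lib.Helper26.PnGlob
import Groth.Agent.Lib.Helper26.PnLaurent3
import Groth.Agent.Lib.Helper26.PnTop
import Groth.Agent.Lib.Helper26.HomFun
import Groth.Agent.Lib.Helper26.CechNat

set_option autoImplicit false
set_option linter.unusedSectionVars false
set_option linter.unusedVariables false
universe u
open CategoryTheory CategoryTheory.Limits AlgebraicGeometry Opposite TopologicalSpace TopCat
open Twist Coherent Groth.Agent.Helper28.TwistMul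
open Groth.Agent.Helper24.CechEv Groth.Agent.Helper13.CechAcyc

namespace Groth.Agent.Helper26.PnCoh

section Smul

variable (n : ℕ) (R : Type u) [CommRing R] (d : ℤ)

/-- the action of a global function on sections of `O(d)` over any open, pointwise. -/
theorem smulAb_val (c : Coh.Γtop (CohB1.ProjSpace n R))
    (T : Opens (ProjectiveSpectrum.top (CohB1.polyGrading n R)))
    (m : sectN (𝒜 := CohB1.polyGrading n R) d (op T)) (y : T) :
    (((((Coh.smulAb (Twist.twistProjSpace n R d) c).hom.app (op T) m :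
        sectN (𝒜 := CohB1.polyGrading n R) d (op T)).1 y).1 : Loc (CohB1.polyGrading n R) y.1)) =
      ((c : (ProjectiveSpectrum.Proj.structureSheaf (CohB1.polyGrading n R)).1.obj (op ⊤)).1
        ⟨y.1, trivial⟩).val * ((m.1 y).1 : Loc (CohB1.polyGrading n R) y.1) := by
  have h3 := Coh.smulAb_app (Twist.twistProjSpace n R d) c (op T) m
  have h5 := congrArg (fun s : sectN (𝒜 := CohB1.polyGrading n R) d (op T) =>
    ((s.1 y).1 : Loc (CohB1.polyGrading n R) y.1)) h3
  refine h5.trans ?_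
  exact Twist.coe_smul_val d y.1 _ _

variable {n R}

theorem C_mul_mem {j : ℕ} (r : R) {b : MvPolynomial (Fin (n + 1)) R}
    (hb : b ∈ CohB1.polyGrading n R j) :
    MvPolynomial.C r * b ∈ CohB1.polyGrading n R j := by
  rw [MvPolynomial.C_mul']
  exact Submodule.smul_mem _ r hb

/-- the action of `r ∈ R` on a fraction. -/
theorem smulAb_fracSec (r : R) (T : Opens (ProjectiveSpectrum.top (CohB1.polyGrading n R)))
    {i j : ℕ} (b : MvPolynomial (Fin (n + 1)) R) (hb : b ∈ CohB1.polyGrading n R i)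
    (s : MvPolynomial (Fin (n + 1)) R) (hs : s ∈ CohB1.polyGrading n R j)
    (hij : (i : ℤ) = j + d) (nin : ∀ x : T, s ∉ x.1.asHomogeneousIdeal) :
    ((Coh.smulAb (Twist.twistProjSpace n R d)
        (Coh.toGlobal (CohB1.ProjSpace.toSpec n R) r)).hom.app (op T)
      (fracSec d T b hb s hs hij nin) : sectN (𝒜 := CohB1.polyGrading n R) d (op T)) =
      fracSec d T (MvPolynomial.C r * b) (C_mul_mem r hb) s hs hij nin := by
  apply sectN_ext
  intro y
  have h1 := smulAb_val n R d (Coh.toGlobal (CohB1.ProjSpace.toSpec n R) r) T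
    (fracSec d T b hb s hs hij nin) y
  refine h1.trans ?_
  have h2 := toGlobal_val n R r y.1
  have h3 := congrArg (fun z : Loc (CohB1.polyGrading n R) y.1 =>
    z * Localization.mk b ⟨s, nin y⟩) h2
  refine Eq.trans ?_ (h3.trans ?_)
  · rfl
  · change _ = Localization.mk (MvPolynomial.C r * b) ⟨s, nin y⟩
    rw [Localization.mk_mul]
    congr 1
    exact one_mul _

/-- the Laurent expansion is `R`-linear. -/
theorem theta_smul {J : Finset (Fin (n + 1))} (hJ : J.Nonempty) (r : R)
    (hWJ : DP (CohB1.polyGrading n R) (gI R (Uall n)) ≤ DP (CohB1.polyGrading n R) (gI R J))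
    (σ : sectN (𝒜 := CohB1.polyGrading n R) d (op (DP (CohB1.polyGrading n R) (gI R J)))) :
    rho d (resN d (homOfLE hWJ).op
      ((Coh.smulAb (Twist.twistProjSpace n R d)
        (Coh.toGlobal (CohB1.ProjSpace.toSpec n R) r)).hom.app
          (op (DP (CohB1.polyGrading n R) (gI R J))) σ :
        sectN (𝒜 := CohB1.polyGrading n R) d (op (DP (CohB1.polyGrading n R) (gI R J))))) =
      r • rho d (resN d (homOfLE hWJ).op σ) := by
  have h := exists_frac_J hJ d σ
  obtain ⟨k, h⟩ := h
  obtain ⟨j, h⟩ := h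
  obtain ⟨b, h⟩ := h
  obtain ⟨hb, h⟩ := h
  obtain ⟨hij, hσ⟩ := h
  subst hσ
  rw [smulAb_fracSec, theta_frac, theta_frac, sh_C_mul]

end Smul

section TopDeg

variable (n : ℕ) (R : Type u) [CommRing R] (d : ℤ)

/-- the top-degree functional on Čech cochains of `O(d)` for the standard cover. -/
noncomputable def PhiC :
    (cech (Vst n R) (twistPre (CohB1.polyGrading n R) d)).X n →+ Lam n R :=
  PhiTop (Vst n R) (twistPre (CohB1.polyGrading n R) d) (Wst n R) (rhoP n R d) (Wst_le n R)
    Nv (Equiv.ulift : ULift.{u} (Fin (n + 1)) ≃ Fin (n + 1))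

variable {n R d}

theorem thb_inL {m : ℕ} (b : Fin (m + 1) → ULift.{u} (Fin (n + 1)))
    (x : (twistPre (CohB1.polyGrading n R) d).obj (op (Va (Vst n R) b))) :
    InL d (imJ b) (th (twistPre (CohB1.polyGrading n R) d) (Wst n R) (rhoP n R d)
      (Va (Vst n R) b) (W_le_Va (Vst n R) (Wst n R) (Wst_le n R) b) x) :=
  thJ_inL (d := d) (imJ_nonempty b) _ (Va_eq b)
    (W_le_Va (Vst n R) (Wst n R) (Wst_le n R) b) x

theorem imJ_eq_univ_of_injective (b : Fin (n + 1) → ULift.{u} (Fin (n + 1)))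
    (hb : Function.Injective b) : imJ b = Finset.univ := by
  apply Finset.eq_univ_of_card
  unfold imJ
  rw [Finset.card_image_of_injective _ (fun x y h => hb (ULift.ext _ _ h))]
  simp

theorem imJ_ne_univ_of_not_injective (b : Fin (n + 1) → ULift.{u} (Fin (n + 1)))
    (hb : ¬ Function.Injective b) : imJ b ≠ Finset.univ := by
  intro h
  apply hb
  have h1 : Function.Surjective (fun k => (b k).down) := by
    intro i
    have : i ∈ imJ b := by rw [h]; exact Finset.mem_univ i
    obtain ⟨k, -, hk⟩ := Finset.mem_image.1 this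
    exact ⟨k, hk⟩
  have h2 : Function.Injective (fun k => (b k).down) := Finite.injective_iff_surjective.2 h1
  intro x y hxy
  exact h2 (congrArg ULift.down hxy)

theorem imJ_ne_univ_of_short {m : ℕ} (hm : m < n) (a : Fin (m + 1) → ULift.{u} (Fin (n + 1))) :
    imJ a ≠ Finset.univ := by
  intro hcon
  have h2 := imJ_card_le a
  rw [hcon, Finset.card_univ, Fintype.card_fin] at h2
  omega

theorem PhiC_mem (s : (cech (Vst n R) (twistPre (CohB1.polyGrading n R) d)).X n) :
    PhiC n R d s ∈ LamNeg n R d := by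
  apply mem_LamNeg_of
  · apply inL_Nv
    exact inL_mono (Finset.subset_univ _) (thb_inL _ _)
  · exact Nv_Nv _

theorem PhiC_surj {l : Lam n R} (hl : l ∈ LamNeg n R d) :
    ∃ s : (cech (Vst n R) (twistPre (CohB1.polyGrading n R) d)).X n,
      ((cech (Vst n R) (twistPre (CohB1.polyGrading n R) d)).d n (n + 1)).hom s = 0 ∧
        PhiC n R d s = l := by
  refine exists_cocycle_top (Vst n R) (twistPre (CohB1.polyGrading n R) d) (Wst n R)
    (rhoP n R d) (Wst_le n R) Nv _ ?_ l (Nv_of_mem_LamNeg hl) ?_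
  · intro c
    exact thJ_inj (imJ_nonempty c) _ (Va_eq c) _
  · intro b hb
    have h1 : InL d (imJ b) l := by
      rw [imJ_eq_univ_of_injective b hb]
      exact inL_of_mem_LamNeg hl
    exact thJ_surj (imJ_nonempty b) _ (Va_eq b) _ h1

theorem sum_PkU_add_Nv (l : Lam n R) : ∑ k, PkU n R k l + Nv l = l := by
  have h1 : ∑ k : ULift.{u} (Fin (n + 1)), PkU n R k l = ∑ v : Fin (n + 1), Pv v l :=
    Fintype.sum_equiv Equiv.ulift _ _ (fun k => rfl)
  rw [h1, sum_Pv_add_Nv]

end TopDeg

section TopSucc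

variable (q : ℕ) (R : Type u) [CommRing R] (d : ℤ)

theorem PhiC_d (t : (cech (Vst (q + 1) R) (twistPre (CohB1.polyGrading (q + 1) R) d)).X q) :
    PhiC (q + 1) R d
      (((cech (Vst (q + 1) R) (twistPre (CohB1.polyGrading (q + 1) R) d)).d q (q + 1)).hom t) =
        0 := by
  refine PhiTop_d (Vst (q + 1) R) (twistPre (CohB1.polyGrading (q + 1) R) d) (Wst (q + 1) R)
    (rhoP (q + 1) R d) (Wst_le (q + 1) R) Nv q _ ?_ t
  intro a x
  apply Nv_eq_zero_of_good
  exact good_of_ne_univ (thb_inL a x) (imJ_ne_univ_of_short (Nat.lt_succ_self q) a)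

theorem PhiC_primitive
    (s : (cech (Vst (q + 1) R) (twistPre (CohB1.polyGrading (q + 1) R) d)).X (q + 1))
    (hs : ((cech (Vst (q + 1) R) (twistPre (CohB1.polyGrading (q + 1) R) d)).d
      (q + 1) (q + 2)).hom s = 0)
    (hΦ : PhiC (q + 1) R d s = 0) :
    ∃ t : (cech (Vst (q + 1) R) (twistPre (CohB1.polyGrading (q + 1) R) d)).X q,
      ((cech (Vst (q + 1) R) (twistPre (CohB1.polyGrading (q + 1) R) d)).d q (q + 1)).hom t =
        s := by
  classical
  refine exists_primitive_top (Vst (q + 1) R) (twistPre (CohB1.polyGrading (q + 1) R) d)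
    (Wst (q + 1) R) (rhoP (q + 1) R d) (PkU (q + 1) R) (Wst_le (q + 1) R) Nv q _ ?_ ?_ ?_ ?_
    s hs hΦ
  · intro a k m
    have h1 := thJ_inL (d := d) (Finset.insert_nonempty k.down (imJ a)) _ (inf_Va_eq k a)
      (W_le_inf (Vst (q + 1) R) (Wst (q + 1) R) (Wst_le (q + 1) R) k a) m
    exact thJ_surj (imJ_nonempty a) _ (Va_eq a) _ (inL_Pv h1)
  · intro b
    exact thJ_inj (imJ_nonempty b) _ (Va_eq b) _
  · intro b x
    exact sum_PkU_add_Nv _
  · intro b hb x
    apply Nv_eq_zero_of_good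
    exact good_of_ne_univ (thb_inL b x) (imJ_ne_univ_of_not_injective b hb)

end TopSucc

section TopZero

variable (R : Type u) [CommRing R] (d : ℤ)

theorem PhiC_zero_inj (hd : d < 0)
    (s : (cech (Vst 0 R) (twistPre (CohB1.polyGrading 0 R) d)).X 0)
    (hΦ : PhiC 0 R d s = 0) : s = 0 := by
  refine eq_zero_of_PhiTop_zero (Vst 0 R) (twistPre (CohB1.polyGrading 0 R) d)
    (Wst 0 R) (rhoP 0 R d) (Wst_le 0 R) Nv _ ?_ ?_ s hΦ
  · intro b
    exact thJ_inj (imJ_nonempty b) _ (Va_eq b) _
  · intro b x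
    apply Nv_eq_self
    intro e he i
    have h1 := (thb_inL b x e he).1
    have h2 : ∑ j : Fin (0 + 1), e j = e i := by
      have h3 : i = (0 : Fin (0 + 1)) := Fin.ext (by omega)
      rw [h3]
      exact Fin.sum_univ_one (fun j => e j)
    rw [h2] at h1
    omega

end TopZero

section Lin

variable (n : ℕ) (R : Type u) [CommRing R] (d : ℤ)

/-- multiplication by `r ∈ R` on the presheaf underlying `O(d)`. -/
noncomputable def smulPre (r : R) :
    twistPre (CohB1.polyGrading n R) d ⟶ twistPre (CohB1.polyGrading n R) d :=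
  (Coh.smulAb (Twist.twistProjSpace n R d) (Coh.toGlobal (CohB1.ProjSpace.toSpec n R) r)).hom

variable {n R d}

theorem thJ_smul {J : Finset (Fin (n + 1))} (hJ : J.Nonempty)
    (T : Opens (ProjectiveSpectrum.top (CohB1.polyGrading n R)))
    (hT : T = DP (CohB1.polyGrading n R) (gI R J)) (hWT : Wst n R ≤ T) (r : R)
    (m : (twistPre (CohB1.polyGrading n R) d).obj (op T)) :
    th (twistPre (CohB1.polyGrading n R) d) (Wst n R) (rhoP n R d) T hWT
        (((smulPre n R d r).app (op T)).hom m) =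
      r • th (twistPre (CohB1.polyGrading n R) d) (Wst n R) (rhoP n R d) T hWT m := by
  subst hT
  rw [th_eq, th_eq]
  exact theta_smul d hJ r hWT m

theorem PhiC_smul (r : R) (s : (cech (Vst n R) (twistPre (CohB1.polyGrading n R) d)).X n) :
    PhiC n R d ((((cechComplexFunctor (Vst n R)).map (smulPre n R d r)).f n).hom s) =
      r • PhiC n R d s := by
  unfold PhiC
  rw [PhiTop_apply, PhiTop_apply, thEv_apply, thEv_apply, evT_map,
    thJ_smul (imJ_nonempty _) _ (Va_eq _), Nv_smul]

end Lin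

section Final

variable (n : ℕ) (R : Type u) [CommRing R] (d : ℤ)

/-- the top Čech cohomology of `O(d)`, `d < 0`, on `P^n` for the standard cover. -/
theorem exists_cechTop_equiv (hd : d < 0) :
    ∃ Ψ : CohTop.cechH (twistPre (CohB1.polyGrading n R) d) (Vst n R) n ≃+ LamNeg n R d,
      ∀ (r : R) (y : CohTop.cechH (twistPre (CohB1.polyGrading n R) d) (Vst n R) n),
        Ψ (CechNat.cechMapTop (Vst n R) (smulPre n R d r) n y) = r • Ψ y := by
  classical
  let K := cech (Vst n R) (twistPre (CohB1.polyGrading n R) d)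
  obtain ⟨i, hi, h1, h2⟩ : ∃ i : ℕ, (ComplexShape.up ℕ).prev n = i ∧
      (∀ t : K.X i, PhiC n R d ((K.d i n).hom t) = 0) ∧
      (∀ x : K.X n, (K.d n (n + 1)).hom x = 0 → PhiC n R d x = 0 →
        ∃ t : K.X i, (K.d i n).hom t = x) := by
    rcases n with _ | q
    · refine ⟨0, CochainComplex.prev_nat_zero, ?_, ?_⟩
      · intro t
        have h0 : K.d 0 0 = 0 := K.shape 0 0 (by simp)
        rw [h0]
        exact map_zero _
      · intro x _ hx
        refine ⟨0, ?_⟩
        rw [map_zero]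
        exact (PhiC_zero_inj R d hd x hx).symm
    · refine ⟨q, CochainComplex.prev_nat_succ q, ?_, ?_⟩
      · intro t
        exact PhiC_d q R d t
      · intro x hx hΦ
        exact PhiC_primitive q R d x hx hΦ
  obtain ⟨Ψ₀, hΨ₀⟩ := HomFun.exists_desc K n i hi (PhiC n R d) h1
  have hinj := HomFun.desc_injective K n i hi (PhiC n R d) Ψ₀ hΨ₀ h2
  have hmem : ∀ y, Ψ₀ y ∈ LamNeg n R d := by
    intro y
    obtain ⟨x, -, hx⟩ := (HomFun.desc_range K n (PhiC n R d) Ψ₀ hΨ₀ (Ψ₀ y)).1 ⟨y, rfl⟩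
    rw [← hx]
    exact PhiC_mem x
  have hsurj : ∀ l ∈ LamNeg n R d, ∃ y, Ψ₀ y = l := by
    intro l hl
    obtain ⟨x, hx, hxl⟩ := PhiC_surj hl
    exact (HomFun.desc_range K n (PhiC n R d) Ψ₀ hΨ₀ l).2 ⟨x, hx, hxl⟩
  let Ψ₁ : K.homology n →+ LamNeg n R d := Ψ₀.codRestrict (LamNeg n R d) hmem
  have hbij : Function.Bijective Ψ₁ := by
    constructor
    · intro y y' h
      exact hinj (congrArg Subtype.val h)
    · intro l
      obtain ⟨y, hy⟩ := hsurj l.1 l.2
      exact ⟨y, Subtype.ext hy⟩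
  refine ⟨AddEquiv.ofBijective Ψ₁ hbij, ?_⟩
  intro r y
  apply Subtype.ext
  have h3 := HomFun.desc_natural K n (PhiC n R d) Ψ₀ hΨ₀
    ((cechComplexFunctor (Vst n R)).map (smulPre n R d r))
    (DistribSMul.toAddMonoidHom (Lam n R) r) (fun x => PhiC_smul r x) y
  exact h3

end Final

end Groth.Agent.Helper26.PnCoh
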