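import Mathlib
import Groth.Agent.Lib.Helper26.PnTopC
import Groth.Agent.Lib.Helper26.PnCoh2
import Groth.Agent.Lib.Helper26.CechLin

set_option autoImplicit false
set_option linter.unusedSectionVars false
set_option linter.unusedVariables false
universe u
open CategoryTheory CategoryTheory.Limits AlgebraicGeometry Opposite TopologicalSpace TopCat
open Twist Coherent

namespace Groth.Agent.Helper26.PnCoh

variable (n : ℕ) (R : Type u) [CommRing R]

set_option maxHeartbeats 800000 in
/-- `Hⁿ(P^n_R, O(d))`, `d < 0`, is the module of all-negative Laurent polynomials of degree `d`,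
additively and compatibly with the action of `R`. -/
theorem exists_top_equiv (d : ℤ) (hd : d < 0) :
    ∃ F : Coh.HH (CohB1.ProjSpace n R) (Twist.twistProjSpace n R d) n ≃+ LamNeg n R d,
      ∀ (r : R) (x : Coh.HH (CohB1.ProjSpace n R) (Twist.twistProjSpace n R d) n),
        F (r • x) = r • F x := by
  obtain ⟨c, hc1, hc2⟩ := CechNat.exists_comparison_scheme (CohB1.ProjSpace n R) (Ust n R)
    (Ust_cov n R) (Ust_affine n R)
  obtain ⟨Ψ, hΨ⟩ := exists_cechTop_equiv n R d hd
  have hb := hc2 (Twist.twistProjSpace n R d) n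
  let cE : CohTop.cechH (twistPre (CohB1.polyGrading n R) d) (Vst n R) n ≃+
      Coh.HH (CohB1.ProjSpace n R) (Twist.twistProjSpace n R d) n :=
    AddEquiv.ofBijective (c (Twist.twistProjSpace n R d) n) hb
  refine ⟨cE.symm.trans Ψ, ?_⟩
  intro r x
  obtain ⟨y, rfl⟩ := cE.surjective x
  have h1 : r • cE y = cE (CechNat.cechMapTop (Vst n R) (smulPre n R d r) n y) :=
    (hc1 (Twist.twistProjSpace n R d) (Twist.twistProjSpace n R d)
      (Coh.smulAb (Twist.twistProjSpace n R d) (Coh.toGlobal (CohB1.ProjSpace.toSpec n R) r))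
      n y).symm
  rw [h1]
  simp only [AddEquiv.trans_apply, AddEquiv.symm_apply_apply]
  exact hΨ r y

end Groth.Agent.Helper26.PnCoh
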