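import Mathlib
import Groth.Agent.Lib.Helper5.K0Coh
import Groth.Agent.Lib.Helper13.QCohFin
import Groth.Agent.Lib.Helper28.CohSub

set_option autoImplicit false
set_option linter.unusedSectionVars false
set_option linter.style.haveILetI false
universe u
open CategoryTheory CategoryTheory.Limits AlgebraicGeometry Opposite TopologicalSpace

namespace Groth.Agent.Helper26.DevA

variable {X : Scheme.{u}}

/-- `C` is isomorphic to the direct image of a nonzero quasi-coherent ideal of an integral closed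
subscheme. -/
def Step (C : X.Modules) : Prop :=
  ∃ (Z : Scheme.{u}) (i : Z ⟶ X), IsClosedImmersion i ∧ IsIntegral Z ∧
    ∃ (I : Z.Modules) (ι : I ⟶ Coh.structureModule Z), Mono ι ∧ Coh.IsQCoh I ∧ ¬ IsZero I ∧
      Nonempty (C ≅ (Coh.push i).obj I)

lemma Step.of_iso {C C' : X.Modules} (e : C ≅ C') (h : Step C) : Step C' := by
  obtain ⟨Z, i, h1, h2, I, ι, h3, h4, h5, ⟨θ⟩⟩ := h
  exact ⟨Z, i, h1, h2, I, ι, h3, h4, h5, ⟨e.symm ≪≫ θ⟩⟩

/-- modules admitting a finite filtration with successive quotients of the form `i_* I`. -/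
inductive Good : X.Modules → Prop
  | zero (M : X.Modules) : IsZero M → Good M
  | step {M' M : X.Modules} (φ : M' ⟶ M) : Mono φ → Good M' → Coh.IsCoh M → Step (cokernel φ) →
      Good M

lemma Good.isCoh {M : X.Modules} (h : Good M) : Coh.IsCoh M := by
  cases h with
  | zero _ hM => exact Groth.Agent.Helper5.K0Coh.isCoh_of_isZero hM
  | step _ _ _ hM _ => exact hM

lemma Good.of_iso {M N : X.Modules} (h : Good M) (e : M ≅ N) : Good N := by
  cases h with
  | zero _ hM => exact Good.zero _ (hM.of_iso e.symm)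
  | step φ hφ hM' hM hst =>
    haveI := hφ
    refine Good.step (φ ≫ e.hom) (mono_comp _ _) hM'
      (Groth.Agent.Helper5.K0Coh.isCoh_of_iso e hM) (hst.of_iso ?_)
    exact cokernel.mapIso φ (φ ≫ e.hom) (Iso.refl _) e (by simp)

section Pullback

variable {C : Type*} [Category C] [Abelian C] {M M'' M₁'' : C} (g : M ⟶ M'') [Epi g]
  (ψ : M₁'' ⟶ M'') [Mono ψ]

/-- the inclusion of the kernel of `g` into the pullback of a subobject along `g`. -/
noncomputable def kerToPb : kernel g ⟶ pullback ψ g :=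
  pullback.lift 0 (kernel.ι g) (by simp)

@[reassoc (attr := simp)]
lemma kerToPb_fst : kerToPb g ψ ≫ pullback.fst ψ g = 0 := by
  unfold kerToPb; exact pullback.lift_fst _ _ _

@[reassoc (attr := simp)]
lemma kerToPb_snd : kerToPb g ψ ≫ pullback.snd ψ g = kernel.ι g := by
  unfold kerToPb; exact pullback.lift_snd _ _ _

instance : Mono (kerToPb g ψ) := mono_of_mono_fac (kerToPb_snd g ψ)

/-- `0 → ker g → ψ ×_{M''} M → M₁'' → 0` is short exact. -/
lemma shortExact_pb :
    (ShortComplex.mk (kerToPb g ψ) (pullback.fst ψ g) (kerToPb_fst g ψ)).ShortExact := by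
  haveI : Epi (pullback.fst ψ g) := Abelian.epi_pullback_of_epi_g ψ g
  refine ShortComplex.ShortExact.mk' ?_ (by dsimp; infer_instance) (by dsimp; infer_instance)
  apply ShortComplex.exact_of_f_is_kernel
  have hz : ∀ {T : C} (t : T ⟶ pullback ψ g), t ≫ pullback.fst ψ g = 0 →
      (t ≫ pullback.snd ψ g) ≫ g = 0 := by
    intro T t ht
    rw [Category.assoc, ← pullback.condition, ← Category.assoc, ht, zero_comp]
  refine KernelFork.IsLimit.ofι _ _
    (fun {T} t ht => kernel.lift g (t ≫ pullback.snd ψ g) (hz t ht)) ?_ ?_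
  · intro T t ht
    apply pullback.hom_ext
    · rw [Category.assoc]
      exact (congrArg (fun z => _ ≫ z) (kerToPb_fst g ψ)).trans (comp_zero.trans ht.symm)
    · rw [Category.assoc]
      exact (congrArg (fun z => _ ≫ z) (kerToPb_snd g ψ)).trans (kernel.lift_ι _ _ _)
  · intro T t ht t' ht'
    rw [← cancel_mono (kernel.ι g), kernel.lift_ι, ← ht', Category.assoc]
    exact (congrArg (fun z => t' ≫ z) (kerToPb_snd g ψ)).symm

/-- `ψ ×_{M''} M ⟶ M` is a kernel of `M ⟶ M'' ⟶ coker ψ`. -/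
noncomputable def isKernelPbSnd :
    IsLimit (KernelFork.ofι (f := g ≫ cokernel.π ψ) (pullback.snd ψ g)
      (by rw [← Category.assoc, ← pullback.condition, Category.assoc, cokernel.condition,
        comp_zero])) := by
  have hz : ∀ {T : C} (t : T ⟶ M), t ≫ g ≫ cokernel.π ψ = 0 → (t ≫ g) ≫ cokernel.π ψ = 0 := by
    intro T t ht
    rw [Category.assoc, ht]
  refine KernelFork.IsLimit.ofι _ _
    (fun {T} t ht => pullback.lift (Abelian.monoLift ψ (t ≫ g) (hz t ht)) t
      (Abelian.monoLift_comp _ _ _)) ?_ ?_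
  · intro T t ht
    exact pullback.lift_snd _ _ _
  · intro T t ht t' ht'
    haveI : Mono (pullback.snd ψ g) := pullback.snd_of_mono
    rw [← cancel_mono (pullback.snd ψ g), pullback.lift_snd, ht']

/-- `coker (ψ ×_{M''} M ⟶ M) ≅ coker ψ`. -/
noncomputable def cokernelPbSndIso : cokernel (pullback.snd ψ g) ≅ cokernel ψ :=
  haveI : Epi (g ≫ cokernel.π ψ) := epi_comp _ _
  IsColimit.coconePointUniqueUpToIso (cokernelIsCokernel (pullback.snd ψ g))
    (Abelian.epiIsCokernelOfKernel _ (isKernelPbSnd g ψ))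

end Pullback

lemma isCoh_pullback [IsLocallyNoetherian X] {M M'' M₁'' : X.Modules} (g : M ⟶ M'')
    (ψ : M₁'' ⟶ M'') [Mono ψ] (hM : Coh.IsCoh M) (hM'' : Coh.IsCoh M'') (hM₁'' : Coh.IsCoh M₁'') :
    Coh.IsCoh (pullback ψ g) := by
  haveI : M.IsQuasicoherent := hM.1
  haveI : SheafOfModules.IsFiniteType (R := X.ringCatSheaf) M := hM.2
  haveI : M''.IsQuasicoherent := hM''.1
  haveI : M₁''.IsQuasicoherent := hM₁''.1
  haveI : (pullback ψ g).IsQuasicoherent := Groth.Agent.Helper13.QCohFin.isQuasicoherent_pullback ψ g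
  haveI : Mono (pullback.snd ψ g) := pullback.snd_of_mono
  exact ⟨inferInstance, Groth.Agent.Helper28.CohSub.isFiniteType_of_mono (pullback.snd ψ g)⟩

/-- extensions of good modules are good. -/
theorem Good.ext [IsLocallyNoetherian X] {M'' : X.Modules} (h'' : Good M'') :
    ∀ {M' M : X.Modules} (f : M' ⟶ M) (g : M ⟶ M'') (w : f ≫ g = 0),
      (ShortComplex.mk f g w).ShortExact → Good M' → Coh.IsCoh M → Good M := by
  induction h'' with
  | zero M'' hz =>
    intro M' M f g w hS hM' hM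
    haveI : Mono f := hS.mono_f
    haveI : Epi f := hS.exact.epi_f (hz.eq_of_tgt _ _)
    haveI : IsIso f := isIso_of_mono_of_epi f
    exact hM'.of_iso (asIso f)
  | step ψ hψ hM₁'' hcoh hst ih =>
    intro M' M f g w hS hM' hM
    haveI := hψ
    haveI : Epi g := hS.epi_g
    haveI : Mono f := hS.mono_f
    -- `M' ≅ ker g`
    let e : M' ≅ kernel g :=
      IsLimit.conePointUniqueUpToIso hS.fIsKernel (limit.isLimit (parallelPair g 0))
    have hP : Good (pullback ψ g) :=
      ih (kerToPb g ψ) (pullback.fst ψ g) (kerToPb_fst g ψ) (shortExact_pb g ψ) (hM'.of_iso e)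
        (isCoh_pullback g ψ hM hcoh hM₁''.isCoh)
    exact Good.step (pullback.snd ψ g) pullback.snd_of_mono hP hM
      (hst.of_iso (cokernelPbSndIso g ψ).symm)

lemma cast_step {A A' B B' : X.Modules} (f : A ⟶ B) (hA : A' = A) (hB : B = B') (hf : Mono f)
    (hst : Step (cokernel f)) :
    Mono (eqToHom hA ≫ f ≫ eqToHom hB) ∧ Step (cokernel (eqToHom hA ≫ f ≫ eqToHom hB)) := by
  subst hA
  subst hB
  have key : ∀ f' : A' ⟶ B, f' = f → Mono f' ∧ Step (cokernel f') := by
    rintro f' rfl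
    exact ⟨hf, hst⟩
  exact key _ (by simp)

/-- a good module has a filtration as in the statement of the theorem. -/
theorem Good.exists_filtration {M : X.Modules} (h : Good M) :
    ∃ (m : ℕ) (F : ℕ → X.Modules) (φ : (j : ℕ) → (F j ⟶ F (j + 1))),
      IsZero (F 0) ∧ Nonempty (F m ≅ M) ∧ (∀ j ≤ m, Coh.IsCoh (F j)) ∧
        ∀ j < m, Mono (φ j) ∧ Step (cokernel (φ j)) := by
  induction h with
  | zero M hz =>
    exact ⟨0, fun _ => M, fun _ => 𝟙 M, hz, ⟨Iso.refl _⟩,
      fun j _ => Groth.Agent.Helper5.K0Coh.isCoh_of_isZero hz, fun j hj => absurd hj (Nat.not_lt_zero _)⟩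
  | @step M' M φ hφ hM' hcoh hst ih =>
    obtain ⟨m, F, γ, h0, ⟨e⟩, hc, hs⟩ := ih
    haveI := hφ
    let G : ℕ → X.Modules := fun j => if j ≤ m then F j else M
    have hGpos : ∀ j, j ≤ m → G j = F j := fun j hj => if_pos hj
    have hGneg : ∀ j, ¬ j ≤ m → G j = M := fun j hj => if_neg hj
    let δ : (j : ℕ) → (G j ⟶ G (j + 1)) := fun j =>
      if h1 : j + 1 ≤ m then eqToHom (hGpos j (by omega)) ≫ γ j ≫ eqToHom (hGpos (j + 1) h1).symm
      else if h2 : j = m then
        eqToHom (show G j = F m by subst h2; exact hGpos j le_rfl) ≫ (e.hom ≫ φ) ≫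
          eqToHom (hGneg (j + 1) h1).symm
      else eqToHom (hGneg j (by omega)) ≫ 𝟙 M ≫ eqToHom (hGneg (j + 1) h1).symm
    refine ⟨m + 1, G, δ, ?_, ⟨eqToIso (hGneg (m + 1) (by omega))⟩, ?_, ?_⟩
    · rw [hGpos 0 (Nat.zero_le m)]
      exact h0
    · intro j hj
      by_cases hjm : j ≤ m
      · rw [hGpos j hjm]; exact hc j hjm
      · rw [hGneg j hjm]; exact hcoh
    · intro j hj
      by_cases h1 : j + 1 ≤ m
      · have hδ : δ j = eqToHom (hGpos j (by omega)) ≫ γ j ≫ eqToHom (hGpos (j + 1) h1).symm :=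
          dif_pos h1
        rw [hδ]
        exact cast_step (γ j) _ _ (hs j (by omega)).1 (hs j (by omega)).2
      · have h2 : j = m := by omega
        have hδ : δ j = eqToHom (show G j = F m by subst h2; exact hGpos j le_rfl) ≫ (e.hom ≫ φ) ≫
          eqToHom (hGneg (j + 1) h1).symm := by
          simp only [δ]
          rw [dif_neg h1, dif_pos h2]
        rw [hδ]
        refine cast_step (e.hom ≫ φ) _ _ (mono_comp _ _) (hst.of_iso ?_)
        exact (cokernel.mapIso (e.hom ≫ φ) φ e (Iso.refl _) (by simp)).symm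

end Groth.Agent.Helper26.DevA
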