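import Mathlib
import Groth.Agent.Lib.Helper13.QCohStalk
import Groth.Agent.Lib.Helper13.FreeMod
import Groth.Agent.Lib.Helper13.EpiStalk
import Groth.Agent.Lib.Helper13.Qcqs
import Groth.Agent.Lib.Helper13.QCohFin
import Groth.Agent.Lib.Helper13.QCohKer
import Groth.Agent.Lib.Helper13.QCohPush
import Groth.Agent.Lib.Helper13.QCohAss
import Groth.Agent.Lib.Helper13.FinTypeEpi
import Groth.Agent.Lib.Helper28.CohSub
import Groth.Agent.Lib.Helper28.SchSupport
import Groth.Agent.Lib.Helper5.CI10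
import Groth.Agent.Lib.Helper28.CohACC

set_option autoImplicit false
set_option linter.unusedSectionVars false
set_option linter.style.haveILetI false
universe u
open CategoryTheory CategoryTheory.Limits AlgebraicGeometry Opposite TopologicalSpace
open Groth.Agent.Helper13.QCoh Groth.Agent.Helper13.FinType

namespace Groth.Agent.Helper26.DevB

variable {X : Scheme.{u}} (Q : X.Modules) (U : X.Opens)

/-- `j_* j^* Q` for the open `U`. -/
noncomputable abbrev N : X.Modules := (Scheme.Modules.pushforward U.ι).obj (Q.restrict U.ι)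

/-- the unit `Q ⟶ j_* j^* Q`. -/
noncomputable abbrev η : Q ⟶ N Q U := (Scheme.Modules.restrictAdjunction U.ι).unit.app Q

/-- the open `U ∩ V`, in the form in which it appears in sections of `j_* j^* Q`. -/
abbrev W (V : X.Opens) : X.Opens := U.ι ''ᵁ (U.ι ⁻¹ᵁ V)

lemma W_le_left (V : X.Opens) : W U V ≤ U := by
  rintro _ ⟨y, -, rfl⟩
  exact y.2

lemma W_le_right (V : X.Opens) : W U V ≤ V := U.ι.image_preimage_le V

lemma mem_W {V : X.Opens} {x : X} (hxU : x ∈ U) (hxV : x ∈ V) : x ∈ W U V :=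
  ⟨⟨x, hxU⟩, hxV, rfl⟩

lemma η_app (V : X.Opens) (q : Γ(Q, V)) :
    (η Q U).app V q = Q.presheaf.map (homOfLE (W_le_right U V)).op q := rfl

/-- a section of `j_* j^* Q` over `V`, seen as a section of `Q` over `U ∩ V`. -/
abbrev toQ {V : X.Opens} (n : Γ(N Q U, V)) : Γ(Q, W U V) := n

/-- a section of `Q` over `U ∩ V`, seen as a section of `j_* j^* Q` over `V`. -/
abbrev ofQ {V : X.Opens} (n : Γ(Q, W U V)) : Γ(N Q U, V) := n

lemma smul_N (V : X.Opens) (c : Γ(X, V)) (n : Γ(N Q U, V)) :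
    toQ Q U (c • n) = X.presheaf.map (homOfLE (W_le_right U V)).op c • toQ Q U n := by
  have h1 : toQ Q U (c • n) = ((U.ι.appIso (U.ι ⁻¹ᵁ V)).inv (U.ι.app V c)) • toQ Q U n := rfl
  rw [h1]
  congr 1
  exact congr($(U.ι.app_appIso_inv V) c)

lemma W_mono {V V' : X.Opens} (h : V ≤ V') : W U V ≤ W U V' :=
  U.ι.image_mono (fun _ hx => h hx)

lemma N_map {V V' : X.Opens} (h : V ≤ V') (n : Γ(N Q U, V')) :
    toQ Q U ((N Q U).presheaf.map (homOfLE h).op n) =
      Q.presheaf.map (homOfLE (W_mono U h)).op (toQ Q U n) := rfl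

variable (m : Γ(Q, U))

/-- the global section of `j_* j^* Q` given by `m`. -/
noncomputable def mTop : Γ(N Q U, ⊤) := ofQ Q U (Q.presheaf.map (homOfLE (W_le_left U ⊤)).op m)

/-- the morphism `O_X ⟶ j_* j^* Q`, `1 ↦ m`. -/
noncomputable def φ : Coh.structureModule X ⟶ N Q U :=
  Groth.Agent.Helper13.LocFree.homOfSec (N Q U) (mTop Q U m)

lemma φ_app (V : X.Opens) (c : Γ(X, V)) :
    toQ Q U ((φ Q U m).app V (Groth.Agent.Helper13.LocFree.toO V c)) =
      X.presheaf.map (homOfLE (W_le_right U V)).op c •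
        Q.presheaf.map (homOfLE (W_le_left U V)).op m := by
  rw [φ, Groth.Agent.Helper13.LocFree.homOfSec_app, smul_N]
  congr 1
  rw [N_map, mTop]
  exact map_map_eq Q _ _ _ m

section Ker

variable [Q.IsQuasicoherent] (hU : IsAffineOpen U) (ξ : X) (hξ : ξ ∈ U)
  (hann : ∀ a : Γ(X, U), a • m = 0 ↔ ξ ∉ X.basicOpen a)

include hU hann in
lemma germ_m_eq_zero_of_notMem_closure (y : X) (hy : y ∈ U) (hyc : y ∉ closure ({ξ} : Set X)) :
    Q.presheaf.germ U y hy m = 0 := by
  let W' : X.Opens := ⟨(closure ({ξ} : Set X))ᶜ, isClosed_closure.isOpen_compl⟩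
  obtain ⟨g, hgW, hyg⟩ := hU.exists_basicOpen_le (V := W') ⟨y, hyc⟩ hy
  have hξg : ξ ∉ X.basicOpen g := fun h => hgW h (subset_closure rfl)
  have h0 : g • m = 0 := (hann g).2 hξg
  have h1 := congrArg (Q.presheaf.germ U y hy) h0
  rw [germ_smul, map_zero] at h1
  have hu : IsUnit (X.presheaf.germ U y hy g) := (X.mem_basicOpen g y hy).1 hyg
  obtain ⟨v, hv⟩ := hu
  rw [← hv] at h1
  have := congrArg (fun z => (↑v⁻¹ : X.presheaf.stalk y) • z) h1
  simpa [smul_smul] using this

include hU hann hξ in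
lemma germ_m_ne_zero : Q.presheaf.germ U ξ hξ m ≠ 0 := by
  intro h
  obtain ⟨g, hg, hgm⟩ := exists_smul_eq_zero_of_germ_eq_zero Q hU ξ hξ m h
  exact (hann g).1 hgm hg

variable {Z : Scheme.{u}} (i : Z ⟶ X) (hi : Set.range i = closure ({ξ} : Set X))

include hi in
lemma notMem_basicOpen_of_app_eq_zero {V : X.Opens} (c : Γ(X, V)) (hc : i.app V c = 0) :
    ξ ∉ X.basicOpen c := by
  intro h
  have hξr : ξ ∈ Set.range i := by rw [hi]; exact subset_closure rfl
  obtain ⟨z, rfl⟩ := hξr
  have hz : z ∈ i ⁻¹ᵁ X.basicOpen c := h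
  rw [Scheme.preimage_basicOpen, hc, Scheme.basicOpen_zero] at hz
  exact hz

include hU hann hi in
/-- functions vanishing on `Z` kill `m`. -/
lemma smul_eq_zero_of_app_eq_zero {V : X.Opens} (c : Γ(X, V)) (hc : i.app V c = 0) :
    X.presheaf.map (homOfLE (W_le_right U V)).op c •
      Q.presheaf.map (homOfLE (W_le_left U V)).op m = 0 := by
  refine TopCat.Presheaf.section_ext ⟨Q.presheaf, Q.isSheaf⟩ (W U V) _ _ ?_
  intro y hy
  have hyU : y ∈ U := W_le_left U V hy
  rw [map_zero]
  change Q.presheaf.germ (W U V) y hy _ = 0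
  rw [germ_smul, TopCat.Presheaf.germ_res_apply, TopCat.Presheaf.germ_res_apply]
  by_cases hyc : y ∈ closure ({ξ} : Set X)
  · obtain ⟨g, hgW, hyg⟩ := hU.exists_basicOpen_le (V := W U V) ⟨y, hy⟩ hyU
    have hξg : ξ ∈ X.basicOpen g := by
      obtain ⟨w, hw1, hw2⟩ := mem_closure_iff.1 hyc (X.basicOpen g) (X.basicOpen g).2 hyg
      rw [Set.mem_singleton_iff] at hw2
      rw [← hw2]; exact hw1
    set ρ := (X.presheaf.map (homOfLE (X.basicOpen_le g)).op).hom with hρ
    have hgV : X.basicOpen g ≤ V := hgW.trans (W_le_right U V)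
    set b : Γ(X, X.basicOpen g) := X.presheaf.map (homOfLE hgV).op c with hb
    haveI := hU.isLocalization_basicOpen g
    obtain ⟨⟨a, ⟨_, k, rfl⟩⟩, hab⟩ := IsLocalization.surj (Submonoid.powers g) b
    have hab' : b * ρ (g ^ k) = ρ a := hab
    have hξa : ξ ∉ X.basicOpen a := by
      intro h
      have h1 : ξ ∈ X.basicOpen (ρ a) := by
        rw [hρ]
        change ξ ∈ X.basicOpen (X.presheaf.map _ a)
        rw [Scheme.basicOpen_res]
        exact ⟨hξg, h⟩
      rw [← hab', Scheme.basicOpen_mul, hb, Scheme.basicOpen_res] at h1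
      exact notMem_basicOpen_of_app_eq_zero ξ i hi c hc h1.1.2
    have ha0 : a • m = 0 := (hann a).2 hξa
    have hunit : IsUnit (ρ g) := X.toRingedSpace.isUnit_res_basicOpen g
    have h2 : ρ a • Q.presheaf.map (homOfLE (X.basicOpen_le g)).op m = 0 := by
      have := Scheme.Modules.map_smul Q (homOfLE (X.basicOpen_le g)) a m
      rw [ha0, map_zero] at this
      exact this.symm
    rw [← hab', map_pow, mul_comm, mul_smul] at h2
    obtain ⟨v, hv⟩ := hunit.pow k
    rw [← hv] at h2
    have h3 : b • Q.presheaf.map (homOfLE (X.basicOpen_le g)).op m = 0 := by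
      have := congrArg (fun z => (↑v⁻¹ : Γ(X, X.basicOpen g)) • z) h2
      simpa [smul_smul] using this
    have h4 := congrArg (Q.presheaf.germ (X.basicOpen g) y hyg) h3
    rw [germ_smul, map_zero, hb, TopCat.Presheaf.germ_res_apply,
      TopCat.Presheaf.germ_res_apply] at h4
    exact h4
  · rw [germ_m_eq_zero_of_notMem_closure Q U m hU ξ hann y hyU hyc, smul_zero]

include hU hann hi hξ in
/-- functions killing `m` vanish on `Z` (reduced). -/
lemma app_eq_zero_of_smul_eq_zero [IsReduced Z] {V : X.Opens} (c : Γ(X, V))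
    (hc : X.presheaf.map (homOfLE (W_le_right U V)).op c •
      Q.presheaf.map (homOfLE (W_le_left U V)).op m = 0) : i.app V c = 0 := by
  rw [← basicOpen_eq_bot_iff, ← Scheme.preimage_basicOpen]
  ext z
  simp only [Opens.coe_bot, Set.mem_empty_iff_false, iff_false]
  intro hz
  have hz' : i z ∈ X.basicOpen c := hz
  have hzc : i z ∈ closure ({ξ} : Set X) := by rw [← hi]; exact ⟨z, rfl⟩
  have hξc : ξ ∈ X.basicOpen c := by
    obtain ⟨w, hw1, hw2⟩ := mem_closure_iff.1 hzc (X.basicOpen c) (X.basicOpen c).2 hz'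
    rw [Set.mem_singleton_iff] at hw2
    rw [← hw2]; exact hw1
  have hξV : ξ ∈ V := X.basicOpen_le c hξc
  have hξW : ξ ∈ W U V := mem_W U hξ hξV
  have h1 := congrArg (Q.presheaf.germ (W U V) ξ hξW) hc
  rw [germ_smul, map_zero, TopCat.Presheaf.germ_res_apply, TopCat.Presheaf.germ_res_apply] at h1
  have hu : IsUnit (X.presheaf.germ V ξ hξV c) := (X.mem_basicOpen c ξ hξV).1 hξc
  obtain ⟨v, hv⟩ := hu
  rw [← hv] at h1
  have h2 : Q.presheaf.germ U ξ hξ m = 0 := by
    have := congrArg (fun z => (↑v⁻¹ : X.presheaf.stalk ξ) • z) h1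
    simpa [smul_smul] using this
  exact germ_m_ne_zero Q U m hU ξ hξ hann h2

end Ker

section Unit

variable {Z : Scheme.{u}} (i : Z ⟶ X)

lemma unitToPush_app (V : X.Opens) (c : Γ(X, V)) :
    (ClSub.unitToPush i).app V (Groth.Agent.Helper13.LocFree.toO V c) = i.app V c := rfl

instance isQuasicoherent_push_unit [IsClosedImmersion i] :
    ((Scheme.Modules.pushforward i).obj (Coh.structureModule Z)).IsQuasicoherent :=
  haveI : (Coh.structureModule Z).IsQuasicoherent := isQuasicoherent_unit Z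
  Groth.Agent.Helper13.QCohPush.isQuasicoherent_pushforward i _

instance epi_unitToPush [IsClosedImmersion i] : Epi (ClSub.unitToPush i) := by
  apply epi_of_stalkMap_surjective
  intro y
  obtain ⟨_, ⟨V, hV, rfl⟩, hyV, -⟩ :=
    X.isBasis_affineOpens.exists_subset_of_mem_open (Set.mem_univ y) isOpen_univ
  refine Groth.Agent.Helper28.CohACC.stalkMap_surjective_of_app_surjective _ hV ?_ y hyV
  intro t
  obtain ⟨c, hc⟩ := i.app_surjective V hV (show Γ(Z, i ⁻¹ᵁ V) from t)
  exact ⟨Groth.Agent.Helper13.LocFree.toO V c, hc⟩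

end Unit

section Psi

variable (m : Γ(Q, U)) [Q.IsQuasicoherent] (hU : IsAffineOpen U) (ξ : X) (hξ : ξ ∈ U)
  (hann : ∀ a : Γ(X, U), a • m = 0 ↔ ξ ∉ X.basicOpen a)
  {Z : Scheme.{u}} (i : Z ⟶ X) [IsClosedImmersion i] [IsReduced Z]
  (hi : Set.range i = closure ({ξ} : Set X))

lemma φ_app_eq_zero_iff (V : X.Opens) (c : Γ(X, V)) :
    (φ Q U m).app V (Groth.Agent.Helper13.LocFree.toO V c) = 0 ↔
      X.presheaf.map (homOfLE (W_le_right U V)).op c •
        Q.presheaf.map (homOfLE (W_le_left U V)).op m = 0 := by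
  rw [← φ_app]
  rfl

include hU hann hi in
lemma kernel_ι_comp_φ : kernel.ι (ClSub.unitToPush i) ≫ φ Q U m = 0 := by
  apply Scheme.Modules.hom_ext
  intro V
  apply ConcreteCategory.hom_ext
  intro k
  change (φ Q U m).app V ((kernel.ι (ClSub.unitToPush i)).app V k) = 0
  have h1 : (ClSub.unitToPush i).app V ((kernel.ι (ClSub.unitToPush i)).app V k) = 0 := by
    change (kernel.ι (ClSub.unitToPush i) ≫ ClSub.unitToPush i).app V k = 0
    rw [kernel.condition]
    rfl
  exact (φ_app_eq_zero_iff Q U m V _).2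
    (smul_eq_zero_of_app_eq_zero Q U m hU ξ hann i hi _ h1)

/-- the induced map `i_* O_Z ⟶ j_* j^* Q`. -/
noncomputable def ψ (h : kernel.ι (ClSub.unitToPush i) ≫ φ Q U m = 0) :
    (Scheme.Modules.pushforward i).obj (Coh.structureModule Z) ⟶ N Q U :=
  Abelian.epiDesc (ClSub.unitToPush i) (φ Q U m) h

lemma unit_ψ (h : kernel.ι (ClSub.unitToPush i) ≫ φ Q U m = 0) :
    ClSub.unitToPush i ≫ ψ Q U m i h = φ Q U m :=
  Abelian.comp_epiDesc _ _ _

include hU hann hi hξ in
lemma mono_ψ (h : kernel.ι (ClSub.unitToPush i) ≫ φ Q U m = 0) : Mono (ψ Q U m i h) := by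
  rw [mono_iff_stalk_injective]
  intro y
  rw [injective_iff_map_eq_zero]
  intro e he
  obtain ⟨r, rfl⟩ := stalkMap_surjective_of_epi (ClSub.unitToPush i) y e
  obtain ⟨V, hyV, c, rfl⟩ := TopCat.Presheaf.exists_germ_eq _ r
  have h1 : stalkMap (ψ Q U m i h) y (stalkMap (ClSub.unitToPush i) y
      ((Coh.structureModule X).presheaf.germ V y hyV c)) =
      stalkMap (φ Q U m) y ((Coh.structureModule X).presheaf.germ V y hyV c) := by
    rw [← unit_ψ Q U m i h, Groth.Agent.Helper13.PbInv.stalkMap_comp]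
  change stalkMap (ψ Q U m i h) y _ = 0 at he
  rw [h1, stalkMap_germ] at he
  have h0 : (N Q U).presheaf.germ V y hyV ((φ Q U m).app V c) =
      (N Q U).presheaf.germ V y hyV 0 := by rw [he, map_zero]
  obtain ⟨V', hyV', iV, iV2, hV'⟩ := TopCat.Presheaf.germ_eq (N Q U).presheaf y hyV hyV _ _ h0
  rw [map_zero] at hV'
  have h2 : (φ Q U m).app V' ((Coh.structureModule X).presheaf.map iV.op c) = 0 := by
    have := (φ Q U m).mapPresheaf.naturality iV.op
    have h3 : (φ Q U m).app V' ((Coh.structureModule X).presheaf.map iV.op c) =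
        (N Q U).presheaf.map iV.op ((φ Q U m).app V c) := congrArg (fun ψ' => ψ' c) this
    exact h3.trans hV'
  have h4 : i.app V' (X.presheaf.map iV.op c) = 0 :=
    app_eq_zero_of_smul_eq_zero Q U m hU ξ hξ hann i hi _
      ((φ_app_eq_zero_iff Q U m V' _).1 h2)
  rw [stalkMap_germ]
  rw [← TopCat.Presheaf.germ_res_apply _ iV y hyV']
  have h5 : ((Scheme.Modules.pushforward i).obj (Coh.structureModule Z)).presheaf.map iV.op
      ((ClSub.unitToPush i).app V c) =
      (ClSub.unitToPush i).app V' ((Coh.structureModule X).presheaf.map iV.op c) := by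
    have := (ClSub.unitToPush i).mapPresheaf.naturality iV.op
    exact (congrArg (fun ψ' => ψ' c) this).symm
  rw [h5]
  have h6 : (ClSub.unitToPush i).app V' ((Coh.structureModule X).presheaf.map iV.op c) = 0 := h4
  rw [h6]
  exact map_zero _

end Psi

section Key

variable [IsNoetherian X] (hQ : Coh.IsCoh Q) (m : Γ(Q, U)) (hU : IsAffineOpen U) (ξ : X) (hξ : ξ ∈ U)
  (hann : ∀ a : Γ(X, U), a • m = 0 ↔ ξ ∉ X.basicOpen a)
  {Z : Scheme.{u}} (i : Z ⟶ X) [IsClosedImmersion i] [IsReduced Z]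
  (hi : Set.range i = closure ({ξ} : Set X))

include hQ hU hξ hann hi in
set_option maxHeartbeats 800000 in
/-- **Key lemma**: from an element `m ∈ Γ(Q, U)` (`U` affine) whose annihilator is the prime of
`ξ`, a subobject `Q₁ ⊆ Q` containing `m` and an epimorphism `Q₁ ⟶ i_* I` onto the direct image of a
nonzero coherent ideal of `Z = closure {ξ}`, whose kernel vanishes on `U`. -/
theorem key :
    ∃ (Q₁ : X.Modules) (a : Q₁ ⟶ Q) (I : Z.Modules) (ι : I ⟶ Coh.structureModule Z)
      (b : Q₁ ⟶ (Coh.push i).obj I),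
      Mono a ∧ Epi b ∧ Mono ι ∧ Coh.IsCoh I ∧ ¬ IsZero I ∧ Coh.IsCoh Q₁ ∧
      (∀ x ∈ U, Subsingleton ((kernel b).presheaf.stalk x)) ∧ ∃ q₁ : Γ(Q₁, U), a.app U q₁ = m := by
  classical
  obtain ⟨hQ1, hQ2⟩ := hQ
  haveI : Q.IsQuasicoherent := hQ1
  haveI : SheafOfModules.IsFiniteType (R := X.ringCatSheaf) Q := hQ2
  haveI hNq : (N Q U).IsQuasicoherent :=
    Groth.Agent.Helper13.Qcqs.isQuasicoherent_pushforward_of_qcqs U.ι (Q.restrict U.ι)
  have h := kernel_ι_comp_φ Q U m hU ξ hann i hi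
  haveI hψ : Mono (ψ Q U m i h) := mono_ψ Q U m hU ξ hξ hann i hi h
  haveI hCq : (cokernel (ψ Q U m i h)).IsQuasicoherent :=
    Groth.Agent.Helper13.QCohLocal.isQuasicoherent_cokernel _
  set g : Q ⟶ cokernel (ψ Q U m i h) := η Q U ≫ cokernel.π (ψ Q U m i h) with hg
  haveI hQ₁q : (kernel g).IsQuasicoherent := Groth.Agent.Helper13.QCohLocal.isQuasicoherent_kernel g
  haveI hQ₁f : SheafOfModules.IsFiniteType (R := X.ringCatSheaf) (kernel g : X.Modules) :=
    Groth.Agent.Helper28.CohSub.isFiniteType_of_mono (kernel.ι g)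
  set a : kernel g ⟶ Q := kernel.ι g with ha
  have hag : (a ≫ η Q U) ≫ cokernel.π (ψ Q U m i h) = 0 := by
    rw [Category.assoc]; exact kernel.condition g
  set b' : kernel g ⟶ (Scheme.Modules.pushforward i).obj (Coh.structureModule Z) :=
    Abelian.monoLift (ψ Q U m i h) (a ≫ η Q U) hag with hb'
  have hb'ψ : b' ≫ ψ Q U m i h = a ≫ η Q U := Abelian.monoLift_comp _ _ _
  -- the image of b'
  haveI hCb : (cokernel b').IsQuasicoherent := Groth.Agent.Helper13.QCohLocal.isQuasicoherent_cokernel _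
  haveI hEq : (Abelian.image b').IsQuasicoherent :=
    Groth.Agent.Helper13.QCohLocal.isQuasicoherent_kernel (cokernel.π b')
  haveI hEf : SheafOfModules.IsFiniteType (R := X.ringCatSheaf) (Abelian.image b' : X.Modules) :=
    Groth.Agent.Helper13.FinType.isFiniteType_of_epi (Abelian.factorThruImage b')
  set p : kernel g ⟶ Abelian.image b' := Abelian.factorThruImage b' with hp
  set e : Abelian.image b' ⟶ (Scheme.Modules.pushforward i).obj (Coh.structureModule Z) :=
    Abelian.image.ι b' with he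
  have hpe : p ≫ e = b' := Abelian.image.fac b'
  haveI : Mono e := inferInstance
  haveI : Epi p := inferInstance
  -- the image is killed by the ideal of `Z`
  have hk : ClSub.KilledByIdeal i.ker (Abelian.image b') := by
    intro V c hc t
    have hinj : Function.Injective (e.app V.1) := (mono_iff_app_injective e).1 inferInstance V.1
    apply hinj
    have h1 : e.app V.1 (c • (show Γ(Abelian.image b', V.1) from t)) =
        c • e.app V.1 (show Γ(Abelian.image b', V.1) from t) :=
      Scheme.Modules.Hom.app_smul e c _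
    refine h1.trans (Eq.trans ?_ (map_zero (e.app V.1).hom).symm)
    have hc' : i.app V.1 c = 0 := by
      rw [Scheme.Hom.ker_apply] at hc
      exact hc
    change (i.app V.1 c) • (show Γ(Z, i ⁻¹ᵁ V.1) from e.app V.1 t) = 0
    rw [hc', zero_smul]
  obtain ⟨G, ⟨hGq, hGf⟩, ⟨θ⟩⟩ := Groth.Agent.Helper28.SchSupport.exists_pushforward_iso
    (Abelian.image b') i hk
  set ι : G ⟶ Coh.structureModule Z :=
    (Groth.Agent.Helper5.CI.fullyFaithfulPushforward i).preimage (θ.hom ≫ e) with hι
  have hιmap : (Scheme.Modules.pushforward i).map ι = θ.hom ≫ e :=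
    (Groth.Agent.Helper5.CI.fullyFaithfulPushforward i).map_preimage _
  haveI : (Scheme.Modules.pushforward i).Faithful :=
    (Groth.Agent.Helper5.CI.fullyFaithfulPushforward i).faithful
  have hιmono : Mono ι := by
    apply (Scheme.Modules.pushforward i).mono_of_mono_map
    rw [hιmap]
    infer_instance
  set b : kernel g ⟶ (Coh.push i).obj G := p ≫ θ.inv with hb
  haveI hbepi : Epi b := epi_comp _ _
  -- a preimage of `m`
  have hm : ∃ q₁ : Γ(kernel g, U), a.app U q₁ = m := by
    have hS : (ShortComplex.mk a g (kernel.condition g)).Exact :=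
      ShortComplex.exact_of_f_is_kernel _ (kernelIsKernel g)
    haveI : Mono (ShortComplex.mk a g (kernel.condition g)).f := by
      change Mono (kernel.ι g); infer_instance
    apply app_exact_of_exact_of_mono (ShortComplex.mk a g (kernel.condition g)) hS U m
    change (cokernel.π (ψ Q U m i h)).app U ((η Q U).app U m) = 0
    have h1 : (η Q U).app U m = (ψ Q U m i h).app U ((ClSub.unitToPush i).app U
        (Groth.Agent.Helper13.LocFree.toO U 1)) := by
      change _ = (ClSub.unitToPush i ≫ ψ Q U m i h).app U (Groth.Agent.Helper13.LocFree.toO U 1)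
      rw [unit_ψ]
      have h2 := φ_app Q U m U 1
      rw [map_one, one_smul] at h2
      change toQ Q U ((η Q U).app U m) = toQ Q U _
      rw [h2, η_app]
    rw [h1]
    change (ψ Q U m i h ≫ cokernel.π (ψ Q U m i h)).app U _ = 0
    rw [cokernel.condition]
    rfl
  refine ⟨kernel g, a, G, ι, b, inferInstance, hbepi, hιmono, ⟨hGq, hGf⟩, ?_, ⟨hQ₁q, hQ₁f⟩, ?_, hm⟩
  · -- `G ≠ 0`
    intro hG
    have hb0 : b = 0 := ((Scheme.Modules.pushforward i).map_isZero hG).eq_of_tgt _ _
    have hp0 : p = 0 := by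
      have h1 : p ≫ θ.inv = 0 := hb0
      have h2 := congrArg (fun t => t ≫ θ.hom) h1
      simpa using h2
    have hb'0 : b' = 0 := by rw [← hpe, hp0, zero_comp]
    have haη : a ≫ η Q U = 0 := by rw [← hb'ψ, hb'0, zero_comp]
    obtain ⟨q₁, hq₁⟩ := hm
    have h1 : (η Q U).app U m = 0 := by
      rw [← hq₁]
      change (a ≫ η Q U).app U q₁ = 0
      rw [haη]
      rfl
    rw [η_app] at h1
    have hWU : W U U = U := le_antisymm (W_le_left U U) (fun x hx => mem_W U hx hx)
    have hinj := map_eqToHom_injective Q hWU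
    have hm0 : m = 0 := by
      apply hinj
      rw [map_zero]
      exact h1
    have h2 : (1 : Γ(X, U)) • m = 0 := by rw [hm0, smul_zero]
    apply (hann 1).1 h2
    rw [X.mem_basicOpen 1 ξ hξ, map_one]
    exact isUnit_one
  · -- the kernel vanishes on `U`
    intro x hx
    have hk0 : kernel.ι b ≫ p = 0 := by
      have h1 : kernel.ι b ≫ p ≫ θ.inv = 0 := kernel.condition b
      have h2 := congrArg (fun t => t ≫ θ.hom) h1
      simpa using h2
    have hk2 : kernel.ι b ≫ b' = 0 := by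
      have : kernel.ι b ≫ p ≫ e = 0 := by rw [← Category.assoc, hk0, zero_comp]
      exact (congrArg (fun t => kernel.ι b ≫ t) hpe).symm.trans this
    have hk1 : (kernel.ι b ≫ a) ≫ η Q U = 0 := by
      rw [Category.assoc, ← hb'ψ, ← Category.assoc, hk2, zero_comp]
    exact Groth.Agent.Helper28.CohSub.subsingleton_stalk_of_mono_of_comp_zero (kernel.ι b ≫ a)
      (η Q U) hk1 x (Groth.Agent.Helper28.CohSub.unit_stalk_bijective U Q x hx).1

end Key

end Groth.Agent.Helper26.DevB
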