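import Mathlib
import Groth.Agent.Lib.Helper26.DevA
import Groth.Agent.Lib.Helper26.DevB
import Groth.Agent.Lib.Helper13.PushFinite
import Groth.Agent.Lib.Helper16.Sch.GrpIrr2
import Groth.Agent.Lib.Helper16.Sch.GenND2
import Groth.Agent.S9514
import Groth.Agent.Lib.Helper28.CohACC

set_option autoImplicit false
set_option linter.unusedSectionVars false
set_option linter.style.haveILetI false
universe u
open CategoryTheory CategoryTheory.Limits AlgebraicGeometry Opposite TopologicalSpace
open Groth.Agent.Helper13.QCoh Groth.Agent.Helper13.FinType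
open Groth.Agent.Helper26.DevA
open ZeroObject

namespace Groth.Agent.Helper26.DevC

variable {X : Scheme.{u}}

/-- an integral closed subscheme with underlying set the closure of a point. -/
theorem exists_integral (ξ : X) : ∃ (Z : Scheme.{u}) (i : Z ⟶ X), IsClosedImmersion i ∧
    IsIntegral Z ∧ Set.range i = closure ({ξ} : Set X) := by
  let C : TopologicalSpace.Closeds X := ⟨closure {ξ}, isClosed_closure⟩
  let I := Scheme.IdealSheafData.vanishingIdeal C
  have hr : Set.range I.subschemeι = closure ({ξ} : Set X) := by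
    rw [Scheme.IdealSheafData.range_subschemeι, Scheme.IdealSheafData.coe_support_vanishingIdeal]
    rfl
  have hirr : IsIrreducible (closure ({ξ} : Set X)) := isIrreducible_singleton.closure
  haveI : IrreducibleSpace (Set.range I.subschemeι) := by
    rw [hr]; exact Subtype.irreducibleSpace hirr
  haveI : IrreducibleSpace I.subscheme :=
    (I.subschemeι.isEmbedding.toHomeomorph.irreducibleSpace_iff).2 inferInstance
  haveI : IsReduced I.subscheme :=
    Groth.Agent.Helper16.GenND.isReduced_vanishingIdeal_subscheme C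
  exact ⟨I.subscheme, I.subschemeι, inferInstance, isIntegral_of_irreducibleSpace_of_isReduced _, hr⟩

/-- a nonzero coherent module on a locally Noetherian scheme has an "associated prime" on some affine
open: a section whose annihilator is the prime ideal of a point. -/
theorem exists_ass [IsLocallyNoetherian X] (Q : X.Modules) (hQ : Coh.IsCoh Q) (hQ0 : ¬ IsZero Q) :
    ∃ (U : X.Opens) (_ : IsAffineOpen U) (m : Γ(Q, U)) (ξ : X) (_ : ξ ∈ U),
      ∀ a : Γ(X, U), a • m = 0 ↔ ξ ∉ X.basicOpen a := by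
  classical
  haveI : Q.IsQuasicoherent := hQ.1
  haveI : SheafOfModules.IsFiniteType (R := X.ringCatSheaf) Q := hQ.2
  rw [isZero_iff_stalk] at hQ0
  push Not at hQ0
  obtain ⟨x, hx⟩ := hQ0
  obtain ⟨_, ⟨U, hU, rfl⟩, hxU, -⟩ :=
    X.isBasis_affineOpens.exists_subset_of_mem_open (Set.mem_univ x) isOpen_univ
  have hU' : IsAffineOpen U := hU
  haveI : IsNoetherianRing Γ(X, U) := IsLocallyNoetherian.component_noetherian ⟨U, hU⟩
  haveI : Nontrivial Γ(Q, U) := by
    by_contra hnt
    rw [not_nontrivial_iff_subsingleton] at hnt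
    apply not_subsingleton (Q.presheaf.stalk x)
    refine ⟨fun z w => ?_⟩
    have key : ∀ z : Q.presheaf.stalk x, z = 0 := by
      intro z
      obtain ⟨g, hxg, t, hgt⟩ := exists_germ_smul_eq Q hU' x hxU z
      have hgu : IsUnit (X.presheaf.germ U x hxU g) := (X.mem_basicOpen g x hxU).1 hxg
      rw [Subsingleton.elim t 0, map_zero] at hgt
      obtain ⟨v, hv⟩ := hgu
      rw [← hv] at hgt
      have := congrArg (fun y => (↑v⁻¹ : X.presheaf.stalk x) • y) hgt
      simpa [smul_smul] using this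
    rw [key z, key w]
  obtain ⟨p, hp⟩ := associatedPrimes.nonempty Γ(X, U) Γ(Q, U)
  rw [AssociatedPrimes.mem_iff, isAssociatedPrime_iff] at hp
  obtain ⟨hpp, m, hm⟩ := hp
  obtain ⟨pt, hpt⟩ : ∃ pt : ↥(Spec Γ(X, U)), pt = (⟨p, hpp⟩ : PrimeSpectrum Γ(X, U)) := ⟨_, rfl⟩
  refine ⟨U, hU', m, hU'.fromSpec pt, ?_, ?_⟩
  · have : hU'.fromSpec pt ∈ Set.range hU'.fromSpec := ⟨_, rfl⟩
    rw [hU'.range_fromSpec] at this
    exact this
  · intro a
    have h1 : hU'.fromSpec pt ∈ X.basicOpen a ↔ a ∉ p := by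
      change pt ∈ hU'.fromSpec ⁻¹ᵁ X.basicOpen a ↔ _
      rw [hU'.fromSpec_preimage_basicOpen, hpt]
      rfl
    rw [h1, not_not, hm, Submodule.mem_colon_singleton, Submodule.mem_bot]

/-- the direct image of a nonzero coherent ideal of an integral closed subscheme is good. -/
theorem good_push {Z : Scheme.{u}} (i : Z ⟶ X) [IsClosedImmersion i] [IsIntegral Z]
    (I : Z.Modules) (ι : I ⟶ Coh.structureModule Z) [Mono ι] (hI : Coh.IsCoh I) (hI0 : ¬ IsZero I) :
    Good ((Coh.push i).obj I) := by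
  haveI : I.IsQuasicoherent := hI.1
  haveI : SheafOfModules.IsFiniteType (R := Z.ringCatSheaf) I := hI.2
  have hcoh : Coh.IsCoh ((Coh.push i).obj I) :=
    ⟨Groth.Agent.Helper13.QCohPush.isQuasicoherent_pushforward i I,
      (Groth.Agent.Helper13.PushFinite.isFiniteType_pushforward_iff i I).1 inferInstance⟩
  refine Good.step (0 : (0 : X.Modules) ⟶ (Coh.push i).obj I) inferInstance
    (Good.zero _ (isZero_zero _)) hcoh ?_
  exact ⟨Z, i, inferInstance, inferInstance, I, ι, inferInstance, hI.1, hI0, ⟨cokernelZeroIsoTarget⟩⟩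

lemma isCoh_cokernel_arrow [IsLocallyNoetherian X] {M : X.Modules} (hM : Coh.IsCoh M)
    (N : Subobject M) (hN : Coh.IsCoh (N : X.Modules)) : Coh.IsCoh (cokernel N.arrow) :=
  (Groth.Agent.S9514.result X hN hM N.arrow).2

set_option maxHeartbeats 800000 in
/-- the inductive step: a good proper subobject can be enlarged, provided coherent modules with
smaller support are good. -/
theorem exists_bigger [IsNoetherian X] (S : Closeds X)
    (ih : ∀ S' : Closeds X, S' < S → ∀ M : X.Modules, Coh.IsCoh M →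
      CohB1.support M ⊆ (S' : Set X) → Good M)
    (M : X.Modules) (hM : Coh.IsCoh M) (hsupp : CohB1.support M ⊆ (S : Set X))
    (N : Subobject M) (hN : Good (N : X.Modules)) (hNtop : N ≠ ⊤) :
    ∃ N' : Subobject M, Good (N' : X.Modules) ∧ N < N' := by
  classical
  set π : M ⟶ cokernel N.arrow := cokernel.π N.arrow with hπ
  have hQ : Coh.IsCoh (cokernel N.arrow) := isCoh_cokernel_arrow hM N hN.isCoh
  have hQ0 : ¬ IsZero (cokernel N.arrow) := by
    intro hz
    haveI : Epi N.arrow := Preadditive.epi_of_isZero_cokernel N.arrow hz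
    haveI : IsIso N.arrow := isIso_of_mono_of_epi _
    exact hNtop (Subobject.eq_top_of_isIso_arrow N)
  obtain ⟨U, hU, m, ξ, hξ, hann⟩ := exists_ass (cokernel N.arrow) hQ hQ0
  obtain ⟨Z, i, hi1, hi2, hi3⟩ := exists_integral ξ
  haveI := hi1
  haveI := hi2
  obtain ⟨Q₁, a, I, ι, b, ha, hb, hι, hI, hI0, hQ₁, hT, q₁, hq₁⟩ :=
    Groth.Agent.Helper26.DevB.key (cokernel N.arrow) U hQ m hU ξ hξ hann i hi3
  haveI := ha
  haveI := hb
  haveI := hι
  have hm0 : m ≠ 0 := by
    intro h0
    have h2 : (1 : Γ(X, U)) • m = 0 := by rw [h0, smul_zero]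
    apply (hann 1).1 h2
    rw [X.mem_basicOpen 1 ξ hξ, map_one]
    exact isUnit_one
  haveI hQq : (cokernel N.arrow).IsQuasicoherent := hQ.1
  haveI : Q₁.IsQuasicoherent := hQ₁.1
  haveI : SheafOfModules.IsFiniteType (R := X.ringCatSheaf) Q₁ := hQ₁.2
  haveI : I.IsQuasicoherent := hI.1
  haveI hpushq : ((Coh.push i).obj I).IsQuasicoherent :=
    Groth.Agent.Helper13.QCohPush.isQuasicoherent_pushforward i I
  haveI hTq : (kernel b).IsQuasicoherent := Groth.Agent.Helper13.QCohLocal.isQuasicoherent_kernel b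
  have hTcoh : Coh.IsCoh (kernel b) :=
    ⟨hTq, Groth.Agent.Helper28.CohSub.isFiniteType_of_mono (kernel.ι b)⟩
  -- supports
  let S' : Closeds X := ⟨(S : Set X) ∩ (U : Set X)ᶜ, S.isClosed.inter U.isOpen.isClosed_compl⟩
  have hsuppQ : CohB1.support (cokernel N.arrow) ⊆ (S : Set X) := by
    intro x hx
    apply hsupp
    intro hsub
    exact hx (Groth.Agent.Helper28.CohSub.subsingleton_stalk_of_epi π x hsub)
  have hξS : ξ ∈ (S : Set X) := by
    apply hsuppQ
    intro hsub
    exact Groth.Agent.Helper26.DevB.germ_m_ne_zero (cokernel N.arrow) U m hU ξ hξ hann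
      (hsub.elim _ _)
  have hS' : S' < S := by
    refine lt_of_le_of_ne (fun x hx => hx.1) ?_
    intro heq
    have : ξ ∈ (S' : Set X) := by rw [heq]; exact hξS
    exact this.2 hξ
  have hTsupp : CohB1.support (kernel b) ⊆ (S' : Set X) := by
    intro x hx
    refine ⟨hsuppQ ?_, fun hxU => hx (hT x hxU)⟩
    intro hsub
    apply hx
    haveI : Mono (kernel.ι b ≫ a) := mono_comp _ _
    exact Groth.Agent.Helper28.CohSub.subsingleton_stalk_of_mono (kernel.ι b ≫ a) x hsub
  have hTgood : Good (kernel b) := ih S' hS' _ hTcoh hTsupp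
  have hpush : Good ((Coh.push i).obj I) := good_push i I ι hI hI0
  have hSE : (ShortComplex.mk (kernel.ι b) b (kernel.condition b)).ShortExact :=
    ShortComplex.ShortExact.mk' (ShortComplex.exact_of_f_is_kernel _ (kernelIsKernel b))
      (show Mono (kernel.ι b) from inferInstance) (show Epi b from inferInstance)
  have hQ₁good : Good Q₁ := hpush.ext (kernel.ι b) b (kernel.condition b) hSE hTgood hQ₁
  have hker : Good (kernel π) :=
    hN.of_iso (IsLimit.conePointUniqueUpToIso
      (Abelian.monoIsKernelOfCokernel _ (cokernelIsCokernel N.arrow)) (limit.isLimit _))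
  haveI : Epi π := by rw [hπ]; infer_instance
  have hP : Good (pullback a π) :=
    hQ₁good.ext (kerToPb π a) (pullback.fst a π) (kerToPb_fst π a) (shortExact_pb π a) hker
      (isCoh_pullback π a hM hQ hQ₁)
  haveI : Mono (pullback.snd a π) := pullback.snd_of_mono
  refine ⟨Subobject.mk (pullback.snd a π), hP.of_iso (Subobject.underlyingIso _).symm,
    lt_of_le_not_ge ?_ ?_⟩
  · exact Subobject.le_mk_of_comm (pullback.lift 0 N.arrow (by simp [hπ]))
      (pullback.lift_snd _ _ _)
  · intro hle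
    have hNπ : N.arrow ≫ π = 0 := cokernel.condition N.arrow
    have h1 : pullback.snd a π ≫ π = 0 := by
      rw [← Subobject.ofMkLE_arrow hle, Category.assoc, hNπ, comp_zero]
    have h2 : pullback.fst a π ≫ a = 0 := by rw [pullback.condition, h1]
    haveI : Epi (pullback.fst a π) := Abelian.epi_pullback_of_epi_g a π
    have h3 : a = 0 := by rwa [← cancel_epi (pullback.fst a π), comp_zero]
    apply hm0
    rw [← hq₁, h3]
    rfl

/-- every coherent module on a Noetherian scheme is good. -/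
theorem good_of_support [IsNoetherian X] (S : Closeds X) :
    ∀ M : X.Modules, Coh.IsCoh M → CohB1.support M ⊆ (S : Set X) → Good M := by
  induction S using WellFoundedLT.induction with
  | ind S ih =>
    intro M hM hsupp
    by_contra hnot
    have htop : ∀ N : Subobject M, Good (N : X.Modules) → N ≠ ⊤ := by
      rintro N hN rfl
      exact hnot (hN.of_iso (asIso (⊤ : Subobject M).arrow))
    have hstep : ∀ N : {N : Subobject M // Good (N : X.Modules)},
        ∃ N' : {N : Subobject M // Good (N : X.Modules)}, N.1 < N'.1 := by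
      intro N
      obtain ⟨N', h1, h2⟩ := exists_bigger S ih M hM hsupp N.1 N.2 (htop N.1 N.2)
      exact ⟨⟨N', h1⟩, h2⟩
    choose nxt hnxt using hstep
    let N₀ : {N : Subobject M // Good (N : X.Modules)} :=
      ⟨⊥, Good.zero _ ((isZero_zero _).of_iso Subobject.botCoeIsoZero)⟩
    let f : ℕ → {N : Subobject M // Good (N : X.Modules)} := fun n => Nat.rec N₀ (fun _ N => nxt N) n
    have hf : ∀ n, (f n).1 < (f (n + 1)).1 := fun n => hnxt (f n)
    let F : ℕ →o Subobject M :=
      ⟨fun n => (f n).1, monotone_nat_of_le_succ (fun n => (hf n).le)⟩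
    obtain ⟨n, hn⟩ := Groth.Agent.Helper28.CohACC.acc X M hM F (fun k => (f k).2.isCoh.1)
    exact (hf n).ne (hn (n + 1) (Nat.le_succ n)).symm

theorem good_of_isCoh [IsNoetherian X] (M : X.Modules) (hM : Coh.IsCoh M) : Good M :=
  good_of_support ⊤ M hM (fun _ _ => trivial)

/-- S0026. -/
theorem main26 (X : Scheme.{u}) [IsNoetherian X] (M : X.Modules) (hM : Coh.IsCoh M) :
    ∃ (m : ℕ) (F : ℕ → X.Modules) (φ : (j : ℕ) → (F j ⟶ F (j + 1))),
      IsZero (F 0) ∧ Nonempty (F m ≅ M) ∧ (∀ j ≤ m, Coh.IsCoh (F j)) ∧ ∀ j < m, Mono (φ j) ∧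
        ∃ (Z : Scheme.{u}) (i : Z ⟶ X), IsClosedImmersion i ∧ IsIntegral Z ∧
          ∃ (I : Z.Modules) (ι : I ⟶ Coh.structureModule Z), Mono ι ∧ Coh.IsQCoh I ∧ ¬ IsZero I ∧
            Nonempty (cokernel (φ j) ≅ (Coh.push i).obj I) :=
  (good_of_isCoh M hM).exists_filtration

/-- S0027. -/
theorem main27 (X : Scheme.{u}) [IsNoetherian X] [Nonempty X]
    (P : X.Modules → Prop) (hP : ∀ M N : X.Modules, Nonempty (M ≅ N) → P M → P N)
    (h₁ : ∀ S : ShortComplex X.Modules, S.ShortExact → Coh.IsCoh S.X₁ → Coh.IsCoh S.X₂ →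
      Coh.IsCoh S.X₃ → P S.X₁ → P S.X₃ → P S.X₂)
    (h₂ : ∀ (Z : Scheme.{u}) (i : Z ⟶ X), IsClosedImmersion i → IsIntegral Z →
      ∀ (I : Z.Modules) (ι : I ⟶ Coh.structureModule Z), Mono ι → Coh.IsQCoh I →
        P ((Coh.push i).obj I))
    (M : X.Modules) (hM : Coh.IsCoh M) : P M := by
  have hzero : ∀ M0 : X.Modules, IsZero M0 → P M0 := by
    intro M0 h0
    obtain ⟨x⟩ := ‹Nonempty X›
    obtain ⟨Z, i, hi1, hi2, -⟩ := exists_integral x
    have h := h₂ Z i hi1 hi2 0 0 inferInstance
      (Groth.Agent.Helper5.K0Coh.isQuasicoherent_of_isZero (isZero_zero _))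
    exact hP _ _ ⟨((Coh.push i).map_isZero (isZero_zero _)).iso h0⟩ h
  have key : ∀ M : X.Modules, Good M → P M := by
    intro M hG
    induction hG with
    | zero M hz => exact hzero M hz
    | step φ hφ hM' hcoh hst ih =>
      obtain ⟨Z, i, hi1, hi2, I, ι, hι, hIq, -, ⟨θ⟩⟩ := hst
      have hPc : P (cokernel φ) := hP _ _ ⟨θ.symm⟩ (h₂ Z i hi1 hi2 I ι hι hIq)
      have hcc : Coh.IsCoh (cokernel φ) := (Groth.Agent.S9514.result X hM'.isCoh hcoh φ).2
      haveI := hφ
      exact h₁ (ShortComplex.mk φ (cokernel.π φ) (cokernel.condition φ))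
        (ShortComplex.ShortExact.mk' (ShortComplex.exact_cokernel φ)
          (show Mono φ from hφ) (show Epi (cokernel.π φ) from inferInstance))
        hM'.isCoh hcoh hcc ih hPc
  exact key M (good_of_isCoh M hM)

end Groth.Agent.Helper26.DevC
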