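import Mathlib
import Groth.Agent.Lib.Helper26.DevC

set_option autoImplicit false
set_option linter.unusedSectionVars false
set_option linter.style.haveILetI false
universe u
open CategoryTheory CategoryTheory.Limits AlgebraicGeometry Opposite TopologicalSpace
open Groth.Agent.Helper13.QCoh Groth.Agent.Helper13.FinType
open Groth.Agent.Helper26.DevA Groth.Agent.Helper26.DevC
open ZeroObject

namespace Groth.Agent.Helper26.DevD

variable {X : Scheme.{u}}

/-- The support of a coherent module is closed. -/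
theorem isClosed_support (F : X.Modules) (hF : Coh.IsCoh F) : IsClosed (CohB1.support F) := by
  haveI : F.IsQuasicoherent := hF.1
  haveI : SheafOfModules.IsFiniteType (R := X.ringCatSheaf) F := hF.2
  have h : CohB1.support F = ((Groth.Agent.Helper28.SchSupport.annIdeal F).support : Set X) :=
    (Groth.Agent.Helper28.SchSupport.support_annIdeal F).symm
  rw [h]
  exact (Groth.Agent.Helper28.SchSupport.annIdeal F).support.isClosed

section Core

variable [IsNoetherian X] (Z₀ : Set X)
  (P : X.Modules → Prop) (hP : ∀ M N : X.Modules, Nonempty (M ≅ N) → P M → P N)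
  (h0 : ∀ M : X.Modules, IsZero M → P M)
  (hext : ∀ S : ShortComplex X.Modules, S.ShortExact → Coh.IsCoh S.X₁ → Coh.IsCoh S.X₂ →
    Coh.IsCoh S.X₃ → CohB1.support S.X₂ ⊆ Z₀ → P S.X₁ → P S.X₃ → P S.X₂)
  (H : ∀ ξ ∈ Z₀, (∀ F : X.Modules, Coh.IsCoh F → CohB1.support F ⊆ closure ({ξ} : Set X) →
      ξ ∉ CohB1.support F → P F) →
    ∃ (Z : Scheme.{u}) (i : Z ⟶ X), IsClosedImmersion i ∧ IsIntegral Z ∧
      Set.range i = closure ({ξ} : Set X) ∧
      ∀ (I : Z.Modules) (ι : I ⟶ Coh.structureModule Z), Mono ι → Coh.IsCoh I → ¬ IsZero I →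
        P ((Coh.push i).obj I))

include hP hext H in
set_option maxHeartbeats 800000 in
theorem exists_bigger' (S : Closeds X) (hSZ : (S : Set X) ⊆ Z₀)
    (ih : ∀ S' : Closeds X, S' < S → ∀ M : X.Modules, Coh.IsCoh M →
      CohB1.support M ⊆ (S' : Set X) → P M)
    (M : X.Modules) (hM : Coh.IsCoh M) (hsupp : CohB1.support M ⊆ (S : Set X))
    (N : Subobject M) (hNc : Coh.IsCoh (N : X.Modules)) (hN : P (N : X.Modules)) (hNtop : N ≠ ⊤) :
    ∃ N' : Subobject M, (Coh.IsCoh (N' : X.Modules) ∧ P (N' : X.Modules)) ∧ N < N' := by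
  classical
  set π : M ⟶ cokernel N.arrow := cokernel.π N.arrow with hπ
  have hQ : Coh.IsCoh (cokernel N.arrow) := isCoh_cokernel_arrow hM N hNc
  have hQ0 : ¬ IsZero (cokernel N.arrow) := by
    intro hz
    haveI : Epi N.arrow := Preadditive.epi_of_isZero_cokernel N.arrow hz
    haveI : IsIso N.arrow := isIso_of_mono_of_epi _
    exact hNtop (Subobject.eq_top_of_isIso_arrow N)
  obtain ⟨U, hU, m, ξ, hξ, hann⟩ := exists_ass (cokernel N.arrow) hQ hQ0
  haveI hQq : (cokernel N.arrow).IsQuasicoherent := hQ.1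
  have hsuppQ : CohB1.support (cokernel N.arrow) ⊆ (S : Set X) := by
    intro x hx
    apply hsupp
    intro hsub
    exact hx (Groth.Agent.Helper28.CohSub.subsingleton_stalk_of_epi π x hsub)
  have hξS : ξ ∈ (S : Set X) := by
    apply hsuppQ
    intro hsub
    exact Groth.Agent.Helper26.DevB.germ_m_ne_zero (cokernel N.arrow) U m hU ξ hξ hann
      (hsub.elim _ _)
  have hclS : closure ({ξ} : Set X) ⊆ (S : Set X) :=
    closure_minimal (Set.singleton_subset_iff.2 hξS) S.isClosed
  obtain ⟨Z, i, hi1, hi2, hi3, hPI⟩ := H ξ (hSZ hξS) (by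
    intro F hF hFs hξF
    let S'' : Closeds X := ⟨CohB1.support F, isClosed_support F hF⟩
    have hlt : S'' < S := by
      refine lt_of_le_of_ne (fun x hx => hclS (hFs hx)) ?_
      intro heq
      apply hξF
      have : ξ ∈ (S'' : Set X) := by rw [heq]; exact hξS
      exact this
    exact ih S'' hlt F hF (fun x hx => hx))
  haveI := hi1
  haveI := hi2
  obtain ⟨Q₁, a, I, ι, b, ha, hb, hι, hI, hI0, hQ₁, hT, q₁, hq₁⟩ :=
    Groth.Agent.Helper26.DevB.key (cokernel N.arrow) U hQ m hU ξ hξ hann i hi3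
  haveI := ha
  haveI := hb
  haveI := hι
  have hm0 : m ≠ 0 := by
    intro h0
    have h2 : (1 : Γ(X, U)) • m = 0 := by rw [h0, smul_zero]
    apply (hann 1).1 h2
    rw [X.mem_basicOpen 1 ξ hξ, map_one]
    exact isUnit_one
  haveI : Q₁.IsQuasicoherent := hQ₁.1
  haveI : SheafOfModules.IsFiniteType (R := X.ringCatSheaf) Q₁ := hQ₁.2
  haveI : I.IsQuasicoherent := hI.1
  haveI : SheafOfModules.IsFiniteType (R := Z.ringCatSheaf) I := hI.2
  haveI hpushq : ((Coh.push i).obj I).IsQuasicoherent :=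
    Groth.Agent.Helper13.QCohPush.isQuasicoherent_pushforward i I
  have hpushc : Coh.IsCoh ((Coh.push i).obj I) :=
    ⟨hpushq, (Groth.Agent.Helper13.PushFinite.isFiniteType_pushforward_iff i I).1 inferInstance⟩
  haveI hTq : (kernel b).IsQuasicoherent := Groth.Agent.Helper13.QCohLocal.isQuasicoherent_kernel b
  have hTcoh : Coh.IsCoh (kernel b) :=
    ⟨hTq, Groth.Agent.Helper28.CohSub.isFiniteType_of_mono (kernel.ι b)⟩
  let S' : Closeds X := ⟨(S : Set X) ∩ (U : Set X)ᶜ, S.isClosed.inter U.isOpen.isClosed_compl⟩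
  have hS' : S' < S := by
    refine lt_of_le_of_ne (fun x hx => hx.1) ?_
    intro heq
    have : ξ ∈ (S' : Set X) := by rw [heq]; exact hξS
    exact this.2 hξ
  have hsuppQ₁ : CohB1.support Q₁ ⊆ (S : Set X) := by
    intro x hx
    apply hsuppQ
    intro hsub
    exact hx (Groth.Agent.Helper28.CohSub.subsingleton_stalk_of_mono a x hsub)
  have hTsupp : CohB1.support (kernel b) ⊆ (S' : Set X) := by
    intro x hx
    refine ⟨hsuppQ₁ ?_, fun hxU => hx (hT x hxU)⟩
    intro hsub
    exact hx (Groth.Agent.Helper28.CohSub.subsingleton_stalk_of_mono (kernel.ι b) x hsub)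
  have hTP : P (kernel b) := ih S' hS' _ hTcoh hTsupp
  have hpushP : P ((Coh.push i).obj I) := hPI I ι hι hI hI0
  have hSE : (ShortComplex.mk (kernel.ι b) b (kernel.condition b)).ShortExact :=
    ShortComplex.ShortExact.mk' (ShortComplex.exact_of_f_is_kernel _ (kernelIsKernel b))
      (show Mono (kernel.ι b) from inferInstance) (show Epi b from inferInstance)
  have hQ₁P : P Q₁ := hext _ hSE hTcoh hQ₁ hpushc (hsuppQ₁.trans hSZ) hTP hpushP
  let eK : (N : X.Modules) ≅ kernel π := IsLimit.conePointUniqueUpToIso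
      (Abelian.monoIsKernelOfCokernel _ (cokernelIsCokernel N.arrow)) (limit.isLimit _)
  have hkerP : P (kernel π) := hP _ _ ⟨eK⟩ hN
  have hkerc : Coh.IsCoh (kernel π) := Groth.Agent.Helper5.K0Coh.isCoh_of_iso eK hNc
  haveI : Epi π := by rw [hπ]; infer_instance
  have hPbc : Coh.IsCoh (pullback a π) := isCoh_pullback π a hM hQ hQ₁
  haveI : Mono (pullback.snd a π) := pullback.snd_of_mono
  have hPbsupp : CohB1.support (pullback a π) ⊆ Z₀ := by
    intro x hx
    apply hSZ
    apply hsupp
    intro hsub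
    exact hx (Groth.Agent.Helper28.CohSub.subsingleton_stalk_of_mono (pullback.snd a π) x hsub)
  have hPbP : P (pullback a π) :=
    hext _ (shortExact_pb π a) hkerc hPbc hQ₁ hPbsupp hkerP hQ₁P
  refine ⟨Subobject.mk (pullback.snd a π),
    ⟨Groth.Agent.Helper5.K0Coh.isCoh_of_iso (Subobject.underlyingIso _).symm hPbc,
      hP _ _ ⟨(Subobject.underlyingIso _).symm⟩ hPbP⟩, lt_of_le_not_ge ?_ ?_⟩
  · exact Subobject.le_mk_of_comm (pullback.lift 0 N.arrow (by simp [hπ]))
      (pullback.lift_snd _ _ _)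
  · intro hle
    have hNπ : N.arrow ≫ π = 0 := cokernel.condition N.arrow
    have h1 : pullback.snd a π ≫ π = 0 := by
      rw [← Subobject.ofMkLE_arrow hle, Category.assoc, hNπ, comp_zero]
    have h2 : pullback.fst a π ≫ a = 0 := by rw [pullback.condition, h1]
    haveI : Epi (pullback.fst a π) := Abelian.epi_pullback_of_epi_g a π
    have h3 : a = 0 := by rwa [← cancel_epi (pullback.fst a π), comp_zero]
    apply hm0
    rw [← hq₁, h3]
    rfl

include hP h0 hext H in
theorem core_aux (S : Closeds X) : (S : Set X) ⊆ Z₀ →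
    ∀ M : X.Modules, Coh.IsCoh M → CohB1.support M ⊆ (S : Set X) → P M := by
  induction S using WellFoundedLT.induction with
  | ind S ih =>
    intro hSZ M hM hsupp
    by_contra hnot
    have ih' : ∀ S' : Closeds X, S' < S → ∀ M : X.Modules, Coh.IsCoh M →
        CohB1.support M ⊆ (S' : Set X) → P M :=
      fun S' hS' => ih S' hS' (fun x hx => hSZ (hS'.le hx))
    have htop : ∀ N : Subobject M, P (N : X.Modules) → N ≠ ⊤ := by
      rintro N hN rfl
      exact hnot (hP _ _ ⟨asIso (⊤ : Subobject M).arrow⟩ hN)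
    have hstep : ∀ N : {N : Subobject M // Coh.IsCoh (N : X.Modules) ∧ P (N : X.Modules)},
        ∃ N' : {N : Subobject M // Coh.IsCoh (N : X.Modules) ∧ P (N : X.Modules)},
          N.1 < N'.1 := by
      intro N
      obtain ⟨N', h1, h2⟩ := exists_bigger' Z₀ P hP hext H S hSZ ih' M hM hsupp N.1 N.2.1 N.2.2
        (htop N.1 N.2.2)
      exact ⟨⟨N', h1⟩, h2⟩
    choose nxt hnxt using hstep
    have hbot : IsZero ((⊥ : Subobject M) : X.Modules) :=
      (isZero_zero _).of_iso Subobject.botCoeIsoZero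
    let N₀ : {N : Subobject M // Coh.IsCoh (N : X.Modules) ∧ P (N : X.Modules)} :=
      ⟨⊥, Groth.Agent.Helper5.K0Coh.isCoh_of_isZero hbot, h0 _ hbot⟩
    let f : ℕ → {N : Subobject M // Coh.IsCoh (N : X.Modules) ∧ P (N : X.Modules)} :=
      fun n => Nat.rec N₀ (fun _ N => nxt N) n
    have hf : ∀ n, (f n).1 < (f (n + 1)).1 := fun n => hnxt (f n)
    let F : ℕ →o Subobject M :=
      ⟨fun n => (f n).1, monotone_nat_of_le_succ (fun n => (hf n).le)⟩
    obtain ⟨n, hn⟩ := Groth.Agent.Helper28.CohACC.acc X M hM F (fun k => (f k).2.1.1)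
    exact (hf n).ne (hn (n + 1) (Nat.le_succ n)).symm

include hP h0 hext H in
/-- **Dévissage core**: a property of coherent modules supported in the closed set `Z₀` which is
closed under extensions, holds for zero modules and (assuming it for modules with smaller support)
for the direct images of nonzero coherent ideals of one integral closed subscheme structure on each
irreducible closed subset of `Z₀`, holds for all coherent modules supported in `Z₀`. -/
theorem core (hZ₀ : IsClosed Z₀) (M : X.Modules) (hM : Coh.IsCoh M)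
    (hsupp : CohB1.support M ⊆ Z₀) : P M :=
  core_aux Z₀ P hP h0 hext H ⟨Z₀, hZ₀⟩ (fun _ hx => hx) M hM hsupp

end Core

end Groth.Agent.Helper26.DevD
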