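import Mathlib
import Groth.Agent.Lib.Helper9.SuppD
import Groth.Agent.Lib.Helper13.QCohKer
import Groth.Agent.Lib.Helper13.QCohStalk
import Groth.Agent.Lib.Helper13.FinTypeEpi
import Groth.Agent.Lib.Helper13.EpiStalk
import Groth.Agent.Lib.Helper28.CohSub
import Groth.Agent.Lib.Helper28.SuppProper

set_option linter.style.haveILetI false
set_option linter.unusedVariables false

open CategoryTheory CategoryTheory.Limits AlgebraicGeometry Opposite

universe u

namespace Groth.Agent.Helper26.StalkNbhd

variable {X : Scheme.{u}}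

open Groth.Agent.Helper13.QCoh Groth.Agent.Helper13.FinType

theorem exists_zero_nbhd (F : X.Modules) [F.IsQuasicoherent]
    [SheafOfModules.IsFiniteType (R := X.ringCatSheaf) F] (x : X)
    (h : Subsingleton (F.presheaf.stalk x)) :
    ∃ U : X.Opens, x ∈ U ∧ ∀ y ∈ U, Subsingleton (F.presheaf.stalk y) := by
  have hc := Groth.Agent.Helper28.SuppProper.isClosed_support F
  refine ⟨⟨(CohB1.support F)ᶜ, hc.isOpen_compl⟩, ?_, ?_⟩
  · change x ∉ CohB1.support F
    intro hx
    exact hx h
  · intro y hy
    have hy' : y ∉ CohB1.support F := hy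
    by_contra hn
    exact hy' hn

/-- the stalk of a restriction, with clean types -/
noncomputable def rIso (U : X.Opens) (M : X.Modules) (y : (U : Scheme.{u})) :
    ((Scheme.Modules.restrictFunctor U.ι).obj M).presheaf.stalk y ≅ M.presheaf.stalk (U.ι y) :=
  (Scheme.Modules.restrictStalkNatIso U.ι y).app M

theorem stalkMap_restrict_sq (U : X.Opens) {F G : X.Modules} (φ : G ⟶ F) (y : (U : Scheme.{u})) :
    stalkMap ((Scheme.Modules.restrictFunctor U.ι).map φ) y ≫ (rIso U F y).hom =
      (rIso U G y).hom ≫ stalkMap φ (U.ι y) :=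
  (Scheme.Modules.restrictStalkNatIso U.ι y).hom.naturality φ

theorem stalkMap_restrict_apply (U : X.Opens) {F G : X.Modules} (φ : G ⟶ F) (y : (U : Scheme.{u}))
    (a : ((Scheme.Modules.restrictFunctor U.ι).obj G).presheaf.stalk y) :
    (rIso U F y).hom (stalkMap ((Scheme.Modules.restrictFunctor U.ι).map φ) y a) =
      stalkMap φ (U.ι y) ((rIso U G y).hom a) := by
  have h := stalkMap_restrict_sq U φ y
  rw [← ConcreteCategory.comp_apply, h, ConcreteCategory.comp_apply]

theorem stalkMap_restrict_injective (U : X.Opens) {F G : X.Modules} (φ : G ⟶ F) (y : (U : Scheme.{u}))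
    (h : Function.Injective (stalkMap φ (U.ι y))) :
    Function.Injective (stalkMap ((Scheme.Modules.restrictFunctor U.ι).map φ) y) := by
  have h1 : Function.Bijective (rIso U G y).hom := ConcreteCategory.bijective_of_isIso _
  intro a b hab
  apply h1.1
  apply h
  rw [← stalkMap_restrict_apply, ← stalkMap_restrict_apply, hab]

theorem stalkMap_restrict_surjective (U : X.Opens) {F G : X.Modules} (φ : G ⟶ F) (y : (U : Scheme.{u}))
    (h : Function.Surjective (stalkMap φ (U.ι y))) :
    Function.Surjective (stalkMap ((Scheme.Modules.restrictFunctor U.ι).map φ) y) := by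
  have h1 : Function.Bijective (rIso U G y).hom := ConcreteCategory.bijective_of_isIso _
  have h2 : Function.Bijective (rIso U F y).hom := ConcreteCategory.bijective_of_isIso _
  intro b
  obtain ⟨a, ha⟩ := h ((rIso U F y).hom b)
  obtain ⟨a', rfl⟩ := h1.2 a
  refine ⟨a', ?_⟩
  apply h2.1
  rw [stalkMap_restrict_apply, ha]

/-- injectivity at a stalk from vanishing of the kernel stalk -/
theorem injective_of_kernel_stalk {F G : X.Modules} (φ : G ⟶ F) (y : X)
    (h : Subsingleton ((kernel φ).presheaf.stalk y)) : Function.Injective (stalkMap φ y) := by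
  rw [injective_iff_map_eq_zero]
  intro m hm
  let S : ShortComplex X.Modules := ShortComplex.mk (kernel.ι φ) φ (kernel.condition φ)
  have hS : S.Exact := ShortComplex.exact_kernel φ
  have : Mono S.f := by dsimp [S]; infer_instance
  obtain ⟨k, hk⟩ := stalk_exact_of_exact_of_mono S hS y m hm
  rw [← hk, Subsingleton.elim k 0, map_zero]

/-- surjectivity at a stalk from vanishing of the cokernel stalk -/
theorem surjective_of_cokernel_stalk {F G : X.Modules} (φ : G ⟶ F) (y : X)
    (h : Subsingleton ((cokernel φ).presheaf.stalk y)) : Function.Surjective (stalkMap φ y) := by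
  intro m
  let S : ShortComplex X.Modules :=
    ShortComplex.mk (Abelian.image.ι φ) (cokernel.π φ) (by simp)
  have hS : S.Exact := ShortComplex.exact_kernel (cokernel.π φ)
  have : Mono S.f := by dsimp [S]; infer_instance
  obtain ⟨k, hk⟩ := stalk_exact_of_exact_of_mono S hS y m (Subsingleton.elim _ _)
  obtain ⟨g, hg⟩ := stalkMap_surjective_of_epi (Abelian.factorThruImage φ) y k
  refine ⟨g, ?_⟩
  have hfac : Abelian.factorThruImage φ ≫ Abelian.image.ι φ = φ := Abelian.image.fac φ
  have h3 := Groth.Agent.Helper13.PbInv.stalkMap_comp (Abelian.factorThruImage φ)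
    (Abelian.image.ι φ) y g
  rw [hfac, hg] at h3
  rw [h3]
  exact hk

theorem main (X : Scheme.{u}) [IsLocallyNoetherian X]
    (F G : X.Modules) (hF : Coh.IsCoh F) (hG : Coh.IsCoh G) (φ : G ⟶ F) (x : X) :
    (Subsingleton ↑(F.presheaf.stalk x) →
      ∃ U : X.Opens, x ∈ U ∧ IsZero ((Scheme.Modules.restrictFunctor U.ι).obj F)) ∧
    (Function.Injective ((TopCat.Presheaf.stalkFunctor _ x).map φ.mapPresheaf).hom →
      ∃ U : X.Opens, x ∈ U ∧ Mono ((Scheme.Modules.restrictFunctor U.ι).map φ)) ∧
    (Function.Bijective ((TopCat.Presheaf.stalkFunctor _ x).map φ.mapPresheaf).hom →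
      ∃ U : X.Opens, x ∈ U ∧ IsIso ((Scheme.Modules.restrictFunctor U.ι).map φ)) := by
  have : F.IsQuasicoherent := hF.1
  have : SheafOfModules.IsFiniteType (R := X.ringCatSheaf) F := hF.2
  have : G.IsQuasicoherent := hG.1
  have : SheafOfModules.IsFiniteType (R := X.ringCatSheaf) G := hG.2
  have hKq : (kernel φ).IsQuasicoherent := Groth.Agent.Helper13.QCohLocal.isQuasicoherent_kernel φ
  have hCq : (cokernel φ).IsQuasicoherent :=
    Groth.Agent.Helper13.QCohLocal.isQuasicoherent_cokernel φ
  have hKf : SheafOfModules.IsFiniteType (R := X.ringCatSheaf) (kernel φ) :=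
    @Groth.Agent.Helper28.CohSub.isFiniteType_of_mono X _ (kernel φ) G hKq _ _ (kernel.ι φ) _
  have hCf : SheafOfModules.IsFiniteType (R := X.ringCatSheaf) (cokernel φ) :=
    isFiniteType_of_epi (X := X) (G := F) (C := cokernel φ) (cokernel.π φ)
  have hK : Function.Injective (stalkMap φ x) → ∃ U : X.Opens, x ∈ U ∧
      Mono ((Scheme.Modules.restrictFunctor U.ι).map φ) := by
    intro hinj
    have hKx : Subsingleton ((kernel φ).presheaf.stalk x) :=
      Groth.Agent.Helper28.CohSub.subsingleton_stalk_of_mono_of_comp_zero (kernel.ι φ) φ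
        (kernel.condition φ) x hinj
    obtain ⟨U, hxU, hU⟩ := @exists_zero_nbhd X (kernel φ) hKq hKf x hKx
    refine ⟨U, hxU, ?_⟩
    rw [mono_iff_stalk_injective]
    intro y
    exact stalkMap_restrict_injective U φ y (injective_of_kernel_stalk φ _ (hU _ y.2))
  refine ⟨?_, hK, ?_⟩
  · intro h
    obtain ⟨U, hxU, hU⟩ := exists_zero_nbhd F x h
    exact ⟨U, hxU, Groth.Agent.Helper9.SuppD.isZero_restrict_of_stalks F U hU⟩
  · intro hbij
    have hinj : Function.Injective (stalkMap φ x) := hbij.1
    have hsurj : Function.Surjective (stalkMap φ x) := hbij.2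
    have hKx : Subsingleton ((kernel φ).presheaf.stalk x) :=
      Groth.Agent.Helper28.CohSub.subsingleton_stalk_of_mono_of_comp_zero (kernel.ι φ) φ
        (kernel.condition φ) x hinj
    have hCx : Subsingleton ((cokernel φ).presheaf.stalk x) := by
      refine ⟨fun a b => ?_⟩
      have key : ∀ c : (cokernel φ).presheaf.stalk x, c = 0 := by
        intro c
        obtain ⟨f, rfl⟩ := stalkMap_surjective_of_epi (cokernel.π φ) x c
        obtain ⟨g, rfl⟩ := hsurj f
        rw [← Groth.Agent.Helper13.PbInv.stalkMap_comp, cokernel.condition,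
          Groth.Agent.Helper13.PbInv.stalkMap_zero]
      rw [key a, key b]
    obtain ⟨U₁, hxU₁, hU₁⟩ := @exists_zero_nbhd X (kernel φ) hKq hKf x hKx
    obtain ⟨U₂, hxU₂, hU₂⟩ := @exists_zero_nbhd X (cokernel φ) hCq hCf x hCx
    refine ⟨U₁ ⊓ U₂, ⟨hxU₁, hxU₂⟩, ?_⟩
    have hm : Mono ((Scheme.Modules.restrictFunctor (U₁ ⊓ U₂).ι).map φ) := by
      rw [mono_iff_stalk_injective]
      intro y
      exact stalkMap_restrict_injective _ φ y (injective_of_kernel_stalk φ _ (hU₁ _ y.2.1))
    have he : Epi ((Scheme.Modules.restrictFunctor (U₁ ⊓ U₂).ι).map φ) := by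
      rw [epi_iff_stalkMap_surjective]
      intro y
      exact stalkMap_restrict_surjective _ φ y (surjective_of_cokernel_stalk φ _ (hU₂ _ y.2.2))
    exact isIso_of_mono_of_epi _

end Groth.Agent.Helper26.StalkNbhd
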