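import Mathlib
import Groth.Agent.Lib.Helper26.DevD
import Groth.Agent.Lib.Helper26.StalkNbhd
import Groth.Agent.Lib.Helper13.FinTypeExt

set_option autoImplicit false
set_option linter.unusedSectionVars false
set_option linter.style.haveILetI false
universe u
open CategoryTheory CategoryTheory.Limits AlgebraicGeometry Opposite TopologicalSpace
open Groth.Agent.Helper13.QCoh Groth.Agent.Helper13.FinType
open Groth.Agent.Helper26.DevA Groth.Agent.Helper26.DevC Groth.Agent.Helper26.DevD
open ZeroObject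

namespace Groth.Agent.Helper26.DevE

variable {X : Scheme.{u}}

/-- The linear map on stalks induced by a morphism of modules. -/
noncomputable def stalkLin {F G : X.Modules} (φ : F ⟶ G) (x : X) :
    F.presheaf.stalk x →ₗ[X.presheaf.stalk x] G.presheaf.stalk x where
  toFun := stalkMap φ x
  map_add' := map_add _
  map_smul' := stalkMap_smul φ x

lemma stalkLin_apply {F G : X.Modules} (φ : F ⟶ G) (x : X) (m : F.presheaf.stalk x) :
    stalkLin φ x m = stalkMap φ x m := rfl

lemma support_subset_of_mono {F G : X.Modules} (f : F ⟶ G) [Mono f] :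
    CohB1.support F ⊆ CohB1.support G := fun x hx hsub =>
  hx (Groth.Agent.Helper28.CohSub.subsingleton_stalk_of_mono f x hsub)

lemma support_subset_of_epi {F G : X.Modules} (f : F ⟶ G) [Epi f] :
    CohB1.support G ⊆ CohB1.support F := fun x hx hsub =>
  hx (Groth.Agent.Helper28.CohSub.subsingleton_stalk_of_epi f x hsub)

lemma stalkMap_add {F G : X.Modules} (f g : F ⟶ G) (x : X) (m : F.presheaf.stalk x) :
    stalkMap (f + g) x m = stalkMap f x m + stalkMap g x m := by
  obtain ⟨U, hxU, m₀, rfl⟩ := TopCat.Presheaf.exists_germ_eq F.presheaf m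
  rw [stalkMap_germ, stalkMap_germ, stalkMap_germ, ← map_add]
  rfl

lemma stalkMap_id (F : X.Modules) (x : X) (m : F.presheaf.stalk x) :
    stalkMap (𝟙 F) x m = m := by
  obtain ⟨U, hxU, m₀, rfl⟩ := TopCat.Presheaf.exists_germ_eq F.presheaf m
  rw [stalkMap_germ]
  rfl

section LemmaC

variable [IsLocallyNoetherian X] (ξ : X) (Z₀ : Set X)
  (P : X.Modules → Prop) (hP : ∀ M N : X.Modules, Nonempty (M ≅ N) → P M → P N)
  (h3 : ∀ S : ShortComplex X.Modules, S.ShortExact → Coh.IsCoh S.X₁ → Coh.IsCoh S.X₂ →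
    Coh.IsCoh S.X₃ → CohB1.support S.X₂ ⊆ Z₀ →
    (P S.X₁ → P S.X₂ → P S.X₃) ∧ (P S.X₁ → P S.X₃ → P S.X₂) ∧ (P S.X₂ → P S.X₃ → P S.X₁))
  (hA : ∀ F : X.Modules, Coh.IsCoh F → CohB1.support F ⊆ Z₀ → ξ ∉ CohB1.support F → P F)

include hP h3 hA in
/-- a morphism of coherent modules supported in `Z₀` which is bijective on the stalk at `ξ`
transfers `P` in both directions. -/
theorem iff_of_stalk_bijective {R R' : X.Modules} (f : R ⟶ R') (hR : Coh.IsCoh R)
    (hR' : Coh.IsCoh R') (hs : CohB1.support R ⊆ Z₀) (hs' : CohB1.support R' ⊆ Z₀)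
    (hbij : Function.Bijective (stalkMap f ξ)) : P R ↔ P R' := by
  have hK : Coh.IsCoh (kernel f) := (Groth.Agent.S9514.result X hR hR' f).1
  have hC : Coh.IsCoh (cokernel f) := (Groth.Agent.S9514.result X hR hR' f).2
  have hIm : Coh.IsCoh (Abelian.image f) := (Groth.Agent.S9514.result X hR' hC (cokernel.π f)).1
  have hCoim : Coh.IsCoh (Abelian.coimage f) :=
    (Groth.Agent.S9514.result X hK hR (kernel.ι f)).2
  -- the kernel and cokernel vanish at `ξ`
  have hKξ : ξ ∉ CohB1.support (kernel f) := fun h =>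
    h (Groth.Agent.Helper28.CohSub.subsingleton_stalk_of_mono_of_comp_zero (kernel.ι f) f
      (kernel.condition f) ξ hbij.1)
  have hCξ : ξ ∉ CohB1.support (cokernel f) := by
    intro h
    apply h
    refine ⟨fun z w => ?_⟩
    have key : ∀ z : (cokernel f).presheaf.stalk ξ, z = 0 := by
      intro z
      obtain ⟨r', rfl⟩ := stalkMap_surjective_of_epi (cokernel.π f) ξ z
      obtain ⟨r, rfl⟩ := hbij.2 r'
      rw [← Groth.Agent.Helper13.PbInv.stalkMap_comp, cokernel.condition,
        Groth.Agent.Helper13.PbInv.stalkMap_zero]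
    rw [key z, key w]
  have hPK : P (kernel f) :=
    hA _ hK ((support_subset_of_mono (kernel.ι f)).trans hs) hKξ
  have hPC : P (cokernel f) :=
    hA _ hC ((support_subset_of_epi (cokernel.π f)).trans hs') hCξ
  -- the two short exact sequences
  have hS1 : (ShortComplex.mk (kernel.ι f) (cokernel.π (kernel.ι f))
      (cokernel.condition _)).ShortExact :=
    ShortComplex.ShortExact.mk' (ShortComplex.exact_cokernel _)
      (show Mono (kernel.ι f) from inferInstance)
      (show Epi (cokernel.π (kernel.ι f)) from inferInstance)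
  have hS2 : (ShortComplex.mk (kernel.ι (cokernel.π f)) (cokernel.π f)
      (kernel.condition _)).ShortExact :=
    ShortComplex.ShortExact.mk' (ShortComplex.exact_kernel _)
      (show Mono (kernel.ι (cokernel.π f)) from inferInstance)
      (show Epi (cokernel.π f) from inferInstance)
  have e : Abelian.coimage f ≅ Abelian.image f := Abelian.coimageIsoImage f
  have h1 := h3 _ hS1 hK hR hCoim hs
  have h2 := h3 _ hS2 hIm hR' hC hs'
  constructor
  · intro hPR
    have hPcoim : P (Abelian.coimage f) := h1.1 hPK hPR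
    have hPim : P (Abelian.image f) := hP _ _ ⟨e⟩ hPcoim
    exact h2.2.1 hPim hPC
  · intro hPR'
    have hPim : P (Abelian.image f) := h2.2.2 hPR' hPC
    have hPcoim : P (Abelian.coimage f) := hP _ _ ⟨e.symm⟩ hPim
    exact h1.2.1 hPK hPcoim

end LemmaC

section Algebra

variable {R : Type*} [CommRing R] [IsLocalRing R] {M M' : Type*} [AddCommGroup M] [Module R M]
  [AddCommGroup M'] [Module R M']

/-- a nonzero cyclic module over a local ring whose generator is killed by the maximal ideal is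
simple. -/
theorem isSimpleModule_of_cyclic (s : M) (hs : s ≠ 0)
    (hk : ∀ r ∈ IsLocalRing.maximalIdeal R, r • s = 0) (hg : ∀ z : M, ∃ r : R, z = r • s) :
    IsSimpleModule R M := by
  rw [isSimpleModule_iff_toSpanSingleton_surjective]
  refine ⟨⟨⟨s, 0, hs⟩⟩, fun x hx z => ?_⟩
  obtain ⟨r, rfl⟩ := hg x
  obtain ⟨t, rfl⟩ := hg z
  have hr : IsUnit r := by
    by_contra hnu
    exact hx (hk r ((IsLocalRing.mem_maximalIdeal r).2 hnu))
  obtain ⟨v, rfl⟩ := hr
  refine ⟨t * ↑v⁻¹, ?_⟩
  rw [LinearMap.toSpanSingleton_apply, smul_smul, mul_assoc, Units.inv_mul, mul_one]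

/-- a nontrivial module which embeds in a simple module is simple. -/
theorem isSimpleModule_of_injective [IsSimpleModule R M] [Nontrivial M'] (f : M' →ₗ[R] M)
    (hf : Function.Injective f) : IsSimpleModule R M' := by
  have hne : f ≠ 0 := by
    intro h0
    obtain ⟨x, y, hxy⟩ := exists_pair_ne M'
    apply hxy
    apply hf
    rw [h0]; rfl
  have hsurj : Function.Surjective f := (LinearMap.surjective_or_eq_zero f).resolve_right hne
  exact IsSimpleModule.congr (LinearEquiv.ofBijective f ⟨hf, hsurj⟩)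

end Algebra

section SimpleStalk

variable (ξ : X) {Z : Scheme.{u}} (i : Z ⟶ X) [IsClosedImmersion i] [IsReduced Z]
  (hi : Set.range i = closure ({ξ} : Set X))

include hi in
lemma app_eq_zero_of_notMem_basicOpen {V : X.Opens} (c : Γ(X, V)) (hc : ξ ∉ X.basicOpen c) :
    i.app V c = 0 := by
  rw [← basicOpen_eq_bot_iff, ← Scheme.preimage_basicOpen]
  ext z
  simp only [Opens.coe_bot, Set.mem_empty_iff_false, iff_false]
  intro hz
  have hz' : i z ∈ X.basicOpen c := hz
  have hzc : i z ∈ closure ({ξ} : Set X) := by rw [← hi]; exact ⟨z, rfl⟩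
  obtain ⟨w, hw1, hw2⟩ := mem_closure_iff.1 hzc (X.basicOpen c) (X.basicOpen c).2 hz'
  rw [Set.mem_singleton_iff] at hw2
  exact hc (hw2 ▸ hw1)

open Groth.Agent.Helper13.LocFree in
include hi in
/-- the stalk of `i_* O_Z` at the generic point `ξ` of `Z` is a simple module. -/
theorem isSimpleModule_stalk_push_unit :
    IsSimpleModule (X.presheaf.stalk ξ)
      (((Scheme.Modules.pushforward i).obj (Coh.structureModule Z)).presheaf.stalk ξ) := by
  set u := ClSub.unitToPush i with hu
  have hξr : ξ ∈ Set.range i := by rw [hi]; exact subset_closure rfl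
  obtain ⟨z₀, hz₀⟩ := hξr
  have htop : ξ ∈ (⊤ : X.Opens) := trivial
  -- germs of the structure module
  have hgerm : ∀ (V : X.Opens) (hV : ξ ∈ V) (c : Γ(X, V)),
      stalkMap u ξ ((Coh.structureModule X).presheaf.germ V ξ hV (toO V c)) =
        X.presheaf.germ V ξ hV c • stalkMap u ξ
          ((Coh.structureModule X).presheaf.germ ⊤ ξ htop (toO ⊤ 1)) := by
    intro V hV c
    rw [← stalkMap_smul]
    congr 1
    have h1 : (Coh.structureModule X).presheaf.germ ⊤ ξ htop (toO ⊤ 1) =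
        (Coh.structureModule X).presheaf.germ V ξ hV (toO V 1) := by
      rw [← TopCat.Presheaf.germ_res_apply (Coh.structureModule X).presheaf (homOfLE le_top) ξ hV]
      congr 1
      exact map_one (X.presheaf.map (homOfLE (le_top : V ≤ ⊤)).op).hom
    rw [h1, ← germ_smul]
    congr 1
    exact (mul_one c).symm
  apply isSimpleModule_of_cyclic
    (stalkMap u ξ ((Coh.structureModule X).presheaf.germ ⊤ ξ htop (toO ⊤ 1)))
  · -- nonzero
    intro h0
    rw [stalkMap_germ] at h0
    have h0' : ((Scheme.Modules.pushforward i).obj (Coh.structureModule Z)).presheaf.germ ⊤ ξ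
        htop (u.app ⊤ (toO ⊤ 1)) =
        ((Scheme.Modules.pushforward i).obj (Coh.structureModule Z)).presheaf.germ ⊤ ξ htop 0 := by
      rw [h0, map_zero]
    obtain ⟨V, hξV, iV, iV2, hV⟩ := TopCat.Presheaf.germ_eq _ ξ htop htop _ _ h0'
    rw [map_zero] at hV
    have h1 : ((Scheme.Modules.pushforward i).obj (Coh.structureModule Z)).presheaf.map iV.op
        (u.app ⊤ (toO ⊤ 1)) = u.app V ((Coh.structureModule X).presheaf.map iV.op (toO ⊤ 1)) := by
      have := u.mapPresheaf.naturality iV.op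
      exact (congrArg (fun ψ' => ψ' (toO ⊤ 1)) this).symm
    rw [h1] at hV
    have h2 : (Coh.structureModule X).presheaf.map iV.op (toO ⊤ 1) = toO V 1 :=
      map_one (X.presheaf.map iV.op).hom
    rw [h2] at hV
    have h3 : i.app V 1 = 0 := hV
    rw [map_one] at h3
    have h4 : Z.basicOpen (1 : Γ(Z, i ⁻¹ᵁ V)) = ⊥ := by rw [h3, Scheme.basicOpen_zero]
    rw [Scheme.basicOpen_of_isUnit _ isUnit_one] at h4
    have h5 : z₀ ∈ i ⁻¹ᵁ V := by
      change i z₀ ∈ V
      rw [hz₀]; exact hξV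
    rw [h4] at h5
    exact h5
  · -- killed by the maximal ideal
    intro r hr
    obtain ⟨V, hξV, c, rfl⟩ := TopCat.Presheaf.exists_germ_eq X.presheaf r
    have hc : ξ ∉ X.basicOpen c := by
      rw [X.mem_basicOpen c ξ hξV]
      exact (IsLocalRing.mem_maximalIdeal _).1 hr
    rw [← hgerm V hξV c, stalkMap_germ]
    have h1 : u.app V (toO V c) = 0 := app_eq_zero_of_notMem_basicOpen ξ i hi c hc
    rw [h1, map_zero]
  · -- cyclic
    intro z
    obtain ⟨w, rfl⟩ := stalkMap_surjective_of_epi u ξ z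
    obtain ⟨V, hξV, c, rfl⟩ := TopCat.Presheaf.exists_germ_eq _ w
    exact ⟨X.presheaf.germ V ξ hξV c, hgerm V hξV c⟩

include hi in
lemma map_genericPoint [IsIntegral Z] : i (genericPoint Z) = ξ := by
  have h1 : closure ({i (genericPoint Z)} : Set X) = closure ({ξ} : Set X) := by
    rw [← hi, ← Set.image_singleton, i.isClosedEmbedding.closure_image_eq,
      (genericPoint_spec Z).def, Set.image_univ]
  exact (inseparable_iff_closure_eq.2 h1).eq

include hi in
/-- the stalk at `ξ` of the direct image of a nonzero ideal of the integral scheme `Z` is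
nontrivial. -/
theorem nontrivial_stalk_push [IsIntegral Z] (I : Z.Modules) (ι : I ⟶ Coh.structureModule Z)
    [Mono ι] (hI0 : ¬ IsZero I) :
    Nontrivial (((Scheme.Modules.pushforward i).obj I).presheaf.stalk ξ) := by
  rw [isZero_iff_sections] at hI0
  push Not at hI0
  obtain ⟨W, hW⟩ := hI0
  obtain ⟨s, hs⟩ := exists_ne (0 : Γ(I, W))
  have hinj : Function.Injective (ι.app W) := (mono_iff_app_injective ι).1 inferInstance W
  have ht : ι.app W s ≠ 0 := fun h => hs (hinj (h.trans (map_zero _).symm))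
  obtain ⟨V₀, hV₀o, hV₀⟩ := i.isEmbedding.isInducing.isOpen_iff.1 W.2
  obtain ⟨V, rfl⟩ : ∃ V : X.Opens, i ⁻¹ᵁ V = W := ⟨⟨V₀, hV₀o⟩, Opens.ext hV₀⟩
  -- the generic point lies in `W`
  have hηW : genericPoint Z ∈ i ⁻¹ᵁ V := by
    have hne : Z.basicOpen (show Γ(Z, i ⁻¹ᵁ V) from ι.app (i ⁻¹ᵁ V) s) ≠ ⊥ := by
      rw [Ne, basicOpen_eq_bot_iff]
      exact ht
    have hne' : ((i ⁻¹ᵁ V : Z.Opens) : Set Z).Nonempty := by
      by_contra hemp
      apply hne
      rw [Set.not_nonempty_iff_eq_empty] at hemp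
      apply le_antisymm _ bot_le
      intro x hx
      have : x ∈ ((i ⁻¹ᵁ V : Z.Opens) : Set Z) := Z.basicOpen_le _ hx
      rw [hemp] at this
      exact this.elim
    obtain ⟨x, hx⟩ := hne'
    exact ((genericPoint_spec Z).mem_open_set_iff (i ⁻¹ᵁ V).2).2 ⟨x, trivial, hx⟩
  have hξV : ξ ∈ V := by
    rw [← map_genericPoint ξ i hi]
    exact hηW
  refine ⟨⟨((Scheme.Modules.pushforward i).obj I).presheaf.germ V ξ hξV s, 0, ?_⟩⟩
  intro h0
  have h0' : ((Scheme.Modules.pushforward i).obj I).presheaf.germ V ξ hξV s =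
      ((Scheme.Modules.pushforward i).obj I).presheaf.germ V ξ hξV 0 := by rw [h0, map_zero]
  obtain ⟨V', hξV', iV, iV2, hV'⟩ := TopCat.Presheaf.germ_eq _ ξ hξV hξV _ _ h0'
  rw [map_zero] at hV'
  have hV'' : I.presheaf.map ((Opens.map i.base).map iV).op s = 0 := hV'
  have hηV' : genericPoint Z ∈ i ⁻¹ᵁ V' := by
    change i (genericPoint Z) ∈ V'
    rw [map_genericPoint ξ i hi]; exact hξV'
  haveI : Nonempty (i ⁻¹ᵁ V' : Z.Opens) := ⟨⟨_, hηV'⟩⟩
  have hres := map_injective_of_isIntegral (X := Z) ((Opens.map i.base).map iV)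
  apply ht
  apply hres
  refine Eq.trans ?_ (map_zero _).symm
  have hnat := ι.mapPresheaf.naturality ((Opens.map i.base).map iV).op
  have h2 : (Coh.structureModule Z).presheaf.map ((Opens.map i.base).map iV).op (ι.app _ s) =
      ι.app _ (I.presheaf.map ((Opens.map i.base).map iV).op s) :=
    (congrArg (fun ψ' => ψ' s) hnat).symm
  rw [hV'', map_zero] at h2
  exact h2

include hi in
/-- the stalk at `ξ` of the direct image of a nonzero ideal of the integral scheme `Z` is a simple
module. -/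
theorem isSimpleModule_stalk_push [IsIntegral Z] (I : Z.Modules) (ι : I ⟶ Coh.structureModule Z)
    [Mono ι] (hI0 : ¬ IsZero I) :
    IsSimpleModule (X.presheaf.stalk ξ)
      (((Scheme.Modules.pushforward i).obj I).presheaf.stalk ξ) := by
  haveI := isSimpleModule_stalk_push_unit ξ i hi
  haveI := nontrivial_stalk_push ξ i hi I ι hI0
  haveI : Mono ((Scheme.Modules.pushforward i).map ι) := inferInstance
  exact isSimpleModule_of_injective (stalkLin ((Scheme.Modules.pushforward i).map ι) ξ)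
    ((mono_iff_stalk_injective _).1 inferInstance ξ)

end SimpleStalk

section LemmaD

/-- a nonzero element of a stalk killed by the maximal ideal is the germ of a section over an
affine open neighbourhood whose annihilator is the prime ideal of the point. -/
theorem exists_section_ann [IsLocallyNoetherian X] (R : X.Modules) [R.IsQuasicoherent] (ξ : X)
    (hk : ∀ r ∈ IsLocalRing.maximalIdeal (X.presheaf.stalk ξ), ∀ z : R.presheaf.stalk ξ, r • z = 0)
    (z₀ : R.presheaf.stalk ξ) (hz₀ : z₀ ≠ 0) :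
    ∃ (U : X.Opens) (_ : IsAffineOpen U) (hξ : ξ ∈ U) (m : Γ(R, U)),
      R.presheaf.germ U ξ hξ m = z₀ ∧ ∀ a : Γ(X, U), a • m = 0 ↔ ξ ∉ X.basicOpen a := by
  classical
  obtain ⟨V, hξV, m₀, rfl⟩ := TopCat.Presheaf.exists_germ_eq R.presheaf z₀
  obtain ⟨_, ⟨U₁, hU₁, rfl⟩, hξ₁, hU₁V⟩ :=
    X.isBasis_affineOpens.exists_subset_of_mem_open hξV V.2
  have hU₁' : IsAffineOpen U₁ := hU₁
  have hU₁V' : U₁ ≤ V := hU₁V
  set m₁ : Γ(R, U₁) := R.presheaf.map (homOfLE hU₁V').op m₀ with hm₁
  have hgm₁ : R.presheaf.germ U₁ ξ hξ₁ m₁ = R.presheaf.germ V ξ hξV m₀ :=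
    TopCat.Presheaf.germ_res_apply R.presheaf (homOfLE hU₁V') ξ hξ₁ m₀
  haveI : IsNoetherianRing Γ(X, U₁) := IsLocallyNoetherian.component_noetherian ⟨U₁, hU₁⟩
  set p : Ideal Γ(X, U₁) :=
    (IsLocalRing.maximalIdeal (X.presheaf.stalk ξ)).comap (X.presheaf.germ U₁ ξ hξ₁).hom with hp
  have hmemp : ∀ a : Γ(X, U₁), a ∈ p ↔ ξ ∉ X.basicOpen a := by
    intro a
    rw [hp, Ideal.mem_comap, IsLocalRing.mem_maximalIdeal, mem_nonunits_iff,
      X.mem_basicOpen a ξ hξ₁]
  obtain ⟨T, hT⟩ := (isNoetherianRing_iff_ideal_fg Γ(X, U₁)).1 inferInstance p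
  have hkill : ∀ a ∈ T, ∃ g : Γ(X, U₁), ξ ∈ X.basicOpen g ∧ g • (a • m₁) = 0 := by
    intro a ha
    have hap : a ∈ p := by rw [← hT]; exact Ideal.subset_span ha
    apply exists_smul_eq_zero_of_germ_eq_zero R hU₁' ξ hξ₁
    rw [germ_smul]
    exact hk _ hap _
  choose! g hξg hg using hkill
  set G : Γ(X, U₁) := ∏ a ∈ T, g a with hG
  have hξG : ξ ∈ X.basicOpen G := by
    rw [X.mem_basicOpen G ξ hξ₁, hG, map_prod]
    exact IsUnit.prod_iff.2 (fun a ha => (X.mem_basicOpen (g a) ξ hξ₁).1 (hξg a ha))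
  have hGp : ∀ a ∈ p, G • (a • m₁) = 0 := by
    intro a ha
    rw [← hT] at ha
    induction ha using Submodule.span_induction with
    | mem a haT =>
      rw [hG, ← Finset.mul_prod_erase T g haT, mul_comm, mul_smul, hg a haT, smul_zero]
    | zero => rw [zero_smul, smul_zero]
    | add a b _ _ ha hb => rw [add_smul, smul_add, ha, hb, add_zero]
    | smul r a _ ha =>
      rw [smul_eq_mul, mul_smul, smul_comm, ha, smul_zero]
  set ρ := (X.presheaf.map (homOfLE (X.basicOpen_le G)).op).hom with hρ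
  set m : Γ(R, X.basicOpen G) := R.presheaf.map (homOfLE (X.basicOpen_le G)).op m₁ with hm
  have hgm : R.presheaf.germ (X.basicOpen G) ξ hξG m = R.presheaf.germ V ξ hξV m₀ := by
    rw [hm, TopCat.Presheaf.germ_res_apply, hgm₁]
  have hunit : IsUnit (ρ G) := X.toRingedSpace.isUnit_res_basicOpen G
  refine ⟨X.basicOpen G, hU₁'.basicOpen G, hξG, m, hgm, fun a' => ⟨fun h0 hmem => ?_, fun hnm => ?_⟩⟩
  · have h1 := congrArg (R.presheaf.germ (X.basicOpen G) ξ hξG) h0
    rw [germ_smul, map_zero, hgm] at h1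
    have hu : IsUnit (X.presheaf.germ (X.basicOpen G) ξ hξG a') :=
      (X.mem_basicOpen a' ξ hξG).1 hmem
    obtain ⟨v, hv⟩ := hu
    rw [← hv] at h1
    apply hz₀
    have := congrArg (fun z => (↑v⁻¹ : X.presheaf.stalk ξ) • z) h1
    simpa [smul_smul] using this
  · haveI := hU₁'.isLocalization_basicOpen G
    obtain ⟨⟨a, ⟨_, k, rfl⟩⟩, hab⟩ := IsLocalization.surj (Submonoid.powers G) a'
    have hab' : a' * ρ (G ^ k) = ρ a := hab
    have hap : a ∈ p := by
      rw [hmemp]
      intro hmem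
      have h1 : ξ ∈ X.basicOpen (ρ a) := by
        rw [hρ]
        change ξ ∈ X.basicOpen (X.presheaf.map _ a)
        rw [Scheme.basicOpen_res]
        exact ⟨hξG, hmem⟩
      rw [← hab', Scheme.basicOpen_mul] at h1
      exact hnm h1.1
    have h2 : ρ G • (ρ a • m) = 0 := by
      have e1 := Scheme.Modules.map_smul R (homOfLE (X.basicOpen_le G)) a m₁
      have e2 := Scheme.Modules.map_smul R (homOfLE (X.basicOpen_le G)) G (a • m₁)
      rw [hGp a hap, map_zero, e1] at e2
      exact e2.symm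
    rw [← hab', map_pow, mul_smul] at h2
    obtain ⟨v, hv⟩ := (hunit.mul (hunit.pow k))
    have h3 : (ρ G * ρ G ^ k) • (a' • m) = 0 := by
      have e3 : (ρ G * ρ G ^ k) • (a' • m) = ρ G • (a' • (ρ G ^ k • m)) := by
        rw [mul_smul, smul_comm (ρ G ^ k) a' m]
      rw [e3]
      exact h2
    rw [← hv] at h3
    have := congrArg (fun z => (↑v⁻¹ : Γ(X, X.basicOpen G)) • z) h3
    simpa [smul_smul] using this

end LemmaD

section LemmaB

variable [IsNoetherian X] (ξ : X)
  (P : X.Modules → Prop) (hP : ∀ M N : X.Modules, Nonempty (M ≅ N) → P M → P N)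
  (h3 : ∀ S : ShortComplex X.Modules, S.ShortExact → Coh.IsCoh S.X₁ → Coh.IsCoh S.X₂ →
    Coh.IsCoh S.X₃ → CohB1.support S.X₂ ⊆ closure ({ξ} : Set X) →
    (P S.X₁ → P S.X₂ → P S.X₃) ∧ (P S.X₁ → P S.X₃ → P S.X₂) ∧ (P S.X₂ → P S.X₃ → P S.X₁))
  (hA : ∀ F : X.Modules, Coh.IsCoh F → CohB1.support F ⊆ closure ({ξ} : Set X) →
    ξ ∉ CohB1.support F → P F)

lemma support_push_subset {Z : Scheme.{u}} (i : Z ⟶ X) [IsClosedImmersion i] (I : Z.Modules) :
    CohB1.support ((Coh.push i).obj I) ⊆ Set.range i := by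
  intro x hx
  by_contra hxr
  apply hx
  have hz := Groth.Agent.Helper5.CI.isZero_stalk_pushforward i I x hxr
  exact ModuleCat.subsingleton_of_isZero hz

lemma smul_eq_zero_of_isSimpleModule {R M : Type*} [CommRing R] [IsLocalRing R] [AddCommGroup M]
    [Module R M] [IsSimpleModule R M] (r : R) (hr : r ∈ IsLocalRing.maximalIdeal R) (z : M) :
    r • z = 0 := by
  have hmax : (Module.annihilator R M).IsMaximal := IsSimpleModule.annihilator_isMaximal
  have heq : Module.annihilator R M = IsLocalRing.maximalIdeal R := IsLocalRing.eq_maximalIdeal hmax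
  rw [← heq] at hr
  exact Module.mem_annihilator.1 hr z

include hP h3 hA in
set_option maxHeartbeats 1600000 in
/-- **Comparison lemma**: if `P` holds for one coherent module `G` supported in `closure {ξ}` with
simple stalk at `ξ`, then it holds for the direct image of every nonzero coherent ideal of an
integral closed subscheme structure on `closure {ξ}`. -/
theorem P_push_of_simple (G : X.Modules) (hG : Coh.IsCoh G)
    (hGs : CohB1.support G ⊆ closure ({ξ} : Set X))
    (hsimple : IsSimpleModule (X.presheaf.stalk ξ) (G.presheaf.stalk ξ)) (hPG : P G)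
    {Z : Scheme.{u}} (i : Z ⟶ X) [IsClosedImmersion i] [IsIntegral Z]
    (hi : Set.range i = closure ({ξ} : Set X))
    (I : Z.Modules) (ι : I ⟶ Coh.structureModule Z) [Mono ι] (hI : Coh.IsCoh I)
    (hI0 : ¬ IsZero I) : P ((Coh.push i).obj I) := by
  classical
  haveI := hsimple
  haveI : I.IsQuasicoherent := hI.1
  haveI : SheafOfModules.IsFiniteType (R := Z.ringCatSheaf) I := hI.2
  haveI : G.IsQuasicoherent := hG.1
  haveI : SheafOfModules.IsFiniteType (R := X.ringCatSheaf) G := hG.2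
  set F : X.Modules := (Coh.push i).obj I with hF
  haveI hFq : F.IsQuasicoherent := Groth.Agent.Helper13.QCohPush.isQuasicoherent_pushforward i I
  haveI hFf : SheafOfModules.IsFiniteType (R := X.ringCatSheaf) F :=
    (Groth.Agent.Helper13.PushFinite.isFiniteType_pushforward_iff i I).1 inferInstance
  have hFc : Coh.IsCoh F := ⟨hFq, hFf⟩
  have hFs : CohB1.support F ⊆ closure ({ξ} : Set X) := by
    rw [← hi]; exact support_push_subset i I
  haveI hFsimple : IsSimpleModule (X.presheaf.stalk ξ) (F.presheaf.stalk ξ) :=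
    isSimpleModule_stalk_push ξ i hi I ι hI0
  -- the direct sum
  have hSE : (ShortComplex.mk (biprod.inl : F ⟶ F ⊞ G) (biprod.snd : F ⊞ G ⟶ G)
      biprod.inl_snd).ShortExact :=
    (ShortComplex.Splitting.ofHasBinaryBiproduct F G).shortExact
  haveI hHq : (F ⊞ G).IsQuasicoherent := Groth.Agent.Helper13.QCohFin.isQuasicoherent_biprod F G
  haveI hHf : SheafOfModules.IsFiniteType (R := X.ringCatSheaf) (F ⊞ G : X.Modules) :=
    Groth.Agent.Helper13.FinType.isFiniteType_of_shortExact _ hSE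
  have hHc : Coh.IsCoh (F ⊞ G : X.Modules) := ⟨hHq, hHf⟩
  have hHs : CohB1.support (F ⊞ G : X.Modules) ⊆ closure ({ξ} : Set X) := by
    have := Groth.Agent.Helper28.SuppProper.support_shortExact _ hSE
    change CohB1.support (F ⊞ G : X.Modules) = CohB1.support F ∪ CohB1.support G at this
    rw [this]
    exact Set.union_subset hFs hGs
  -- nonzero elements of the two stalks
  haveI : Nontrivial (F.presheaf.stalk ξ) := IsSimpleModule.nontrivial (X.presheaf.stalk ξ) _
  haveI : Nontrivial (G.presheaf.stalk ξ) := IsSimpleModule.nontrivial (X.presheaf.stalk ξ) _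
  obtain ⟨x, hx⟩ := exists_ne (0 : F.presheaf.stalk ξ)
  obtain ⟨y, hy⟩ := exists_ne (0 : G.presheaf.stalk ξ)
  set z₀ : (F ⊞ G : X.Modules).presheaf.stalk ξ :=
    stalkMap (biprod.inl : F ⟶ F ⊞ G) ξ x + stalkMap (biprod.inr : G ⟶ F ⊞ G) ξ y with hz₀
  have hfst : stalkMap (biprod.fst : F ⊞ G ⟶ F) ξ z₀ = x := by
    rw [hz₀, map_add, ← Groth.Agent.Helper13.PbInv.stalkMap_comp,
      ← Groth.Agent.Helper13.PbInv.stalkMap_comp, biprod.inl_fst, biprod.inr_fst,
      stalkMap_id, Groth.Agent.Helper13.PbInv.stalkMap_zero, add_zero]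
  have hsnd : stalkMap (biprod.snd : F ⊞ G ⟶ G) ξ z₀ = y := by
    rw [hz₀, map_add, ← Groth.Agent.Helper13.PbInv.stalkMap_comp,
      ← Groth.Agent.Helper13.PbInv.stalkMap_comp, biprod.inl_snd, biprod.inr_snd,
      stalkMap_id, Groth.Agent.Helper13.PbInv.stalkMap_zero, zero_add]
  have hz₀ne : z₀ ≠ 0 := by
    intro h
    apply hx
    rw [← hfst, h, map_zero]
  have hkH : ∀ r ∈ IsLocalRing.maximalIdeal (X.presheaf.stalk ξ),
      ∀ z : (F ⊞ G : X.Modules).presheaf.stalk ξ, r • z = 0 := by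
    intro r hr z
    have htot : z = stalkMap (biprod.inl : F ⟶ F ⊞ G) ξ (stalkMap (biprod.fst : F ⊞ G ⟶ F) ξ z) +
        stalkMap (biprod.inr : G ⟶ F ⊞ G) ξ (stalkMap (biprod.snd : F ⊞ G ⟶ G) ξ z) := by
      rw [← Groth.Agent.Helper13.PbInv.stalkMap_comp, ← Groth.Agent.Helper13.PbInv.stalkMap_comp,
        ← stalkMap_add, biprod.total, stalkMap_id]
    have e1 : r • stalkMap (biprod.fst : F ⊞ G ⟶ F) ξ z = 0 :=
      smul_eq_zero_of_isSimpleModule r hr _
    have e2 : r • stalkMap (biprod.snd : F ⊞ G ⟶ G) ξ z = 0 :=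
      smul_eq_zero_of_isSimpleModule r hr _
    have e3 : r • stalkMap (biprod.inl : F ⟶ F ⊞ G) ξ (stalkMap (biprod.fst : F ⊞ G ⟶ F) ξ z) = 0 :=
      (stalkMap_smul _ ξ r _).symm.trans (by rw [e1, map_zero])
    have e4 : r • stalkMap (biprod.inr : G ⟶ F ⊞ G) ξ (stalkMap (biprod.snd : F ⊞ G ⟶ G) ξ z) = 0 :=
      (stalkMap_smul _ ξ r _).symm.trans (by rw [e2, map_zero])
    rw [htot, smul_add, e3, e4, add_zero]
  obtain ⟨U, hU, hξ, m, hgm, hann⟩ := exists_section_ann (F ⊞ G : X.Modules) ξ hkH z₀ hz₀ne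
  obtain ⟨H₁, a, I₁, ι₁, b, ha, hb, hι₁, hI₁, hI₁0, hH₁, hT, q₁, hq₁⟩ :=
    Groth.Agent.Helper26.DevB.key (F ⊞ G : X.Modules) U hHc m hU ξ hξ hann i hi
  haveI := ha
  haveI := hb
  haveI := hι₁
  have hH₁s : CohB1.support H₁ ⊆ closure ({ξ} : Set X) := (support_subset_of_mono a).trans hHs
  -- the stalk of `H₁` at `ξ` is simple
  have hbinj : Function.Injective (stalkMap b ξ) :=
    Groth.Agent.Helper26.StalkNbhd.injective_of_kernel_stalk b ξ (hT ξ hξ)
  have hbsurj : Function.Surjective (stalkMap b ξ) := stalkMap_surjective_of_epi b ξ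
  haveI hI₁simple : IsSimpleModule (X.presheaf.stalk ξ)
      (((Coh.push i).obj I₁).presheaf.stalk ξ) := isSimpleModule_stalk_push ξ i hi I₁ ι₁ hI₁0
  haveI hH₁simple : IsSimpleModule (X.presheaf.stalk ξ) (H₁.presheaf.stalk ξ) :=
    IsSimpleModule.congr (LinearEquiv.ofBijective (stalkLin b ξ) ⟨hbinj, hbsurj⟩)
  -- the two projections are bijective at `ξ`
  have hgq : stalkMap a ξ (H₁.presheaf.germ U ξ hξ q₁) = z₀ := by
    rw [stalkMap_germ, hq₁, hgm]
  have hpF : Function.Bijective (stalkMap (a ≫ (biprod.fst : F ⊞ G ⟶ F)) ξ) := by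
    have hne : stalkLin (a ≫ (biprod.fst : F ⊞ G ⟶ F)) ξ ≠ 0 := by
      intro h0
      apply hx
      have := congrArg (fun f => f (H₁.presheaf.germ U ξ hξ q₁)) h0
      simp only [stalkLin_apply, LinearMap.zero_apply] at this
      rw [Groth.Agent.Helper13.PbInv.stalkMap_comp, hgq, hfst] at this
      exact this
    exact LinearMap.bijective_of_ne_zero hne
  have hpG : Function.Bijective (stalkMap (a ≫ (biprod.snd : F ⊞ G ⟶ G)) ξ) := by
    have hne : stalkLin (a ≫ (biprod.snd : F ⊞ G ⟶ G)) ξ ≠ 0 := by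
      intro h0
      apply hy
      have := congrArg (fun f => f (H₁.presheaf.germ U ξ hξ q₁)) h0
      simp only [stalkLin_apply, LinearMap.zero_apply] at this
      rw [Groth.Agent.Helper13.PbInv.stalkMap_comp, hgq, hsnd] at this
      exact this
    exact LinearMap.bijective_of_ne_zero hne
  have h1 := iff_of_stalk_bijective ξ (closure ({ξ} : Set X)) P hP h3 hA
    (a ≫ (biprod.snd : F ⊞ G ⟶ G)) hH₁ hG hH₁s hGs hpG
  have h2 := iff_of_stalk_bijective ξ (closure ({ξ} : Set X)) P hP h3 hA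
    (a ≫ (biprod.fst : F ⊞ G ⟶ F)) hH₁ hFc hH₁s hFs hpF
  exact h2.1 (h1.2 hPG)

end LemmaB

end Groth.Agent.Helper26.DevE
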