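import Mathlib
import Groth.Agent.Lib.Helper26.DevE

set_option autoImplicit false
set_option linter.unusedSectionVars false
set_option linter.style.haveILetI false
universe u
open CategoryTheory CategoryTheory.Limits AlgebraicGeometry Opposite TopologicalSpace
open Groth.Agent.Helper13.QCoh Groth.Agent.Helper13.FinType
open Groth.Agent.Helper26.DevA Groth.Agent.Helper26.DevC Groth.Agent.Helper26.DevD
  Groth.Agent.Helper26.DevE
open ZeroObject

namespace Groth.Agent.Helper26.DevF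

variable {X : Scheme.{u}}

instance isSimpleModule_residueField (R : Type*) [CommRing R] [IsLocalRing R] :
    IsSimpleModule R (IsLocalRing.ResidueField R) := by
  rw [isSimpleModule_iff_quot_maximal]
  exact ⟨IsLocalRing.maximalIdeal R, inferInstance, ⟨LinearEquiv.refl _ _⟩⟩

/-- `P` holds for zero modules if it holds for some coherent module and is stable under
quotients in short exact sequences. -/
lemma P_zero_of (Z₀ : Set X) (P : X.Modules → Prop)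
    (h₁ : ∀ S : ShortComplex X.Modules, S.ShortExact → Coh.IsCoh S.X₁ → Coh.IsCoh S.X₂ →
      Coh.IsCoh S.X₃ → CohB1.support S.X₂ ⊆ Z₀ →
      (P S.X₁ → P S.X₂ → P S.X₃) ∧ (P S.X₁ → P S.X₃ → P S.X₂) ∧ (P S.X₂ → P S.X₃ → P S.X₁))
    (G : X.Modules) (hG : Coh.IsCoh G) (hGs : CohB1.support G ⊆ Z₀) (hPG : P G)
    (M0 : X.Modules) (h0 : IsZero M0) : P M0 := by
  have hSE : (ShortComplex.mk (𝟙 G) (0 : G ⟶ M0) (by simp)).ShortExact := by
    refine ShortComplex.ShortExact.mk' ?_ (show Mono (𝟙 G) from inferInstance)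
      (show Epi (0 : G ⟶ M0) from ⟨fun _ _ _ => h0.eq_of_src _ _⟩)
    exact ShortComplex.exact_of_g_is_cokernel _
      (CokernelCofork.IsColimit.ofπ _ _ (fun _ _ => 0)
        (fun g hg => by
          have : g = 0 := by simpa using hg
          rw [this, zero_comp])
        (fun _ _ _ _ => h0.eq_of_src _ _))
  exact (h₁ _ hSE hG hG (Groth.Agent.Helper5.K0Coh.isCoh_of_isZero h0) hGs).1 hPG hPG

/-- S0819. -/
theorem main0819 (X : Scheme.{u}) [IsNoetherian X]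
    (Z₀ : Set X) (hZ₀ : IsClosed Z₀) (ξ : X) (hξ : ξ ∈ Z₀ ∧ closure {ξ} = Z₀)
    (P : X.Modules → Prop) (hP : ∀ M N : X.Modules, Nonempty (M ≅ N) → P M → P N)
    (h₁ : ∀ S : ShortComplex X.Modules, S.ShortExact → Coh.IsCoh S.X₁ → Coh.IsCoh S.X₂ →
      Coh.IsCoh S.X₃ → CohB1.support S.X₂ ⊆ Z₀ →
      (P S.X₁ → P S.X₂ → P S.X₃) ∧ (P S.X₁ → P S.X₃ → P S.X₂) ∧ (P S.X₂ → P S.X₃ → P S.X₁))
    (h₂ : ∀ (Z : Scheme.{u}) (i : Z ⟶ X), IsClosedImmersion i → IsIntegral Z →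
      Set.range ⇑i ⊆ Z₀ → Set.range ⇑i ≠ Z₀ →
      ∀ (I : Z.Modules) (ι : I ⟶ Coh.structureModule Z), Mono ι → Coh.IsQCoh I →
        P ((Coh.push i).obj I))
    (h₃ : ∃ G : X.Modules, Coh.IsCoh G ∧ CohB1.support G = Z₀ ∧
      Nonempty (↑(G.presheaf.stalk ξ) ≃ₗ[X.presheaf.stalk ξ]
        IsLocalRing.ResidueField (X.presheaf.stalk ξ)) ∧ P G)
    (M : X.Modules) (hM : Coh.IsCoh M) (hsupp : CohB1.support M ⊆ Z₀) : P M := by
  obtain ⟨G, hG, hGs, ⟨eG⟩, hPG⟩ := h₃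
  have hGsimple : IsSimpleModule (X.presheaf.stalk ξ) (G.presheaf.stalk ξ) :=
    IsSimpleModule.congr eG
  refine core Z₀ P hP (P_zero_of Z₀ P h₁ G hG hGs.le hPG)
    (fun S hS h1 h2 h3 hs => (h₁ S hS h1 h2 h3 hs).2.1) ?_ hZ₀ M hM hsupp
  intro ξ' hξ' hsmall
  obtain ⟨Z, i, hi1, hi2, hi3⟩ := exists_integral ξ'
  haveI := hi1
  haveI := hi2
  refine ⟨Z, i, hi1, hi2, hi3, ?_⟩
  intro I ι hι hI hI0
  haveI := hι
  by_cases hξξ : ξ' = ξ
  · subst hξξ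
    have h3' : ∀ S : ShortComplex X.Modules, S.ShortExact → Coh.IsCoh S.X₁ → Coh.IsCoh S.X₂ →
        Coh.IsCoh S.X₃ → CohB1.support S.X₂ ⊆ closure ({ξ'} : Set X) →
        (P S.X₁ → P S.X₂ → P S.X₃) ∧ (P S.X₁ → P S.X₃ → P S.X₂) ∧ (P S.X₂ → P S.X₃ → P S.X₁) :=
      fun S hS h1 h2 h3 hs => h₁ S hS h1 h2 h3 (hs.trans hξ.2.le)
    exact P_push_of_simple ξ' P hP h3' hsmall G hG (hGs.le.trans hξ.2.ge) hGsimple hPG i hi3 I ι
      hI hI0
  · have hcl : closure ({ξ'} : Set X) ⊆ Z₀ :=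
      closure_minimal (Set.singleton_subset_iff.2 hξ') hZ₀
    refine h₂ Z i hi1 hi2 (hi3.le.trans hcl) ?_ I ι hι hI.1
    intro heq
    apply hξξ
    have h1 : closure ({ξ'} : Set X) = closure ({ξ} : Set X) := by rw [← hi3, heq, hξ.2]
    exact (inseparable_iff_closure_eq.2 h1).eq

/-- S0818. -/
theorem main0818 (X : Scheme.{u}) [IsNoetherian X] [Nonempty X]
    (P : X.Modules → Prop) (hP : ∀ M N : X.Modules, Nonempty (M ≅ N) → P M → P N)
    (h₁ : ∀ S : ShortComplex X.Modules, S.ShortExact → Coh.IsCoh S.X₁ → Coh.IsCoh S.X₂ →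
      Coh.IsCoh S.X₃ →
      (P S.X₁ → P S.X₂ → P S.X₃) ∧ (P S.X₁ → P S.X₃ → P S.X₂) ∧ (P S.X₂ → P S.X₃ → P S.X₁))
    (h₂ : ∀ (Z : Scheme.{u}) (i : Z ⟶ X) [IsClosedImmersion i] [IsIntegral Z],
      ∃ G : X.Modules, Coh.IsCoh G ∧ CohB1.support G = Set.range ⇑i ∧
        Nonempty (↑(G.presheaf.stalk (i (genericPoint Z))) ≃ₗ[X.presheaf.stalk (i (genericPoint Z))]
          IsLocalRing.ResidueField (X.presheaf.stalk (i (genericPoint Z)))) ∧ P G)
    (M : X.Modules) (hM : Coh.IsCoh M) : P M := by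
  have h₁' : ∀ S : ShortComplex X.Modules, S.ShortExact → Coh.IsCoh S.X₁ → Coh.IsCoh S.X₂ →
      Coh.IsCoh S.X₃ → CohB1.support S.X₂ ⊆ (Set.univ : Set X) →
      (P S.X₁ → P S.X₂ → P S.X₃) ∧ (P S.X₁ → P S.X₃ → P S.X₂) ∧ (P S.X₂ → P S.X₃ → P S.X₁) :=
    fun S hS h1 h2 h3 _ => h₁ S hS h1 h2 h3
  have hzero : ∀ M0 : X.Modules, IsZero M0 → P M0 := by
    obtain ⟨x⟩ := ‹Nonempty X›
    obtain ⟨Z, i, hi1, hi2, -⟩ := exists_integral x
    haveI := hi1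
    haveI := hi2
    obtain ⟨G, hG, -, -, hPG⟩ := h₂ Z i
    exact P_zero_of Set.univ P h₁' G hG (Set.subset_univ _) hPG
  refine core Set.univ P hP hzero (fun S hS h1 h2 h3 _ => (h₁ S hS h1 h2 h3).2.1) ?_
    isClosed_univ M hM (Set.subset_univ _)
  intro ξ' _ hsmall
  obtain ⟨Z, i, hi1, hi2, hi3⟩ := exists_integral ξ'
  haveI := hi1
  haveI := hi2
  refine ⟨Z, i, hi1, hi2, hi3, ?_⟩
  intro I ι hι hI hI0
  haveI := hι
  obtain ⟨G, hG, hGs, ⟨eG⟩, hPG⟩ := h₂ Z i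
  have hgen := map_genericPoint ξ' i hi3
  subst hgen
  have hGsimple : IsSimpleModule (X.presheaf.stalk (i (genericPoint Z)))
      (G.presheaf.stalk (i (genericPoint Z))) := IsSimpleModule.congr eG
  exact P_push_of_simple _ P hP (fun S hS h1 h2 h3 _ => h₁ S hS h1 h2 h3) hsmall G hG
    (hGs.le.trans hi3.le) hGsimple hPG i hi3 I ι hI hI0

/-- S2412. -/
theorem main2412 (X : Scheme.{u}) [IsNoetherian X]
    (K' : ObjectProperty X.Modules) [K'.IsClosedUnderIsomorphisms]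
    (h0 : ∀ M : X.Modules, IsZero M → K' M)
    (hex : ∀ S : ShortComplex X.Modules, S.ShortExact → Coh.IsCoh S.X₁ → Coh.IsCoh S.X₂ →
      Coh.IsCoh S.X₃ →
      (K' S.X₁ → K' S.X₂ → K' S.X₃) ∧ (K' S.X₁ → K' S.X₃ → K' S.X₂) ∧ (K' S.X₂ → K' S.X₃ → K' S.X₁))
    (X' : Set X) (hX' : IsClosed X')
    (hgen : ∀ (Z : Set X) (hZ : IsClosed Z), IsIrreducible Z → Z ⊆ X' → ∀ y : X, closure {y} = Z →
      ∃ G : X.Modules, Coh.IsCoh G ∧ K' G ∧ CohB1.support G ⊆ Z ∧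
        ClSub.KilledByIdeal (Scheme.IdealSheafData.vanishingIdeal ⟨Z, hZ⟩) G ∧
        Module.length (X.presheaf.stalk y) (G.presheaf.stalk y) = 1)
    (F : X.Modules) (hF : Coh.IsCoh F) (hsupp : CohB1.support F ⊆ X') : K' F := by
  have hP : ∀ M N : X.Modules, Nonempty (M ≅ N) → K' M → K' N := fun M N ⟨e⟩ h => K'.prop_of_iso e h
  refine core X' K' hP h0 (fun S hS h1 h2 h3 _ => (hex S hS h1 h2 h3).2.1) ?_ hX' F hF hsupp
  intro ξ' hξ' hsmall
  obtain ⟨Z, i, hi1, hi2, hi3⟩ := exists_integral ξ'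
  haveI := hi1
  haveI := hi2
  refine ⟨Z, i, hi1, hi2, hi3, ?_⟩
  intro I ι hι hI hI0
  haveI := hι
  have hcl : closure ({ξ'} : Set X) ⊆ X' :=
    closure_minimal (Set.singleton_subset_iff.2 hξ') hX'
  obtain ⟨G, hG, hKG, hGs, -, hlen⟩ := hgen (closure {ξ'}) isClosed_closure
    isIrreducible_singleton.closure hcl ξ' rfl
  have hGsimple : IsSimpleModule (X.presheaf.stalk ξ') (G.presheaf.stalk ξ') :=
    Module.length_eq_one_iff.1 hlen
  exact P_push_of_simple ξ' K' hP (fun S hS h1 h2 h3 _ => hex S hS h1 h2 h3) hsmall G hG hGs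
    hGsimple hKG i hi3 I ι hI hI0

end Groth.Agent.Helper26.DevF
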