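import Mathlib
import Groth.Agent.Lib.Helper26.DevF
import Groth.Agent.Lib.Helper13.LocFree2

set_option autoImplicit false
set_option linter.unusedSectionVars false
set_option linter.style.haveILetI false
universe u
open CategoryTheory CategoryTheory.Limits AlgebraicGeometry Opposite TopologicalSpace
open Groth.Agent.Helper13.QCoh Groth.Agent.Helper13.FinType
open Groth.Agent.Helper26.DevA Groth.Agent.Helper26.DevC Groth.Agent.Helper26.DevD
  Groth.Agent.Helper26.DevE
open ZeroObject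

namespace Groth.Agent.Helper26.DevG

attribute [local instance] CategoryTheory.Abelian.hasFiniteBiproducts

section Algebra

variable {R : Type*} [CommRing R] [IsLocalRing R] {M : Type*} [AddCommGroup M] [Module R M]

theorem span_succAbove_of_rel {n : ℕ} (z : Fin (n + 1) → M)
    (hz : Submodule.span R (Set.range z) = ⊤)
    (c : Fin (n + 1) → R) (hc : ∑ k, c k • z k = 0) (j : Fin (n + 1))
    (hj : c j ∉ IsLocalRing.maximalIdeal R) :
    Submodule.span R (Set.range (z ∘ j.succAbove)) = ⊤ := by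
  have hu : IsUnit (c j) := IsLocalRing.notMem_maximalIdeal.1 hj
  obtain ⟨u, hu⟩ := hu
  rw [eq_top_iff, ← hz, Submodule.span_le]
  rintro _ ⟨k, rfl⟩
  by_cases hk : k = j
  · subst hk
    rw [Fin.sum_univ_succAbove _ k] at hc
    have h1 : z k = -((↑u⁻¹ : R) • ∑ i, c (k.succAbove i) • z (k.succAbove i)) := by
      have h2 : c k • z k = -∑ i, c (k.succAbove i) • z (k.succAbove i) :=
        eq_neg_of_add_eq_zero_left hc
      have h3 : (↑u⁻¹ : R) • (c k • z k) = z k := by
        rw [← hu, smul_smul, Units.inv_mul, one_smul]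
      rw [← h3, h2, smul_neg]
    rw [h1]
    apply Submodule.neg_mem
    apply Submodule.smul_mem
    apply Submodule.sum_mem
    intro i _
    apply Submodule.smul_mem
    exact Submodule.subset_span ⟨i, rfl⟩
  · obtain ⟨i, rfl⟩ := Fin.exists_succAbove_eq hk
    exact Submodule.subset_span ⟨i, rfl⟩

theorem exists_indep_span [Module.Finite R M] :
    ∃ (n : ℕ) (z : Fin n → M), Submodule.span R (Set.range z) = ⊤ ∧
      ∀ c : Fin n → R, ∑ k, c k • z k = 0 → ∀ k, c k ∈ IsLocalRing.maximalIdeal R := by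
  classical
  have hex : ∃ n : ℕ, ∃ z : Fin n → M, Submodule.span R (Set.range z) = ⊤ :=
    Module.Finite.exists_fin
  have key : ∀ n : ℕ, (∃ z : Fin n → M, Submodule.span R (Set.range z) = ⊤) →
      (∀ n' < n, ¬ ∃ z : Fin n' → M, Submodule.span R (Set.range z) = ⊤) →
      ∃ z : Fin n → M, Submodule.span R (Set.range z) = ⊤ ∧
      ∀ c : Fin n → R, ∑ k, c k • z k = 0 → ∀ k, c k ∈ IsLocalRing.maximalIdeal R := by
    intro n
    cases n with
    | zero =>
      rintro ⟨z, hz⟩ -
      exact ⟨z, hz, fun c _ k => k.elim0⟩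
    | succ n =>
      rintro ⟨z, hz⟩ hmin
      refine ⟨z, hz, fun c hc k => ?_⟩
      by_contra hk
      exact hmin n (Nat.lt_succ_self n) ⟨_, span_succAbove_of_rel z hz c hc k hk⟩
  exact ⟨Nat.find hex, key _ (Nat.find_spec hex) (fun n' hn' => Nat.find_min hex hn')⟩

end Algebra

section FinSum

variable {X : Scheme.{u}} (Z₀ : Set X)

/-- coherent modules with support in `Z₀`. -/
def cohSupp : ObjectProperty X.Modules := fun M => Coh.IsCoh M ∧ CohB1.support M ⊆ Z₀

lemma cohSupp_biprod {F G : X.Modules} (hF : cohSupp Z₀ F) (hG : cohSupp Z₀ G) :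
    cohSupp Z₀ (F ⊞ G : X.Modules) := by
  haveI : F.IsQuasicoherent := hF.1.1
  haveI : SheafOfModules.IsFiniteType (R := X.ringCatSheaf) F := hF.1.2
  haveI : G.IsQuasicoherent := hG.1.1
  haveI : SheafOfModules.IsFiniteType (R := X.ringCatSheaf) G := hG.1.2
  have hSE : (ShortComplex.mk (biprod.inl : F ⟶ F ⊞ G) (biprod.snd : F ⊞ G ⟶ G)
      biprod.inl_snd).ShortExact :=
    (ShortComplex.Splitting.ofHasBinaryBiproduct F G).shortExact
  haveI hHq : (F ⊞ G).IsQuasicoherent := Groth.Agent.Helper13.QCohFin.isQuasicoherent_biprod F G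
  haveI hHf : SheafOfModules.IsFiniteType (R := X.ringCatSheaf) (F ⊞ G : X.Modules) :=
    Groth.Agent.Helper13.FinType.isFiniteType_of_shortExact _ hSE
  refine ⟨⟨hHq, hHf⟩, ?_⟩
  have := Groth.Agent.Helper28.SuppProper.support_shortExact _ hSE
  change CohB1.support (F ⊞ G : X.Modules) = CohB1.support F ∪ CohB1.support G at this
  rw [this]
  exact Set.union_subset hF.2 hG.2

instance : (cohSupp Z₀).IsClosedUnderIsomorphisms where
  of_iso e h := ⟨Groth.Agent.Helper5.K0Coh.isCoh_of_iso e h.1,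
    (support_subset_of_mono e.inv).trans h.2⟩

instance : (cohSupp Z₀).ContainsZero where
  exists_zero := ⟨0, isZero_zero _, Groth.Agent.Helper5.K0Coh.isCoh_of_isZero (isZero_zero _),
    fun x hx => (hx ((isZero_iff_stalk _).1 (isZero_zero _) x)).elim⟩

instance : (cohSupp Z₀).IsClosedUnderBinaryProducts where
  limitsOfShape_le := by
    rintro M ⟨h⟩
    let A := h.diag.obj ⟨WalkingPair.left⟩
    let B := h.diag.obj ⟨WalkingPair.right⟩
    have e1 : M ≅ A ⨯ B :=
      IsLimit.conePointsIsoOfNatIso h.isLimit (limit.isLimit _) (diagramIsoPair h.diag)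
    have e2 : A ⨯ B ≅ A ⊞ B := (biprod.isoProd A B).symm
    exact (cohSupp Z₀).prop_of_iso (e1 ≪≫ e2).symm
      (cohSupp_biprod Z₀ (h.prop_diag_obj _) (h.prop_diag_obj _))

lemma cohSupp_biproduct {r : ℕ} (H : Fin r → X.Modules) (h : ∀ k, cohSupp Z₀ (H k)) :
    cohSupp Z₀ (⨁ H) := by
  haveI : (cohSupp Z₀).IsClosedUnderFiniteProducts :=
    ObjectProperty.IsClosedUnderFiniteProducts.mk'
  exact (cohSupp Z₀).prop_of_iso (biproduct.isoProduct H).symm ((cohSupp Z₀).prop_product h)

end FinSum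

variable {X : Scheme.{u}}

lemma stalkMap_sum {F G : X.Modules} {ι : Type*} (s : Finset ι) (f : ι → (F ⟶ G)) (x : X)
    (m : F.presheaf.stalk x) :
    stalkMap (∑ k ∈ s, f k) x m = ∑ k ∈ s, stalkMap (f k) x m := by
  classical
  induction s using Finset.induction_on with
  | empty =>
    rw [Finset.sum_empty, Finset.sum_empty]
    exact Groth.Agent.Helper13.PbInv.stalkMap_zero x m
  | insert k s hk ih =>
    rw [Finset.sum_insert hk, Finset.sum_insert hk, stalkMap_add, ih]

section Main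

variable [IsNoetherian X] (ξ : X)
  (P : X.Modules → Prop) (hP : ∀ M N : X.Modules, Nonempty (M ≅ N) → P M → P N)
  (h3 : ∀ S : ShortComplex X.Modules, S.ShortExact → Coh.IsCoh S.X₁ → Coh.IsCoh S.X₂ →
    Coh.IsCoh S.X₃ → CohB1.support S.X₂ ⊆ closure ({ξ} : Set X) →
    (P S.X₁ → P S.X₂ → P S.X₃) ∧ (P S.X₁ → P S.X₃ → P S.X₂) ∧ (P S.X₂ → P S.X₃ → P S.X₁))
  (hA : ∀ F : X.Modules, Coh.IsCoh F → CohB1.support F ⊆ closure ({ξ} : Set X) →
    ξ ∉ CohB1.support F → P F)
  (hsum : ∀ (M N : X.Modules) (i : N ⟶ M) (r : M ⟶ N), i ≫ r = 𝟙 N → Coh.IsCoh M → Coh.IsCoh N →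
    P M → P N)

include hP h3 hA hsum in
set_option maxHeartbeats 1600000 in
/-- from a coherent module in `P` supported in `closure {ξ}` whose stalk at `ξ` is nonzero and killed
by the maximal ideal, a coherent module in `P` whose stalk at `ξ` is simple. -/
theorem exists_simple (G : X.Modules) (hG : Coh.IsCoh G)
    (hGs : CohB1.support G ⊆ closure ({ξ} : Set X))
    (hk : ∀ r ∈ IsLocalRing.maximalIdeal (X.presheaf.stalk ξ), ∀ z : G.presheaf.stalk ξ, r • z = 0)
    (hξG : ξ ∈ CohB1.support G) (hPG : P G) :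
    ∃ H : X.Modules, Coh.IsCoh H ∧ CohB1.support H ⊆ closure ({ξ} : Set X) ∧
      IsSimpleModule (X.presheaf.stalk ξ) (H.presheaf.stalk ξ) ∧ P H := by
  classical
  haveI : G.IsQuasicoherent := hG.1
  haveI : SheafOfModules.IsFiniteType (R := X.ringCatSheaf) G := hG.2
  haveI : Module.Finite (X.presheaf.stalk ξ) (G.presheaf.stalk ξ) :=
    Groth.Agent.Helper13.LocFree.finite_stalk_of_isFiniteType G ξ
  obtain ⟨n, z, hspan, hind⟩ :=
    exists_indep_span (R := X.presheaf.stalk ξ) (M := G.presheaf.stalk ξ)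
  have hn : 0 < n := by
    by_contra h0
    have hn0 : n = 0 := by omega
    subst hn0
    apply hξG
    have hr : Set.range z = ∅ := Set.range_eq_empty z
    rw [hr, Submodule.span_empty] at hspan
    exact (Submodule.subsingleton_iff (X.presheaf.stalk ξ)).1 (subsingleton_of_bot_eq_top hspan)
  have hz0 : ∀ k, z k ≠ 0 := by
    intro k h0
    have h1 := hind (Pi.single k 1) (by
      rw [Finset.sum_eq_single k]
      · rw [h0, smul_zero]
      · intro j _ hj
        rw [Pi.single_eq_of_ne hj, zero_smul]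
      · intro h; exact (h (Finset.mem_univ k)).elim) k
    rw [Pi.single_eq_same] at h1
    exact (IsLocalRing.maximalIdeal.isMaximal (X.presheaf.stalk ξ)).ne_top
      ((Ideal.eq_top_iff_one _).2 h1)
  obtain ⟨Z, i, hi1, hi2, hi3⟩ := exists_integral ξ
  haveI := hi1
  haveI := hi2
  choose U hU hξU m hgm hann using fun k => exists_section_ann G ξ hk (z k) (hz0 k)
  choose H a I ι b ha hb hι hI hI0 hH hT q hq using fun k =>
    Groth.Agent.Helper26.DevB.key G (U k) hG (m k) (hU k) ξ (hξU k) (hann k) i hi3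
  have hS : cohSupp (closure ({ξ} : Set X)) (⨁ H) :=
    cohSupp_biproduct _ H (fun k => ⟨hH k, (support_subset_of_mono (a k)).trans hGs⟩)
  -- simple stalks
  have hbinj : ∀ k, Function.Injective (stalkMap (b k) ξ) := fun k =>
    Groth.Agent.Helper26.StalkNbhd.injective_of_kernel_stalk (b k) ξ (hT k ξ (hξU k))
  have hbsurj : ∀ k, Function.Surjective (stalkMap (b k) ξ) := fun k =>
    stalkMap_surjective_of_epi (b k) ξ
  have hsimple : ∀ k, IsSimpleModule (X.presheaf.stalk ξ) ((H k).presheaf.stalk ξ) := by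
    intro k
    haveI := hι k
    haveI : IsSimpleModule (X.presheaf.stalk ξ) (((Coh.push i).obj (I k)).presheaf.stalk ξ) :=
      isSimpleModule_stalk_push ξ i hi3 (I k) (ι k) (hI0 k)
    exact IsSimpleModule.congr (LinearEquiv.ofBijective (stalkLin (b k) ξ) ⟨hbinj k, hbsurj k⟩)
  set g : ∀ k, (H k).presheaf.stalk ξ := fun k => (H k).presheaf.germ (U k) ξ (hξU k) (q k) with hg
  have hag : ∀ k, stalkMap (a k) ξ (g k) = z k := by
    intro k
    rw [hg]
    change stalkMap (a k) ξ ((H k).presheaf.germ (U k) ξ (hξU k) (q k)) = z k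
    rw [stalkMap_germ, hq, hgm]
  have hg0 : ∀ k, g k ≠ 0 := by
    intro k h0
    apply hz0 k
    rw [← hag, h0, map_zero]
  set σ : (⨁ H) ⟶ G := biproduct.desc a with hσ
  have hισ : ∀ k, biproduct.ι H k ≫ σ = a k := fun k => biproduct.ι_desc a k
  have hbij : Function.Bijective (stalkMap σ ξ) := by
    constructor
    · rw [injective_iff_map_eq_zero]
      intro w hw
      have htot : w = ∑ k, stalkMap (biproduct.ι H k) ξ (stalkMap (biproduct.π H k) ξ w) := by
        have h1 := stalkMap_sum Finset.univ (fun k => biproduct.π H k ≫ biproduct.ι H k) ξ w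
        rw [biproduct.total, stalkMap_id] at h1
        refine h1.trans ?_
        refine Finset.sum_congr rfl (fun k _ => ?_)
        rw [Groth.Agent.Helper13.PbInv.stalkMap_comp]
      have hc : ∀ k, ∃ c : X.presheaf.stalk ξ, c • g k = stalkMap (biproduct.π H k) ξ w := by
        intro k
        haveI := hsimple k
        exact IsSimpleModule.toSpanSingleton_surjective (X.presheaf.stalk ξ) (hg0 k) _
      choose c hc using hc
      have hrel : ∑ k, c k • z k = 0 := by
        rw [← hw]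
        conv_rhs => rw [htot]
        rw [map_sum]
        refine Finset.sum_congr rfl (fun k _ => ?_)
        rw [← Groth.Agent.Helper13.PbInv.stalkMap_comp, hισ, ← hc, stalkMap_smul, hag]
      have hcm := hind c hrel
      rw [htot]
      refine Finset.sum_eq_zero (fun k _ => ?_)
      haveI := hsimple k
      rw [← hc, smul_eq_zero_of_isSimpleModule (c k) (hcm k) (g k), map_zero]
    · have hle : (⊤ : Submodule (X.presheaf.stalk ξ) (G.presheaf.stalk ξ)) ≤
          LinearMap.range (stalkLin σ ξ) := by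
        rw [← hspan, Submodule.span_le]
        rintro _ ⟨k, rfl⟩
        refine ⟨stalkMap (biproduct.ι H k) ξ (g k), ?_⟩
        rw [stalkLin_apply, ← Groth.Agent.Helper13.PbInv.stalkMap_comp, hισ, hag]
      intro y
      obtain ⟨w, hw⟩ := hle (Submodule.mem_top (x := y))
      exact ⟨w, hw⟩
  have hiff := iff_of_stalk_bijective ξ (closure ({ξ} : Set X)) P hP h3 hA σ hS.1 hG hS.2 hGs hbij
  have hPS : P (⨁ H) := hiff.2 hPG
  let k₀ : Fin n := ⟨0, hn⟩
  refine ⟨H k₀, hH k₀, (support_subset_of_mono (a k₀)).trans hGs, hsimple k₀, ?_⟩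
  exact hsum (⨁ H) (H k₀) (biproduct.ι H k₀) (biproduct.π H k₀) (biproduct.ι_π_self H k₀) hS.1
    (hH k₀) hPS

end Main


/-- a module killed by the vanishing ideal of `closure {ξ}` has its stalk at `ξ` killed by the
maximal ideal. -/
theorem stalk_killed (ξ : X) (Z : Set X) (hZ : IsClosed Z) (hZξ : closure ({ξ} : Set X) = Z)
    (G : X.Modules)
    (hk : ClSub.KilledByIdeal (Scheme.IdealSheafData.vanishingIdeal ⟨Z, hZ⟩) G) :
    ∀ r ∈ IsLocalRing.maximalIdeal (X.presheaf.stalk ξ), ∀ z : G.presheaf.stalk ξ, r • z = 0 := by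
  intro r hr z
  obtain ⟨V, hξV, t, rfl⟩ := TopCat.Presheaf.exists_germ_eq G.presheaf z
  obtain ⟨V', hξV', c, rfl⟩ := TopCat.Presheaf.exists_germ_eq X.presheaf r
  obtain ⟨_, ⟨W, hW, rfl⟩, hξW, hWle⟩ := X.isBasis_affineOpens.exists_subset_of_mem_open
    (show ξ ∈ ((V ⊓ V' : X.Opens) : Set X) from ⟨hξV, hξV'⟩) (V ⊓ V').2
  have hW' : IsAffineOpen W := hW
  have hWV : W ≤ V := fun x hx => (hWle hx).1
  have hWV' : W ≤ V' := fun x hx => (hWle hx).2
  set t' : Γ(G, W) := G.presheaf.map (homOfLE hWV).op t with ht'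
  set c' : Γ(X, W) := X.presheaf.map (homOfLE hWV').op c with hc'
  have hgt : G.presheaf.germ W ξ hξW t' = G.presheaf.germ V ξ hξV t :=
    TopCat.Presheaf.germ_res_apply G.presheaf (homOfLE hWV) ξ hξW t
  have hgc : X.presheaf.germ W ξ hξW c' = X.presheaf.germ V' ξ hξV' c :=
    TopCat.Presheaf.germ_res_apply X.presheaf (homOfLE hWV') ξ hξW c
  rw [← hgt, ← hgc, ← germ_smul]
  have hcξ : ξ ∉ X.basicOpen c' := by
    rw [X.mem_basicOpen c' ξ hξW, hgc]
    exact (IsLocalRing.mem_maximalIdeal _).1 hr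
  let C : TopologicalSpace.Closeds X := ⟨Z, hZ⟩
  let I := Scheme.IdealSheafData.vanishingIdeal C
  have hrange : Set.range I.subschemeι = closure ({ξ} : Set X) := by
    rw [Scheme.IdealSheafData.range_subschemeι, Scheme.IdealSheafData.coe_support_vanishingIdeal,
      hZξ]
    rfl
  haveI : IsReduced I.subscheme :=
    Groth.Agent.Helper16.GenND.isReduced_vanishingIdeal_subscheme C
  have h0 : I.subschemeι.app W c' = 0 :=
    app_eq_zero_of_notMem_basicOpen ξ I.subschemeι hrange c' hcξ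
  have hmem : c' ∈ I.ideal ⟨W, hW'⟩ := by
    have h1 : c' ∈ I.subschemeι.ker.ideal ⟨W, hW'⟩ := by
      rw [Scheme.Hom.ker_apply]
      exact h0
    rwa [Scheme.IdealSheafData.ker_subschemeι] at h1
  have h2 := hk ⟨W, hW'⟩ c' hmem t'
  rw [show c' • t' = 0 from h2, map_zero]

section Main

/-- S4458. -/
theorem main4458 (X : Scheme.{u}) [IsNoetherian X]
    (K' : ObjectProperty X.Modules) [K'.IsClosedUnderIsomorphisms]
    (h0 : ∀ M : X.Modules, IsZero M → K' M)
    (hex : ∀ S : ShortComplex X.Modules, S.ShortExact → Coh.IsCoh S.X₁ → Coh.IsCoh S.X₂ → Coh.IsCoh S.X₃ →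
      (K' S.X₁ → K' S.X₂ → K' S.X₃) ∧ (K' S.X₁ → K' S.X₃ → K' S.X₂) ∧ (K' S.X₂ → K' S.X₃ → K' S.X₁))
    (hsum : ∀ (M N : X.Modules) (i : N ⟶ M) (r : M ⟶ N), i ≫ r = 𝟙 N → Coh.IsCoh M → Coh.IsCoh N →
      K' M → K' N)
    (X' : Set X) (hX' : IsClosed X')
    (hgen : ∀ (Z : Set X) (hZ : IsClosed Z), IsIrreducible Z → Z ⊆ X' → ∀ y : X, closure {y} = Z →
      ∃ G : X.Modules, Coh.IsCoh G ∧ K' G ∧ CohB1.support G ⊆ Z ∧
        ClSub.KilledByIdeal (Scheme.IdealSheafData.vanishingIdeal ⟨Z, hZ⟩) G ∧ y ∈ CohB1.support G)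
    (F : X.Modules) (hF : Coh.IsCoh F) (hsupp : CohB1.support F ⊆ X') : K' F := by
  have hP : ∀ M N : X.Modules, Nonempty (M ≅ N) → K' M → K' N := fun M N ⟨e⟩ h => K'.prop_of_iso e h
  refine core X' K' hP h0 (fun S hS h1 h2 h3 _ => (hex S hS h1 h2 h3).2.1) ?_ hX' F hF hsupp
  intro ξ' hξ' hsmall
  obtain ⟨Z, i, hi1, hi2, hi3⟩ := exists_integral ξ'
  haveI := hi1
  haveI := hi2
  refine ⟨Z, i, hi1, hi2, hi3, ?_⟩
  intro I ι hι hI hI0
  haveI := hι
  have hcl : closure ({ξ'} : Set X) ⊆ X' :=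
    closure_minimal (Set.singleton_subset_iff.2 hξ') hX'
  obtain ⟨G, hG, hKG, hGs, hkill, hξG⟩ := hgen (closure {ξ'}) isClosed_closure
    isIrreducible_singleton.closure hcl ξ' rfl
  have hk := stalk_killed ξ' (closure {ξ'}) isClosed_closure rfl G hkill
  obtain ⟨H, hH, hHs, hHsimple, hPH⟩ := exists_simple ξ' K' hP
    (fun S hS h1 h2 h3 _ => hex S hS h1 h2 h3) hsmall hsum G hG hGs hk hξG hKG
  exact P_push_of_simple ξ' K' hP (fun S hS h1 h2 h3 _ => hex S hS h1 h2 h3) hsmall H hH hHs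
    hHsimple hPH i hi3 I ι hI hI0

end Main


end Groth.Agent.Helper26.DevG
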