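import Mathlib
import Groth.Agent.Lib.Helper26.DevG
import Groth.Agent.Lib.Helper14.IdealMulE
import Groth.Agent.Lib.Helper14.IdealMulC
import Groth.Agent.Lib.Helper14.RestrLoc
import Groth.Agent.Lib.Helper14.CohLoc
import Groth.Agent.Lib.Helper13.GenLocus

set_option autoImplicit false
set_option linter.unusedSectionVars false
set_option linter.style.haveILetI false
universe u
open CategoryTheory CategoryTheory.Limits AlgebraicGeometry Opposite TopologicalSpace
open Groth.Agent.Helper13.QCoh Groth.Agent.Helper13.FinType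
open Groth.Agent.Helper26.DevB Groth.Agent.Helper26.DevE Groth.Agent.Helper26.DevG

namespace Groth.Agent.Helper26.DevH

-- part 1


section Part1

variable {X : Scheme.{u}} (Q : X.Modules) (U : X.Opens)

section Restrict

variable (m : Γ(Q, U)) [Q.IsQuasicoherent] (hU : IsAffineOpen U) (ξ : X) (hξ : ξ ∈ U)
  (hann : ∀ a : Γ(X, U), a • m = 0 ↔ ξ ∉ X.basicOpen a)

include hU hann in
/-- functions on a smaller open not invertible at `ξ` kill the restriction of `m`. -/
lemma smul_map_eq_zero {V : X.Opens} (hVU : V ≤ U) (c : Γ(X, V)) (hc : ξ ∉ X.basicOpen c) :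
    c • Q.presheaf.map (homOfLE hVU).op m = 0 := by
  refine TopCat.Presheaf.section_ext ⟨Q.presheaf, Q.isSheaf⟩ V _ _ ?_
  intro y hy
  have hyU : y ∈ U := hVU hy
  rw [map_zero]
  change Q.presheaf.germ V y hy _ = 0
  rw [germ_smul, TopCat.Presheaf.germ_res_apply]
  by_cases hyc : y ∈ closure ({ξ} : Set X)
  · obtain ⟨g, hgW, hyg⟩ := hU.exists_basicOpen_le (V := V) ⟨y, hy⟩ hyU
    have hξg : ξ ∈ X.basicOpen g := by
      obtain ⟨w, hw1, hw2⟩ := mem_closure_iff.1 hyc (X.basicOpen g) (X.basicOpen g).2 hyg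
      rw [Set.mem_singleton_iff] at hw2
      rw [← hw2]; exact hw1
    set ρ := (X.presheaf.map (homOfLE (X.basicOpen_le g)).op).hom with hρ
    set b : Γ(X, X.basicOpen g) := X.presheaf.map (homOfLE hgW).op c with hb
    haveI := hU.isLocalization_basicOpen g
    obtain ⟨⟨a, ⟨_, k, rfl⟩⟩, hab⟩ := IsLocalization.surj (Submonoid.powers g) b
    have hab' : b * ρ (g ^ k) = ρ a := hab
    have hξa : ξ ∉ X.basicOpen a := by
      intro h
      have h1 : ξ ∈ X.basicOpen (ρ a) := by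
        rw [hρ]
        change ξ ∈ X.basicOpen (X.presheaf.map _ a)
        rw [Scheme.basicOpen_res]
        exact ⟨hξg, h⟩
      rw [← hab', Scheme.basicOpen_mul, hb, Scheme.basicOpen_res] at h1
      exact hc h1.1.2
    have ha0 : a • m = 0 := (hann a).2 hξa
    have hunit : IsUnit (ρ g) := X.toRingedSpace.isUnit_res_basicOpen g
    have h2 : ρ a • Q.presheaf.map (homOfLE (X.basicOpen_le g)).op m = 0 := by
      have := Scheme.Modules.map_smul Q (homOfLE (X.basicOpen_le g)) a m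
      rw [ha0, map_zero] at this
      exact this.symm
    rw [← hab', map_pow, mul_comm, mul_smul] at h2
    obtain ⟨v, hv⟩ := hunit.pow k
    rw [← hv] at h2
    have h3 : b • Q.presheaf.map (homOfLE (X.basicOpen_le g)).op m = 0 := by
      have := congrArg (fun z => (↑v⁻¹ : Γ(X, X.basicOpen g)) • z) h2
      simpa [smul_smul] using this
    have h4 := congrArg (Q.presheaf.germ (X.basicOpen g) y hyg) h3
    rw [germ_smul, map_zero, hb, TopCat.Presheaf.germ_res_apply,
      TopCat.Presheaf.germ_res_apply] at h4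
    exact h4
  · rw [germ_m_eq_zero_of_notMem_closure Q U m hU ξ hann y hyU hyc, smul_zero]

include hU hann hξ in
/-- the annihilator condition persists on smaller affine neighbourhoods of `ξ`. -/
lemma hann_restrict {V : X.Opens} (hVU : V ≤ U) (hξV : ξ ∈ V) (a : Γ(X, V)) :
    a • Q.presheaf.map (homOfLE hVU).op m = 0 ↔ ξ ∉ X.basicOpen a := by
  constructor
  · intro h0 hmem
    have h1 := congrArg (Q.presheaf.germ V ξ hξV) h0
    rw [germ_smul, map_zero, TopCat.Presheaf.germ_res_apply] at h1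
    have hu : IsUnit (X.presheaf.germ V ξ hξV a) := (X.mem_basicOpen a ξ hξV).1 hmem
    obtain ⟨v, hv⟩ := hu
    rw [← hv] at h1
    apply germ_m_ne_zero Q U m hU ξ hξ hann
    have := congrArg (fun z => (↑v⁻¹ : X.presheaf.stalk ξ) • z) h1
    simpa [smul_smul] using this
  · exact smul_map_eq_zero Q U m hU ξ hann hVU a

end Restrict

/-- finitely many nonzero elements of a stalk killed by the maximal ideal are germs of sections over
a common affine open neighbourhood, each with annihilator the prime of the point. -/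
theorem exists_sections_ann [IsLocallyNoetherian X] (R : X.Modules) [R.IsQuasicoherent] (ξ : X)
    (hk : ∀ r ∈ IsLocalRing.maximalIdeal (X.presheaf.stalk ξ), ∀ z : R.presheaf.stalk ξ, r • z = 0)
    {n : ℕ} (z : Fin n → R.presheaf.stalk ξ) (hz : ∀ k, z k ≠ 0) :
    ∃ (U : X.Opens) (_ : IsAffineOpen U) (hξ : ξ ∈ U) (m : Fin n → Γ(R, U)),
      (∀ k, R.presheaf.germ U ξ hξ (m k) = z k) ∧
      ∀ k, ∀ a : Γ(X, U), a • m k = 0 ↔ ξ ∉ X.basicOpen a := by
  classical
  choose U₀ hU₀ hξU₀ m₀ hgm₀ hann₀ using fun k => exists_section_ann R ξ hk (z k) (hz k)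
  let V : X.Opens := ⨅ k, U₀ k
  have hξV : ξ ∈ V := by
    change ξ ∈ ((⨅ k, U₀ k : X.Opens) : Set X)
    rw [Opens.coe_iInf]
    exact Set.mem_iInter.2 (fun k => hξU₀ k)
  obtain ⟨_, ⟨U, hU, rfl⟩, hξU, hUV⟩ :=
    X.isBasis_affineOpens.exists_subset_of_mem_open hξV V.2
  have hU' : IsAffineOpen U := hU
  have hle : ∀ k, U ≤ U₀ k := fun k => (show U ≤ V from hUV).trans (iInf_le _ k)
  refine ⟨U, hU', hξU, fun k => R.presheaf.map (homOfLE (hle k)).op (m₀ k), fun k => ?_,
    fun k a => ?_⟩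
  · rw [TopCat.Presheaf.germ_res_apply]
    exact hgm₀ k
  · exact hann_restrict R (U₀ k) (m₀ k) (hU₀ k) ξ (hξU₀ k) (hann₀ k) (hle k) hξU a


end Part1

-- part 2


attribute [local instance] CategoryTheory.Abelian.hasFiniteBiproducts

variable {X : Scheme.{u}}

lemma sum_app {M N : X.Modules} {ι : Type*} (s : Finset ι) (f : ι → (M ⟶ N)) (V : X.Opens)
    (x : Γ(M, V)) : (∑ k ∈ s, f k).app V x = ∑ k ∈ s, (f k).app V x := by
  classical
  induction s using Finset.induction_on with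
  | empty =>
    rw [Finset.sum_empty, Finset.sum_empty]
    rfl
  | insert k s hk ih =>
    rw [Finset.sum_insert hk, Finset.sum_insert hk, ← ih]
    rfl

/-- sections of a finite biproduct are the sum of their components. -/
lemma biproduct_total_app {n : ℕ} (f : Fin n → X.Modules) (V : X.Opens) (x : Γ(⨁ f, V)) :
    x = ∑ k, (biproduct.ι f k).app V ((biproduct.π f k).app V x) := by
  have h := sum_app Finset.univ (fun k => biproduct.π f k ≫ biproduct.ι f k) V x
  rw [biproduct.total] at h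
  exact h

section Psi

variable (Q : X.Modules) (U : X.Opens) [Q.IsQuasicoherent] (hU : IsAffineOpen U) (ξ : X)
  (hξ : ξ ∈ U) {n : ℕ} (m : Fin n → Γ(Q, U))
  (hann : ∀ k, ∀ a : Γ(X, U), a • m k = 0 ↔ ξ ∉ X.basicOpen a)
  {Z : Scheme.{u}} (i : Z ⟶ X) [IsClosedImmersion i] [IsReduced Z]
  (hi : Set.range i = closure ({ξ} : Set X))
  (hind : ∀ c : Fin n → X.presheaf.stalk ξ,
    ∑ k, c k • Q.presheaf.germ U ξ hξ (m k) = 0 →
      ∀ k, c k ∈ IsLocalRing.maximalIdeal (X.presheaf.stalk ξ))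

/-- the constant family `i_* O_Z`. -/
noncomputable abbrev fZ (n : ℕ) : Fin n → X.Modules :=
  fun _ => (Scheme.Modules.pushforward i).obj (Coh.structureModule Z)

/-- `⨁ i_* O_Z`. -/
noncomputable abbrev G₀ (n : ℕ) : X.Modules := ⨁ (fZ i n)

/-- the map `⨁ i_* O_Z ⟶ j_* j^* Q`, `e_k ↦ m_k`. -/
noncomputable def Ψ (h : ∀ k, kernel.ι (ClSub.unitToPush i) ≫ φ Q U (m k) = 0) :
    G₀ i n ⟶ N Q U :=
  biproduct.desc (fun k => ψ Q U (m k) i (h k))

lemma ι_Ψ (h : ∀ k, kernel.ι (ClSub.unitToPush i) ≫ φ Q U (m k) = 0) (k : Fin n) :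
    biproduct.ι (fZ i n) k ≫ Ψ Q U m i h = ψ Q U (m k) i (h k) :=
  biproduct.ι_desc _ k

/-- the value of `Ψ` on a section with prescribed liftable components. -/
lemma Ψ_app (h : ∀ k, kernel.ι (ClSub.unitToPush i) ≫ φ Q U (m k) = 0) (V : X.Opens)
    (x : Γ(G₀ i n, V)) (c : Fin n → Γ(X, V))
    (hc : ∀ k, (biproduct.π (fZ i n) k).app V x =
        (ClSub.unitToPush i).app V (Groth.Agent.Helper13.LocFree.toO V (c k))) :
    toQ Q U ((Ψ Q U m i h).app V x) =
      ∑ k, X.presheaf.map (homOfLE (W_le_right U V)).op (c k) •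
        Q.presheaf.map (homOfLE (W_le_left U V)).op (m k) := by
  have h1 : (Ψ Q U m i h).app V x =
      ∑ k, (φ Q U (m k)).app V (Groth.Agent.Helper13.LocFree.toO V (c k)) := by
    conv_lhs => rw [biproduct_total_app _ V x]
    rw [map_sum]
    refine Finset.sum_congr rfl (fun k _ => ?_)
    rw [hc k]
    change ((ClSub.unitToPush i ≫ biproduct.ι (fZ i n) k) ≫ Ψ Q U m i h).app V _ = _
    rw [Category.assoc, ι_Ψ, unit_ψ]
  rw [h1]
  change toQ Q U (∑ k, (φ Q U (m k)).app V (Groth.Agent.Helper13.LocFree.toO V (c k))) = _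
  have h2 : toQ Q U (∑ k, (φ Q U (m k)).app V (Groth.Agent.Helper13.LocFree.toO V (c k))) =
      ∑ k, toQ Q U ((φ Q U (m k)).app V (Groth.Agent.Helper13.LocFree.toO V (c k))) := rfl
  rw [h2]
  refine Finset.sum_congr rfl (fun k _ => ?_)
  exact φ_app Q U (m k) V (c k)

include hi hind in
/-- a relation between the `m_k` on an open forces the coefficients to vanish on `Z`. -/
lemma app_eq_zero_of_sum_eq_zero (V : X.Opens) (c : Fin n → Γ(X, V))
    (hc : ∑ k, X.presheaf.map (homOfLE (W_le_right U V)).op (c k) •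
        Q.presheaf.map (homOfLE (W_le_left U V)).op (m k) = 0) (k : Fin n) :
    i.app V (c k) = 0 := by
  rw [← basicOpen_eq_bot_iff, ← Scheme.preimage_basicOpen]
  ext z
  simp only [Opens.coe_bot, Set.mem_empty_iff_false, iff_false]
  intro hz
  have hz' : i z ∈ X.basicOpen (c k) := hz
  have hzc : i z ∈ closure ({ξ} : Set X) := by rw [← hi]; exact ⟨z, rfl⟩
  have hξc : ξ ∈ X.basicOpen (c k) := by
    obtain ⟨w, hw1, hw2⟩ := mem_closure_iff.1 hzc (X.basicOpen (c k)) (X.basicOpen (c k)).2 hz'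
    rw [Set.mem_singleton_iff] at hw2
    rw [← hw2]; exact hw1
  have hξV : ξ ∈ V := X.basicOpen_le (c k) hξc
  have hξW : ξ ∈ W U V := mem_W U hξ hξV
  have h1 := congrArg (Q.presheaf.germ (W U V) ξ hξW) hc
  rw [map_sum, map_zero] at h1
  have h2 : ∑ j, X.presheaf.germ V ξ hξV (c j) • Q.presheaf.germ U ξ hξ (m j) = 0 := by
    rw [← h1]
    refine Finset.sum_congr rfl (fun j _ => ?_)
    rw [germ_smul, TopCat.Presheaf.germ_res_apply, TopCat.Presheaf.germ_res_apply]
  have h3 := hind _ h2 k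
  exact (IsLocalRing.mem_maximalIdeal _).1 h3 ((X.mem_basicOpen (c k) ξ hξV).1 hξc)

end Psi


-- part 3


attribute [local instance] CategoryTheory.Abelian.hasFiniteBiproducts

variable {X : Scheme.{u}}

lemma isFiniteType_structureModule (T : Scheme.{u}) :
    SheafOfModules.IsFiniteType (R := T.ringCatSheaf) (Coh.structureModule T) := by
  haveI : (Coh.structureModule T).IsQuasicoherent := isQuasicoherent_unit T
  apply isFiniteType_of_finite_sections
  intro y
  obtain ⟨_, ⟨V, hV, rfl⟩, hyV, -⟩ :=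
    T.isBasis_affineOpens.exists_subset_of_mem_open (Set.mem_univ y) isOpen_univ
  refine ⟨V, hyV, hV, ?_⟩
  change Module.Finite Γ(T, V) Γ(T, V)
  infer_instance

lemma isCoh_push_unit {Z : Scheme.{u}} (i : Z ⟶ X) [IsClosedImmersion i] :
    Coh.IsCoh ((Scheme.Modules.pushforward i).obj (Coh.structureModule Z)) := by
  haveI := isFiniteType_structureModule Z
  haveI : (Coh.structureModule Z).IsQuasicoherent := isQuasicoherent_unit Z
  exact ⟨inferInstance,
    (Groth.Agent.Helper13.PushFinite.isFiniteType_pushforward_iff i (Coh.structureModule Z)).1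
      inferInstance⟩

lemma isCoh_G₀ {Z : Scheme.{u}} (i : Z ⟶ X) [IsClosedImmersion i] (n : ℕ) :
    Coh.IsCoh (G₀ i n) :=
  (cohSupp_biproduct (Set.univ : Set X) (fZ i n)
    (fun _ => ⟨isCoh_push_unit i, Set.subset_univ _⟩)).1

section Psi

variable [IsNoetherian X] (Q : X.Modules) (U : X.Opens) [Q.IsQuasicoherent]
  (hU : IsAffineOpen U) (ξ : X)
  (hξ : ξ ∈ U) {n : ℕ} (m : Fin n → Γ(Q, U))
  (hann : ∀ k, ∀ a : Γ(X, U), a • m k = 0 ↔ ξ ∉ X.basicOpen a)
  {Z : Scheme.{u}} (i : Z ⟶ X) [IsClosedImmersion i] [IsReduced Z]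
  (hi : Set.range i = closure ({ξ} : Set X))
  (hind : ∀ c : Fin n → X.presheaf.stalk ξ,
    ∑ k, c k • Q.presheaf.germ U ξ hξ (m k) = 0 →
      ∀ k, c k ∈ IsLocalRing.maximalIdeal (X.presheaf.stalk ξ))

include hi hind in
lemma mono_Ψ (h : ∀ k, kernel.ι (ClSub.unitToPush i) ≫ φ Q U (m k) = 0) :
    Mono (Ψ Q U m i h) := by
  apply Preadditive.mono_of_kernel_zero
  haveI : (G₀ i n).IsQuasicoherent := (isCoh_G₀ i n).1
  haveI hNq : (N Q U).IsQuasicoherent :=
    Groth.Agent.Helper13.Qcqs.isQuasicoherent_pushforward_of_qcqs U.ι (Q.restrict U.ι)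
  haveI : (kernel (Ψ Q U m i h)).IsQuasicoherent :=
    Groth.Agent.Helper13.QCohLocal.isQuasicoherent_kernel _
  refine Groth.Agent.Helper14.IdealMul.hom_eq_zero_of_affine_cover _
    (fun V : X.affineOpens => V.1) (fun V => V.2) ?_ ?_
  · intro x
    obtain ⟨_, ⟨V, hV, rfl⟩, hxV, -⟩ :=
      X.isBasis_affineOpens.exists_subset_of_mem_open (Set.mem_univ x) isOpen_univ
    exact ⟨⟨V, hV⟩, hxV⟩
  · intro V s
    set x : Γ(G₀ i n, V.1) := (kernel.ι (Ψ Q U m i h)).app V.1 s with hx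
    have hx0 : (Ψ Q U m i h).app V.1 x = 0 := by
      change (kernel.ι (Ψ Q U m i h) ≫ Ψ Q U m i h).app V.1 s = 0
      rw [kernel.condition]
      rfl
    have hc : ∀ k, ∃ c : Γ(X, V.1), (biproduct.π (fZ i n) k).app V.1 x =
        (ClSub.unitToPush i).app V.1 (Groth.Agent.Helper13.LocFree.toO V.1 c) := by
      intro k
      obtain ⟨c, hc⟩ := i.app_surjective V.1 V.2
        (show Γ(Z, i ⁻¹ᵁ V.1) from (biproduct.π (fZ i n) k).app V.1 x)
      exact ⟨c, hc.symm⟩
    choose c hc using hc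
    have h1 := Ψ_app Q U m i h V.1 x c hc
    rw [hx0] at h1
    have h2 : ∀ k, i.app V.1 (c k) = 0 :=
      app_eq_zero_of_sum_eq_zero Q U ξ hξ m i hi hind V.1 c h1.symm
    rw [biproduct_total_app (fZ i n) V.1 x]
    refine Finset.sum_eq_zero (fun k _ => ?_)
    rw [hc k]
    have h3 : (ClSub.unitToPush i).app V.1 (Groth.Agent.Helper13.LocFree.toO V.1 (c k)) = 0 :=
      h2 k
    rw [h3, map_zero]

end Psi


-- part 4


attribute [local instance] CategoryTheory.Abelian.hasFiniteBiproducts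

variable {X : Scheme.{u}}

lemma stalk_total {n : ℕ} (f : Fin n → X.Modules) (x : X) (w : (⨁ f).presheaf.stalk x) :
    w = ∑ k, stalkMap (biproduct.ι f k) x (stalkMap (biproduct.π f k) x w) := by
  have h1 := stalkMap_sum Finset.univ (fun k => biproduct.π f k ≫ biproduct.ι f k) x w
  rw [biproduct.total, stalkMap_id] at h1
  refine h1.trans ?_
  refine Finset.sum_congr rfl (fun k _ => ?_)
  rw [Groth.Agent.Helper13.PbInv.stalkMap_comp]

/-- if `b` hits the value of `s : O_X ⟶ M` at `1` over `U`, then the image of `b` on stalks at points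
of `U` contains the image of `s`. -/
lemma exists_stalkMap_eq_of_unit {L M : X.Modules} (s : Coh.structureModule X ⟶ M) (b : L ⟶ M)
    (U : X.Opens) (x : X) (hx : x ∈ U) (q : Γ(L, U))
    (hq : b.app U q = s.app U (Groth.Agent.Helper13.LocFree.toO U 1))
    (r : (Coh.structureModule X).presheaf.stalk x) :
    ∃ y : L.presheaf.stalk x, stalkMap b x y = stalkMap s x r := by
  obtain ⟨V, hxV, t, rfl⟩ := TopCat.Presheaf.exists_germ_eq (Coh.structureModule X).presheaf r
  let V' : X.Opens := V ⊓ U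
  have hxV' : x ∈ V' := ⟨hxV, hx⟩
  have hV'V : V' ≤ V := inf_le_left
  have hV'U : V' ≤ U := inf_le_right
  set c : Γ(X, V') := X.presheaf.map (homOfLE hV'V).op (Groth.Agent.Helper13.LocFree.ofO V t)
    with hc
  have ht : (Coh.structureModule X).presheaf.germ V x hxV t =
      (Coh.structureModule X).presheaf.germ V' x hxV' (Groth.Agent.Helper13.LocFree.toO V' c) :=
    (TopCat.Presheaf.germ_res_apply (Coh.structureModule X).presheaf (homOfLE hV'V) x hxV' t).symm
  rw [ht, stalkMap_germ]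
  have h1 : Groth.Agent.Helper13.LocFree.toO V' c =
      c • Groth.Agent.Helper13.LocFree.toO V' (1 : Γ(X, V')) := (mul_one c).symm
  have h2 : s.app V' (Groth.Agent.Helper13.LocFree.toO V' 1) =
      M.presheaf.map (homOfLE hV'U).op (s.app U (Groth.Agent.Helper13.LocFree.toO U 1)) := by
    have hnat := s.mapPresheaf.naturality (homOfLE hV'U).op
    have h3 := congrArg (fun ψ' => ψ' (Groth.Agent.Helper13.LocFree.toO U (1 : Γ(X, U)))) hnat
    refine Eq.trans ?_ h3
    change s.app V' _ = s.app V' ((Coh.structureModule X).presheaf.map (homOfLE hV'U).op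
      (Groth.Agent.Helper13.LocFree.toO U 1))
    congr 1
    exact (map_one (X.presheaf.map (homOfLE hV'U).op).hom).symm
  have h4 : M.presheaf.map (homOfLE hV'U).op (b.app U q) =
      b.app V' (L.presheaf.map (homOfLE hV'U).op q) := by
    have hnat := b.mapPresheaf.naturality (homOfLE hV'U).op
    exact (congrArg (fun ψ' => ψ' q) hnat).symm
  refine ⟨L.presheaf.germ V' x hxV' (c • L.presheaf.map (homOfLE hV'U).op q), ?_⟩
  rw [stalkMap_germ, Scheme.Modules.Hom.app_smul, ← h4, hq, ← h2, ← Scheme.Modules.Hom.app_smul,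
    ← h1]


-- part 5


attribute [local instance] CategoryTheory.Abelian.hasFiniteBiproducts

variable {X : Scheme.{u}}

section KeyR

variable [IsNoetherian X] (Q : X.Modules) (U : X.Opens) (hQ : Coh.IsCoh Q)
  (hU : IsAffineOpen U) (ξ : X)
  (hξ : ξ ∈ U) {n : ℕ} (m : Fin n → Γ(Q, U))
  (hann : ∀ k, ∀ a : Γ(X, U), a • m k = 0 ↔ ξ ∉ X.basicOpen a)
  {Z : Scheme.{u}} (i : Z ⟶ X) [IsClosedImmersion i] [IsReduced Z]
  (hi : Set.range i = closure ({ξ} : Set X))
  (hind : ∀ c : Fin n → X.presheaf.stalk ξ,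
    ∑ k, c k • Q.presheaf.germ U ξ hξ (m k) = 0 →
      ∀ k, c k ∈ IsLocalRing.maximalIdeal (X.presheaf.stalk ξ))

include hQ hU hann hi hind in
set_option maxHeartbeats 1600000 in
/-- **Rank `n` key lemma**: a subobject `Q₁ ⊆ Q` containing the sections `m_k`, with a morphism
`Q₁ ⟶ ⨁ i_* O_Z` which is an isomorphism over `U`. -/
theorem keyR :
    ∃ (Q₁ : X.Modules) (a : Q₁ ⟶ Q) (b : Q₁ ⟶ G₀ i n),
      Mono a ∧ Coh.IsCoh Q₁ ∧ IsIso ((Scheme.Modules.restrictFunctor U.ι).map b) ∧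
      ∀ k, ∃ q : Γ(Q₁, U), a.app U q = m k := by
  classical
  obtain ⟨hQ1, hQ2⟩ := hQ
  haveI : Q.IsQuasicoherent := hQ1
  haveI : SheafOfModules.IsFiniteType (R := X.ringCatSheaf) Q := hQ2
  haveI hNq : (N Q U).IsQuasicoherent :=
    Groth.Agent.Helper13.Qcqs.isQuasicoherent_pushforward_of_qcqs U.ι (Q.restrict U.ι)
  have h : ∀ k, kernel.ι (ClSub.unitToPush i) ≫ φ Q U (m k) = 0 := fun k =>
    kernel_ι_comp_φ Q U (m k) hU ξ (hann k) i hi
  haveI hΨ : Mono (Ψ Q U m i h) := mono_Ψ Q U ξ hξ m i hi hind h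
  haveI : (G₀ i n).IsQuasicoherent := (isCoh_G₀ i n).1
  haveI hCq : (cokernel (Ψ Q U m i h)).IsQuasicoherent :=
    Groth.Agent.Helper13.QCohLocal.isQuasicoherent_cokernel _
  set g : Q ⟶ cokernel (Ψ Q U m i h) := η Q U ≫ cokernel.π (Ψ Q U m i h) with hg
  haveI hQ₁q : (kernel g).IsQuasicoherent := Groth.Agent.Helper13.QCohLocal.isQuasicoherent_kernel g
  haveI hQ₁f : SheafOfModules.IsFiniteType (R := X.ringCatSheaf) (kernel g : X.Modules) :=
    Groth.Agent.Helper28.CohSub.isFiniteType_of_mono (kernel.ι g)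
  set a : kernel g ⟶ Q := kernel.ι g with ha
  have hag : (a ≫ η Q U) ≫ cokernel.π (Ψ Q U m i h) = 0 := by
    rw [Category.assoc]; exact kernel.condition g
  set b : kernel g ⟶ G₀ i n := Abelian.monoLift (Ψ Q U m i h) (a ≫ η Q U) hag with hb
  have hbΨ : b ≫ Ψ Q U m i h = a ≫ η Q U := Abelian.monoLift_comp _ _ _
  -- the sections
  set u : Fin n → Γ(G₀ i n, U) := fun k => (biproduct.ι (fZ i n) k).app U
    ((ClSub.unitToPush i).app U (Groth.Agent.Helper13.LocFree.toO U 1)) with hu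
  have hηm : ∀ k, (η Q U).app U (m k) = (Ψ Q U m i h).app U (u k) := by
    intro k
    change _ = ((ClSub.unitToPush i ≫ biproduct.ι (fZ i n) k) ≫ Ψ Q U m i h).app U
      (Groth.Agent.Helper13.LocFree.toO U 1)
    rw [Category.assoc, ι_Ψ, unit_ψ]
    have h2 := φ_app Q U (m k) U 1
    rw [map_one, one_smul] at h2
    change toQ Q U ((η Q U).app U (m k)) = toQ Q U _
    rw [h2, η_app]
  have hm : ∀ k, ∃ q : Γ(kernel g, U), a.app U q = m k := by
    intro k
    have hS : (ShortComplex.mk a g (kernel.condition g)).Exact :=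
      ShortComplex.exact_of_f_is_kernel _ (kernelIsKernel g)
    haveI : Mono (ShortComplex.mk a g (kernel.condition g)).f := by
      change Mono (kernel.ι g); infer_instance
    apply app_exact_of_exact_of_mono (ShortComplex.mk a g (kernel.condition g)) hS U (m k)
    change (cokernel.π (Ψ Q U m i h)).app U ((η Q U).app U (m k)) = 0
    rw [hηm k]
    change (Ψ Q U m i h ≫ cokernel.π (Ψ Q U m i h)).app U _ = 0
    rw [cokernel.condition]
    rfl
  choose q hq using hm
  have hbq : ∀ k, b.app U (q k) = u k := by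
    intro k
    apply (mono_iff_app_injective (Ψ Q U m i h)).1 hΨ U
    rw [← hηm k, ← hq k]
    change (b ≫ Ψ Q U m i h).app U (q k) = (a ≫ η Q U).app U (q k)
    rw [hbΨ]
  refine ⟨kernel g, a, b, inferInstance, ⟨hQ₁q, hQ₁f⟩, ?_, fun k => ⟨q k, hq k⟩⟩
  rw [Groth.Agent.Helper13.GenLoc.isIso_restrict_iff]
  intro x hx
  constructor
  · have hk1 : (kernel.ι b ≫ a) ≫ η Q U = 0 := by
      rw [Category.assoc, ← hbΨ, ← Category.assoc, kernel.condition, zero_comp]
    exact Groth.Agent.Helper26.StalkNbhd.injective_of_kernel_stalk b x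
      (Groth.Agent.Helper28.CohSub.subsingleton_stalk_of_mono_of_comp_zero (kernel.ι b ≫ a)
        (η Q U) hk1 x (Groth.Agent.Helper28.CohSub.unit_stalk_bijective U Q x hx).1)
  · intro w
    have hw := stalk_total (fZ i n) x w
    have hy : ∀ k, ∃ y : (kernel g : X.Modules).presheaf.stalk x, stalkMap b x y =
        stalkMap (biproduct.ι (fZ i n) k) x (stalkMap (biproduct.π (fZ i n) k) x w) := by
      intro k
      obtain ⟨r, hr⟩ := stalkMap_surjective_of_epi (ClSub.unitToPush i) x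
        (stalkMap (biproduct.π (fZ i n) k) x w)
      obtain ⟨y, hy⟩ := exists_stalkMap_eq_of_unit
        (ClSub.unitToPush i ≫ biproduct.ι (fZ i n) k) b U x hx (q k) (hbq k) r
      refine ⟨y, ?_⟩
      rw [hy, Groth.Agent.Helper13.PbInv.stalkMap_comp, hr]
    choose y hy using hy
    refine ⟨∑ k, y k, ?_⟩
    rw [map_sum]
    refine Eq.trans ?_ hw.symm
    exact Finset.sum_congr rfl (fun k _ => hy k)

end KeyR


-- part 6


attribute [local instance] CategoryTheory.Abelian.hasFiniteBiproducts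

variable {X : Scheme.{u}}

/-- the image of an integral closed subscheme is the closure of the image of its generic point. -/
lemma range_eq_closure {Z : Scheme.{u}} (i : Z ⟶ X) [IsClosedImmersion i] [IsIntegral Z] :
    Set.range i = closure ({i (genericPoint Z)} : Set X) := by
  have h1 : closure ({genericPoint Z} : Set Z) = Set.univ := (genericPoint_spec Z).def
  have h2 := i.isClosedEmbedding.closure_image_eq ({genericPoint Z} : Set Z)
  rw [Set.image_singleton] at h2
  rw [h2, h1, Set.image_univ]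

/-- identification of `J · ⨁ i_* O_Z` with `i_* (∐ I)`, `I = (J O_Z)`. -/
lemma exists_iso_idealMul_G₀ {Z : Scheme.{u}} (i : Z ⟶ X) [IsClosedImmersion i] (n : ℕ)
    (J : X.IdealSheafData) :
    Nonempty ((Scheme.Modules.pushforward i).obj
      (∐ fun _ : Fin n => (Dual3.idealMul (J.comap i)).obj (Coh.structureModule Z)) ≅
      (Dual3.idealMul J).obj (G₀ i n)) := by
  haveI : (Coh.structureModule Z).IsQuasicoherent := isQuasicoherent_unit Z
  obtain ⟨e₂, -⟩ := Groth.Agent.Helper14.IdealMul.idealMul_pushforward i (Coh.structureModule Z)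
    inferInstance J
  let I : Z.Modules := (Dual3.idealMul (J.comap i)).obj (Coh.structureModule Z)
  let e₁ : (Dual3.idealMul J).obj (⨁ fZ i n) ≅
      ⨁ (fun k => (Dual3.idealMul J).obj (fZ i n k)) := (Dual3.idealMul J).mapBiproduct (fZ i n)
  let e₃ : (⨁ fun k => (Dual3.idealMul J).obj (fZ i n k)) ≅
      ⨁ (fun _ : Fin n => (Scheme.Modules.pushforward i).obj I) :=
    biproduct.mapIso (fun _ => e₂)
  let e₄ : (Scheme.Modules.pushforward i).obj (⨁ fun _ : Fin n => I) ≅
      ⨁ (fun _ : Fin n => (Scheme.Modules.pushforward i).obj I) :=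
    (Scheme.Modules.pushforward i).mapBiproduct _
  let e₅ : (⨁ fun _ : Fin n => I) ≅ ∐ (fun _ : Fin n => I) := biproduct.isoCoproduct _
  exact ⟨(Scheme.Modules.pushforward i).mapIso e₅.symm ≪≫ e₄ ≪≫ e₃.symm ≪≫ e₁.symm⟩


-- part 7


attribute [local instance] CategoryTheory.Abelian.hasFiniteBiproducts

variable {X : Scheme.{u}}

set_option maxHeartbeats 1600000 in
/-- **S9521 (general form)**: a mono `i_*(I^⊕n) ⟶ F` surjective on the stalk at `ξ`, with `n` the
size of an independent spanning family of `F_ξ`. -/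
theorem exists_mono_push [IsNoetherian X] {Z : Scheme.{u}} (i : Z ⟶ X) [IsClosedImmersion i]
    [IsIntegral Z] (ξ : X) (hi : Set.range i = closure ({ξ} : Set X))
    (F : X.Modules) (hF : Coh.IsCoh F)
    (hk : ∀ a ∈ IsLocalRing.maximalIdeal (X.presheaf.stalk ξ),
      ∀ m : ↑(F.presheaf.stalk ξ), a • m = 0) :
    ∃ (r : ℕ) (I : Z.Modules) (ι : I ⟶ Coh.structureModule Z)
      (φ : (Coh.push i).obj (∐ fun _ : Fin r => I) ⟶ F),
      Mono ι ∧ Coh.IsCoh I ∧ Mono φ ∧ Function.Surjective (stalkMap φ ξ) ∧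
      (ξ ∈ CohB1.support F → 0 < r) ∧ Coh.IsCoh ((Coh.push i).obj (∐ fun _ : Fin r => I)) := by
  classical
  haveI : F.IsQuasicoherent := hF.1
  haveI : SheafOfModules.IsFiniteType (R := X.ringCatSheaf) F := hF.2
  haveI : Module.Finite (X.presheaf.stalk ξ) (F.presheaf.stalk ξ) :=
    Groth.Agent.Helper13.LocFree.finite_stalk_of_isFiniteType F ξ
  obtain ⟨n, z, hspan, hind⟩ :=
    exists_indep_span (R := X.presheaf.stalk ξ) (M := F.presheaf.stalk ξ)
  have hz0 : ∀ k, z k ≠ 0 := by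
    intro k h0
    have h1 := hind (Pi.single k 1) (by
      rw [Finset.sum_eq_single k]
      · rw [h0, smul_zero]
      · intro j _ hj
        rw [Pi.single_eq_of_ne hj, zero_smul]
      · intro h; exact (h (Finset.mem_univ k)).elim) k
    rw [Pi.single_eq_same] at h1
    exact (IsLocalRing.maximalIdeal.isMaximal (X.presheaf.stalk ξ)).ne_top
      ((Ideal.eq_top_iff_one _).2 h1)
  obtain ⟨U, hU, hξU, m, hgm, hann⟩ := exists_sections_ann F ξ hk z hz0
  have hind' : ∀ c : Fin n → X.presheaf.stalk ξ,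
      ∑ k, c k • F.presheaf.germ U ξ hξU (m k) = 0 →
        ∀ k, c k ∈ IsLocalRing.maximalIdeal (X.presheaf.stalk ξ) := by
    intro c hc
    apply hind c
    rw [← hc]
    exact Finset.sum_congr rfl (fun k _ => by rw [hgm k])
  obtain ⟨Q₁, a, b, ha, hQ₁, hbiso, hq⟩ := keyR F U hF hU ξ hξU m hann i hi hind'
  haveI := ha
  haveI := hbiso
  choose q hq using hq
  haveI : Q₁.IsQuasicoherent := hQ₁.1
  haveI : SheafOfModules.IsFiniteType (R := X.ringCatSheaf) Q₁ := hQ₁.2
  have hG₀ : Coh.IsCoh (G₀ i n) := isCoh_G₀ i n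
  haveI : (G₀ i n).IsQuasicoherent := hG₀.1
  haveI : SheafOfModules.IsFiniteType (R := X.ringCatSheaf) (G₀ i n) := hG₀.2
  -- the ideal of the complement of `U`
  let C : TopologicalSpace.Closeds X := ⟨(U : Set X)ᶜ, U.2.isClosed_compl⟩
  let J : X.IdealSheafData := Scheme.IdealSheafData.vanishingIdeal C
  have hUJ : (U : Set X) = (J.support : Set X)ᶜ := by
    rw [Scheme.IdealSheafData.coe_support_vanishingIdeal]
    change (U : Set X) = ((U : Set X)ᶜ)ᶜ
    rw [compl_compl]
  obtain ⟨N₁, n₁, θ, hθ⟩ :=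
    Groth.Agent.Helper14.IdealMul.exists_mono_pow_and_lift J U hUJ hQ₁ hG₀ b
  haveI hθmono : Mono θ := mono_of_mono_fac hθ
  set φ₀ : (Dual3.idealMul (J ^ (N₁ + n₁))).obj (G₀ i n) ⟶ F :=
    θ ≫ Dual3.idealMulι (J ^ N₁) Q₁ ≫ a with hφ₀
  haveI hφ₀mono : Mono φ₀ := mono_comp _ _
  obtain ⟨e⟩ := exists_iso_idealMul_G₀ i n (J ^ (N₁ + n₁))
  set I : Z.Modules := (Dual3.idealMul ((J ^ (N₁ + n₁)).comap i)).obj (Coh.structureModule Z) with hI
  -- coherence of `I`
  haveI : IsLocallyNoetherian Z := LocallyOfFiniteType.isLocallyNoetherian i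
  haveI : (Coh.structureModule Z).IsQuasicoherent := isQuasicoherent_unit Z
  haveI := isFiniteType_structureModule Z
  haveI hIq : I.IsQuasicoherent := inferInstance
  have hIcoh : Coh.IsCoh I :=
    ⟨hIq, Groth.Agent.Helper28.CohSub.isFiniteType_of_mono
      (Dual3.idealMulι ((J ^ (N₁ + n₁)).comap i) (Coh.structureModule Z))⟩
  -- bijectivity on stalks over `U`
  have hbU : ∀ x ∈ U, Function.Bijective (stalkMap b x) :=
    (Groth.Agent.Helper13.GenLoc.isIso_restrict_iff b U).1 hbiso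
  have hι₁ : ∀ x ∈ U, Function.Bijective (stalkMap (Dual3.idealMulι (J ^ N₁) Q₁) x) :=
    (Groth.Agent.Helper13.GenLoc.isIso_restrict_iff _ U).1
      (Groth.Agent.Helper14.CohLoc.isIso_restrict_idealMulι J U hUJ Q₁ N₁)
  have hι₀ : ∀ x ∈ U, Function.Bijective (stalkMap (Dual3.idealMulι (J ^ (N₁ + n₁)) (G₀ i n)) x) :=
    (Groth.Agent.Helper13.GenLoc.isIso_restrict_iff _ U).1
      (Groth.Agent.Helper14.CohLoc.isIso_restrict_idealMulι J U hUJ (G₀ i n) (N₁ + n₁))
  have hθsurj : Function.Surjective (stalkMap θ ξ) := by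
    intro y
    obtain ⟨v, hv⟩ := (hι₀ ξ hξU).2
      (stalkMap b ξ (stalkMap (Dual3.idealMulι (J ^ N₁) Q₁) ξ y))
    refine ⟨v, ?_⟩
    apply (hι₁ ξ hξU).1
    apply (hbU ξ hξU).1
    rw [← hv, ← hθ, Groth.Agent.Helper13.PbInv.stalkMap_comp,
      Groth.Agent.Helper13.PbInv.stalkMap_comp]
  have hasurj : Function.Surjective (stalkMap a ξ) := by
    have hle : (⊤ : Submodule (X.presheaf.stalk ξ) (F.presheaf.stalk ξ)) ≤
        LinearMap.range (stalkLin a ξ) := by
      rw [← hspan, Submodule.span_le]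
      rintro _ ⟨k, rfl⟩
      refine ⟨Q₁.presheaf.germ U ξ hξU (q k), ?_⟩
      rw [stalkLin_apply, stalkMap_germ, hq k, hgm k]
    intro y
    obtain ⟨w, hw⟩ := hle (Submodule.mem_top (x := y))
    exact ⟨w, hw⟩
  have hφ₀surj : Function.Surjective (stalkMap φ₀ ξ) := by
    intro y
    obtain ⟨w₁, hw₁⟩ := hasurj y
    obtain ⟨w₂, hw₂⟩ := (hι₁ ξ hξU).2 w₁
    obtain ⟨w₃, hw₃⟩ := hθsurj w₂
    refine ⟨w₃, ?_⟩
    rw [hφ₀, Groth.Agent.Helper13.PbInv.stalkMap_comp, Groth.Agent.Helper13.PbInv.stalkMap_comp,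
      hw₃, hw₂, hw₁]
  refine ⟨n, I, Dual3.idealMulι ((J ^ (N₁ + n₁)).comap i) (Coh.structureModule Z), e.hom ≫ φ₀,
    inferInstance, hIcoh, mono_comp _ _, ?_, ?_, ?_⟩
  · intro y
    obtain ⟨w, hw⟩ := hφ₀surj y
    obtain ⟨w', hw'⟩ := stalkMap_surjective_of_epi e.hom ξ w
    refine ⟨w', ?_⟩
    rw [Groth.Agent.Helper13.PbInv.stalkMap_comp, hw', hw]
  · intro hξF
    by_contra h0
    have hn0 : n = 0 := by omega
    subst hn0
    apply hξF
    have hr : Set.range z = ∅ := Set.range_eq_empty z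
    rw [hr, Submodule.span_empty] at hspan
    exact (Submodule.subsingleton_iff (X.presheaf.stalk ξ)).1 (subsingleton_of_bot_eq_top hspan)
  · have hJG : Coh.IsCoh ((Dual3.idealMul (J ^ (N₁ + n₁))).obj (G₀ i n)) :=
      ⟨inferInstance, Groth.Agent.Helper28.CohSub.isFiniteType_of_mono
        (Dual3.idealMulι (J ^ (N₁ + n₁)) (G₀ i n))⟩
    exact Groth.Agent.Helper5.K0Coh.isCoh_of_iso e.symm hJG

/-- S9521. -/
theorem main9521 (X Z : Scheme.{u}) [IsNoetherian X]
    (i : Z ⟶ X) [IsClosedImmersion i] [IsIntegral Z] (F : X.Modules) (hF : Coh.IsCoh F)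
    (hann : ∀ a ∈ IsLocalRing.maximalIdeal (X.presheaf.stalk (i (genericPoint Z))),
      ∀ m : ↑(F.presheaf.stalk (i (genericPoint Z))), a • m = 0) :
    ∃ (r : ℕ) (I : Z.Modules) (ι : I ⟶ Coh.structureModule Z)
      (φ : (Coh.push i).obj (∐ fun _ : Fin r => I) ⟶ F),
      Mono ι ∧ Coh.IsCoh I ∧ Mono φ ∧
      ∃ U : X.Opens, i (genericPoint Z) ∈ U ∧
        IsIso ((Scheme.Modules.restrictFunctor U.ι).map φ) := by
  obtain ⟨r, I, ι, φ, hι, hI, hφ, hsurj, -, hsrc⟩ :=
    exists_mono_push i (i (genericPoint Z)) (range_eq_closure i) F hF hann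
  haveI := hφ
  refine ⟨r, I, ι, φ, hι, hI, hφ, ?_⟩
  have hC : Coh.IsCoh (cokernel φ) := (Groth.Agent.S9514.result X hsrc hF φ).2
  have hCξ : i (genericPoint Z) ∉ CohB1.support (cokernel φ) := by
    intro h
    apply h
    refine ⟨fun z w => ?_⟩
    have key : ∀ z : (cokernel φ).presheaf.stalk (i (genericPoint Z)), z = 0 := by
      intro z
      obtain ⟨r', rfl⟩ := stalkMap_surjective_of_epi (cokernel.π φ) _ z
      obtain ⟨r, rfl⟩ := hsurj r'
      rw [← Groth.Agent.Helper13.PbInv.stalkMap_comp, cokernel.condition,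
        Groth.Agent.Helper13.PbInv.stalkMap_zero]
    rw [key z, key w]
  let U' : X.Opens := ⟨(CohB1.support (cokernel φ))ᶜ,
    (Groth.Agent.Helper26.DevD.isClosed_support _ hC).isOpen_compl⟩
  refine ⟨U', hCξ, ?_⟩
  rw [Groth.Agent.Helper14.RestrLoc.isIso_restrict_iff]
  constructor
  · intro x hx
    exact (hx ((isZero_iff_stalk _).1 (isZero_kernel_of_mono φ) x)).elim
  · intro x hx
    change x ∈ ((CohB1.support (cokernel φ))ᶜ)ᶜ
    rw [compl_compl]
    exact hx


end Groth.Agent.Helper26.DevH
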