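import Mathlib
import Groth.Agent.Lib.Helper26.DevH

set_option autoImplicit false
set_option linter.unusedSectionVars false
set_option linter.style.haveILetI false
set_option linter.unusedVariables false
universe u
open CategoryTheory CategoryTheory.Limits AlgebraicGeometry Opposite TopologicalSpace
open Groth.Agent.Helper13.QCoh Groth.Agent.Helper13.FinType
open Groth.Agent.Helper26.DevB Groth.Agent.Helper26.DevC Groth.Agent.Helper26.DevD
  Groth.Agent.Helper26.DevE Groth.Agent.Helper26.DevG Groth.Agent.Helper26.DevH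

namespace Groth.Agent.Helper26.DevI

section Part1


attribute [local instance] CategoryTheory.Abelian.hasFiniteBiproducts

variable {X : Scheme.{u}}

/-- the cokernel of a morphism surjective on the stalk at `ξ` has zero stalk at `ξ`. -/
lemma notMem_support_cokernel {R R' : X.Modules} (f : R ⟶ R') (ξ : X)
    (hsurj : Function.Surjective (stalkMap f ξ)) : ξ ∉ CohB1.support (cokernel f) := by
  intro h
  apply h
  refine ⟨fun z w => ?_⟩
  have key : ∀ z : (cokernel f).presheaf.stalk ξ, z = 0 := by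
    intro z
    obtain ⟨r', rfl⟩ := stalkMap_surjective_of_epi (cokernel.π f) ξ z
    obtain ⟨r, rfl⟩ := hsurj r'
    rw [← Groth.Agent.Helper13.PbInv.stalkMap_comp, cokernel.condition,
      Groth.Agent.Helper13.PbInv.stalkMap_zero]
  rw [key z, key w]

section Transfer

variable [IsLocallyNoetherian X] (ξ : X) (Z₀ : Set X)
  (P : X.Modules → Prop)
  (h2 : ∀ S : ShortComplex X.Modules, S.ShortExact → Coh.IsCoh S.X₁ → Coh.IsCoh S.X₂ →
    Coh.IsCoh S.X₃ → (P S.X₂ → P S.X₃ → P S.X₁) ∧ (P S.X₁ → P S.X₃ → P S.X₂))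
  (hA : ∀ F : X.Modules, Coh.IsCoh F → CohB1.support F ⊆ Z₀ → ξ ∉ CohB1.support F → P F)

include h2 hA in
/-- a monomorphism of coherent modules (target supported in `Z₀`) which is surjective on the stalk
at `ξ` transfers `P` in both directions. -/
theorem iff_of_mono_stalk_surjective {R R' : X.Modules} (f : R ⟶ R') [Mono f] (hR : Coh.IsCoh R)
    (hR' : Coh.IsCoh R') (hs' : CohB1.support R' ⊆ Z₀)
    (hsurj : Function.Surjective (stalkMap f ξ)) : P R ↔ P R' := by
  have hC : Coh.IsCoh (cokernel f) := (Groth.Agent.S9514.result X hR hR' f).2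
  have hPC : P (cokernel f) :=
    hA _ hC ((support_subset_of_epi (cokernel.π f)).trans hs') (notMem_support_cokernel f ξ hsurj)
  have hS : (ShortComplex.mk f (cokernel.π f) (cokernel.condition f)).ShortExact :=
    ShortComplex.ShortExact.mk' (ShortComplex.exact_cokernel f) inferInstance inferInstance
  have h := h2 _ hS hR hR' hC
  exact ⟨fun hPR => h.2 hPR hPC, fun hPR' => h.1 hPR' hPC⟩

end Transfer

section Push

variable (ξ : X) {Z : Scheme.{u}} (i : Z ⟶ X) [IsClosedImmersion i]

lemma isCoh_push (M : Z.Modules) (hM : Coh.IsCoh M) :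
    Coh.IsCoh ((Scheme.Modules.pushforward i).obj M) := by
  haveI : M.IsQuasicoherent := hM.1
  haveI : SheafOfModules.IsFiniteType (R := Z.ringCatSheaf) M := hM.2
  exact ⟨Groth.Agent.Helper13.QCohPush.isQuasicoherent_pushforward i M,
    (Groth.Agent.Helper13.PushFinite.isFiniteType_pushforward_iff i M).1 inferInstance⟩

variable [IsReduced Z] (hi : Set.range i = closure ({ξ} : Set X))

include hi in
/-- the stalk at `ξ` of a direct image from the reduced closed subscheme `closure {ξ}` is killed by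
the maximal ideal. -/
lemma stalk_push_killed (M : Z.Modules) :
    ∀ r ∈ IsLocalRing.maximalIdeal (X.presheaf.stalk ξ),
      ∀ z : ((Scheme.Modules.pushforward i).obj M).presheaf.stalk ξ, r • z = 0 := by
  intro r hr z
  obtain ⟨V, hξV, t, rfl⟩ :=
    TopCat.Presheaf.exists_germ_eq ((Scheme.Modules.pushforward i).obj M).presheaf z
  obtain ⟨V', hξV', c, rfl⟩ := TopCat.Presheaf.exists_germ_eq X.presheaf r
  let W : X.Opens := V ⊓ V'
  have hξW : ξ ∈ W := ⟨hξV, hξV'⟩
  have hWV : W ≤ V := inf_le_left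
  have hWV' : W ≤ V' := inf_le_right
  set t' : Γ((Scheme.Modules.pushforward i).obj M, W) :=
    ((Scheme.Modules.pushforward i).obj M).presheaf.map (homOfLE hWV).op t with ht'
  set c' : Γ(X, W) := X.presheaf.map (homOfLE hWV').op c with hc'
  have hgt : ((Scheme.Modules.pushforward i).obj M).presheaf.germ W ξ hξW t' =
      ((Scheme.Modules.pushforward i).obj M).presheaf.germ V ξ hξV t :=
    TopCat.Presheaf.germ_res_apply _ (homOfLE hWV) ξ hξW t
  have hgc : X.presheaf.germ W ξ hξW c' = X.presheaf.germ V' ξ hξV' c :=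
    TopCat.Presheaf.germ_res_apply X.presheaf (homOfLE hWV') ξ hξW c
  rw [← hgt, ← hgc, ← germ_smul]
  have hcξ : ξ ∉ X.basicOpen c' := by
    rw [X.mem_basicOpen c' ξ hξW, hgc]
    exact (IsLocalRing.mem_maximalIdeal _).1 hr
  have h0 : i.app W c' = 0 := app_eq_zero_of_notMem_basicOpen ξ i hi c' hcξ
  have h1 : c' • t' = 0 := by
    change (i.app W c') • (show Γ(M, i ⁻¹ᵁ W) from t') = 0
    rw [h0, zero_smul]
  rw [h1, map_zero]

include hi in
/-- a module on the integral scheme `Z` with nonzero generic stalk has nonzero direct image stalk at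
`ξ`. -/
lemma mem_support_push [IsIntegral Z] (M : Z.Modules)
    (hM : Nontrivial (M.presheaf.stalk (genericPoint Z))) :
    ξ ∈ CohB1.support ((Scheme.Modules.pushforward i).obj M) := by
  intro hsub
  obtain ⟨y, hy⟩ := exists_ne (0 : M.presheaf.stalk (genericPoint Z))
  obtain ⟨W, hηW, s, rfl⟩ := TopCat.Presheaf.exists_germ_eq M.presheaf y
  obtain ⟨V₀, hV₀o, hV₀⟩ := i.isEmbedding.isInducing.isOpen_iff.1 W.2
  obtain ⟨V, rfl⟩ : ∃ V : X.Opens, i ⁻¹ᵁ V = W := ⟨⟨V₀, hV₀o⟩, Opens.ext hV₀⟩
  have hξV : ξ ∈ V := by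
    rw [← map_genericPoint ξ i hi]
    exact hηW
  have h0 : ((Scheme.Modules.pushforward i).obj M).presheaf.germ V ξ hξV s =
      ((Scheme.Modules.pushforward i).obj M).presheaf.germ V ξ hξV 0 := hsub.elim _ _
  obtain ⟨V', hξV', iV, iV2, hV'⟩ := TopCat.Presheaf.germ_eq _ ξ hξV hξV _ _ h0
  rw [map_zero] at hV'
  have hV'' : M.presheaf.map ((Opens.map i.base).map iV).op s = 0 := hV'
  have hηV' : genericPoint Z ∈ i ⁻¹ᵁ V' := by
    change i (genericPoint Z) ∈ V'
    rw [map_genericPoint ξ i hi]; exact hξV'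
  apply hy
  rw [← TopCat.Presheaf.germ_res_apply M.presheaf ((Opens.map i.base).map iV) (genericPoint Z)
    hηV' s, hV'', map_zero]

end Push


end Part1

section Part2


attribute [local instance] CategoryTheory.Abelian.hasFiniteBiproducts

variable {X : Scheme.{u}}

/-- direct images commute with finite coproducts. -/
lemma nonempty_push_coprod_iso {Z : Scheme.{u}} (i : Z ⟶ X) (r : ℕ) (I : Z.Modules) :
    Nonempty ((Scheme.Modules.pushforward i).obj (∐ fun _ : Fin r => I) ≅
      ∐ fun _ : Fin r => (Scheme.Modules.pushforward i).obj I) := by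
  let e₅ : (⨁ fun _ : Fin r => I) ≅ ∐ (fun _ : Fin r => I) := biproduct.isoCoproduct _
  let e₄ : (Scheme.Modules.pushforward i).obj (⨁ fun _ : Fin r => I) ≅
      ⨁ (fun _ : Fin r => (Scheme.Modules.pushforward i).obj I) :=
    (Scheme.Modules.pushforward i).mapBiproduct _
  let e₆ : (⨁ fun _ : Fin r => (Scheme.Modules.pushforward i).obj I) ≅
      ∐ (fun _ : Fin r => (Scheme.Modules.pushforward i).obj I) := biproduct.isoCoproduct _
  exact ⟨(Scheme.Modules.pushforward i).mapIso e₅.symm ≪≫ e₄ ≪≫ e₆⟩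

section Compare

variable [IsNoetherian X] (ξ : X) {Z : Scheme.{u}} (i : Z ⟶ X) [IsClosedImmersion i]
  [IsIntegral Z] (hi : Set.range i = closure ({ξ} : Set X))
  (P : X.Modules → Prop)
  (h2 : ∀ S : ShortComplex X.Modules, S.ShortExact → Coh.IsCoh S.X₁ → Coh.IsCoh S.X₂ →
    Coh.IsCoh S.X₃ → (P S.X₂ → P S.X₃ → P S.X₁) ∧ (P S.X₁ → P S.X₃ → P S.X₂))
  (hA : ∀ F : X.Modules, Coh.IsCoh F → CohB1.support F ⊆ closure ({ξ} : Set X) →
    ξ ∉ CohB1.support F → P F)

include hi in
/-- the inclusion of the direct image of a nonzero ideal into `i_* O_Z` is surjective at `ξ`. -/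
lemma push_ι_stalk_surjective (I : Z.Modules) (ι : I ⟶ Coh.structureModule Z) [Mono ι]
    (hI0 : ¬ IsZero I) :
    Function.Surjective (stalkMap ((Scheme.Modules.pushforward i).map ι) ξ) := by
  haveI := isSimpleModule_stalk_push_unit ξ i hi
  haveI := nontrivial_stalk_push ξ i hi I ι hI0
  haveI : Mono ((Scheme.Modules.pushforward i).map ι) := inferInstance
  have hinj : Function.Injective (stalkLin ((Scheme.Modules.pushforward i).map ι) ξ) :=
    (mono_iff_stalk_injective _).1 inferInstance ξ
  refine (LinearMap.surjective_or_eq_zero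
    (stalkLin ((Scheme.Modules.pushforward i).map ι) ξ)).resolve_right ?_
  intro h0
  obtain ⟨x, y, hxy⟩ := exists_pair_ne (((Scheme.Modules.pushforward i).obj I).presheaf.stalk ξ)
  apply hxy
  apply hinj
  rw [h0]; rfl

include hi h2 hA in
/-- if `P` holds for the direct image of one nonzero coherent ideal of `Z`, it holds for the direct
image of every nonzero coherent ideal. -/
theorem P_push_of_P_push (I' : Z.Modules) (ι' : I' ⟶ Coh.structureModule Z) [Mono ι']
    (hI' : Coh.IsCoh I') (hI'0 : ¬ IsZero I') (hP' : P ((Scheme.Modules.pushforward i).obj I'))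
    (I : Z.Modules) (ι : I ⟶ Coh.structureModule Z) [Mono ι] (hI : Coh.IsCoh I)
    (hI0 : ¬ IsZero I) : P ((Scheme.Modules.pushforward i).obj I) := by
  set A := (Scheme.Modules.pushforward i).obj I with hA'
  set A' := (Scheme.Modules.pushforward i).obj I' with hA''
  set B := (Scheme.Modules.pushforward i).obj (Coh.structureModule Z) with hB
  set α : A ⟶ B := (Scheme.Modules.pushforward i).map ι with hα
  set α' : A' ⟶ B := (Scheme.Modules.pushforward i).map ι' with hα'
  haveI : Mono α := inferInstance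
  haveI : Mono α' := inferInstance
  have hAc : Coh.IsCoh A := isCoh_push i I hI
  have hA'c : Coh.IsCoh A' := isCoh_push i I' hI'
  have hBc : Coh.IsCoh B := isCoh_push_unit i
  have hAs : CohB1.support A ⊆ closure ({ξ} : Set X) := by
    rw [← hi]; exact support_push_subset i I
  have hA's : CohB1.support A' ⊆ closure ({ξ} : Set X) := by
    rw [← hi]; exact support_push_subset i I'
  have hαs : Function.Surjective (stalkMap α ξ) := push_ι_stalk_surjective ξ i hi I ι hI0
  have hα's : Function.Surjective (stalkMap α' ξ) := push_ι_stalk_surjective ξ i hi I' ι' hI'0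
  have hαi : Function.Injective (stalkMap α ξ) := (mono_iff_stalk_injective α).1 inferInstance ξ
  -- the intersection
  have hCc : Coh.IsCoh (cokernel α) := (Groth.Agent.S9514.result X hAc hBc α).2
  set g : A' ⟶ cokernel α := α' ≫ cokernel.π α with hg
  have hPc : Coh.IsCoh (kernel g) := (Groth.Agent.S9514.result X hA'c hCc g).1
  set p₂ : kernel g ⟶ A' := kernel.ι g with hp₂
  have hp₂α : (p₂ ≫ α') ≫ cokernel.π α = 0 := by
    rw [Category.assoc]; exact kernel.condition g
  set p₁ : kernel g ⟶ A := Abelian.monoLift α (p₂ ≫ α') hp₂α with hp₁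
  have hp₁α : p₁ ≫ α = p₂ ≫ α' := Abelian.monoLift_comp _ _ _
  haveI : Mono p₂ := inferInstance
  haveI : Mono p₁ := by
    haveI : Mono (p₁ ≫ α) := by rw [hp₁α]; infer_instance
    exact mono_of_mono p₁ α
  -- surjectivity at `ξ`
  have hp₂s : Function.Surjective (stalkMap p₂ ξ) := by
    intro y
    have hS : (ShortComplex.mk p₂ g (kernel.condition g)).Exact :=
      ShortComplex.exact_of_f_is_kernel _ (kernelIsKernel g)
    haveI : Mono (ShortComplex.mk p₂ g (kernel.condition g)).f := by
      change Mono (kernel.ι g); infer_instance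
    apply stalk_exact_of_exact_of_mono (ShortComplex.mk p₂ g (kernel.condition g)) hS ξ y
    change stalkMap g ξ y = 0
    obtain ⟨x, hx⟩ := hαs (stalkMap α' ξ y)
    rw [hg, Groth.Agent.Helper13.PbInv.stalkMap_comp, ← hx,
      ← Groth.Agent.Helper13.PbInv.stalkMap_comp, cokernel.condition,
      Groth.Agent.Helper13.PbInv.stalkMap_zero]
  have hp₁s : Function.Surjective (stalkMap p₁ ξ) := by
    intro x
    obtain ⟨y, hy⟩ := hα's (stalkMap α ξ x)
    obtain ⟨p, hp⟩ := hp₂s y
    refine ⟨p, ?_⟩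
    apply hαi
    rw [← Groth.Agent.Helper13.PbInv.stalkMap_comp, hp₁α,
      Groth.Agent.Helper13.PbInv.stalkMap_comp, hp, hy]
  have e1 := iff_of_mono_stalk_surjective ξ (closure ({ξ} : Set X)) P h2 hA p₂ hPc hA'c hA's hp₂s
  have e2 := iff_of_mono_stalk_surjective ξ (closure ({ξ} : Set X)) P h2 hA p₁ hPc hAc hAs hp₁s
  exact e2.1 (e1.2 hP')

end Compare


end Part2

section Part3


attribute [local instance] CategoryTheory.Abelian.hasFiniteBiproducts

variable {X : Scheme.{u}}

lemma isZero_sigma_of_isZero {C : Type*} [Category C] [HasZeroMorphisms C] {J : Type*}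
    (f : J → C) [HasCoproduct f] (h : ∀ j, IsZero (f j)) : IsZero (∐ f) := by
  rw [IsZero.iff_id_eq_zero]
  apply Sigma.hom_ext
  intro j
  exact (h j).eq_of_src _ _

set_option maxHeartbeats 800000 in
/-- S10865. -/
theorem main10865 (X : Scheme.{u}) [IsNoetherian X] [Nonempty X]
    (K : ObjectProperty X.Modules) [K.IsClosedUnderIsomorphisms]
    (ha : ∀ S : ShortComplex X.Modules, S.ShortExact → Coh.IsCoh S.X₁ → Coh.IsCoh S.X₂ →
      Coh.IsCoh S.X₃ → (K S.X₂ → K S.X₃ → K S.X₁) ∧ (K S.X₁ → K S.X₃ → K S.X₂))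
    (hb : ∀ (F : X.Modules) (d : ℕ), 1 ≤ d → Coh.IsCoh F → K (∐ fun _ : Fin d => F) → K F)
    (hgen : ∀ (Z : Scheme.{u}) (i : Z ⟶ X) [IsClosedImmersion i] [IsIntegral Z],
      ∃ H : Z.Modules, Coh.IsCoh H ∧ Nontrivial (H.presheaf.stalk (genericPoint Z)) ∧
        K ((Scheme.Modules.pushforward i).obj H))
    (F : X.Modules) (hF : Coh.IsCoh F) : K F := by
  have hP : ∀ M N : X.Modules, Nonempty (M ≅ N) → K M → K N := fun M N ⟨e⟩ h => K.prop_of_iso e h
  have hzero : ∀ M0 : X.Modules, IsZero M0 → K M0 := by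
    obtain ⟨x⟩ := ‹Nonempty X›
    obtain ⟨Z, i, hi1, hi2, -⟩ := exists_integral x
    haveI := hi1
    haveI := hi2
    obtain ⟨H, hH, -, hKH⟩ := hgen Z i
    intro M0 h0
    have hG : Coh.IsCoh ((Scheme.Modules.pushforward i).obj H) := isCoh_push i H hH
    have hSE : (ShortComplex.mk (0 : M0 ⟶ (Scheme.Modules.pushforward i).obj H)
        (𝟙 ((Scheme.Modules.pushforward i).obj H)) (by simp)).ShortExact := by
      refine ShortComplex.ShortExact.mk' ?_
        (show Mono (0 : M0 ⟶ (Scheme.Modules.pushforward i).obj H) from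
          ⟨fun _ _ _ => h0.eq_of_tgt _ _⟩)
        (show Epi (𝟙 ((Scheme.Modules.pushforward i).obj H)) from inferInstance)
      exact ShortComplex.exact_of_f_is_kernel _
        (KernelFork.IsLimit.ofι _ _ (fun _ _ => 0)
          (fun g hg => by
            have : g = 0 := by simpa using hg
            subst this
            exact zero_comp)
          (fun _ _ _ _ => h0.eq_of_tgt _ _))
    exact (ha _ hSE (Groth.Agent.Helper5.K0Coh.isCoh_of_isZero h0) hG hG).1 hKH hKH
  refine core Set.univ K hP hzero (fun S hS h1 h2 h3 _ => (ha S hS h1 h2 h3).2) ?_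
    isClosed_univ F hF (Set.subset_univ _)
  intro ξ _ hsmall
  obtain ⟨Z, i, hi1, hi2, hi3⟩ := exists_integral ξ
  haveI := hi1
  haveI := hi2
  refine ⟨Z, i, hi1, hi2, hi3, ?_⟩
  intro I ι hι hI hI0
  haveI := hι
  obtain ⟨H, hH, hHnt, hKH⟩ := hgen Z i
  have hG : Coh.IsCoh ((Scheme.Modules.pushforward i).obj H) := isCoh_push i H hH
  have hGs : CohB1.support ((Scheme.Modules.pushforward i).obj H) ⊆ closure ({ξ} : Set X) := by
    rw [← hi3]; exact support_push_subset i H
  have hk := stalk_push_killed ξ i hi3 H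
  have hξG := mem_support_push ξ i hi3 H hHnt
  obtain ⟨r, I', ι', φ, hι', hI', hφ, hsurj, hr, hsrc⟩ :=
    exists_mono_push i ξ hi3 _ hG hk
  haveI := hι'
  haveI := hφ
  have hr0 : 0 < r := hr hξG
  have e1 := iff_of_mono_stalk_surjective ξ (closure ({ξ} : Set X)) K ha hsmall φ hsrc hG hGs hsurj
  have hKsrc : K ((Coh.push i).obj (∐ fun _ : Fin r => I')) := e1.2 hKH
  obtain ⟨e⟩ := nonempty_push_coprod_iso i r I'
  have hK2 : K (∐ fun _ : Fin r => (Scheme.Modules.pushforward i).obj I') :=
    K.prop_of_iso e hKsrc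
  have hKI' : K ((Scheme.Modules.pushforward i).obj I') :=
    hb _ r hr0 (isCoh_push i I' hI') hK2
  have hI'0 : ¬ IsZero I' := by
    intro hz
    apply hξG
    have hsz : IsZero ((Coh.push i).obj (∐ fun _ : Fin r => I')) :=
      (Coh.push i).map_isZero (isZero_sigma_of_isZero _ (fun _ => hz))
    haveI := (isZero_iff_stalk _).1 hsz ξ
    refine ⟨fun y z => ?_⟩
    obtain ⟨w, rfl⟩ := hsurj y
    obtain ⟨w', rfl⟩ := hsurj z
    rw [Subsingleton.elim w w']
  exact P_push_of_P_push ξ i hi3 K ha hsmall I' ι' hI' hI'0 hKI' I ι hI hI0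


end Part3

section Part4




lemma quasiCompact_of_noetherian {X Y : Scheme.{u}} [IsNoetherian X] (f : X ⟶ Y) :
    QuasiCompact f :=
  ⟨fun U _ _ => TopologicalSpace.NoetherianSpace.isCompact _⟩

section PushCoh

variable {X Y : Scheme.{u}} [IsNoetherian X] [IsLocallyNoetherian Y] (f : X ⟶ Y)

lemma isQuasicoherent_push (M : X.Modules) [M.IsQuasicoherent] :
    ((Scheme.Modules.pushforward f).obj M).IsQuasicoherent := by
  haveI := quasiCompact_of_noetherian f
  exact Groth.Agent.Helper13.Qcqs.isQuasicoherent_pushforward_of_qcqs f M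

/-- kernel part: if `f_* X₂` and `f_* X₃` are coherent so is `f_* X₁`. -/
lemma isCoh_push_left (S : ShortComplex X.Modules) (hS : S.ShortExact)
    (h2 : Coh.IsCoh ((Scheme.Modules.pushforward f).obj S.X₂))
    (h3 : Coh.IsCoh ((Scheme.Modules.pushforward f).obj S.X₃)) :
    Coh.IsCoh ((Scheme.Modules.pushforward f).obj S.X₁) := by
  haveI := hS.mono_f
  have e1 : S.X₁ ≅ kernel S.g :=
    IsLimit.conePointUniqueUpToIso hS.fIsKernel (limit.isLimit (parallelPair S.g 0))
  have e2 : (Scheme.Modules.pushforward f).obj (kernel S.g) ≅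
      kernel ((Scheme.Modules.pushforward f).map S.g) :=
    PreservesKernel.iso (Scheme.Modules.pushforward f) S.g
  have hk : Coh.IsCoh (kernel ((Scheme.Modules.pushforward f).map S.g)) :=
    (Groth.Agent.S9514.result Y h2 h3 _).1
  exact Groth.Agent.Helper5.K0Coh.isCoh_of_iso
    ((Scheme.Modules.pushforward f).mapIso e1 ≪≫ e2).symm hk

/-- extension part: if `f_* X₁` and `f_* X₃` are coherent so is `f_* X₂`. -/
lemma isCoh_push_mid (S : ShortComplex X.Modules) (hS : S.ShortExact)
    (hq : S.X₂.IsQuasicoherent)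
    (h1 : Coh.IsCoh ((Scheme.Modules.pushforward f).obj S.X₁))
    (h3 : Coh.IsCoh ((Scheme.Modules.pushforward f).obj S.X₃)) :
    Coh.IsCoh ((Scheme.Modules.pushforward f).obj S.X₂) := by
  haveI := hS.mono_f
  haveI := hq
  haveI hq2 : ((Scheme.Modules.pushforward f).obj S.X₂).IsQuasicoherent :=
    isQuasicoherent_push f S.X₂
  haveI : ((Scheme.Modules.pushforward f).obj S.X₃).IsQuasicoherent := h3.1
  haveI : SheafOfModules.IsFiniteType (R := Y.ringCatSheaf)
    ((Scheme.Modules.pushforward f).obj S.X₃) := h3.2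
  have key : ∀ (A B : Y.Modules) (g' : A ⟶ B), A.IsQuasicoherent → B.IsQuasicoherent →
      SheafOfModules.IsFiniteType (R := Y.ringCatSheaf) B →
      SheafOfModules.IsFiniteType (R := Y.ringCatSheaf) (kernel g' : Y.Modules) →
      SheafOfModules.IsFiniteType (R := Y.ringCatSheaf) A := by
    intro A B g' hA hB hBf hkf
    haveI := hA
    haveI := hB
    haveI := hBf
    haveI := hkf
    haveI : (cokernel g').IsQuasicoherent :=
      Groth.Agent.Helper13.QCohLocal.isQuasicoherent_cokernel g'
    haveI hiq : (Abelian.image g').IsQuasicoherent :=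
      Groth.Agent.Helper13.QCohLocal.isQuasicoherent_kernel (cokernel.π g')
    haveI hif : SheafOfModules.IsFiniteType (R := Y.ringCatSheaf) (Abelian.image g' : Y.Modules) :=
      Groth.Agent.Helper28.CohSub.isFiniteType_of_mono (Abelian.image.ι g')
    haveI : SheafOfModules.IsFiniteType (R := Y.ringCatSheaf) (Abelian.coimage g' : Y.Modules) :=
      Groth.Agent.Helper13.FinType.isFiniteType_of_epi (Abelian.coimageIsoImage g').inv
    have hS1 : (ShortComplex.mk (kernel.ι g') (cokernel.π (kernel.ι g'))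
        (cokernel.condition _)).ShortExact :=
      ShortComplex.ShortExact.mk' (ShortComplex.exact_cokernel _)
        (show Mono (kernel.ι g') from inferInstance)
        (show Epi (cokernel.π (kernel.ι g')) from inferInstance)
    haveI : SheafOfModules.IsFiniteType (R := Y.ringCatSheaf)
        (ShortComplex.mk (kernel.ι g') (cokernel.π (kernel.ι g')) (cokernel.condition _)).X₁ :=
      hkf
    haveI : SheafOfModules.IsFiniteType (R := Y.ringCatSheaf)
        (ShortComplex.mk (kernel.ι g') (cokernel.π (kernel.ι g')) (cokernel.condition _)).X₃ :=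
      inferInstanceAs (SheafOfModules.IsFiniteType (R := Y.ringCatSheaf) (Abelian.coimage g' : Y.Modules))
    exact Groth.Agent.Helper13.FinType.isFiniteType_of_shortExact _ hS1
  have e1 : S.X₁ ≅ kernel S.g :=
    IsLimit.conePointUniqueUpToIso hS.fIsKernel (limit.isLimit (parallelPair S.g 0))
  have e2 : (Scheme.Modules.pushforward f).obj (kernel S.g) ≅
      kernel ((Scheme.Modules.pushforward f).map S.g) :=
    PreservesKernel.iso (Scheme.Modules.pushforward f) S.g
  have hk : Coh.IsCoh (kernel ((Scheme.Modules.pushforward f).map S.g)) :=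
    Groth.Agent.Helper5.K0Coh.isCoh_of_iso ((Scheme.Modules.pushforward f).mapIso e1 ≪≫ e2) h1
  exact ⟨hq2, key _ _ ((Scheme.Modules.pushforward f).map S.g) hq2 h3.1 h3.2 hk.2⟩

/-- S10866. -/
theorem main10866 {X Y : Scheme.{u}} [IsNoetherian X] [IsNoetherian Y]
    (f : X ⟶ Y)
    (hgen : ∀ (Z : Scheme.{u}) (i : Z ⟶ X) [IsClosedImmersion i] [IsIntegral Z],
      ∃ H : Z.Modules, Coh.IsCoh H ∧ Nontrivial (H.presheaf.stalk (genericPoint Z)) ∧
        Coh.IsCoh ((Scheme.Modules.pushforward (i ≫ f)).obj H))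
    (F : X.Modules) (hF : Coh.IsCoh F) : Coh.IsCoh ((Scheme.Modules.pushforward f).obj F) := by
  by_cases hne : Nonempty X
  · let K : ObjectProperty X.Modules := fun M => Coh.IsCoh ((Scheme.Modules.pushforward f).obj M)
    haveI : K.IsClosedUnderIsomorphisms :=
      ⟨fun e h => Groth.Agent.Helper5.K0Coh.isCoh_of_iso
        ((Scheme.Modules.pushforward f).mapIso e) h⟩
    refine main10865 X K ?_ ?_ ?_ F hF
    · intro S hS h1 h2 h3
      exact ⟨fun k2 k3 => isCoh_push_left f S hS k2 k3,
        fun k1 k3 => isCoh_push_mid f S hS h2.1 k1 k3⟩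
    · intro F d hd hFc hK
      haveI := hFc.1
      refine ⟨isQuasicoherent_push f F, ?_⟩
      let k₀ : Fin d := ⟨0, hd⟩
      let ι₀ : F ⟶ ∐ fun _ : Fin d => F := Sigma.ι (fun _ : Fin d => F) k₀
      let r₀ : (∐ fun _ : Fin d => F) ⟶ F := Sigma.desc (fun _ => 𝟙 F)
      have hr : ι₀ ≫ r₀ = 𝟙 F := Sigma.ι_desc _ _
      haveI : IsSplitEpi ((Scheme.Modules.pushforward f).map r₀) :=
        ⟨⟨⟨(Scheme.Modules.pushforward f).map ι₀, by
          rw [← Functor.map_comp, hr, CategoryTheory.Functor.map_id]⟩⟩⟩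
      haveI : SheafOfModules.IsFiniteType (R := Y.ringCatSheaf)
          ((Scheme.Modules.pushforward f).obj (∐ fun _ : Fin d => F)) := hK.2
      exact Groth.Agent.Helper13.FinType.isFiniteType_of_epi
        ((Scheme.Modules.pushforward f).map r₀)
    · intro Z i _ _
      obtain ⟨H, hH, hnt, hc⟩ := hgen Z i
      exact ⟨H, hH, hnt, Groth.Agent.Helper5.K0Coh.isCoh_of_iso
        ((Scheme.Modules.pushforwardComp i f).app H).symm hc⟩
  · have hz : IsZero F := by
      rw [isZero_iff_stalk]
      intro x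
      exact (hne ⟨x⟩).elim
    exact Groth.Agent.Helper5.K0Coh.isCoh_of_isZero ((Scheme.Modules.pushforward f).map_isZero hz)

end PushCoh


end Part4

end Groth.Agent.Helper26.DevI
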