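import Mathlib
import Groth.Prelude.Def_Canon
import Groth.Agent.Lib.Helper13.ToAbExact

set_option autoImplicit false
set_option linter.unusedSectionVars false
set_option linter.unusedVariables false
universe u
open CategoryTheory CategoryTheory.Limits AlgebraicGeometry Opposite TopologicalSpace

namespace Groth.Agent.Helper26.DualFun

variable (A : Type u) [CommRing A] {X : Scheme.{u}} [X.Over (Spec (CommRingCat.of A))]

theorem HHlin_apply {F G : X.Modules} (φ : F ⟶ G) (r : ℕ) (x : Coh.HH X F r) :
    Canon.HHlin A φ r x = Sheaf.H.map ((SheafOfModules.toSheaf X.ringCatSheaf).map φ) r x := rfl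

open Groth.Agent.Helper13.ToAbExact in
theorem HHlin_apply' {F G : X.Modules} (φ : F ⟶ G) (r : ℕ) (x : Coh.HH X F r) :
    Canon.HHlin A φ r x = Sheaf.H.map ((toAbF X).map φ) r x := rfl

open Groth.Agent.Helper13.ToAbExact in
theorem HHlin_comp {F G K : X.Modules} (φ : F ⟶ G) (γ : G ⟶ K) (r : ℕ) :
    Canon.HHlin A (φ ≫ γ) r = (Canon.HHlin A γ r).comp (Canon.HHlin A φ r) := by
  ext x
  rw [LinearMap.comp_apply, HHlin_apply', HHlin_apply', HHlin_apply', Functor.map_comp]
  exact Sheaf.H.map_comp_apply ((toAbF X).map φ) ((toAbF X).map γ) x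

open Groth.Agent.Helper13.ToAbExact in
theorem HHlin_id (F : X.Modules) (r : ℕ) : Canon.HHlin A (𝟙 F) r = LinearMap.id := by
  ext x
  rw [HHlin_apply', CategoryTheory.Functor.map_id]
  exact Sheaf.H.map_id_apply x

open Groth.Agent.Helper13.ToAbExact in
theorem HHlin_add {F G : X.Modules} (φ γ : F ⟶ G) (r : ℕ) :
    Canon.HHlin A (φ + γ) r = Canon.HHlin A φ r + Canon.HHlin A γ r := by
  ext x
  rw [LinearMap.add_apply, HHlin_apply', HHlin_apply', HHlin_apply', Functor.map_add]
  exact Sheaf.H.map_add_apply ((toAbF X).map φ) ((toAbF X).map γ) x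

theorem HHlin_zero {F G : X.Modules} (r : ℕ) :
    Canon.HHlin A (0 : F ⟶ G) r = 0 := by
  have h := HHlin_add A (0 : F ⟶ G) 0 r
  rw [add_zero] at h
  exact left_eq_add.1 h

theorem HHlin_sum {F G : X.Modules} {ι : Type*} (s : Finset ι) (φ : ι → (F ⟶ G)) (r : ℕ) :
    Canon.HHlin A (∑ i ∈ s, φ i) r = ∑ i ∈ s, Canon.HHlin A (φ i) r := by
  classical
  induction s using Finset.induction_on with
  | empty => simp [HHlin_zero]
  | insert a s ha ih => rw [Finset.sum_insert ha, Finset.sum_insert ha, HHlin_add, ih]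

variable (r : ℕ) (ω : X.Modules) (tr : Coh.HH X ω r →ₗ[A] A)

theorem dualityMap_apply (F : X.Modules) (φ : F ⟶ ω) (x : Coh.HH X F r) :
    Canon.dualityMap A X r ω tr F φ x =
      tr (Sheaf.H.map ((SheafOfModules.toSheaf X.ringCatSheaf).map φ) r x) := rfl

theorem dualityMap_comp {F F' : X.Modules} (f : F' ⟶ F) (φ : F ⟶ ω) :
    Canon.dualityMap A X r ω tr F' (f ≫ φ) =
      (Canon.dualityMap A X r ω tr F φ).comp (Canon.HHlin A f r) := by
  unfold Canon.dualityMap
  rw [HHlin_comp, LinearMap.comp_assoc]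

theorem dualityMap_zero (F : X.Modules) :
    Canon.dualityMap A X r ω tr F 0 = 0 := by
  unfold Canon.dualityMap
  rw [HHlin_zero, LinearMap.comp_zero]

/-- the duality map of a finite coproduct is bijective if those of the summands are. -/
theorem dualityMap_sigma_bijective {m : ℕ} (L : Fin m → X.Modules)
    (h : ∀ j, Function.Bijective (Canon.dualityMap A X r ω tr (L j))) :
    Function.Bijective (Canon.dualityMap A X r ω tr (∐ L)) := by
  classical
  have hsum : ∑ j, Sigma.π L j ≫ Sigma.ι L j = 𝟙 (∐ L) := by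
    apply Sigma.hom_ext
    intro c
    rw [Preadditive.comp_sum, Category.comp_id]
    rw [Finset.sum_eq_single c]
    · rw [← Category.assoc, Sigma.ι_π_eq_id, Category.id_comp]
    · intro b _ hb
      rw [← Category.assoc, Sigma.ι_π_of_ne L (Ne.symm hb), zero_comp]
    · intro hc
      exact absurd (Finset.mem_univ c) hc
  constructor
  · intro φ φ' hφ
    apply Sigma.hom_ext
    intro j
    apply (h j).1
    rw [dualityMap_comp, dualityMap_comp, hφ]
  · intro ψ
    choose φ hφ using fun j => (h j).2 (ψ.comp (Canon.HHlin A (Sigma.ι L j) r))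
    refine ⟨Sigma.desc φ, ?_⟩
    ext x
    have hx : x = ∑ j, Canon.HHlin A (Sigma.ι L j) r (Canon.HHlin A (Sigma.π L j) r x) := by
      have h1 := congrArg (fun f => Canon.HHlin A f r x) hsum
      simp only [HHlin_sum, HHlin_id, LinearMap.id_apply, LinearMap.sum_apply] at h1
      refine h1.symm.trans ?_
      apply Finset.sum_congr rfl
      intro j _
      rw [HHlin_comp, LinearMap.comp_apply]
    conv_lhs => rw [hx]
    conv_rhs => rw [hx]
    rw [map_sum, map_sum]
    apply Finset.sum_congr rfl
    intro j _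
    have h2 := congrArg (fun g => g (Canon.HHlin A (Sigma.π L j) r x))
      (dualityMap_comp A r ω tr (Sigma.ι L j) (Sigma.desc φ))
    simp only [LinearMap.comp_apply] at h2
    rw [← h2, Sigma.ι_desc, hφ j, LinearMap.comp_apply]


/-- the duality map of a quotient `F` of `E₀` is bijective, as soon as that of `E₀` is bijective,
that of a module `E₁` mapping onto the kernel is injective, and the top cohomology is right
exact. -/
theorem dualityMap_bijective_of_presentation {E₀ E₁ F : X.Modules} (p : E₀ ⟶ F) [Epi p]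
    (q : E₁ ⟶ kernel p) [Epi q]
    (h0 : Function.Bijective (Canon.dualityMap A X r ω tr E₀))
    (h1 : Function.Injective (Canon.dualityMap A X r ω tr E₁))
    (hsurj : Function.Surjective (Canon.HHlin A p r)) :
    Function.Bijective (Canon.dualityMap A X r ω tr F) := by
  constructor
  · intro φ φ' hφ
    rw [← cancel_epi p]
    apply h0.1
    rw [dualityMap_comp, dualityMap_comp, hφ]
  · intro ψ
    obtain ⟨φ₀, hφ₀⟩ := h0.2 (ψ.comp (Canon.HHlin A p r))
    have hz : kernel.ι p ≫ φ₀ = 0 := by
      rw [← cancel_epi q, comp_zero]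
      apply h1
      rw [← Category.assoc, dualityMap_comp, hφ₀, dualityMap_zero, LinearMap.comp_assoc,
        ← HHlin_comp, Category.assoc, kernel.condition, comp_zero, HHlin_zero, LinearMap.comp_zero]
    refine ⟨Abelian.epiDesc p φ₀ hz, ?_⟩
    ext y
    obtain ⟨x, rfl⟩ := hsurj y
    have h2 := congrArg (fun g => g x) (dualityMap_comp A r ω tr p (Abelian.epiDesc p φ₀ hz))
    simp only [LinearMap.comp_apply] at h2
    rw [← h2, Abelian.comp_epiDesc, hφ₀, LinearMap.comp_apply]

open Groth.Agent.Helper13.ToAbExact in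
/-- right exactness of the top cohomology. -/
theorem HHlin_surjective_of_vanish (S : ShortComplex X.Modules) (hS : S.ShortExact)
    (h1 : Subsingleton (Coh.HH X S.X₁ (r + 1))) :
    Function.Surjective (Canon.HHlin A S.g r) := by
  intro x₃
  have hS' := toAb_shortExact S hS
  obtain ⟨x₂, hx₂⟩ := Abelian.Ext.covariant_sequence_exact₃ _ hS' x₃ (n₁ := r + 1) rfl
    (Subsingleton.elim (α := Coh.HH X S.X₁ (r + 1)) _ _)
  exact ⟨x₂, hx₂⟩

end Groth.Agent.Helper26.DualFun
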