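import Mathlib
import Groth.Agent.Lib.Helper26.PnFin
import Groth.Agent.Lib.Helper26.DualFun

/-!
# The long exact cohomology sequence, linearly, and dimension counts
-/

set_option autoImplicit false
set_option maxHeartbeats 400000
set_option linter.unusedSectionVars false
set_option linter.unusedVariables false
universe u
open CategoryTheory CategoryTheory.Limits AlgebraicGeometry Opposite TopologicalSpace

namespace Groth.Agent.Helper26.LesDim

section Alg

variable {k : Type*} [Field k] {V₁ V₂ V₃ V₄ : Type*} [AddCommGroup V₁] [AddCommGroup V₂]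
  [AddCommGroup V₃] [AddCommGroup V₄] [Module k V₁] [Module k V₂] [Module k V₃] [Module k V₄]

/-- dimension count in a four term exact sequence `0 → V₁ → V₂ → V₃ → V₄ → 0`. -/
theorem finrank_four [FiniteDimensional k V₁] [FiniteDimensional k V₂] [FiniteDimensional k V₃]
    [FiniteDimensional k V₄] (a : V₁ →ₗ[k] V₂) (b : V₂ →ₗ[k] V₃) (c : V₃ →ₗ[k] V₄)
    (ha : Function.Injective a) (hba : ∀ x, b (a x) = 0) (hab : ∀ y, b y = 0 → ∃ x, a x = y)
    (hcb : ∀ x, c (b x) = 0) (hbc : ∀ y, c y = 0 → ∃ x, b x = y) (hc : Function.Surjective c) :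
    Module.finrank k V₁ + Module.finrank k V₃ = Module.finrank k V₂ + Module.finrank k V₄ := by
  have h1 : LinearMap.range a = LinearMap.ker b := by
    ext y
    constructor
    · rintro ⟨x, rfl⟩
      exact hba x
    · intro hy
      exact hab y hy
  have h2 : LinearMap.range b = LinearMap.ker c := by
    ext y
    constructor
    · rintro ⟨x, rfl⟩
      exact hcb x
    · intro hy
      exact hbc y hy
  have e1 := LinearMap.finrank_range_add_finrank_ker b
  have e2 := LinearMap.finrank_range_add_finrank_ker c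
  have e3 : Module.finrank k (LinearMap.range a) = Module.finrank k V₁ :=
    LinearMap.finrank_range_of_inj ha
  have e4 : Module.finrank k (LinearMap.range c) = Module.finrank k V₄ := by
    rw [LinearMap.range_eq_top.2 hc, finrank_top]
  rw [← h1, e3] at e1
  rw [← h2, e4] at e2
  omega

end Alg

section Les

variable (A : Type u) [CommRing A] {X : Scheme.{u}} [X.Over (Spec (CommRingCat.of A))]

open Groth.Agent.Helper13.ToAbExact Abelian Groth.Agent.Helper26.PnFin Groth.Agent.Helper26.DualFun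

theorem comp_g_extClass {C : Type*} [Category C] [Abelian C] [HasExt C]
    {S : ShortComplex C} (hS : S.ShortExact) {Z : C} {i : ℕ} (y : Ext Z S.X₂ i) :
    (y.comp (Ext.mk₀ S.g) (add_zero i)).comp hS.extClass rfl = 0 := by
  rw [Ext.comp_assoc_of_second_deg_zero, hS.comp_extClass, Ext.comp_zero]

theorem comp_extClass_f {C : Type*} [Category C] [Abelian C] [HasExt C]
    {S : ShortComplex C} (hS : S.ShortExact) {Z : C} {i : ℕ} (z : Ext Z S.X₃ i) :
    (z.comp hS.extClass rfl).comp (Ext.mk₀ S.f) (add_zero (i + 1)) = 0 := by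
  rw [Ext.comp_assoc_of_third_deg_zero, hS.extClass_comp, Ext.comp_zero]

variable (S : ShortComplex X.Modules) (hS : S.ShortExact)

theorem HHlin_g_f (i : ℕ) (x : Coh.HH X S.X₁ i) :
    Canon.HHlin A S.g i (Canon.HHlin A S.f i x) = 0 := by
  have h := HHlin_comp A S.f S.g i
  rw [S.zero, HHlin_zero] at h
  exact (LinearMap.congr_fun h x).symm

include hS in
theorem exact₂ (i : ℕ) (y : Coh.HH X S.X₂ i) (hy : Canon.HHlin A S.g i y = 0) :
    ∃ x : Coh.HH X S.X₁ i, Canon.HHlin A S.f i x = y :=
  Ext.covariant_sequence_exact₂ _ (toAb_shortExact S hS) y hy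

theorem exact₁ (i : ℕ) (x : Coh.HH X S.X₁ (i + 1)) (hx : Canon.HHlin A S.f (i + 1) x = 0) :
    ∃ z : Coh.HH X S.X₃ i, deltaLin A S hS i z = x :=
  Ext.covariant_sequence_exact₁ _ (toAb_shortExact S hS) x hx rfl

theorem deltaLin_g (i : ℕ) (y : Coh.HH X S.X₂ i) :
    deltaLin A S hS i (Canon.HHlin A S.g i y) = 0 :=
  comp_g_extClass (toAb_shortExact S hS) y

theorem f_deltaLin (i : ℕ) (z : Coh.HH X S.X₃ i) :
    Canon.HHlin A S.f (i + 1) (deltaLin A S hS i z) = 0 :=
  comp_extClass_f (toAb_shortExact S hS) z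

include hS in
theorem HHlin_f_injective_zero : Function.Injective (Canon.HHlin A S.f 0) := by
  have : Mono ((toAbF X).map S.f) := (toAb_shortExact S hS).mono_f
  exact Ext.postcomp_mk₀_injective_of_mono _ ((toAbF X).map S.f)

/-- the connecting map is an isomorphism when the cohomology of the middle term vanishes. -/
theorem deltaLin_bijective (i : ℕ) (h0 : Subsingleton (Coh.HH X S.X₂ i))
    (h1 : Subsingleton (Coh.HH X S.X₂ (i + 1))) :
    Function.Bijective (deltaLin A S hS i) := by
  constructor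
  · rw [injective_iff_map_eq_zero]
    intro z hz
    obtain ⟨y, rfl⟩ := deltaLin_exact A S hS i z hz
    rw [Subsingleton.elim y 0, map_zero]
  · intro x
    exact exact₁ A S hS i x (Subsingleton.elim _ _)

include hS in
theorem finrank_delta (i : ℕ) (h0 : Subsingleton (Coh.HH X S.X₂ i))
    (h1 : Subsingleton (Coh.HH X S.X₂ (i + 1))) :
    Module.finrank A (Coh.HH X S.X₃ i) = Module.finrank A (Coh.HH X S.X₁ (i + 1)) :=
  (LinearEquiv.ofBijective (deltaLin A S hS i) (deltaLin_bijective A S hS i h0 h1)).finrank_eq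

end Les

section Field

variable (k : Type u) [Field k] {X : Scheme.{u}} [X.Over (Spec (CommRingCat.of k))]

open Groth.Agent.Helper26.PnFin

variable (S : ShortComplex X.Modules) (hS : S.ShortExact)

include hS in
/-- `0 → H^i(X₃) → H^{i+1}(X₁) → H^{i+1}(X₂) → H^{i+1}(X₃) → 0`. -/
theorem finrank_four_top (i : ℕ) (h0 : Subsingleton (Coh.HH X S.X₂ i))
    (h2 : Subsingleton (Coh.HH X S.X₁ (i + 2)))
    [FiniteDimensional k (Coh.HH X S.X₃ i)] [FiniteDimensional k (Coh.HH X S.X₁ (i + 1))]
    [FiniteDimensional k (Coh.HH X S.X₂ (i + 1))] [FiniteDimensional k (Coh.HH X S.X₃ (i + 1))] :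
    Module.finrank k (Coh.HH X S.X₃ i) + Module.finrank k (Coh.HH X S.X₂ (i + 1)) =
      Module.finrank k (Coh.HH X S.X₁ (i + 1)) + Module.finrank k (Coh.HH X S.X₃ (i + 1)) := by
  apply finrank_four (deltaLin k S hS i) (Canon.HHlin k S.f (i + 1)) (Canon.HHlin k S.g (i + 1))
  · rw [injective_iff_map_eq_zero]
    intro z hz
    obtain ⟨y, rfl⟩ := deltaLin_exact k S hS i z hz
    rw [Subsingleton.elim y 0, map_zero]
  · exact f_deltaLin k S hS i
  · exact exact₁ k S hS i
  · exact HHlin_g_f k S (i + 1)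
  · exact exact₂ k S hS (i + 1)
  · intro z
    exact deltaLin_exact k S hS (i + 1) z (Subsingleton.elim _ _)

include hS in
/-- `0 → H⁰(X₁) → H⁰(X₂) → H⁰(X₃) → H¹(X₁) → 0`. -/
theorem finrank_four_bot (h1 : Subsingleton (Coh.HH X S.X₂ 1))
    [FiniteDimensional k (Coh.HH X S.X₁ 0)] [FiniteDimensional k (Coh.HH X S.X₂ 0)]
    [FiniteDimensional k (Coh.HH X S.X₃ 0)] [FiniteDimensional k (Coh.HH X S.X₁ 1)] :
    Module.finrank k (Coh.HH X S.X₁ 0) + Module.finrank k (Coh.HH X S.X₃ 0) =
      Module.finrank k (Coh.HH X S.X₂ 0) + Module.finrank k (Coh.HH X S.X₁ 1) := by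
  apply finrank_four (Canon.HHlin k S.f 0) (Canon.HHlin k S.g 0) (deltaLin k S hS 0)
  · exact HHlin_f_injective_zero k S hS
  · exact HHlin_g_f k S 0
  · exact exact₂ k S hS 0
  · exact deltaLin_g k S hS 0
  · exact deltaLin_exact k S hS 0
  · intro x
    exact exact₁ k S hS 0 x (Subsingleton.elim _ _)

end Field

end Groth.Agent.Helper26.LesDim
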