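import Mathlib
import Groth.Agent.Lib.Helper26.PnTwist
import Groth.Agent.Lib.Helper13.TwistSES
import Groth.Agent.Lib.Helper13.AcycEmbed

/-!
# Castelnuovo–Mumford regularity on `P^n`: formal consequences of the long exact sequence
-/

set_option autoImplicit false
set_option linter.unusedSectionVars false
set_option linter.style.haveILetI false
set_option linter.unusedVariables false
universe u
open CategoryTheory CategoryTheory.Limits AlgebraicGeometry Opposite TopologicalSpace
open Groth.Agent.Helper13.TwistSES

namespace Groth.Agent.Helper26.PnReg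

variable (k : Type u) [Field k] (n : ℕ)

/-- twisting a short exact sequence on `P^n`. -/
theorem twist_shortExact (S : ShortComplex (CohB1.ProjSpace n k).Modules) (hS : S.ShortExact)
    (d : ℤ) : (tensorSC S (Twist.twistProjSpace n k d)).ShortExact :=
  tensorSC_shortExact S hS _ (Groth.Agent.Helper26.PnTwist.isInvertible_twist n k d)

theorem main14173 (S : ShortComplex (CohB1.ProjSpace n k).Modules) (hS : S.ShortExact) (m : ℤ)
    (hreg₁ : Curv2.IsMRegular k n S.X₁ m) (hreg₃ : Curv2.IsMRegular k n S.X₃ m) :
    Curv2.IsMRegular k n S.X₂ m := by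
  intro i hi1 hin
  have hT := twist_shortExact k n S hS (m - i)
  exact Groth.Agent.Helper13.AcycEmbed.HH_subsingleton_of_shortExact
    (tensorSC S (Twist.twistProjSpace n k (m - i))) hT i (hreg₁ i hi1 hin) (hreg₃ i hi1 hin)

end Groth.Agent.Helper26.PnReg
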