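import Mathlib
import Groth.Agent.Lib.Helper26.PnReg
import Groth.Agent.Lib.Helper9.AffStrat
import Groth.Agent.Lib.Helper14.AffStrat
import Groth.Agent.Lib.Helper13.K0Tensor
import Groth.Agent.S1436
import Groth.Agent.Lib.Helper15.ProjSpaceProper
import Groth.Agent.S9514
import Groth.Agent.Lib.Helper13.TensorQCoh
import Groth.Agent.Lib.Helper13.GlobGen
import Groth.Agent.Lib.Helper13.InvQCoh

set_option autoImplicit false
set_option linter.unusedSectionVars false
set_option linter.style.haveILetI false
set_option linter.unusedVariables false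
universe u
open CategoryTheory CategoryTheory.Limits AlgebraicGeometry Opposite TopologicalSpace
open Groth.Agent.Helper13.TwistSES

namespace Groth.Agent.Helper26.PnReg

/-- higher cohomology of a coherent module with zero-dimensional support vanishes. -/
theorem HH_subsingleton_of_supportDim_le_zero {X : Scheme.{u}} [IsNoetherian X] (M : X.Modules)
    (hM : Coh.IsCoh M) (hdim : topologicalKrullDim (CohB1.support M) ≤ 0) (p : ℕ) (hp : 0 < p) :
    Subsingleton (Coh.HH X M p) := by
  haveI : M.IsQuasicoherent := hM.1
  haveI : SheafOfModules.IsFiniteType (R := X.ringCatSheaf) M := hM.2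
  obtain ⟨I, hI⟩ : ∃ I : X.IdealSheafData, I = Groth.Agent.Helper28.SchSupport.annIdeal M :=
    ⟨_, rfl⟩
  have hsupp : (I.support : Set X) = CohB1.support M := by
    rw [hI]; exact Groth.Agent.Helper28.SchSupport.support_annIdeal M
  haveI : IsIso ((Scheme.Modules.pullbackPushforwardAdjunction I.subschemeι).unit.app M) := by
    rw [hI]; exact Groth.Agent.Helper28.SchSupport.isIso_unit_annIdeal M
  have e : M ≅ (Scheme.Modules.pushforward I.subschemeι).obj
      ((Scheme.Modules.pullback I.subschemeι).obj M) :=
    asIso ((Scheme.Modules.pullbackPushforwardAdjunction I.subschemeι).unit.app M)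
  have hmem : ∀ z : I.subscheme, I.subschemeι z ∈ CohB1.support M := by
    intro z
    rw [← hsupp, ← Scheme.IdealSheafData.range_subschemeι]
    exact ⟨z, rfl⟩
  -- the dimension of the subscheme
  have hind : Topology.IsInducing (fun z : I.subscheme =>
      (⟨I.subschemeι z, hmem z⟩ : CohB1.support M)) := by
    have h1 : Topology.IsInducing (I.subschemeι : I.subscheme → X) :=
      I.subschemeι.isEmbedding.isInducing
    exact Topology.IsInducing.of_comp (by fun_prop) continuous_subtype_val h1
  have hdimZ : topologicalKrullDim I.subscheme ≤ ((0 : ℕ) : WithBot ℕ∞) :=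
    (hind.topologicalKrullDim_le).trans (by simpa using hdim)
  haveI : IsNoetherian I.subscheme := by
    haveI : IsLocallyNoetherian I.subscheme :=
      LocallyOfFiniteType.isLocallyNoetherian I.subschemeι
    haveI : CompactSpace I.subscheme := by
      have := (I.subschemeι.isClosedEmbedding).isCompact_preimage isCompact_univ
      rw [Set.preimage_univ] at this
      exact isCompact_univ_iff.1 this
    exact ⟨⟩
  have strat := Groth.Agent.Helper14.AffStrat.of_dim_le 0 I.subscheme hdimZ
  haveI hq : ((Scheme.Modules.pullback I.subschemeι).obj M).IsQuasicoherent := inferInstance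
  have h2 := Groth.Agent.S1436.result I.subscheme 0 strat
    ((Scheme.Modules.pullback I.subschemeι).obj M) hq p hp
  exact Groth.Agent.Helper9.AffStrat.HH_subsingleton_of_iso e p
    (Groth.Agent.Helper9.AffStrat.HH_subsingleton_pushforward I.subschemeι _ p h2)

section Pn

variable (k : Type u) [Field k] (n : ℕ)

theorem isNoetherian_projSpace : IsNoetherian (CohB1.ProjSpace n k) := by
  haveI hPft : LocallyOfFiniteType (CohB1.ProjSpace.toSpec n k) := inferInstance
  haveI hPln : IsLocallyNoetherian (CohB1.ProjSpace n k) :=
    LocallyOfFiniteType.isLocallyNoetherian (CohB1.ProjSpace.toSpec n k)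
  haveI hPc : CompactSpace (CohB1.ProjSpace n k) :=
    QuasiCompact.compactSpace_of_compactSpace (CohB1.ProjSpace.toSpec n k)
  exact {}

/-- the support of a tensor product is contained in the support of the left factor. -/
theorem support_tensorMod_subset {X : Scheme.{u}} (Q N : X.Modules) :
    CohB1.support (CohB1.tensorMod Q N) ⊆ CohB1.support Q := by
  intro x hx hQ
  apply hx
  haveI := hQ
  exact (Groth.Agent.Helper13.Tensor.stalkTensorEquiv Q N x).symm.injective.subsingleton

theorem isCoh_tensor_twist (Q : (CohB1.ProjSpace n k).Modules) (hQ : Coh.IsCoh Q) (d : ℤ) :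
    Coh.IsCoh (CohB1.tensorMod Q (Twist.twistProjSpace n k d)) := by
  haveI := hQ.1
  haveI := hQ.2
  have hL := Groth.Agent.Helper26.PnTwist.isInvertible_twist n k d
  haveI : (Twist.twistProjSpace n k d).IsQuasicoherent :=
    Groth.Agent.Helper13.Inv.isQuasicoherent_of_isInvertible _ hL
  haveI : SheafOfModules.IsFiniteType (R := (CohB1.ProjSpace n k).ringCatSheaf)
      (Twist.twistProjSpace n k d) :=
    Groth.Agent.Helper13.GlobGen.isFiniteType_of_isInvertible _ hL
  exact ⟨inferInstance, Groth.Agent.Helper13.Tensor.isFiniteType_tensorMod _ _⟩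

theorem main12905 (F' F : (CohB1.ProjSpace n k).Modules) (hF' : Coh.IsCoh F') (hF : Coh.IsCoh F)
    (φ : F' ⟶ F) [Mono φ]
    (hsupp : topologicalKrullDim (CohB1.support (cokernel φ)) ≤ 0) (m : ℤ)
    (h : Curv2.IsMRegular k n F' m) : Curv2.IsMRegular k n F m := by
  haveI := isNoetherian_projSpace k n
  intro i hi1 hin
  let S : ShortComplex (CohB1.ProjSpace n k).Modules :=
    ShortComplex.mk φ (cokernel.π φ) (cokernel.condition φ)
  have hS : S.ShortExact :=
    { exact := ShortComplex.exact_cokernel φ
      mono_f := inferInstanceAs (Mono φ)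
      epi_g := inferInstanceAs (Epi (cokernel.π φ)) }
  have hT := twist_shortExact k n S hS (m - i)
  have hQ : Coh.IsCoh (cokernel φ) := (Groth.Agent.S9514.result _ hF' hF φ).2
  have hQd := isCoh_tensor_twist k n (cokernel φ) hQ (m - i)
  have hdim : topologicalKrullDim
      (CohB1.support (CohB1.tensorMod (cokernel φ) (Twist.twistProjSpace n k (m - i)))) ≤ 0 := by
    have hsub := support_tensorMod_subset (cokernel φ) (Twist.twistProjSpace n k (m - i))
    have hind : Topology.IsInducing (Set.inclusion hsub) :=
      (Topology.IsEmbedding.inclusion hsub).isInducing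
    exact hind.topologicalKrullDim_le.trans hsupp
  have h3 := HH_subsingleton_of_supportDim_le_zero _ hQd hdim i hi1
  exact Groth.Agent.Helper13.AcycEmbed.HH_subsingleton_of_shortExact
    (tensorSC S (Twist.twistProjSpace n k (m - i))) hT i (h i hi1 hin) h3

end Pn

end Groth.Agent.Helper26.PnReg
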