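import Mathlib
import Groth.Agent.Lib.Helper26.PnReg2
import Groth.Agent.S1438
import Groth.Agent.Lib.Helper13.TensorAssoc
import Groth.Agent.Lib.Helper13.TensorMap

set_option autoImplicit false
set_option linter.unusedSectionVars false
set_option linter.style.haveILetI false
set_option linter.unusedVariables false
universe u
open CategoryTheory CategoryTheory.Limits AlgebraicGeometry Opposite TopologicalSpace
open Groth.Agent.Helper13.TwistSES Groth.Agent.Helper13.ToAbExact

namespace Groth.Agent.Helper26.PnReg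

open Abelian in
/-- `H^p(X₂) = 0` and `H^{p+1}(X₁) = 0` give `H^p(X₃) = 0`. -/
theorem HH_subsingleton_X₃ {X : Scheme.{u}} (S : ShortComplex X.Modules) (hS : S.ShortExact)
    (p : ℕ) (h2 : Subsingleton (Coh.HH X S.X₂ p)) (h1 : Subsingleton (Coh.HH X S.X₁ (p + 1))) :
    Subsingleton (Coh.HH X S.X₃ p) := by
  have hS' := toAb_shortExact S hS
  refine subsingleton_of_forall_eq 0 fun x₃ => ?_
  obtain ⟨x₂, hx₂⟩ := Ext.covariant_sequence_exact₃ _ hS' x₃ (n₁ := p + 1) rfl
    (Subsingleton.elim (α := Coh.HH X S.X₁ (p + 1)) _ _)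
  have h0 : x₂ = 0 := Subsingleton.elim (α := Coh.HH X S.X₂ p) x₂ 0
  rw [← hx₂, h0, Ext.zero_comp]
  rfl

section Pn

variable (k : Type u) [Field k] (n : ℕ)

/-- projective space is covered by the `D_+(X_i)`. -/
theorem hcovX (x : Proj (CohB1.polyGrading n k)) :
    ∃ j : Fin (n + 1), (MvPolynomial.X j : MvPolynomial (Fin (n + 1)) k) ∉
      x.asHomogeneousIdeal := by
  by_contra hcon
  push Not at hcon
  apply x.not_irrelevant_le
  rw [HomogeneousIdeal.irrelevant_le]
  intro i hi p hp
  have hp' : p ∈ MvPolynomial.homogeneousSubmodule (Fin (n + 1)) k i := hp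
  rw [MvPolynomial.mem_homogeneousSubmodule] at hp'
  have hX : ∀ j : Fin (n + 1), (MvPolynomial.X j : MvPolynomial (Fin (n + 1)) k) ∈
      x.asHomogeneousIdeal.toIdeal := hcon
  have hspan : Ideal.span ((MvPolynomial.X : Fin (n + 1) → MvPolynomial (Fin (n + 1)) k) ''
      Set.univ) ≤ x.asHomogeneousIdeal.toIdeal := by
    rw [Ideal.span_le]
    rintro _ ⟨j, -, rfl⟩
    exact hX j
  apply hspan
  rw [MvPolynomial.mem_ideal_span_X_image]
  intro m hm
  by_contra hall
  push Not at hall
  have hm0 : m = 0 := by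
    ext j
    simpa using hall j (Set.mem_univ j)
  have hc : MvPolynomial.coeff m p ≠ 0 := MvPolynomial.mem_support_iff.1 hm
  have hdeg := hp' hc
  rw [hm0] at hdeg
  simp at hdeg
  omega

instance isSeparated_projSpace : (CohB1.ProjSpace n k).IsSeparated := by
  refine ⟨?_⟩
  rw [← terminal.comp_from (CohB1.ProjSpace.toSpec n k)]
  infer_instance

theorem hasAffineStratification_projSpace :
    MoreMor.HasAffineStratification (CohB1.ProjSpace n k) n := by
  refine Groth.Agent.S1438.result (CohB1.ProjSpace n k) n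
    (fun j => Proj.basicOpen (CohB1.polyGrading n k) (MvPolynomial.X j)) ?_ ?_
  · intro j
    refine Proj.isAffineOpen_basicOpen (CohB1.polyGrading n k) (MvPolynomial.X j)
      (m := 1) ?_ Nat.one_pos
    change MvPolynomial.X j ∈ MvPolynomial.homogeneousSubmodule (Fin (n + 1)) k 1
    rw [MvPolynomial.mem_homogeneousSubmodule]
    exact MvPolynomial.isHomogeneous_X k j
  · refine top_le_iff.mp fun x _ => TopologicalSpace.Opens.mem_iSup.mpr ?_
    obtain ⟨j, hj⟩ := hcovX k n x
    exact ⟨j, hj⟩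

/-- cohomology of quasi-coherent modules on `P^n` vanishes above degree `n`. -/
theorem HH_subsingleton_projSpace_of_lt (M : (CohB1.ProjSpace n k).Modules)
    [hM : M.IsQuasicoherent] (p : ℕ) (hp : n < p) :
    Subsingleton (Coh.HH (CohB1.ProjSpace n k) M p) :=
  Groth.Agent.S1436.result _ n (hasAffineStratification_projSpace k n) M hM p hp

/-- `(F ⊗ O(a)) ⊗ O(b) ≅ F ⊗ O(a + b)`. -/
theorem twist_twist_iso (F : (CohB1.ProjSpace n k).Modules) (a b : ℤ) :
    Nonempty (CohB1.tensorMod (CohB1.tensorMod F (Twist.twistProjSpace n k a))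
      (Twist.twistProjSpace n k b) ≅ CohB1.tensorMod F (Twist.twistProjSpace n k (a + b))) := by
  obtain ⟨e⟩ := Groth.Agent.Helper26.PnTwist.twist_tensor_iso n k a b
  exact ⟨Groth.Agent.Helper13.Tensor.assoc _ _ _ ≪≫
    Groth.Agent.Helper13.Tensor.mapIso (Iso.refl F) e⟩

theorem main16627 (F : (CohB1.ProjSpace n k).Modules) (hF : Coh.IsCoh F) (m : ℤ)
    (hreg : Curv2.IsMRegular k n F m)
    (ι : CohB1.tensorMod F (Twist.twistProjSpace n k (-1)) ⟶ F) [Mono ι] :
    Curv2.IsMRegular k n (cokernel ι) m := by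
  intro i hi1 hin
  let S : ShortComplex (CohB1.ProjSpace n k).Modules :=
    ShortComplex.mk ι (cokernel.π ι) (cokernel.condition ι)
  have hS : S.ShortExact :=
    { exact := ShortComplex.exact_cokernel ι
      mono_f := inferInstanceAs (Mono ι)
      epi_g := inferInstanceAs (Epi (cokernel.π ι)) }
  have hT := twist_shortExact k n S hS (m - i)
  -- vanishing of `H^{i+1}(F(m - i - 1))`
  have hv : ∀ d : ℤ, d = m - ((i + 1 : ℕ) : ℤ) →
      Subsingleton (Coh.HH (CohB1.ProjSpace n k)
        (CohB1.tensorMod F (Twist.twistProjSpace n k d)) (i + 1)) := by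
    rintro d rfl
    by_cases hlt : i + 1 ≤ n
    · exact hreg (i + 1) (Nat.succ_pos i) hlt
    · haveI := (isCoh_tensor_twist k n F hF (m - ((i + 1 : ℕ) : ℤ))).1
      exact HH_subsingleton_projSpace_of_lt k n _ (i + 1) (by omega)
  obtain ⟨e⟩ := twist_twist_iso k n F (-1) (m - i)
  have h1 : Subsingleton (Coh.HH (CohB1.ProjSpace n k)
      (tensorSC S (Twist.twistProjSpace n k (m - i))).X₁ (i + 1)) :=
    Groth.Agent.Helper9.AffStrat.HH_subsingleton_of_iso e (i + 1)
      (hv _ (by push_cast; ring))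
  exact HH_subsingleton_X₃ (tensorSC S (Twist.twistProjSpace n k (m - i))) hT i
    (hreg i hi1 hin) h1

end Pn

end Groth.Agent.Helper26.PnReg
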