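import Mathlib

set_option autoImplicit false
set_option linter.unusedSectionVars false
set_option linter.style.haveILetI false
universe v u v' u' w
open CategoryTheory CategoryTheory.Limits CochainComplex HomComplex

namespace Groth.Agent.Helper26.Kos

section A1
variable {C : Type u} [Category.{v} C] [Abelian C]

theorem acyclic_cone_iff_quasiIso {K L : CochainComplex C ℤ} (φ : K ⟶ L) :
    (∀ n, (mappingCone φ).ExactAt n) ↔ QuasiIso φ := by
  rw [← HomotopyCategory.quotient_obj_mem_subcategoryAcyclic_iff_exactAt,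
    ← HomologicalComplex.mem_quasiIso_iff,
    ← HomotopyCategory.quotient_map_mem_quasiIso_iff,
    HomotopyCategory.quasiIso_eq_trW_subcategoryAcyclic]
  exact ((HomotopyCategory.subcategoryAcyclic C).trW_iff_of_distinguished _
    (HomotopyCategory.mappingCone_triangleh_distinguished φ)).symm

theorem quasiIso_of_acyclic {K L : CochainComplex C ℤ} (φ : K ⟶ L)
    (hK : ∀ n, K.ExactAt n) (hL : ∀ n, L.ExactAt n) : QuasiIso φ := by
  refine ⟨fun n => ?_⟩
  rw [quasiIsoAt_iff_exactAt φ n (hK n)]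
  exact hL n

end A1

section A2

variable (C : Type u) [Category.{v} C] [Abelian C] (ι : Type w)

/-- a system of complexes indexed by twists, with commuting "multiplication" maps. -/
structure KSys where
  K : ℤ → CochainComplex C ℤ
  ξ : ι → ∀ a : ℤ, K a ⟶ K (a + 1)
  comm : ∀ (i j : ι) (a : ℤ), ξ i a ≫ ξ j (a + 1) = ξ j a ≫ ξ i (a + 1)

variable {C ι}

/-- the cone of a system along one of the variables. -/
noncomputable def KSys.cone (S : KSys C ι) (r : ι) : KSys C ι where
  K a := mappingCone (S.ξ r a)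
  ξ i a := mappingCone.map (S.ξ r a) (S.ξ r (a + 1)) (S.ξ i a) (S.ξ i (a + 1)) (S.comm r i a)
  comm i j a := by
    rw [← mappingCone.map_comp, ← mappingCone.map_comp]
    congr 1
    · exact S.comm i j a
    · exact S.comm i j (a + 1)

/-- the base system of a family of objects. -/
noncomputable def KSys.base (M : ℤ → C) (x : ι → ∀ a : ℤ, M a ⟶ M (a + 1))
    (hx : ∀ (i j : ι) (a : ℤ), x i a ≫ x j (a + 1) = x j a ≫ x i (a + 1)) : KSys C ι where
  K a := (HomologicalComplex.single C (ComplexShape.up ℤ) 0).obj (M a)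
  ξ i a := (HomologicalComplex.single C (ComplexShape.up ℤ) 0).map (x i a)
  comm i j a := by
    rw [← Functor.map_comp, ← Functor.map_comp, hx]

/-- the iterated cone along a list of variables. -/
noncomputable def KSys.kos (S : KSys C ι) : List ι → KSys C ι
  | [] => S
  | r :: l => (KSys.kos S l).cone r

end A2

section A3
variable {C : Type u} [Category.{v} C] [Preadditive C] [HasBinaryBiproducts C]
  {D : Type u'} [Category.{v'} D] [Preadditive D] (Φ : C ⥤ D) [Φ.Additive]
  {K₁ L₁ K₂ L₂ : CochainComplex C ℤ} (φ₁ : K₁ ⟶ L₁) (φ₂ : K₂ ⟶ L₂) (a : K₁ ⟶ K₂) (b : L₁ ⟶ L₂)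
  (comm : φ₁ ≫ b = a ≫ φ₂)

theorem map_f_eq (j : ℤ) :
    (mappingCone.map φ₁ φ₂ a b comm).f j =
      (mappingCone.fst φ₁).1.v j (j + 1) rfl ≫ a.f (j + 1) ≫
        (mappingCone.inl φ₂).v (j + 1) j (by lia) +
      (mappingCone.snd φ₁).v j j (add_zero j) ≫ b.f j ≫ (mappingCone.inr φ₂).f j := by
  rw [mappingCone.ext_from_iff φ₁ (j + 1) j rfl]
  constructor
  · simp [mappingCone.map]
  · simp [mappingCone.map]

section
variable {K L : CochainComplex C ℤ} (φ : K ⟶ L) (j : ℤ)

theorem Φ_inl_fst :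
    Φ.map ((mappingCone.inl φ).v (j + 1) j (by lia)) ≫
      Φ.map ((mappingCone.fst φ).1.v j (j + 1) rfl) = 𝟙 _ := by
  rw [← Φ.map_comp, mappingCone.inl_v_fst_v, Φ.map_id]

theorem Φ_inl_snd :
    Φ.map ((mappingCone.inl φ).v (j + 1) j (by lia)) ≫
      Φ.map ((mappingCone.snd φ).v j j (add_zero j)) = 0 := by
  rw [← Φ.map_comp, mappingCone.inl_v_snd_v, Φ.map_zero]

theorem Φ_inr_fst :
    Φ.map ((mappingCone.inr φ).f j) ≫
      Φ.map ((mappingCone.fst φ).1.v j (j + 1) rfl) = 0 := by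
  rw [← Φ.map_comp, mappingCone.inr_f_fst_v, Φ.map_zero]

theorem Φ_inr_snd :
    Φ.map ((mappingCone.inr φ).f j) ≫
      Φ.map ((mappingCone.snd φ).v j j (add_zero j)) = 𝟙 _ := by
  rw [← Φ.map_comp, mappingCone.inr_f_snd_v, Φ.map_id]

theorem Φ_id_X :
    Φ.map ((mappingCone.fst φ).1.v j (j + 1) rfl) ≫
        Φ.map ((mappingCone.inl φ).v (j + 1) j (by lia)) +
      Φ.map ((mappingCone.snd φ).v j j (add_zero j)) ≫ Φ.map ((mappingCone.inr φ).f j) =
    𝟙 (Φ.obj ((mappingCone φ).X j)) := by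
  rw [← Φ.map_comp, ← Φ.map_comp, ← Φ.map_add, mappingCone.id_X, Φ.map_id]

end

theorem isIso_map_mappingConeMap_f (j : ℤ) (ha : IsIso (Φ.map (a.f (j + 1))))
    (hb : IsIso (Φ.map (b.f j))) :
    IsIso (Φ.map ((mappingCone.map φ₁ φ₂ a b comm).f j)) := by
  refine ⟨Φ.map ((mappingCone.fst φ₂).1.v j (j + 1) rfl) ≫ inv (Φ.map (a.f (j + 1))) ≫
      Φ.map ((mappingCone.inl φ₁).v (j + 1) j (by lia)) +
    Φ.map ((mappingCone.snd φ₂).v j j (add_zero j)) ≫ inv (Φ.map (b.f j)) ≫
      Φ.map ((mappingCone.inr φ₁).f j), ?_, ?_⟩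
  · rw [map_f_eq]
    simp only [Functor.map_add, Functor.map_comp, Preadditive.add_comp, Preadditive.comp_add,
      Category.assoc]
    rw [reassoc_of% (Φ_inl_fst Φ φ₂ j), reassoc_of% (Φ_inl_snd Φ φ₂ j),
      reassoc_of% (Φ_inr_fst Φ φ₂ j), reassoc_of% (Φ_inr_snd Φ φ₂ j)]
    simp only [IsIso.hom_inv_id_assoc, zero_comp, comp_zero, add_zero, zero_add]
    exact Φ_id_X Φ φ₁ j
  · simp only [map_f_eq, Functor.map_add, Functor.map_comp, Preadditive.add_comp,
      Preadditive.comp_add, Category.assoc]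
    rw [reassoc_of% (Φ_inl_fst Φ φ₁ j), reassoc_of% (Φ_inl_snd Φ φ₁ j),
      reassoc_of% (Φ_inr_fst Φ φ₁ j), reassoc_of% (Φ_inr_snd Φ φ₁ j)]
    simp only [IsIso.inv_hom_id_assoc, zero_comp, comp_zero, add_zero, zero_add]
    exact Φ_id_X Φ φ₂ j

end A3

section A4
variable {C : Type u} [Category.{v} C] [Abelian C] {D : Type u'} [Category.{v'} D] [Abelian D]
  (Φ : C ⥤ D) [Φ.Additive] {ι : Type w}

/-- the termwise `Φ`-isomorphism property propagates to iterated cones. -/
theorem isIso_kos_ξ (S : KSys C ι) (i0 : ι) (h : ∀ a j, IsIso (Φ.map ((S.ξ i0 a).f j))) :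
    ∀ (l : List ι) (a j : ℤ), IsIso (Φ.map (((S.kos l).ξ i0 a).f j))
  | [], a, j => h a j
  | r :: l, a, j =>
    isIso_map_mappingConeMap_f Φ _ _ _ _ ((S.kos l).comm r i0 a) j
      (isIso_kos_ξ S i0 h l a (j + 1)) (isIso_kos_ξ S i0 h l (a + 1) j)

/-- if one of the variables in the list acts by `Φ`-isomorphisms, the image under `Φ` of the
iterated cone is acyclic. -/
theorem acyclic_kos (S : KSys C ι) (i0 : ι) (h : ∀ a j, IsIso (Φ.map ((S.ξ i0 a).f j))) :
    ∀ (l : List ι), i0 ∈ l → ∀ (a n : ℤ),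
      ((Φ.mapHomologicalComplex (ComplexShape.up ℤ)).obj ((S.kos l).K a)).ExactAt n := by
  intro l
  induction l with
  | nil => intro hmem; simp at hmem
  | cons r l ih =>
    intro hmem a n
    have e := mappingCone.mapHomologicalComplexIso ((S.kos l).ξ r a) Φ
    refine HomologicalComplex.ExactAt.of_iso ?_ e.symm
    revert n
    rw [acyclic_cone_iff_quasiIso]
    rcases List.mem_cons.mp hmem with rfl | hmem'
    · haveI : ∀ n, IsIso (((Φ.mapHomologicalComplex (ComplexShape.up ℤ)).map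
          ((S.kos l).ξ i0 a)).f n) := fun n => isIso_kos_ξ Φ S i0 h l a n
      haveI : IsIso ((Φ.mapHomologicalComplex (ComplexShape.up ℤ)).map ((S.kos l).ξ i0 a)) :=
        HomologicalComplex.Hom.isIso_of_components _
      infer_instance
    · exact quasiIso_of_acyclic _ (ih hmem' a) (ih hmem' (a + 1))

end A4

section A5
variable {C : Type u} [Category.{v} C] [Abelian C]

/-- `G` is a coproduct of `c` copies of `N`. -/
def IsCopies (G N : C) (c : ℕ) : Prop := Nonempty (G ≅ ∐ fun _ : Fin c => N)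

theorem IsCopies.of_iso {G G' N : C} {c : ℕ} (h : IsCopies G N c) (e : G' ≅ G) :
    IsCopies G' N c := by
  obtain ⟨f⟩ := h
  exact ⟨e ≪≫ f⟩

theorem IsCopies.of_isZero {G : C} (N : C) (h : IsZero G) : IsCopies G N 0 := by
  refine ⟨⟨0, Sigma.desc fun i => i.elim0, h.eq_of_src _ _, ?_⟩⟩
  ext i
  exact i.elim0

theorem IsCopies.isZero {G N : C} (h : IsCopies G N 0) : IsZero G := by
  obtain ⟨e⟩ := h
  refine IsZero.of_iso ?_ e
  rw [IsZero.iff_id_eq_zero]
  ext i
  exact i.elim0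

theorem IsCopies.one (N : C) : IsCopies N N 1 := by
  refine ⟨⟨Sigma.ι (fun _ : Fin 1 => N) 0, Sigma.desc fun _ => 𝟙 N, by simp, ?_⟩⟩
  ext i
  have hi : i = 0 := Subsingleton.elim _ _
  subst hi
  simp

/-- coproducts of copies add. -/
noncomputable def copiesAdd (N : C) (c₁ c₂ : ℕ) :
    (∐ fun _ : Fin c₁ => N) ⊞ (∐ fun _ : Fin c₂ => N) ≅ ∐ fun _ : Fin (c₁ + c₂) => N where
  hom := biprod.desc
    (Sigma.desc fun i => Sigma.ι (fun _ : Fin (c₁ + c₂) => N) (Fin.castAdd c₂ i))
    (Sigma.desc fun i => Sigma.ι (fun _ : Fin (c₁ + c₂) => N) (Fin.natAdd c₁ i))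
  inv := Sigma.desc (Fin.addCases
    (fun i => Sigma.ι (fun _ : Fin c₁ => N) i ≫ biprod.inl)
    (fun i => Sigma.ι (fun _ : Fin c₂ => N) i ≫ biprod.inr))
  hom_inv_id := by
    apply biprod.hom_ext'
    · apply Sigma.hom_ext
      intro i
      simp only [biprod.inl_desc_assoc, Sigma.ι_desc_assoc, Sigma.ι_desc, Fin.addCases_left,
        Category.comp_id]
    · apply Sigma.hom_ext
      intro i
      simp only [biprod.inr_desc_assoc, Sigma.ι_desc_assoc, Sigma.ι_desc, Fin.addCases_right,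
        Category.comp_id]
  inv_hom_id := by
    ext i
    refine Fin.addCases (fun i => ?_) (fun i => ?_) i <;> simp

theorem IsCopies.biprod {G₁ G₂ N : C} {c₁ c₂ : ℕ} (h₁ : IsCopies G₁ N c₁)
    (h₂ : IsCopies G₂ N c₂) : IsCopies (G₁ ⊞ G₂) N (c₁ + c₂) := by
  obtain ⟨e₁⟩ := h₁
  obtain ⟨e₂⟩ := h₂
  exact ⟨biprod.mapIso e₁ e₂ ≪≫ copiesAdd N c₁ c₂⟩

end A5

section A6
variable {C : Type u} [Category.{v} C] [Abelian C] {ι : Type w}
  (M : ℤ → C) (x : ι → ∀ a : ℤ, M a ⟶ M (a + 1))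
  (hx : ∀ (i j : ι) (a : ℤ), x i a ≫ x j (a + 1) = x j a ≫ x i (a + 1))

theorem isZero_kos_X_pos : ∀ (l : List ι) (a j : ℤ), 0 < j →
    IsZero ((((KSys.base M x hx).kos l).K a).X j)
  | [], a, j, hj => HomologicalComplex.isZero_single_obj_X _ _ _ _ (ne_of_gt hj)
  | r :: l, a, j, hj => by
    show IsZero ((mappingCone _).X j)
    rw [mappingCone.isZero_X_iff]
    exact ⟨isZero_kos_X_pos l a (j + 1) (by omega), isZero_kos_X_pos l (a + 1) j hj⟩

theorem isCopies_kos_X : ∀ (l : List ι) (a j : ℤ) (k : ℕ) (e : ℤ), j = -(k : ℤ) →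
    e = a + l.length - k →
    IsCopies ((((KSys.base M x hx).kos l).K a).X j) (M e) (l.length.choose k)
  | [], a, j, 0, e, hj, he => by
    have hj0 : j = 0 := by simpa using hj
    have he0 : e = a := by simpa using he
    subst hj0 he0
    exact (IsCopies.one (M e)).of_iso (HomologicalComplex.singleObjXSelf _ _ _)
  | [], a, j, k + 1, e, hj, he => by
    have hz : IsZero ((((KSys.base M x hx).kos []).K a).X j) :=
      HomologicalComplex.isZero_single_obj_X _ _ _ _ (by push_cast at hj; omega)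
    simpa using IsCopies.of_isZero (M e) hz
  | r :: l, a, j, 0, e, hj, he => by
    have hj0 : j = 0 := by simpa using hj
    subst hj0
    have e1 := HomologicalComplex.homotopyCofiber.XIsoBiprod (((KSys.base M x hx).kos l).ξ r a) 0 (0 + 1) rfl
    have h1 := IsCopies.of_isZero (M e) (isZero_kos_X_pos M x hx l a (0 + 1) (by omega))
    have h2 := isCopies_kos_X l (a + 1) 0 0 e (by simp) (by
      rw [he]; simp only [List.length_cons]; push_cast; ring)
    have h3 := (h1.biprod h2).of_iso e1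
    rw [Nat.choose_zero_right, zero_add] at h3
    rw [List.length_cons, Nat.choose_zero_right]
    exact h3
  | r :: l, a, j, k + 1, e, hj, he => by
    have e1 := HomologicalComplex.homotopyCofiber.XIsoBiprod (((KSys.base M x hx).kos l).ξ r a) j (j + 1) rfl
    have h1 := isCopies_kos_X l a (j + 1) k e (by rw [hj]; push_cast; ring) (by
      rw [he]; simp only [List.length_cons]; push_cast; ring)
    have h2 := isCopies_kos_X l (a + 1) j (k + 1) e hj (by
      rw [he]; simp only [List.length_cons]; push_cast; ring)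
    have h3 := (h1.biprod h2).of_iso e1
    rw [List.length_cons, Nat.choose_succ_succ]
    exact h3

end A6

section A7
variable {C : Type u} [Category.{v} C] [Abelian C]

/-- the cycle objects of a cochain complex, as kernels. -/
noncomputable abbrev Z (K : CochainComplex C ℤ) (j : ℤ) : C := kernel (K.d j (j + 1))

/-- the map `K^j ⟶ Z^{j+1}`. -/
noncomputable def toZ (K : CochainComplex C ℤ) (j : ℤ) : K.X j ⟶ Z K (j + 1) :=
  kernel.lift (K.d (j + 1) (j + 1 + 1)) (K.d j (j + 1)) (K.d_comp_d _ _ _)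

@[reassoc (attr := simp)]
theorem toZ_ι (K : CochainComplex C ℤ) (j : ℤ) :
    toZ K j ≫ kernel.ι (K.d (j + 1) (j + 1 + 1)) = K.d j (j + 1) :=
  kernel.lift_ι _ _ _

theorem ι_toZ (K : CochainComplex C ℤ) (j : ℤ) :
    kernel.ι (K.d j (j + 1)) ≫ toZ K j = 0 := by
  rw [← cancel_mono (kernel.ι (K.d (j + 1) (j + 1 + 1)))]
  simp

/-- the short complex `Z^j ⟶ K^j ⟶ Z^{j+1}`. -/
noncomputable abbrev cyclesSC (K : CochainComplex C ℤ) (j : ℤ) : ShortComplex C :=
  ShortComplex.mk (kernel.ι (K.d j (j + 1))) (toZ K j) (ι_toZ K j)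

theorem cyclesSC_shortExact (K : CochainComplex C ℤ) (j : ℤ) (h : K.ExactAt (j + 1)) :
    (cyclesSC K j).ShortExact := by
  have hex : (cyclesSC K j).Exact := by
    apply ShortComplex.exact_of_f_is_kernel
    refine KernelFork.IsLimit.ofι (kernel.ι (K.d j (j + 1))) (ι_toZ K j)
      (fun {W} (g : W ⟶ K.X j) (hg : g ≫ toZ K j = 0) => kernel.lift _ g ?_) ?_ ?_
    · have : g ≫ toZ K j ≫ kernel.ι (K.d (j + 1) (j + 1 + 1)) = 0 := by
        rw [← Category.assoc, hg, zero_comp]
      simpa using this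
    · intro W g hg
      exact kernel.lift_ι _ _ _
    · intro W g hg m hm
      rw [← cancel_mono (kernel.ι (K.d j (j + 1))), hm, kernel.lift_ι]
  have hepi : Epi (toZ K j) := by
    rw [HomologicalComplex.exactAt_iff' K j (j + 1) (j + 1 + 1) (by simp) (by simp)] at h
    exact (ShortComplex.exact_iff_epi_kernel_lift _).1 h
  exact { exact := hex, mono_f := (inferInstance : Mono (kernel.ι (K.d j (j + 1)))), epi_g := hepi }

/-- the cycles in degree `0` of a complex vanishing in positive degrees. -/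
noncomputable def ZzeroIso (K : CochainComplex C ℤ) (h : IsZero (K.X 1)) : Z K 0 ≅ K.X 0 := by
  have h0 : K.d 0 (0 + 1) = 0 := h.eq_of_tgt _ _
  exact kernelIsoOfEq h0 ≪≫ kernelZeroIsoSource

theorem devissage (V : ℕ → C → Prop)
    (V_zero : ∀ s G, IsZero G → V s G)
    (V_ses : ∀ (S : ShortComplex C), S.ShortExact → ∀ s, V s S.X₂ → V (s + 1) S.X₁ → V s S.X₃)
    (K : CochainComplex C ℤ) (hK : ∀ n, K.ExactAt n) (N : ℕ)
    (hN : ∀ j : ℤ, j < -(N : ℤ) → IsZero (K.X j)) (t : ℕ) :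
    ∀ (d j : ℕ) (i : ℤ), i = -(j : ℤ) → N + 1 ≤ j + d →
      (∀ k : ℕ, j ≤ k → V (t + k) (K.X (-((k : ℤ) + 1)))) → V (t + j) (Z K i) := by
  have hbase : ∀ (j : ℕ) (i : ℤ), i = -(j : ℤ) → N + 1 ≤ j → V (t + j) (Z K i) := by
    intro j i hi hj
    apply V_zero
    have hz : IsZero (K.X i) := hN i (by rw [hi]; omega)
    exact IsZero.of_mono (kernel.ι (K.d i (i + 1))) hz
  intro d
  induction d with
  | zero =>
    intro j i hi hj _
    exact hbase j i hi (by omega)
  | succ d ih =>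
    intro j i hi hj hV
    have hS := cyclesSC_shortExact K (i - 1) (hK _)
    have h2 : V (t + j) (K.X (i - 1)) := by
      have := hV j le_rfl
      have e : -((j : ℤ) + 1) = i - 1 := by rw [hi]; ring
      rwa [e] at this
    have h1 : V (t + j + 1) (Z K (i - 1)) := by
      have := ih (j + 1) (i - 1) (by rw [hi]; push_cast; ring) (by omega)
        (fun k hk => hV k (by omega))
      rwa [← add_assoc] at this
    have h3 := V_ses _ hS (t + j) h2 h1
    have e : i - 1 + 1 = i := by ring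
    change V (t + j) (Z K (i - 1 + 1)) at h3
    rwa [e] at h3

end A7

section A8
variable {C : Type u} [Category.{v} C] [Abelian C] {D : Type u'} [Category.{v'} D] [Abelian D]
  (Φ : C ⥤ D) [Φ.Additive] {ι : Type w}
  (M : ℤ → C) (x : ι → ∀ a : ℤ, M a ⟶ M (a + 1))
  (hx : ∀ (i j : ι) (a : ℤ), x i a ≫ x j (a + 1) = x j a ≫ x i (a + 1))

theorem isIso_base_ξ (i0 : ι) (a : ℤ) (h : IsIso (Φ.map (x i0 a))) (j : ℤ) :
    IsIso (Φ.map (((KSys.base M x hx).ξ i0 a).f j)) := by
  by_cases hj : j = 0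
  · subst hj
    change IsIso (Φ.map (((HomologicalComplex.single C (ComplexShape.up ℤ) 0).map (x i0 a)).f 0))
    rw [HomologicalComplex.single_map_f_self, Φ.map_comp, Φ.map_comp]
    infer_instance
  · have h1 : IsZero (Φ.obj (((KSys.base M x hx).K a).X j)) :=
      Φ.map_isZero (HomologicalComplex.isZero_single_obj_X _ _ _ _ hj)
    have h2 : IsZero (Φ.obj (((KSys.base M x hx).K (a + 1)).X j)) :=
      Φ.map_isZero (HomologicalComplex.isZero_single_obj_X _ _ _ _ hj)
    exact ⟨0, h1.eq_of_src _ _, h2.eq_of_src _ _⟩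

/-- acyclicity of the image of the Koszul complex of a base system. -/
theorem acyclic_kos_base (i0 : ι) (h : ∀ a, IsIso (Φ.map (x i0 a))) (l : List ι) (hl : i0 ∈ l)
    (a n : ℤ) :
    ((Φ.mapHomologicalComplex (ComplexShape.up ℤ)).obj (((KSys.base M x hx).kos l).K a)).ExactAt n :=
  acyclic_kos Φ _ i0 (fun a j => isIso_base_ξ Φ M x hx i0 a (h a) j) l hl a n

end A8

end Groth.Agent.Helper26.Kos
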