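import Mathlib
import Groth.Agent.Lib.Helper26.KosA
import Groth.Agent.Lib.Helper5.StalkCx1
import Groth.Agent.Lib.Helper13.GenLocus
import Groth.Agent.Lib.Helper28.TwistTensor

set_option autoImplicit false
set_option linter.unusedSectionVars false
set_option linter.style.haveILetI false
set_option linter.unusedVariables false
universe u
open CategoryTheory CategoryTheory.Limits AlgebraicGeometry Opposite TopologicalSpace
open Groth.Agent.Helper13 Groth.Agent.Helper13.QCoh

namespace Groth.Agent.Helper26.Kos

section Abs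
variable {X : Scheme.{u}}

/-- a morphism which is an isomorphism near `p` induces an isomorphism on the stalk at `p`. -/
theorem isIso_stalkFunctor_map {A B : X.Modules} (φ : A ⟶ B) (U : X.Opens) (p : X) (hp : p ∈ U)
    (h : IsIso ((Scheme.Modules.restrictFunctor U.ι).map φ)) :
    IsIso ((DerSch.stalkFunctor X p).map φ) := by
  have hb : Function.Bijective (stalkMap φ p) := (GenLoc.isIso_restrict_iff φ U).1 h p hp
  rw [ConcreteCategory.isIso_iff_bijective]
  exact hb

theorem isIso_restrict_id (F : X.Modules) (U : X.Opens) :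
    IsIso ((Scheme.Modules.restrictFunctor U.ι).map (𝟙 F)) := by
  rw [CategoryTheory.Functor.map_id]; infer_instance

theorem isIso_stalkFunctor_map_tensor (F : X.Modules) {A B : X.Modules} (φ : A ⟶ B)
    (U : X.Opens) (p : X) (hp : p ∈ U)
    (h : IsIso ((Scheme.Modules.restrictFunctor U.ι).map φ)) :
    IsIso ((DerSch.stalkFunctor X p).map (Tensor.map (𝟙 F) φ)) :=
  isIso_stalkFunctor_map _ U p hp
    (Groth.Agent.Helper28.TwistMul.isIso_restrict_map (𝟙 F) φ U (isIso_restrict_id F U) h)

variable {ι : Type} (L : ℤ → X.Modules) (x : ι → ∀ a : ℤ, L a ⟶ L (a + 1))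
  (hx : ∀ (i j : ι) (a : ℤ), x i a ≫ x j (a + 1) = x j a ≫ x i (a + 1))

/-- the system of twisting sheaves. -/
noncomputable def plainSys : KSys X.Modules ι := KSys.base L x hx

include hx in
theorem tens_comm (F : X.Modules) (i j : ι) (a : ℤ) :
    Tensor.map (𝟙 F) (x i a) ≫ Tensor.map (𝟙 F) (x j (a + 1)) =
      Tensor.map (𝟙 F) (x j a) ≫ Tensor.map (𝟙 F) (x i (a + 1)) := by
  rw [← Tensor.map_comp, ← Tensor.map_comp, hx]

/-- the system of twists of a module. -/
noncomputable def tensSys (F : X.Modules) : KSys X.Modules ι :=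
  KSys.base (fun a => CohB1.tensorMod F (L a))
    (fun i a => Tensor.map (𝟙 F) (x i a)) (tens_comm L x hx F)

variable (hloc : ∀ p : X, ∃ (i : ι) (U : X.Opens), p ∈ U ∧
    ∀ a : ℤ, IsIso ((Scheme.Modules.restrictFunctor U.ι).map (x i a)))
  (l : List ι) (hl : ∀ i, i ∈ l)

include hloc hl in
/-- the Koszul complex of twisting sheaves is exact. -/
theorem exactAt_plain (a m : ℤ) : (((plainSys L x hx).kos l).K a).ExactAt m := by
  rw [HomologicalComplex.exactAt_iff_isZero_homology]
  apply Groth.Agent.Helper5.StalkCx.isZero_homology_of_stalks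
  intro p
  obtain ⟨i0, U, hpU, hi0⟩ := hloc p
  have key := acyclic_kos_base (DerSch.stalkFunctor X p) L x hx i0
    (fun a => isIso_stalkFunctor_map (x i0 a) U p hpU (hi0 a)) l (hl i0) a m
  exact key.isZero_homology

include hloc hl in
/-- the Koszul complex of twists of a module is exact. -/
theorem exactAt_tens (F : X.Modules) (a m : ℤ) :
    (((tensSys L x hx F).kos l).K a).ExactAt m := by
  rw [HomologicalComplex.exactAt_iff_isZero_homology]
  apply Groth.Agent.Helper5.StalkCx.isZero_homology_of_stalks
  intro p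
  obtain ⟨i0, U, hpU, hi0⟩ := hloc p
  have key := acyclic_kos_base (DerSch.stalkFunctor X p)
    (fun a => CohB1.tensorMod F (L a))
    (fun i a => Tensor.map (𝟙 F) (x i a)) (tens_comm L x hx F) i0
    (fun a => isIso_stalkFunctor_map_tensor F (x i0 a) U p hpU (hi0 a)) l (hl i0) a m
  exact key.isZero_homology

end Abs

end Groth.Agent.Helper26.Kos
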