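import Mathlib
import Groth.Agent.Lib.Helper26.KosB
import Groth.Agent.Lib.Helper13.AcycEmbed
import Groth.Agent.Lib.Helper13.ToAbExact
import Groth.Agent.Lib.Helper9.AffStrat

set_option autoImplicit false
set_option linter.unusedSectionVars false
set_option linter.style.haveILetI false
set_option linter.unusedVariables false
universe u
open CategoryTheory CategoryTheory.Limits AlgebraicGeometry Opposite TopologicalSpace
open Groth.Agent.Helper13 Groth.Agent.Helper13.ToAbExact

namespace Groth.Agent.Helper26.Kos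

section Coh
variable {X : Scheme.{u}}

open Abelian in
/-- `H^p(X₂) = 0` and `H^{p+1}(X₁) = 0` give `H^p(X₃) = 0`. -/
theorem HH_sub_X₃ (S : ShortComplex X.Modules) (hS : S.ShortExact)
    (p : ℕ) (h2 : Subsingleton (Coh.HH X S.X₂ p)) (h1 : Subsingleton (Coh.HH X S.X₁ (p + 1))) :
    Subsingleton (Coh.HH X S.X₃ p) := by
  have hS' := toAb_shortExact S hS
  refine subsingleton_of_forall_eq 0 fun x₃ => ?_
  obtain ⟨x₂, hx₂⟩ := Ext.covariant_sequence_exact₃ _ hS' x₃ (n₁ := p + 1) rfl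
    (Subsingleton.elim (α := Coh.HH X S.X₁ (p + 1)) _ _)
  have h0 : x₂ = 0 := Subsingleton.elim (α := Coh.HH X S.X₂ p) x₂ 0
  rw [← hx₂, h0, Ext.zero_comp]
  rfl

theorem HH_sub_biprod (A B : X.Modules) (p : ℕ) (hA : Subsingleton (Coh.HH X A p))
    (hB : Subsingleton (Coh.HH X B p)) : Subsingleton (Coh.HH X (A ⊞ B) p) := by
  let S : ShortComplex X.Modules :=
    ShortComplex.mk (biprod.inl : A ⟶ A ⊞ B) (biprod.snd : A ⊞ B ⟶ B) (by simp)
  have hS : S.ShortExact := (ShortComplex.Splitting.ofHasBinaryBiproduct A B).shortExact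
  exact AcycEmbed.HH_subsingleton_of_shortExact S hS p hA hB

/-- vanishing of cohomology passes to finite sums of copies. -/
theorem HH_sub_copies (N : X.Modules) (p : ℕ) (hN : Subsingleton (Coh.HH X N p)) :
    ∀ (c : ℕ) (G : X.Modules), IsCopies G N c → Subsingleton (Coh.HH X G p) := by
  intro c
  induction c with
  | zero =>
    intro G hG
    exact AcycEmbed.subsingleton_HH_of_isZero G hG.isZero p
  | succ c ih =>
    intro G hG
    obtain ⟨e⟩ := hG
    obtain ⟨e1⟩ := IsCopies.one N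
    have e2 : G ≅ (∐ fun _ : Fin c => N) ⊞ N :=
      e ≪≫ (copiesAdd N c 1).symm ≪≫ biprod.mapIso (Iso.refl _) e1.symm
    refine Groth.Agent.Helper9.AffStrat.HH_subsingleton_of_iso e2 p ?_
    exact HH_sub_biprod _ _ p (ih _ ⟨Iso.refl _⟩) hN

end Coh

section Main
variable {X : Scheme.{u}} {ι : Type} (L : ℤ → X.Modules) (x : ι → ∀ a : ℤ, L a ⟶ L (a + 1))
  (hx : ∀ (i j : ι) (a : ℤ), x i a ≫ x j (a + 1) = x j a ≫ x i (a + 1))
  (hloc : ∀ p : X, ∃ (i : ι) (U : X.Opens), p ∈ U ∧
    ∀ a : ℤ, IsIso ((Scheme.Modules.restrictFunctor U.ι).map (x i a)))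
  (l : List ι) (hl : ∀ i, i ∈ l) (F : X.Modules)

/-- the Koszul complex of the twists of `F`. -/
noncomputable abbrev KF (a : ℤ) : CochainComplex X.Modules ℤ := ((tensSys L x hx F).kos l).K a

theorem isCopies_KF (a j : ℤ) (k : ℕ) (e : ℤ) (hj : j = -(k : ℤ)) (he : e = a + l.length - k) :
    IsCopies ((KF L x hx l F a).X j) (CohB1.tensorMod F (L e)) (l.length.choose k) :=
  isCopies_kos_X (fun a => CohB1.tensorMod F (L a))
    (fun i a => Tensor.map (𝟙 F) (x i a)) (tens_comm L x hx F) l a j k e hj he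

theorem isZero_KF_pos (a j : ℤ) (hj : 0 < j) : IsZero ((KF L x hx l F a).X j) :=
  isZero_kos_X_pos (fun a => CohB1.tensorMod F (L a))
    (fun i a => Tensor.map (𝟙 F) (x i a)) (tens_comm L x hx F) l a j hj

theorem isZero_KF_neg (a j : ℤ) (hj : j < -(l.length : ℤ)) : IsZero ((KF L x hx l F a).X j) := by
  have h := isCopies_KF L x hx l F a j (-j).toNat (a + l.length - (-j).toNat) (by omega) rfl
  rw [Nat.choose_eq_zero_of_lt (by omega)] at h
  exact h.isZero

include hloc hl in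
theorem koszul_cycles_vanishing (a : ℤ) (t j : ℕ)
    (hyp : ∀ k : ℕ, j ≤ k → Subsingleton (Coh.HH X
      (CohB1.tensorMod F (L (a + l.length - ((k : ℤ) + 1)))) (t + k))) :
    Subsingleton (Coh.HH X (Z (KF L x hx l F a) (-(j : ℤ))) (t + j)) := by
  refine devissage (fun s G => Subsingleton (Coh.HH X G s))
    (fun s G hG => AcycEmbed.subsingleton_HH_of_isZero G hG s)
    (fun S hS s h2 h1 => HH_sub_X₃ S hS s h2 h1)
    (KF L x hx l F a) (fun n => exactAt_tens L x hx hloc l hl F a n) l.length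
    (fun j hj => isZero_KF_neg L x hx l F a j hj) t (l.length + 1) j _ rfl (by omega) ?_
  intro k hk
  have h := isCopies_KF L x hx l F a (-((k : ℤ) + 1)) (k + 1)
    (a + l.length - ((k : ℤ) + 1)) (by push_cast; ring) (by push_cast; ring)
  exact HH_sub_copies _ _ (hyp k hk) _ _ h

include hx hloc hl in
/-- **Koszul vanishing**: if `H^{t+k}(F ⊗ L(e - (k+1))) = 0` for all `k` then `H^t(F ⊗ L(e)) = 0`. -/
theorem koszul_vanishing (e : ℤ) (t : ℕ)
    (hyp : ∀ k : ℕ, Subsingleton (Coh.HH X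
      (CohB1.tensorMod F (L (e - ((k : ℤ) + 1)))) (t + k))) :
    Subsingleton (Coh.HH X (CohB1.tensorMod F (L e)) t) := by
  have h0 := koszul_cycles_vanishing L x hx hloc l hl F (e - l.length) t 0 (fun k _ => by
    have := hyp k
    have e1 : e - ↑l.length + ↑l.length - ((k : ℤ) + 1) = e - ((k : ℤ) + 1) := by ring
    rwa [e1])
  have hz : IsZero ((KF L x hx l F (e - l.length)).X 1) :=
    isZero_KF_pos L x hx l F _ 1 (by omega)
  have e2 := ZzeroIso (KF L x hx l F (e - l.length)) hz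
  obtain ⟨e3⟩ := isCopies_KF L x hx l F (e - l.length) 0 0 e (by simp) (by push_cast; ring)
  obtain ⟨e4⟩ := IsCopies.one (CohB1.tensorMod F (L e))
  rw [Nat.choose_zero_right] at e3
  have e5 : CohB1.tensorMod F (L e) ≅ Z (KF L x hx l F (e - l.length)) (-((0 : ℕ) : ℤ)) :=
    e4 ≪≫ e3.symm ≪≫ e2.symm ≪≫ eqToIso (by simp)
  exact Groth.Agent.Helper9.AffStrat.HH_subsingleton_of_iso e5 t (by simpa using h0)

end Main

end Groth.Agent.Helper26.Kos
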