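import Mathlib
import Groth.Agent.Lib.Helper26.KosA

set_option autoImplicit false
set_option linter.unusedSectionVars false
set_option linter.style.haveILetI false
set_option linter.unusedVariables false
universe v u w
open CategoryTheory CategoryTheory.Limits CochainComplex HomComplex

namespace Groth.Agent.Helper26.Kos

section D1
variable {C : Type u} [Category.{v} C] [Abelian C]
  {K L : CochainComplex C ℤ} (φ : K ⟶ L)

/-- the last differential of a mapping cone. -/
theorem cone_d_last (h : IsZero (K.X 1)) :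
    (mappingCone φ).d (-1) 0 =
      (mappingCone.fst φ).1.v (-1) 0 (by lia) ≫ φ.f 0 ≫ (mappingCone.inr φ).f 0 +
        (mappingCone.snd φ).v (-1) (-1) (add_zero _) ≫ L.d (-1) 0 ≫ (mappingCone.inr φ).f 0 := by
  rw [mappingCone.ext_to_iff φ 0 1 (by lia)]
  constructor
  · exact h.eq_of_tgt _ _
  · rw [mappingCone.d_snd_v φ (-1) 0 (by lia)]
    simp

theorem inr_map {K₁ L₁ K₂ L₂ : CochainComplex C ℤ} (φ₁ : K₁ ⟶ L₁) (φ₂ : K₂ ⟶ L₂)
    (a : K₁ ⟶ K₂) (b : L₁ ⟶ L₂) (comm : φ₁ ≫ b = a ≫ φ₂) :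
    mappingCone.inr φ₁ ≫ mappingCone.map φ₁ φ₂ a b comm = b ≫ mappingCone.inr φ₂ := by
  simp [mappingCone.map]

theorem map_f_snd {K₁ L₁ K₂ L₂ : CochainComplex C ℤ} (φ₁ : K₁ ⟶ L₁) (φ₂ : K₂ ⟶ L₂)
    (a : K₁ ⟶ K₂) (b : L₁ ⟶ L₂) (comm : φ₁ ≫ b = a ≫ φ₂) (j : ℤ) :
    (mappingCone.map φ₁ φ₂ a b comm).f j ≫ (mappingCone.snd φ₂).v j j (add_zero j) =
      (mappingCone.snd φ₁).v j j (add_zero j) ≫ b.f j := by
  rw [map_f_eq]
  simp

end D1

section D2
variable {C : Type u} [Category.{v} C] [Abelian C] {ι : Type w} [Fintype ι] [DecidableEq ι]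

theorem d_factor_cone (S' : KSys C ι) (r : ι) (b : ℤ) (hz : IsZero ((S'.K (b + 1)).X 1))
    (u : ι → ((S'.K (b + 1 + 1)).X (-1) ⟶ (S'.K (b + 1)).X 0))
    (hu : (S'.K (b + 1 + 1)).d (-1) 0 = ∑ i, u i ≫ (S'.ξ i (b + 1)).f 0) :
    ∃ u' : ι → ((mappingCone (S'.ξ r (b + 1))).X (-1) ⟶ (mappingCone (S'.ξ r b)).X 0),
      (mappingCone (S'.ξ r (b + 1))).d (-1) 0 =
        ∑ i, u' i ≫ (mappingCone.map (S'.ξ r b) (S'.ξ r (b + 1)) (S'.ξ i b) (S'.ξ i (b + 1))
          (S'.comm r i b)).f 0 := by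
  have hd := cone_d_last (S'.ξ r (b + 1)) hz
  have hnat : ∀ i : ι, (mappingCone.inr (S'.ξ r b)).f 0 ≫
      (mappingCone.map (S'.ξ r b) (S'.ξ r (b + 1)) (S'.ξ i b) (S'.ξ i (b + 1))
        (S'.comm r i b)).f 0 =
      (S'.ξ i (b + 1)).f 0 ≫ (mappingCone.inr (S'.ξ r (b + 1))).f 0 := by
    intro i
    exact congr($(inr_map (S'.ξ r b) (S'.ξ r (b + 1)) (S'.ξ i b) (S'.ξ i (b + 1))
      (S'.comm r i b)).f 0)
  refine ⟨fun i => (mappingCone.snd (S'.ξ r (b + 1))).v (-1) (-1) (add_zero _) ≫ u i ≫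
      (mappingCone.inr (S'.ξ r b)).f 0 +
    (if i = r then (mappingCone.fst (S'.ξ r (b + 1))).1.v (-1) 0 (by lia) ≫
      (mappingCone.inr (S'.ξ r b)).f 0 else 0), ?_⟩
  beta_reduce
  rw [hd]
  have key : ∀ i : ι,
      ((mappingCone.snd (S'.ξ r (b + 1))).v (-1) (-1) (add_zero _) ≫ u i ≫
          (mappingCone.inr (S'.ξ r b)).f 0 +
        (if i = r then (mappingCone.fst (S'.ξ r (b + 1))).1.v (-1) 0 (by lia) ≫
          (mappingCone.inr (S'.ξ r b)).f 0 else 0)) ≫
        (mappingCone.map (S'.ξ r b) (S'.ξ r (b + 1)) (S'.ξ i b) (S'.ξ i (b + 1))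
          (S'.comm r i b)).f 0 =
      (mappingCone.snd (S'.ξ r (b + 1))).v (-1) (-1) (add_zero _) ≫
          (u i ≫ (S'.ξ i (b + 1)).f 0) ≫ (mappingCone.inr (S'.ξ r (b + 1))).f 0 +
        (if i = r then (mappingCone.fst (S'.ξ r (b + 1))).1.v (-1) 0 (by lia) ≫
          (S'.ξ r (b + 1)).f 0 ≫ (mappingCone.inr (S'.ξ r (b + 1))).f 0 else 0) := by
    intro i
    rw [Preadditive.add_comp]
    congr 1
    · simp only [Category.assoc, hnat]
    · split_ifs with hir
      · subst hir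
        simp only [Category.assoc, hnat]
      · simp
  rw [Finset.sum_congr rfl (fun i _ => key i), Finset.sum_add_distrib]
  refine (add_comm _ _).trans ?_
  congr 1
  · rw [hu, Preadditive.sum_comp, Preadditive.comp_sum]
  · rw [Finset.sum_ite_eq' Finset.univ r]
    simp

variable (M : ℤ → C) (x : ι → ∀ a : ℤ, M a ⟶ M (a + 1))
  (hx : ∀ (i j : ι) (a : ℤ), x i a ≫ x j (a + 1) = x j a ≫ x i (a + 1))

/-- the last differential of the Koszul complex factors through the multiplication maps. -/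
theorem d_factor : ∀ (l : List ι) (b : ℤ),
    ∃ u : ι → ((((KSys.base M x hx).kos l).K (b + 1)).X (-1) ⟶
        (((KSys.base M x hx).kos l).K b).X 0),
      (((KSys.base M x hx).kos l).K (b + 1)).d (-1) 0 =
        ∑ i, u i ≫ (((KSys.base M x hx).kos l).ξ i b).f 0
  | [], b => by
    refine ⟨fun _ => 0, ?_⟩
    have hz : IsZero ((((KSys.base M x hx).kos []).K (b + 1)).X (-1)) :=
      HomologicalComplex.isZero_single_obj_X _ _ _ _ (by decide)
    rw [hz.eq_of_src ((((KSys.base M x hx).kos []).K (b + 1)).d (-1) 0) 0]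
    simp
  | r :: l, b => by
    obtain ⟨u, hu⟩ := d_factor l (b + 1)
    exact d_factor_cone ((KSys.base M x hx).kos l) r b
      (isZero_kos_X_pos M x hx l (b + 1) 1 (by omega)) u hu

end D2

section D3
variable {C : Type u} [Category.{v} C] [Abelian C] {ι : Type w}

/-- degree zero of a cone whose source vanishes in degree one. -/
noncomputable def coneX0Iso {K L : CochainComplex C ℤ} (φ : K ⟶ L) (h : IsZero (K.X 1)) :
    (mappingCone φ).X 0 ≅ L.X 0 where
  hom := (mappingCone.snd φ).v 0 0 (add_zero 0)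
  inv := (mappingCone.inr φ).f 0
  hom_inv_id := by
    have h1 := mappingCone.id_X φ 0 1 (by lia)
    have h2 : (mappingCone.fst φ).1.v 0 1 (by lia) = 0 := h.eq_of_tgt _ _
    rw [h2, zero_comp, zero_add] at h1
    exact h1
  inv_hom_id := mappingCone.inr_f_snd_v φ 0

variable (M : ℤ → C) (x : ι → ∀ a : ℤ, M a ⟶ M (a + 1))
  (hx : ∀ (i j : ι) (a : ℤ), x i a ≫ x j (a + 1) = x j a ≫ x i (a + 1))

/-- the degree zero term of the Koszul complex. -/
noncomputable def θ : ∀ (l : List ι) (b e : ℤ), e = b + l.length →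
    ((((KSys.base M x hx).kos l).K b).X 0 ≅ M e)
  | [], b, e, he => HomologicalComplex.singleObjXSelf _ _ _ ≪≫ eqToIso (by rw [he]; simp)
  | r :: l, b, e, he =>
    coneX0Iso (((KSys.base M x hx).kos l).ξ r b) (isZero_kos_X_pos M x hx l b 1 (by omega)) ≪≫
      θ l (b + 1) e (by rw [he, List.length_cons]; push_cast; ring)

theorem θ_compat : ∀ (l : List ι) (b e : ℤ) (he : e = b + l.length)
    (he' : e + 1 = b + 1 + l.length) (i : ι),
    (((KSys.base M x hx).kos l).ξ i b).f 0 ≫ (θ M x hx l (b + 1) (e + 1) he').hom =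
      (θ M x hx l b e he).hom ≫ x i e
  | [], b, e, he, he', i => by
    have hb : e = b := by simpa using he
    subst hb
    change ((HomologicalComplex.single C (ComplexShape.up ℤ) 0).map (x i e)).f 0 ≫ _ = _
    rw [HomologicalComplex.single_map_f_self]
    change ((HomologicalComplex.singleObjXSelf (ComplexShape.up ℤ) 0 (M e)).hom ≫ x i e ≫
        (HomologicalComplex.singleObjXSelf (ComplexShape.up ℤ) 0 (M (e + 1))).inv) ≫
      ((HomologicalComplex.singleObjXSelf (ComplexShape.up ℤ) 0 (M (e + 1))).hom ≫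
        eqToHom rfl) =
      ((HomologicalComplex.singleObjXSelf (ComplexShape.up ℤ) 0 (M e)).hom ≫ eqToHom rfl) ≫ x i e
    simp
  | r :: l, b, e, he, he', i => by
    have ih := θ_compat l (b + 1) e (by rw [he, List.length_cons]; push_cast; ring)
      (by rw [he, List.length_cons]; push_cast; ring) i
    change (mappingCone.map (((KSys.base M x hx).kos l).ξ r b)
        (((KSys.base M x hx).kos l).ξ r (b + 1)) (((KSys.base M x hx).kos l).ξ i b)
        (((KSys.base M x hx).kos l).ξ i (b + 1)) (((KSys.base M x hx).kos l).comm r i b)).f 0 ≫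
      ((mappingCone.snd (((KSys.base M x hx).kos l).ξ r (b + 1))).v 0 0 (add_zero 0) ≫
        (θ M x hx l (b + 1 + 1) (e + 1) _).hom) =
      ((mappingCone.snd (((KSys.base M x hx).kos l).ξ r b)).v 0 0 (add_zero 0) ≫
        (θ M x hx l (b + 1) e _).hom) ≫ x i e
    rw [Category.assoc, ← ih, ← Category.assoc, map_f_snd, Category.assoc]

end D3

end Groth.Agent.Helper26.Kos
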