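import Mathlib
import Groth.Agent.Lib.Helper26.KosC
import Groth.Agent.Lib.Helper26.KosD

set_option autoImplicit false
set_option linter.unusedSectionVars false
set_option linter.style.haveILetI false
set_option linter.unusedVariables false
universe u
open CategoryTheory CategoryTheory.Limits AlgebraicGeometry Opposite TopologicalSpace
open Groth.Agent.Helper13 Groth.Agent.Helper13.ToAbExact

namespace Groth.Agent.Helper26.Kos

section Sec
variable {X : Scheme.{u}}

/-- evaluation of morphisms on sections, as an additive map. -/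
noncomputable def appHom (A B : X.Modules) (U : X.Opens) : (A ⟶ B) →+ (Γ(A, U) →+ Γ(B, U)) where
  toFun f := (f.app U).hom
  map_zero' := rfl
  map_add' _ _ := rfl

theorem sum_app {ι : Type} [Fintype ι] {A B : X.Modules} (f : ι → (A ⟶ B)) (U : X.Opens)
    (s : Γ(A, U)) : (∑ i, f i).app U s = ∑ i, (f i).app U s := by
  have h := map_sum (appHom A B U) f Finset.univ
  have h2 := congr($h s)
  rw [AddMonoidHom.finsetSum_apply] at h2
  exact h2

/-- naturality of `ηpre` on sections. -/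
theorem map_app_ηpre {M M' N N' : X.Modules} (f : M ⟶ M') (g : N ⟶ N') (U : X.Opens)
    (t : Tensor.Sec (CohB1.tensorPre M N) U) :
    (Tensor.map f g).app U ((Tensor.ηpre M N).app (op U) t) =
      (Tensor.ηpre M' N').app (op U) ((Tensor.preMap f g).app (op U) t) :=
  congr($(Tensor.η_naturality f g).app (op U) t)

/-- `(rid M).inv` sends `s` to `s ⊗ 1`. -/
theorem rid_inv_app (M : X.Modules) (U : X.Opens) (s : Γ(M, U)) :
    (Tensor.rid M).inv.app U s =
      Tensor.tmul M (Coh.structureModule X) s (show Γ(Coh.structureModule X, U) from (1 : Γ(X, U))) := by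
  have h := Tensor.rid_hom_app_tmul M s (show Γ(Coh.structureModule X, U) from (1 : Γ(X, U)))
  have h2 : (show Γ(X, U) from (show Γ(Coh.structureModule X, U) from (1 : Γ(X, U)))) • s = s :=
    one_smul _ s
  rw [h2] at h
  have h3 : (Tensor.rid M).inv.app U ((Tensor.rid M).hom.app U
      (Tensor.tmul M (Coh.structureModule X) s
        (show Γ(Coh.structureModule X, U) from (1 : Γ(X, U))))) =
      Tensor.tmul M (Coh.structureModule X) s
        (show Γ(Coh.structureModule X, U) from (1 : Γ(X, U))) := by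
    rw [← ConcreteCategory.comp_apply, ← Scheme.Modules.Hom.comp_app, Iso.hom_inv_id]
    rfl
  rw [h] at h3
  exact h3

/-- the multiplication map `Γ(M) ⊗ Γ(N) → Γ(M ⊗ N)` is surjective if `N` is trivial. -/
theorem mult_surjective_of_iso (M N : X.Modules) (z : Coh.structureModule X ≅ N) (U : X.Opens) :
    Function.Surjective ((Tensor.ηpre M N).app (op U)) := by
  intro σ
  let r : M ≅ CohB1.tensorMod M N := (Tensor.rid M).symm ≪≫ Tensor.mapIso (Iso.refl M) z
  have h1 : σ = r.hom.app U (r.inv.app U σ) := by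
    rw [← ConcreteCategory.comp_apply, ← Scheme.Modules.Hom.comp_app, Iso.inv_hom_id]
    rfl
  set s := r.inv.app U σ with hs
  have h2 : r.hom.app U s = (Tensor.map (𝟙 M) z.hom).app U ((Tensor.rid M).inv.app U s) := rfl
  rw [h2, rid_inv_app, Tensor.map_app_tmul] at h1
  exact ⟨_, h1.symm⟩

end Sec

section Span
variable {X : Scheme.{u}} {ι : Type} [Fintype ι] [DecidableEq ι]
  (L : ℤ → X.Modules) (x : ι → ∀ a : ℤ, L a ⟶ L (a + 1))
  (hx : ∀ (i j : ι) (a : ℤ), x i a ≫ x j (a + 1) = x j a ≫ x i (a + 1))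
  (hloc : ∀ p : X, ∃ (i : ι) (U : X.Opens), p ∈ U ∧
    ∀ a : ℤ, IsIso ((Scheme.Modules.restrictFunctor U.ι).map (x i a)))
  (l : List ι) (hl : ∀ i, i ∈ l) (F : X.Modules)

include hloc hl in
/-- surjectivity of the last Koszul differential on global sections. -/
theorem d_last_surjective (b : ℤ)
    (hyp : ∀ k : ℕ, 1 ≤ k → Subsingleton (Coh.HH X
      (CohB1.tensorMod F (L (b + 1 + l.length - ((k : ℤ) + 1)))) k)) :
    Function.Surjective (((KF L x hx l F (b + 1)).d (-1) 0).app ⊤) := by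
  set K := KF L x hx l F (b + 1) with hK
  have h1 : Subsingleton (Coh.HH X (Z K (-((1 : ℕ) : ℤ))) (0 + 1)) :=
    koszul_cycles_vanishing L x hx hloc l hl F (b + 1) 0 1 (fun k hk => by
      have := hyp k hk
      simpa using this)
  have hS := cyclesSC_shortExact K (-1) (exactAt_tens L x hx hloc l hl F (b + 1) _)
  have hsurj := app_top_surjective_of_H1 (cyclesSC K (-1)) hS h1
  have hz : IsZero (K.X 1) := isZero_KF_pos L x hx l F (b + 1) 1 (by omega)
  have hι : IsIso (kernel.ι (K.d (-1 + 1) (-1 + 1 + 1))) := by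
    have h0 : K.d (-1 + 1) (-1 + 1 + 1) = 0 := hz.eq_of_tgt _ _
    rw [h0]
    infer_instance
  have hd : K.d (-1) 0 = toZ K (-1) ≫ kernel.ι (K.d (-1 + 1) (-1 + 1 + 1)) := (toZ_ι K (-1)).symm
  intro τ
  obtain ⟨τ', hτ'⟩ : ∃ τ', (kernel.ι (K.d (-1 + 1) (-1 + 1 + 1))).app ⊤ τ' = τ := by
    refine ⟨(inv (kernel.ι (K.d (-1 + 1) (-1 + 1 + 1)))).app ⊤ τ, ?_⟩
    rw [← ConcreteCategory.comp_apply, ← Scheme.Modules.Hom.comp_app, IsIso.inv_hom_id]
    rfl
  obtain ⟨ρ, hρ⟩ := hsurj τ'
  refine ⟨ρ, ?_⟩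
  rw [hd, Scheme.Modules.Hom.comp_app]
  change (kernel.ι (K.d (-1 + 1) (-1 + 1 + 1))).app ⊤ ((toZ K (-1)).app ⊤ ρ) = τ
  rw [← hτ']
  congr 1

include hx hloc hl in
/-- every global section of `F ⊗ L (e+1)` is a sum of products of the `x i` with global sections
of `F ⊗ L e`, provided the Castelnuovo–Mumford type vanishing holds. -/
theorem sections_span (e : ℤ)
    (hyp : ∀ k : ℕ, 1 ≤ k → Subsingleton (Coh.HH X
      (CohB1.tensorMod F (L (e + 1 - ((k : ℤ) + 1)))) k))
    (τ : Γ(CohB1.tensorMod F (L (e + 1)), ⊤)) :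
    ∃ σ : ι → Γ(CohB1.tensorMod F (L e), ⊤),
      τ = ∑ i, (Tensor.map (𝟙 F) (x i e)).app ⊤ (σ i) := by
  obtain ⟨b, hb⟩ : ∃ b : ℤ, b = e - l.length := ⟨_, rfl⟩
  have he : e = b + l.length := by rw [hb]; ring
  have he' : e + 1 = b + 1 + l.length := by rw [hb]; ring
  obtain ⟨u, hu⟩ := d_factor (fun a => CohB1.tensorMod F (L a))
    (fun i a => Tensor.map (𝟙 F) (x i a)) (tens_comm L x hx F) l b
  have hsurj : Function.Surjective (((((KSys.base (fun a => CohB1.tensorMod F (L a))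
    (fun i a => Tensor.map (𝟙 F) (x i a)) (tens_comm L x hx F)).kos l).K (b + 1)).d (-1) 0).app ⊤) :=
    d_last_surjective L x hx hloc l hl F b (fun k hk => by
      have := hyp k hk
      have h2 : b + 1 + (l.length : ℤ) - ((k : ℤ) + 1) = e + 1 - ((k : ℤ) + 1) := by rw [hb]; ring
      rw [h2]; exact this)
  let θ' := θ (fun a => CohB1.tensorMod F (L a))
    (fun i a => Tensor.map (𝟙 F) (x i a)) (tens_comm L x hx F) l (b + 1) (e + 1) he'
  let θ₀ := θ (fun a => CohB1.tensorMod F (L a))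
    (fun i a => Tensor.map (𝟙 F) (x i a)) (tens_comm L x hx F) l b e he
  obtain ⟨ρ, hρ⟩ := hsurj (θ'.inv.app ⊤ τ)
  refine ⟨fun i => θ₀.hom.app ⊤ ((u i).app ⊤ ρ), ?_⟩
  have h1 : τ = θ'.hom.app ⊤ (θ'.inv.app ⊤ τ) := by
    rw [← ConcreteCategory.comp_apply, ← Scheme.Modules.Hom.comp_app, Iso.inv_hom_id]
    rfl
  rw [h1, ← hρ, hu, sum_app, map_sum]
  refine Finset.sum_congr rfl (fun i _ => ?_)
  have hc := θ_compat (fun a => CohB1.tensorMod F (L a))
    (fun i a => Tensor.map (𝟙 F) (x i a)) (tens_comm L x hx F) l b e he he' i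
  have hc2 := congr((Scheme.Modules.Hom.app $hc ⊤) ((u i).app ⊤ ρ))
  simp only [Scheme.Modules.Hom.comp_app, ConcreteCategory.comp_apply] at hc2 ⊢
  exact hc2

include hx hloc hl in
/-- inductive step for the surjectivity of the multiplication maps. -/
theorem mult_surjective_step (e : ℤ)
    (hyp : ∀ k : ℕ, 1 ≤ k → Subsingleton (Coh.HH X
      (CohB1.tensorMod F (L (e + 1 - ((k : ℤ) + 1)))) k))
    (hIH : Function.Surjective ((Tensor.ηpre F (L e)).app (op ⊤))) :
    Function.Surjective ((Tensor.ηpre F (L (e + 1))).app (op ⊤)) := by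
  intro τ
  obtain ⟨σ, hσ⟩ := sections_span L x hx hloc l hl F e hyp τ
  choose t ht using fun i => hIH (σ i)
  refine ⟨(∑ i, (show Tensor.Sec (CohB1.tensorPre F (L (e + 1))) ⊤ from
    (Tensor.preMap (𝟙 F) (x i e)).app (op ⊤) (t i)) : Tensor.Sec (CohB1.tensorPre F (L (e + 1))) ⊤), ?_⟩
  rw [map_sum, hσ]
  refine Finset.sum_congr rfl fun i _ => ?_
  rw [← ht i, map_app_ηpre]

end Span

end Groth.Agent.Helper26.Kos
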