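import Mathlib
import Groth.Agent.Lib.Helper26.KosC
import Groth.Agent.Lib.Helper26.PnTwist

set_option autoImplicit false
set_option linter.unusedSectionVars false
set_option linter.style.haveILetI false
set_option linter.unusedVariables false
universe u
open CategoryTheory CategoryTheory.Limits AlgebraicGeometry Opposite TopologicalSpace
open Groth.Agent.Helper28.TwistMul Groth.Agent.Helper13

namespace Groth.Agent.Helper26.Kos

section Pn
variable (n : ℕ) (R : Type u) [CommRing R]

theorem X_mem (i : Fin (n + 1)) :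
    (MvPolynomial.X i : MvPolynomial (Fin (n + 1)) R) ∈ CohB1.polyGrading n R 1 := by
  change MvPolynomial.X i ∈ MvPolynomial.homogeneousSubmodule (Fin (n + 1)) R 1
  rw [MvPolynomial.mem_homogeneousSubmodule]
  exact MvPolynomial.isHomogeneous_X R i

theorem hadd (a : ℤ) : a + 1 = a + ((1 : ℕ) : ℤ) := by push_cast; ring

/-- multiplication by the coordinate `X_i`, as a morphism `O(a) ⟶ O(a + 1)`. -/
noncomputable def xmul (i : Fin (n + 1)) (a : ℤ) :
    Twist.twistProjSpace n R a ⟶ Twist.twistProjSpace n R (a + 1) :=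
  mulHom (CohB1.polyGrading n R) (X_mem n R i) (hadd a)

theorem xmul_comm (i j : Fin (n + 1)) (a : ℤ) :
    xmul n R i a ≫ xmul n R j (a + 1) = xmul n R j a ≫ xmul n R i (a + 1) := by
  ext U s
  change mulSec (X_mem n R j) (hadd (a + 1)) (op U) (mulSec (X_mem n R i) (hadd a) (op U) s) =
    mulSec (X_mem n R i) (hadd (a + 1)) (op U) (mulSec (X_mem n R j) (hadd a) (op U) s)
  apply Subtype.ext
  funext x
  apply Subtype.ext
  exact mul_left_comm _ _ _

/-- projective space is covered by the `D_+(X_i)`. -/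
theorem hcovX (x : Proj (CohB1.polyGrading n R)) :
    ∃ j : Fin (n + 1), (MvPolynomial.X j : MvPolynomial (Fin (n + 1)) R) ∉
      x.asHomogeneousIdeal := by
  by_contra hcon
  push Not at hcon
  apply x.not_irrelevant_le
  rw [HomogeneousIdeal.irrelevant_le]
  intro i hi p hp
  have hp' : p ∈ MvPolynomial.homogeneousSubmodule (Fin (n + 1)) R i := hp
  rw [MvPolynomial.mem_homogeneousSubmodule] at hp'
  have hX : ∀ j : Fin (n + 1), (MvPolynomial.X j : MvPolynomial (Fin (n + 1)) R) ∈
      x.asHomogeneousIdeal.toIdeal := hcon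
  have hspan : Ideal.span ((MvPolynomial.X : Fin (n + 1) → MvPolynomial (Fin (n + 1)) R) ''
      Set.univ) ≤ x.asHomogeneousIdeal.toIdeal := by
    rw [Ideal.span_le]
    rintro _ ⟨j, -, rfl⟩
    exact hX j
  apply hspan
  rw [MvPolynomial.mem_ideal_span_X_image]
  intro m hm
  by_contra hall
  push Not at hall
  have hm0 : m = 0 := by
    ext j
    simpa using hall j (Set.mem_univ j)
  have hc : MvPolynomial.coeff m p ≠ 0 := MvPolynomial.mem_support_iff.1 hm
  have hdeg := hp' hc
  rw [hm0] at hdeg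
  simp at hdeg
  omega

theorem hloc (p : CohB1.ProjSpace n R) : ∃ (i : Fin (n + 1)) (U : (CohB1.ProjSpace n R).Opens),
    p ∈ U ∧ ∀ a : ℤ, IsIso ((Scheme.Modules.restrictFunctor U.ι).map (xmul n R i a)) := by
  obtain ⟨i, hi⟩ := hcovX n R p
  refine ⟨i, Proj.basicOpen (CohB1.polyGrading n R) (MvPolynomial.X i), ?_, fun a => ?_⟩
  · exact (Proj.mem_basicOpen (CohB1.polyGrading n R) _ _).mpr hi
  · exact isIso_restrict_mulHom (CohB1.polyGrading n R) (X_mem n R i) (hadd a) _ le_rfl

/-- **Koszul vanishing on projective space**. -/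
theorem koszul_vanishing_Pn (F : (CohB1.ProjSpace n R).Modules) (e : ℤ) (t : ℕ)
    (hyp : ∀ k : ℕ, Subsingleton (Coh.HH (CohB1.ProjSpace n R)
      (CohB1.tensorMod F (Twist.twistProjSpace n R (e - ((k : ℤ) + 1)))) (t + k))) :
    Subsingleton (Coh.HH (CohB1.ProjSpace n R)
      (CohB1.tensorMod F (Twist.twistProjSpace n R e)) t) :=
  koszul_vanishing (fun a => Twist.twistProjSpace n R a) (xmul n R) (xmul_comm n R) (hloc n R)
    (List.finRange (n + 1)) List.mem_finRange F e t hyp

end Pn

end Groth.Agent.Helper26.Kos
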