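import Mathlib
import Groth.Agent.Lib.Helper26.KosPn
import Groth.Agent.Lib.Helper26.PnReg3

set_option autoImplicit false
set_option linter.unusedSectionVars false
set_option linter.style.haveILetI false
set_option linter.unusedVariables false
universe u
open CategoryTheory CategoryTheory.Limits AlgebraicGeometry Opposite TopologicalSpace

namespace Groth.Agent.Helper26.Kos

section Reg
variable (n : ℕ) (R : Type u) [CommRing R]

/-- Mumford: regularity propagates (all cohomological degrees). -/
theorem mumford_all (F : (CohB1.ProjSpace n R).Modules) (m : ℤ)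
    (hreg : ∀ i : ℕ, 1 ≤ i → Subsingleton (Coh.HH (CohB1.ProjSpace n R)
      (CohB1.tensorMod F (Twist.twistProjSpace n R (m - i))) i)) :
    ∀ (d i : ℕ), 1 ≤ i → Subsingleton (Coh.HH (CohB1.ProjSpace n R)
      (CohB1.tensorMod F (Twist.twistProjSpace n R (m + d - i))) i) := by
  intro d
  induction d with
  | zero =>
    intro i hi
    have := hreg i hi
    simpa using this
  | succ d ih =>
    intro i hi
    apply koszul_vanishing_Pn n R F _ i
    intro k
    have h := ih (i + k) (by omega)
    have e1 : m + ((d + 1 : ℕ) : ℤ) - (i : ℤ) - ((k : ℤ) + 1) = m + (d : ℤ) - ((i + k : ℕ) : ℤ) := by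
      push_cast; ring
    rw [e1]
    exact h

theorem main3224 (k : Type u) [Field k] (n : ℕ)
    (F : (CohB1.ProjSpace n k).Modules) (m : ℤ)
    (hreg : ∀ i : ℕ, 1 ≤ i → Subsingleton (Coh.HH (CohB1.ProjSpace n k)
      (CohB1.tensorMod F (Twist.twistProjSpace n k (m - i))) i)) :
    ∀ (i : ℕ) (r : ℤ), 1 ≤ i → m - i ≤ r →
      Subsingleton (Coh.HH (CohB1.ProjSpace n k) (CohB1.tensorMod F (Twist.twistProjSpace n k r)) i) := by
  intro i r hi hr
  have h := mumford_all n k F m hreg (r - (m - i)).toNat i hi
  have e1 : m + (((r - (m - i)).toNat : ℕ) : ℤ) - (i : ℤ) = r := by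
    rw [Int.toNat_of_nonneg (by omega)]; ring
  rwa [e1] at h

theorem main1642 (k : Type u) [Field k] (n : ℕ) (F : (CohB1.ProjSpace n k).Modules)
    (hF : Coh.IsCoh F) (m : ℤ)
    (h : Curv2.IsMRegular k n F m) : Curv2.IsMRegular k n F (m + 1) := by
  have hreg : ∀ i : ℕ, 1 ≤ i → Subsingleton (Coh.HH (CohB1.ProjSpace n k)
      (CohB1.tensorMod F (Twist.twistProjSpace n k (m - i))) i) := by
    intro i hi
    by_cases hin : i ≤ n
    · exact h i hi hin
    · haveI := (Groth.Agent.Helper26.PnReg.isCoh_tensor_twist k n F hF (m - i)).1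
      exact Groth.Agent.Helper26.PnReg.HH_subsingleton_projSpace_of_lt k n _ i (by omega)
  intro i hi1 hin
  have h1 := mumford_all n k F m hreg 1 i hi1
  simpa using h1

end Reg

end Groth.Agent.Helper26.Kos
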