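import Mathlib
import Groth.Agent.Lib.Helper26.KosE
import Groth.Agent.Lib.Helper26.KosReg

set_option autoImplicit false
set_option linter.unusedSectionVars false
set_option linter.style.haveILetI false
set_option linter.unusedVariables false
universe u
open CategoryTheory CategoryTheory.Limits AlgebraicGeometry Opposite TopologicalSpace
open Groth.Agent.Helper13

namespace Groth.Agent.Helper26.Kos

section Mult
variable (k : Type u) [Field k] (n : ℕ)

/-- regularity in all positive degrees. -/
theorem hreg_all (F : (CohB1.ProjSpace n k).Modules) (hF : Coh.IsCoh F) (m : ℤ)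
    (h : Curv2.IsMRegular k n F m) :
    ∀ i : ℕ, 1 ≤ i → Subsingleton (Coh.HH (CohB1.ProjSpace n k)
      (CohB1.tensorMod F (Twist.twistProjSpace n k (m - i))) i) := by
  intro i hi
  by_cases hin : i ≤ n
  · exact h i hi hin
  · haveI := (Groth.Agent.Helper26.PnReg.isCoh_tensor_twist k n F hF (m - i)).1
    exact Groth.Agent.Helper26.PnReg.HH_subsingleton_projSpace_of_lt k n _ i (by omega)

/-- **Castelnuovo–Mumford**: surjectivity of the multiplication maps. -/
theorem mult_surjective_Pn (F : (CohB1.ProjSpace n k).Modules) (hF : Coh.IsCoh F) (m d : ℤ)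
    (hd : m ≤ d) (h : Curv2.IsMRegular k n F m) (e : ℕ) :
    Function.Surjective ((Tensor.ηpre (CohB1.tensorMod F (Twist.twistProjSpace n k d))
      (Twist.twistProjSpace n k (e : ℤ))).app (op ⊤)) := by
  induction e with
  | zero =>
    exact mult_surjective_of_iso _ _
      (Groth.Agent.Helper28.TwistMul.zeroIso (CohB1.polyGrading n k)) ⊤
  | succ e ih =>
    have hc : ((e + 1 : ℕ) : ℤ) = (e : ℤ) + 1 := by push_cast; ring
    rw [hc]
    refine mult_surjective_step (fun a => Twist.twistProjSpace n k a) (xmul n k) (xmul_comm n k)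
      (hloc n k) (List.finRange (n + 1)) List.mem_finRange
      (CohB1.tensorMod F (Twist.twistProjSpace n k d)) (e : ℤ) ?_ ih
    intro j hj
    obtain ⟨iso⟩ := Groth.Agent.Helper26.PnReg.twist_twist_iso k n F d ((e : ℤ) + 1 - ((j : ℤ) + 1))
    refine Groth.Agent.Helper9.AffStrat.HH_subsingleton_of_iso iso j ?_
    exact main3224 k n F m (hreg_all k n F hF m h) j _ hj (by omega)

theorem main19605 (F : (CohB1.ProjSpace n k).Modules) (hF : Coh.IsCoh F) (m d : ℤ) (hd : m ≤ d)
    (h : Curv2.IsMRegular k n F m) (e : ℕ) :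
    Function.Surjective
      ((toSheafify (Opens.grothendieckTopology (CohB1.ProjSpace n k))
        (CohB1.tensorPre (CohB1.tensorMod F (Twist.twistProjSpace n k d))
          (Twist.twistProjSpace n k (e : ℤ))).presheaf).app (Opposite.op ⊤)) :=
  mult_surjective_Pn k n F hF m d hd h e

theorem main11739 (F : (CohB1.ProjSpace n k).Modules) (hF : Coh.IsCoh F) (m : ℤ)
    (h : Curv2.IsMRegular k n F m) :
    Function.Surjective
      ((toSheafify (Opens.grothendieckTopology (CohB1.ProjSpace n k))
        (CohB1.tensorPre (CohB1.tensorMod F (Twist.twistProjSpace n k m))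
          (Twist.twistProjSpace n k 1)).presheaf).app (Opposite.op ⊤)) :=
  mult_surjective_Pn k n F hF m m le_rfl h 1

end Mult

end Groth.Agent.Helper26.Kos
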