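import Mathlib
import Groth.Prelude.Def_Coh
import Groth.Prelude.Def_Canon
import Groth.Agent.Lib.Helper13.DirImgFull
import Groth.Agent.Lib.Helper26.DualFun
import Groth.Agent.Lib.Helper26.PnH0

/-!
# Global sections of the sheaf Hom, morphisms, and the duality map
-/

set_option autoImplicit false
set_option maxHeartbeats 400000
set_option linter.unusedSectionVars false
set_option linter.unusedVariables false
universe u
open CategoryTheory CategoryTheory.Limits AlgebraicGeometry Opposite TopologicalSpace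
open RefHull Groth.Agent.Lead.HomSh Groth.Agent.Helper13.DirImgFull

namespace Groth.Agent.Helper26.HomGlob

variable {X : Scheme.{u}} {F G : X.Modules}

lemma stalkMapₗ_homOfSec (g : Γ(homSh F G, ⊤)) (y : X) :
    stalkMapₗ (homOfSec g) y = g.1 ⟨y, trivial⟩ := by
  apply LinearMap.ext
  intro v
  obtain ⟨U, hy, m, rfl⟩ := TopCat.Presheaf.exists_germ_eq F.presheaf v
  rw [stalkMapₗ_germ, germ_homOfSec]

lemma homOfSec_ofHom (φ : F ⟶ G) : homOfSec (ofHom φ ⊤) = φ := by
  apply Scheme.Modules.hom_ext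
  intro U
  ext m
  apply sec_ext' G
  intro y
  rw [germ_homOfSec]
  exact stalkMapₗ_germ φ y.1 y.2 m

lemma ofHom_homOfSec (g : Γ(homSh F G, ⊤)) : ofHom (homOfSec g) ⊤ = g :=
  sec_ext (fun y => stalkMapₗ_homOfSec g y.1)

lemma homOfSec_bijective :
    Function.Bijective (homOfSec : Γ(homSh F G, ⊤) → (F ⟶ G)) :=
  ⟨fun g h e => by rw [← ofHom_homOfSec g, e, ofHom_homOfSec], fun φ => ⟨_, homOfSec_ofHom φ⟩⟩

lemma homOfSec_add (g h : Γ(homSh F G, ⊤)) : homOfSec (g + h) = homOfSec g + homOfSec h := by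
  apply Scheme.Modules.hom_ext
  intro U
  ext m
  apply sec_ext' G
  intro y
  have e : ((homOfSec g + homOfSec h).app U) m = (homOfSec g).app U m + (homOfSec h).app U m := rfl
  rw [germ_homOfSec, e, map_add, germ_homOfSec, germ_homOfSec]
  rfl

/-- a global function, as an element of `Γ(X, ⊤)`. -/
abbrev toΓ (c : Coh.Γtop X) : Γ(X, ⊤) := c

/-- `H⁰` is global sections. -/
noncomputable def h0 (M : X.Modules) : Coh.HH X M 0 ≃+ Γ(M, ⊤) :=
  Sheaf.H.equiv₀ (Coh.toAb M) (isTerminalTop : IsTerminal (⊤ : Opens X))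

lemma h0_smul (M : X.Modules) (c : Coh.Γtop X) (x : Coh.HH X M 0) :
    h0 M (c • x) = toΓ c • h0 M x := by
  have h := Sheaf.H.equiv₀_naturality (Coh.smulAb M c)
    (hT := (isTerminalTop : IsTerminal (⊤ : Opens X))) x
  have h2 : h0 M (c • x) = (Coh.smulAb M c).hom.app (op ⊤) (h0 M x) := h.symm
  have h3 := Coh.smulAb_app M c (op ⊤) (h0 M x)
  have h6 := Groth.Agent.Helper26.PnCoh.resTop_top X c
  refine h2.trans (h3.trans ?_)
  exact congrArg (fun c' : Coh.Γtop X => toΓ c' • h0 M x) h6

lemma homOfSec_smul_app (c : Γ(X, ⊤)) (g : Γ(homSh F G, ⊤)) (U : X.Opens) (m : Γ(F, U)) :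
    (homOfSec (c • g)).app U m =
      X.presheaf.map (homOfLE (le_top : U ≤ ⊤)).op c • (homOfSec g).app U m := by
  apply sec_ext' G
  intro y
  rw [germ_homOfSec, smul_apply, LinearMap.smul_apply, ← germ_homOfSec g m y.1 y.2,
    Mero.germ_smul, TopCat.Presheaf.germ_res_apply]

/-- multiplication by a global function on a morphism into `G`: on abelian sheaves. -/
lemma toSheaf_map_homOfSec_smul (c : Coh.Γtop X) (g : Γ(homSh F G, ⊤)) :
    (SheafOfModules.toSheaf X.ringCatSheaf).map (homOfSec (toΓ c • g)) =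
      (SheafOfModules.toSheaf X.ringCatSheaf).map (homOfSec g) ≫ Coh.smulAb G c := by
  ext ⟨U⟩ m
  have h3 := Coh.smulAb_app G c (op U) ((homOfSec g).app U m)
  exact (homOfSec_smul_app (toΓ c) g U m).trans h3.symm

section Duality

variable (A : Type u) [CommRing A] [X.Over (Spec (CommRingCat.of A))] (r : ℕ) (ω : X.Modules)
  (tr : Coh.HH X ω r →ₗ[A] A) (F)

/-- the duality map on `H⁰` of the sheaf Hom, as a linear map. -/
noncomputable def Theta : Coh.HH X (homSh F ω) 0 →ₗ[A] Module.Dual A (Coh.HH X F r) where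
  toFun x := Canon.dualityMap A X r ω tr F (homOfSec (h0 _ x))
  map_add' x y := by
    rw [map_add, homOfSec_add]
    apply LinearMap.ext
    intro z
    change tr (Canon.HHlin A _ r z) = tr (Canon.HHlin A _ r z) + tr (Canon.HHlin A _ r z)
    rw [Groth.Agent.Helper26.DualFun.HHlin_add, LinearMap.add_apply, map_add]
  map_smul' a x := by
    apply LinearMap.ext
    intro z
    have e1 : h0 (homSh F ω) (a • x) =
        toΓ (Coh.toGlobal (X ↘ Spec (CommRingCat.of A)) a) • h0 _ x :=
      h0_smul _ _ x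
    change tr (Sheaf.H.map ((SheafOfModules.toSheaf X.ringCatSheaf).map
      (homOfSec (h0 (homSh F ω) (a • x)))) r z) = a • tr (Sheaf.H.map
        ((SheafOfModules.toSheaf X.ringCatSheaf).map (homOfSec (h0 (homSh F ω) x))) r z)
    rw [e1, toSheaf_map_homOfSec_smul, Sheaf.H.map_comp_apply, ← map_smul]
    rfl

lemma Theta_apply (x : Coh.HH X (homSh F ω) 0) :
    Theta F A r ω tr x = Canon.dualityMap A X r ω tr F (homOfSec (h0 _ x)) := rfl

theorem Theta_bijective (h : Function.Bijective (Canon.dualityMap A X r ω tr F)) :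
    Function.Bijective (Theta F A r ω tr) :=
  h.comp (homOfSec_bijective.comp (h0 _).bijective)

end Duality

end Groth.Agent.Helper26.HomGlob
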