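import Mathlib
import Groth.Prelude.Def_EGA4b

universe u

namespace Groth.Agent.Lib.Helper26.NormInt1

open Polynomial

/-- Local step: if `x` in the total ring of fractions is integral over the subalgebra `B`, and the
localization `L` of `B` at the prime `q` is an integrally closed domain, then some `v ∉ q` has
`v * x ∈ B`. -/
theorem exists_mul_mem (A : Type u) [CommRing A] (B : Subalgebra A (FractionRing A))
    (q : Ideal B) [q.IsPrime] (L : Type u) [CommRing L] [Algebra B L] [IsLocalization.AtPrime L q]
    [IsDomain L] [IsIntegrallyClosed L] (F : Type u) [Field F] [Algebra L F] [IsFractionRing L F]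
    (x : FractionRing A) (hx : IsIntegral B x) :
    ∃ v : B, v ∉ q ∧ (v : FractionRing A) * x ∈ B := by
  classical
  let g : B →+* F := (algebraMap L F).comp (algebraMap B L)
  have hgunit : ∀ s : nonZeroDivisors A, IsUnit (g (algebraMap A B s)) := by
    intro s
    have hsK : IsUnit (algebraMap A (FractionRing A) s) := IsLocalization.map_units _ s
    have hsB : algebraMap A B s ∈ nonZeroDivisors B := by
      rw [mem_nonZeroDivisors_iff_right]
      intro z hz
      have : (z : FractionRing A) * algebraMap A (FractionRing A) s = 0 := by
        have := congrArg (fun t : B => (t : FractionRing A)) hz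
        simpa using this
      have hz0 : (z : FractionRing A) = 0 := (hsK.mul_left_eq_zero).mp this
      exact Subtype.ext hz0
    have hsL : algebraMap B L (algebraMap A B s) ∈ nonZeroDivisors L :=
      IsLocalization.map_nonZeroDivisors_le q.primeCompl L ⟨_, hsB, rfl⟩
    have hne0 : algebraMap B L (algebraMap A B s) ≠ 0 := nonZeroDivisors.ne_zero hsL
    have : g (algebraMap A B s) ≠ 0 := by
      intro h0
      apply hne0
      exact (IsFractionRing.injective L F) (by rw [map_zero]; exact h0)
    exact isUnit_iff_ne_zero.mpr this
  let ψ : FractionRing A →+* F :=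
    IsLocalization.lift (M := nonZeroDivisors A) (g := g.comp (algebraMap A B)) hgunit
  have hψalg : ∀ a : A, ψ (algebraMap A (FractionRing A) a) = g (algebraMap A B a) := fun a =>
    IsLocalization.lift_eq _ a
  have hψB : ∀ b : B, ψ (b : FractionRing A) = g b := by
    intro b
    obtain ⟨⟨a, s⟩, has⟩ := IsLocalization.surj (nonZeroDivisors A) (b : FractionRing A)
    simp only at has
    have hB' : b * algebraMap A B s = algebraMap A B a := Subtype.ext (by simpa using has)
    have e1 : ψ (b : FractionRing A) * ψ (algebraMap A (FractionRing A) s)
        = ψ (algebraMap A (FractionRing A) a) := by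
      rw [← map_mul, has]
    have e2 : g b * g (algebraMap A B s) = g (algebraMap A B a) := by rw [← map_mul, hB']
    rw [hψalg, hψalg, ← e2] at e1
    exact (hgunit s).mul_left_injective e1
  -- integrality transfers
  obtain ⟨p, hpm, hp0⟩ := hx
  have hψx : IsIntegral L (ψ x) := by
    refine ⟨p.map (algebraMap B L), hpm.map _, ?_⟩
    rw [Polynomial.eval₂_map]
    have hcomp : (algebraMap L F).comp (algebraMap B L)
        = ψ.comp (algebraMap B (FractionRing A)) := by
      ext b
      exact (hψB b).symm
    rw [hcomp, ← Polynomial.hom_eval₂, hp0, map_zero]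
  obtain ⟨l, hl⟩ := (isIntegrallyClosed_iff F).mp inferInstance hψx
  obtain ⟨⟨b, t⟩, hbt⟩ := IsLocalization.surj q.primeCompl l
  simp only at hbt
  obtain ⟨⟨a, s⟩, has⟩ := IsLocalization.surj (nonZeroDivisors A) x
  simp only at has
  set β : B := t * algebraMap A B a - b * algebraMap A B s with hβ
  have hgβ : g β = 0 := by
    have e1 : ψ x * g (algebraMap A B s) = g (algebraMap A B a) := by
      rw [← hψalg, ← hψalg, ← map_mul, has]
    have e2 : algebraMap L F l * g (t : B) = g b := by
      change algebraMap L F l * algebraMap L F (algebraMap B L t) = algebraMap L F (algebraMap B L b)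
      rw [← map_mul, hbt]
    rw [hβ, map_sub, map_mul, map_mul, ← e1, ← e2, hl]
    ring
  have hLβ : algebraMap B L β = 0 :=
    (IsFractionRing.injective L F) (by rw [map_zero]; exact hgβ)
  obtain ⟨u, hu⟩ := (IsLocalization.map_eq_zero_iff q.primeCompl L β).mp hLβ
  -- in K
  have huK : ((u : B) : FractionRing A) * ((t : B) : FractionRing A) * x
      = ((u : B) : FractionRing A) * (b : FractionRing A) := by
    have h0 : ((u : B) : FractionRing A) * (((t : B) : FractionRing A) * algebraMap A (FractionRing A) a
        - (b : FractionRing A) * algebraMap A (FractionRing A) s) = 0 := by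
      have := congrArg (fun z : B => (z : FractionRing A)) hu
      simpa [hβ] using this
    have hsK : IsUnit (algebraMap A (FractionRing A) s) := IsLocalization.map_units _ s
    rw [← has] at h0
    have h1 : (((u : B) : FractionRing A) * ((t : B) : FractionRing A) * x
        - ((u : B) : FractionRing A) * (b : FractionRing A)) * algebraMap A (FractionRing A) s = 0 := by
      rw [← h0]; ring
    have h2 := (hsK.mul_left_eq_zero).mp h1
    exact sub_eq_zero.mp h2
  refine ⟨(u : B) * (t : B), ?_, ?_⟩
  · intro h
    rcases Ideal.IsPrime.mem_or_mem inferInstance h with h | h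
    · exact u.2 h
    · exact t.2 h
  · have : (((u : B) * (t : B) : B) : FractionRing A) * x = (((u : B) * b : B) : FractionRing A) := by
      push_cast; exact huK
    rw [this]; exact ((u : B) * b).2

set_option synthInstance.maxHeartbeats 400000 in
set_option maxHeartbeats 1000000 in
/-- A subalgebra of the total ring of fractions which is a normal ring contains every element of the
total ring of fractions integral over it. -/
theorem mem_of_isIntegral (A : Type u) [CommRing A] (B : Subalgebra A (FractionRing A))
    (hB : EGA4.IsNormalRing B) (x : FractionRing A) (hx : IsIntegral B x) : x ∈ B := by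
  classical
  -- conductor
  let c : Ideal B :=
    { carrier := {b | (b : FractionRing A) * x ∈ B}
      add_mem' := by
        intro b b' hb hb'
        simp only [Set.mem_ofPred_eq] at hb hb' ⊢
        have : ((b + b' : B) : FractionRing A) * x
            = (b : FractionRing A) * x + (b' : FractionRing A) * x := by push_cast; ring
        rw [this]; exact B.add_mem hb hb'
      zero_mem' := by
        simp only [Set.mem_ofPred_eq]
        have : ((0 : B) : FractionRing A) * x = 0 := by push_cast; ring
        rw [this]; exact B.zero_mem
      smul_mem' := by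
        intro r b hb
        simp only [Set.mem_ofPred_eq, smul_eq_mul] at hb ⊢
        have : ((r * b : B) : FractionRing A) * x
            = (r : FractionRing A) * ((b : FractionRing A) * x) := by push_cast; ring
        rw [this]; exact B.mul_mem r.2 hb }
  by_cases h1 : (1 : B) ∈ c
  · have : ((1 : B) : FractionRing A) * x ∈ B := h1
    rw [OneMemClass.coe_one, one_mul] at this
    exact this
  exfalso
  have hne : c ≠ ⊤ := fun h => h1 (h ▸ Submodule.mem_top)
  obtain ⟨q, hqmax, hcq⟩ := Ideal.exists_le_maximal c hne
  have hqp : q.IsPrime := hqmax.isPrime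
  obtain ⟨hdom, hic⟩ := hB q
  obtain ⟨v, hvq, hv⟩ := exists_mul_mem A B q (Localization.AtPrime q)
    (FractionRing (Localization.AtPrime q)) x hx
  exact hvq (hcq hv)

end Groth.Agent.Lib.Helper26.NormInt1
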