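import Mathlib

universe u

namespace Groth.Agent.Lib.Helper26.NormInt2

open Polynomial

variable {A : Type u} [CommRing A]

theorem eq_zero_of_forall_mem_minimalPrimes [IsReduced A] {y : A}
    (hy : ∀ p ∈ minimalPrimes A, y ∈ p) : y = 0 := by
  have h1 : y ∈ sInf (minimalPrimes A) := by
    rw [Ideal.mem_sInf]; intro p hp; exact hy p hp
  have h2 : sInf (minimalPrimes A) = (⊥ : Ideal A) := by
    have : sInf ((⊥ : Ideal A).minimalPrimes) = (⊥ : Ideal A).radical := Ideal.sInf_minimalPrimes
    rw [show (⊥ : Ideal A).radical = nilradical A from rfl, nilradical_eq_zero] at this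
    exact this
  rw [h2] at h1
  exact h1

theorem mem_nonZeroDivisors_of_forall_notMem [IsReduced A] {x : A}
    (hx : ∀ p ∈ minimalPrimes A, x ∉ p) : x ∈ nonZeroDivisors A := by
  rw [mem_nonZeroDivisors_iff_right]
  intro y hy
  apply eq_zero_of_forall_mem_minimalPrimes
  intro p hp
  have hpp : p.IsPrime := hp.1.1
  have : y * x ∈ p := by rw [hy]; exact p.zero_mem
  rcases hpp.mem_or_mem this with h | h
  · exact h
  · exact absurd h (hx p hp)

/-- The hypothesis: `A` is integrally closed in its total ring of fractions. -/
def IntClosedInTotal (A : Type u) [CommRing A] : Prop :=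
  ∀ x : FractionRing A, IsIntegral A x → ∃ a : A, algebraMap A (FractionRing A) a = x

/-- For a minimal prime `p` of a reduced ring with finitely many minimal primes, integrally closed in
its total ring of fractions, there is an idempotent `e` with `1 - e ∈ p`, lying in all the other
minimal primes. -/
theorem exists_idem [IsReduced A] (hfin : (minimalPrimes A).Finite) (hic : IntClosedInTotal A)
    (p : Ideal A) (hp : p ∈ minimalPrimes A) :
    ∃ e : A, e * e = e ∧ 1 - e ∈ p ∧ (∀ q ∈ minimalPrimes A, q ≠ p → e ∈ q) ∧
      ∀ y ∈ p, e * y = 0 := by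
  classical
  have hpp : p.IsPrime := hp.1.1
  set s : Finset (Ideal A) := hfin.toFinset.erase p with hs
  have hsmem : ∀ q, q ∈ s ↔ q ∈ minimalPrimes A ∧ q ≠ p := by
    intro q; rw [hs, Finset.mem_erase, Set.Finite.mem_toFinset]; tauto
  -- a
  have ha : ¬ (s.inf id ≤ p) := by
    rw [Ideal.IsPrime.inf_le' hpp]
    rintro ⟨q, hq, hqp⟩
    obtain ⟨hqm, hne⟩ := (hsmem q).mp hq
    apply hne
    exact le_antisymm hqp (hp.2 ⟨hqm.1.1, bot_le⟩ hqp)
  obtain ⟨a, has, hap⟩ := SetLike.not_le_iff_exists.mp ha
  have haq : ∀ q ∈ minimalPrimes A, q ≠ p → a ∈ q := by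
    intro q hq hne
    have : s.inf id ≤ id q := Finset.inf_le ((hsmem q).mpr ⟨hq, hne⟩)
    exact this has
  -- b
  have hb : ¬ ((p : Set A) ⊆ ⋃ i ∈ (↑s : Set (Ideal A)), (id i : Ideal A)) := by
    rw [Ideal.subset_union_prime (f := id) p p]
    · rintro ⟨q, hq, hpq⟩
      obtain ⟨hqm, hne⟩ := (hsmem q).mp hq
      apply hne
      exact le_antisymm (hqm.2 ⟨hpp, bot_le⟩ hpq) hpq
    · intro q hq _ _
      exact ((hsmem q).mp hq).1.1.1
  obtain ⟨b, hbp, hbs⟩ := Set.not_subset.mp hb
  have hbq : ∀ q ∈ minimalPrimes A, q ≠ p → b ∉ q := by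
    intro q hq hne hbq
    apply hbs
    simp only [Set.mem_iUnion]
    exact ⟨q, (Finset.mem_coe.mpr ((hsmem q).mpr ⟨hq, hne⟩)), hbq⟩
  -- a * b = 0
  have hab : a * b = 0 := by
    apply eq_zero_of_forall_mem_minimalPrimes
    intro q hq
    by_cases hqp : q = p
    · rw [hqp]; exact p.mul_mem_left _ hbp
    · exact q.mul_mem_right _ (haq q hq hqp)
  have hnzd : a + b ∈ nonZeroDivisors A := by
    apply mem_nonZeroDivisors_of_forall_notMem
    intro q hq hmem
    by_cases hqp : q = p
    · rw [hqp] at hmem
      apply hap
      have := p.sub_mem hmem hbp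
      simpa using this
    · apply hbq q hq hqp
      have := q.sub_mem hmem (haq q hq hqp)
      simpa using this
  -- e in K
  set eK : FractionRing A := IsLocalization.mk' (FractionRing A) a ⟨a + b, hnzd⟩ with heK
  have heK1 : eK * algebraMap A (FractionRing A) (a + b) = algebraMap A (FractionRing A) a :=
    IsLocalization.mk'_spec _ _ _
  have hunit : IsUnit (algebraMap A (FractionRing A) (a + b)) :=
    IsLocalization.map_units _ (⟨a + b, hnzd⟩ : nonZeroDivisors A)
  have hidem : eK * eK = eK := by
    have h1 : (eK * eK - eK) * (algebraMap A (FractionRing A) (a + b)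
        * algebraMap A (FractionRing A) (a + b)) = 0 := by
      have : (eK * eK - eK) * (algebraMap A (FractionRing A) (a + b)
          * algebraMap A (FractionRing A) (a + b))
          = (eK * algebraMap A (FractionRing A) (a + b)) * (eK * algebraMap A (FractionRing A) (a + b))
            - (eK * algebraMap A (FractionRing A) (a + b)) * algebraMap A (FractionRing A) (a + b) := by
        ring
      rw [this, heK1, ← map_mul, ← map_mul, ← map_sub]
      have : a * a - a * (a + b) = 0 := by
        have : a * a - a * (a + b) = - (a * b) := by ring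
        rw [this, hab, neg_zero]
      rw [this, map_zero]
    have h2 := ((hunit.mul hunit).mul_left_eq_zero).mp h1
    exact sub_eq_zero.mp h2
  have hint : IsIntegral A eK := by
    refine ⟨X ^ 2 - X, ?_, ?_⟩
    · apply Polynomial.monic_X_pow_sub
      exact lt_of_le_of_lt degree_X_le (by norm_num)
    · simp only [eval₂_sub, eval₂_X_pow, eval₂_X]
      rw [pow_two, hidem, sub_self]
  obtain ⟨e, he⟩ := hic eK hint
  have hinj : Function.Injective (algebraMap A (FractionRing A)) := IsFractionRing.injective _ _
  have hee : e * e = e := by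
    apply hinj
    rw [map_mul, he, hidem]
  have heab : e * (a + b) = a := by
    apply hinj
    rw [map_mul, he, heK1]
  have heb : e * b = 0 := by
    have : e * b * (a + b) = 0 := by
      have : e * b * (a + b) = b * (e * (a + b)) := by ring
      rw [this, heab, mul_comm, hab]
    exact (mem_nonZeroDivisors_iff_right.mp hnzd) _ this
  have hea : e * a = a := by
    have : e * (a + b) = e * a + e * b := by ring
    rw [this, heb, add_zero] at heab
    exact heab
  have hep : e ∉ p := by
    intro h
    apply hap
    rw [← hea]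
    exact p.mul_mem_right _ h
  have h1e : 1 - e ∈ p := by
    have : e * (1 - e) ∈ p := by
      have : e * (1 - e) = 0 := by
        have : e * (1 - e) = e - e * e := by ring
        rw [this, hee, sub_self]
      rw [this]; exact p.zero_mem
    rcases hpp.mem_or_mem this with h | h
    · exact absurd h hep
    · exact h
  have heq : ∀ q ∈ minimalPrimes A, q ≠ p → e ∈ q := by
    intro q hq hne
    have hqp : q.IsPrime := hq.1.1
    have : e * (1 - e) ∈ q := by
      have : e * (1 - e) = 0 := by
        have : e * (1 - e) = e - e * e := by ring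
        rw [this, hee, sub_self]
      rw [this]; exact q.zero_mem
    rcases hqp.mem_or_mem this with h | h
    · exact h
    · exfalso
      apply hbq q hq hne
      have : b = (1 - e) * b := by
        have : (1 - e) * b = b - e * b := by ring
        rw [this, heb, sub_zero]
      rw [this]
      exact q.mul_mem_right _ h
  refine ⟨e, hee, h1e, heq, ?_⟩
  intro y hy
  apply eq_zero_of_forall_mem_minimalPrimes
  intro q hq
  by_cases hqp : q = p
  · rw [hqp]; exact p.mul_mem_left _ hy
  · exact q.mul_mem_right _ (heq q hq hqp)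

end Groth.Agent.Lib.Helper26.NormInt2
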