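import Mathlib
import Groth.Agent.Lib.Helper26.NormInt2

universe u

namespace Groth.Agent.Lib.Helper26.NormInt3

open Polynomial Groth.Agent.Lib.Helper26.NormInt2

variable {A : Type u} [CommRing A]

/-- Evaluating at `E * w` for an idempotent `E`. -/
theorem eval₂_idem_mul {K : Type*} [CommRing K] (f : A →+* K) (E w : K) (hE : E * E = E)
    (P : A[X]) :
    P.eval₂ f (E * w) = (1 - E) * f (P.coeff 0) + E * P.eval₂ f w := by
  induction P using Polynomial.induction_on' with
  | add p q hp hq =>
    rw [eval₂_add, eval₂_add, hp, hq, coeff_add, map_add]; ring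
  | monomial n a =>
    rw [eval₂_monomial, eval₂_monomial, coeff_monomial]
    rcases Nat.eq_zero_or_pos n with hn | hn
    · subst hn
      simp only [pow_zero, mul_one, if_true]
      ring
    · have hEn : E ^ n = E := by
        obtain ⟨m, rfl⟩ : ∃ m, n = m + 1 := ⟨n - 1, by omega⟩
        clear hn
        induction m with
        | zero => simp
        | succ k ih => rw [pow_succ, ih, hE]
      rw [if_neg (by omega), map_zero, mul_zero, zero_add, mul_pow, hEn]
      ring

variable [IsReduced A]

/-- The quotient of `A` by a minimal prime is integrally closed. -/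
theorem isIntegrallyClosed_quotient (hfin : (minimalPrimes A).Finite) (hic : IntClosedInTotal A)
    (p : Ideal A) (hp : p ∈ minimalPrimes A) :
    haveI : p.IsPrime := hp.1.1
    IsIntegrallyClosed (A ⧸ p) := by
  classical
  have hpp : p.IsPrime := hp.1.1
  obtain ⟨e, hee, h1e, heq, hey⟩ := exists_idem hfin hic p hp
  have hep : e ∉ p := by
    intro h
    have : (1 - e) + e ∈ p := p.add_mem h1e h
    rw [sub_add_cancel] at this
    exact hpp.ne_top ((Ideal.eq_top_iff_one p).mpr this)
  have hnzd_notMem : ∀ s ∈ nonZeroDivisors A, s ∉ p := by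
    intro s hs hsp
    have h0 : e * s = 0 := hey s hsp
    have : e = 0 := (mem_nonZeroDivisors_iff_right.mp hs) e h0
    apply hep; rw [this]; exact p.zero_mem
  set D := A ⧸ p with hD
  set F := FractionRing D with hF
  let g : A →+* F := (algebraMap D F).comp (Ideal.Quotient.mk p)
  have hinjDF : Function.Injective (algebraMap D F) := IsFractionRing.injective D F
  have hg0 : ∀ a : A, g a = 0 ↔ a ∈ p := by
    intro a
    constructor
    · intro h
      have : (Ideal.Quotient.mk p) a = 0 := hinjDF (by rw [map_zero]; exact h)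
      exact Ideal.Quotient.eq_zero_iff_mem.mp this
    · intro h
      change algebraMap D F (Ideal.Quotient.mk p a) = 0
      rw [Ideal.Quotient.eq_zero_iff_mem.mpr h, map_zero]
  have hgunit : ∀ s : nonZeroDivisors A, IsUnit (g s) := by
    intro s
    apply isUnit_iff_ne_zero.mpr
    intro h
    exact hnzd_notMem s s.2 ((hg0 s).mp h)
  let θ : FractionRing A →+* F := IsLocalization.lift (M := nonZeroDivisors A) (g := g) hgunit
  have hθalg : ∀ a : A, θ (algebraMap A (FractionRing A) a) = g a := fun a =>
    IsLocalization.lift_eq _ a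
  have hge : g e = 1 := by
    have : g (1 - e) = 0 := (hg0 _).mpr h1e
    rw [map_sub, map_one, sub_eq_zero] at this
    exact this.symm
  -- kernel of θ is killed by e
  have hker : ∀ k : FractionRing A, θ k = 0 → algebraMap A (FractionRing A) e * k = 0 := by
    intro k hk
    obtain ⟨⟨a, s⟩, has⟩ := IsLocalization.surj (nonZeroDivisors A) k
    simp only at has
    have h1 : g a = 0 := by
      rw [← hθalg, ← has, map_mul, hk, zero_mul]
    have hap : a ∈ p := (hg0 a).mp h1
    have h2 : e * a = 0 := hey a hap
    have hsK : IsUnit (algebraMap A (FractionRing A) s) := IsLocalization.map_units _ s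
    have h3 : (algebraMap A (FractionRing A) e * k) * algebraMap A (FractionRing A) s = 0 := by
      rw [mul_assoc, has, ← map_mul, h2, map_zero]
    exact (hsK.mul_left_eq_zero).mp h3
  -- θ is surjective
  have hθsurj : Function.Surjective θ := by
    intro z
    obtain ⟨⟨xbar, ybar⟩, hxy⟩ := IsLocalization.surj (nonZeroDivisors D) z
    simp only at hxy
    obtain ⟨x, rfl⟩ := Ideal.Quotient.mk_surjective xbar
    obtain ⟨y, hy⟩ := Ideal.Quotient.mk_surjective (ybar : D)
    have hyp : y ∉ p := by
      intro h
      have : (ybar : D) = 0 := by rw [← hy]; exact Ideal.Quotient.eq_zero_iff_mem.mpr h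
      exact nonZeroDivisors.ne_zero ybar.2 this
    set d : A := e * y + (1 - e) with hd
    have hdnzd : d ∈ nonZeroDivisors A := by
      apply mem_nonZeroDivisors_of_forall_notMem
      intro q hq hdq
      by_cases hqp : q = p
      · rw [hqp] at hdq
        apply hyp
        have h1 : d - y = (1 - e) * (1 - y) := by rw [hd]; ring
        have h2 : d - y ∈ p := by rw [h1]; exact p.mul_mem_right _ h1e
        have := p.sub_mem hdq h2
        simpa using this
      · have hqprime : q.IsPrime := hq.1.1
        have h1 : d - 1 = e * (y - 1) := by rw [hd]; ring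
        have h2 : d - 1 ∈ q := by rw [h1]; exact q.mul_mem_right _ (heq q hq hqp)
        have := q.sub_mem hdq h2
        have h3 : (1 : A) ∈ q := by simpa using this
        exact hqprime.ne_top ((Ideal.eq_top_iff_one q).mpr h3)
    have hgd : g d = g y := by
      rw [hd, map_add, map_mul, hge, one_mul, (hg0 (1 - e)).mpr h1e, add_zero]
    refine ⟨IsLocalization.mk' (FractionRing A) x ⟨d, hdnzd⟩, ?_⟩
    have h1 : θ (IsLocalization.mk' (FractionRing A) x ⟨d, hdnzd⟩) * g d = g x := by
      rw [← hθalg, ← hθalg, ← map_mul]
      congr 1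
      exact IsLocalization.mk'_spec _ _ _
    have h2 : z * g y = g x := by
      change z * algebraMap D F (Ideal.Quotient.mk p y) = algebraMap D F (Ideal.Quotient.mk p x)
      rw [hy]; exact hxy
    rw [hgd, ← h2] at h1
    have hgy : IsUnit (g y) := by
      apply isUnit_iff_ne_zero.mpr
      intro h; exact hyp ((hg0 y).mp h)
    exact hgy.mul_left_injective h1
  -- main
  refine (isIntegrallyClosed_iff F).mpr ?_
  intro z hz
  obtain ⟨Pbar, hPm, hP0⟩ := hz
  obtain ⟨P, hPmap, hPdeg, hPmonic⟩ := Polynomial.lifts_and_natDegree_eq_and_monic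
    (Polynomial.mem_lifts_of_surjective (f := Ideal.Quotient.mk p) Ideal.Quotient.mk_surjective Pbar) hPm
  obtain ⟨w₀, hw₀⟩ := hθsurj z
  have hev : P.eval₂ g z = 0 := by
    change P.eval₂ ((algebraMap D F).comp (Ideal.Quotient.mk p)) z = 0
    rw [← Polynomial.eval₂_map, hPmap]; exact hP0
  have hgθ : g = θ.comp (algebraMap A (FractionRing A)) := by
    ext a; exact (hθalg a).symm
  have hθev : θ (P.eval₂ (algebraMap A (FractionRing A)) w₀) = 0 := by
    rw [Polynomial.hom_eval₂, ← hgθ, hw₀]; exact hev
  set E : FractionRing A := algebraMap A (FractionRing A) e with hE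
  have hEE : E * E = E := by rw [hE, ← map_mul, hee]
  have hEev : E * P.eval₂ (algebraMap A (FractionRing A)) w₀ = 0 := hker _ hθev
  -- degree of P positive
  have hdegpos : 0 < P.natDegree := by
    rcases Nat.eq_zero_or_pos P.natDegree with h | h
    · exfalso
      have hP1 : P = 1 := by
        have := Polynomial.eq_C_of_natDegree_eq_zero h
        rw [this]
        have hlc : P.leadingCoeff = 1 := hPmonic
        rw [Polynomial.leadingCoeff, h] at hlc
        rw [hlc, map_one]
      rw [hP1, eval₂_one] at hev
      exact one_ne_zero hev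
    · exact h
  have hnt : Nontrivial A := by
    refine nontrivial_of_ne (1 : A) 0 (fun h => hep ?_)
    have : e = 0 := by rw [← mul_one e, h, mul_zero]
    rw [this]; exact p.zero_mem
  set Q : A[X] := P - C ((1 - e) * P.coeff 0) with hQ
  have hQmonic : Q.Monic := by
    apply Polynomial.Monic.sub_of_left hPmonic
    refine lt_of_le_of_lt Polynomial.degree_C_le ?_
    rw [Polynomial.degree_eq_natDegree hPmonic.ne_zero]
    exact_mod_cast hdegpos
  have hQev : Q.eval₂ (algebraMap A (FractionRing A)) (E * w₀) = 0 := by
    rw [hQ, eval₂_sub, eval₂_C, eval₂_idem_mul _ E w₀ hEE, hEev, add_zero, map_mul, map_sub,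
      map_one, ← hE, sub_self]
  obtain ⟨a', ha'⟩ := hic (E * w₀) ⟨Q, hQmonic, hQev⟩
  refine ⟨Ideal.Quotient.mk p a', ?_⟩
  have : g a' = z := by
    rw [← hθalg, ha', map_mul, hw₀, hE, hθalg, hge, one_mul]
  exact this

end Groth.Agent.Lib.Helper26.NormInt3
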