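import Mathlib
import Groth.Prelude.Def_EGA4b
import Groth.Agent.Lib.Helper26.NormInt1
import Groth.Agent.Lib.Helper26.NormInt3

universe u

namespace Groth.Agent.Lib.Helper26.NormInt4

open Polynomial Groth.Agent.Lib.Helper26.NormInt2 Groth.Agent.Lib.Helper26.NormInt3

variable {A : Type u} [CommRing A] [IsReduced A]

/-- Localizations of `A` at primes are integrally closed domains. -/
theorem local_step (hfin : (minimalPrimes A).Finite) (hic : IntClosedInTotal A)
    (P : Ideal A) [P.IsPrime] (p : Ideal A) (hp : p ∈ minimalPrimes A) (hpP : p ≤ P)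
    (L : Type u) [CommRing L] [Algebra A L] [IsLocalization.AtPrime L P] :
    IsDomain L ∧ IsIntegrallyClosed L := by
  classical
  have hpp : p.IsPrime := hp.1.1
  obtain ⟨e, hee, h1e, heq, hey⟩ := exists_idem hfin hic p hp
  have heP : e ∉ P := by
    intro h
    have : (1 - e) + e ∈ P := P.add_mem (hpP h1e) h
    rw [sub_add_cancel] at this
    exact (inferInstance : P.IsPrime).ne_top ((Ideal.eq_top_iff_one P).mpr this)
  have hkill : ∀ a ∈ p, algebraMap A L a = 0 := by
    intro a ha
    rw [IsLocalization.map_eq_zero_iff P.primeCompl L a]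
    exact ⟨⟨e, heP⟩, hey a ha⟩
  have hIC : IsIntegrallyClosed (A ⧸ p) := isIntegrallyClosed_quotient hfin hic p hp
  let φ : (A ⧸ p) →+* L := Ideal.Quotient.lift p (algebraMap A L) hkill
  let _ : Algebra (A ⧸ p) L := φ.toAlgebra
  have hφ : ∀ a : A, algebraMap (A ⧸ p) L (Ideal.Quotient.mk p a) = algebraMap A L a := fun a =>
    Ideal.Quotient.lift_mk p _ _
  let M : Submonoid (A ⧸ p) := Submonoid.map (Ideal.Quotient.mk p) P.primeCompl
  have hM : M ≤ nonZeroDivisors (A ⧸ p) := by
    rintro _ ⟨s, hs, rfl⟩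
    apply mem_nonZeroDivisors_of_ne_zero
    intro h
    exact hs (hpP (Ideal.Quotient.eq_zero_iff_mem.mp h))
  have : IsLocalization M L := by
    refine ⟨?_, ?_, ?_⟩
    · rintro ⟨_, ⟨s, hs, rfl⟩⟩
      change IsUnit (algebraMap (A ⧸ p) L (Ideal.Quotient.mk p s))
      rw [hφ]
      exact IsLocalization.map_units L (⟨s, hs⟩ : P.primeCompl)
    · intro l
      obtain ⟨⟨x, s⟩, hxs⟩ := IsLocalization.surj P.primeCompl l
      simp only at hxs
      refine ⟨⟨Ideal.Quotient.mk p x, ⟨Ideal.Quotient.mk p s, ⟨s, s.2, rfl⟩⟩⟩, ?_⟩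
      simp only
      rw [hφ, hφ]; exact hxs
    · intro x y hxy
      obtain ⟨x', rfl⟩ := Ideal.Quotient.mk_surjective x
      obtain ⟨y', rfl⟩ := Ideal.Quotient.mk_surjective y
      rw [hφ, hφ] at hxy
      obtain ⟨c, hc⟩ := (IsLocalization.eq_iff_exists P.primeCompl L).mp hxy
      refine ⟨⟨Ideal.Quotient.mk p c, ⟨c, c.2, rfl⟩⟩, ?_⟩
      simp only
      rw [← map_mul, ← map_mul, hc]
  exact ⟨IsLocalization.isDomain_of_le_nonZeroDivisors L hM,
    isIntegrallyClosed_of_isLocalization L M hM⟩

/-- A reduced ring with finitely many minimal primes, integrally closed in its total ring of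
fractions, is a normal ring. -/
theorem isNormalRing_of_intClosedInTotal (hfin : (minimalPrimes A).Finite)
    (hic : IntClosedInTotal A) : EGA4.IsNormalRing A := by
  intro P hP
  obtain ⟨p, hp, hpP⟩ := Ideal.exists_minimalPrimes_le (I := ⊥) (J := P) bot_le
  exact local_step hfin hic P p hp hpP (Localization.AtPrime P)

theorem main (A : Type u) [CommRing A] [IsReduced A] (hfin : (minimalPrimes A).Finite)
    (S : Set (Subalgebra A (FractionRing A))) (hS : ∀ B ∈ S, EGA4.IsNormalRing B)
    (hinf : sInf S = ⊥) : EGA4.IsNormalRing A := by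
  apply isNormalRing_of_intClosedInTotal hfin
  intro x hx
  have hmem : x ∈ sInf S := by
    rw [Algebra.mem_sInf]
    intro B hB
    apply NormInt1.mem_of_isIntegral A B (hS B hB) x
    exact hx.tower_top
  rw [hinf] at hmem
  exact Algebra.mem_bot.mp hmem

end Groth.Agent.Lib.Helper26.NormInt4
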