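import Mathlib
import Groth.Prelude.Def_DerCA
import Groth.Agent.Lib.Helper14.CechContract

/-!
# Acyclicity tools for the extended Čech complex (helper26)
-/

set_option autoImplicit false
universe u

open CategoryTheory Limits

namespace Groth.Agent.Helper26.CechAcyc1

section General

variable {C : Type*} [Category C] [Abelian C]

/-- The mapping cocone of a morphism between acyclic complexes is acyclic. -/
theorem mappingCocone_exactAt {K L : CochainComplex C ℤ} (φ : K ⟶ L)
    (hK : ∀ n, K.ExactAt n) (hL : ∀ n, L.ExactAt n) (n : ℤ) :
    (CochainComplex.mappingCocone φ).ExactAt n := by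
  have hK' := (HomotopyCategory.quotient_obj_mem_subcategoryAcyclic_iff_exactAt K).2 hK
  have hL' := (HomotopyCategory.quotient_obj_mem_subcategoryAcyclic_iff_exactAt L).2 hL
  have hT := HomotopyCategory.mappingCone_triangleh_distinguished φ
  have h3 : HomotopyCategory.subcategoryAcyclic C
      ((HomotopyCategory.quotient C _).obj (CochainComplex.mappingCone φ)) :=
    (HomotopyCategory.subcategoryAcyclic C).ext_of_isTriangulatedClosed₃ _ hT hK' hL'
  have h4 := (HomotopyCategory.subcategoryAcyclic C).le_shift (-1 : ℤ) _ h3
  have e := ((HomotopyCategory.quotient C (ComplexShape.up ℤ)).commShiftIso (-1 : ℤ)).app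
    (CochainComplex.mappingCone φ)
  have h5 : HomotopyCategory.subcategoryAcyclic C
      ((HomotopyCategory.quotient C _).obj (CochainComplex.mappingCocone φ)) :=
    (HomotopyCategory.subcategoryAcyclic C).prop_of_iso e.symm h4
  exact (HomotopyCategory.quotient_obj_mem_subcategoryAcyclic_iff_exactAt _).1 h5 n

/-- A contractible complex is acyclic. -/
theorem exactAt_of_homotopy {K : CochainComplex C ℤ} (h : Nonempty (Homotopy (𝟙 K) 0)) (n : ℤ) :
    K.ExactAt n := by
  have h1 : IsZero ((HomotopyCategory.quotient C (ComplexShape.up ℤ)).obj K) :=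
    (HomotopyCategory.isZero_quotient_obj_iff _).2 h
  have h2 : HomotopyCategory.subcategoryAcyclic C
      ((HomotopyCategory.quotient C (ComplexShape.up ℤ)).obj K) :=
    (HomotopyCategory.subcategoryAcyclic C).prop_of_isZero h1
  exact (HomotopyCategory.quotient_obj_mem_subcategoryAcyclic_iff_exactAt _).1 h2 n

end General

end Groth.Agent.Helper26.CechAcyc1
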