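import Mathlib
import Groth.Prelude.Def_DerCA
import Groth.Agent.Lib.Helper26.CechAcyc1

/-!
# The extended Čech complex of a module on which some element acts bijectively (helper26)
-/

set_option autoImplicit false
universe u

open CategoryTheory Limits

namespace Groth.Agent.Helper26.CechAcyc2

open DerCA Groth.Agent.Helper26.CechAcyc1

variable {R : Type u} [CommRing R]

/-- `f` acts bijectively on the module `N`. -/
def BijOn (f : R) (N : ModuleCat.{u} R) : Prop := Function.Bijective (fun m : N => f • m)

theorem BijOn.of_iso {f : R} {N N' : ModuleCat.{u} R} (e : N ≅ N') (h : BijOn f N) : BijOn f N' := by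
  have h1 : (fun m : N' => f • m) = e.hom.hom ∘ (fun m : N => f • m) ∘ e.inv.hom := by
    funext m
    simp
  rw [BijOn, h1]
  have he : Function.Bijective e.hom.hom := (ConcreteCategory.isIso_iff_bijective e.hom).1 inferInstance
  have he' : Function.Bijective e.inv.hom := (ConcreteCategory.isIso_iff_bijective e.inv).1 inferInstance
  exact he.comp (h.comp he')

theorem BijOn.of_isZero {f : R} {N : ModuleCat.{u} R} (h : IsZero N) : BijOn f N := by
  have := ModuleCat.subsingleton_of_isZero h
  exact ⟨fun a b _ => Subsingleton.elim _ _, fun b => ⟨b, Subsingleton.elim _ _⟩⟩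

theorem BijOn.biprod {f : R} {N N' : ModuleCat.{u} R} (h : BijOn f N) (h' : BijOn f N') :
    BijOn f (N ⊞ N') := by
  refine BijOn.of_iso (ModuleCat.biprodIsoProd N N').symm ?_
  constructor
  · rintro ⟨a, b⟩ ⟨a', b'⟩ hab
    have h1 : f • a = f • a' := congrArg Prod.fst hab
    have h2 : f • b = f • b' := congrArg Prod.snd hab
    exact Prod.ext (h.1 h1) (h'.1 h2)
  · rintro ⟨a, b⟩
    obtain ⟨a', ha'⟩ := h.2 a
    obtain ⟨b', hb'⟩ := h'.2 b
    exact ⟨(a', b'), Prod.ext ha' hb'⟩

theorem BijOn.pow {f : R} {N : ModuleCat.{u} R} (h : BijOn f N) (n : ℕ) : BijOn (f ^ n) N := by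
  have := h.iterate n
  rw [smul_iterate] at this
  exact this

theorem bij_localized {f : R} {N : Type u} [AddCommGroup N] [Module R N]
    (h : Function.Bijective (fun m : N => f • m)) (S : Submonoid R) :
    Function.Bijective (fun x : LocalizedModule S N => f • x) := by
  constructor
  · intro x y hxy
    induction x using LocalizedModule.induction_on with
    | h m s =>
      induction y using LocalizedModule.induction_on with
      | h m' s' =>
        change f • LocalizedModule.mk m s = f • LocalizedModule.mk m' s' at hxy
        rw [LocalizedModule.smul'_mk, LocalizedModule.smul'_mk, LocalizedModule.mk_eq] at hxy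
        obtain ⟨u, hu⟩ := hxy
        rw [LocalizedModule.mk_eq]
        refine ⟨u, ?_⟩
        apply h.1
        change f • (u • s' • m) = f • (u • s • m')
        rw [Submonoid.smul_def, Submonoid.smul_def, Submonoid.smul_def, Submonoid.smul_def] at hu ⊢
        rw [smul_comm f, smul_comm f, hu, smul_comm _ f, smul_comm _ f]
  · intro y
    induction y using LocalizedModule.induction_on with
    | h m s =>
      obtain ⟨m', hm'⟩ := h.2 m
      refine ⟨LocalizedModule.mk m' s, ?_⟩
      change f • LocalizedModule.mk m' s = _
      rw [LocalizedModule.smul'_mk]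
      congr 1

theorem BijOn.localized {f : R} {N : ModuleCat.{u} R} (h : BijOn f N) (S : Submonoid R) :
    BijOn f ((locFunctor S).obj N) :=
  bij_localized (N := N) h S

/-- If `f` acts bijectively on `N`, the localisation map at the powers of `f` is bijective. -/
theorem mkLinearMap_bijective {f : R} {N : ModuleCat.{u} R} (h : BijOn f N) :
    Function.Bijective (LocalizedModule.mkLinearMap (Submonoid.powers f) N) := by
  have hunit : ∀ s : Submonoid.powers f, Function.Bijective (fun m : N => (s : R) • m) := by
    rintro ⟨_, n, rfl⟩
    exact h.pow n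
  constructor
  · intro m m' hmm
    rw [LocalizedModule.mkLinearMap_apply, LocalizedModule.mkLinearMap_apply,
      LocalizedModule.mk_eq] at hmm
    obtain ⟨u, hu⟩ := hmm
    simp only [one_smul] at hu
    rw [Submonoid.smul_def, Submonoid.smul_def] at hu
    exact (hunit u).1 hu
  · intro x
    induction x using LocalizedModule.induction_on with
    | h m s =>
      obtain ⟨m', hm'⟩ := (hunit s).2 m
      refine ⟨m', ?_⟩
      rw [LocalizedModule.mkLinearMap_apply, LocalizedModule.mk_eq]
      refine ⟨1, ?_⟩
      simp only [one_smul]
      rw [Submonoid.smul_def]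
      exact hm'

/-- If `f` acts bijectively on all terms of `K`, the localisation map `K ⟶ K_f` is an
isomorphism. -/
theorem isIso_locCxUnit {f : R} (K : DRing.Cx R) (h : ∀ n, BijOn f (K.X n)) :
    IsIso (locCxUnit (Submonoid.powers f) K) := by
  have : ∀ i, IsIso ((locCxUnit (Submonoid.powers f) K).f i) := by
    intro i
    rw [ConcreteCategory.isIso_iff_bijective]
    exact mkLinearMap_bijective (h i)
  exact HomologicalComplex.Hom.isIso_of_components _

/-- Termwise localisation preserves acyclicity. -/
theorem locCx_exactAt (S : Submonoid R) (K : DRing.Cx R) (hK : ∀ n, K.ExactAt n) (n : ℤ) :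
    ((locCx S).obj K).ExactAt n := by
  have h1 := hK n
  rw [HomologicalComplex.exactAt_iff' K (n - 1) n (n + 1) (by simp) (by simp),
    ShortComplex.ShortExact.moduleCat_exact_iff_function_exact] at h1
  rw [HomologicalComplex.exactAt_iff' _ (n - 1) n (n + 1) (by simp) (by simp),
    ShortComplex.ShortExact.moduleCat_exact_iff_function_exact]
  exact IsLocalizedModule.map_exact S (LocalizedModule.mkLinearMap S (K.X (n - 1)))
    (LocalizedModule.mkLinearMap S (K.X n)) (LocalizedModule.mkLinearMap S (K.X (n + 1)))
    (K.d (n - 1) n).hom (K.d n (n + 1)).hom h1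

end Groth.Agent.Helper26.CechAcyc2
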