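import Mathlib
import Groth.Prelude.Def_DerCA
import Groth.Agent.Lib.Helper26.CechAcyc2

/-!
# The extended Čech complex of a module on which some element acts bijectively is acyclic
(helper26)
-/

set_option autoImplicit false
universe u

open CategoryTheory Limits

namespace Groth.Agent.Helper26.CechAcyc3

open DerCA Groth.Agent.Helper26.CechAcyc1 Groth.Agent.Helper26.CechAcyc2

variable {R : Type u} [CommRing R]

/-- `f` acts bijectively on all terms of the extended Čech complex. -/
theorem bijOn_extCech {f : R} (M : ModuleCat.{u} R) (h : BijOn f M) :
    ∀ (fs : List R) (n : ℤ), BijOn f ((extCech M fs).X n)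
  | [], n => by
    by_cases hn : n = 0
    · subst hn
      exact BijOn.of_iso (HomologicalComplex.singleObjXSelf (ComplexShape.up ℤ) 0 M).symm h
    · exact BijOn.of_isZero (HomologicalComplex.isZero_single_obj_X (ComplexShape.up ℤ) 0 M n hn)
  | g :: fs, n => by
    refine BijOn.of_iso (mappingCoconeXIso
      (locCxUnit (Submonoid.powers g) (extCech M fs)) n).symm ?_
    exact BijOn.biprod (bijOn_extCech M h fs n)
      (BijOn.localized (bijOn_extCech M h fs (n - 1)) (Submonoid.powers g))

theorem extCech_exactAt {f : R} (M : ModuleCat.{u} R) (h : BijOn f M) :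
    ∀ (fs : List R), f ∈ fs → ∀ n : ℤ, (extCech M fs).ExactAt n
  | [], hf, n => by simp at hf
  | g :: fs, hf, n => by
    change (CochainComplex.mappingCocone (locCxUnit (Submonoid.powers g) (extCech M fs))).ExactAt n
    by_cases hg : g = f
    · subst hg
      have hiso := isIso_locCxUnit (f := g) (extCech M fs) (bijOn_extCech M h fs)
      apply exactAt_of_homotopy
      apply Groth.Agent.Helper14.mappingCocone_contractible
      infer_instance
    · have hf' : f ∈ fs := by
        rcases List.mem_cons.mp hf with rfl | h'
        · exact absurd rfl hg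
        · exact h'
      have ih := extCech_exactAt M h fs hf'
      exact mappingCocone_exactAt _ ih (locCx_exactAt _ _ ih) n

theorem main (fs : List R) (M : Type u) [AddCommGroup M] [Module R M] (f : R) (hf : f ∈ fs)
    (hu : Function.Bijective (fun m : M => f • m)) (q : ℤ) :
    IsZero (extCechH fs (ModuleCat.of R M) q) := by
  have h : BijOn f (ModuleCat.of R M) := hu
  have := extCech_exactAt (ModuleCat.of R M) h fs hf q
  rwa [HomologicalComplex.exactAt_iff_isZero_homology] at this

end Groth.Agent.Helper26.CechAcyc3
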