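import Mathlib

set_option autoImplicit false

open CategoryTheory CategoryTheory.Limits AlgebraicGeometry

namespace Groth.Agent.Helper26.FinPart

universe u

/-- For a closed map `h : T → Spec R` to the spectrum of a local ring, every point specializes to
a point over the closed point. -/
theorem exists_specializes_closedPoint (R : Type u) [CommRing R] [IsLocalRing R] {T : Scheme.{u}}
    (h : T ⟶ Spec (CommRingCat.of R)) (hcl : IsClosedMap h.base) (t : T) :
    ∃ t₀ : T, t ⤳ t₀ ∧ h.base t₀ = IsLocalRing.closedPoint R := by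
  have hC : IsClosed (h.base '' closure {t}) := hcl _ isClosed_closure
  have hmem : h.base t ∈ h.base '' closure {t} := ⟨t, subset_closure rfl, rfl⟩
  have hsp : (h.base t : PrimeSpectrum R) ⤳ IsLocalRing.closedPoint R :=
    IsLocalRing.specializes_closedPoint _
  obtain ⟨t₀, ht₀, ht₀'⟩ := hsp.mem_closed hC hmem
  exact ⟨t₀, specializes_iff_mem_closure.mpr ht₀, ht₀'⟩

/-- Functoriality of the finite part. -/
theorem functorial (R : Type u) [CommRing R] [IsLocalRing R]
    {X Y : Scheme.{u}} (f : X ⟶ Spec (CommRingCat.of R)) (f' : Y ⟶ Spec (CommRingCat.of R))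
    (WX : X.Opens) (hWXfin : IsFinite (WX.ι ≫ f))
    (WY : Y.Opens) (hWY : ∀ x : ↥Y, f'.base x = IsLocalRing.closedPoint R → x ∈ WY)
    (g : X ⟶ Y) (hg : g ≫ f' = f) (x : X) (hx : x ∈ WX) :
    g.base x ∈ WY := by
  obtain ⟨t₀, ht₀, ht₀'⟩ := exists_specializes_closedPoint R (WX.ι ≫ f)
    (WX.ι ≫ f).isClosedMap ⟨x, hx⟩
  have h1 : x ⤳ WX.ι.base t₀ := ht₀.map WX.ι.continuous
  have h2 : g.base x ⤳ g.base (WX.ι.base t₀) := h1.map g.continuous
  have h3 : g.base (WX.ι.base t₀) ∈ WY := by
    apply hWY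
    rw [← Scheme.Hom.comp_apply, hg]
    exact ht₀'
  exact h2.mem_open WY.isOpen h3

end Groth.Agent.Helper26.FinPart
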