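import Mathlib
import Groth.Agent.Lib.Helper1.HPIdem

/-!
# Integral algebras over a henselian local ring: the finite part of an open subset (helper26)
-/

set_option autoImplicit false

namespace Groth.Agent.Helper26.FinPartH1

open PrimeSpectrum IsLocalRing

universe u v

variable {R : Type u} [CommRing R] [HenselianLocalRing R] {B : Type v} [CommRing B] [Algebra R B]
  [Algebra.IsIntegral R B]

omit [HenselianLocalRing R] in
theorem map_le_of_isMaximal [IsLocalRing R] (𝔫 : Ideal B) [h𝔫 : 𝔫.IsMaximal] :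
    Ideal.map (algebraMap R B) (maximalIdeal R) ≤ 𝔫 := by
  rw [Ideal.map_le_iff_le_comap]
  have : (Ideal.comap (algebraMap R B) 𝔫).IsMaximal :=
    Ideal.isMaximal_comap_of_isIntegral_of_isMaximal (R := R) 𝔫
  exact (IsLocalRing.eq_maximalIdeal this).ge

omit [HenselianLocalRing R] in
theorem isMaximal_of_map_le [IsLocalRing R] (q : Ideal B) [hq : q.IsPrime]
    (h : Ideal.map (algebraMap R B) (maximalIdeal R) ≤ q) : q.IsMaximal := by
  rw [Ideal.map_le_iff_le_comap] at h
  have hne : Ideal.comap (algebraMap R B) q ≠ ⊤ := (Ideal.IsPrime.comap (algebraMap R B)).ne_top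
  have hmax : (Ideal.comap (algebraMap R B) q).IsMaximal := by
    have := (IsLocalRing.maximalIdeal.isMaximal R).eq_of_le hne h
    rw [← this]
    exact IsLocalRing.maximalIdeal.isMaximal R
  exact Ideal.isMaximal_of_isIntegral_of_isMaximal_comap q hmax

theorem exists_idem (U : Set (PrimeSpectrum B)) (hU : IsOpen U)
    (hfin : {q ∈ U | (maximalIdeal R).map (algebraMap R B) ≤ q.asIdeal}.Finite) :
    ∃ e : B, IsIdempotentElem e ∧ (basicOpen e : Set (PrimeSpectrum B)) ⊆ U ∧
      ∀ q ∈ U, (maximalIdeal R).map (algebraMap R B) ≤ q.asIdeal → q ∈ basicOpen e := by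
  set J := (maximalIdeal R).map (algebraMap R B) with hJ
  let mk : B →+* B ⧸ J := Ideal.Quotient.mk J
  have hmk : Function.Surjective mk := Ideal.Quotient.mk_surjective
  let ι : PrimeSpectrum (B ⧸ J) → PrimeSpectrum B := comap mk
  have hιc : Continuous ι := continuous_comap mk
  have hιinj : Function.Injective ι := comap_injective_of_surjective mk hmk
  have hrange : Set.range ι = zeroLocus (J : Set B) := by
    have := range_comap_of_surjective (B ⧸ J) mk hmk
    rw [Ideal.mk_ker] at this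
    exact this
  have hιJ : ∀ c, J ≤ (ι c).asIdeal := by
    intro c
    have : ι c ∈ zeroLocus (J : Set B) := hrange ▸ Set.mem_range_self c
    exact (mem_zeroLocus _ _).1 this
  -- the preimage of U
  have hSopen : IsOpen (ι ⁻¹' U) := hU.preimage hιc
  have hSfin : (ι ⁻¹' U).Finite := by
    have : ι ⁻¹' U = ι ⁻¹' {q ∈ U | J ≤ q.asIdeal} := by
      ext c
      simp only [Set.mem_preimage, Set.mem_ofPred_eq]
      exact ⟨fun h => ⟨h, hιJ c⟩, fun h => h.1⟩
    rw [this]
    exact hfin.preimage (hιinj.injOn)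
  have hclosedpt : ∀ c : PrimeSpectrum (B ⧸ J), IsClosed ({c} : Set (PrimeSpectrum (B ⧸ J))) := by
    intro c
    have h1 : (ι c).asIdeal.IsMaximal := isMaximal_of_map_le (R := R) _ (hιJ c)
    have h2 : IsClosed ({ι c} : Set (PrimeSpectrum B)) :=
      (isClosed_singleton_iff_isMaximal _).2 h1
    have h3 : ({c} : Set (PrimeSpectrum (B ⧸ J))) = ι ⁻¹' {ι c} := by
      ext c'
      simp only [Set.mem_singleton_iff, Set.mem_preimage]
      exact ⟨fun h => by rw [h], fun h => hιinj h⟩
    rw [h3]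
    exact h2.preimage hιc
  have hSclosed : IsClosed (ι ⁻¹' U) := by
    have : ι ⁻¹' U = ⋃ c ∈ ι ⁻¹' U, {c} := by
      ext c; simp
    rw [this]
    exact hSfin.isClosed_biUnion (fun c _ => hclosedpt c)
  obtain ⟨w, hw, hSw⟩ := PrimeSpectrum.isClopen_iff.1 (⟨hSclosed, hSopen⟩ : IsClopen (ι ⁻¹' U))
  have hG : Groth.Agent.Helper1.GabberProp R (maximalIdeal R) :=
    Groth.Agent.Helper1.gabberProp_of_henselianRing
  obtain ⟨e, he, hew⟩ := (Groth.Agent.Helper1.bijOn_isIdempotentElem_of_isIntegral hG B).surjOn hw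
  have hpre : ι ⁻¹' (basicOpen e : Set (PrimeSpectrum B)) = ι ⁻¹' U := by
    rw [hSw]
    ext c
    simp only [Set.mem_preimage, SetLike.mem_coe, mem_basicOpen]
    change ¬ (e ∈ Ideal.comap mk c.asIdeal) ↔ _
    rw [Ideal.mem_comap]
    change ¬ (Ideal.Quotient.mk J e ∈ c.asIdeal) ↔ _
    rw [hew]
  have hmemJ : ∀ q : PrimeSpectrum B, J ≤ q.asIdeal → ∃ c, ι c = q := by
    intro q hq
    have : q ∈ Set.range ι := by
      rw [hrange]; exact (mem_zeroLocus _ _).2 hq
    exact this
  refine ⟨e, he, ?_, ?_⟩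
  · intro q hq
    obtain ⟨𝔫, h𝔫, hle⟩ := Ideal.exists_le_maximal q.asIdeal q.2.ne_top
    have h1e : 1 - e ∈ q.asIdeal := by
      have h0 : e * (1 - e) ∈ q.asIdeal := by
        rw [mul_sub, mul_one, he.eq, sub_self]; exact q.asIdeal.zero_mem
      rcases q.2.mem_or_mem h0 with h | h
      · exact absurd h hq
      · exact h
    have hen : e ∉ 𝔫 := by
      intro h
      have : (1 : B) ∈ 𝔫 := by
        have := 𝔫.add_mem h (hle h1e)
        simpa using this
      exact h𝔫.ne_top ((Ideal.eq_top_iff_one _).2 this)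
    let n : PrimeSpectrum B := ⟨𝔫, h𝔫.isPrime⟩
    obtain ⟨c, hc⟩ := hmemJ n (map_le_of_isMaximal (R := R) 𝔫)
    have hcU : c ∈ ι ⁻¹' U := by
      rw [← hpre]
      change ι c ∈ basicOpen e
      rw [hc]
      exact hen
    have hnU : n ∈ U := hc ▸ hcU
    have hspec : q ⤳ n := (le_iff_specializes q n).1 hle
    exact hspec.mem_open hU hnU
  · intro q hqU hqJ
    obtain ⟨c, rfl⟩ := hmemJ q hqJ
    have : c ∈ ι ⁻¹' (basicOpen e : Set (PrimeSpectrum B)) := by
      rw [hpre]; exact hqU
    exact this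

end Groth.Agent.Helper26.FinPartH1
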