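import Mathlib
import Groth.Agent.Lib.Helper26.FinPartH1
import Groth.Agent.Lib.Helper26.FinPart1

/-!
# The finite part of a quasi-finite separated scheme over a henselian local ring (helper26)
-/

set_option autoImplicit false

open CategoryTheory CategoryTheory.Limits AlgebraicGeometry

namespace Groth.Agent.Helper26.FinPartH2

universe u

/-- the core existence statement once `f` is factored as an open immersion followed by the
spectrum of an integral ring map -/
theorem exists_of_factor (R : Type u) [CommRing R] [HenselianLocalRing R] {X : Scheme.{u}}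
    (f : X ⟶ Spec (CommRingCat.of R)) [LocallyOfFiniteType f]
    (hF : (f.base ⁻¹' {IsLocalRing.closedPoint R}).Finite)
    (B : CommRingCat.{u}) (ψ : CommRingCat.of R ⟶ B) (hψ : ψ.hom.IsIntegral)
    (j : X ⟶ Spec B) [IsOpenImmersion j] (hfac : j ≫ Spec.map ψ = f) :
    ∃ W : X.Opens, IsClosed (W : Set X) ∧ IsFinite (W.ι ≫ f) ∧
      ∀ x : X, f.base x = IsLocalRing.closedPoint R → x ∈ W := by
  algebraize [ψ.hom]
  have hint : Algebra.IsIntegral R B := by
    rw [← algebraMap_isIntegral_iff]
    exact hψ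
  let U : Set (PrimeSpectrum B) := Set.range j.base
  have hU : IsOpen U := j.isOpenEmbedding.isOpen_range
  -- points of the special fibre
  have hfib : ∀ x : X, (IsLocalRing.maximalIdeal R).map (algebraMap R B) ≤
      (j.base x : PrimeSpectrum B).asIdeal ↔ f.base x = IsLocalRing.closedPoint R := by
    intro x
    have hfx : f.base x = PrimeSpectrum.comap ψ.hom (j.base x) := by
      rw [← hfac]
      rfl
    rw [hfx, Ideal.map_le_iff_le_comap]
    constructor
    · intro h
      apply PrimeSpectrum.ext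
      have hne : Ideal.comap (algebraMap R B) (j.base x : PrimeSpectrum B).asIdeal ≠ ⊤ :=
        (PrimeSpectrum.comap (algebraMap R B) (j.base x)).2.ne_top
      exact ((IsLocalRing.maximalIdeal.isMaximal R).eq_of_le hne h).symm
    · intro h
      have := congrArg PrimeSpectrum.asIdeal h
      exact this.ge
  have hfin : {q ∈ U | (IsLocalRing.maximalIdeal R).map (algebraMap R B) ≤ q.asIdeal}.Finite := by
    refine (hF.image j.base).subset ?_
    rintro q ⟨⟨x, rfl⟩, hq⟩
    exact ⟨x, (hfib x).1 hq, rfl⟩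
  obtain ⟨e, he, hsub, hmem⟩ := Groth.Agent.Helper26.FinPartH1.exists_idem (R := R) U hU hfin
  have hclopen : IsClopen (PrimeSpectrum.basicOpen e : Set (PrimeSpectrum B)) :=
    PrimeSpectrum.isClopen_iff.2 ⟨e, he, rfl⟩
  let V : (Spec B).Opens := ⟨(PrimeSpectrum.basicOpen e : Set (PrimeSpectrum B)), hclopen.2⟩
  refine ⟨j ⁻¹ᵁ V, ?_, ?_, ?_⟩
  · exact hclopen.1.preimage j.continuous
  · -- finiteness
    have hrange : Set.range ((j ⁻¹ᵁ V).ι ≫ j).base =
        (PrimeSpectrum.basicOpen e : Set (PrimeSpectrum B)) := by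
      rw [Scheme.Hom.comp_base, TopCat.coe_comp, Set.range_comp, Scheme.Opens.range_ι]
      ext q
      constructor
      · rintro ⟨x, hx, rfl⟩
        exact hx
      · intro hq
        obtain ⟨x, rfl⟩ := hsub hq
        exact ⟨x, hq, rfl⟩
    have hci : IsClosedImmersion ((j ⁻¹ᵁ V).ι ≫ j) :=
      IsClosedImmersion.of_isPreimmersion _ (hrange ▸ hclopen.1)
    have hint2 : IsIntegralHom (Spec.map ψ) := IsIntegralHom.SpecMap_iff.2 hψ
    have heq : (j ⁻¹ᵁ V).ι ≫ f = ((j ⁻¹ᵁ V).ι ≫ j) ≫ Spec.map ψ := by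
      rw [Category.assoc, hfac]
    rw [IsFinite.iff_isIntegralHom_and_locallyOfFiniteType]
    refine ⟨?_, inferInstance⟩
    rw [heq]
    infer_instance
  · intro x hx
    exact hmem (j.base x) ⟨x, rfl⟩ ((hfib x).2 hx)

theorem main (R : Type u) [CommRing R] [HenselianLocalRing R] {X : Scheme.{u}}
    (f : X ⟶ Spec (CommRingCat.of R))
    [LocallyQuasiFinite f] [LocallyOfFiniteType f] [QuasiCompact f] [IsSeparated f] :
    ∃! W : X.Opens, IsClosed (W : Set X) ∧ IsFinite (W.ι ≫ f) ∧
      ∀ x : X, f.base x = IsLocalRing.closedPoint R → x ∈ W := by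
  have hF : (f.base ⁻¹' {IsLocalRing.closedPoint R}).Finite :=
    f.finite_preimage_singleton _
  have : IsAffine f.normalization := isAffine_of_isAffineHom f.fromNormalization
  let iso := f.normalization.isoSpec
  have hint : IsIntegralHom (iso.inv ≫ f.fromNormalization) := inferInstance
  obtain ⟨ψ, hψ⟩ := Spec.map_surjective (iso.inv ≫ f.fromNormalization)
  have hψint : ψ.hom.IsIntegral := by
    rw [← IsIntegralHom.SpecMap_iff, hψ]
    exact hint
  have hfac : (f.toNormalization ≫ iso.hom) ≫ Spec.map ψ = f := by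
    rw [hψ, Category.assoc, Iso.hom_inv_id_assoc, Scheme.Hom.toNormalization_fromNormalization]
  obtain ⟨W, hW1, hW2, hW3⟩ := exists_of_factor R f hF _ ψ hψint (f.toNormalization ≫ iso.hom) hfac
  refine ⟨W, ⟨hW1, hW2, hW3⟩, ?_⟩
  rintro W' ⟨hW'1, hW'2, hW'3⟩
  apply le_antisymm
  · intro x hx
    have := Groth.Agent.Helper26.FinPart.functorial R f f W' hW'2 W hW3 (𝟙 X) (Category.id_comp f) x hx
    simpa using this
  · intro x hx
    have := Groth.Agent.Helper26.FinPart.functorial R f f W hW2 W' hW'3 (𝟙 X) (Category.id_comp f) x hx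
    simpa using this

end Groth.Agent.Helper26.FinPartH2
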