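import Mathlib

set_option autoImplicit false

open CategoryTheory CategoryTheory.Limits AlgebraicGeometry

namespace Groth.Agent.Helper26.HensSec

universe u

set_option backward.isDefEq.respectTransparency false in
theorem isOpenImmersion_equalizer_ι_left {S : Scheme.{u}} {X Y : Over S}
    [IsOpenImmersion (pullback.diagonal Y.hom)]
    (f g : X ⟶ Y) : IsOpenImmersion (equalizer.ι f g).left := by
  refine MorphismProperty.of_isPullback (P := @IsOpenImmersion)
    ((Limits.isPullback_equalizer_prod f g).map (Over.forget _)).flip ?_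
  rw [← MorphismProperty.cancel_right_of_respectsIso @IsOpenImmersion _
    (Over.prodLeftIsoPullback Y Y).hom]
  convert! (inferInstance : IsOpenImmersion (pullback.diagonal Y.hom))
  ext1 <;> simp [← Over.comp_left]

theorem sec_unique (R : Type u) [CommRing R] [IsLocalRing R] {X : Scheme.{u}}
    (f : X ⟶ Spec (CommRingCat.of R)) [FormallyUnramified f] [LocallyOfFiniteType f]
    (s s' : Spec (CommRingCat.of R) ⟶ X)
    (hs : s ≫ f = s' ≫ f)
    (h : Spec.map (CommRingCat.ofHom (IsLocalRing.residue R)) ≫ s =
      Spec.map (CommRingCat.ofHom (IsLocalRing.residue R)) ≫ s') : s = s' := by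
  let r := Spec.map (CommRingCat.ofHom (IsLocalRing.residue R))
  let X' : Over (Spec (CommRingCat.of R)) := Over.mk (s ≫ f)
  let Y' : Over (Spec (CommRingCat.of R)) := Over.mk f
  let K' : Over (Spec (CommRingCat.of R)) := Over.mk (r ≫ s ≫ f)
  let a : X' ⟶ Y' := Over.homMk s rfl
  let b : X' ⟶ Y' := Over.homMk s' hs.symm
  let c : K' ⟶ X' := Over.homMk r rfl
  have hc : c ≫ a = c ≫ b := by
    ext1
    exact h
  have : IsOpenImmersion (pullback.diagonal Y'.hom) :=
    inferInstanceAs (IsOpenImmersion (pullback.diagonal f))
  have hopen : IsOpenImmersion (equalizer.ι a b).left := isOpenImmersion_equalizer_ι_left a b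
  let l : K' ⟶ equalizer a b := equalizer.lift c hc
  have hl : l.left ≫ (equalizer.ι a b).left = r := by
    rw [← Over.comp_left, equalizer.lift_ι]
    rfl
  have hmem : IsLocalRing.closedPoint R ∈ ((equalizer.ι a b).left.opensRange :
      TopologicalSpace.Opens (PrimeSpectrum R)) := by
    let pt : Spec (CommRingCat.of (IsLocalRing.ResidueField R)) := default
    refine ⟨l.left.base pt, ?_⟩
    rw [← Scheme.Hom.comp_apply, hl]
    exact IsLocalRing.PrimeSpectrum.comap_residue R pt
  have htop : (equalizer.ι a b).left.opensRange = ⊤ :=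
    (IsLocalRing.closedPoint_mem_iff _).mp hmem
  have hiso : IsIso (equalizer.ι a b).left :=
    isIso_of_isOpenImmersion_of_opensRange_eq_top _ htop
  have heq : (equalizer.ι a b).left ≫ s = (equalizer.ι a b).left ≫ s' := by
    have := congrArg (fun φ => φ.left) (equalizer.condition a b)
    exact this
  exact (cancel_epi _).mp heq

end Groth.Agent.Helper26.HensSec
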