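import Mathlib
import Groth.Agent.Lib.Helper19.Hartogs.Res
import Groth.Agent.Lib.Lead.Fib2
import Groth.Agent.Lib.Lead.Depth1
import Groth.Prelude.Def_Coh

set_option autoImplicit false
set_option linter.style.haveILetI false
universe u
open CategoryTheory AlgebraicGeometry Opposite

namespace Groth.Agent.Helper26.HomTildeRes

section Cat

variable {C D : Type*} [Category C] [Category D] {L : C ⥤ D} {Rt : D ⥤ C} (adj : L ⊣ Rt)

/-- `L.map φ` is the transpose of `φ ≫ η`. -/
lemma map_eq_homEquiv_symm {T O : C} (φ : T ⟶ O) :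
    L.map φ = (adj.homEquiv T (L.obj O)).symm (φ ≫ adj.unit.app O) := by
  rw [Adjunction.homEquiv_symm_apply, Functor.map_comp, Category.assoc,
    Adjunction.left_triangle_components, Category.comp_id]

lemma map_injective_iff (T O : C) :
    Function.Injective (fun φ : T ⟶ O => L.map φ) ↔
      Function.Injective (fun φ : T ⟶ O => φ ≫ adj.unit.app O) := by
  have : (fun φ : T ⟶ O => L.map φ) =
      (adj.homEquiv T (L.obj O)).symm ∘ (fun φ : T ⟶ O => φ ≫ adj.unit.app O) := by
    funext φ
    exact map_eq_homEquiv_symm adj φ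
  rw [this, Equiv.comp_injective]

lemma map_bijective_iff (T O : C) :
    Function.Bijective (fun φ : T ⟶ O => L.map φ) ↔
      Function.Bijective (fun φ : T ⟶ O => φ ≫ adj.unit.app O) := by
  have : (fun φ : T ⟶ O => L.map φ) =
      (adj.homEquiv T (L.obj O)).symm ∘ (fun φ : T ⟶ O => φ ≫ adj.unit.app O) := by
    funext φ
    exact map_eq_homEquiv_symm adj φ
  rw [this, Equiv.comp_bijective]

/-- postcomposition with `g` on `L'.obj M ⟶ -` is conjugate to postcomposition with `G.map g`. -/
lemma postcomp_conj {C' D' : Type*} [Category C'] [Category D'] {L' : C' ⥤ D'} {G : D' ⥤ C'}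
    (adj' : L' ⊣ G) (M : C') {O F : D'} (g : O ⟶ F) :
    (fun φ : L'.obj M ⟶ O => φ ≫ g) =
      (adj'.homEquiv M F).symm ∘ (fun ψ : M ⟶ G.obj O => ψ ≫ G.map g) ∘ (adj'.homEquiv M O) := by
  funext φ
  simp only [Function.comp_apply]
  rw [← Adjunction.homEquiv_naturality_right, Equiv.symm_apply_apply]

lemma postcomp_injective_of_mono {C' D' : Type*} [Category C'] [Category D'] {L' : C' ⥤ D'}
    {G : D' ⥤ C'} (adj' : L' ⊣ G) (M : C') {O F : D'} (g : O ⟶ F) [Mono (G.map g)] :
    Function.Injective (fun φ : L'.obj M ⟶ O => φ ≫ g) := by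
  rw [postcomp_conj adj' M g]
  refine (Equiv.injective _).comp (Function.Injective.comp ?_ (Equiv.injective _))
  intro a b hab
  exact (cancel_mono (G.map g)).1 hab

lemma postcomp_bijective_of_isIso {C' D' : Type*} [Category C'] [Category D'] {L' : C' ⥤ D'}
    {G : D' ⥤ C'} (adj' : L' ⊣ G) (M : C') {O F : D'} (g : O ⟶ F) [IsIso (G.map g)] :
    Function.Bijective (fun φ : L'.obj M ⟶ O => φ ≫ g) := by
  rw [postcomp_conj adj' M g]
  refine (Equiv.bijective _).comp (Function.Bijective.comp ?_ (Equiv.bijective _))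
  constructor
  · intro a b hab
    exact (cancel_mono (G.map g)).1 hab
  · intro b
    exact ⟨b ≫ inv (G.map g), by simp⟩

end Cat

section Alg

open Groth.Agent.Helper19.Hartogs IsLocalRing

/-- a Noetherian normal local domain of dimension at least two has a regular pair in its maximal
ideal. -/
theorem dep2_of_normal (A : Type u) [CommRing A] [IsLocalRing A] [IsNoetherianRing A] [IsDomain A]
    [IsIntegrallyClosed A] (h : (2 : ℕ∞) ≤ (maximalIdeal A).height) : Dep2 A := by
  have hSk := (Groth.Agent.Lead.Fib.normal_RS A).2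
  have hmin := Groth.Agent.Lead.Fib.hasSk_self_local 2 hSk
  have h3 : min ((2 : ℕ) : ℕ∞) (maximalIdeal A).height = 2 :=
    min_eq_left (by exact_mod_cast h)
  rw [h3] at hmin
  have htop : (maximalIdeal A) • (⊤ : Submodule A A) ≠ ⊤ := by
    intro hcon
    have h1 : (1 : A) ∈ (maximalIdeal A) • (⊤ : Submodule A A) := by rw [hcon]; trivial
    have h2 : (1 : A) ∈ maximalIdeal A := by
      refine Submodule.smul_induction_on h1 ?_ ?_
      · intro a ha b _
        exact (maximalIdeal A).mul_mem_right b ha
      · intro a b ha hb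
        exact (maximalIdeal A).add_mem ha hb
    exact (Ideal.ne_top_iff_one _).1 (maximalIdeal.isMaximal A).ne_top h2
  obtain ⟨rs, hlen, hreg, hmem⟩ :=
    Groth.Agent.Lead.Depth.exists_of_le_idealDepth (maximalIdeal A) A htop 2
      (by exact_mod_cast hmin)
  match rs, hlen, hreg, hmem with
  | [x, y], _, hreg, hmem =>
    exact dep2_of_isWeaklyRegular x y (hmem x (by simp)) (hmem y (by simp)) hreg

end Alg

section Geo

open Groth.Agent.Helper19.Hartogs IsLocalRing

variable (R : Type u) [CommRing R]

theorem dep2_stalk [IsNoetherianRing R] [IsDomain R] [IsIntegrallyClosed R]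
    (p : PrimeSpectrum R) (h : (2 : ℕ∞) ≤ p.asIdeal.height) :
    Dep2 ((Spec (CommRingCat.of R)).presheaf.stalk
      (show ↥(Spec (CommRingCat.of R)) from p)) := by
  letI k : Algebra R ((Spec (CommRingCat.of R)).presheaf.stalk p) :=
    StructureSheaf.stalkAlgebra R p
  haveI : IsLocalization.AtPrime ((Spec (CommRingCat.of R)).presheaf.stalk p) p.asIdeal :=
    StructureSheaf.IsLocalization.to_stalk R p
  let σ : Localization.AtPrime p.asIdeal ≃ₐ[R] (Spec (CommRingCat.of R)).presheaf.stalk p :=
    IsLocalization.algEquiv p.asIdeal.primeCompl _ _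
  haveI : IsDomain (Localization.AtPrime p.asIdeal) :=
    IsLocalization.isDomain_localization p.asIdeal.primeCompl_le_nonZeroDivisors
  haveI : IsIntegrallyClosed (Localization.AtPrime p.asIdeal) :=
    isIntegrallyClosed_of_isLocalization (Localization.AtPrime p.asIdeal) p.asIdeal.primeCompl
      p.asIdeal.primeCompl_le_nonZeroDivisors
  have hht : (2 : ℕ∞) ≤ (maximalIdeal (Localization.AtPrime p.asIdeal)).height := by
    have h1 := IsLocalization.AtPrime.ringKrullDim_eq_height p.asIdeal
      (Localization.AtPrime p.asIdeal)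
    rw [← IsLocalRing.maximalIdeal_height_eq_ringKrullDim] at h1
    rw [WithBot.coe_eq_coe.1 h1]
    exact h
  exact (dep2_of_normal (Localization.AtPrime p.asIdeal) hht).of_ringEquiv σ.toRingEquiv

theorem bijective_res [IsNoetherianRing R] [IsDomain R] [IsIntegrallyClosed R]
    (U : (Spec (CommRingCat.of R)).Opens)
    (h : ∀ p : PrimeSpectrum R, p ∉ U → (2 : ℕ∞) ≤ p.asIdeal.height) :
    Function.Bijective
      ((Spec (CommRingCat.of R)).presheaf.map (homOfLE (le_top : U ≤ ⊤)).op).hom := by
  haveI : TopologicalSpace.NoetherianSpace (Spec (CommRingCat.of R)) :=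
    inferInstanceAs (TopologicalSpace.NoetherianSpace (PrimeSpectrum R))
  refine Groth.Agent.Helper19.Hartogs.bijective_res (isAffineOpen_top _) U le_top
    (TopologicalSpace.NoetherianSpace.isCompact _) ?_
  intro z _ hz
  exact dep2_stalk R z (h z hz)

variable (M : ModuleCat.{u} (CommRingCat.of R)) (U : (Spec (CommRingCat.of R)).Opens)

lemma image_preimage_top : U.ι ''ᵁ (U.ι ⁻¹ᵁ ⊤) = U := by simp

lemma le1 : U.ι ''ᵁ (U.ι ⁻¹ᵁ ⊤) ≤ ⊤ := le_top

lemma inj_transfer {W : (Spec (CommRingCat.of R)).Opens} (h : W = U) (hW : W ≤ ⊤)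
    (hinj : Function.Injective
      ((Spec (CommRingCat.of R)).presheaf.map (homOfLE (le_top : U ≤ ⊤)).op)) :
    Function.Injective ((Spec (CommRingCat.of R)).presheaf.map (homOfLE hW).op) := by
  subst h
  exact hinj

lemma bij_transfer {W : (Spec (CommRingCat.of R)).Opens} (h : W = U) (hW : W ≤ ⊤)
    (hinj : Function.Bijective
      ((Spec (CommRingCat.of R)).presheaf.map (homOfLE (le_top : U ≤ ⊤)).op).hom) :
    Function.Bijective ((Spec (CommRingCat.of R)).presheaf.map (homOfLE hW).op).hom := by
  subst h
  exact hinj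

theorem part1 (hinj : Function.Injective
      ((Spec (CommRingCat.of R)).presheaf.map (homOfLE (le_top : U ≤ ⊤)).op)) :
    Function.Injective (fun φ : AlgebraicGeometry.tilde M ⟶
        Coh.structureModule (Spec (CommRingCat.of R)) =>
      (Scheme.Modules.restrictFunctor U.ι).map φ) := by
  rw [map_injective_iff (Scheme.Modules.restrictAdjunction U.ι)]
  haveI : Mono ((moduleSpecΓFunctor (R := CommRingCat.of R)).map
      ((Scheme.Modules.restrictAdjunction U.ι).unit.app
        (Coh.structureModule (Spec (CommRingCat.of R))))) := by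
    rw [ModuleCat.mono_iff_injective]
    exact inj_transfer R U (image_preimage_top R U) (le1 R U) hinj
  exact postcomp_injective_of_mono (tilde.adjunction (R := CommRingCat.of R)) M _

theorem part2 (hbij : Function.Bijective
      ((Spec (CommRingCat.of R)).presheaf.map (homOfLE (le_top : U ≤ ⊤)).op).hom) :
    Function.Bijective (fun φ : AlgebraicGeometry.tilde M ⟶
        Coh.structureModule (Spec (CommRingCat.of R)) =>
      (Scheme.Modules.restrictFunctor U.ι).map φ) := by
  rw [map_bijective_iff (Scheme.Modules.restrictAdjunction U.ι)]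
  haveI : IsIso ((moduleSpecΓFunctor (R := CommRingCat.of R)).map
      ((Scheme.Modules.restrictAdjunction U.ι).unit.app
        (Coh.structureModule (Spec (CommRingCat.of R))))) := by
    rw [ConcreteCategory.isIso_iff_bijective]
    exact bij_transfer R U (image_preimage_top R U) (le1 R U) hbij
  exact postcomp_bijective_of_isIso (tilde.adjunction (R := CommRingCat.of R)) M _

theorem main [IsNoetherianRing R] :
    (Function.Injective ((Spec (CommRingCat.of R)).presheaf.map (homOfLE (le_top : U ≤ ⊤)).op) →
      Function.Injective (fun φ : AlgebraicGeometry.tilde M ⟶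
          Coh.structureModule (Spec (CommRingCat.of R)) =>
        (Scheme.Modules.restrictFunctor U.ι).map φ)) ∧
    (IsDomain R → IsIntegrallyClosed R →
      (∀ p : PrimeSpectrum R, p ∉ U → (2 : ℕ∞) ≤ p.asIdeal.height) →
      Function.Bijective (fun φ : AlgebraicGeometry.tilde M ⟶
          Coh.structureModule (Spec (CommRingCat.of R)) =>
        (Scheme.Modules.restrictFunctor U.ι).map φ)) := by
  refine ⟨part1 R M U, ?_⟩
  intro h1 h2 h3
  exact part2 R M U (bijective_res R U h3)

end Geo

end Groth.Agent.Helper26.HomTildeRes
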