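import Mathlib
import Groth.Agent.Lib.Helper26.BaerStep
import Groth.Agent.Lib.Helper5.SkyMod2
import Groth.Agent.Lib.Helper13.EpiGen
import Groth.Agent.Lib.Helper9.SuppD2
import Groth.Agent.Lib.Helper17.IR1
import Groth.Agent.Lib.Helper29.LRAdj

set_option autoImplicit false
set_option linter.style.haveILetI false
set_option linter.unusedSectionVars false

universe u

open CategoryTheory CategoryTheory.Limits AlgebraicGeometry Opposite TopologicalSpace ZeroObject

namespace Groth.Agent.Helper26.LocInj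

open Groth.Agent.Helper13.QCoh Groth.Agent.Helper5

variable {X : Scheme.{u}} (U : X.Opens)

/-- stalks of `j_! M` vanish outside `U`. -/
theorem subsingleton_stalk_extZero (M : (U : Scheme.{u}).Modules) (x : X) (hx : x ∉ U) :
    Subsingleton (((CxOX.extZero U.ι).obj M).presheaf.stalk x) := by
  obtain ⟨N, hN⟩ : ∃ N : X.Modules, N = (CxOX.extZero U.ι).obj M := ⟨_, rfl⟩
  rw [← hN]
  have hT : IsZero ((Scheme.Modules.restrictFunctor U.ι).obj (Sky.sky x (Sky.St x N))) := by
    rw [isZero_iff_sections]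
    intro V
    refine ⟨fun a b => ?_⟩
    funext h
    exact absurd (U.ι_image_le V h.down) hx
  have hzero : Sky.unitHom x N = 0 := by
    subst hN
    apply ((CxOX.extZeroAdj U.ι).homEquiv M (Sky.sky x (Sky.St x _))).injective
    exact hT.eq_of_tgt _ _
  have h0 : ∀ a : N.presheaf.stalk x, a = 0 := by
    intro a
    obtain ⟨V, hxV, s, rfl⟩ := TopCat.Presheaf.exists_germ_eq N.presheaf a
    have h1 := Sky.unitHom_app_apply x N V s ⟨hxV⟩
    rw [hzero] at h1
    exact h1.symm
  exact ⟨fun a b => by rw [h0 a, h0 b]⟩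

/-- a morphism from a submodule of `j_! M` to a module vanishing on `U` is zero. -/
theorem eq_zero_of_mono_extZero {Q Z : X.Modules} (M : (U : Scheme.{u}).Modules)
    (m : Q ⟶ (CxOX.extZero U.ι).obj M) [Mono m]
    (hZ : IsZero ((Scheme.Modules.restrictFunctor U.ι).obj Z)) (π : Q ⟶ Z) : π = 0 := by
  apply Groth.Agent.Helper13.FinType.hom_ext_stalk
  intro x s
  by_cases hx : x ∈ U
  · haveI := Groth.Agent.Helper9.SuppD.subsingleton_stalk_of_isZero_restrict Z U hZ x hx
    exact Subsingleton.elim _ _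
  · have hinj := (mono_iff_stalk_injective m).1 inferInstance x
    haveI : Subsingleton ↑((TopCat.Presheaf.stalkFunctor Ab x).obj
        ((CxOX.extZero U.ι).obj M).presheaf) := subsingleton_stalk_extZero U M x hx
    have hs : s = 0 := hinj (Subsingleton.elim _ _)
    rw [hs, map_zero, map_zero]

section G

variable (M : (U : Scheme.{u}).Modules)

instance : PreservesFiniteLimits (CxOX.extZero U.ι) :=
  Groth.Agent.Helper17.IR.preservesFiniteLimits_extZero X U

instance : IsIso (CxOX.extZeroAdj U.ι).unit := Groth.Agent.Helper9.SuppD.isIso_extZeroAdj_unit U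

instance isIso_counit_extZero :
    IsIso ((CxOX.extZeroAdj U.ι).counit.app ((CxOX.extZero U.ι).obj M)) := by
  have h1 := (CxOX.extZeroAdj U.ι).left_triangle_components M
  have h2 : (CxOX.extZeroAdj U.ι).counit.app ((CxOX.extZero U.ι).obj M) =
      inv ((CxOX.extZero U.ι).map ((CxOX.extZeroAdj U.ι).unit.app M)) := by
    rw [← cancel_epi ((CxOX.extZero U.ι).map ((CxOX.extZeroAdj U.ι).unit.app M)), h1,
      IsIso.hom_inv_id]
    rfl
  rw [h2]
  infer_instance

/-- a submodule of `j_! M` is in the essential image of `j_!`: the counit is an isomorphism. -/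
theorem isIso_counit_of_mono {Q : X.Modules} (m : Q ⟶ (CxOX.extZero U.ι).obj M) [Mono m] :
    IsIso ((CxOX.extZeroAdj U.ι).counit.app Q) := by
  haveI hmono : Mono ((CxOX.extZeroAdj U.ι).counit.app Q) := by
    have hnat := (CxOX.extZeroAdj U.ι).counit.naturality m
    haveI : Mono ((CxOX.extZeroAdj U.ι).counit.app Q ≫ m) := by
      have : (CxOX.extZeroAdj U.ι).counit.app Q ≫ m =
          (CxOX.extZero U.ι).map ((Scheme.Modules.restrictFunctor U.ι).map m) ≫
            (CxOX.extZeroAdj U.ι).counit.app ((CxOX.extZero U.ι).obj M) := hnat.symm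
      rw [this]
      infer_instance
    exact mono_of_mono _ m
  haveI hepi : Epi ((CxOX.extZeroAdj U.ι).counit.app Q) := by
    apply Abelian.epi_of_cokernel_π_eq_zero
    apply eq_zero_of_mono_extZero U M m
    have h1 := (CxOX.extZeroAdj U.ι).right_triangle_components Q
    haveI : IsSplitEpi ((Scheme.Modules.restrictFunctor U.ι).map
        ((CxOX.extZeroAdj U.ι).counit.app Q)) := ⟨⟨⟨_, h1⟩⟩⟩
    exact IsZero.of_iso (isZero_cokernel_of_epi _)
      (PreservesCokernel.iso (Scheme.Modules.restrictFunctor U.ι)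
        ((CxOX.extZeroAdj U.ι).counit.app Q))
  exact isIso_of_mono_of_epi _

/-- `j^* ε` is an isomorphism. -/
instance isIso_restrict_counit (Q : X.Modules) :
    IsIso ((Scheme.Modules.restrictFunctor U.ι).map ((CxOX.extZeroAdj U.ι).counit.app Q)) := by
  have h1 := (CxOX.extZeroAdj U.ι).right_triangle_components Q
  have h2 : (Scheme.Modules.restrictFunctor U.ι).map ((CxOX.extZeroAdj U.ι).counit.app Q) =
      inv ((CxOX.extZeroAdj U.ι).unit.app ((Scheme.Modules.restrictFunctor U.ι).obj Q)) := by
    rw [← cancel_epi ((CxOX.extZeroAdj U.ι).unit.app ((Scheme.Modules.restrictFunctor U.ι).obj Q)),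
      h1, IsIso.hom_inv_id]
    rfl
  rw [h2]
  infer_instance

/-- for a monomorphism `p`, the naturality square of the counit `j_! j^* ⟶ 𝟭` is cartesian. -/
theorem isPullback_counit {A B : X.Modules} (p : A ⟶ B) [Mono p] :
    IsPullback ((CxOX.extZeroAdj U.ι).counit.app A)
      ((CxOX.extZero U.ι).map ((Scheme.Modules.restrictFunctor U.ι).map p)) p
      ((CxOX.extZeroAdj U.ι).counit.app B) := by
  have hnat : (CxOX.extZero U.ι).map ((Scheme.Modules.restrictFunctor U.ι).map p) ≫
      (CxOX.extZeroAdj U.ι).counit.app B = (CxOX.extZeroAdj U.ι).counit.app A ≫ p :=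
    (CxOX.extZeroAdj U.ι).counit.naturality p
  have sq : CommSq ((CxOX.extZeroAdj U.ι).counit.app A)
      ((CxOX.extZero U.ι).map ((Scheme.Modules.restrictFunctor U.ι).map p)) p
      ((CxOX.extZeroAdj U.ι).counit.app B) := ⟨hnat.symm⟩
  obtain ⟨u, hu⟩ : ∃ u : (CxOX.extZero U.ι).obj ((Scheme.Modules.restrictFunctor U.ι).obj A) ⟶
      pullback p ((CxOX.extZeroAdj U.ι).counit.app B),
      u = pullback.lift ((CxOX.extZeroAdj U.ι).counit.app A)
        ((CxOX.extZero U.ι).map ((Scheme.Modules.restrictFunctor U.ι).map p)) hnat.symm :=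
    ⟨_, rfl⟩
  have hu1 : u ≫ pullback.fst p ((CxOX.extZeroAdj U.ι).counit.app B) =
      (CxOX.extZeroAdj U.ι).counit.app A := by rw [hu]; exact pullback.lift_fst _ _ _
  have hu2 : u ≫ pullback.snd p ((CxOX.extZeroAdj U.ι).counit.app B) =
      (CxOX.extZero U.ι).map ((Scheme.Modules.restrictFunctor U.ι).map p) := by
    rw [hu]; exact pullback.lift_snd _ _ _
  -- `j^* u` is an isomorphism
  have hRfst : IsIso ((Scheme.Modules.restrictFunctor U.ι).map
      (pullback.fst p ((CxOX.extZeroAdj U.ι).counit.app B))) := by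
    have hpb := (IsPullback.of_hasPullback p ((CxOX.extZeroAdj U.ι).counit.app B)).map
      (Scheme.Modules.restrictFunctor U.ι)
    exact hpb.isIso_fst_of_isIso
  have hRu : IsIso ((Scheme.Modules.restrictFunctor U.ι).map u) := by
    have h3 : (Scheme.Modules.restrictFunctor U.ι).map u ≫
        (Scheme.Modules.restrictFunctor U.ι).map
          (pullback.fst p ((CxOX.extZeroAdj U.ι).counit.app B)) =
        (Scheme.Modules.restrictFunctor U.ι).map ((CxOX.extZeroAdj U.ι).counit.app A) := by
      rw [← Functor.map_comp, hu1]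
    haveI : IsIso ((Scheme.Modules.restrictFunctor U.ι).map u ≫
        (Scheme.Modules.restrictFunctor U.ι).map
          (pullback.fst p ((CxOX.extZeroAdj U.ι).counit.app B))) := by
      rw [h3]; infer_instance
    exact IsIso.of_isIso_comp_right _ ((Scheme.Modules.restrictFunctor U.ι).map
      (pullback.fst p ((CxOX.extZeroAdj U.ι).counit.app B)))
  -- hence `u` is an isomorphism
  haveI hεQ : IsIso ((CxOX.extZeroAdj U.ι).counit.app
      (pullback p ((CxOX.extZeroAdj U.ι).counit.app B))) :=
    isIso_counit_of_mono U ((Scheme.Modules.restrictFunctor U.ι).obj B)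
      (pullback.snd p ((CxOX.extZeroAdj U.ι).counit.app B))
  have hnatu := (CxOX.extZeroAdj U.ι).counit.naturality u
  haveI hiu : IsIso u := by
    have h4 : u = inv ((CxOX.extZeroAdj U.ι).counit.app
        ((CxOX.extZero U.ι).obj ((Scheme.Modules.restrictFunctor U.ι).obj A))) ≫
        (CxOX.extZero U.ι).map ((Scheme.Modules.restrictFunctor U.ι).map u) ≫
        (CxOX.extZeroAdj U.ι).counit.app (pullback p ((CxOX.extZeroAdj U.ι).counit.app B)) := by
      rw [IsIso.eq_inv_comp]
      exact hnatu.symm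
    rw [h4]
    infer_instance
  exact IsPullback.of_iso_pullback sq (asIso u) hu1 hu2

end G

section Main

variable (F : X.Modules)

/-- extension property of `j_!(k)` from injectivity of `F|_U`. -/
theorem hasLiftingProperty_extZero_map
    (hU : Injective ((Scheme.Modules.restrictFunctor U.ι).obj F))
    {K N : (U : Scheme.{u}).Modules} (k : K ⟶ N) [Mono k] :
    HasLiftingProperty ((CxOX.extZero U.ι).map k) (0 : F ⟶ (0 : X.Modules)) := by
  rw [(CxOX.extZeroAdj U.ι).hasLiftingProperty_iff]
  exact Injective.hasLiftingProperty_of_isZero k _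
    ((Scheme.Modules.restrictFunctor U.ι).map_isZero (isZero_zero _))

/-- a morphism which is an isomorphism on the members of an open cover is an epimorphism. -/
theorem epi_of_forall_isIso_restrict {A B : X.Modules} (p : A ⟶ B)
    (h : ∀ x : X, ∃ V : X.Opens, x ∈ V ∧ IsIso ((Scheme.Modules.restrictFunctor V.ι).map p)) :
    Epi p := by
  apply Abelian.epi_of_cokernel_π_eq_zero
  have hZ : IsZero (cokernel p) := by
    rw [isZero_iff_stalk]
    intro x
    obtain ⟨V, hxV, hV⟩ := h x
    refine Groth.Agent.Helper9.SuppD.subsingleton_stalk_of_isZero_restrict (cokernel p) V ?_ x hxV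
    exact IsZero.of_iso (isZero_cokernel_of_epi _)
      (PreservesCokernel.iso (Scheme.Modules.restrictFunctor V.ι) p)
  exact hZ.eq_of_tgt _ _

theorem step (hU : Injective ((Scheme.Modules.restrictFunctor U.ι).obj F))
    {A B : X.Modules} (p : A ⟶ B) [Mono p]
    (hp : ¬ IsIso ((Scheme.Modules.restrictFunctor U.ι).map p)) :
    ∃ (X' : X.Modules) (i : A ⟶ X') (p' : X' ⟶ B),
      HasLiftingProperty i (0 : F ⟶ (0 : X.Modules)) ∧ ¬ IsIso i ∧ Mono p' ∧ i ≫ p' = p := by
  have hnat : (CxOX.extZero U.ι).map ((Scheme.Modules.restrictFunctor U.ι).map p) ≫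
      (CxOX.extZeroAdj U.ι).counit.app B = (CxOX.extZeroAdj U.ι).counit.app A ≫ p :=
    (CxOX.extZeroAdj U.ι).counit.naturality p
  haveI : Mono ((Scheme.Modules.restrictFunctor U.ι).map p) := inferInstance
  haveI := hasLiftingProperty_extZero_map U F hU ((Scheme.Modules.restrictFunctor U.ι).map p)
  obtain ⟨P, inl, inr, hpo⟩ : ∃ (P : X.Modules) (inl : A ⟶ P)
      (inr : (CxOX.extZero U.ι).obj ((Scheme.Modules.restrictFunctor U.ι).obj B) ⟶ P),
      IsPushout ((CxOX.extZeroAdj U.ι).counit.app A)
        ((CxOX.extZero U.ι).map ((Scheme.Modules.restrictFunctor U.ι).map p)) inl inr :=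
    ⟨_, _, _, IsPushout.of_hasPushout _ _⟩
  have h1 := hpo.inl_desc p ((CxOX.extZeroAdj U.ι).counit.app B) hnat.symm
  have h2 := hpo.inr_desc p ((CxOX.extZeroAdj U.ι).counit.app B) hnat.symm
  refine ⟨P, inl, hpo.desc p ((CxOX.extZeroAdj U.ι).counit.app B) hnat.symm,
    hpo.hasLiftingProperty _, ?_, ?_, h1⟩
  · intro hi
    apply hp
    have hfac : (CxOX.extZeroAdj U.ι).counit.app B = (inr ≫ inv inl) ≫ p := by
      rw [Category.assoc, ← h1, IsIso.inv_hom_id_assoc, h2]
    have h4 : (Scheme.Modules.restrictFunctor U.ι).map ((CxOX.extZeroAdj U.ι).counit.app B) =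
        (Scheme.Modules.restrictFunctor U.ι).map (inr ≫ inv inl) ≫
          (Scheme.Modules.restrictFunctor U.ι).map p := by
      rw [← Functor.map_comp, ← hfac]
    haveI : IsSplitEpi ((Scheme.Modules.restrictFunctor U.ι).map p) :=
      ⟨⟨⟨inv ((Scheme.Modules.restrictFunctor U.ι).map ((CxOX.extZeroAdj U.ι).counit.app B)) ≫
        (Scheme.Modules.restrictFunctor U.ι).map (inr ≫ inv inl), by
          rw [Category.assoc, ← h4, IsIso.inv_hom_id]⟩⟩⟩
    exact isIso_of_mono_of_isSplitEpi _
  · exact hpo.mono_of_isPullback_of_mono (isPullback_counit U p) _ h1 h2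

/-- **locally injective modules are injective.** -/
theorem main (hF : ∀ x : X, ∃ U : X.Opens, x ∈ U ∧
    Injective ((Scheme.Modules.restrictFunctor U.ι).obj F)) : Injective F := by
  apply Groth.Agent.Helper26.BaerStep.injective_of_steps.{u} F
  intro A B p _ hp
  by_cases h : ∀ x : X, ∃ V : X.Opens, x ∈ V ∧ IsIso ((Scheme.Modules.restrictFunctor V.ι).map p)
  · exfalso
    apply hp
    haveI := epi_of_forall_isIso_restrict p h
    exact isIso_of_mono_of_epi p
  · push Not at h
    obtain ⟨x, hx⟩ := h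
    obtain ⟨U, hxU, hU⟩ := hF x
    exact step U F hU p (hx U hxU)

end Main

end Groth.Agent.Helper26.LocInj
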