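import Mathlib
import Groth.Agent.Lib.Helper13.TensorHom
import Groth.Agent.Lib.Helper13.DualFinLocFree

/-!
# Contravariant functoriality of the concrete sheaf Hom `RefHull.homSh` in its first argument
-/

set_option autoImplicit false
set_option maxHeartbeats 400000
set_option linter.unusedSectionVars false
set_option linter.unusedVariables false
universe u
open CategoryTheory CategoryTheory.Limits AlgebraicGeometry Opposite TopologicalSpace
open RefHull Groth.Agent.Lead.HomSh

namespace Groth.Agent.Helper26.HomPre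

variable {X : Scheme.{u}} {K E F : X.Modules} (G : X.Modules)

/-- precomposition on sections. -/
noncomputable def preSec (u : K ⟶ E) {U : X.Opens} (g : Γ(homSh E G, U)) : Γ(homSh K G, U) :=
  ⟨fun y => (g.1 y).comp (stalkMapₗ u y.1), fun V i m x => by
    obtain ⟨W, hxW, j, n, hW⟩ := isLocSect_of_mem g V i (u.app V m) x
    refine ⟨W, hxW, j, n, fun y => ?_⟩
    rw [LinearMap.comp_apply, stalkMapₗ_germ]
    exact hW y⟩

lemma preSec_apply (u : K ⟶ E) {U : X.Opens} (g : Γ(homSh E G, U)) (y : U) :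
    (preSec G u g).1 y = (g.1 y).comp (stalkMapₗ u y.1) := rfl

/-- precomposition on sections, additive. -/
noncomputable def preFun (u : K ⟶ E) (U : X.Opens) : Γ(homSh E G, U) →+ Γ(homSh K G, U) where
  toFun g := preSec G u g
  map_zero' := Subtype.ext <| funext fun x => LinearMap.zero_comp _
  map_add' s t := Subtype.ext <| funext fun x => LinearMap.add_comp _ _ _

/-- **precomposition** `𝓗om(E, G) ⟶ 𝓗om(K, G)` with `u : K ⟶ E`. -/
noncomputable def pre (u : K ⟶ E) : homSh E G ⟶ homSh K G :=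
  ⟨PresheafOfModules.homMk
    { app := fun U => AddCommGrpCat.ofHom (preFun G u U.unop)
      naturality := fun {U V} i => by
        ext s
        rfl }
    (fun U r s => Subtype.ext <| funext fun x => LinearMap.smul_comp _ _ _)⟩

lemma pre_app_apply (u : K ⟶ E) {U : X.Opens} (g : Γ(homSh E G, U)) (y : U) :
    ((pre G u).app U g).1 y = (g.1 y).comp (stalkMapₗ u y.1) := rfl

lemma stalkMapₗ_id (x : X) : stalkMapₗ (𝟙 E) x = LinearMap.id := by
  apply LinearMap.ext
  intro v
  obtain ⟨U, hx, m, rfl⟩ := TopCat.Presheaf.exists_germ_eq E.presheaf v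
  rw [stalkMapₗ_germ]
  rfl

lemma stalkMapₗ_comp (u : K ⟶ E) (v : E ⟶ F) (x : X) :
    stalkMapₗ (u ≫ v) x = (stalkMapₗ v x).comp (stalkMapₗ u x) := by
  apply LinearMap.ext
  intro w
  obtain ⟨U, hx, m, rfl⟩ := TopCat.Presheaf.exists_germ_eq K.presheaf w
  rw [LinearMap.comp_apply, stalkMapₗ_germ, stalkMapₗ_germ, stalkMapₗ_germ]
  rfl

lemma stalkMapₗ_add (u v : K ⟶ E) (x : X) :
    stalkMapₗ (u + v) x = stalkMapₗ u x + stalkMapₗ v x := by
  apply LinearMap.ext
  intro w
  obtain ⟨U, hx, m, rfl⟩ := TopCat.Presheaf.exists_germ_eq K.presheaf w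
  rw [LinearMap.add_apply, stalkMapₗ_germ, stalkMapₗ_germ, stalkMapₗ_germ, ← map_add]
  rfl

lemma stalkMapₗ_zero (x : X) : stalkMapₗ (0 : K ⟶ E) x = 0 := by
  apply LinearMap.ext
  intro w
  obtain ⟨U, hx, m, rfl⟩ := TopCat.Presheaf.exists_germ_eq K.presheaf w
  rw [stalkMapₗ_germ, LinearMap.zero_apply]
  exact map_zero _

lemma pre_id : pre G (𝟙 E) = 𝟙 _ := by
  apply Scheme.Modules.hom_ext
  intro U
  ext g
  apply sec_ext
  intro y
  rw [pre_app_apply, stalkMapₗ_id]
  rfl

lemma pre_comp (u : K ⟶ E) (v : E ⟶ F) : pre G (u ≫ v) = pre G v ≫ pre G u := by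
  apply Scheme.Modules.hom_ext
  intro U
  ext g
  apply sec_ext
  intro y
  rw [pre_app_apply, stalkMapₗ_comp]
  rfl

lemma pre_zero : pre G (0 : K ⟶ E) = 0 := by
  apply Scheme.Modules.hom_ext
  intro U
  ext g
  apply sec_ext
  intro y
  rw [pre_app_apply, stalkMapₗ_zero, LinearMap.comp_zero]
  rfl

lemma pre_add (u v : K ⟶ E) : pre G (u + v) = pre G u + pre G v := by
  apply Scheme.Modules.hom_ext
  intro U
  ext g
  apply sec_ext
  intro y
  rw [pre_app_apply, stalkMapₗ_add, LinearMap.comp_add]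
  rfl

/-- compatibility of `pre` with evaluation of germs. -/
lemma evalStalk_pre (u : K ⟶ E) (x : X) (θ : (homSh E G).presheaf.stalk x) :
    evalStalk K G x (stalkMapₗ (pre G u) x θ) = (evalStalk E G x θ).comp (stalkMapₗ u x) := by
  obtain ⟨U, hx, g, rfl⟩ := TopCat.Presheaf.exists_germ_eq (homSh E G).presheaf θ
  rw [stalkMapₗ_germ, evalStalk_germ, evalStalk_germ, pre_app_apply]

end Groth.Agent.Helper26.HomPre
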