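import Mathlib
import Groth.Agent.Lib.Helper26.HomPre
import Groth.Agent.Lib.Helper26.DualFun
import Groth.Agent.Lib.Helper26.PnTwist
import Groth.Agent.Lib.Helper13.InvDual
import Groth.Agent.Lib.Helper13.TensorAssoc
import Groth.Agent.Lib.Helper28.TwistZero
import Groth.Agent.Lib.Helper29.SHomC
import Groth.Agent.Lib.Helper29.ExtSplit

/-!
# Vanishing lemmas for cohomology of finite sums and of sheaf Homs out of finite sums
-/

set_option autoImplicit false
set_option maxHeartbeats 400000
set_option linter.unusedSectionVars false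
set_option linter.unusedVariables false
universe u
open CategoryTheory CategoryTheory.Limits AlgebraicGeometry Opposite TopologicalSpace
open RefHull Groth.Agent.Lead.HomSh Groth.Agent.Helper26.HomPre Groth.Agent.Helper26.DualFun

namespace Groth.Agent.Helper26.HomVan

attribute [local instance] Abelian.hasFiniteBiproducts

section General

variable (A : Type u) [CommRing A] {X : Scheme.{u}} [X.Over (Spec (CommRingCat.of A))]

include A in
theorem subsingleton_HH_of_iso {M M' : X.Modules} (e : M ≅ M') (j : ℕ)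
    (h : Subsingleton (Coh.HH X M' j)) : Subsingleton (Coh.HH X M j) := by
  refine ⟨fun x y => ?_⟩
  have key : ∀ z : Coh.HH X M j, z = Canon.HHlin A e.inv j (Canon.HHlin A e.hom j z) := by
    intro z
    have h1 := HHlin_comp A e.hom e.inv j
    rw [e.hom_inv_id, HHlin_id] at h1
    exact LinearMap.congr_fun h1 z
  rw [key x, key y, Subsingleton.elim (Canon.HHlin A e.hom j x) (Canon.HHlin A e.hom j y)]

/-- an isomorphism of modules induces a linear equivalence on cohomology. -/
noncomputable def HHlinEquiv {M M' : X.Modules} (e : M ≅ M') (j : ℕ) :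
    Coh.HH X M j ≃ₗ[A] Coh.HH X M' j := by
  have h1 := HHlin_comp A e.hom e.inv j
  rw [e.hom_inv_id, HHlin_id] at h1
  have h2 := HHlin_comp A e.inv e.hom j
  rw [e.inv_hom_id, HHlin_id] at h2
  exact LinearEquiv.ofLinearMap (Canon.HHlin A e.hom j) (Canon.HHlin A e.inv j) h2.symm h1.symm

theorem finrank_HH_of_iso {M M' : X.Modules} (e : M ≅ M') (j : ℕ) :
    Module.finrank A (Coh.HH X M j) = Module.finrank A (Coh.HH X M' j) :=
  (HHlinEquiv A e j).finrank_eq

include A in
theorem subsingleton_HH_biproduct {k : ℕ} (E : Fin k → X.Modules) (j : ℕ)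
    (h : ∀ i, Subsingleton (Coh.HH X (E i) j)) : Subsingleton (Coh.HH X (⨁ E) j) := by
  have key : ∀ z : Coh.HH X (⨁ E) j, z = 0 := by
    intro z
    have h1 : Canon.HHlin A (𝟙 (⨁ E)) j z = z := by
      rw [HHlin_id]
      rfl
    rw [← h1, ← biproduct.total, HHlin_sum, LinearMap.sum_apply]
    apply Finset.sum_eq_zero
    intro i _
    rw [HHlin_comp, LinearMap.comp_apply,
      (h i).elim (Canon.HHlin A (biproduct.π E i) j z) 0, map_zero]
  exact ⟨fun x y => (key x).trans (key y).symm⟩

/-- `pre` as an additive map. -/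
noncomputable def preAdd {K E : X.Modules} (G : X.Modules) :
    (K ⟶ E) →+ (homSh E G ⟶ homSh K G) where
  toFun u := pre G u
  map_zero' := pre_zero G
  map_add' u v := pre_add G u v

include A in
theorem subsingleton_HH_homSh_biproduct {k : ℕ} (E : Fin k → X.Modules) (G : X.Modules) (j : ℕ)
    (h : ∀ i, Subsingleton (Coh.HH X (homSh (E i) G) j)) :
    Subsingleton (Coh.HH X (homSh (⨁ E) G) j) := by
  have key : ∀ z : Coh.HH X (homSh (⨁ E) G) j, z = 0 := by
    intro z
    have h1 : Canon.HHlin A (𝟙 (homSh (⨁ E) G)) j z = z := by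
      rw [HHlin_id]
      rfl
    have h2 : 𝟙 (homSh (⨁ E) G) =
        ∑ i : Fin k, pre G (biproduct.ι E i) ≫ pre G (biproduct.π E i) := by
      rw [← pre_id, ← biproduct.total]
      have := map_sum (preAdd (K := ⨁ E) (E := ⨁ E) G)
        (fun i => biproduct.π E i ≫ biproduct.ι E i) Finset.univ
      refine this.trans ?_
      apply Finset.sum_congr rfl
      intro i _
      exact pre_comp G _ _
    rw [← h1, h2, HHlin_sum, LinearMap.sum_apply]
    apply Finset.sum_eq_zero
    intro i _
    rw [HHlin_comp, LinearMap.comp_apply,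
      (h i).elim (Canon.HHlin A (pre G (biproduct.ι E i)) j z) 0, map_zero]
  exact ⟨fun x y => (key x).trans (key y).symm⟩

end General

section Twist

open Groth.Agent.Helper13 Groth.Agent.Helper29.SHomA Groth.Agent.Helper29.SHomC

variable (n : ℕ) (R : Type u) [CommRing R]

/-- the dual of `O(a)` is `O(-a)`. -/
theorem nonempty_dual_twist_iso (a : ℤ) :
    Nonempty (homSh (Twist.twistProjSpace n R a) (Coh.structureModule (CohB1.ProjSpace n R)) ≅
      Twist.twistProjSpace n R (-a)) := by
  obtain ⟨e1⟩ := Groth.Agent.Helper26.PnTwist.twist_tensor_iso n R (-a) a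
  have h0 : -a + a = 0 := neg_add_cancel a
  let e0 : Twist.twistProjSpace n R (-a + a) ≅ Coh.structureModule (CohB1.ProjSpace n R) :=
    eqToIso (by rw [h0]; rfl) ≪≫ (Groth.Agent.Helper28.TwistMul.zeroIso (CohB1.polyGrading n R)).symm
  let L := Twist.twistProjSpace n R a
  have hL : PicF.IsInvertible L := Groth.Agent.Helper26.PnTwist.isInvertible_twist n R a
  exact ⟨(Groth.Agent.Helper29.ExtSplit.dualIso L (Twist.twistProjSpace n R (-a)) hL (e1 ≪≫ e0)).symm⟩

theorem nonempty_homSh_twist_iso (a b : ℤ) :
    Nonempty (homSh (Twist.twistProjSpace n R a) (Twist.twistProjSpace n R b) ≅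
      Twist.twistProjSpace n R (b + -a)) := by
  obtain ⟨e1⟩ := nonempty_dual_twist_iso n R a
  obtain ⟨e2⟩ := Groth.Agent.Helper26.PnTwist.twist_tensor_iso n R b (-a)
  have hL : FlatMod.IsFinLocFree (Twist.twistProjSpace n R a) :=
    Groth.Agent.Helper29.ExtSplit.isFinLocFree_of_isInvertible _
      (Groth.Agent.Helper26.PnTwist.isInvertible_twist n R a)
  exact ⟨((homFunIso (Twist.twistProjSpace n R a) hL).app (Twist.twistProjSpace n R b)).symm ≪≫
    Tensor.mapIso (Iso.refl _) e1 ≪≫ e2⟩

end Twist

end Groth.Agent.Helper26.HomVan
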