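import Mathlib
import Groth.Agent.Lib.Helper6.QReg

/-!
# Kernel of the Rees algebra presentation for a weakly regular sequence (helper26)
-/

set_option autoImplicit false
universe u

namespace Groth.Agent.Helper26.Rees

open MvPolynomial Groth.Agent.Helper6.QReg

variable {R : Type u} [CommRing R]

/-- the ideal of `2 × 2` relations -/
noncomputable def J {c : ℕ} (f : Fin c → R) : Ideal (MvPolynomial (Fin c) R) :=
  Ideal.span {q : MvPolynomial (Fin c) R | ∃ i j : Fin c,
        q = MvPolynomial.C (f i) * MvPolynomial.X j - MvPolynomial.C (f j) * MvPolynomial.X i}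

theorem rel_mem {c : ℕ} (f : Fin c → R) (i j : Fin c) :
    (C (f i) * X j - C (f j) * X i : MvPolynomial (Fin c) R) ∈ J f :=
  Ideal.subset_span ⟨i, j, rfl⟩

theorem rename_mem_J {c : ℕ} (f : Fin (c + 1) → R) {P : MvPolynomial (Fin c) R}
    (hP : P ∈ J (f ∘ Fin.castSucc)) : rename Fin.castSucc P ∈ J f := by
  have : J (f ∘ Fin.castSucc) ≤ (J f).comap (rename Fin.castSucc : MvPolynomial (Fin c) R →ₐ[R] MvPolynomial (Fin (c+1)) R).toRingHom := by
    unfold J
    rw [Ideal.span_le]
    rintro _ ⟨i, j, rfl⟩
    rw [SetLike.mem_coe, Ideal.mem_comap]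
    simp only [AlgHom.toRingHom_eq_coe, RingHom.coe_coe, Function.comp_apply]
    rw [map_sub, map_mul, map_mul, rename_C, rename_C, rename_X, rename_X]
    exact rel_mem f i.castSucc j.castSucc
  exact this hP

/-- a homogeneous polynomial of positive degree is a combination of the variables -/
theorem exists_sum_X_mul {c : ℕ} (n : ℕ) (h : MvPolynomial (Fin c) R) (hh : h.IsHomogeneous (n + 1)) :
    ∃ g : Fin c → MvPolynomial (Fin c) R, (∀ i, (g i).IsHomogeneous n) ∧ h = ∑ i, X i * g i := by
  classical
  induction c with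
  | zero =>
    have hPC : h = C (coeff 0 h) := eq_C_of_isEmpty h
    have : h = 0 := by
      by_contra hne
      have := hh.totalDegree hne
      rw [hPC, totalDegree_C] at this
      omega
    exact ⟨fun _ => 0, fun i => i.elim0, by simp [this]⟩
  | succ c ih =>
    obtain ⟨G, H, hG, hH, rfl⟩ := exists_decomp h n hh
    obtain ⟨g, hg, hGe⟩ := ih G hG
    refine ⟨Fin.lastCases H (fun i => rename Fin.castSucc (g i)), ?_, ?_⟩
    · intro i
      refine Fin.lastCases ?_ (fun i => ?_) i
      · simpa using hH
      · simp only [Fin.lastCases_castSucc]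
        exact (hg i).rename_isHomogeneous
    · rw [Fin.sum_univ_castSucc, hGe, map_sum]
      simp only [Fin.lastCases_castSucc, Fin.lastCases_last, map_mul, rename_X]


theorem step {c : ℕ} (f : Fin (c + 1) → R)
    (hq' : ∀ n, QRat (f ∘ Fin.castSucc) n)
    (hreg : ∀ x, f (Fin.last c) * x ∈ Ideal.span (Set.range (f ∘ Fin.castSucc)) →
      x ∈ Ideal.span (Set.range (f ∘ Fin.castSucc)))
    (ih : ∀ (d : ℕ) (P : MvPolynomial (Fin c) R), P.IsHomogeneous d →
      eval (f ∘ Fin.castSucc) P = 0 → P ∈ J (f ∘ Fin.castSucc)) :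
    ∀ (d : ℕ) (F : MvPolynomial (Fin (c + 1)) R), F.IsHomogeneous d → eval f F = 0 → F ∈ J f := by
  intro d
  induction d with
  | zero =>
    intro F hF hev
    have hFC : F = C (coeff 0 F) :=
      totalDegree_eq_zero_iff_eq_C.1 ((totalDegree_zero_iff_isHomogeneous _).2 hF)
    rw [hFC, eval_C] at hev
    rw [hFC, hev, C_0]
    exact Ideal.zero_mem _
  | succ n ihd =>
    intro F hF hev
    obtain ⟨G, H, hG, hH, rfl⟩ := exists_decomp F n hF
    rw [map_add, eval_rename, map_mul, eval_X] at hev
    have h1 : f (Fin.last c) * eval f H ∈ Ideal.span (Set.range (f ∘ Fin.castSucc)) ^ (n + 1) := by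
      have : f (Fin.last c) * eval f H = - eval (f ∘ Fin.castSucc) G := by
        linear_combination hev
      rw [this]
      exact neg_mem (eval_mem_pow _ _ _ hG)
    have h2 : eval f H ∈ Ideal.span (Set.range (f ∘ Fin.castSucc)) ^ (n + 1) :=
      colon_pow _ hq' _ hreg (n + 1) _ h1
    obtain ⟨h, hh, hhe⟩ := (Ideal.mem_span_pow_iff_exists_isHomogeneous _ _).1 h2
    obtain ⟨g, hg, hge⟩ := exists_sum_X_mul n h hh
    -- the corrected `H`
    set H' : MvPolynomial (Fin (c + 1)) R :=
      H - ∑ i, C (f (Fin.castSucc i)) * rename Fin.castSucc (g i) with hH'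
    have hH'hom : H'.IsHomogeneous n :=
      hH.sub (IsHomogeneous.sum _ _ _ fun i _ => ((hg i).rename_isHomogeneous).C_mul _)
    have hH'ev : eval f H' = 0 := by
      rw [hH', map_sub, map_sum, ← hhe, hge, map_sum, sub_eq_zero]
      refine Finset.sum_congr rfl fun i _ => ?_
      rw [map_mul, map_mul, eval_C, eval_X, eval_rename]
      rfl
    have hH'J : H' ∈ J f := ihd H' hH'hom hH'ev
    have hrenh : rename Fin.castSucc h = ∑ i, X (Fin.castSucc i) * rename Fin.castSucc (g i) := by
      rw [hge, map_sum]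
      refine Finset.sum_congr rfl fun i _ => ?_
      rw [map_mul, rename_X]
    have hdiff : X (Fin.last c) * H - C (f (Fin.last c)) * rename Fin.castSucc h ∈ J f := by
      have e : X (Fin.last c) * H - C (f (Fin.last c)) * rename Fin.castSucc h =
          X (Fin.last c) * H' + ∑ i, (C (f (Fin.castSucc i)) * X (Fin.last c) -
            C (f (Fin.last c)) * X (Fin.castSucc i)) * rename Fin.castSucc (g i) := by
        rw [hH', hrenh, mul_sub, Finset.mul_sum, Finset.mul_sum, sub_add_eq_add_sub,
          sub_eq_sub_iff_add_eq_add, add_assoc, ← Finset.sum_add_distrib, add_right_inj]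
        refine Finset.sum_congr rfl fun i _ => ?_
        ring
      rw [e]
      refine Ideal.add_mem _ (Ideal.mul_mem_left _ _ hH'J) (Ideal.sum_mem _ fun i _ => ?_)
      exact Ideal.mul_mem_right _ _ (rel_mem f _ _)
    have hg0 : G + C (f (Fin.last c)) * h ∈ J (f ∘ Fin.castSucc) := by
      refine ih (n + 1) _ (hG.add (hh.C_mul _)) ?_
      rw [map_add, map_mul, eval_C, hhe]
      exact hev
    have e2 : rename Fin.castSucc G + X (Fin.last c) * H =
        rename Fin.castSucc (G + C (f (Fin.last c)) * h) +
          (X (Fin.last c) * H - C (f (Fin.last c)) * rename Fin.castSucc h) := by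
      rw [map_add, map_mul, rename_C]
      ring
    rw [e2]
    exact Ideal.add_mem _ (rename_mem_J f hg0) hdiff

/-- main homogeneous statement -/
theorem mem_J_of_eval_eq_zero : ∀ (c : ℕ) (f : Fin c → R),
    RingTheory.Sequence.IsWeaklyRegular R (List.ofFn f) →
    ∀ (d : ℕ) (F : MvPolynomial (Fin c) R), F.IsHomogeneous d → eval f F = 0 → F ∈ J f := by
  intro c
  induction c with
  | zero =>
    intro f _ d P hP hev
    have hPC : P = C (coeff 0 P) := eq_C_of_isEmpty P
    rw [hPC, eval_C] at hev
    rw [hPC, hev, C_0]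
    exact Ideal.zero_mem _
  | succ c ih =>
    intro f hf
    have hf0 := hf
    rw [List.ofFn_succ_last, RingTheory.Sequence.isWeaklyRegular_append_iff] at hf
    obtain ⟨hf1, hf2⟩ := hf
    rw [RingTheory.Sequence.isWeaklyRegular_singleton_iff] at hf2
    have hq' : ∀ n, QRat (f ∘ Fin.castSucc) n := qrat_of_isWeaklyRegular c _ hf1
    have hofList : Ideal.ofList (List.ofFn fun i : Fin c => f i.castSucc) =
        Ideal.span (Set.range (f ∘ Fin.castSucc)) := by
      unfold Ideal.ofList
      congr 1
      ext x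
      simp [List.mem_ofFn]
    have hreg : ∀ x, f (Fin.last c) * x ∈ Ideal.span (Set.range (f ∘ Fin.castSucc)) →
        x ∈ Ideal.span (Set.range (f ∘ Fin.castSucc)) := by
      intro x hx
      have htop : (Ideal.ofList (List.ofFn fun i : Fin c => f i.castSucc) • (⊤ : Submodule R R)) =
          Ideal.span (Set.range (f ∘ Fin.castSucc)) := by
        rw [hofList, smul_eq_mul, Ideal.mul_top]
      have h0 : f (Fin.last c) • (Submodule.Quotient.mk x :
          R ⧸ (Ideal.ofList (List.ofFn fun i : Fin c => f i.castSucc) • (⊤ : Submodule R R))) =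
            f (Fin.last c) • 0 := by
        rw [smul_zero, ← Submodule.Quotient.mk_smul, Submodule.Quotient.mk_eq_zero, htop, smul_eq_mul]
        exact hx
      have h3 := hf2 h0
      rw [Submodule.Quotient.mk_eq_zero, htop] at h3
      exact h3
    exact step f hq' hreg (ih (f ∘ Fin.castSucc) hf1)

end Groth.Agent.Helper26.Rees
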