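import Mathlib
import Groth.Prelude.Def_CAlgX
import Groth.Agent.Lib.Helper26.Rees1

/-!
# `H_1`-regular sequences are quasi-regular (helper26)
-/

set_option autoImplicit false
universe u

namespace Groth.Agent.Helper26.H1QR

open MvPolynomial

variable {R : Type u} [CommRing R]

/-- `a` is a combination of the trivial relations of `f`, in matrix form. -/
def AltRel {c : ℕ} (f a : Fin c → R) : Prop :=
  ∃ t : Fin c → Fin c → R, (∀ i, t i i = 0) ∧ (∀ i j, t i j = - t j i) ∧
    ∀ i, a i = ∑ l, t i l * f l

/-- matrix form of `H_1`-regularity -/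
def H1 {c : ℕ} (f : Fin c → R) : Prop :=
  ∀ a : Fin c → R, ∑ i, a i * f i = 0 → AltRel f a

theorem alt_sum_zero {M : Type*} [AddCommGroup M] {c : ℕ} (a : Fin c → Fin c → M)
    (h0 : ∀ i, a i i = 0) (hanti : ∀ i j, a i j = - a j i) : ∑ i, ∑ j, a i j = 0 := by
  rw [← Finset.sum_product']
  refine Finset.sum_involution (fun p _ => (p.2, p.1)) ?_ ?_ ?_ ?_
  · intro p _
    rw [hanti p.1 p.2]
    simp
  · intro p _ hp hcon
    apply hp
    have : p.2 = p.1 := congrArg Prod.fst hcon
    rw [this]
    exact h0 _
  · intro p _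
    exact Finset.mem_univ _
  · intro p _
    rfl

theorem h1_of_isH1Regular {c : ℕ} {f : Fin c → R} (hf : CAlgX.IsH1Regular f) : H1 f := by
  classical
  intro a ha
  have hmem := hf a ha
  clear ha
  induction hmem using Submodule.span_induction with
  | mem v hv =>
    obtain ⟨i, j, rfl⟩ := hv
    refine ⟨fun p q => (if p = i ∧ q = j then 1 else 0) - (if p = j ∧ q = i then 1 else 0),
      ?_, ?_, ?_⟩
    · intro p
      by_cases h1 : p = i
      · by_cases h2 : p = j
        · simp [h1, h2]
        · simp [h1, h2]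
      · simp [h1]
    · intro p q
      simp only [neg_sub]
      congr 1
      · simp only [and_comm]
      · simp only [and_comm]
    · intro p
      simp only [sub_mul, Finset.sum_sub_distrib, Pi.sub_apply]
      congr 1
      · by_cases h1 : p = i
        · subst h1
          simp
        · simp [h1, Pi.single_apply]
      · by_cases h1 : p = j
        · subst h1
          simp
        · simp [h1, Pi.single_apply]
  | zero =>
    exact ⟨fun _ _ => 0, fun _ => rfl, fun _ _ => by simp, fun _ => by simp⟩
  | add x y _ _ hx hy =>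
    obtain ⟨t, ht0, hta, hts⟩ := hx
    obtain ⟨s, hs0, hsa, hss⟩ := hy
    refine ⟨fun p q => t p q + s p q, ?_, ?_, ?_⟩
    · intro i
      dsimp only
      rw [ht0, hs0, add_zero]
    · intro i j
      dsimp only
      rw [hta i j, hsa i j]
      ring
    · intro i
      simp only [Pi.add_apply, add_mul, Finset.sum_add_distrib, hts i, hss i]
  | smul r x _ hx =>
    obtain ⟨t, ht0, hta, hts⟩ := hx
    refine ⟨fun p q => r * t p q, ?_, ?_, ?_⟩
    · intro i
      dsimp only
      rw [ht0, mul_zero]
    · intro i j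
      dsimp only
      rw [hta i j]
      ring
    · intro i
      simp only [Pi.smul_apply, smul_eq_mul, hts i, Finset.mul_sum, mul_assoc]

/-- coefficientwise: a polynomial relation is a combination of trivial ones -/
theorem exists_alt_poly {c : ℕ} {f : Fin c → R} (hf : H1 f) (k : ℕ)
    (H : Fin c → MvPolynomial (Fin c) R) (hH : ∀ l, (H l).IsHomogeneous k)
    (hsum : ∑ l, C (f l) * H l = 0) :
    ∃ T : Fin c → Fin c → MvPolynomial (Fin c) R, (∀ i j, (T i j).IsHomogeneous k) ∧
      (∀ i, T i i = 0) ∧ (∀ i j, T i j = - T j i) ∧ ∀ l, H l = ∑ i, T l i * C (f i) := by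
  classical
  have hsyz : ∀ N : Fin c →₀ ℕ, ∑ l, coeff N (H l) * f l = 0 := by
    intro N
    have := congrArg (coeff N) hsum
    rw [coeff_sum, coeff_zero] at this
    rw [← this]
    refine Finset.sum_congr rfl fun l _ => ?_
    rw [coeff_C_mul, mul_comm]
  choose t ht0 hta hts using fun N => hf (fun l => coeff N (H l)) (hsyz N)
  set S : Finset (Fin c →₀ ℕ) := Finset.univ.biUnion (fun l => (H l).support) with hS
  refine ⟨fun i j => ∑ N ∈ S, monomial N (t N i j), ?_, ?_, ?_, ?_⟩
  · intro i j
    refine IsHomogeneous.sum _ _ _ fun N hN => ?_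
    rw [hS, Finset.mem_biUnion] at hN
    obtain ⟨l, -, hl⟩ := hN
    rw [mem_support_iff] at hl
    refine isHomogeneous_monomial _ ?_
    rw [Finsupp.degree_eq_weight_one]
    exact hH l hl
  · intro i
    simp only [ht0, map_zero, Finset.sum_const_zero]
  · intro i j
    rw [← Finset.sum_neg_distrib]
    refine Finset.sum_congr rfl fun N _ => ?_
    rw [hta N i j, map_neg]
  · intro l
    ext N
    rw [coeff_sum]
    have h1 : ∀ i, coeff N ((∑ N' ∈ S, monomial N' (t N' l i)) * C (f i)) =
        (if N ∈ S then t N l i else 0) * f i := by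
      intro i
      rw [mul_comm, coeff_C_mul, mul_comm, coeff_sum]
      congr 1
      simp only [coeff_monomial]
      rw [Finset.sum_ite_eq' S N]
    simp only [h1]
    by_cases hN : N ∈ S
    · simp only [hN, if_true]
      exact hts N l
    · simp only [hN, if_false, zero_mul, Finset.sum_const_zero]
      have : N ∉ (H l).support := by
        intro h
        apply hN
        rw [hS, Finset.mem_biUnion]
        exact ⟨l, Finset.mem_univ _, h⟩
      rwa [notMem_support_iff] at this

/-- coefficients of a polynomial relation lie in the ideal -/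
theorem coeff_mem_of_syz {c : ℕ} {f : Fin c → R} (hf : H1 f)
    (G : Fin c → MvPolynomial (Fin c) R) (hsum : ∑ l, C (f l) * G l = 0) (i : Fin c)
    (N : Fin c →₀ ℕ) : coeff N (G i) ∈ Ideal.span (Set.range f) := by
  have hsyz : ∑ l, coeff N (G l) * f l = 0 := by
    have := congrArg (coeff N) hsum
    rw [coeff_sum, coeff_zero] at this
    rw [← this]
    refine Finset.sum_congr rfl fun l _ => ?_
    rw [coeff_C_mul, mul_comm]
  obtain ⟨t, -, -, hts⟩ := hf (fun l => coeff N (G l)) hsyz
  have := hts i
  simp only at this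
  rw [this]
  exact Ideal.sum_mem _ fun l _ => Ideal.mul_mem_left _ _ (Ideal.subset_span ⟨l, rfl⟩)

/-- the key step: a homogeneous polynomial vanishing at `f` -/
theorem exists_syz {c : ℕ} {f : Fin c → R} (hf : H1 f) :
    ∀ (n : ℕ) (F : MvPolynomial (Fin c) R), F.IsHomogeneous (n + 1) → eval f F = 0 →
      ∃ G : Fin c → MvPolynomial (Fin c) R, (∀ i, (G i).IsHomogeneous n) ∧
        F = ∑ i, X i * G i ∧ ∑ i, C (f i) * G i = 0 := by
  intro n
  induction n with
  | zero =>
    intro F hF hev
    obtain ⟨F', hF', hFe⟩ := Rees.exists_sum_X_mul 0 F hF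
    refine ⟨F', hF', hFe, ?_⟩
    set P := ∑ i, C (f i) * F' i with hP
    have hPhom : P.IsHomogeneous 0 := IsHomogeneous.sum _ _ _ fun i _ => (hF' i).C_mul _
    have hPev : eval f P = 0 := by
      rw [hP, map_sum, ← hev, hFe, map_sum]
      refine Finset.sum_congr rfl fun i _ => ?_
      rw [map_mul, map_mul, eval_C, eval_X]
    have hPC : P = C (coeff 0 P) :=
      totalDegree_eq_zero_iff_eq_C.1 ((totalDegree_zero_iff_isHomogeneous _).2 hPhom)
    rw [hPC, eval_C] at hPev
    rw [hPC, hPev, C_0]
  | succ n ih =>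
    intro F hF hev
    obtain ⟨F', hF', hFe⟩ := Rees.exists_sum_X_mul (n + 1) F hF
    set P := ∑ i, C (f i) * F' i with hP
    have hPhom : P.IsHomogeneous (n + 1) :=
      IsHomogeneous.sum _ _ _ fun i _ => (hF' i).C_mul _
    have hPev : eval f P = 0 := by
      rw [hP, map_sum, ← hev, hFe, map_sum]
      refine Finset.sum_congr rfl fun i _ => ?_
      rw [map_mul, map_mul, eval_C, eval_X]
    obtain ⟨H, hH, hPH, hHsum⟩ := ih P hPhom hPev
    obtain ⟨T, hT, hT0, hTa, hTs⟩ := exists_alt_poly hf n H hH hHsum
    refine ⟨fun i => F' i + ∑ l, T i l * X l, ?_, ?_, ?_⟩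
    · intro i
      refine (hF' i).add (IsHomogeneous.sum _ _ _ fun l _ => ?_)
      exact (hT i l).mul (isHomogeneous_X _ _)
    · have hz : ∑ i, ∑ l, X i * (T i l * X l) = 0 := by
        apply alt_sum_zero
        · intro i
          rw [hT0, zero_mul, mul_zero]
        · intro i j
          rw [hTa i j]
          ring
      simp only [mul_add, Finset.sum_add_distrib, Finset.mul_sum]
      rw [hz, add_zero]
      exact hFe
    · simp only [mul_add, Finset.sum_add_distrib, Finset.mul_sum]
      rw [← hP, hPH, Finset.sum_comm, ← Finset.sum_add_distrib]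
      refine Finset.sum_eq_zero fun l _ => ?_
      rw [hTs l, Finset.mul_sum, ← Finset.sum_add_distrib]
      refine Finset.sum_eq_zero fun i _ => ?_
      rw [hTa l i]
      ring

theorem qr_of_h1 {c : ℕ} {f : Fin c → R} (hf : H1 f) : CAlgX.IsQuasiRegular f := by
  classical
  intro n P hP hev d
  rcases n with _ | n
  · have hPC : P = C (coeff 0 P) :=
      totalDegree_eq_zero_iff_eq_C.1 ((totalDegree_zero_iff_isHomogeneous _).2 hP)
    rw [hPC, eval_C, zero_add, pow_one] at hev
    rw [hPC, coeff_C]
    split_ifs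
    · exact hev
    · exact Ideal.zero_mem _
  · obtain ⟨Q', hQ', hQ'e⟩ := (Ideal.mem_span_pow_iff_exists_isHomogeneous _ _).1 hev
    obtain ⟨q, hq, hqe⟩ := Rees.exists_sum_X_mul (n + 1) Q' hQ'
    set Q := ∑ i, C (f i) * q i with hQ
    have hQhom : Q.IsHomogeneous (n + 1) := IsHomogeneous.sum _ _ _ fun i _ => (hq i).C_mul _
    have hQev : eval f Q = eval f P := by
      rw [← hQ'e, hqe, hQ, map_sum, map_sum]
      refine Finset.sum_congr rfl fun i _ => ?_
      rw [map_mul, map_mul, eval_C, eval_X]
    have hQcoeff : ∀ d, coeff d Q ∈ Ideal.span (Set.range f) := by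
      intro d
      rw [hQ, coeff_sum]
      refine Ideal.sum_mem _ fun i _ => ?_
      rw [coeff_C_mul]
      exact Ideal.mul_mem_right _ _ (Ideal.subset_span ⟨i, rfl⟩)
    obtain ⟨G, hG, hFG, hGsum⟩ := exists_syz hf n (P - Q) (hP.sub hQhom) (by
      rw [map_sub, hQev, sub_self])
    have hFcoeff : coeff d (P - Q) ∈ Ideal.span (Set.range f) := by
      rw [hFG, coeff_sum]
      refine Ideal.sum_mem _ fun i _ => ?_
      rw [coeff_X_mul']
      split_ifs
      · exact coeff_mem_of_syz hf G hGsum i _
      · exact Ideal.zero_mem _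
    have : coeff d P = coeff d (P - Q) + coeff d Q := by
      rw [coeff_sub]
      ring
    rw [this]
    exact Ideal.add_mem _ hFcoeff (hQcoeff d)

end Groth.Agent.Helper26.H1QR
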