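import Mathlib
import Groth.Prelude.Def_CAlgX
import Groth.Agent.Lib.Helper3.FlatExact

/-!
# Quasi-regular sequences with flat quotient: the graded pieces (helper26)
-/

set_option autoImplicit false
universe u

namespace Groth.Agent.Helper26.BCQR

open MvPolynomial

variable {A B : Type u} [CommRing A] [CommRing B] [Algebra A B] {r : ℕ} (f : Fin r → B)

/-- exponents of degree `n` -/
abbrev E (r n : ℕ) : Type := {d : Fin r →₀ ℕ // d.degree = n}

/-- the monomial `f ^ d` -/
noncomputable def fpow (d : Fin r →₀ ℕ) : B := eval f (monomial d (1 : B))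

theorem fpow_mem {n : ℕ} (d : E r n) : fpow f d.1 ∈ Ideal.span (Set.range f) ^ n :=
  (Ideal.mem_span_pow_iff_exists_isHomogeneous _ _).2
    ⟨monomial d.1 1, isHomogeneous_monomial _ d.2, rfl⟩

/-- `(b_d) ↦ Σ b_d f^d` modulo `J^(n+1)` -/
noncomputable def Ψ (n : ℕ) : (E r n →₀ B) →ₗ[B] B ⧸ Ideal.span (Set.range f) ^ (n + 1) :=
  Finsupp.linearCombination B (fun d : E r n => Ideal.Quotient.mk _ (fpow f d.1))

theorem Ψ_single (n : ℕ) (d : E r n) (b : B) :
    Ψ f n (Finsupp.single d b) = Ideal.Quotient.mk _ (b * fpow f d.1) := by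
  unfold Ψ
  rw [Finsupp.linearCombination_single]
  rfl

/-- the polynomial with given coefficients -/
noncomputable def toPoly {n : ℕ} (y : E r n →₀ B) : MvPolynomial (Fin r) B :=
  y.sum fun d b => monomial d.1 b

theorem toPoly_isHomogeneous {n : ℕ} (y : E r n →₀ B) : (toPoly y).IsHomogeneous n := by
  unfold toPoly
  refine IsHomogeneous.sum _ _ _ fun d _ => ?_
  exact isHomogeneous_monomial _ d.2

theorem coeff_toPoly {n : ℕ} (y : E r n →₀ B) (d : E r n) : coeff d.1 (toPoly y) = y d := by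
  classical
  unfold toPoly
  rw [Finsupp.sum, coeff_sum]
  simp only [coeff_monomial]
  rw [Finset.sum_eq_single d]
  · simp
  · intro d' _ hne
    rw [if_neg]
    intro h
    exact hne (Subtype.ext h)
  · intro hd
    rw [Finsupp.notMem_support_iff] at hd
    simp [hd]

theorem mk_eval_toPoly {n : ℕ} (y : E r n →₀ B) :
    Ideal.Quotient.mk (Ideal.span (Set.range f) ^ (n + 1)) (eval f (toPoly y)) = Ψ f n y := by
  induction y using Finsupp.induction_linear with
  | zero => simp [toPoly]
  | add x y hx hy =>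
    have : toPoly (x + y) = toPoly x + toPoly y := by
      unfold toPoly
      rw [Finsupp.sum_add_index']
      · intro d; simp
      · intro d b c; simp
    rw [this, map_add, map_add, map_add, hx, hy]
  | single d b =>
    rw [Ψ_single]
    unfold toPoly
    rw [Finsupp.sum_single_index (by simp)]
    unfold fpow
    rw [← mul_one b, ← C_mul_monomial, map_mul, eval_C, mul_one]

variable (A) in
/-- reduction of coefficients modulo `J` -/
noncomputable def q (n : ℕ) : (E r n →₀ B) →ₗ[A] (E r n →₀ B ⧸ Ideal.span (Set.range f)) :=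
  Finsupp.mapRange.linearMap ((Ideal.Quotient.mkₐ A (Ideal.span (Set.range f))).toLinearMap)

theorem q_surjective (n : ℕ) : Function.Surjective (q A f n) := by
  intro x
  induction x using Finsupp.induction_linear with
  | zero => exact ⟨0, map_zero _⟩
  | add x y hx hy =>
    obtain ⟨a, rfl⟩ := hx
    obtain ⟨b, rfl⟩ := hy
    exact ⟨a + b, map_add _ _ _⟩
  | single d b =>
    obtain ⟨b', rfl⟩ := Ideal.Quotient.mk_surjective b
    refine ⟨Finsupp.single d b', ?_⟩
    unfold q
    rw [Finsupp.mapRange.linearMap_apply, Finsupp.mapRange_single]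
    rfl

theorem q_apply (n : ℕ) (y : E r n →₀ B) (d : E r n) :
    q A f n y d = Ideal.Quotient.mk _ (y d) := rfl

theorem q_eq_zero_iff (n : ℕ) (y : E r n →₀ B) :
    q A f n y = 0 ↔ ∀ d, y d ∈ Ideal.span (Set.range f) := by
  constructor
  · intro h d
    have := DFunLike.congr_fun h d
    rw [q_apply, Finsupp.zero_apply, Ideal.Quotient.eq_zero_iff_mem] at this
    exact this
  · intro h
    ext d
    rw [q_apply, Finsupp.zero_apply, Ideal.Quotient.eq_zero_iff_mem]
    exact h d

/-- `Ψ` kills the kernel of `q` -/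
theorem Ψ_eq_zero_of_q_eq_zero (n : ℕ) (y : E r n →₀ B) (h : q A f n y = 0) : Ψ f n y = 0 := by
  rw [q_eq_zero_iff] at h
  unfold Ψ
  rw [Finsupp.linearCombination_apply, Finsupp.sum]
  refine Finset.sum_eq_zero fun d _ => ?_
  have : y d • Ideal.Quotient.mk (Ideal.span (Set.range f) ^ (n + 1)) (fpow f d.1) =
      Ideal.Quotient.mk _ (y d * fpow f d.1) := rfl
  rw [this, Ideal.Quotient.eq_zero_iff_mem, pow_succ']
  exact Ideal.mul_mem_mul (h d) (fpow_mem f d)

variable (A) in
/-- the induced map on `(B/J)^(E_n)` -/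
noncomputable def ψ (n : ℕ) :
    (E r n →₀ B ⧸ Ideal.span (Set.range f)) →ₗ[A] B ⧸ Ideal.span (Set.range f) ^ (n + 1) :=
  ((LinearMap.ker (q A f n)).liftQ ((Ψ f n).restrictScalars A)
      (fun y hy => Ψ_eq_zero_of_q_eq_zero f n y (LinearMap.mem_ker.1 hy))) ∘ₗ
    ((q A f n).quotKerEquivOfSurjective (q_surjective f n)).symm.toLinearMap

theorem ψ_q (n : ℕ) (y : E r n →₀ B) : ψ A f n (q A f n y) = Ψ f n y := by
  unfold ψ
  have : ((q A f n).quotKerEquivOfSurjective (q_surjective f n)).symm (q A f n y) =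
      Submodule.Quotient.mk y := by
    rw [LinearEquiv.symm_apply_eq]
    rfl
  rw [LinearMap.comp_apply, LinearEquiv.coe_coe, this]
  rfl

theorem ψ_injective (hq : CAlgX.IsQuasiRegular f) (n : ℕ) : Function.Injective (ψ A f n) := by
  rw [injective_iff_map_eq_zero]
  intro x hx
  obtain ⟨y, rfl⟩ := q_surjective (A := A) f n x
  rw [ψ_q, ← mk_eval_toPoly, Ideal.Quotient.eq_zero_iff_mem] at hx
  rw [q_eq_zero_iff]
  intro d
  have := hq n (toPoly y) (toPoly_isHomogeneous y) hx d.1
  rwa [coeff_toPoly] at this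

variable (A) in
/-- the projection `B/J^(n+1) → B/J^n` -/
noncomputable def π (n : ℕ) :
    (B ⧸ Ideal.span (Set.range f) ^ (n + 1)) →ₗ[A] B ⧸ Ideal.span (Set.range f) ^ n :=
  (Ideal.Quotient.factorₐ A (Ideal.pow_le_pow_right (Nat.le_succ n))).toLinearMap

theorem π_mk (n : ℕ) (b : B) :
    π A f n (Ideal.Quotient.mk _ b) = Ideal.Quotient.mk _ b := rfl

theorem π_surjective (n : ℕ) : Function.Surjective (π A f n) := by
  intro z
  obtain ⟨b, rfl⟩ := Ideal.Quotient.mk_surjective z
  exact ⟨Ideal.Quotient.mk _ b, rfl⟩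

theorem exact_ψ_π (n : ℕ) : Function.Exact (ψ A f n) (π A f n) := by
  classical
  intro z
  constructor
  · intro hz
    obtain ⟨b, rfl⟩ := Ideal.Quotient.mk_surjective z
    rw [π_mk, Ideal.Quotient.eq_zero_iff_mem] at hz
    obtain ⟨P, hP, hPe⟩ := (Ideal.mem_span_pow_iff_exists_isHomogeneous _ _).1 hz
    have hdeg : ∀ d ∈ P.support, d.degree = n := by
      intro d hd
      rw [Finsupp.degree_eq_weight_one]
      exact hP (mem_support_iff.1 hd)
    let y : E r n →₀ B := ∑ d ∈ P.support.attach, Finsupp.single ⟨d.1, hdeg d.1 d.2⟩ (coeff d.1 P)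
    refine ⟨q A f n y, ?_⟩
    rw [ψ_q, ← hPe]
    change Ψ f n (∑ d ∈ P.support.attach, Finsupp.single ⟨d.1, hdeg d.1 d.2⟩ (coeff d.1 P)) = _
    rw [map_sum]
    simp only [Ψ_single]
    rw [← map_sum]
    congr 1
    rw [Finset.sum_attach P.support (fun d => coeff d P * fpow f d)]
    conv_rhs => rw [P.as_sum, map_sum]
    refine Finset.sum_congr rfl fun d _ => ?_
    unfold fpow
    rw [← mul_one (coeff d P), ← C_mul_monomial, map_mul, eval_C, mul_one]
  · rintro ⟨x, rfl⟩
    obtain ⟨y, rfl⟩ := q_surjective (A := A) f n x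
    rw [ψ_q, ← mk_eval_toPoly, π_mk, Ideal.Quotient.eq_zero_iff_mem]
    exact (Ideal.mem_span_pow_iff_exists_isHomogeneous _ _).2
      ⟨toPoly y, toPoly_isHomogeneous y, rfl⟩

theorem flat_finsupp [Module.Flat A (B ⧸ Ideal.span (Set.range f))] (n : ℕ) :
    Module.Flat A (E r n →₀ B ⧸ Ideal.span (Set.range f)) := by
  classical
  exact Module.Flat.of_linearEquiv
    (finsuppLEquivDirectSum A (B ⧸ Ideal.span (Set.range f)) (E r n))

theorem flat_quotient_pow [Module.Flat A (B ⧸ Ideal.span (Set.range f))]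
    (hq : CAlgX.IsQuasiRegular f) (n : ℕ) : Module.Flat A (B ⧸ Ideal.span (Set.range f) ^ n) := by
  induction n with
  | zero =>
    have : Subsingleton (B ⧸ Ideal.span (Set.range f) ^ 0) := by
      rw [pow_zero, Ideal.one_eq_top]
      exact Ideal.Quotient.subsingleton_iff.2 rfl
    infer_instance
  | succ n ih =>
    have := flat_finsupp (A := A) f n
    exact Groth.Agent.Helper3.FlatExact.flat_of_exact_mid (ψ A f n) (π A f n)
      (ψ_injective f hq n) (π_surjective f n) (exact_ψ_π f n)

theorem lTensor_ψ_injective [Module.Flat A (B ⧸ Ideal.span (Set.range f))]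
    (hq : CAlgX.IsQuasiRegular f) (n : ℕ) (A' : Type u) [AddCommGroup A'] [Module A A'] :
    Function.Injective ((ψ A f n).lTensor A') := by
  have := flat_quotient_pow (A := A) f hq n
  exact LinearMap.lTensor_injective_of_exact_of_flat (π A f n) (π_surjective f n) (ψ A f n)
    (ψ_injective f hq n) (exact_ψ_π f n) A'

end Groth.Agent.Helper26.BCQR
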