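import Mathlib
import Groth.Prelude.Def_CAlgX
import Groth.Agent.Lib.Helper26.BCQR1

/-!
# Base change of quasi-regular sequences with flat quotient (helper26)
-/

set_option autoImplicit false
universe u

namespace Groth.Agent.Helper26.BCQR

open MvPolynomial TensorProduct

variable {A B : Type u} [CommRing A] [CommRing B] [Algebra A B] {r : ℕ} (f : Fin r → B)
variable (A' : Type u) [CommRing A'] [Algebra A A']

/-- the base-changed sequence -/
def f' : Fin r → A' ⊗[A] B := fun i => (1 : A') ⊗ₜ[A] f i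

theorem span_f' : Ideal.span (Set.range (f' f A')) =
    Ideal.map (Algebra.TensorProduct.includeRight : B →ₐ[A] A' ⊗[A] B)
      (Ideal.span (Set.range f)) := by
  rw [Ideal.map_span]
  congr 1
  ext x
  constructor
  · rintro ⟨i, rfl⟩
    exact ⟨f i, ⟨i, rfl⟩, rfl⟩
  · rintro ⟨_, ⟨i, rfl⟩, rfl⟩
    exact ⟨i, rfl⟩

theorem fpow_f' (d : Fin r →₀ ℕ) :
    fpow (f' f A') d = (1 : A') ⊗ₜ[A] fpow f d := by
  unfold fpow
  rw [eval_monomial, eval_monomial, one_mul, one_mul]
  have : ∀ b : B, ((1 : A') ⊗ₜ[A] b : A' ⊗[A] B) =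
      (Algebra.TensorProduct.includeRight : B →ₐ[A] A' ⊗[A] B) b := fun b => rfl
  rw [this, map_finsuppProd]
  refine Finsupp.prod_congr fun i _ => ?_
  rw [map_pow]
  rfl

/-- reduction modulo `J^k` on the right factor -/
noncomputable def κ (k : ℕ) : A' ⊗[A] B →ₗ[A] A' ⊗[A] (B ⧸ Ideal.span (Set.range f) ^ k) :=
  ((Ideal.Quotient.mkₐ A (Ideal.span (Set.range f) ^ k)).toLinearMap).lTensor A'

theorem κ_eq_zero (k : ℕ) (z : A' ⊗[A] B) (hz : z ∈ Ideal.span (Set.range (f' f A')) ^ k) :
    κ f A' k z = 0 := by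
  let K : A' ⊗[A] B →ₐ[A] A' ⊗[A] (B ⧸ Ideal.span (Set.range f) ^ k) :=
    Algebra.TensorProduct.map (AlgHom.id A A') (Ideal.Quotient.mkₐ A (Ideal.span (Set.range f) ^ k))
  have hK : ∀ z, κ f A' k z = K z := by
    intro z
    induction z using TensorProduct.induction_on with
    | zero => simp
    | tmul a b => rfl
    | add x y hx hy => rw [map_add, map_add, hx, hy]
  rw [hK]
  have hle : Ideal.span (Set.range (f' f A')) ^ k ≤ RingHom.ker (K.toRingHom) := by
    rw [span_f', ← Ideal.map_pow, Ideal.map_le_iff_le_comap]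
    intro b hb
    rw [Ideal.mem_comap, RingHom.mem_ker]
    change K ((1 : A') ⊗ₜ[A] b) = 0
    rw [Algebra.TensorProduct.map_tmul]
    have : (Ideal.Quotient.mkₐ A (Ideal.span (Set.range f) ^ k)) b = 0 :=
      Ideal.Quotient.eq_zero_iff_mem.2 hb
    rw [this, tmul_zero]
  exact hle hz

theorem mem_span_f'_of_lTensor_eq_zero (z : A' ⊗[A] B)
    (hz : ((Ideal.Quotient.mkₐ A (Ideal.span (Set.range f))).toLinearMap).lTensor A' z = 0) :
    z ∈ Ideal.span (Set.range (f' f A')) := by
  set J := Ideal.span (Set.range f) with hJ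
  have hex : Function.Exact ((J.restrictScalars A).subtype)
      ((Ideal.Quotient.mkₐ A J).toLinearMap) := by
    intro b
    constructor
    · intro hb
      exact ⟨⟨b, Ideal.Quotient.eq_zero_iff_mem.1 hb⟩, rfl⟩
    · rintro ⟨⟨j, hj⟩, rfl⟩
      exact Ideal.Quotient.eq_zero_iff_mem.2 hj
  have hsurj : Function.Surjective ((Ideal.Quotient.mkₐ A J).toLinearMap) :=
    Ideal.Quotient.mk_surjective
  have := (lTensor_exact A' hex hsurj z).1 hz
  obtain ⟨w, rfl⟩ := this
  clear hz
  induction w using TensorProduct.induction_on with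
  | zero => simp
  | tmul a j =>
    rw [LinearMap.lTensor_tmul]
    have : (a ⊗ₜ[A] ((J.restrictScalars A).subtype j) : A' ⊗[A] B) =
        (a ⊗ₜ[A] (1 : B)) * ((1 : A') ⊗ₜ[A] (j : B)) := by
      rw [Algebra.TensorProduct.tmul_mul_tmul, mul_one, one_mul]
      rfl
    rw [this, span_f']
    exact Ideal.mul_mem_left _ _ (Ideal.mem_map_of_mem _ j.2)
  | add x y hx hy =>
    rw [map_add]
    exact Ideal.add_mem _ hx hy

/-- evaluation of a coefficient family at `f'` -/
noncomputable def ev' {n : ℕ} (c : E r n →₀ A' ⊗[A] B) : A' ⊗[A] B :=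
  c.sum fun e b => b * fpow (f' f A') e.1

theorem ev'_add {n : ℕ} (c c' : E r n →₀ A' ⊗[A] B) :
    ev' f A' (c + c') = ev' f A' c + ev' f A' c' := by
  unfold ev'
  rw [Finsupp.sum_add_index']
  · intro e; simp
  · intro e b b'; rw [add_mul]

theorem ev'_single {n : ℕ} (e : E r n) (b : A' ⊗[A] B) :
    ev' f A' (Finsupp.single e b) = b * fpow (f' f A') e.1 := by
  unfold ev'
  rw [Finsupp.sum_single_index (by simp)]

theorem lTensor_Ψ (n : ℕ) (x : A' ⊗[A] (E r n →₀ B)) :
    ((Ψ f n).restrictScalars A).lTensor A' x =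
      κ f A' (n + 1) (ev' f A' (TensorProduct.finsuppRight A A A' B (E r n) x)) := by
  induction x using TensorProduct.induction_on with
  | zero => simp [ev']
  | add x y hx hy => rw [map_add, map_add, ev'_add, map_add, hx, hy]
  | tmul a y =>
    induction y using Finsupp.induction_linear with
    | zero => simp [ev']
    | add y z hy hz =>
      rw [tmul_add, map_add, map_add, ev'_add, map_add, hy, hz]
    | single e b =>
      rw [LinearMap.lTensor_tmul, TensorProduct.finsuppRight_tmul_single, ev'_single, fpow_f',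
        Algebra.TensorProduct.tmul_mul_tmul, mul_one]
      change a ⊗ₜ[A] (Ψ f n (Finsupp.single e b)) = _
      rw [Ψ_single]
      rfl

end Groth.Agent.Helper26.BCQR
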