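import Mathlib
import Groth.Prelude.Def_RegImm

universe u

namespace Groth.Agent.Lib.Helper26.SyntLoc

open TensorProduct

section field

variable {k : Type u} [Field k]

theorem isGlobalCI_of_algEquiv {T₁ T₂ : Type u} [CommRing T₁] [CommRing T₂] [Algebra k T₁]
    [Algebra k T₂] (e : T₁ ≃ₐ[k] T₂) (h : Synt.IsGlobalCI k T₁) : Synt.IsGlobalCI k T₂ := by
  rcases h with hs | ⟨n, c, hcn, φ, r, hφ, hker, hdim⟩
  · exact Or.inl e.symm.toEquiv.subsingleton
  · refine Or.inr ⟨n, c, hcn, e.toAlgHom.comp φ, r, ?_, ?_, ?_⟩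
    · exact e.surjective.comp hφ
    · rw [← hker]
      ext x
      simp only [RingHom.mem_ker]
      change e (φ x) = 0 ↔ φ x = 0
      exact map_eq_zero_iff e e.injective
    · rw [← ringKrullDim_eq_of_ringEquiv e.toRingEquiv]
      exact hdim

theorem exists_away_isGlobalCI {T T' : Type u} [CommRing T] [CommRing T'] [Algebra k T]
    [Algebra k T'] [Algebra T T'] [IsScalarTower k T T'] (g : T) [IsLocalization.Away g T']
    (hT' : Synt.IsLCIOver k T') (q : PrimeSpectrum T) (hg : g ∉ q.asIdeal) :
    ∃ h : T, h ∉ q.asIdeal ∧ Synt.IsGlobalCI k (Localization.Away h) := by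
  have hdisj : Disjoint ((Submonoid.powers g : Submonoid T) : Set T) (q.asIdeal : Set T) := by
    rw [Ideal.disjoint_powers_iff_notMem _ q.2.isRadical]
    exact hg
  have hq'prime : (q.asIdeal.map (algebraMap T T')).IsPrime :=
    IsLocalization.isPrime_of_isPrime_disjoint (Submonoid.powers g) T' q.asIdeal q.2 hdisj
  have hcomap : (q.asIdeal.map (algebraMap T T')).comap (algebraMap T T') = q.asIdeal :=
    IsLocalization.under_map_of_isPrime_disjoint (Submonoid.powers g) T' q.2 hdisj
  obtain ⟨h', hh'q, hCI⟩ := hT'.2 ⟨q.asIdeal.map (algebraMap T T'), hq'prime⟩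
  obtain ⟨N, t, ht⟩ := IsLocalization.Away.surj g h'
  have hu : IsUnit ((algebraMap T T' g) ^ N) :=
    (IsLocalization.Away.algebraMap_isUnit g).pow N
  have htq : t ∉ q.asIdeal := by
    intro htq
    apply hh'q
    change h' ∈ q.asIdeal.map (algebraMap T T')
    have h1 : algebraMap T T' t ∈ q.asIdeal.map (algebraMap T T') := Ideal.mem_map_of_mem _ htq
    rw [← ht] at h1
    exact (Ideal.mul_unit_mem_iff_mem _ hu).mp h1
  have hassoc : Associated (algebraMap T T' t) h' := by
    refine Associated.symm ⟨hu.unit, ?_⟩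
    rw [IsUnit.unit_spec]
    exact ht
  have : IsLocalization.Away (g * t) (Localization.Away h') :=
    IsLocalization.Away.mul_of_associated g t h' hassoc
  refine ⟨g * t, fun hmem => ?_, ?_⟩
  · rcases q.2.mem_or_mem hmem with h1 | h1
    · exact hg h1
    · exact htq h1
  · let e : Localization.Away (g * t) ≃ₐ[T] Localization.Away h' :=
      IsLocalization.algEquiv (Submonoid.powers (g * t)) _ _
    have : IsScalarTower k T (Localization.Away h') :=
      IsScalarTower.of_algebraMap_eq fun x => by
        rw [IsScalarTower.algebraMap_apply k T' (Localization.Away h'),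
          IsScalarTower.algebraMap_apply k T T',
          ← IsScalarTower.algebraMap_apply T T' (Localization.Away h')]
    exact isGlobalCI_of_algEquiv (e.restrictScalars k).symm hCI

end field

section main

variable (R S : Type u) [CommRing R] [CommRing S] [Algebra R S]

theorem fibre_lci (p : PrimeSpectrum R) (hft : Algebra.FiniteType R S) (s : Finset S)
    (hs : Ideal.span (s : Set S) = ⊤)
    (h : ∀ g ∈ s, Synt.IsLCIOver p.asIdeal.ResidueField (p.asIdeal.Fiber (Localization.Away g))) :
    Synt.IsLCIOver p.asIdeal.ResidueField (p.asIdeal.Fiber S) := by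
  refine ⟨inferInstance, fun q => ?_⟩
  -- find g
  have hex : ∃ g ∈ s, (1 : p.asIdeal.ResidueField) ⊗ₜ[R] g ∉ q.asIdeal := by
    by_contra hcon
    push Not at hcon
    have h1 : Ideal.map (Algebra.TensorProduct.includeRight :
        S →ₐ[R] p.asIdeal.ResidueField ⊗[R] S).toRingHom (Ideal.span (s : Set S)) ≤ q.asIdeal := by
      rw [Ideal.map_span, Ideal.span_le]
      rintro _ ⟨g, hg, rfl⟩
      exact hcon g hg
    rw [hs, Ideal.map_top] at h1
    exact q.2.ne_top (top_le_iff.mp h1)
  obtain ⟨g, hgs, hgq⟩ := hex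
  let φ : p.asIdeal.ResidueField ⊗[R] S →ₐ[p.asIdeal.ResidueField]
      p.asIdeal.ResidueField ⊗[R] Localization.Away g :=
    Algebra.TensorProduct.map (AlgHom.id _ _) (IsScalarTower.toAlgHom R S (Localization.Away g))
  let _ : Algebra (p.asIdeal.ResidueField ⊗[R] S)
      (p.asIdeal.ResidueField ⊗[R] Localization.Away g) := φ.toRingHom.toAlgebra
  have htower : IsScalarTower p.asIdeal.ResidueField (p.asIdeal.ResidueField ⊗[R] S)
      (p.asIdeal.ResidueField ⊗[R] Localization.Away g) :=
    IsScalarTower.of_algebraMap_eq fun x => (φ.commutes x).symm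
  have hloc : IsLocalization.Away ((1 : p.asIdeal.ResidueField) ⊗ₜ[R] g)
      (p.asIdeal.ResidueField ⊗[R] Localization.Away g) := by
    have := IsLocalization.tensorProduct_tensorProduct_right R p.asIdeal.ResidueField
      (Submonoid.powers g) (Localization.Away g) (by
        ext x
        change φ (1 ⊗ₜ x) = 1 ⊗ₜ (algebraMap S (Localization.Away g) x)
        simp [φ])
    rw [Submonoid.map_powers] at this
    exact this
  exact exists_away_isGlobalCI (k := p.asIdeal.ResidueField)
    (T := p.asIdeal.ResidueField ⊗[R] S)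
    (T' := p.asIdeal.ResidueField ⊗[R] Localization.Away g)
    ((1 : p.asIdeal.ResidueField) ⊗ₜ[R] g) (h g hgs) q hgq

theorem main (s : Finset S) (hs : Ideal.span (s : Set S) = ⊤)
    (h : ∀ g ∈ s, Synt.IsSyntomic R (Localization.Away g)) : Synt.IsSyntomic R S := by
  have hflat : Module.Flat R S := by
    rw [← RingHom.flat_algebraMap_iff]
    refine RingHom.Flat.ofLocalizationSpanTarget (algebraMap R S) (s : Set S) hs (fun r => ?_)
    rw [← IsScalarTower.algebraMap_eq]
    exact RingHom.flat_algebraMap_iff.mpr (h r.1 r.2).1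
  have hfp : Algebra.FinitePresentation R S := by
    rw [← RingHom.finitePresentation_algebraMap]
    refine RingHom.finitePresentation_ofLocalizationSpanTarget (algebraMap R S) (s : Set S) hs
      (fun r => ?_)
    rw [← IsScalarTower.algebraMap_eq]
    exact RingHom.finitePresentation_algebraMap.mpr (h r.1 r.2).2.1
  refine ⟨hflat, hfp, fun p => ?_⟩
  exact fibre_lci R S p inferInstance s hs (fun g hg => (h g hg).2.2 p)

end main

end Groth.Agent.Lib.Helper26.SyntLoc
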