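import Mathlib

/-!
# Global complete intersection presentations: bookkeeping (helper26)
-/

set_option autoImplicit false

namespace Groth.Agent.Helper26.GCI

universe u

open Algebra

/-- `T` has a presentation over `k` by `n` generators and `c ≤ n` relations with `dim T = n - c`. -/
def GoodAlg (k T : Type u) [Field k] [CommRing T] [Algebra k T] : Prop :=
  ∃ n c : ℕ, Nonempty (Algebra.Presentation k T (Fin n) (Fin c)) ∧ c ≤ n ∧
    ringKrullDim T = ((n - c : ℕ) : WithBot ℕ∞)

variable {k : Type u} [Field k]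

theorem goodAlg_self : GoodAlg k k := by
  refine ⟨0, 0, ⟨(Algebra.Presentation.id.{0, 0} k).reindex
    (Equiv.equivOfIsEmpty (Fin 0) PEmpty.{1}) (Equiv.equivOfIsEmpty (Fin 0) PEmpty.{1})⟩,
    le_refl _, ?_⟩
  rw [ringKrullDim_eq_zero_of_field]
  rfl

theorem GoodAlg.comp {T T' : Type u} [CommRing T] [Algebra k T] [CommRing T'] [Algebra T T']
    [Algebra k T'] [IsScalarTower k T T'] (h : GoodAlg k T) {ι σ : Type} [Fintype ι] [Fintype σ]
    (Q : Algebra.Presentation T T' ι σ) (hσι : Fintype.card σ ≤ Fintype.card ι)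
    (hdim : ringKrullDim T' =
      ringKrullDim T + ((Fintype.card ι - Fintype.card σ : ℕ) : WithBot ℕ∞)) :
    GoodAlg k T' := by
  obtain ⟨n, c, ⟨P⟩, hcn, hd⟩ := h
  have e1 : Fintype.card (ι ⊕ Fin n) = Fintype.card ι + n := by simp
  have e2 : Fintype.card (σ ⊕ Fin c) = Fintype.card σ + c := by simp
  refine ⟨Fintype.card ι + n, Fintype.card σ + c,
    ⟨(Q.comp P).reindex (Fintype.equivFinOfCardEq e1).symm (Fintype.equivFinOfCardEq e2).symm⟩,
    by omega, ?_⟩
  rw [hdim, hd]
  have : Fintype.card ι + n - (Fintype.card σ + c) =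
      (n - c) + (Fintype.card ι - Fintype.card σ) := by omega
  rw [this]
  push_cast
  rfl

end Groth.Agent.Helper26.GCI
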