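import Mathlib
import Groth.Agent.Lib.Helper26.GCI1
import Groth.Agent.Lib.Helper18.DimFG

/-!
# Global complete intersections: general lemmas (helper26)
-/

set_option autoImplicit false

namespace Groth.Agent.Helper26.GCI

universe u

open Polynomial

/-- The dimension of a localization is at most the dimension of the ring. -/
theorem ringKrullDim_le_of_isLocalization {R : Type*} [CommRing R] (M : Submonoid R)
    (S : Type*) [CommRing S] [Algebra R S] [IsLocalization M S] :
    ringKrullDim S ≤ ringKrullDim R := by
  unfold ringKrullDim
  rw [Order.krullDim_eq_of_orderIso (IsLocalization.primeSpectrumOrderIso M S)]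
  exact Order.krullDim_le_of_strictMono Subtype.val (Subtype.strictMono_coe _)

/-- The presentation of `R[X]/(f)` by one generator and one relation. -/
noncomputable def adjoinRootPresentation {R : Type*} [CommRing R] (f : R[X]) :
    Algebra.Presentation R (AdjoinRoot f) Unit Unit := by
  have key : ∀ q : MvPolynomial Unit R,
      MvPolynomial.aeval (fun _ : Unit => AdjoinRoot.root f) q =
        AdjoinRoot.mk f (MvPolynomial.uniqueAlgEquiv R Unit q) := by
    intro q
    have : (MvPolynomial.aeval (fun _ : Unit => AdjoinRoot.root f) : MvPolynomial Unit R →ₐ[R] _) =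
        (AdjoinRoot.mkₐ f).comp (MvPolynomial.uniqueAlgEquiv R Unit).toAlgHom := by
      apply MvPolynomial.algHom_ext
      intro i
      simp
    rw [this]
    rfl
  refine
    { toGenerators := Algebra.Generators.ofSurjective (fun _ : Unit => AdjoinRoot.root f) ?_
      relation := fun _ => (MvPolynomial.uniqueAlgEquiv R Unit).symm f
      span_range_relation_eq_ker := ?_ }
  · intro x
    obtain ⟨g, rfl⟩ := AdjoinRoot.mk_surjective x
    refine ⟨(MvPolynomial.uniqueAlgEquiv R Unit).symm g, ?_⟩
    rw [key, AlgEquiv.apply_symm_apply]
  · rw [Algebra.Generators.ker_eq_ker_aeval_val]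
    ext x
    rw [Set.range_const, Ideal.mem_span_singleton, RingHom.mem_ker]
    change _ ↔ MvPolynomial.aeval (fun _ : Unit => AdjoinRoot.root f) x = 0
    rw [key, AdjoinRoot.mk_eq_zero]
    constructor
    · rintro ⟨c, rfl⟩
      rw [map_mul, AlgEquiv.apply_symm_apply]
      exact dvd_mul_right _ _
    · rintro ⟨c, hc⟩
      refine ⟨(MvPolynomial.uniqueAlgEquiv R Unit).symm c, ?_⟩
      rw [← map_mul, ← hc, AlgEquiv.symm_apply_apply]

variable {k : Type u} [Field k]

theorem GoodAlg.finitePresentation {T : Type u} [CommRing T] [Algebra k T] (h : GoodAlg k T) :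
    Algebra.FinitePresentation k T := by
  obtain ⟨n, c, ⟨P⟩, -, -⟩ := h
  exact P.finitePresentation_of_isFinite

theorem GoodAlg.finiteType {T : Type u} [CommRing T] [Algebra k T] (h : GoodAlg k T) :
    Algebra.FiniteType k T := by
  have := h.finitePresentation
  infer_instance

theorem GoodAlg.isNoetherianRing {T : Type u} [CommRing T] [Algebra k T] (h : GoodAlg k T) :
    IsNoetherianRing T := by
  have := h.finiteType
  exact Algebra.FiniteType.isNoetherianRing k T

end Groth.Agent.Helper26.GCI
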