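import Mathlib
import Groth.Agent.Lib.Helper26.GCI2

/-!
# Global complete intersections: the transcendental step (helper26)
-/

set_option autoImplicit false

namespace Groth.Agent.Helper26.GCI

universe u

open Polynomial

variable {k : Type u} [Field k] {K : Type u} [Field K] [Algebra k K]

theorem step_transcendental {T : Type u} [CommRing T] [Algebra k T]
    (ι : T →ₐ[k] K) (hT : GoodAlg k T) (y : K)
    (hy : ∀ p : Polynomial T, Polynomial.eval₂ (ι : T →+* K) y p = 0 → p = 0) :
    ∃ (T' : Type u) (_ : CommRing T') (_ : Algebra k T') (ι' : T' →ₐ[k] K),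
      Function.Injective ι' ∧ Set.range ι ⊆ Set.range ι' ∧ y ∈ Set.range ι' ∧ GoodAlg k T' := by
  let _ : Algebra T K := (ι : T →+* K).toAlgebra
  have : IsScalarTower k T K := IsScalarTower.of_algebraMap_eq (fun x => (ι.commutes x).symm)
  have hNoeth : IsNoetherianRing T := hT.isNoetherianRing
  let ι' : MvPolynomial Unit T →ₐ[k] K :=
    (MvPolynomial.aeval (fun _ : Unit => y) : MvPolynomial Unit T →ₐ[T] K).restrictScalars k
  refine ⟨MvPolynomial Unit T, inferInstance, inferInstance, ι', ?_, ?_, ?_, ?_⟩
  · -- injective
    have htr : Transcendental T y := by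
      rw [transcendental_iff]
      intro p hp
      exact hy p hp
    have : AlgebraicIndependent T (fun _ : Unit => y) :=
      algebraicIndependent_unique_type_iff.mpr htr
    exact this
  · rintro _ ⟨t, rfl⟩
    refine ⟨MvPolynomial.C t, ?_⟩
    change MvPolynomial.aeval (fun _ : Unit => y) (MvPolynomial.C t) = _
    rw [MvPolynomial.aeval_C]
    rfl
  · refine ⟨MvPolynomial.X (), ?_⟩
    change MvPolynomial.aeval (fun _ : Unit => y) (MvPolynomial.X ()) = _
    rw [MvPolynomial.aeval_X]
  · let Q : Algebra.Presentation T (MvPolynomial Unit T) Unit PEmpty.{1} :=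
      { toGenerators := Algebra.Generators.mvPolynomial T Unit
        relation := PEmpty.elim
        span_range_relation_eq_ker := by
          rw [Algebra.Generators.ker_mvPolynomial]
          simp }
    refine hT.comp Q (by simp) ?_
    rw [MvPolynomial.ringKrullDim_of_isNoetherianRing]
    simp

end Groth.Agent.Helper26.GCI
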