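import Mathlib
import Groth.Agent.Lib.Helper26.GCI3

/-!
# Global complete intersections: the algebraic step (helper26)
-/

set_option autoImplicit false

namespace Groth.Agent.Helper26.GCI

universe u

open Polynomial

variable {k : Type u} [Field k] {K : Type u} [Field K] [Algebra k K]

theorem step_algebraic {T : Type u} [CommRing T] [Algebra k T]
    (ι : T →ₐ[k] K) (hι : Function.Injective ι) (hT : GoodAlg k T) (y : K)
    (hy : ∃ p : Polynomial T, p ≠ 0 ∧ Polynomial.eval₂ (ι : T →+* K) y p = 0) :
    ∃ (T' : Type u) (_ : CommRing T') (_ : Algebra k T') (ι' : T' →ₐ[k] K),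
      Function.Injective ι' ∧ Set.range ι ⊆ Set.range ι' ∧ y ∈ Set.range ι' ∧ GoodAlg k T' := by
  classical
  have hdom : IsDomain T := Function.Injective.isDomain (ι : T →+* K) hι
  have hFT : Algebra.FiniteType k T := hT.finiteType
  -- a polynomial of minimal degree
  have hex : ∃ n : ℕ, ∃ p : Polynomial T, p ≠ 0 ∧ Polynomial.eval₂ (ι : T →+* K) y p = 0 ∧
      p.natDegree = n := by
    obtain ⟨p, hp0, hp⟩ := hy
    exact ⟨_, p, hp0, hp, rfl⟩
  obtain ⟨p, hp0, hpy, hpdeg⟩ := Nat.find_spec hex
  have hpmin : ∀ q : Polynomial T, q ≠ 0 → Polynomial.eval₂ (ι : T →+* K) y q = 0 →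
      p.natDegree ≤ q.natDegree := by
    intro q hq0 hq
    rw [hpdeg]
    exact Nat.find_min' hex ⟨q, hq0, hq, rfl⟩
  set b : T := p.leadingCoeff with hb
  have hb0 : b ≠ 0 := leadingCoeff_ne_zero.mpr hp0
  have hM : Submonoid.powers b ≤ nonZeroDivisors T :=
    powers_le_nonZeroDivisors_of_noZeroDivisors hb0
  have hdomb : IsDomain (Localization.Away b) :=
    IsLocalization.isDomain_localization hM
  have hinjb : Function.Injective (algebraMap T (Localization.Away b)) :=
    IsLocalization.injective _ hM
  have hunit : ∀ m : Submonoid.powers b, IsUnit (ι m) := by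
    rintro ⟨_, n, rfl⟩
    rw [isUnit_iff_ne_zero]
    simp only [map_pow]
    apply pow_ne_zero
    intro h0
    apply hb0
    apply hι
    rw [h0, map_zero]
  let ιb : Localization.Away b →ₐ[k] K :=
    IsLocalization.liftAlgHom (M := Submonoid.powers b) (f := ι) hunit
  have hιb_alg : ∀ t : T, ιb (algebraMap T _ t) = ι t := by
    intro t
    change IsLocalization.lift hunit (algebraMap T _ t) = _
    rw [IsLocalization.lift_eq]
    rfl
  have hιb_comp : (ιb : Localization.Away b →+* K).comp (algebraMap T (Localization.Away b)) =
      (ι : T →+* K) := by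
    ext t
    exact hιb_alg t
  have hιb : Function.Injective ιb := by
    change Function.Injective (IsLocalization.lift hunit)
    rw [IsLocalization.lift_injective_iff]
    intro x y
    constructor
    · intro h
      rw [hinjb h]
    · intro h
      have : ι x = ι y := h
      rw [hι this]
  -- `T_b` is good
  have hFTb0 : Algebra.FiniteType T (Localization.Away b) :=
    have := (Algebra.Presentation.localizationAway (Localization.Away b) b
      ).finitePresentation_of_isFinite
    inferInstance
  have hFTb : Algebra.FiniteType k (Localization.Away b) :=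
    Algebra.FiniteType.trans hFT hFTb0
  have hdimb : ringKrullDim (Localization.Away b) = ringKrullDim T := by
    apply le_antisymm
    · exact ringKrullDim_le_of_isLocalization (Submonoid.powers b) _
    · exact Groth.Agent.Helper18.DimFG.ringKrullDim_le_of_injective T (Localization.Away b)
        (IsScalarTower.toAlgHom k T (Localization.Away b)) hinjb
  have hTb : GoodAlg k (Localization.Away b) := by
    refine hT.comp (Algebra.Presentation.localizationAway (Localization.Away b) b) (by simp) ?_
    rw [hdimb]
    simp
  -- the monic polynomial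
  set P : Polynomial (Localization.Away b) :=
    C (IsLocalization.Away.invSelf b) * p.map (algebraMap T (Localization.Away b)) with hP
  have hlc : (p.map (algebraMap T (Localization.Away b))).leadingCoeff =
      algebraMap T (Localization.Away b) b := by
    rw [Polynomial.leadingCoeff_map_of_injective hinjb]
  have hmonic : P.Monic := by
    apply Polynomial.monic_C_mul_of_mul_leadingCoeff_eq_one
    rw [hlc, mul_comm]
    exact IsLocalization.Away.mul_invSelf b
  have hPdeg : P.natDegree = p.natDegree := by
    rw [hP, Polynomial.natDegree_C_mul_of_mul_ne_zero, Polynomial.natDegree_map_eq_of_injective hinjb]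
    rw [hlc, mul_comm, IsLocalization.Away.mul_invSelf b]
    exact one_ne_zero
  have hPy : Polynomial.eval₂ (ιb : Localization.Away b →+* K) y P = 0 := by
    rw [hP, Polynomial.eval₂_mul, Polynomial.eval₂_map, hιb_comp, hpy, mul_zero]
  -- small degree polynomials over `T_b` vanishing at `y` are zero
  have hsmall : ∀ r : Polynomial (Localization.Away b),
      Polynomial.eval₂ (ιb : Localization.Away b →+* K) y r = 0 → r.natDegree < p.natDegree →
        r = 0 := by
    intro r hr hdeg
    by_contra hr0
    set r0 := IsLocalization.integerNormalization (Submonoid.powers b) r with hr0def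
    have h1 : r0 ≠ 0 := by
      rw [hr0def, Ne, IsLocalization.integerNormalization_eq_zero_iff hM]
      exact hr0
    have h2 : Polynomial.eval₂ (ι : T →+* K) y r0 = 0 := by
      have := IsLocalization.integerNormalization_eval₂_eq_zero (Submonoid.powers b)
        (ιb : Localization.Away b →+* K) r hr
      rwa [hιb_comp] at this
    have h3 : r0.natDegree ≤ r.natDegree := by
      apply Polynomial.le_natDegree_of_mem_supp
      apply IsLocalization.integerNormalization_support (Submonoid.powers b) r
      exact Polynomial.natDegree_mem_support_of_nonzero h1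
    have h4 := hpmin r0 h1 h2
    omega
  -- the new algebra
  let ι' : AdjoinRoot P →ₐ[k] K := AdjoinRoot.liftAlgHom P ιb y hPy
  have hι'inj : Function.Injective ι' := by
    rw [injective_iff_map_eq_zero]
    intro z hz
    obtain ⟨g, rfl⟩ := AdjoinRoot.mk_surjective z
    rw [AdjoinRoot.liftAlgHom_mk] at hz
    rw [AdjoinRoot.mk_eq_zero, ← Polynomial.modByMonic_eq_zero_iff_dvd hmonic]
    apply hsmall
    · have h5 := Polynomial.modByMonic_add_div g P
      have h6 : Polynomial.eval₂ (ιb : Localization.Away b →+* K) y (g %ₘ P + P * (g /ₘ P)) = 0 := by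
        rw [h5]; exact hz
      rw [Polynomial.eval₂_add, Polynomial.eval₂_mul, hPy, zero_mul, add_zero] at h6
      exact h6
    · rw [← hPdeg]
      rcases subsingleton_or_nontrivial (Localization.Away b) with h | h
      · exact absurd (Subsingleton.elim (1 : Localization.Away b) 0) one_ne_zero
      · by_cases hg0 : g %ₘ P = 0
        · rw [hg0, Polynomial.natDegree_zero]
          by_contra hcon
          have : P.natDegree = 0 := by omega
          have hP1 : P = 1 := Polynomial.eq_one_of_monic_natDegree_zero hmonic this
          rw [hP1] at hPy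
          simp at hPy
        · exact Polynomial.natDegree_lt_natDegree hg0 (Polynomial.degree_modByMonic_lt g hmonic)
  refine ⟨AdjoinRoot P, inferInstance, inferInstance, ι', hι'inj, ?_, ?_, ?_⟩
  · rintro _ ⟨t, rfl⟩
    refine ⟨AdjoinRoot.of P (algebraMap T _ t), ?_⟩
    rw [AdjoinRoot.liftAlgHom_of, hιb_alg]
  · exact ⟨AdjoinRoot.root P, AdjoinRoot.liftAlgHom_root _ _ _ _⟩
  · have hfin : Module.Finite (Localization.Away b) (AdjoinRoot P) := hmonic.finite_adjoinRoot
    have hint : Algebra.IsIntegral (Localization.Away b) (AdjoinRoot P) :=
      Algebra.IsIntegral.of_finite _ _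
    have hinj' : Function.Injective (algebraMap (Localization.Away b) (AdjoinRoot P)) := by
      intro x1 x2 h
      apply hιb
      have e1 : ι' (algebraMap (Localization.Away b) (AdjoinRoot P) x1) = ιb x1 :=
        AdjoinRoot.liftAlgHom_of _ _ _ _ _
      have e2 : ι' (algebraMap (Localization.Away b) (AdjoinRoot P) x2) = ιb x2 :=
        AdjoinRoot.liftAlgHom_of _ _ _ _ _
      rw [← e1, ← e2, h]
    have hdim' := Groth.Agent.Helper7.IntDim.ringKrullDim_eq_of_isIntegral_of_injective
      (A := Localization.Away b) (B := AdjoinRoot P) hinj'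
    refine hTb.comp (adjoinRootPresentation P) (by simp) ?_
    rw [hdim']
    simp

end Groth.Agent.Helper26.GCI
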