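import Mathlib
import Groth.Prelude.Def_RegImm
import Groth.Agent.Lib.Helper26.GCI4

/-!
# Global complete intersections: every finite subset of a field extension lies in one (helper26)
-/

set_option autoImplicit false

namespace Groth.Agent.Helper26.GCI

universe u

open Polynomial

variable {k : Type u} [Field k] {K : Type u} [Field K] [Algebra k K]

theorem exists_stage (E : Finset K) :
    ∃ (T : Type u) (_ : CommRing T) (_ : Algebra k T) (ι : T →ₐ[k] K),
      Function.Injective ι ∧ (↑E : Set K) ⊆ Set.range ι ∧ GoodAlg k T := by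
  classical
  induction E using Finset.induction_on with
  | empty =>
    exact ⟨k, inferInstance, inferInstance, Algebra.ofId k K, (algebraMap k K).injective,
      by simp, goodAlg_self⟩
  | insert y E hy ih =>
    obtain ⟨T, _, _, ι, hι, hE, hT⟩ := ih
    have key : ∃ (T' : Type u) (_ : CommRing T') (_ : Algebra k T') (ι' : T' →ₐ[k] K),
        Function.Injective ι' ∧ Set.range ι ⊆ Set.range ι' ∧ y ∈ Set.range ι' ∧ GoodAlg k T' := by
      by_cases h : ∃ p : Polynomial T, p ≠ 0 ∧ Polynomial.eval₂ (ι : T →+* K) y p = 0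
      · exact step_algebraic ι hι hT y h
      · refine step_transcendental ι hT y ?_
        intro p hp
        by_contra hp0
        exact h ⟨p, hp0, hp⟩
    obtain ⟨T', _, _, ι', h1, h2, h3, h4⟩ := key
    refine ⟨T', inferInstance, inferInstance, ι', h1, ?_, h4⟩
    intro x hx
    rw [Finset.coe_insert] at hx
    rcases hx with rfl | hx
    · exact h3
    · exact h2 (hE hx)

theorem isGlobalCI_of_goodAlg {T A : Type u} [CommRing T] [Algebra k T] [CommRing A] [Algebra k A]
    (e : T ≃ₐ[k] A) (hT : GoodAlg k T) : Synt.IsGlobalCI k A := by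
  obtain ⟨n, c, ⟨P⟩, hcn, hd⟩ := hT
  right
  refine ⟨n, c, hcn, e.toAlgHom.comp (MvPolynomial.aeval P.val), P.relation, ?_, ?_, ?_⟩
  · exact e.surjective.comp P.aeval_val_surjective
  · rw [P.span_range_relation_eq_ker, Algebra.Generators.ker_eq_ker_aeval_val]
    ext x
    simp only [RingHom.mem_ker]
    change e (MvPolynomial.aeval P.val x) = 0 ↔ _
    rw [map_eq_zero_iff e e.injective]
  · rw [← hd]
    exact (ringKrullDim_eq_of_ringEquiv e.toRingEquiv).symm

theorem main (k : Type u) [Field k] (K : Type u) [Field K] [Algebra k K] (E : Finset K) :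
    ∃ A : Subalgebra k K, (↑E : Set K) ⊆ (A : Set K) ∧ Synt.IsGlobalCI k A := by
  obtain ⟨T, _, _, ι, hι, hE, hT⟩ := exists_stage (k := k) E
  refine ⟨ι.range, ?_, isGlobalCI_of_goodAlg (AlgEquiv.ofInjective ι hι) hT⟩
  intro x hx
  exact hE hx

end Groth.Agent.Helper26.GCI
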