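import Mathlib
import Groth.Prelude.Def_RegImm
import Groth.Agent.Lib.Helper6.QReg
import Groth.Agent.Lib.Helper26.BCQR1

set_option autoImplicit false

namespace Groth.Agent.Helper26.TransReg

open TensorProduct

universe u

section General

variable {R S : Type*} [CommRing R] [CommRing S] [Algebra R S]

/-- Localisation of an `S`-module which is `R`-flat is `R`-flat. -/
theorem flat_of_isLocalizedModule (p : Submonoid S) {M M' : Type*} [AddCommMonoid M] [AddCommMonoid M']
    [Module R M] [Module S M] [IsScalarTower R S M] [Module R M'] [Module S M']
    [IsScalarTower R S M'] (f : M →ₗ[S] M') [IsLocalizedModule p f] [Module.Flat R M] :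
    Module.Flat R M' := by
  have H := (Module.Flat.iff_lTensor_injectiveₛ (R := R) (M := M)).1 inferInstance
  rw [Module.Flat.iff_lTensor_injectiveₛ]
  intro P _ _ N
  have h1 := H N
  rw [← AlgebraTensorModule.coe_lTensor (A := S)] at h1 ⊢
  have h2 := IsLocalizedModule.map_injective p (AlgebraTensorModule.rTensor R _ f)
    (AlgebraTensorModule.rTensor R _ f) (AlgebraTensorModule.lTensor S M N.subtype) h1
  rw [IsLocalizedModule.map_lTensor] at h2
  exact h2

/-- `RestrictScalars` is linearly equivalent to the module with its compatible structure. -/
noncomputable def restrictScalarsEquiv (M : Type*) [AddCommGroup M] [Module R M] [Module S M]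
    [IsScalarTower R S M] : RestrictScalars R S M ≃ₗ[R] M :=
  { RestrictScalars.addEquiv R S M with
    map_smul' := fun a z => by
      simp only [AddEquiv.toFun_eq_coe, RingHom.id_apply]
      rw [RestrictScalars.addEquiv_map_smul, algebraMap_smul] }

theorem flat_restrictScalars (M : Type*) [AddCommGroup M] [Module R M] [Module S M]
    [IsScalarTower R S M] [Module.Flat R M] : Module.Flat R (RestrictScalars R S M) :=
  Module.Flat.of_linearEquiv (restrictScalarsEquiv (R := R) (S := S) M)

end General

end Groth.Agent.Helper26.TransReg
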