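import Mathlib
import Groth.Prelude.Def_CAlgX
import Groth.Agent.Lib.Helper26.H1QR1

/-!
# `H_1`-regularity modulo an ideal, and quasi-regularity modulo an ideal (helper26)
-/

set_option autoImplicit false
universe u

namespace Groth.Agent.Helper26.H1QR

open MvPolynomial

variable {A : Type u} [CommRing A]

/-- `H_1`-regularity of `g` modulo the ideal `K`, in matrix form. -/
def H1Mod {m : ℕ} (K : Ideal A) (g : Fin m → A) : Prop :=
  ∀ u : Fin m → A, ∑ j, u j * g j ∈ K →
    ∃ t : Fin m → Fin m → A, (∀ i, t i i = 0) ∧ (∀ i j, t i j = - t j i) ∧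
      ∀ j, u j - ∑ l, t j l * g l ∈ K

theorem h1Mod_of_h1 {m : ℕ} (K : Ideal A) (g : Fin m → A)
    (h : H1 (fun j => Ideal.Quotient.mk K (g j))) : H1Mod K g := by
  classical
  intro u hu
  have hsyz : ∑ j, (fun j => Ideal.Quotient.mk K (u j)) j * (fun j => Ideal.Quotient.mk K (g j)) j
      = 0 := by
    simp only [← map_mul, ← map_sum]
    exact Ideal.Quotient.eq_zero_iff_mem.2 hu
  obtain ⟨tb, htb0, htba, htbs⟩ := h _ hsyz
  choose s hs using fun i j => Ideal.Quotient.mk_surjective (tb i j)
  refine ⟨fun i j => if i < j then s i j else if j < i then - s j i else 0, ?_, ?_, ?_⟩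
  · intro i
    simp
  · intro i j
    rcases lt_trichotomy i j with h | h | h
    · have h' : ¬ j < i := not_lt.2 h.le
      simp [h, h']
    · subst h
      simp
    · have h' : ¬ i < j := not_lt.2 h.le
      simp [h, h']
  · intro j
    rw [← Ideal.Quotient.eq_zero_iff_mem, map_sub, map_sum, sub_eq_zero]
    have := htbs j
    simp only at this
    rw [this]
    refine Finset.sum_congr rfl fun l _ => ?_
    rw [map_mul]
    congr 1
    rcases lt_trichotomy j l with h | h | h
    · simp only [h, if_true]
      exact (hs j l).symm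
    · subst h
      simp only [lt_irrefl, if_false, map_zero]
      exact htb0 j
    · have h' : ¬ j < l := not_lt.2 h.le
      simp only [h', h, if_false, if_true, map_neg]
      rw [hs l j, htba j l]

theorem h1_of_h1Mod {m : ℕ} (K : Ideal A) (g : Fin m → A) (h : H1Mod K g) :
    H1 (fun j => Ideal.Quotient.mk K (g j)) := by
  intro a ha
  choose u hu using fun j => Ideal.Quotient.mk_surjective (a j)
  have hmem : ∑ j, u j * g j ∈ K := by
    rw [← Ideal.Quotient.eq_zero_iff_mem, map_sum, ← ha]
    refine Finset.sum_congr rfl fun j _ => ?_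
    rw [map_mul, hu]
  obtain ⟨t, ht0, hta, hts⟩ := h u hmem
  refine ⟨fun i j => Ideal.Quotient.mk K (t i j), ?_, ?_, ?_⟩
  · intro i
    simp only [ht0, map_zero]
  · intro i j
    simp only
    rw [hta i j, map_neg]
  · intro j
    have := hts j
    rw [← Ideal.Quotient.eq_zero_iff_mem, map_sub, sub_eq_zero, hu, map_sum] at this
    rw [this]
    refine Finset.sum_congr rfl fun l _ => ?_
    rw [map_mul]

/-- quasi-regularity of `g` modulo `K` -/
theorem qr_mod {m : ℕ} (K : Ideal A) (g : Fin m → A) (hK : H1Mod K g) (e : ℕ)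
    (G : MvPolynomial (Fin m) A) (hG : G.IsHomogeneous e)
    (hev : eval g G ∈ Ideal.span (Set.range g) ^ (e + 1) ⊔ K) (M : Fin m →₀ ℕ) :
    coeff M G ∈ Ideal.span (Set.range g) ⊔ K := by
  have hqr := qr_of_h1 (h1_of_h1Mod K g hK)
  have hmap : Ideal.map (Ideal.Quotient.mk K) (Ideal.span (Set.range g)) =
      Ideal.span (Set.range fun j => Ideal.Quotient.mk K (g j)) := by
    rw [Ideal.map_span]
    congr 1
    ext x
    simp
  have h1 : eval (fun j => Ideal.Quotient.mk K (g j)) (map (Ideal.Quotient.mk K) G) =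
      Ideal.Quotient.mk K (eval g G) := by
    rw [eval_map]
    have := eval₂_comp_left (Ideal.Quotient.mk K) (RingHom.id A) g G
    rw [RingHom.comp_id] at this
    exact this.symm
  have h2 : Ideal.Quotient.mk K (eval g G) ∈
      Ideal.span (Set.range fun j => Ideal.Quotient.mk K (g j)) ^ (e + 1) := by
    have := Ideal.mem_map_of_mem (Ideal.Quotient.mk K) hev
    rw [Ideal.map_sup, Ideal.map_pow, hmap] at this
    have hK0 : Ideal.map (Ideal.Quotient.mk K) K = ⊥ := by
      rw [Ideal.map_quotient_self]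
    rwa [hK0, sup_bot_eq] at this
  have h3 := hqr e (map (Ideal.Quotient.mk K) G) (hG.map _) (by rw [h1]; exact h2) M
  rw [coeff_map, ← hmap] at h3
  have h4 : coeff M G ∈ Ideal.comap (Ideal.Quotient.mk K)
      (Ideal.map (Ideal.Quotient.mk K) (Ideal.span (Set.range g))) := h3
  rw [Ideal.comap_map_of_surjective _ Ideal.Quotient.mk_surjective, ← RingHom.ker_eq_comap_bot,
    Ideal.mk_ker] at h4
  exact h4

end Groth.Agent.Helper26.H1QR
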