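import Mathlib
import Groth.Prelude.Def_CAlgX
import Groth.Agent.Lib.Helper26.H1QR2

/-!
# `H_1`-regularity modulo powers of a quasi-regular ideal (helper26)
-/

set_option autoImplicit false
universe u

namespace Groth.Agent.Helper26.H1QR

open MvPolynomial

variable {A : Type u} [CommRing A]

theorem exists_poly_of_mem_pow_succ {n : ℕ} (f : Fin n → A) (k : ℕ) {x : A}
    (hx : x ∈ Ideal.span (Set.range f) ^ (k + 1)) :
    ∃ Q : MvPolynomial (Fin n) A, Q.IsHomogeneous k ∧ eval f Q = x ∧
      ∀ d, coeff d Q ∈ Ideal.span (Set.range f) := by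
  obtain ⟨Q', hQ', hQ'e⟩ := (Ideal.mem_span_pow_iff_exists_isHomogeneous _ _).1 hx
  obtain ⟨q, hq, hqe⟩ := Rees.exists_sum_X_mul k Q' hQ'
  refine ⟨∑ i, C (f i) * q i, IsHomogeneous.sum _ _ _ fun i _ => (hq i).C_mul _, ?_, ?_⟩
  · rw [← hQ'e, hqe, map_sum, map_sum]
    refine Finset.sum_congr rfl fun i _ => ?_
    rw [map_mul, map_mul, eval_C, eval_X]
  · intro d
    rw [coeff_sum]
    refine Ideal.sum_mem _ fun i _ => ?_
    rw [coeff_C_mul]
    exact Ideal.mul_mem_right _ _ (Ideal.subset_span ⟨i, rfl⟩)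

theorem eval_monomial_mem_pow {n : ℕ} (f : Fin n → A) (N : Fin n →₀ ℕ) (d : ℕ)
    (hN : N.degree = d) : eval f (monomial N (1 : A)) ∈ Ideal.span (Set.range f) ^ d :=
  (Ideal.mem_span_pow_iff_exists_isHomogeneous _ _).2
    ⟨monomial N 1, isHomogeneous_monomial _ hN, rfl⟩

theorem eval_eq_sum_of_support_subset {n : ℕ} (f : Fin n → A) (V : MvPolynomial (Fin n) A)
    (S : Finset (Fin n →₀ ℕ)) (hS : V.support ⊆ S) :
    eval f V = ∑ N ∈ S, coeff N V * eval f (monomial N (1 : A)) := by
  have h1 : V = ∑ N ∈ S, monomial N (coeff N V) := by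
    conv_lhs => rw [V.as_sum]
    refine Finset.sum_subset hS fun N _ hN => ?_
    rw [notMem_support_iff.1 hN, map_zero]
  conv_lhs => rw [h1]
  rw [map_sum]
  refine Finset.sum_congr rfl fun N _ => ?_
  rw [← mul_one (coeff N V), ← C_mul_monomial, map_mul, eval_C, mul_one]

theorem h1Mod_pow {n m : ℕ} (f : Fin n → A) (g : Fin m → A) (hf : CAlgX.IsQuasiRegular f)
    (hg : H1Mod (Ideal.span (Set.range f)) g) :
    ∀ d, H1Mod (Ideal.span (Set.range f) ^ (d + 1)) g := by
  classical
  intro d
  induction d with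
  | zero =>
    rw [zero_add, pow_one]
    exact hg
  | succ d ih =>
    intro u hu
    have hu' : ∑ j, u j * g j ∈ Ideal.span (Set.range f) ^ (d + 1) :=
      Ideal.pow_le_pow_right (Nat.le_succ _) hu
    obtain ⟨t, ht0, hta, hts⟩ := ih u hu'
    have hvsum : ∑ j, (u j - ∑ l, t j l * g l) * g j = ∑ j, u j * g j := by
      have hz : ∑ j, ∑ l, t j l * g l * g j = 0 := by
        apply alt_sum_zero
        · intro i
          rw [ht0, zero_mul, zero_mul]
        · intro i j
          rw [hta i j]
          ring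
      simp only [sub_mul, Finset.sum_sub_distrib, Finset.sum_mul]
      rw [hz, sub_zero]
    choose V hV hVe using fun j =>
      (Ideal.mem_span_pow_iff_exists_isHomogeneous _ _).1 (hts j)
    set W := ∑ j, C (g j) * V j with hW
    have hWhom : W.IsHomogeneous (d + 1) := IsHomogeneous.sum _ _ _ fun j _ => (hV j).C_mul _
    have hWev : eval f W ∈ Ideal.span (Set.range f) ^ (d + 1 + 1) := by
      have : eval f W = ∑ j, u j * g j := by
        rw [← hvsum, hW, map_sum]
        refine Finset.sum_congr rfl fun j _ => ?_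
        rw [map_mul, eval_C, hVe j, mul_comm]
      rw [this]
      exact hu
    have hWc := hf (d + 1) W hWhom hWev
    have hsyz : ∀ N : Fin n →₀ ℕ, ∑ j, coeff N (V j) * g j ∈ Ideal.span (Set.range f) := by
      intro N
      have := hWc N
      rw [hW, coeff_sum] at this
      convert this using 1
      refine Finset.sum_congr rfl fun j _ => ?_
      rw [coeff_C_mul, mul_comm]
    choose s hs0 hsa hss using fun N => hg (fun j => coeff N (V j)) (hsyz N)
    set S : Finset (Fin n →₀ ℕ) := Finset.univ.biUnion (fun j => (V j).support) with hS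
    have hSdeg : ∀ N ∈ S, N.degree = d + 1 := by
      intro N hN
      rw [hS, Finset.mem_biUnion] at hN
      obtain ⟨j, -, hj⟩ := hN
      rw [mem_support_iff] at hj
      rw [Finsupp.degree_eq_weight_one]
      exact hV j hj
    refine ⟨fun j l => t j l + ∑ N ∈ S, s N j l * eval f (monomial N (1 : A)), ?_, ?_, ?_⟩
    · intro i
      simp only [ht0, hs0, zero_mul, Finset.sum_const_zero, add_zero]
    · intro i j
      simp only
      rw [hta i j, neg_add, ← Finset.sum_neg_distrib]
      congr 1
      refine Finset.sum_congr rfl fun N _ => ?_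
      rw [hsa N i j]
      ring
    · intro j
      have hvj : u j - ∑ l, t j l * g l = ∑ N ∈ S, coeff N (V j) * eval f (monomial N (1 : A)) := by
        rw [← hVe j]
        apply eval_eq_sum_of_support_subset
        intro N hN
        rw [hS, Finset.mem_biUnion]
        exact ⟨j, Finset.mem_univ _, hN⟩
      have e1 : u j - ∑ l, (t j l + ∑ N ∈ S, s N j l * eval f (monomial N (1 : A))) * g l =
          ∑ N ∈ S, (coeff N (V j) - ∑ l, s N j l * g l) * eval f (monomial N (1 : A)) := by
        simp only [add_mul, Finset.sum_add_distrib, sub_mul, Finset.sum_sub_distrib]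
        rw [← sub_sub, hvj, sub_right_inj]
        simp only [Finset.sum_mul]
        rw [Finset.sum_comm]
        refine Finset.sum_congr rfl fun N _ => ?_
        refine Finset.sum_congr rfl fun l _ => ?_
        ring
      rw [e1]
      refine Ideal.sum_mem _ fun N hN => ?_
      rw [pow_succ']
      exact Ideal.mul_mem_mul (hss N j) (eval_monomial_mem_pow f N (d + 1) (hSdeg N hN))

/-- `f` is quasi-regular modulo `(g)` -/
theorem qr_f_mod_g {n m : ℕ} (f : Fin n → A) (g : Fin m → A) (hf : CAlgX.IsQuasiRegular f)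
    (hgp : ∀ d, H1Mod (Ideal.span (Set.range f) ^ (d + 1)) g) (k : ℕ)
    (P : MvPolynomial (Fin n) A) (hP : P.IsHomogeneous k)
    (hev : eval f P ∈ Ideal.span (Set.range f) ^ (k + 1) ⊔ Ideal.span (Set.range g))
    (N : Fin n →₀ ℕ) : coeff N P ∈ Ideal.span (Set.range f) ⊔ Ideal.span (Set.range g) := by
  classical
  rcases k with _ | k
  · have hPC : P = C (coeff 0 P) :=
      totalDegree_eq_zero_iff_eq_C.1 ((totalDegree_zero_iff_isHomogeneous _).2 hP)
    rw [hPC, eval_C, zero_add, pow_one] at hev
    rw [hPC, coeff_C]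
    split_ifs
    · exact hev
    · exact Ideal.zero_mem _
  · obtain ⟨x, hx, y, hy, hxy⟩ := Submodule.mem_sup.1 hev
    obtain ⟨Q, hQ, hQe, hQc⟩ := exists_poly_of_mem_pow_succ f (k + 1) hx
    obtain ⟨u, hu⟩ := (Ideal.mem_span_range_iff_exists_fun).1 hy
    have hyJ : y ∈ Ideal.span (Set.range f) ^ (k + 1) := by
      have : y = eval f (P - Q) := by
        rw [map_sub, hQe, ← hxy]
        ring
      rw [this]
      exact (Ideal.mem_span_pow_iff_exists_isHomogeneous _ _).2 ⟨P - Q, hP.sub hQ, rfl⟩
    obtain ⟨t, ht0, hta, hts⟩ := hgp k u (by rw [hu]; exact hyJ)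
    have hvsum : ∑ j, (u j - ∑ l, t j l * g l) * g j = y := by
      have hz : ∑ j, ∑ l, t j l * g l * g j = 0 := by
        apply alt_sum_zero
        · intro i
          rw [ht0, zero_mul, zero_mul]
        · intro i j
          rw [hta i j]
          ring
      simp only [sub_mul, Finset.sum_sub_distrib, Finset.sum_mul]
      rw [hz, sub_zero, hu]
    choose W hW hWe using fun j =>
      (Ideal.mem_span_pow_iff_exists_isHomogeneous _ _).1 (hts j)
    set P' := P - Q - ∑ j, C (g j) * W j with hP'
    have hP'hom : P'.IsHomogeneous (k + 1) :=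
      (hP.sub hQ).sub (IsHomogeneous.sum _ _ _ fun j _ => (hW j).C_mul _)
    have hP'ev : eval f P' = 0 := by
      rw [hP', map_sub, map_sub, hQe, map_sum, ← hxy]
      have : ∑ j, eval f (C (g j) * W j) = y := by
        rw [← hvsum]
        refine Finset.sum_congr rfl fun j _ => ?_
        rw [map_mul, eval_C, hWe j, mul_comm]
      rw [this]
      ring
    have hP'c := hf (k + 1) P' hP'hom (by rw [hP'ev]; exact Ideal.zero_mem _) N
    have : coeff N P = coeff N P' + coeff N Q + ∑ j, g j * coeff N (W j) := by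
      rw [hP', coeff_sub, coeff_sub, coeff_sum]
      simp only [coeff_C_mul]
      ring
    rw [this]
    refine Ideal.add_mem _ (Ideal.add_mem _ (Ideal.mem_sup_left hP'c) (Ideal.mem_sup_left (hQc N)))
      (Ideal.sum_mem _ fun j _ => ?_)
    exact Ideal.mem_sup_right (Ideal.mul_mem_right _ _ (Ideal.subset_span ⟨j, rfl⟩))

end Groth.Agent.Helper26.H1QR
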