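import Mathlib
import Groth.Prelude.Def_CAlgX
import Groth.Agent.Lib.Helper26.H1QR3

/-!
# Splitting polynomials in `n + m` variables (helper26)
-/

set_option autoImplicit false
universe u

namespace Groth.Agent.Helper26.H1QR

open MvPolynomial

variable {A : Type u} [CommRing A] {n m : ℕ}

/-- the exponents of the first `n` variables -/
noncomputable def expL (δ : Fin (n + m) →₀ ℕ) : Fin n →₀ ℕ :=
  δ.comapDomain (Fin.castAdd m) (Fin.castAdd_injective n m).injOn

/-- the exponents of the last `m` variables -/
noncomputable def expR (δ : Fin (n + m) →₀ ℕ) : Fin m →₀ ℕ :=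
  δ.comapDomain (Fin.natAdd n) (Fin.natAdd_injective m n).injOn

@[simp] theorem expL_apply (δ : Fin (n + m) →₀ ℕ) (i : Fin n) : expL δ i = δ (Fin.castAdd m i) :=
  rfl

@[simp] theorem expR_apply (δ : Fin (n + m) →₀ ℕ) (j : Fin m) : expR δ j = δ (Fin.natAdd n j) :=
  rfl

theorem exp_ext {δ δ' : Fin (n + m) →₀ ℕ} (hL : expL δ = expL δ') (hR : expR δ = expR δ') :
    δ = δ' := by
  ext k
  induction k using Fin.addCases with
  | left i =>
    have := DFunLike.congr_fun hL i
    simpa using this
  | right j =>
    have := DFunLike.congr_fun hR j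
    simpa using this

theorem degree_split (δ : Fin (n + m) →₀ ℕ) : δ.degree = (expL δ).degree + (expR δ).degree := by
  rw [Finsupp.degree_eq_sum, Finsupp.degree_eq_sum, Finsupp.degree_eq_sum, Fin.sum_univ_add]
  simp

/-- the map to iterated polynomials: the first `n` variables become coefficients -/
noncomputable def Θ : MvPolynomial (Fin (n + m)) A →ₐ[A]
    MvPolynomial (Fin m) (MvPolynomial (Fin n) A) :=
  aeval (Fin.append (fun i : Fin n => (C (X i) : MvPolynomial (Fin m) (MvPolynomial (Fin n) A)))
    (fun j : Fin m => X j))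

theorem Θ_monomial (δ : Fin (n + m) →₀ ℕ) (a : A) :
    (Θ (monomial δ a) : MvPolynomial (Fin m) (MvPolynomial (Fin n) A)) =
      monomial (expR δ) (monomial (expL δ) a) := by
  unfold Θ
  rw [aeval_monomial, Finsupp.prod_fintype _ _ (fun i => pow_zero _), Fin.prod_univ_add]
  simp only [Fin.append_left, Fin.append_right]
  rw [monomial_eq (s := expR δ), monomial_eq (s := expL δ),
    Finsupp.prod_fintype _ _ (fun i => pow_zero _),
    Finsupp.prod_fintype _ _ (fun i => pow_zero _)]
  simp only [expL_apply, expR_apply, map_mul, map_prod, map_pow]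
  rw [MvPolynomial.algebraMap_apply, algebraMap_eq, mul_assoc]

theorem eval_Θ (f : Fin n → A) (g : Fin m → A) (P : MvPolynomial (Fin (n + m)) A) :
    eval g (map (eval f) (Θ P)) = eval (Fin.append f g) P := by
  have : ((eval g).comp ((map (eval f)).comp
      (Θ : MvPolynomial (Fin (n + m)) A →ₐ[A] _).toRingHom)) = eval (Fin.append f g) := by
    apply ringHom_ext
    · intro a
      simp only [RingHom.coe_comp, Function.comp_apply, AlgHom.toRingHom_eq_coe, RingHom.coe_coe]
      rw [← algebraMap_eq, AlgHom.commutes, MvPolynomial.algebraMap_apply, algebraMap_eq,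
        algebraMap_eq, map_C, eval_C, eval_C, eval_C]
    · intro k
      simp only [RingHom.coe_comp, Function.comp_apply, AlgHom.toRingHom_eq_coe, RingHom.coe_coe]
      unfold Θ
      rw [aeval_X, eval_X]
      induction k using Fin.addCases with
      | left i => simp
      | right j => simp
  exact DFunLike.congr_fun this P

theorem coeff_coeff_Θ (P : MvPolynomial (Fin (n + m)) A) (M : Fin m →₀ ℕ) (N : Fin n →₀ ℕ) :
    coeff N (coeff M (Θ P)) =
      ∑ δ ∈ P.support, if expR δ = M ∧ expL δ = N then coeff δ P else 0 := by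
  classical
  conv_lhs => rw [P.as_sum]
  rw [map_sum, coeff_sum, coeff_sum]
  refine Finset.sum_congr rfl fun δ _ => ?_
  rw [Θ_monomial, coeff_monomial]
  by_cases h1 : expR δ = M
  · rw [if_pos h1, coeff_monomial]
    by_cases h2 : expL δ = N
    · rw [if_pos h2, if_pos ⟨h1, h2⟩]
    · rw [if_neg h2, if_neg (fun h => h2 h.2)]
  · rw [if_neg h1, if_neg (fun h => h1 h.1), coeff_zero]

theorem coeff_coeff_Θ_self (P : MvPolynomial (Fin (n + m)) A) (δ₀ : Fin (n + m) →₀ ℕ) :
    coeff (expL δ₀) (coeff (expR δ₀) (Θ P)) = coeff δ₀ P := by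
  classical
  rw [coeff_coeff_Θ]
  have : ∀ δ ∈ P.support, (if expR δ = expR δ₀ ∧ expL δ = expL δ₀ then coeff δ P else 0) =
      if δ = δ₀ then coeff δ₀ P else 0 := by
    intro δ _
    by_cases h : δ = δ₀
    · subst h
      simp
    · rw [if_neg h, if_neg]
      intro h'
      exact h (exp_ext h'.2 h'.1)
  rw [Finset.sum_congr rfl this, Finset.sum_ite_eq' P.support δ₀]
  split_ifs with h
  · rfl
  · exact (notMem_support_iff.1 h).symm

theorem isHomogeneous_coeff_Θ (P : MvPolynomial (Fin (n + m)) A) (D : ℕ) (hP : P.IsHomogeneous D)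
    (M : Fin m →₀ ℕ) : (coeff M (Θ P)).IsHomogeneous (D - M.degree) := by
  classical
  intro N hN
  rw [coeff_coeff_Θ] at hN
  obtain ⟨δ, hδ, hne⟩ := Finset.exists_ne_zero_of_sum_ne_zero hN
  split_ifs at hne with h
  · have h1 := hP hne
    have h1' : δ.degree = D := by
      rw [Finsupp.degree_eq_weight_one]
      exact h1
    have h2 : (Finsupp.weight 1) N = N.degree := by
      rw [Finsupp.degree_eq_weight_one]
      rfl
    rw [degree_split, h.1, h.2] at h1'
    rw [h2]
    omega
  · exact absurd rfl hne

end Groth.Agent.Helper26.H1QR
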