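import Mathlib
import Groth.Prelude.Def_CAlgX
import Groth.Agent.Lib.Helper26.H1QR4

/-!
# Appending an `H_1`-regular sequence to a quasi-regular one (helper26)
-/

set_option autoImplicit false
universe u

namespace Groth.Agent.Helper26.H1QR

open MvPolynomial

variable {A : Type u} [CommRing A] {n m : ℕ}

theorem sup_pow_le (I J : Ideal A) (a b : ℕ) : (I ⊔ J) ^ (a + b + 1) ≤ I ^ (a + 1) ⊔ J ^ (b + 1) := by
  rw [← Ideal.add_eq_sup, ← Ideal.add_eq_sup, add_pow, Ideal.sum_eq_sup]
  apply Finset.sup_le
  intro i hi
  by_cases hn : a + 1 ≤ i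
  · exact (Ideal.mul_le_left.trans (Ideal.mul_le_left.trans
      ((Ideal.pow_le_pow_right hn).trans le_sup_left)))
  · refine (Ideal.mul_le_left.trans (Ideal.mul_le_right.trans
      ((Ideal.pow_le_pow_right ?_).trans le_sup_right)))
    omega

theorem span_range_append (f : Fin n → A) (g : Fin m → A) :
    Ideal.span (Set.range (Fin.append f g)) =
      Ideal.span (Set.range f) ⊔ Ideal.span (Set.range g) := by
  rw [← Ideal.span_union]
  congr 1
  ext x
  constructor
  · rintro ⟨k, rfl⟩
    induction k using Fin.addCases with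
    | left i => exact Or.inl ⟨i, by simp⟩
    | right j => exact Or.inr ⟨j, by simp⟩
  · rintro (⟨i, rfl⟩ | ⟨j, rfl⟩)
    · exact ⟨Fin.castAdd m i, by simp⟩
    · exact ⟨Fin.natAdd n j, by simp⟩

theorem eval_mem_pow_of_isHomogeneous (g : Fin m → A) (i : ℕ) (G : MvPolynomial (Fin m) A)
    (hG : G.IsHomogeneous i) : eval g G ∈ Ideal.span (Set.range g) ^ i :=
  (Ideal.mem_span_pow_iff_exists_isHomogeneous _ _).2 ⟨G, hG, rfl⟩

theorem qr_append (f : Fin n → A) (g : Fin m → A) (hf : CAlgX.IsQuasiRegular f)
    (hg : H1Mod (Ideal.span (Set.range f)) g) : CAlgX.IsQuasiRegular (Fin.append f g) := by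
  classical
  have hgp := h1Mod_pow f g hf hg
  intro D P hP hev δ₀
  rw [span_range_append] at hev ⊢
  by_cases h0 : coeff δ₀ P = 0
  · rw [h0]
    exact Ideal.zero_mem _
  have hdeg : δ₀.degree = D := by
    rw [Finsupp.degree_eq_weight_one]
    exact hP h0
  set M := expR δ₀ with hM
  set N := expL δ₀ with hN
  set e := M.degree with he
  set a := N.degree with ha
  have hae : a + e = D := by
    rw [← hdeg, degree_split]
  have hDe : D - e = a := by omega
  set G : MvPolynomial (Fin m) A := map (eval f) (Θ P) with hG
  have hcoeffG : ∀ M' : Fin m →₀ ℕ, coeff M' G = eval f (coeff M' (Θ P)) := by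
    intro M'
    rw [hG, coeff_map]
  -- the total value
  have hGev : eval g G ∈ Ideal.span (Set.range g) ^ (e + 1) ⊔ Ideal.span (Set.range f) ^ (a + 1) := by
    rw [hG, eval_Θ]
    have := sup_pow_le (Ideal.span (Set.range f)) (Ideal.span (Set.range g)) a e
    rw [hae] at this
    rw [sup_comm]
    exact this hev
  -- the other components
  have hother : ∀ i, i ≠ e → eval g (homogeneousComponent i G) ∈
      Ideal.span (Set.range g) ^ (e + 1) ⊔ Ideal.span (Set.range f) ^ (a + 1) := by
    intro i hi
    rcases lt_or_gt_of_ne hi with hlt | hgt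
    · -- coefficients lie in a high power of `J`
      apply Ideal.mem_sup_right
      rw [eval_eq_sum_of_support_subset g _ _ (Finset.Subset.refl _)]
      refine Ideal.sum_mem _ fun M' _ => Ideal.mul_mem_right _ _ ?_
      rw [coeff_homogeneousComponent]
      split_ifs with hM'
      · rw [hcoeffG]
        have h1 := isHomogeneous_coeff_Θ P D hP M'
        have h2 := eval_mem_pow_of_isHomogeneous f _ _ h1
        refine Ideal.pow_le_pow_right ?_ h2
        omega
      · exact Ideal.zero_mem _
    · apply Ideal.mem_sup_left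
      have h2 := eval_mem_pow_of_isHomogeneous g _ _ (homogeneousComponent_isHomogeneous i G)
      exact Ideal.pow_le_pow_right (by omega) h2
  have hmain : eval g (homogeneousComponent e G) ∈
      Ideal.span (Set.range g) ^ (e + 1) ⊔ Ideal.span (Set.range f) ^ (a + 1) := by
    by_cases hrange : e ∈ Finset.range (G.totalDegree + 1)
    · have hsum : eval g G = ∑ i ∈ Finset.range (G.totalDegree + 1),
          eval g (homogeneousComponent i G) := by
        conv_lhs => rw [← sum_homogeneousComponent G]
        rw [map_sum]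
      rw [← Finset.add_sum_erase _ _ hrange] at hsum
      have : eval g (homogeneousComponent e G) = eval g G -
          ∑ i ∈ (Finset.range (G.totalDegree + 1)).erase e, eval g (homogeneousComponent i G) := by
        rw [hsum]
        ring
      rw [this]
      refine Ideal.sub_mem _ hGev (Ideal.sum_mem _ fun i hi => ?_)
      exact hother i (Finset.ne_of_mem_erase hi)
    · rw [Finset.mem_range, not_lt] at hrange
      rw [homogeneousComponent_eq_zero _ _ (by omega), map_zero]
      exact Ideal.zero_mem _
  -- quasi-regularity of `g` modulo `J ^ (a + 1)`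
  have h3 := qr_mod (Ideal.span (Set.range f) ^ (a + 1)) g (hgp a) e (homogeneousComponent e G)
    (homogeneousComponent_isHomogeneous e G) hmain M
  rw [coeff_homogeneousComponent, if_pos he.symm, hcoeffG, sup_comm] at h3
  -- quasi-regularity of `f` modulo `(g)`
  have h4 := qr_f_mod_g f g hf hgp a (coeff M (Θ P)) (by
    have := isHomogeneous_coeff_Θ P D hP M
    rwa [hDe] at this) h3 N
  rw [hN, hM, coeff_coeff_Θ_self] at h4
  exact h4

theorem result_S2104 {n m : ℕ} (f : Fin n → A) (g : Fin m → A) (hf : CAlgX.IsQuasiRegular f)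
    (hg : CAlgX.IsH1Regular (fun j => Ideal.Quotient.mk (Ideal.span (Set.range f)) (g j))) :
    CAlgX.IsQuasiRegular (Fin.append f g) :=
  qr_append f g hf (h1Mod_of_h1 _ g (h1_of_isH1Regular hg))

end Groth.Agent.Helper26.H1QR
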