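import Mathlib

/-!
# Maps from étale algebras into flat algebras are flat (helper26)
-/

set_option autoImplicit false
set_option linter.unusedSectionVars false
set_option linter.style.haveILetI false

open TensorProduct

namespace Groth.Agent.Helper26.EtFlat

universe u

attribute [local instance] Algebra.TensorProduct.rightAlgebra

/-- If `C` is étale over `R`, `T` is flat over `R` and `T` is a `C`-algebra compatibly, then `T` is
flat over `C`. -/
theorem flat_of_etale (R C T : Type u) [CommRing R] [CommRing C] [CommRing T] [Algebra R C]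
    [Algebra R T] [Algebra C T] [IsScalarTower R C T] [Algebra.Etale R C] [Module.Flat R T] :
    Module.Flat C T := by
  -- the multiplication map
  let μ : C ⊗[R] T →ₐ[C] T :=
    Algebra.TensorProduct.lift (Algebra.ofId C T) (AlgHom.id R T) (fun _ _ => Commute.all _ _)
  have hμ : ∀ (c : C) (t : T), μ (c ⊗ₜ t) = algebraMap C T c * t := fun c t => by
    simp [μ]
  have hμsurj : Function.Surjective μ := by
    intro t
    exact ⟨1 ⊗ₜ t, by rw [hμ, map_one, one_mul]⟩
  letI algMT : Algebra (C ⊗[R] T) T := μ.toRingHom.toAlgebra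
  have halgMT : ∀ x : C ⊗[R] T, algebraMap (C ⊗[R] T) T x = μ x := fun _ => rfl
  haveI : IsScalarTower C (C ⊗[R] T) T := IsScalarTower.of_algebraMap_eq (fun c => by
    rw [halgMT, Algebra.TensorProduct.algebraMap_apply, hμ, mul_one, Algebra.algebraMap_self,
      RingHom.id_apply])
  haveI : IsScalarTower T (C ⊗[R] T) T := IsScalarTower.of_algebraMap_eq (fun t => by
    rw [halgMT]
    change t = μ (1 ⊗ₜ t)
    rw [hμ, map_one, one_mul])
  -- `C ⊗ T` is étale over `T`
  let e₀ : T ⊗[R] C ≃ₐ[R] C ⊗[R] T := Algebra.TensorProduct.comm R T C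
  let e : T ⊗[R] C ≃ₐ[T] C ⊗[R] T := { e₀ with commutes' := fun t => rfl }
  haveI : Algebra.Etale T (C ⊗[R] T) := Algebra.Etale.of_equiv e
  haveI : Algebra.FormallyEtale (C ⊗[R] T) T :=
    Algebra.FormallyEtale.of_restrictScalars (R := T) (A := C ⊗[R] T) (B := T)
  have hsurj' : Function.Surjective (algebraMap (C ⊗[R] T) T) := hμsurj
  have hidem : IsIdempotentElem (RingHom.ker (algebraMap (C ⊗[R] T) T)) :=
    (Algebra.FormallyEtale.iff_of_surjective hsurj').1 inferInstance
  -- the kernel is finitely generated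
  let μT : C ⊗[R] T →ₐ[T] T :=
    { μ.toRingHom with
      commutes' := fun t => by
        change μ (1 ⊗ₜ t) = t
        rw [hμ, map_one, one_mul] }
  have hfg : (RingHom.ker (algebraMap (C ⊗[R] T) T)).FG := by
    have := Algebra.FinitePresentation.ker_fG_of_surjective μT hμsurj
    exact this
  obtain ⟨e', he', hK⟩ := (Ideal.isIdempotentElem_iff_of_fg _ hfg).1 hidem
  have hK' : RingHom.ker (algebraMap (C ⊗[R] T) T) = Ideal.span {1 - (1 - e')} := by
    rw [hK, sub_sub_cancel]
  haveI : IsLocalization.Away (1 - e') T :=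
    IsLocalization.away_of_isIdempotentElem he'.one_sub hK' hsurj'
  haveI : Module.Flat (C ⊗[R] T) T := IsLocalization.flat T (Submonoid.powers (1 - e'))
  haveI : Module.Flat C (C ⊗[R] T) := inferInstance
  exact Module.Flat.trans C (C ⊗[R] T) T

end Groth.Agent.Helper26.EtFlat
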