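import Mathlib
import Groth.Agent.Lib.Helper26.EtFlat1

/-!
# Kernels of maps from étale algebras into flat local algebras (helper26)
-/

set_option autoImplicit false
set_option linter.unusedSectionVars false
set_option linter.style.haveILetI false

open TensorProduct IsLocalRing

namespace Groth.Agent.Helper26.EtFlat

universe u

/-- if `C` is étale over `R`, `T` is a flat local `R`-algebra and `φ : C → T` kills `c`, then `c` is
killed by an element which `φ` maps to a unit -/
theorem exists_mul_eq_zero_of_map_eq_zero (R C T : Type u) [CommRing R] [CommRing C] [CommRing T]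
    [Algebra R C] [Algebra R T] [Algebra.Etale R C] [Module.Flat R T] [IsLocalRing T]
    (φ : C →ₐ[R] T) (c : C) (hc : φ c = 0) : ∃ t : C, IsUnit (φ t) ∧ t * c = 0 := by
  letI : Algebra C T := φ.toRingHom.toAlgebra
  have halg : ∀ x : C, algebraMap C T x = φ x := fun _ => rfl
  haveI : IsScalarTower R C T := IsScalarTower.of_algebraMap_eq (fun r => (φ.commutes r).symm)
  haveI : Module.Flat C T := flat_of_etale R C T
  let q : Ideal C := (maximalIdeal T).comap (algebraMap C T)
  haveI : q.IsPrime := Ideal.comap_isPrime _ _
  have hunits : ∀ y : q.primeCompl, IsUnit (algebraMap C T y) := by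
    intro y
    have hy : (y : C) ∉ q := y.2
    rw [Ideal.mem_comap, IsLocalRing.mem_maximalIdeal, mem_nonunits_iff, not_not] at hy
    exact hy
  let ψ : Localization.AtPrime q →+* T := IsLocalization.lift (M := q.primeCompl) hunits
  have hψ : ∀ x : C, ψ (algebraMap C (Localization.AtPrime q) x) = algebraMap C T x :=
    fun x => IsLocalization.lift_eq hunits x
  letI : Algebra (Localization.AtPrime q) T := ψ.toAlgebra
  haveI : IsScalarTower C (Localization.AtPrime q) T :=
    IsScalarTower.of_algebraMap_eq (fun x => (hψ x).symm)
  haveI : Module.Flat (Localization.AtPrime q) T :=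
    (Module.flat_iff_of_isLocalization (Localization.AtPrime q) q.primeCompl T).2 inferInstance
  haveI : IsLocalHom (algebraMap (Localization.AtPrime q) T) := by
    constructor
    intro x hx
    obtain ⟨a, s, rfl⟩ := IsLocalization.exists_mk'_eq q.primeCompl x
    have h1 : algebraMap (Localization.AtPrime q) T (IsLocalization.mk' _ a s) *
        algebraMap C T s = algebraMap C T a := by
      rw [IsScalarTower.algebraMap_apply C (Localization.AtPrime q) T (s : C), ← map_mul,
        IsLocalization.mk'_spec, ← IsScalarTower.algebraMap_apply]
    have h2 : IsUnit (algebraMap C T a) := by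
      rw [← h1]
      exact hx.mul (hunits s)
    have h3 : a ∉ q := by
      intro ha
      rw [Ideal.mem_comap, IsLocalRing.mem_maximalIdeal, mem_nonunits_iff] at ha
      exact ha h2
    exact (IsLocalization.AtPrime.isUnit_mk'_iff (Localization.AtPrime q) q a s).2 h3
  haveI : Module.FaithfullyFlat (Localization.AtPrime q) T :=
    Module.FaithfullyFlat.of_flat_of_isLocalHom
  have hinj : Function.Injective (algebraMap (Localization.AtPrime q) T) :=
    FaithfulSMul.algebraMap_injective _ _
  have h0 : algebraMap C (Localization.AtPrime q) c = 0 := by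
    apply hinj
    rw [map_zero, ← IsScalarTower.algebraMap_apply, halg, hc]
  obtain ⟨t, ht⟩ := (IsLocalization.map_eq_zero_iff q.primeCompl (Localization.AtPrime q) c).1 h0
  exact ⟨t, hunits t, ht⟩

end Groth.Agent.Helper26.EtFlat
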