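import Mathlib
import Groth.Agent.Lib.Helper1.HPEtale
import Groth.Agent.Lib.Helper1.HPFinEt

/-!
# Lifting maps from étale algebras into henselian pairs (helper26)
-/

set_option autoImplicit false

open TensorProduct

namespace Groth.Agent.Helper26.PH

universe u

section lift

variable {A : Type u} [CommRing A] (R : Type u) [CommRing R] [Algebra A R] [Algebra.Etale A R]
  (C : Type u) [CommRing C] (K : Ideal C) [HenselianRing C K] [Algebra A C]

/-- maps from an étale algebra into a henselian pair agreeing modulo the ideal are equal -/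
theorem algHom_ext_mod (ρ₁ ρ₂ : R →ₐ[A] C) (h : ∀ x, ρ₁ x - ρ₂ x ∈ K) : ρ₁ = ρ₂ := by
  let τ₁ : C ⊗[A] R →ₐ[C] C :=
    Algebra.TensorProduct.lift (AlgHom.id C C) ρ₁ (fun _ _ => Commute.all _ _)
  let τ₂ : C ⊗[A] R →ₐ[C] C :=
    Algebra.TensorProduct.lift (AlgHom.id C C) ρ₂ (fun _ _ => Commute.all _ _)
  have hint : Algebra.IsIntegral C C := Algebra.IsIntegral.of_finite C C
  have hτ : τ₁ = τ₂ := by
    apply Groth.Agent.Helper1.algHom_ext_of_unramified_of_le_jacobson (I := K)
      (HenselianRing.jac)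
    intro z
    have hmap : K.map (algebraMap C C) = K := by
      rw [Algebra.algebraMap_self]; exact Ideal.map_id K
    rw [hmap]
    induction z using TensorProduct.induction_on with
    | zero => simp
    | tmul c x =>
      simp only [τ₁, τ₂, Algebra.TensorProduct.lift_tmul, AlgHom.id_apply]
      rw [← mul_sub]
      exact Ideal.mul_mem_left _ _ (h x)
    | add a b ha hb =>
      rw [map_add, map_add]
      have : τ₁ a + τ₁ b - (τ₂ a + τ₂ b) = (τ₁ a - τ₂ a) + (τ₁ b - τ₂ b) := by ring
      rw [this]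
      exact Ideal.add_mem _ ha hb
  apply AlgHom.ext
  intro x
  have := DFunLike.congr_fun hτ ((1 : C) ⊗ₜ[A] x)
  simpa [τ₁, τ₂] using this

/-- maps from an étale algebra into the quotient of a henselian pair lift -/
theorem exists_algHom_lift (χ : R →ₐ[A] C ⧸ K) :
    ∃ ρ : R →ₐ[A] C, ∀ x, Ideal.Quotient.mk K (ρ x) = χ x := by
  have hG : Groth.Agent.Helper1.GabberProp C K := Groth.Agent.Helper1.gabberProp_of_henselianRing
  let σ : C ⊗[A] R →ₐ[C] C ⧸ K :=
    Algebra.TensorProduct.lift (Algebra.ofId C (C ⧸ K)) χ (fun _ _ => Commute.all _ _)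
  obtain ⟨τ, hτ⟩ := Groth.Agent.Helper1.exists_algHom_lift_of_etale hG (C ⊗[A] R) σ
  refine ⟨(τ.restrictScalars A).comp Algebra.TensorProduct.includeRight, ?_⟩
  intro x
  have := DFunLike.congr_fun hτ ((1 : C) ⊗ₜ[A] x)
  simpa [σ] using this

end lift

/-- the trivial henselian pair -/
theorem henselianRing_bot (C : Type*) [CommRing C] : HenselianRing C ⊥ where
  jac := bot_le
  is_henselian := by
    intro f _ a₀ h0 _
    exact ⟨a₀, (Ideal.mem_bot.1 h0), by simp⟩

end Groth.Agent.Helper26.PH
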