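import Mathlib
import Groth.Prelude.Def_PBC
import Groth.Agent.Lib.Helper26.PHLift

/-!
# Maps from ind-étale algebras into henselian local rings (helper26)
-/

set_option autoImplicit false
set_option linter.unusedSectionVars false
set_option linter.style.haveILetI false

namespace Groth.Agent.Helper26.IndEtLift

universe u
open CategoryTheory Limits IsLocalRing

section core

variable {R : Type u} [CommRing R] (T K : Type u) [CommRing T] [HenselianLocalRing T] [Algebra R T]
  [Field K] [Algebra R K] (v : T →ₐ[R] K) (hv : Function.Surjective v)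
  (hker : RingHom.ker v.toRingHom = maximalIdeal T)

include hv hker in
/-- unique lifting of maps from étale algebras to the residue field -/
theorem existsUnique_lift (E : Type u) [CommRing E] [Algebra R E] [Algebra.Etale R E]
    (σ : E →ₐ[R] K) : ∃! τ : E →ₐ[R] T, v.comp τ = σ := by
  have hkerv : ∀ t : T, v t = 0 ↔ t ∈ maximalIdeal T := by
    intro t
    rw [← hker]
    exact Iff.rfl
  -- the induced map on the quotient
  let vbar : (T ⧸ maximalIdeal T) →ₐ[R] K :=
    Ideal.Quotient.liftₐ (maximalIdeal T) v (fun t ht => (hkerv t).2 ht)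
  have hvbar_inj : Function.Injective vbar := by
    rw [injective_iff_map_eq_zero]
    intro x hx
    obtain ⟨t, rfl⟩ := Ideal.Quotient.mk_surjective x
    have : v t = 0 := hx
    exact Ideal.Quotient.eq_zero_iff_mem.2 ((hkerv t).1 this)
  have hvbar_surj : Function.Surjective vbar := by
    intro k
    obtain ⟨t, rfl⟩ := hv k
    exact ⟨Ideal.Quotient.mk _ t, rfl⟩
  let ε : (T ⧸ maximalIdeal T) ≃ₐ[R] K := AlgEquiv.ofBijective vbar ⟨hvbar_inj, hvbar_surj⟩
  let χ : E →ₐ[R] T ⧸ maximalIdeal T := (ε.symm : K →ₐ[R] _).comp σ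
  obtain ⟨ρ, hρ⟩ := Groth.Agent.Helper26.PH.exists_algHom_lift E T (maximalIdeal T) χ
  refine ⟨ρ, ?_, ?_⟩
  · apply AlgHom.ext
    intro x
    have h1 : v (ρ x) = ε (Ideal.Quotient.mk _ (ρ x)) := rfl
    change v (ρ x) = σ x
    rw [h1, hρ x]
    exact ε.apply_symm_apply (σ x)
  · intro τ hτ
    apply Groth.Agent.Helper26.PH.algHom_ext_mod E T (maximalIdeal T)
    intro x
    rw [← hkerv, map_sub, sub_eq_zero]
    have h1 : v (τ x) = σ x := DFunLike.congr_fun hτ x
    have h2 : v (ρ x) = σ x := by
      have h1 : v (ρ x) = ε (Ideal.Quotient.mk _ (ρ x)) := rfl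
      rw [h1, hρ x]
      exact ε.apply_symm_apply (σ x)
    rw [h1, h2]

include hv hker in
/-- ring hom version -/
theorem existsUnique_lift_ringHom (E : Type u) [CommRing E] (a : R →+* E)
    (hE : letI := a.toAlgebra; Algebra.Etale R E) (σ : E →+* K)
    (hσ : σ.comp a = algebraMap R K) :
    ∃! τ : E →+* T, τ.comp a = algebraMap R T ∧ v.toRingHom.comp τ = σ := by
  letI := a.toAlgebra
  have ha : algebraMap R E = a := rfl
  let σA : E →ₐ[R] K := { σ with commutes' := fun r => congrArg (fun g => g r) hσ }
  obtain ⟨τ, hτ, hτu⟩ := existsUnique_lift T K v hv hker E σA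
  refine ⟨τ.toRingHom, ⟨?_, ?_⟩, ?_⟩
  · apply RingHom.ext
    intro r
    exact τ.commutes r
  · apply RingHom.ext
    intro x
    exact DFunLike.congr_fun hτ x
  · rintro τ' ⟨h1, h2⟩
    let τA : E →ₐ[R] T := { τ' with commutes' := fun r => congrArg (fun g => g r) h1 }
    have : τA = τ := by
      apply hτu
      apply AlgHom.ext
      intro x
      exact congrArg (fun g => g x) h2
    rw [← this]

end core

end Groth.Agent.Helper26.IndEtLift
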