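import Mathlib
import Groth.Agent.Lib.Helper26.IndEtLift1

/-!
# Étale neighbourhoods of a prime with trivial residue field extension (helper26)
-/

set_option autoImplicit false
set_option linter.unusedSectionVars false
set_option linter.style.haveILetI false

namespace Groth.Agent.Helper26.HensPrime

universe u
open IsLocalRing

section general

variable (R : Type u) [CommRing R] (p : Ideal R) [p.IsPrime]
  (T : Type u) [CommRing T] [IsLocalRing T] [Algebra R T]

/-- the residue field of `T` is generated by `R` as a field -/
def ResSurj : Prop :=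
  ∀ k : ResidueField T, ∃ a s : R, s ∉ p ∧
    k * residue T (algebraMap R T s) = residue T (algebraMap R T a)

variable {R p T}

theorem residue_algebraMap_ne_zero (hp : (maximalIdeal T).comap (algebraMap R T) = p) {s : R}
    (hs : s ∉ p) : residue T (algebraMap R T s) ≠ 0 := by
  intro h
  rw [residue_eq_zero_iff] at h
  apply hs
  rw [← hp]
  exact h

/-- pulling back the maximal ideal along any `R`-algebra map gives a prime over `p` -/
theorem comap_comap_eq (hp : (maximalIdeal T).comap (algebraMap R T) = p)
    {S : Type u} [CommRing S] [Algebra R S] (f : S →ₐ[R] T) :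
    p = ((maximalIdeal T).comap f.toRingHom).comap (algebraMap R S) := by
  rw [Ideal.comap_comap, ← hp]
  congr 1
  ext r
  exact (f.commutes r).symm

/-- the residue field extension is automatically trivial -/
theorem map_bijective_of_comap (hp : (maximalIdeal T).comap (algebraMap R T) = p)
    (H : ResSurj R p T)
    {S : Type u} [CommRing S] [Algebra R S] (f : S →ₐ[R] T) (q : Ideal S) [q.IsPrime]
    (hfq : (maximalIdeal T).comap f.toRingHom = q)
    (hq : p = q.comap (algebraMap R S)) :
    Function.Bijective (Ideal.ResidueField.map p q (algebraMap R S) hq) := by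
  refine ⟨RingHom.injective _, ?_⟩
  have hf₁ : q ≤ RingHom.ker ((residue T).comp f.toRingHom) := by
    intro x hx
    rw [← hfq] at hx
    rw [RingHom.mem_ker]
    change residue T (f x) = 0
    rw [residue_eq_zero_iff]
    exact hx
  have hf₂ : q.primeCompl ≤ (IsUnit.submonoid (ResidueField T)).comap
      ((residue T).comp f.toRingHom) := by
    intro x hx
    change IsUnit (residue T (f x))
    rw [isUnit_iff_ne_zero, ne_eq, residue_eq_zero_iff]
    intro h
    apply hx
    rw [← hfq]
    exact h
  let g : q.ResidueField →+* ResidueField T :=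
    Ideal.ResidueField.lift q ((residue T).comp f.toRingHom) hf₁ hf₂
  have hg : ∀ x : S, g (algebraMap S q.ResidueField x) = residue T (f x) :=
    fun x => Ideal.ResidueField.lift_algebraMap q _ hf₁ hf₂ x
  have hgm : ∀ r : R, g (Ideal.ResidueField.map p q (algebraMap R S) hq
      (algebraMap R p.ResidueField r)) = residue T (algebraMap R T r) := by
    intro r
    rw [Ideal.ResidueField.map_algebraMap, hg, f.commutes]
  intro z
  obtain ⟨a, s, hs, has⟩ := H (g z)
  refine ⟨algebraMap R p.ResidueField a * (algebraMap R p.ResidueField s)⁻¹, ?_⟩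
  apply g.injective
  rw [map_mul, map_mul, map_inv₀, map_inv₀, hgm, hgm, ← has, mul_assoc,
    mul_inv_cancel₀ (residue_algebraMap_ne_zero hp hs), mul_one]

end general

section partA

variable {R : Type u} [CommRing R] {p : Ideal R} [p.IsPrime]
  {T : Type u} [CommRing T] [HenselianLocalRing T] [Algebra R T]

/-- (a): an étale neighbourhood of `p` with trivial residue field extension maps uniquely into a
henselian local `R`-algebra `T` over `p` whose residue field is generated by `R` -/
theorem existsUnique_algHom (hp : (maximalIdeal T).comap (algebraMap R T) = p)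
    (S : Type u) [CommRing S] [Algebra R S] [Algebra.Etale R S] (q : Ideal S) [q.IsPrime]
    (hq : p = q.comap (algebraMap R S))
    (hbij : Function.Bijective (Ideal.ResidueField.map p q (algebraMap R S) hq)) :
    ∃! f : S →ₐ[R] T, (maximalIdeal T).comap f.toRingHom = q := by
  let K := ResidueField T
  let v : T →ₐ[R] K := IsScalarTower.toAlgHom R T K
  have hvres : ∀ t : T, v t = residue T t := fun _ => rfl
  have hv : Function.Surjective v := residue_surjective
  have hker : RingHom.ker v.toRingHom = maximalIdeal T := by
    ext t
    rw [RingHom.mem_ker]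
    exact residue_eq_zero_iff t
  have h₁ : p ≤ RingHom.ker (algebraMap R K) := by
    intro r hr
    rw [RingHom.mem_ker, IsScalarTower.algebraMap_apply R T K]
    change residue T _ = 0
    rw [residue_eq_zero_iff]
    rw [← hp] at hr
    exact hr
  have h₂ : p.primeCompl ≤ (IsUnit.submonoid K).comap (algebraMap R K) := by
    intro r hr
    change IsUnit (algebraMap R K r)
    rw [isUnit_iff_ne_zero, IsScalarTower.algebraMap_apply R T K]
    exact residue_algebraMap_ne_zero hp hr
  let c₀ : p.ResidueField →+* K := Ideal.ResidueField.lift p (algebraMap R K) h₁ h₂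
  have hc₀ : ∀ r : R, c₀ (algebraMap R p.ResidueField r) = algebraMap R K r :=
    fun r => Ideal.ResidueField.lift_algebraMap p _ h₁ h₂ r
  let e : p.ResidueField ≃+* q.ResidueField := RingEquiv.ofBijective _ hbij
  have he : ∀ r : R, e (algebraMap R p.ResidueField r) =
      algebraMap S q.ResidueField (algebraMap R S r) :=
    fun r => Ideal.ResidueField.map_algebraMap p q (algebraMap R S) hq r
  let σ₀ : S →+* K := c₀.comp ((e.symm : q.ResidueField →+* p.ResidueField).comp
    (algebraMap S q.ResidueField))
  have hσ₀ : ∀ x : S, σ₀ x = c₀ (e.symm (algebraMap S q.ResidueField x)) := fun _ => rfl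
  let σ : S →ₐ[R] K :=
    { σ₀ with
      commutes' := by
        intro r
        change σ₀ (algebraMap R S r) = _
        rw [hσ₀, ← he, RingEquiv.symm_apply_apply, hc₀] }
  have hσ : ∀ x : S, σ x = c₀ (e.symm (algebraMap S q.ResidueField x)) := fun _ => rfl
  obtain ⟨τ, hτ, hτu⟩ := IndEtLift.existsUnique_lift T K v hv hker S σ
  have hτ' : ∀ x : S, residue T (τ x) = σ x := fun x => DFunLike.congr_fun hτ x
  refine ⟨τ, ?_, ?_⟩
  · change (maximalIdeal T).comap τ.toRingHom = q
    ext x
    rw [Ideal.mem_comap]
    change τ x ∈ maximalIdeal T ↔ _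
    rw [← residue_eq_zero_iff, hτ', hσ, map_eq_zero, map_eq_zero,
      Ideal.algebraMap_residueField_eq_zero]
  · intro f' hf'
    change (maximalIdeal T).comap f'.toRingHom = q at hf'
    apply hτu
    have hf₁ : q ≤ RingHom.ker ((v.comp f').toRingHom) := by
      intro x hx
      rw [← hf'] at hx
      rw [RingHom.mem_ker]
      change residue T (f' x) = 0
      rw [residue_eq_zero_iff]
      exact hx
    have hf₂ : q.primeCompl ≤ (IsUnit.submonoid K).comap ((v.comp f').toRingHom) := by
      intro x hx
      change IsUnit (residue T (f' x))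
      rw [isUnit_iff_ne_zero, ne_eq, residue_eq_zero_iff]
      intro h
      apply hx
      rw [← hf']
      exact h
    let g' : q.ResidueField →+* K := Ideal.ResidueField.lift q ((v.comp f').toRingHom) hf₁ hf₂
    have hg' : ∀ x : S, g' (algebraMap S q.ResidueField x) = v (f' x) :=
      fun x => Ideal.ResidueField.lift_algebraMap q _ hf₁ hf₂ x
    have hkey : g'.comp (e : p.ResidueField →+* q.ResidueField) = c₀ := by
      apply Ideal.ResidueField.ringHom_ext
      ext r
      change g' (e (algebraMap R p.ResidueField r)) = c₀ (algebraMap R p.ResidueField r)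
      rw [he, hg', hc₀, f'.commutes]
      rfl
    apply AlgHom.ext
    intro x
    change v (f' x) = σ x
    rw [hσ, ← hg', ← hkey]
    change _ = g' (e (e.symm _))
    rw [RingEquiv.apply_symm_apply]

end partA

end Groth.Agent.Helper26.HensPrime
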