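import Mathlib
import Groth.Agent.Lib.Helper1.HPEtale
import Groth.Agent.Lib.Helper1.HPFinEt
import Groth.Agent.Lib.Helper1.HPEquiv

/-!
# Henselian local rings via lifting of maps from étale algebras to finite algebras (helper26)
-/

set_option autoImplicit false
set_option linter.unusedSectionVars false
set_option linter.style.haveILetI false

namespace Groth.Agent.Helper26.HensEtBij

universe u

open IsLocalRing

theorem henselianLocalRing_of_henselianRing (A : Type u) [CommRing A] [IsLocalRing A]
    (h : HenselianRing A (maximalIdeal A)) : HenselianLocalRing A where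
  is_henselian f hf a₀ h₁ h₂ :=
    h.is_henselian f hf a₀ h₁ (h₂.map (Ideal.Quotient.mk (maximalIdeal A)))

theorem main (A : Type u) [CommRing A] [IsLocalRing A] :
    HenselianLocalRing A ↔
      ∀ (C : Type u) [CommRing C] [Algebra A C] [Module.Finite A C] (E : Type u) [CommRing E]
        [Algebra A E] [Algebra.Etale A E],
        Function.Bijective (fun φ : E →ₐ[A] C =>
          (Ideal.Quotient.mkₐ A (Ideal.map (algebraMap A C) (maximalIdeal A))).comp φ) := by
  constructor
  · intro hA C _ _ _ E _ _ _
    have hG : Groth.Agent.Helper1.GabberProp A (maximalIdeal A) :=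
      Groth.Agent.Helper1.gabberProp_of_henselianRing
    refine Groth.Agent.Helper1.bijective_comp_of_finite_of_etale_pair hG E C
      (C ⧸ Ideal.map (algebraMap A C) (maximalIdeal A))
      (Ideal.Quotient.mkₐ A (Ideal.map (algebraMap A C) (maximalIdeal A)))
      Ideal.Quotient.mk_surjective ?_
    ext x
    rw [RingHom.mem_ker]
    exact Ideal.Quotient.eq_zero_iff_mem
  · intro H
    apply henselianLocalRing_of_henselianRing
    apply Groth.Agent.Helper1.henselianRing_of_etale_lift
    intro E _ _ _ σ
    have hI : Ideal.map (algebraMap A A) (maximalIdeal A) = maximalIdeal A := Ideal.map_id _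
    let e : (A ⧸ maximalIdeal A) ≃ₐ[A] (A ⧸ Ideal.map (algebraMap A A) (maximalIdeal A)) :=
      Ideal.quotientEquivAlgOfEq A hI.symm
    obtain ⟨τ, hτ⟩ := (H A E).2 ((e : _ →ₐ[A] _).comp σ)
    refine ⟨τ, ?_⟩
    apply AlgHom.ext
    intro x
    have h1 := DFunLike.congr_fun hτ x
    change Ideal.Quotient.mk _ (τ x) = e (σ x) at h1
    change Ideal.Quotient.mk _ (τ x) = σ x
    have h2 : e.symm (Ideal.Quotient.mk _ (τ x)) = Ideal.Quotient.mk _ (τ x) := rfl
    rw [← h2, h1, AlgEquiv.symm_apply_apply]

end Groth.Agent.Helper26.HensEtBij
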