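import Mathlib
import Groth.Prelude.Def_Hens2
import Groth.Agent.Lib.Helper26.PHColim2

/-!
# Structure of an arbitrary henselization of a pair (helper26)
-/

set_option autoImplicit false

open TensorProduct Polynomial

namespace Groth.Agent.Helper26.PH

universe u

variable {R : Type u} [CommRing R] {J : Ideal R}

/-- two henselizations of the same pair are isomorphic -/
theorem nonempty_algEquiv {B B' : Type u} [CommRing B] [Algebra R B] [CommRing B'] [Algebra R B']
    (hB : Hens2.IsPairHenselization R J B) (hB' : Hens2.IsPairHenselization R J B') :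
    Nonempty (B ≃ₐ[R] B') := by
  obtain ⟨g, hg, -⟩ := hB.2 B' (J.map (algebraMap R B')) (algebraMap R B') hB'.1 le_rfl
  obtain ⟨g', hg', -⟩ := hB'.2 B (J.map (algebraMap R B)) (algebraMap R B) hB.1 le_rfl
  have h1 : g'.comp g = RingHom.id B := by
    obtain ⟨k, -, hk⟩ := hB.2 B (J.map (algebraMap R B)) (algebraMap R B) hB.1 le_rfl
    rw [hk (g'.comp g) (by
      change (g'.comp g).comp (algebraMap R B) = algebraMap R B
      rw [RingHom.comp_assoc, hg, hg']), hk (RingHom.id B) (by
      change (RingHom.id B).comp (algebraMap R B) = algebraMap R B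
      simp)]
  have h2 : g.comp g' = RingHom.id B' := by
    obtain ⟨k, -, hk⟩ := hB'.2 B' (J.map (algebraMap R B')) (algebraMap R B') hB'.1 le_rfl
    rw [hk (g.comp g') (by
      change (g.comp g').comp (algebraMap R B') = algebraMap R B'
      rw [RingHom.comp_assoc, hg', hg]), hk (RingHom.id B') (by
      change (RingHom.id B').comp (algebraMap R B') = algebraMap R B'
      simp)]
  exact ⟨{ toFun := g
           invFun := g'
           left_inv := fun x => RingHom.congr_fun h1 x
           right_inv := fun x => RingHom.congr_fun h2 x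
           map_mul' := map_mul g
           map_add' := map_add g
           commutes' := fun r => RingHom.congr_fun hg r }⟩

section struct

variable {B : Type u} [CommRing B] [Algebra R B] (hB : Hens2.IsPairHenselization R J B)
include hB

/-- every neighbourhood maps uniquely to the henselization -/
theorem existsUnique_algHom_of_isNbhd (R' : Type u) [CommRing R'] [Algebra R R']
    (h : IsNbhd R J R') : ∃! _σ : R' →ₐ[R] B, True := by
  have := h.etale
  have := hB.1
  exact PairHens1.existsUnique_algHom R J R' h.bij B (J.map (algebraMap R B)) le_rfl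

theorem algHom_eq_of_isNbhd {R' : Type u} [CommRing R'] [Algebra R R']
    (h : IsNbhd R J R') (σ σ' : R' →ₐ[R] B) : σ = σ' := by
  obtain ⟨τ, -, hτ⟩ := existsUnique_algHom_of_isNbhd hB R' h
  rw [hτ σ trivial, hτ σ' trivial]

/-- finite families of elements of the henselization come from a neighbourhood -/
theorem exists_nbhd_rep_fin (n : ℕ) (b : Fin n → B) :
    ∃ (R' : Type u) (_ : CommRing R') (_ : Algebra R R') (_ : IsNbhd R J R')
      (σ : R' →ₐ[R] B) (x : Fin n → R'), ∀ l, σ (x l) = b l := by
  obtain ⟨e⟩ := nonempty_algEquiv hB (colim_isPairHenselization R J)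
  obtain ⟨i, x, hx⟩ := exists_rep_fin R J n (fun l => e (b l))
  refine ⟨i.ring, inferInstance, inferInstance, i.isNbhd, e.symm.toAlgHom.comp (ιA R J i), x, ?_⟩
  intro l
  change e.symm (ιA R J i (x l)) = b l
  rw [hx, AlgEquiv.symm_apply_apply]

theorem exists_nbhd_rep (b : B) :
    ∃ (R' : Type u) (_ : CommRing R') (_ : Algebra R R') (_ : IsNbhd R J R')
      (σ : R' →ₐ[R] B) (x : R'), σ x = b := by
  obtain ⟨R', _, _, h, σ, x, hx⟩ := exists_nbhd_rep_fin hB 1 (fun _ => b)
  exact ⟨R', inferInstance, inferInstance, h, σ, x 0, hx 0⟩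

/-- elements killed in the henselization are killed in a further neighbourhood -/
theorem exists_nbhd_kill {R' : Type u} [CommRing R'] [Algebra R R'] (h : IsNbhd R J R')
    (σ : R' →ₐ[R] B) (x : R') (hx : σ x = 0) :
    ∃ (R'' : Type u) (_ : CommRing R'') (_ : Algebra R R'') (_ : IsNbhd R J R'')
      (ψ : R' →ₐ[R] R''), ψ x = 0 := by
  obtain ⟨e⟩ := nonempty_algEquiv hB (colim_isPairHenselization R J)
  obtain ⟨i, ⟨e'⟩⟩ := exists_idx R' h
  have h1 : e.toAlgHom.comp σ = (ιA R J i).comp e'.toAlgHom :=
    algHom_eq_of_isNbhd (colim_isPairHenselization R J) h _ _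
  have h2 : ιA R J i (e' x) = 0 := by
    have := DFunLike.congr_fun h1 x
    change e (σ x) = ιA R J i (e' x) at this
    rw [← this, hx, map_zero]
  obtain ⟨k, f, hf⟩ := ιA_eq_zero R J (e' x) h2
  exact ⟨k.ring, inferInstance, inferInstance, k.isNbhd, f.comp e'.toAlgHom, hf⟩

/-- membership of `J B` descends to a neighbourhood -/
theorem exists_nbhd_mem {R' : Type u} [CommRing R'] [Algebra R R'] (h : IsNbhd R J R')
    (σ : R' →ₐ[R] B) (x : R') (hx : σ x ∈ J.map (algebraMap R B)) :
    ∃ (R'' : Type u) (_ : CommRing R'') (_ : Algebra R R'') (_ : IsNbhd R J R'')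
      (ψ : R' →ₐ[R] R''), ψ x ∈ J.map (algebraMap R R'') := by
  obtain ⟨e⟩ := nonempty_algEquiv hB (colim_isPairHenselization R J)
  obtain ⟨i, ⟨e'⟩⟩ := exists_idx R' h
  have h1 : e.toAlgHom.comp σ = (ιA R J i).comp e'.toAlgHom :=
    algHom_eq_of_isNbhd (colim_isPairHenselization R J) h _ _
  have h2 : ιA R J i (e' x) ∈ J.map (algebraMap R (Colim R J)) := by
    have := DFunLike.congr_fun h1 x
    change e (σ x) = ιA R J i (e' x) at this
    rw [← this]
    exact mem_map_algHom J e.toAlgHom hx
  obtain ⟨k, f, hf⟩ := exists_mem_of_ιA_mem R J (e' x) h2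
  exact ⟨k.ring, inferInstance, inferInstance, k.isNbhd, f.comp e'.toAlgHom, hf⟩

/-- `R ⧸ J → B ⧸ J B` is bijective -/
theorem quotientMap_bijective : Function.Bijective
    (Ideal.quotientMap (J.map (algebraMap R B)) (algebraMap R B) Ideal.le_comap_map) := by
  rw [bij_iff]
  constructor
  · intro r hr
    have h0 : (Algebra.ofId R B) r ∈ J.map (algebraMap R B) := hr
    obtain ⟨R'', _, _, h'', ψ, hψ⟩ := exists_nbhd_mem hB IsNbhd.self (Algebra.ofId R B) r h0
    have : ψ r = algebraMap R R'' r := ψ.commutes r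
    rw [this] at hψ
    exact h''.inj r hψ
  · intro b
    obtain ⟨R', _, _, h, σ, x, rfl⟩ := exists_nbhd_rep hB b
    obtain ⟨r, hr⟩ := h.surj x
    refine ⟨r, ?_⟩
    have : σ x - algebraMap R B r = σ (x - algebraMap R R' r) := by
      rw [map_sub, AlgHom.commutes]
    rw [this]
    exact mem_map_algHom J σ hr

/-- the henselization is flat -/
theorem flat : Module.Flat R B := by
  rw [Module.Flat.iff_forall_isTrivialRelation]
  intro l f x hfx
  obtain ⟨R', _, _, h, σ, y, hy⟩ := exists_nbhd_rep_fin hB l x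
  have h0 : σ (∑ i, f i • y i) = 0 := by
    rw [map_sum, ← hfx]
    refine Finset.sum_congr rfl fun i _ => ?_
    rw [map_smul, hy]
  obtain ⟨R'', _, _, h'', ψ, hψ⟩ := exists_nbhd_kill hB h σ _ h0
  have := h''.etale
  have hflat : Module.Flat R R'' := inferInstance
  have hrel : ∑ i, f i • ψ (y i) = 0 := by
    rw [← hψ, map_sum]
    refine Finset.sum_congr rfl fun i _ => ?_
    rw [map_smul]
  obtain ⟨k, a, z, hz1, hz2⟩ := (Module.Flat.iff_forall_isTrivialRelation.1 hflat) hrel
  obtain ⟨σ'', -, -⟩ := existsUnique_algHom_of_isNbhd hB R'' h''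
  have hσ : σ''.comp ψ = σ := algHom_eq_of_isNbhd hB h _ _
  refine ⟨k, a, fun j => σ'' (z j), ?_, hz2⟩
  intro i
  have hz1' : ψ (y i) = ∑ j, a i j • z j := hz1 i
  rw [← hy i, ← hσ, AlgHom.comp_apply, hz1', map_sum]
  refine Finset.sum_congr rfl fun j _ => ?_
  rw [map_smul]

end struct

end Groth.Agent.Helper26.PH
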