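import Mathlib
import Groth.Prelude.Def_Hensel
import Groth.Prelude.Def_PBC
import Groth.Agent.Lib.Helper26.PHTransfer
import Groth.Agent.Lib.Helper26.HensEtBij

/-!
# The pair henselization colimit as an ind-étale algebra (helper26)
-/

set_option autoImplicit false
set_option linter.unusedSectionVars false
set_option linter.style.haveILetI false

namespace Groth.Agent.Helper26.HensIndEt

universe u
open CategoryTheory Limits IsLocalRing
open Groth.Agent.Helper26.PH

section Diagram

variable (R : Type u) [CommRing R] (J : Ideal R)

/-- the diagram of étale neighbourhoods, as objects under `R` -/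
noncomputable def diagU : Idx R J ⥤ Under (CommRingCat.of R) where
  obj i := Under.mk (CommRingCat.ofHom (algebraMap R i.ring))
  map {i j} f := Under.homMk (CommRingCat.ofHom (f : i.ring →ₐ[R] j.ring).toRingHom) (by
    ext r
    exact (f : i.ring →ₐ[R] j.ring).commutes r)
  map_id i := by
    ext x
    rfl
  map_comp f g := by
    ext x
    rfl

/-- the cocone on the colimit -/
noncomputable def coconeU : Cocone (diagU R J) where
  pt := Under.mk (CommRingCat.ofHom (algebraMap R (Colim R J)))
  ι :=
    { app := fun i => Under.homMk (CommRingCat.ofHom (ιA R J i).toRingHom) (by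
        ext r
        exact (ιA R J i).commutes r)
      naturality := by
        intro i j f
        ext x
        exact DFunLike.congr_fun (ιA_comp R J (f : i.ring →ₐ[R] j.ring)) x }

theorem ringHom_ext_colim {T : Type u} [CommRing T] (g h : Colim R J →+* T)
    (H : ∀ (i : Idx R J) (x : i.ring), g (ιA R J i x) = h (ιA R J i x)) : g = h := by
  apply RingHom.ext
  intro b
  obtain ⟨i, x, rfl⟩ := ιA_rep R J b
  exact H i x

theorem exists_desc (s : Cocone (diagU R J)) :
    ∃ g : Colim R J →+* s.pt.right, g.comp (algebraMap R (Colim R J)) = s.pt.hom.hom ∧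
      ∀ (i : Idx R J) (x : i.ring), g (ιA R J i x) = (s.ι.app i).right.hom x := by
  letI : Algebra R s.pt.right := s.pt.hom.hom.toAlgebra
  have hcomm : ∀ (i : Idx R J) (r : R), (s.ι.app i).right.hom (algebraMap R i.ring r) =
      algebraMap R s.pt.right r := by
    intro i r
    have := Under.w (s.ι.app i)
    exact congrArg (fun g => g.hom r) this
  let τ : ∀ i : Idx R J, i.ring →ₐ[R] s.pt.right := fun i =>
    { (s.ι.app i).right.hom with commutes' := hcomm i }
  have hτ : ∀ (i j : Idx R J) (f : i.ring →ₐ[R] j.ring), (τ j).comp f = τ i := by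
    intro i j f
    apply AlgHom.ext
    intro x
    have := s.w (show i ⟶ j from f)
    have h2 := congrArg (fun g => g.right.hom x) this
    exact h2
  obtain ⟨g, hg⟩ := ιA_desc R J s.pt.right τ hτ
  refine ⟨g.toRingHom, ?_, ?_⟩
  · apply RingHom.ext
    intro r
    exact g.commutes r
  · intro i x
    exact DFunLike.congr_fun (hg i) x

/-- the cocone is a colimit -/
noncomputable def isColimitU : IsColimit (coconeU R J) where
  desc s := Under.homMk (CommRingCat.ofHom (exists_desc R J s).choose) (by
    ext r
    exact DFunLike.congr_fun (exists_desc R J s).choose_spec.1 r)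
  fac s i := by
    ext x
    exact (exists_desc R J s).choose_spec.2 i x
  uniq s m hm := by
    ext b
    obtain ⟨i, x, rfl⟩ := ιA_rep R J b
    have h1 := (exists_desc R J s).choose_spec.2 i x
    have h2 := congrArg (fun g => g.right.hom x) (hm i)
    change m.right.hom (ιA R J i x) = (exists_desc R J s).choose (ιA R J i x)
    rw [h1]
    exact h2

theorem isIndEtale_colim : EtPBC.IsIndEtale R (Colim R J) := by
  refine ⟨Idx R J, inferInstance, inferInstance, diagU R J, coconeU R J, isColimitU R J, ?_,
    ⟨Iso.refl _⟩⟩
  intro i
  have h : ((diagU R J).obj i).hom.hom.toAlgebra = (inferInstance : Algebra R i.ring) :=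
    Algebra.algebra_ext _ _ (fun r => rfl)
  rw [h]
  exact i.isNbhd.etale

end Diagram

end Groth.Agent.Helper26.HensIndEt
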