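import Mathlib
import Groth.Prelude.Def_Hensel
import Groth.Prelude.Def_PBC
import Groth.Agent.Lib.Helper26.PHTransfer
import Groth.Agent.Lib.Helper26.HensEtBij
import Groth.Agent.Lib.Helper26.HensIndEt1

/-!
# The henselization of a local ring is ind-étale (helper26)
-/

set_option autoImplicit false
set_option linter.unusedSectionVars false
set_option linter.style.haveILetI false

namespace Groth.Agent.Helper26.HensIndEt

universe u
open CategoryTheory Limits IsLocalRing
open Groth.Agent.Helper26.PH

section Local

variable (R : Type u) [CommRing R] [IsLocalRing R]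

/-- abbreviation -/
noncomputable abbrev C : Type u := Colim R (maximalIdeal R)

theorem M_isMaximal : ((maximalIdeal R).map (algebraMap R (C R))).IsMaximal := by
  have hb := quotientMap_bijective (colim_isPairHenselization R (maximalIdeal R))
  let e : (R ⧸ maximalIdeal R) ≃+* (C R ⧸ (maximalIdeal R).map (algebraMap R (C R))) :=
    RingEquiv.ofBijective _ hb
  rw [Ideal.Quotient.maximal_ideal_iff_isField_quotient]
  exact e.symm.toMulEquiv.isField
    (Ideal.Quotient.maximal_ideal_iff_isField_quotient _ |>.1 inferInstance)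

instance : IsLocalRing (C R) := by
  have hM := M_isMaximal R
  refine IsLocalRing.of_unique_max_ideal ⟨_, hM, ?_⟩
  intro P hP
  have hjac : (maximalIdeal R).map (algebraMap R (C R)) ≤ Ideal.jacobson ⊥ :=
    (colim_henselian R (maximalIdeal R)).jac
  have hle : (maximalIdeal R).map (algebraMap R (C R)) ≤ P := by
    refine hjac.trans ?_
    rw [Ideal.jacobson]
    exact sInf_le ⟨bot_le, hP⟩
  exact (hM.eq_of_le hP.ne_top hle).symm

theorem maximalIdeal_C : maximalIdeal (C R) = (maximalIdeal R).map (algebraMap R (C R)) :=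
  (IsLocalRing.eq_maximalIdeal (M_isMaximal R)).symm

instance : HenselianLocalRing (C R) := by
  apply Groth.Agent.Helper26.HensEtBij.henselianLocalRing_of_henselianRing
  rw [maximalIdeal_C]
  exact colim_henselian R (maximalIdeal R)

instance : IsLocalHom (algebraMap R (C R)) := by
  constructor
  intro r hr
  by_contra hnu
  have hm : r ∈ maximalIdeal R := (IsLocalRing.mem_maximalIdeal r).2 hnu
  have : algebraMap R (C R) r ∈ maximalIdeal (C R) := by
    rw [maximalIdeal_C]
    exact Ideal.mem_map_of_mem _ hm
  exact (IsLocalRing.mem_maximalIdeal _).1 this hr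

theorem universal_C (T : Type u) [CommRing T] [HenselianLocalRing T] (f : R →+* T)
    (hf : IsLocalHom f) : ∃! g : C R →+* T, g.comp (algebraMap R (C R)) = f := by
  refine (colim_isPairHenselization R (maximalIdeal R)).2 T (maximalIdeal T) f inferInstance ?_
  rw [Ideal.map_le_iff_le_comap]
  intro r hr
  rw [Ideal.mem_comap, IsLocalRing.mem_maximalIdeal]
  intro hu
  exact (IsLocalRing.mem_maximalIdeal r).1 hr (hf.map_nonunit r hu)

variable (Rh : Type u) [CommRing Rh] [IsLocalRing Rh] [Algebra R Rh]
  [IsLocalHom (algebraMap R Rh)] [Hensel.IsHenselization R Rh]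

theorem exists_ringEquiv : ∃ e : C R ≃+* Rh, ∀ r, e (algebraMap R (C R) r) = algebraMap R Rh r := by
  haveI : HenselianLocalRing Rh := Hensel.IsHenselization.henselian R
  obtain ⟨g, hg, -⟩ := universal_C R Rh (algebraMap R Rh) inferInstance
  obtain ⟨h, hh, -⟩ := Hensel.IsHenselization.universal (R := R) (S := Rh) (C R)
    (algebraMap R (C R)) inferInstance
  have h1 : h.comp g = RingHom.id _ := by
    obtain ⟨k, -, hk⟩ := universal_C R (C R) (algebraMap R (C R)) inferInstance
    rw [hk (h.comp g) (by change (h.comp g).comp _ = _; rw [RingHom.comp_assoc, hg, hh]),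
      hk (RingHom.id _) (RingHom.id_comp _)]
  have h2 : g.comp h = RingHom.id _ := by
    obtain ⟨k, -, hk⟩ := Hensel.IsHenselization.universal (R := R) (S := Rh) Rh
      (algebraMap R Rh) inferInstance
    rw [hk (g.comp h) (by change (g.comp h).comp _ = _; rw [RingHom.comp_assoc, hh, hg]),
      hk (RingHom.id _) (RingHom.id_comp _)]
  refine ⟨RingEquiv.ofRingHom g h h2 h1, ?_⟩
  intro r
  exact DFunLike.congr_fun hg r

theorem isIndEtale_of_isHenselization : EtPBC.IsIndEtale R Rh := by
  obtain ⟨J, i1, i2, D, c, hc, hD, ⟨i⟩⟩ := isIndEtale_colim R (maximalIdeal R)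
  obtain ⟨e, he⟩ := exists_ringEquiv R Rh
  refine ⟨J, i1, i2, D, c, hc, hD, ⟨i ≪≫ ?_⟩⟩
  refine Under.isoMk e.toCommRingCatIso ?_
  ext r
  exact he r

end Local

end Groth.Agent.Helper26.HensIndEt
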