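import Mathlib
import Groth.Prelude.Def_Hens2
import Groth.Agent.Lib.Helper26.PHTransfer
import Groth.Agent.Lib.Helper26.PHLift

/-!
# Henselization of pairs: change of base (helper26)
-/

set_option autoImplicit false

open TensorProduct Polynomial

namespace Groth.Agent.Helper26.PH

universe u

variable {R : Type u} [CommRing R] {J : Ideal R}

/-- transport along an isomorphism of the henselization -/
theorem isPairHenselization_of_algEquiv {B B' : Type u} [CommRing B] [Algebra R B] [CommRing B']
    [Algebra R B'] (hB : Hens2.IsPairHenselization R J B) (e : B ≃ₐ[R] B') :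
    Hens2.IsPairHenselization R J B' := by
  obtain ⟨e'⟩ := nonempty_algEquiv hB (colim_isPairHenselization R J)
  let ε : Colim R J ≃ₐ[R] B' := e'.symm.trans e
  have hJ : (J.map (algebraMap R (Colim R J))).map (ε : Colim R J →+* B') =
      J.map (algebraMap R B') := map_map_algHom J ε.toAlgHom
  refine ⟨?_, ?_⟩
  · -- henselian: transport along the ring isomorphism
    have h0 := colim_henselian R J
    rw [← hJ]
    refine ⟨?_, ?_⟩
    · intro x hx
      obtain ⟨y, hy, rfl⟩ := (Ideal.mem_map_iff_of_surjective _ ε.surjective).1 hx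
      rw [Ideal.mem_jacobson_bot]
      intro z
      obtain ⟨z, rfl⟩ := ε.surjective z
      have := Ideal.mem_jacobson_bot.1 (h0.jac hy) z
      have h2 := this.map (ε : Colim R J →+* B')
      simpa using h2
    · intro f hf a₀ h1 h2
      obtain ⟨a₀, rfl⟩ := ε.surjective a₀
      let εs : B' →+* Colim R J := (ε.symm : B' →+* Colim R J)
      have hf' : (f.map εs).Monic := hf.map _
      have hmapmap : (f.map εs).map (ε : Colim R J →+* B') = f := by
        rw [Polynomial.map_map]
        have : (ε : Colim R J →+* B').comp εs = RingHom.id B' := by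
          ext x; simp [εs]
        rw [this, Polynomial.map_id]
      have hK : ∀ y : Colim R J, (ε : Colim R J →+* B') y ∈
          (J.map (algebraMap R (Colim R J))).map (ε : Colim R J →+* B') →
          y ∈ J.map (algebraMap R (Colim R J)) := by
        intro y hy
        obtain ⟨y', hy', hyy⟩ := (Ideal.mem_map_iff_of_surjective _ ε.surjective).1 hy
        have : y' = y := ε.injective hyy
        rwa [← this]
      have h1' : (f.map εs).eval a₀ ∈ J.map (algebraMap R (Colim R J)) := by
        apply hK
        rw [map_eval', hmapmap]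
        exact h1
      have h2' : IsUnit (Ideal.Quotient.mk (J.map (algebraMap R (Colim R J)))
          ((f.map εs).derivative.eval a₀)) := by
        obtain ⟨w, hw⟩ := exists_mul_sub_one_mem_of_isUnit_mk _ _ h2
        obtain ⟨w, rfl⟩ := ε.surjective w
        refine isUnit_mk_of_mul_sub_one_mem _ _ w ?_
        apply hK
        rw [map_sub, map_mul, map_one, map_derivative_eval', hmapmap]
        exact hw
      obtain ⟨a, ha, haJ⟩ := h0.is_henselian (f.map εs) hf' a₀ h1' h2'
      refine ⟨ε a, ?_, ?_⟩
      · rw [Polynomial.IsRoot] at ha ⊢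
        have := map_eval' (ε : Colim R J →+* B') (f.map εs) a
        rw [hmapmap, ha, map_zero] at this
        exact this.symm
      · rw [← map_sub]
        exact Ideal.mem_map_of_mem _ haJ
  · intro C _ K φ hC hφ
    obtain ⟨g, hg, hguniq⟩ := colim_universal R J C K φ hC hφ
    refine ⟨g.comp (ε.symm : B' →+* Colim R J), ?_, ?_⟩
    · change (g.comp (ε.symm : B' →+* Colim R J)).comp (algebraMap R B') = φ
      rw [RingHom.comp_assoc]
      have : (ε.symm : B' →+* Colim R J).comp (algebraMap R B') =
          algebraMap R (Colim R J) := ε.symm.toAlgHom.comp_algebraMap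
      rw [this, hg]
    · intro g' hg'
      have h1 : g'.comp (ε : Colim R J →+* B') = g := by
        apply hguniq
        change (g'.comp (ε : Colim R J →+* B')).comp (algebraMap R (Colim R J)) = φ
        rw [RingHom.comp_assoc]
        have : (ε : Colim R J →+* B').comp (algebraMap R (Colim R J)) = algebraMap R B' :=
          ε.toAlgHom.comp_algebraMap
        rw [this, hg']
      rw [← h1]
      ext x
      simp

/-- the henselization of `(R, J)` is the henselization of each of its neighbourhoods -/
theorem isPairHenselization_of_isNbhd {B : Type u} [CommRing B] [Algebra R B]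
    (hB : Hens2.IsPairHenselization R J B) (R' : Type u) [CommRing R'] [Algebra R R']
    (h : IsNbhd R J R') [Algebra R' B] [IsScalarTower R R' B] :
    Hens2.IsPairHenselization R' (J.map (algebraMap R R')) B := by
  refine ⟨?_, ?_⟩
  · rw [Ideal.map_map, ← IsScalarTower.algebraMap_eq]
    exact hB.1
  · intro C _ K φ hC hφ
    let φ₀ : R →+* C := φ.comp (algebraMap R R')
    have hφ₀ : J.map φ₀ ≤ K := by rw [← Ideal.map_map]; exact hφ
    obtain ⟨g, hg, hguniq⟩ := hB.2 C K φ₀ hC hφ₀
    refine ⟨g, ?_, ?_⟩
    · let _ : Algebra R C := φ₀.toAlgebra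
      let s₁ : R' →ₐ[R] C :=
        { g.comp (algebraMap R' B) with
          commutes' := fun r => by
            change g (algebraMap R' B (algebraMap R R' r)) = φ₀ r
            rw [← IsScalarTower.algebraMap_apply]
            exact RingHom.congr_fun hg r }
      let s₂ : R' →ₐ[R] C := { φ with commutes' := fun r => rfl }
      have hs : s₁ = s₂ := by
        have := h.etale
        have hφ₀' : J.map (algebraMap R C) ≤ K := hφ₀
        obtain ⟨τ, -, hτ⟩ := PairHens1.existsUnique_algHom R J R' h.bij C K hφ₀'
        rw [hτ s₁ trivial, hτ s₂ trivial]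
      exact RingHom.ext fun x => DFunLike.congr_fun hs x
    · intro g' hg'
      apply hguniq
      change g'.comp (algebraMap R B) = φ₀
      rw [IsScalarTower.algebraMap_eq R R' B, ← RingHom.comp_assoc, hg']

/-- the henselization of a quotient -/
theorem isPairHenselization_quotient {B : Type u} [CommRing B] [Algebra R B]
    (hB : Hens2.IsPairHenselization R J B) (𝔞 : Ideal R) :
    Hens2.IsPairHenselization (R ⧸ 𝔞) (J.map (Ideal.Quotient.mk 𝔞))
      (B ⧸ 𝔞.map (algebraMap R B)) := by
  have hJ : (J.map (Ideal.Quotient.mk 𝔞)).map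
      (algebraMap (R ⧸ 𝔞) (B ⧸ 𝔞.map (algebraMap R B))) =
      (J.map (algebraMap R B)).map (algebraMap B (B ⧸ 𝔞.map (algebraMap R B))) := by
    rw [Ideal.map_map, Ideal.map_map]
    congr 1
  refine ⟨?_, ?_⟩
  · rw [hJ]
    have := hB.1
    have hG : Groth.Agent.Helper1.GabberProp B (J.map (algebraMap R B)) :=
      Groth.Agent.Helper1.gabberProp_of_henselianRing
    have hint : Algebra.IsIntegral B (B ⧸ 𝔞.map (algebraMap R B)) :=
      Algebra.isIntegral_of_surjective Ideal.Quotient.mk_surjective
    exact Groth.Agent.Helper1.henselianRing_map_of_isIntegral hG (B ⧸ 𝔞.map (algebraMap R B))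
  · intro C _ K φ hC hφ
    let φ₀ : R →+* C := φ.comp (Ideal.Quotient.mk 𝔞)
    have hφ₀ : J.map φ₀ ≤ K := by rw [← Ideal.map_map]; exact hφ
    obtain ⟨g, hg, hguniq⟩ := hB.2 C K φ₀ hC hφ₀
    have hkill : ∀ b ∈ 𝔞.map (algebraMap R B), g b = 0 := by
      intro b hb
      have : 𝔞.map (algebraMap R B) ≤ RingHom.ker g := by
        rw [Ideal.map_le_iff_le_comap]
        intro a ha
        rw [Ideal.mem_comap, RingHom.mem_ker]
        have := RingHom.congr_fun hg a
        change g (algebraMap R B a) = φ (Ideal.Quotient.mk 𝔞 a) at this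
        rw [this, Ideal.Quotient.eq_zero_iff_mem.2 ha, map_zero]
      exact this hb
    refine ⟨Ideal.Quotient.lift _ g hkill, ?_, ?_⟩
    · apply RingHom.ext
      intro x
      obtain ⟨x, rfl⟩ := Ideal.Quotient.mk_surjective x
      have := RingHom.congr_fun hg x
      exact this
    · intro g' hg'
      have h1 : g'.comp (Ideal.Quotient.mk (𝔞.map (algebraMap R B))) = g := by
        apply hguniq
        apply RingHom.ext
        intro x
        have := RingHom.congr_fun hg' (Ideal.Quotient.mk 𝔞 x)
        exact this
      apply RingHom.ext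
      intro y
      obtain ⟨y, rfl⟩ := Ideal.Quotient.mk_surjective y
      rw [Ideal.Quotient.lift_mk, ← h1]
      rfl

/-- change of the base ring along an isomorphism -/
theorem isPairHenselization_of_ringEquiv {R₂ : Type u} [CommRing R₂] {J₂ : Ideal R₂}
    {B : Type u} [CommRing B] [Algebra R B] [Algebra R₂ B] (e : R ≃+* R₂)
    (hcompat : ∀ r, algebraMap R₂ B (e r) = algebraMap R B r)
    (hJ : J.map (e : R →+* R₂) = J₂) (h₂ : Hens2.IsPairHenselization R₂ J₂ B) :
    Hens2.IsPairHenselization R J B := by
  have halg : (algebraMap R₂ B).comp (e : R →+* R₂) = algebraMap R B :=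
    RingHom.ext hcompat
  refine ⟨?_, ?_⟩
  · have : J.map (algebraMap R B) = J₂.map (algebraMap R₂ B) := by
      rw [← hJ, Ideal.map_map, halg]
    rw [this]
    exact h₂.1
  · intro C _ K φ hC hφ
    let φ₂ : R₂ →+* C := φ.comp (e.symm : R₂ →+* R)
    have hφ₂ : J₂.map φ₂ ≤ K := by
      rw [← hJ, Ideal.map_map]
      have : φ₂.comp (e : R →+* R₂) = φ := by
        ext r; simp [φ₂]
      rw [this]
      exact hφ
    obtain ⟨g, hg, hguniq⟩ := h₂.2 C K φ₂ hC hφ₂
    refine ⟨g, ?_, ?_⟩
    · change g.comp (algebraMap R B) = φ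
      rw [← halg, ← RingHom.comp_assoc, hg]
      ext r; simp [φ₂]
    · intro g' hg'
      apply hguniq
      change g'.comp (algebraMap R₂ B) = φ₂
      apply RingHom.ext
      intro r₂
      obtain ⟨r, rfl⟩ := e.surjective r₂
      have := RingHom.congr_fun hg' r
      change g' (algebraMap R B r) = φ r at this
      change g' (algebraMap R₂ B (e r)) = φ (e.symm (e r))
      rw [hcompat, this, RingEquiv.symm_apply_apply]

end Groth.Agent.Helper26.PH
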