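import Mathlib
import Groth.Prelude.Def_Hens2
import Groth.Agent.Lib.Helper26.PHMore

/-!
# Henselizations and pushouts (helper26)
-/

set_option autoImplicit false

namespace Groth.Agent.Helper26.PH

universe u

variable {R : Type u} [CommRing R] {J : Ideal R} {B : Type u} [CommRing B] [Algebra R B]
  (hB : Hens2.IsPairHenselization R J B)

include hB in
/-- finitely many elements killed in the henselization are killed in a further neighbourhood -/
theorem exists_nbhd_kill_fin {R' : Type u} [CommRing R'] [Algebra R R'] (h : IsNbhd R J R')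
    (σ : R' →ₐ[R] B) (s : Finset R') (hs : ∀ x ∈ s, σ x = 0) :
    ∃ (R'' : Type u) (_ : CommRing R'') (_ : Algebra R R'') (_ : IsNbhd R J R'')
      (ψ : R' →ₐ[R] R''), ∀ x ∈ s, ψ x = 0 := by
  classical
  induction s using Finset.induction_on with
  | empty => exact ⟨R', inferInstance, inferInstance, h, AlgHom.id R R', by simp⟩
  | insert x₀ s hx₀ ih =>
    obtain ⟨R'', _, _, h'', ψ, hψ⟩ := ih (fun x hx => hs x (Finset.mem_insert_of_mem hx))
    obtain ⟨σ'', -, -⟩ := existsUnique_algHom_of_isNbhd hB R'' h''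
    have hσ : σ''.comp ψ = σ := algHom_eq_of_isNbhd hB h _ _
    have h0 : σ'' (ψ x₀) = 0 := by
      have := congrArg (fun g => g x₀) hσ
      exact this.trans (hs x₀ (Finset.mem_insert_self _ _))
    obtain ⟨R₃, _, _, h₃, ψ', hψ'⟩ := exists_nbhd_kill hB h'' σ'' (ψ x₀) h0
    refine ⟨R₃, inferInstance, inferInstance, h₃, ψ'.comp ψ, ?_⟩
    intro x hx
    rcases Finset.mem_insert.1 hx with rfl | hx
    · exact hψ'
    · change ψ' (ψ x) = 0
      rw [hψ x hx, map_zero]

include hB in
/-- maps from a finitely presented algebra to the henselization factor through a neighbourhood -/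
theorem exists_factor {A : Type u} [CommRing A] (P : Type u) [CommRing P] [Algebra A P]
    [Algebra.FinitePresentation A P] [Algebra A R] [Algebra A B] [IsScalarTower A R B]
    (φ : P →ₐ[A] B) :
    ∃ (R' : Type u) (_ : CommRing R') (_ : Algebra R R') (_ : IsNbhd R J R')
      (σ : R' →ₐ[R] B) (θ : P →+* R'),
      (∀ a : A, θ (algebraMap A P a) = algebraMap R R' (algebraMap A R a)) ∧
        ∀ p, σ (θ p) = φ p := by
  classical
  obtain ⟨n, π, hπ, s, hs⟩ := Algebra.FinitePresentation.out (R := A) (A := P)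
  obtain ⟨R₁, _, _, h₁, σ₁, y, hy⟩ := exists_nbhd_rep_fin hB n (fun i => φ (π (MvPolynomial.X i)))
  let θ₁ : MvPolynomial (Fin n) A →+* R₁ :=
    MvPolynomial.eval₂Hom ((algebraMap R R₁).comp (algebraMap A R)) y
  have h1 : (σ₁ : R₁ →+* B).comp θ₁ = ((φ.comp π : MvPolynomial (Fin n) A →ₐ[A] B) : _ →+* B) := by
    apply MvPolynomial.ringHom_ext
    · intro a
      change σ₁ (θ₁ (MvPolynomial.C a)) = φ (π (MvPolynomial.C a))
      rw [MvPolynomial.coe_eval₂Hom, MvPolynomial.eval₂_C, ← MvPolynomial.algebraMap_eq,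
        AlgHom.commutes, AlgHom.commutes]
      change σ₁ (algebraMap R R₁ (algebraMap A R a)) = _
      rw [AlgHom.commutes, ← IsScalarTower.algebraMap_apply]
    · intro i
      change σ₁ (θ₁ (MvPolynomial.X i)) = φ (π (MvPolynomial.X i))
      rw [MvPolynomial.coe_eval₂Hom, MvPolynomial.eval₂_X, hy]
  have h1' : ∀ p, σ₁ (θ₁ p) = φ (π p) := fun p => congrArg (fun g => g p) h1
  obtain ⟨R₂, _, _, h₂, ψ, hψ⟩ := exists_nbhd_kill_fin hB h₁ σ₁ (s.image θ₁) (by
    intro x hx
    obtain ⟨p, hp, rfl⟩ := Finset.mem_image.1 hx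
    rw [h1']
    have : p ∈ RingHom.ker π.toRingHom := by
      rw [← hs]
      exact Ideal.subset_span hp
    rw [show π p = 0 from this, map_zero])
  obtain ⟨σ₂, -, -⟩ := existsUnique_algHom_of_isNbhd hB R₂ h₂
  have hσ : σ₂.comp ψ = σ₁ := algHom_eq_of_isNbhd hB h₁ _ _
  let θ₂ : MvPolynomial (Fin n) A →+* R₂ := (ψ : R₁ →+* R₂).comp θ₁
  have hker : RingHom.ker (π : MvPolynomial (Fin n) A →+* P) ≤ RingHom.ker θ₂ := by
    change RingHom.ker π.toRingHom ≤ _
    rw [← hs, Ideal.span_le]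
    intro p hp
    change ψ (θ₁ p) = 0
    exact hψ _ (Finset.mem_image_of_mem _ hp)
  let θ : P →+* R₂ := RingHom.liftOfSurjective (π : MvPolynomial (Fin n) A →+* P) hπ ⟨θ₂, hker⟩
  have hθ : ∀ p, θ (π p) = ψ (θ₁ p) := by
    intro p
    exact RingHom.liftOfRightInverse_comp_apply _ _ _ _ p
  refine ⟨R₂, inferInstance, inferInstance, h₂, σ₂, θ, ?_, ?_⟩
  · intro a
    have : algebraMap A P a = π (MvPolynomial.C a) := by
      rw [← MvPolynomial.algebraMap_eq, AlgHom.commutes]
    rw [this, hθ]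
    change ψ (MvPolynomial.eval₂Hom _ y (MvPolynomial.C a)) = _
    rw [MvPolynomial.coe_eval₂Hom, MvPolynomial.eval₂_C]
    change ψ (algebraMap R R₁ (algebraMap A R a)) = _
    rw [AlgHom.commutes]
  · intro p
    obtain ⟨p, rfl⟩ := hπ p
    rw [hθ, ← h1']
    exact congrArg (fun g => g (θ₁ p)) hσ

end Groth.Agent.Helper26.PH
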