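import Mathlib
import Groth.Prelude.Def_Hens2
import Groth.Agent.Lib.Helper26.PHPush1

/-!
# Henselizations and pushouts, II (helper26)
-/

set_option autoImplicit false

namespace Groth.Agent.Helper26.PH

universe u

/-- the pushout property of a commutative square of ring maps, tested on rings of the
same universe -/
def IsPO {R B T S : Type u} [CommRing R] [CommRing B] [CommRing T] [CommRing S]
    (f : R →+* B) (g : R →+* T) (i : B →+* S) (j : T →+* S) : Prop :=
  i.comp f = j.comp g ∧
    ∀ (D : Type u) [CommRing D] (β : B →+* D) (τ : T →+* D), β.comp f = τ.comp g →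
      ∃! γ : S →+* D, γ.comp i = β ∧ γ.comp j = τ

variable {R : Type u} [CommRing R] {J : Ideal R} {B : Type u} [CommRing B] [Algebra R B]
  (hB : Hens2.IsPairHenselization R J B)
  {T S C : Type u} [CommRing T] [CommRing S] [CommRing C] [Algebra R T] [Algebra B S]
  [Algebra T S]
  (hPO : IsPO (algebraMap R B) (algebraMap R T) (algebraMap B S) (algebraMap T S))
  [Algebra S C] [Algebra T C] [IsScalarTower T S C]

include hB hPO in
/-- if `S = B ⊗_R T` and `C` is a henselization of `(S, JS)` then it is one of `(T, JT)` -/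
theorem isPairHenselization_of_isPO_left
    (hC : Hens2.IsPairHenselization S ((J.map (algebraMap R T)).map (algebraMap T S)) C) :
    Hens2.IsPairHenselization T (J.map (algebraMap R T)) C := by
  refine ⟨?_, ?_⟩
  · have := hC.1
    rwa [Ideal.map_map, ← IsScalarTower.algebraMap_eq] at this
  · intro D _ K f hK hle
    have hle1 : J.map (f.comp (algebraMap R T)) ≤ K := by
      rw [← Ideal.map_map]
      exact hle
    obtain ⟨β, hβ, hβu⟩ := hB.2 D K (f.comp (algebraMap R T)) hK hle1
    obtain ⟨γ, ⟨hγ1, hγ2⟩, hγu⟩ := hPO.2 D β f hβ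
    have hle2 : ((J.map (algebraMap R T)).map (algebraMap T S)).map γ ≤ K := by
      rw [Ideal.map_map, hγ2]
      exact hle
    obtain ⟨g, hg, hgu⟩ := hC.2 D K γ hK hle2
    refine ⟨g, ?_, ?_⟩
    · change g.comp (algebraMap T C) = f
      rw [IsScalarTower.algebraMap_eq T S C, ← RingHom.comp_assoc, hg, hγ2]
    · intro g' hg'
      change g'.comp (algebraMap T C) = f at hg'
      apply hgu
      change g'.comp (algebraMap S C) = γ
      apply hγu
      refine ⟨?_, ?_⟩
      · apply hβu
        change ((g'.comp (algebraMap S C)).comp (algebraMap B S)).comp (algebraMap R B) =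
          f.comp (algebraMap R T)
        have h5 : (g'.comp (algebraMap S C)).comp (algebraMap T S) = f := by
          rw [RingHom.comp_assoc, ← IsScalarTower.algebraMap_eq, hg']
        rw [RingHom.comp_assoc, hPO.1, ← RingHom.comp_assoc, h5]
      · rw [RingHom.comp_assoc, ← IsScalarTower.algebraMap_eq, hg']

include hB hPO in
/-- if `S = B ⊗_R T` and `C` is a henselization of `(T, JT)` with a compatible `S`-algebra
structure then it is a henselization of `(S, JS)` -/
theorem isPairHenselization_of_isPO_right
    (hC : Hens2.IsPairHenselization T (J.map (algebraMap R T)) C) :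
    Hens2.IsPairHenselization S ((J.map (algebraMap R T)).map (algebraMap T S)) C := by
  refine ⟨?_, ?_⟩
  · have := hC.1
    rwa [Ideal.map_map, ← IsScalarTower.algebraMap_eq]
  · intro D _ K f hK hle
    have hle1 : (J.map (algebraMap R T)).map (f.comp (algebraMap T S)) ≤ K := by
      rw [← Ideal.map_map]
      exact hle
    obtain ⟨g, hg, hgu⟩ := hC.2 D K (f.comp (algebraMap T S)) hK hle1
    have hle2 : J.map ((f.comp (algebraMap B S)).comp (algebraMap R B)) ≤ K := by
      rw [RingHom.comp_assoc, hPO.1, ← RingHom.comp_assoc, ← Ideal.map_map]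
      exact hle1
    obtain ⟨β, hβ, hβu⟩ := hB.2 D K ((f.comp (algebraMap B S)).comp (algebraMap R B)) hK hle2
    obtain ⟨γ, -, hγu⟩ := hPO.2 D (f.comp (algebraMap B S)) (f.comp (algebraMap T S)) (by
      rw [RingHom.comp_assoc, hPO.1, RingHom.comp_assoc])
    have hgT : (g.comp (algebraMap S C)).comp (algebraMap T S) = f.comp (algebraMap T S) := by
      rw [RingHom.comp_assoc, ← IsScalarTower.algebraMap_eq]
      exact hg
    refine ⟨g, ?_, ?_⟩
    · change g.comp (algebraMap S C) = f
      rw [hγu f ⟨rfl, rfl⟩]
      apply hγu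
      refine ⟨?_, hgT⟩
      rw [hβu (f.comp (algebraMap B S)) rfl]
      apply hβu
      rw [RingHom.comp_assoc _ (algebraMap B S), hPO.1, ← RingHom.comp_assoc, hgT,
        RingHom.comp_assoc, ← hPO.1, ← RingHom.comp_assoc]
    · intro g' hg'
      change g'.comp (algebraMap S C) = f at hg'
      apply hgu
      rw [IsScalarTower.algebraMap_eq T S C, ← RingHom.comp_assoc, hg']

end Groth.Agent.Helper26.PH
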