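import Mathlib
import Groth.Prelude.Def_Hens2
import Groth.Agent.Lib.Helper26.PHPush2

/-!
# Henselizations and pushouts, III: examples of pushouts (helper26)
-/

set_option autoImplicit false

open TensorProduct

namespace Groth.Agent.Helper26.PH

universe u

/-- tensor products are pushouts -/
theorem isPO_tensor (R B T : Type u) [CommRing R] [CommRing B] [CommRing T] [Algebra R B]
    [Algebra R T] :
    IsPO (algebraMap R B) (algebraMap R T) (algebraMap B (B ⊗[R] T))
      ((Algebra.TensorProduct.includeRight : T →ₐ[R] B ⊗[R] T) : T →+* B ⊗[R] T) := by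
  refine ⟨?_, ?_⟩
  · exact Algebra.TensorProduct.includeLeftRingHom_comp_algebraMap
  · intro D _ β τ hc
    let _ : Algebra R D := (β.comp (algebraMap R B)).toAlgebra
    let βA : B →ₐ[R] D := { β with commutes' := fun r => rfl }
    let τA : T →ₐ[R] D := { τ with commutes' := fun r => (congrArg (fun g => g r) hc).symm }
    let γ : B ⊗[R] T →ₐ[R] D := Algebra.TensorProduct.productMap βA τA
    refine ⟨(γ : B ⊗[R] T →+* D), ⟨?_, ?_⟩, ?_⟩
    · apply RingHom.ext
      intro b
      change γ (b ⊗ₜ 1) = β b
      rw [Algebra.TensorProduct.productMap_left_apply]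
      rfl
    · apply RingHom.ext
      intro t
      change γ (1 ⊗ₜ t) = τ t
      rw [Algebra.TensorProduct.productMap_right_apply]
      rfl
    · rintro γ' ⟨h1, h2⟩
      apply RingHom.ext
      intro x
      induction x using TensorProduct.induction_on with
      | zero => rw [map_zero, map_zero]
      | tmul b t =>
        have hbt : b ⊗ₜ[R] t = (algebraMap B (B ⊗[R] T) b) *
            ((Algebra.TensorProduct.includeRight : T →ₐ[R] B ⊗[R] T) t) := by
          rw [Algebra.TensorProduct.algebraMap_apply, Algebra.TensorProduct.includeRight_apply,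
            Algebra.TensorProduct.tmul_mul_tmul, Algebra.algebraMap_self, RingHom.id_apply,
            mul_one, one_mul]
        rw [hbt, map_mul, map_mul]
        have e1 : γ' (algebraMap B (B ⊗[R] T) b) = β b := congrArg (fun g => g b) h1
        have e2 : γ' ((Algebra.TensorProduct.includeRight : T →ₐ[R] B ⊗[R] T) t) = τ t :=
          congrArg (fun g => g t) h2
        rw [e1, e2]
        change _ = γ (b ⊗ₜ 1) * γ (1 ⊗ₜ t)
        rw [Algebra.TensorProduct.productMap_left_apply,
          Algebra.TensorProduct.productMap_right_apply]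
        rfl
      | add x y hx hy => rw [map_add, map_add, hx, hy]

section pres

variable {R' B : Type u} [CommRing R'] [CommRing B] (σ : R' →+* B) (k : ℕ) {S : Type u}
  [CommRing S] [Algebra B S] (π : MvPolynomial (Fin k) B →ₐ[B] S) {m : ℕ}
  (pt : Fin m → MvPolynomial (Fin k) R')
  (hker : RingHom.ker (π : MvPolynomial (Fin k) B →+* S) =
    Ideal.span (Set.range (fun l => MvPolynomial.map σ (pt l))))

/-- the descended presentation -/
abbrev presT : Type u := MvPolynomial (Fin k) R' ⧸ Ideal.span (Set.range pt)

/-- the comparison map -/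
noncomputable def presJ : presT k pt →+* S :=
  Ideal.Quotient.lift _ ((π : MvPolynomial (Fin k) B →+* S).comp (MvPolynomial.map σ)) (by
    intro a ha
    have h1 : Ideal.span (Set.range pt) ≤
        RingHom.ker ((π : MvPolynomial (Fin k) B →+* S).comp (MvPolynomial.map σ)) := by
      rw [Ideal.span_le]
      rintro _ ⟨l, rfl⟩
      change (π : MvPolynomial (Fin k) B →+* S) (MvPolynomial.map σ (pt l)) = 0
      rw [← RingHom.mem_ker, hker]
      exact Ideal.subset_span ⟨l, rfl⟩
    exact h1 ha)

theorem presJ_mk (q : MvPolynomial (Fin k) R') :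
    presJ σ k π pt hker (Ideal.Quotient.mk _ q) = π (MvPolynomial.map σ q) := rfl

theorem isPO_pres (hπ : Function.Surjective π) :
    IsPO σ (algebraMap R' (presT k pt)) (algebraMap B S) (presJ σ k π pt hker) := by
  refine ⟨?_, ?_⟩
  · apply RingHom.ext
    intro r
    change algebraMap B S (σ r) = presJ σ k π pt hker (Ideal.Quotient.mk _ (MvPolynomial.C r))
    rw [presJ_mk, MvPolynomial.map_C, ← MvPolynomial.algebraMap_eq, AlgHom.commutes]
  · intro D _ β τ hc
    let γ₀ : MvPolynomial (Fin k) B →+* D :=
      MvPolynomial.eval₂Hom β (fun i => τ (Ideal.Quotient.mk _ (MvPolynomial.X i)))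
    have hγ₀ : ∀ q : MvPolynomial (Fin k) R',
        γ₀ (MvPolynomial.map σ q) = τ (Ideal.Quotient.mk _ q) := by
      intro q
      have : (γ₀.comp (MvPolynomial.map σ)) =
          τ.comp (Ideal.Quotient.mk (Ideal.span (Set.range pt))) := by
        apply MvPolynomial.ringHom_ext
        · intro r
          change γ₀ (MvPolynomial.map σ (MvPolynomial.C r)) =
            τ (Ideal.Quotient.mk _ (MvPolynomial.C r))
          rw [MvPolynomial.map_C, MvPolynomial.coe_eval₂Hom, MvPolynomial.eval₂_C]
          exact congrArg (fun g => g r) hc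
        · intro i
          change γ₀ (MvPolynomial.map σ (MvPolynomial.X i)) = _
          rw [MvPolynomial.map_X, MvPolynomial.coe_eval₂Hom, MvPolynomial.eval₂_X]
          rfl
      exact congrArg (fun g => g q) this
    have hk : RingHom.ker (π : MvPolynomial (Fin k) B →+* S) ≤ RingHom.ker γ₀ := by
      rw [hker, Ideal.span_le]
      rintro _ ⟨l, rfl⟩
      change γ₀ (MvPolynomial.map σ (pt l)) = 0
      rw [hγ₀, Ideal.Quotient.eq_zero_iff_mem.2 (Ideal.subset_span (Set.mem_range_self l)), map_zero]
    let γ : S →+* D :=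
      RingHom.liftOfSurjective (π : MvPolynomial (Fin k) B →+* S) hπ ⟨γ₀, hk⟩
    have hγ : ∀ p, γ (π p) = γ₀ p := fun p =>
      RingHom.liftOfRightInverse_comp_apply _ _ _ _ p
    refine ⟨γ, ⟨?_, ?_⟩, ?_⟩
    · apply RingHom.ext
      intro b
      change γ (algebraMap B S b) = β b
      rw [← AlgHom.commutes π, hγ, MvPolynomial.algebraMap_eq, MvPolynomial.coe_eval₂Hom,
        MvPolynomial.eval₂_C]
    · apply RingHom.ext
      intro t
      obtain ⟨q, rfl⟩ := Ideal.Quotient.mk_surjective t
      change γ (presJ σ k π pt hker (Ideal.Quotient.mk _ q)) = _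
      rw [presJ_mk, hγ, hγ₀]
    · rintro γ' ⟨h1, h2⟩
      have h3 : γ'.comp (π : MvPolynomial (Fin k) B →+* S) = γ₀ := by
        apply MvPolynomial.ringHom_ext
        · intro b
          change γ' (π (MvPolynomial.C b)) = γ₀ (MvPolynomial.C b)
          rw [← MvPolynomial.algebraMap_eq, AlgHom.commutes, MvPolynomial.algebraMap_eq,
            MvPolynomial.coe_eval₂Hom, MvPolynomial.eval₂_C]
          exact congrArg (fun g => g b) h1
        · intro i
          change γ' (π (MvPolynomial.X i)) = γ₀ (MvPolynomial.X i)
          rw [MvPolynomial.coe_eval₂Hom, MvPolynomial.eval₂_X, ← h2]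
          change _ = γ' (presJ σ k π pt hker (Ideal.Quotient.mk _ (MvPolynomial.X i)))
          rw [presJ_mk, MvPolynomial.map_X]
      apply RingHom.ext
      intro x
      obtain ⟨p, rfl⟩ := hπ x
      rw [hγ]
      exact congrArg (fun g => g p) h3

end pres

end Groth.Agent.Helper26.PH
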