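import Mathlib

/-!
# Quasi-finiteness along `V(I)` from finiteness modulo `I` (helper26)
-/

set_option autoImplicit false

open TensorProduct

namespace Groth.Agent.Helper26.ZMTHens

universe u

/-- if `R / IR` is a finite `A`-module, then the fibres of `R` over primes containing `I`
are finite -/
theorem finite_fiber {A : Type u} [CommRing A] (I : Ideal A) (R : Type u) [CommRing R]
    [Algebra A R] (hfin : Module.Finite A (R ⧸ I.map (algebraMap A R)))
    (p : Ideal A) [p.IsPrime] (hp : I ≤ p) : Module.Finite p.ResidueField (p.Fiber R) := by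
  let κ := p.ResidueField
  let incl : R →ₐ[A] κ ⊗[A] R := Algebra.TensorProduct.includeRight
  have hker : I.map (algebraMap A R) ≤ RingHom.ker (incl : R →+* κ ⊗[A] R) := by
    rw [Ideal.map_le_iff_le_comap]
    intro c hc
    rw [Ideal.mem_comap, RingHom.mem_ker]
    change incl (algebraMap A R c) = 0
    rw [AlgHom.commutes, Algebra.TensorProduct.algebraMap_apply]
    have : algebraMap A κ c = 0 := by
      rw [Ideal.algebraMap_residueField_eq_zero]
      exact hp hc
    rw [this, zero_tmul]
  let l : (R ⧸ I.map (algebraMap A R)) →ₗ[A] κ ⊗[A] R :=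
    Submodule.liftQ ((I.map (algebraMap A R)).restrictScalars A) incl.toLinearMap (by
      intro x hx
      exact hker hx)
  let L : κ ⊗[A] (R ⧸ I.map (algebraMap A R)) →ₗ[κ] κ ⊗[A] R := LinearMap.liftBaseChange κ l
  have hL : Function.Surjective L := by
    intro z
    induction z using TensorProduct.induction_on with
    | zero => exact ⟨0, map_zero _⟩
    | tmul c r =>
      refine ⟨c ⊗ₜ (Ideal.Quotient.mk _ r), ?_⟩
      rw [LinearMap.liftBaseChange_tmul]
      change c • ((1 : κ) ⊗ₜ[A] r) = _
      rw [TensorProduct.smul_tmul', smul_eq_mul, mul_one]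
    | add x y hx hy =>
      obtain ⟨x', rfl⟩ := hx
      obtain ⟨y', rfl⟩ := hy
      exact ⟨x' + y', map_add _ _ _⟩
  exact Module.Finite.of_surjective L hL

theorem quasiFiniteAt_of_finite_quotient {A : Type u} [CommRing A] (I : Ideal A) (R : Type u)
    [CommRing R] [Algebra A R] [Algebra.FiniteType A R]
    (hfin : Module.Finite A (R ⧸ I.map (algebraMap A R)))
    (q : Ideal R) [hq : q.IsPrime] (hle : I.map (algebraMap A R) ≤ q) :
    Algebra.QuasiFiniteAt A q := by
  let q' : PrimeSpectrum R := ⟨q, hq⟩
  let p := q'.comap (algebraMap A R)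
  have hp : I ≤ p.asIdeal := by
    intro c hc
    change algebraMap A R c ∈ q
    exact hle (Ideal.mem_map_of_mem _ hc)
  have hfib : Module.Finite p.asIdeal.ResidueField (p.asIdeal.Fiber R) :=
    finite_fiber I R hfin p.asIdeal hp
  let e := PrimeSpectrum.preimageHomeomorphFiber A R p
  have : Algebra.QuasiFiniteAt p.asIdeal.ResidueField (e ⟨q', rfl⟩).asIdeal := inferInstance
  have hlo : q.LiesOver p.asIdeal := ⟨rfl⟩
  exact Algebra.QuasiFiniteAt.of_quasiFiniteAt_residueField p.asIdeal q (e ⟨q', rfl⟩).asIdeal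
    congr($(e.symm_apply_apply ⟨q', rfl⟩).1.asIdeal)

end Groth.Agent.Helper26.ZMTHens
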