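import Mathlib
import Groth.Agent.Lib.Helper26.ZMTHens1

/-!
# A finite subalgebra controlling a neighbourhood of `V(IR)` (helper26)
-/

set_option autoImplicit false

namespace Groth.Agent.Helper26.ZMTHens

universe u

theorem exists_finite_subalgebra {A : Type u} [CommRing A] (I : Ideal A) (R : Type u) [CommRing R]
    [Algebra A R] [Algebra.FiniteType A R]
    (hfin : Module.Finite A (R ⧸ I.map (algebraMap A R))) :
    ∃ (S' : Subalgebra A R) (T' : Finset R), S'.toSubmodule.FG ∧ (∀ r ∈ T', r ∈ S') ∧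
      (∀ r ∈ T', ∀ x : R, ∃ m : ℕ, r ^ m * x ∈ S') ∧
      I.map (algebraMap A R) ⊔ Ideal.span (T' : Set R) = ⊤ := by
  classical
  let T : Set R := {r | IsIntegral A r ∧ ∀ x, ∃ m : ℕ, IsIntegral A (r ^ m * x)}
  have h1 : I.map (algebraMap A R) ⊔ Ideal.span T = ⊤ := by
    by_contra hne
    obtain ⟨q, hq, hle⟩ := Ideal.exists_le_maximal _ hne
    have hqp : q.IsPrime := hq.isPrime
    have hIq : I.map (algebraMap A R) ≤ q := le_sup_left.trans hle
    have hqf : Algebra.QuasiFiniteAt A q := quasiFiniteAt_of_finite_quotient I R hfin q hIq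
    have hZ : Algebra.ZariskisMainProperty A q := .of_finiteType _
    obtain ⟨r, hrq, hr1, hr2⟩ := Algebra.zariskisMainProperty_iff.1 hZ
    exact hrq ((le_sup_right.trans hle) (Ideal.subset_span ⟨hr1, hr2⟩))
  have h2 : (1 : R) ∈ I.map (algebraMap A R) ⊔ Ideal.span T := by
    rw [h1]
    trivial
  obtain ⟨j, hj, t, ht, hjt⟩ := Submodule.mem_sup.1 h2
  obtain ⟨T', hT', htT'⟩ := Submodule.mem_span_finite_of_mem_span ht
  obtain ⟨s, hs⟩ := Algebra.FiniteType.out (R := A) (A := R)
  let m : R → R → ℕ := fun r x =>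
    if h : ∃ m : ℕ, IsIntegral A (r ^ m * x) then Classical.choose h else 0
  have hm : ∀ r ∈ T', ∀ x, IsIntegral A (r ^ (m r x) * x) := by
    intro r hr x
    have h : ∃ m : ℕ, IsIntegral A (r ^ m * x) := (hT' hr).2 x
    change IsIntegral A (r ^ (if h : ∃ m : ℕ, IsIntegral A (r ^ m * x) then
      Classical.choose h else 0) * x)
    rw [dif_pos h]
    exact Classical.choose_spec h
  let G : Finset R := T' ∪ (T' ×ˢ s).image (fun rx => rx.1 ^ (m rx.1 rx.2) * rx.2)
  have hGint : ∀ y ∈ (G : Set R), IsIntegral A y := by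
    intro y hy
    rcases Finset.mem_union.1 hy with hy | hy
    · exact (hT' hy).1
    · obtain ⟨⟨r, x⟩, hrx, rfl⟩ := Finset.mem_image.1 hy
      exact hm r (Finset.mem_product.1 hrx).1 x
  let S' : Subalgebra A R := Algebra.adjoin A (G : Set R)
  have hT'S : ∀ r ∈ T', r ∈ S' := fun r hr =>
    Algebra.subset_adjoin (Finset.mem_union_left _ hr)
  refine ⟨S', T', fg_adjoin_of_finite (Finset.finite_toSet G) hGint, hT'S, ?_, ?_⟩
  · intro r hr x
    have hx : x ∈ Algebra.adjoin A (s : Set R) := by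
      rw [hs]
      trivial
    induction hx using Algebra.adjoin_induction with
    | mem x hx =>
      refine ⟨m r x, Algebra.subset_adjoin (Finset.mem_union_right _ ?_)⟩
      exact Finset.mem_image.2 ⟨(r, x), Finset.mem_product.2 ⟨hr, hx⟩, rfl⟩
    | algebraMap a => exact ⟨0, by rw [pow_zero, one_mul]; exact S'.algebraMap_mem a⟩
    | add x y _ _ hx hy =>
      obtain ⟨m₁, h₁⟩ := hx
      obtain ⟨m₂, h₂⟩ := hy
      refine ⟨m₁ + m₂, ?_⟩
      have : r ^ (m₁ + m₂) * (x + y) = r ^ m₂ * (r ^ m₁ * x) + r ^ m₁ * (r ^ m₂ * y) := by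
        rw [pow_add]
        ring
      rw [this]
      exact add_mem (mul_mem (pow_mem (hT'S r hr) _) h₁) (mul_mem (pow_mem (hT'S r hr) _) h₂)
    | mul x y _ _ hx hy =>
      obtain ⟨m₁, h₁⟩ := hx
      obtain ⟨m₂, h₂⟩ := hy
      refine ⟨m₁ + m₂, ?_⟩
      have : r ^ (m₁ + m₂) * (x * y) = (r ^ m₁ * x) * (r ^ m₂ * y) := by
        rw [pow_add]
        ring
      rw [this]
      exact mul_mem h₁ h₂
  · rw [eq_top_iff, ← Ideal.span_singleton_one, Ideal.span_le, Set.singleton_subset_iff,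
      ← hjt]
    exact Submodule.add_mem_sup hj htT'

end Groth.Agent.Helper26.ZMTHens
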