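import Mathlib
import Groth.Agent.Lib.Helper26.ZMTHens2

/-!
# Auxiliary lemmas for the henselian form of Zariski's main theorem (helper26)
-/

set_option autoImplicit false

namespace Groth.Agent.Helper26.ZMTHens

universe u

variable {A : Type u} [CommRing A] (I : Ideal A) {R : Type u} [CommRing R] [Algebra A R]
  (S' : Subalgebra A R)

theorem pow_mul_mem_of_mem (r : R) (hr : r ∈ S') (hstar : ∀ x : R, ∃ m : ℕ, r ^ m * x ∈ S')
    (z : R) (hz : z ∈ I.map (algebraMap A R)) :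
    ∃ (m : ℕ) (s : S'), s ∈ I.map (algebraMap A S') ∧ r ^ m * z = s := by
  refine Submodule.span_induction ?_ ?_ ?_ ?_ hz
  · rintro _ ⟨c, hc, rfl⟩
    exact ⟨0, algebraMap A S' c, Ideal.mem_map_of_mem _ hc, by rw [pow_zero, one_mul]; rfl⟩
  · exact ⟨0, 0, zero_mem _, by simp⟩
  · rintro z₁ z₂ - - ⟨m₁, s₁, hs₁, e₁⟩ ⟨m₂, s₂, hs₂, e₂⟩
    refine ⟨m₁ + m₂, (⟨r, hr⟩ : S') ^ m₂ * s₁ + (⟨r, hr⟩ : S') ^ m₁ * s₂,
      add_mem (Ideal.mul_mem_left _ _ hs₁) (Ideal.mul_mem_left _ _ hs₂), ?_⟩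
    push_cast
    rw [← e₁, ← e₂, pow_add]
    ring
  · rintro y z - ⟨m₁, s₁, hs₁, e₁⟩
    obtain ⟨m₂, hm₂⟩ := hstar y
    refine ⟨m₁ + m₂, (⟨r ^ m₂ * y, hm₂⟩ : S') * s₁, Ideal.mul_mem_left _ _ hs₁, ?_⟩
    push_cast
    rw [← e₁, pow_add, smul_eq_mul]
    ring

theorem comap_sup_span_eq_top (hfin : Module.Finite A (R ⧸ I.map (algebraMap A R)))
    (T' : Finset R) (hT'S : ∀ r ∈ T', r ∈ S')
    (hcov : I.map (algebraMap A R) ⊔ Ideal.span (T' : Set R) = ⊤) :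
    (I.map (algebraMap A R)).comap (algebraMap S' R) ⊔
      Ideal.span (Set.range (fun t : T' => (⟨t.1, hT'S t.1 t.2⟩ : S'))) = ⊤ := by
  by_contra hne
  obtain ⟨𝔪, h𝔪, hle⟩ := Ideal.exists_le_maximal _ hne
  have hint : Algebra.IsIntegral A (R ⧸ I.map (algebraMap A R)) := Algebra.IsIntegral.of_finite A _
  have hint' : Algebra.IsIntegral S' (R ⧸ I.map (algebraMap A R)) :=
    Algebra.IsIntegral.tower_top (R := A)
  have hker : RingHom.ker (algebraMap S' (R ⧸ I.map (algebraMap A R))) =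
      (I.map (algebraMap A R)).comap (algebraMap S' R) := by
    ext x
    rw [RingHom.mem_ker, Ideal.mem_comap]
    change Ideal.Quotient.mk _ (algebraMap S' R x) = 0 ↔ _
    exact Ideal.Quotient.eq_zero_iff_mem
  obtain ⟨Q, hQ, hQc⟩ := Ideal.exists_ideal_over_maximal_of_isIntegral
    (S := R ⧸ I.map (algebraMap A R)) 𝔪 (by rw [hker]; exact le_sup_left.trans hle)
  have h1 : I.map (algebraMap A R) ⊔ Ideal.span (T' : Set R) ≤
      Q.comap (Ideal.Quotient.mk (I.map (algebraMap A R))) := by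
    refine sup_le ?_ ?_
    · intro x hx
      rw [Ideal.mem_comap, Ideal.Quotient.eq_zero_iff_mem.2 hx]
      exact zero_mem _
    · rw [Ideal.span_le]
      intro r hr
      have h2 : (⟨r, hT'S r hr⟩ : S') ∈ 𝔪 :=
        (le_sup_right.trans hle) (Ideal.subset_span ⟨⟨r, hr⟩, rfl⟩)
      rw [← hQc, Ideal.mem_comap] at h2
      exact h2
  rw [hcov, top_le_iff, Ideal.comap_eq_top_iff] at h1
  exact hQ.ne_top h1

/-- the abstract idempotent construction -/
theorem exists_idempotent {S : Type u} [CommRing S] (𝔦 K' : Ideal S) {ι : Type*} [Fintype ι]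
    (v : ι → S) (ha : ∀ x ∈ K', ∀ i, ∃ m : ℕ, v i ^ m * x ∈ 𝔦)
    (hb : K' ⊔ Ideal.span (Set.range v) = ⊤)
    (hlift : ∀ w : S ⧸ 𝔦, IsIdempotentElem w → ∃ e : S, IsIdempotentElem e ∧
      Ideal.Quotient.mk 𝔦 e = w) :
    ∃ e : S, IsIdempotentElem e ∧ 1 - e ∈ K' ⊔ 𝔦 ∧ e ∈ Ideal.span (Set.range v) ⊔ 𝔦 := by
  classical
  have h1 : (1 : S) ∈ K' ⊔ Ideal.span (Set.range v) := by
    rw [hb]
    trivial
  obtain ⟨κ, hκ, ρ, hρ, hκρ⟩ := Submodule.mem_sup.1 h1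
  obtain ⟨c, hc⟩ := (Ideal.mem_span_range_iff_exists_fun).1 hρ
  have hnil : IsNilpotent (Ideal.Quotient.mk 𝔦 (κ * ρ)) := by
    rw [← hc, Finset.mul_sum, map_sum]
    refine isNilpotent_sum (fun i _ => ?_)
    obtain ⟨m, hm⟩ := ha κ hκ i
    refine ⟨m + 1, ?_⟩
    rw [← map_pow, Ideal.Quotient.eq_zero_iff_mem]
    have : (κ * (c i * v i)) ^ (m + 1) = (v i ^ m * κ) * (κ ^ m * c i ^ (m + 1) * v i) := by
      ring
    rw [this]
    exact Ideal.mul_mem_right _ _ hm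
  obtain ⟨N, hN⟩ := hnil
  have hcop : IsCoprime (Ideal.Quotient.mk 𝔦 κ) (Ideal.Quotient.mk 𝔦 ρ) :=
    ⟨1, 1, by rw [one_mul, one_mul, ← map_add, hκρ, map_one]⟩
  obtain ⟨ub, vb, huv⟩ := (hcop.pow (m := N + 1) (n := N + 1))
  obtain ⟨u, rfl⟩ := Ideal.Quotient.mk_surjective ub
  obtain ⟨w, rfl⟩ := Ideal.Quotient.mk_surjective vb
  have hzero : Ideal.Quotient.mk 𝔦 κ ^ (N + 1) * Ideal.Quotient.mk 𝔦 ρ ^ (N + 1) = 0 := by
    rw [← mul_pow, ← map_mul, pow_succ, hN, zero_mul]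
  have hidem : IsIdempotentElem (Ideal.Quotient.mk 𝔦 w * Ideal.Quotient.mk 𝔦 ρ ^ (N + 1)) := by
    set a := Ideal.Quotient.mk 𝔦 u * Ideal.Quotient.mk 𝔦 κ ^ (N + 1) with ha'
    set b := Ideal.Quotient.mk 𝔦 w * Ideal.Quotient.mk 𝔦 ρ ^ (N + 1) with hb'
    have hab : a * b = 0 := by
      rw [ha', hb']
      calc _ = Ideal.Quotient.mk 𝔦 u * Ideal.Quotient.mk 𝔦 w *
            (Ideal.Quotient.mk 𝔦 κ ^ (N + 1) * Ideal.Quotient.mk 𝔦 ρ ^ (N + 1)) := by ring
        _ = 0 := by rw [hzero, mul_zero]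
    have h1 : a + b = 1 := huv
    change b * b = b
    calc b * b = (a + b) * b - a * b := by ring
      _ = b := by rw [h1, hab, one_mul, sub_zero]
  obtain ⟨e, he, hemk⟩ := hlift _ hidem
  refine ⟨e, he, ?_, ?_⟩
  · have h2 : 1 - e - u * κ ^ (N + 1) ∈ 𝔦 := by
      rw [← Ideal.Quotient.eq_zero_iff_mem, map_sub, map_sub, map_one, hemk, map_mul, map_pow,
        ← huv]
      ring
    have h3 : 1 - e = (u * κ ^ (N + 1)) + (1 - e - u * κ ^ (N + 1)) := by ring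
    rw [h3]
    exact Submodule.add_mem_sup (Ideal.mul_mem_left _ _ (Ideal.pow_mem_of_mem _ hκ _ (by omega))) h2
  · have h2 : e - w * ρ ^ (N + 1) ∈ 𝔦 := by
      rw [← Ideal.Quotient.eq_zero_iff_mem, map_sub, hemk, map_mul, map_pow, sub_self]
    have h3 : e = (w * ρ ^ (N + 1)) + (e - w * ρ ^ (N + 1)) := by ring
    rw [h3]
    exact Submodule.add_mem_sup (Ideal.mul_mem_left _ _ (Ideal.pow_mem_of_mem _ hρ _ (by omega))) h2

/-- a partition of unity by powers on the idempotent part -/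
theorem exists_partition {S : Type u} [CommRing S] (𝔦 : Ideal S) (hjac : 𝔦 ≤ Ideal.jacobson ⊥)
    {ι : Type*} [Fintype ι] (v : ι → S) (e : S) (he : IsIdempotentElem e)
    (hmem : e ∈ Ideal.span (Set.range v) ⊔ 𝔦) (m : ℕ) :
    ∃ (b : ι → S) (c : S), (1 : S) = ∑ i, b i * v i ^ m + (1 - e) * c := by
  classical
  obtain ⟨ρ, hρ, j, hj, hρj⟩ := Submodule.mem_sup.1 hmem
  have hu : IsUnit (1 - j) := by
    have := (Ideal.mem_jacobson_bot.1 (hjac hj)) (-1)
    rwa [mul_neg, mul_one, neg_add_eq_sub] at this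
  obtain ⟨u, hu'⟩ := hu
  have h1 : e = e * ρ * (u⁻¹ : Sˣ) := by
    have h2 : e * (1 - j) = e * ρ := by
      have : e * e = e := he
      calc e * (1 - j) = e - e * j := by ring
        _ = e * e - e * j := by rw [this]
        _ = e * (e - j) := by ring
        _ = e * ρ := by rw [← hρj]; ring_nf
    rw [← h2, ← hu', mul_assoc, Units.mul_inv, mul_one]
  let C := S ⧸ Ideal.span {1 - e}
  have hmk : Ideal.Quotient.mk (Ideal.span {1 - e}) e = 1 := by
    rw [eq_comm, ← sub_eq_zero, ← map_one (Ideal.Quotient.mk (Ideal.span {1 - e})), ← map_sub,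
      Ideal.Quotient.eq_zero_iff_mem]
    exact Ideal.subset_span rfl
  have h3 : Ideal.span (Set.range (fun i => Ideal.Quotient.mk (Ideal.span {1 - e}) (v i))) = ⊤ := by
    rw [Ideal.eq_top_iff_one]
    have h4 : Ideal.Quotient.mk (Ideal.span {1 - e}) ρ ∈
        Ideal.span (Set.range (fun i => Ideal.Quotient.mk (Ideal.span {1 - e}) (v i))) := by
      have := Ideal.mem_map_of_mem (Ideal.Quotient.mk (Ideal.span {1 - e})) hρ
      rwa [Ideal.map_span, ← Set.range_comp] at this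
    have h5 : (1 : C) = Ideal.Quotient.mk (Ideal.span {1 - e}) ρ *
        Ideal.Quotient.mk (Ideal.span {1 - e}) ((u⁻¹ : Sˣ) : S) := by
      have := congrArg (Ideal.Quotient.mk (Ideal.span {1 - e})) h1
      rw [map_mul, map_mul, hmk, one_mul] at this
      exact this
    rw [h5]
    exact Ideal.mul_mem_right _ _ h4
  have h6 := Ideal.span_pow_eq_top _ h3 m
  rw [← Set.range_comp] at h6
  have h7 : (1 : C) ∈ Ideal.span (Set.range ((fun x => x ^ m) ∘
      fun i => Ideal.Quotient.mk (Ideal.span {1 - e}) (v i))) := by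
    rw [h6]
    trivial
  obtain ⟨bb, hbb⟩ := (Ideal.mem_span_range_iff_exists_fun).1 h7
  choose b hb using fun i => Ideal.Quotient.mk_surjective (bb i)
  have h8 : (1 : S) - ∑ i, b i * v i ^ m ∈ Ideal.span {1 - e} := by
    rw [← Ideal.Quotient.eq_zero_iff_mem, map_sub, map_one, map_sum, ← hbb, sub_eq_zero]
    refine Finset.sum_congr rfl fun i _ => ?_
    rw [map_mul, map_pow, hb]
    rfl
  obtain ⟨c, hc⟩ := Ideal.mem_span_singleton'.1 h8
  refine ⟨b, c, ?_⟩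
  rw [mul_comm (1 - e) c, hc]
  ring

end Groth.Agent.Helper26.ZMTHens
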