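import Mathlib
import Groth.Agent.Lib.Helper1.HPIdem
import Groth.Agent.Lib.Helper1.HPFinEt
import Groth.Agent.Lib.Helper1.HPEquiv
import Groth.Agent.Lib.Helper26.ZMTHens3

/-!
# The henselian form of Zariski's main theorem along `V(I)` (helper26)
-/

set_option autoImplicit false

namespace Groth.Agent.Helper26.ZMTHens

universe u

theorem exists_away_finite {A : Type u} [CommRing A] (I : Ideal A) [HenselianRing A I]
    (R : Type u) [CommRing R] [Algebra A R] [Algebra.FiniteType A R]
    (hfin : Module.Finite A (R ⧸ I.map (algebraMap A R))) :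
    ∃ g : R, g - 1 ∈ I.map (algebraMap A R) ∧ Module.Finite A (Localization.Away g) := by
  classical
  obtain ⟨S', T', hfg, hT'S, hstar, hcov⟩ := exists_finite_subalgebra I R hfin
  have hS'fin : Module.Finite A S' := ⟨(Submodule.fg_top _).mpr hfg⟩
  have hint : Algebra.IsIntegral A S' := Algebra.IsIntegral.of_finite A S'
  have hG : Groth.Agent.Helper1.GabberProp A I := Groth.Agent.Helper1.gabberProp_of_henselianRing
  have hS'h : HenselianRing S' (I.map (algebraMap A S')) :=
    Groth.Agent.Helper1.henselianRing_map_of_isIntegral hG S'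
  let v : T' → S' := fun t => ⟨t.1, hT'S t.1 t.2⟩
  let K' : Ideal S' := (I.map (algebraMap A R)).comap (algebraMap S' R)
  have hIK : I.map (algebraMap A S') ≤ K' := by
    rw [← Ideal.map_le_iff_le_comap, Ideal.map_map, ← IsScalarTower.algebraMap_eq]
  have ha : ∀ x ∈ K', ∀ t, ∃ m : ℕ, v t ^ m * x ∈ I.map (algebraMap A S') := by
    intro x hx t
    obtain ⟨m, s, hs, e⟩ := pow_mul_mem_of_mem I S' t.1 (hT'S t.1 t.2) (hstar t.1 t.2)
      (x : R) hx
    refine ⟨m, ?_⟩
    have : v t ^ m * x = s := by
      apply Subtype.ext
      push_cast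
      exact e
    rw [this]
    exact hs
  have hb := comap_sup_span_eq_top I S' hfin T' hT'S hcov
  obtain ⟨e, he, he1, he2⟩ := exists_idempotent (I.map (algebraMap A S')) K' v ha hb
    (fun w hw => Groth.Agent.Helper1.exists_isIdempotentElem_lift_of_isIntegral hG w hw)
  refine ⟨(e : R), ?_, ?_⟩
  · have h1 : (1 - e : S') ∈ K' := (sup_le le_rfl hIK) he1
    have h2 : (algebraMap S' R (1 - e)) ∈ I.map (algebraMap A R) := h1
    have h3 : (e : R) - 1 = - algebraMap S' R (1 - e) := by
      rw [map_sub, map_one]
      change (e : R) - 1 = -(1 - (e : R))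
      ring
    rw [h3]
    exact neg_mem h2
  · -- finiteness
    let g : R := (e : R)
    have hgid : g * g = g := by
      have := congrArg (fun x : S' => (x : R)) he
      simpa using this
    have hg1 : algebraMap R (Localization.Away g) g = 1 := by
      have hu : IsUnit (algebraMap R (Localization.Away g) g) :=
        IsLocalization.Away.algebraMap_isUnit g
      have h1 : algebraMap R (Localization.Away g) g * algebraMap R (Localization.Away g) g =
          algebraMap R (Localization.Away g) g := by rw [← map_mul, hgid]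
      exact hu.mul_left_cancel (by rw [h1, mul_one])
    let L : S' →ₗ[A] Localization.Away g :=
      (IsScalarTower.toAlgHom A R (Localization.Away g)).toLinearMap ∘ₗ S'.val.toLinearMap
    have hL : ∀ s : S', L s = algebraMap R (Localization.Away g) (s : R) := fun s => rfl
    refine Module.Finite.of_surjective L ?_
    intro z
    obtain ⟨n, x, hx⟩ := IsLocalization.Away.surj g z
    rw [hg1, one_pow, mul_one] at hx
    subst hx
    -- uniform exponent
    choose mt hmt using fun t : T' => hstar t.1 t.2 x
    let m := ∑ t, mt t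
    have hm : ∀ t : T', (t.1 : R) ^ m * x ∈ S' := by
      intro t
      have hle : mt t ≤ m := Finset.single_le_sum (fun _ _ => Nat.zero_le _) (Finset.mem_univ t)
      obtain ⟨k, hk⟩ := Nat.exists_eq_add_of_le hle
      rw [hk, pow_add, mul_comm ((t.1 : R) ^ mt t), mul_assoc]
      exact mul_mem (pow_mem (hT'S t.1 t.2) _) (hmt t)
    obtain ⟨b, c, hbc⟩ := exists_partition (I.map (algebraMap A S')) hS'h.jac v e he he2 m
    refine ⟨∑ t, b t * (⟨(t.1 : R) ^ m * x, hm t⟩ : S'), ?_⟩
    rw [hL]
    have h1 : (x : R) = ((∑ t, b t * (⟨(t.1 : R) ^ m * x, hm t⟩ : S') : S') : R) +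
        (1 - g) * ((c : R) * x) := by
      have h2 : (1 : R) = ∑ t, (b t : R) * (t.1 : R) ^ m + (1 - g) * (c : R) := by
        have h2' := congrArg (fun y : S' => (y : R)) hbc
        simpa [v, g] using h2'
      calc (x : R) = 1 * x := (one_mul x).symm
        _ = (∑ t, (b t : R) * (t.1 : R) ^ m + (1 - g) * (c : R)) * x := by rw [← h2]
        _ = _ := by
          push_cast
          rw [add_mul, Finset.sum_mul]
          congr 1
          · exact Finset.sum_congr rfl (fun t _ => by ring)
          · ring
    conv_rhs => rw [h1]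
    rw [map_add, map_mul, map_sub, hg1, map_one, sub_self, zero_mul, add_zero]

end Groth.Agent.Helper26.ZMTHens
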