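import Mathlib
import Groth.Prelude.Def_Hens2
import Groth.Agent.Lib.Helper26.PHMore
import Groth.Agent.Lib.Helper26.ZMTHens4

/-!
# Quasi-finite henselian finitely presented algebras are finite (helper26)
-/

set_option autoImplicit false
set_option linter.unusedSectionVars false
set_option linter.style.haveILetI false

namespace Groth.Agent.Helper26.PH

universe u

/-- a henselian pair is its own henselization -/
theorem isPairHenselization_self {C : Type u} [CommRing C] (K : Ideal C) (h : HenselianRing C K) :
    Hens2.IsPairHenselization C K C := by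
  refine ⟨?_, ?_⟩
  · have : K.map (algebraMap C C) = K := Ideal.map_id K
    rw [this]; exact h
  · intro D _ L f _ _
    refine ⟨f, ?_, ?_⟩
    · exact RingHom.ext fun x => rfl
    · intro g hg
      rw [← hg]
      exact RingHom.ext fun x => rfl

theorem finite_of_quotient_finite (A : Type u) [CommRing A] (I : Ideal A)
    [HenselianRing A I] (R : Type u) [CommRing R] [Algebra A R] [Algebra.FiniteType A R]
    (B : Type u) [CommRing B] [Algebra R B] [Algebra A B] [IsScalarTower A R B]
    (hB : Hens2.IsPairHenselization R (I.map (algebraMap A R)) B)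
    (hfin : (Ideal.quotientMap (I.map (algebraMap A B)) (algebraMap A B)
      Ideal.le_comap_map).Finite) :
    ∃ g : R, Nonempty (B ≃ₐ[A] Localization.Away g) ∧ Module.Finite A (Localization.Away g) := by
  set J : Ideal R := I.map (algebraMap A R) with hJ
  have hJB : J.map (algebraMap R B) = I.map (algebraMap A B) := by
    rw [hJ, Ideal.map_map, ← IsScalarTower.algebraMap_eq]
  -- step 1: R/J finite over A
  have hR : Module.Finite A (R ⧸ J) := by
    have hq := quotientMap_bijective hB
    let q := RingEquiv.ofBijective _ hq
    have f1 : (Ideal.Quotient.mk I).Finite :=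
      RingHom.Finite.of_surjective _ Ideal.Quotient.mk_surjective
    let φ3 : B ⧸ I.map (algebraMap A B) →+* B ⧸ J.map (algebraMap R B) :=
      (Ideal.quotEquivOfEq hJB.symm).toRingHom
    let φ4 : B ⧸ J.map (algebraMap R B) →+* R ⧸ J := q.symm.toRingHom
    have f3 : φ3.Finite :=
      RingHom.Finite.of_surjective φ3 (Ideal.quotEquivOfEq hJB.symm).surjective
    have f4 : φ4.Finite := RingHom.Finite.of_surjective φ4 q.symm.surjective
    have hcomp := f4.comp (f3.comp (hfin.comp f1))
    have heq : φ4.comp (φ3.comp
          ((Ideal.quotientMap (I.map (algebraMap A B)) (algebraMap A B)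
            Ideal.le_comap_map).comp (Ideal.Quotient.mk I))) = algebraMap A (R ⧸ J) := by
      refine RingHom.ext fun a => ?_
      change q.symm _ = _
      rw [RingEquiv.symm_apply_eq]
      change _ = Ideal.quotientMap (J.map (algebraMap R B)) (algebraMap R B) Ideal.le_comap_map
        (Ideal.Quotient.mk J (algebraMap A R a))
      rw [Ideal.quotientMap_mk, ← IsScalarTower.algebraMap_apply]
      rfl
    rw [heq] at hcomp
    exact RingHom.finite_algebraMap.1 hcomp
  -- step 2
  obtain ⟨g, hg1, hgfin⟩ := ZMTHens.exists_away_finite I R hR
  refine ⟨g, ?_, hgfin⟩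
  have hg1' : g - 1 ∈ J.map (algebraMap R R) := by
    have : J.map (algebraMap R R) = J := Ideal.map_id J
    rw [this]; exact hg1
  have hN : IsNbhd R J (Localization.Away g) := IsNbhd.away IsNbhd.self g hg1'
  obtain ⟨σ, -, -⟩ := existsUnique_algHom_of_isNbhd hB _ hN
  letI : Algebra (Localization.Away g) B := σ.toRingHom.toAlgebra
  haveI : IsScalarTower R (Localization.Away g) B :=
    IsScalarTower.of_algebraMap_eq (fun r => (σ.commutes r).symm)
  haveI : IsScalarTower A (Localization.Away g) B :=
    IsScalarTower.of_algebraMap_eq (fun a => by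
      rw [IsScalarTower.algebraMap_apply A R B, IsScalarTower.algebraMap_apply A R (Localization.Away g),
        ← IsScalarTower.algebraMap_apply R (Localization.Away g) B])
  have hB' := isPairHenselization_of_isNbhd hB (Localization.Away g) hN
  have hint : Algebra.IsIntegral A (Localization.Away g) := Algebra.IsIntegral.of_finite A _
  have hG : Groth.Agent.Helper1.GabberProp A I := Groth.Agent.Helper1.gabberProp_of_henselianRing
  have hh : HenselianRing (Localization.Away g) (I.map (algebraMap A (Localization.Away g))) :=
    Groth.Agent.Helper1.henselianRing_map_of_isIntegral hG _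
  have hJR' : J.map (algebraMap R (Localization.Away g)) =
      I.map (algebraMap A (Localization.Away g)) := by
    rw [hJ, Ideal.map_map, ← IsScalarTower.algebraMap_eq]
  rw [← hJR'] at hh
  obtain ⟨e⟩ := nonempty_algEquiv hB' (isPairHenselization_self _ hh)
  exact ⟨e.restrictScalars A⟩

theorem finite_and_fp_of_quotient_finite (A : Type u) [CommRing A] (I : Ideal A)
    [HenselianRing A I] (R : Type u) [CommRing R] [Algebra A R] [Algebra.FinitePresentation A R]
    (B : Type u) [CommRing B] [Algebra R B] [Algebra A B] [IsScalarTower A R B]
    (hB : Hens2.IsPairHenselization R (I.map (algebraMap A R)) B)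
    (hfin : (Ideal.quotientMap (I.map (algebraMap A B)) (algebraMap A B)
      Ideal.le_comap_map).Finite) :
    Module.Finite A B ∧ Algebra.FinitePresentation A B := by
  obtain ⟨g, ⟨e⟩, hgfin⟩ := finite_of_quotient_finite A I R B hB hfin
  refine ⟨Module.Finite.equiv e.symm.toLinearEquiv, ?_⟩
  have h1 : Algebra.FinitePresentation R (Localization.Away g) :=
    IsLocalization.Away.finitePresentation g
  have h2 : Algebra.FinitePresentation A (Localization.Away g) :=
    Algebra.FinitePresentation.trans A R _
  exact Algebra.FinitePresentation.equiv e.symm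

end Groth.Agent.Helper26.PH
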