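import Mathlib
import Groth.Prelude.Def_Hens2
import Groth.Agent.Lib.Helper26.PHPush3
import Groth.Agent.Lib.Helper26.PHZMT1
import Groth.Agent.Lib.Helper1.Hensel

/-!
# Henselization commutes with integral base change (helper26)
-/

set_option autoImplicit false
set_option linter.unusedSectionVars false
set_option linter.style.haveILetI false

open TensorProduct

namespace Groth.Agent.Helper26.PH

universe u

attribute [local instance] Algebra.TensorProduct.rightAlgebra

/-- `Ah ⊗ B` is a henselization of `(B, I B)` when `B` is integral over `A` -/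
theorem isPairHenselization_tensor_of_isIntegral {A B Ah : Type u} [CommRing A] [CommRing B]
    [CommRing Ah] [Algebra A B] (I : Ideal A) [Algebra.IsIntegral A B] [Algebra A Ah]
    (hA : Hens2.IsPairHenselization A I Ah) :
    Hens2.IsPairHenselization B (I.map (algebraMap A B)) (Ah ⊗[A] B) := by
  have hPO := isPO_tensor A Ah B
  have halg : algebraMap B (Ah ⊗[A] B) =
      ((Algebra.TensorProduct.includeRight : B →ₐ[A] Ah ⊗[A] B) : B →+* Ah ⊗[A] B) := rfl
  rw [← halg] at hPO
  haveI := hA.1
  have hG : Groth.Agent.Helper1.GabberProp Ah (I.map (algebraMap A Ah)) :=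
    Groth.Agent.Helper1.gabberProp_of_henselianRing
  haveI : Algebra.IsIntegral Ah (Ah ⊗[A] B) := inferInstance
  have hh : HenselianRing (Ah ⊗[A] B) ((I.map (algebraMap A Ah)).map (algebraMap Ah (Ah ⊗[A] B))) :=
    Groth.Agent.Helper1.henselianRing_map_of_isIntegral hG _
  have hideal : (I.map (algebraMap A Ah)).map (algebraMap Ah (Ah ⊗[A] B)) =
      (I.map (algebraMap A B)).map (algebraMap B (Ah ⊗[A] B)) := by
    rw [Ideal.map_map, Ideal.map_map, hPO.1]
  rw [hideal] at hh
  have hself := isPairHenselization_self _ hh
  exact isPairHenselization_of_isPO_left hA hPO hself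

/-- changing the ideal within its radical class -/
theorem isPairHenselization_of_radical_eq {B S : Type u} [CommRing B] [CommRing S] [Algebra B S]
    (K J : Ideal B) (hKJ : K ≤ J) (hrad : J.radical = K.radical)
    (hS : Hens2.IsPairHenselization B K S) : Hens2.IsPairHenselization B J S := by
  refine ⟨?_, ?_⟩
  · have h1 : (J.map (algebraMap B S)).radical = (K.map (algebraMap B S)).radical := by
      apply le_antisymm
      · rw [Ideal.radical_le_radical_iff]
        calc J.map (algebraMap B S) ≤ (J.radical).map (algebraMap B S) :=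
              Ideal.map_mono Ideal.le_radical
          _ = (K.radical).map (algebraMap B S) := by rw [hrad]
          _ ≤ (K.map (algebraMap B S)).radical := Ideal.map_radical_le _
      · exact Ideal.radical_mono (Ideal.map_mono hKJ)
    exact (Groth.Agent.Helper1.henselianRing_iff_of_radical_eq h1).2 hS.1
  · intro D _ L f hD hle
    exact hS.2 D L f hD ((Ideal.map_mono hKJ).trans hle)

theorem tensor_bijective_of_isIntegral {A B Ah Bh : Type u} [CommRing A]
    [CommRing B] [CommRing Ah] [CommRing Bh] [Algebra A B] (I : Ideal A) (J : Ideal B)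
    (hIJ : I.map (algebraMap A B) ≤ J) (hrad : J.radical = (I.map (algebraMap A B)).radical)
    [Algebra.IsIntegral A B] [Algebra A Ah] (hA : Hens2.IsPairHenselization A I Ah)
    [Algebra B Bh] [Algebra A Bh] [IsScalarTower A B Bh] (hB : Hens2.IsPairHenselization B J Bh)
    (φ : Ah →ₐ[A] Bh) :
    Function.Bijective (Algebra.TensorProduct.productMap φ (IsScalarTower.toAlgHom A B Bh)) := by
  have hS : Hens2.IsPairHenselization B J (Ah ⊗[A] B) :=
    isPairHenselization_of_radical_eq _ J hIJ hrad (isPairHenselization_tensor_of_isIntegral I hA)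
  obtain ⟨e⟩ := nonempty_algEquiv hS hB
  -- both maps are `B`-algebra maps out of a henselization
  obtain ⟨g, -, hg⟩ := hS.2 Bh (J.map (algebraMap B Bh)) (algebraMap B Bh) hB.1 le_rfl
  have h1 : ((e : Ah ⊗[A] B ≃ₐ[B] Bh) : Ah ⊗[A] B →+* Bh) = g := by
    apply hg
    exact RingHom.ext fun b => e.commutes b
  have h2 : ((Algebra.TensorProduct.productMap φ (IsScalarTower.toAlgHom A B Bh) :
      Ah ⊗[A] B →ₐ[A] Bh) : Ah ⊗[A] B →+* Bh) = g := by
    apply hg
    refine RingHom.ext fun b => ?_
    change Algebra.TensorProduct.productMap φ (IsScalarTower.toAlgHom A B Bh)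
      ((1 : Ah) ⊗ₜ[A] b) = algebraMap B Bh b
    rw [Algebra.TensorProduct.productMap_right_apply]
    rfl
  have h3 : ∀ x, Algebra.TensorProduct.productMap φ (IsScalarTower.toAlgHom A B Bh) x = e x := by
    intro x
    have := RingHom.congr_fun (h2.trans h1.symm) x
    exact this
  have h4 : ⇑(Algebra.TensorProduct.productMap φ (IsScalarTower.toAlgHom A B Bh)) = ⇑e :=
    funext h3
  rw [h4]
  exact e.bijective

end Groth.Agent.Helper26.PH
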