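import Mathlib
import Groth.Prelude.Def_Hens2
import Groth.Agent.Lib.Helper1.Hensel
import Groth.Agent.Lib.Helper26.PHMore

/-!
# Henselizations modulo powers of the ideal (helper26)
-/

set_option autoImplicit false

open TensorProduct

namespace Groth.Agent.Helper26.PH

universe u

variable {R : Type u} [CommRing R] {J : Ideal R} {B : Type u} [CommRing B] [Algebra R B]
  (hB : Hens2.IsPairHenselization R J B)

include hB in
theorem pow_inj (r : ℕ) (x : R) (hx : algebraMap R B x ∈ (J ^ r).map (algebraMap R B)) :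
    x ∈ J ^ r := by
  have hnil : ∀ y ∈ J.map (Ideal.Quotient.mk (J ^ r)), IsNilpotent y := by
    intro y hy
    refine ⟨r, ?_⟩
    have h1 : y ^ r ∈ (J.map (Ideal.Quotient.mk (J ^ r))) ^ r := Ideal.pow_mem_pow hy r
    rw [← Ideal.map_pow, Ideal.map_quotient_self] at h1
    exact h1
  have hH : HenselianRing (R ⧸ J ^ r) (J.map (Ideal.Quotient.mk (J ^ r))) :=
    Groth.Agent.Helper1.henselianRing_of_nil _ hnil
  obtain ⟨g, hg, -⟩ := hB.2 (R ⧸ J ^ r) (J.map (Ideal.Quotient.mk (J ^ r)))
    (Ideal.Quotient.mk (J ^ r)) hH le_rfl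
  have h2 : g (algebraMap R B x) ∈ ((J ^ r).map (algebraMap R B)).map g :=
    Ideal.mem_map_of_mem _ hx
  rw [Ideal.map_map, hg, Ideal.map_quotient_self, Ideal.mem_bot] at h2
  have h3 : g (algebraMap R B x) = Ideal.Quotient.mk (J ^ r) x := congrArg (fun k => k x) hg
  rw [h3, Ideal.Quotient.eq_zero_iff_mem] at h2
  exact h2

include hB in
theorem pow_surj (r : ℕ) (b : B) : ∃ x, b - algebraMap R B x ∈ (J ^ r).map (algebraMap R B) := by
  let N : Submodule R B := LinearMap.range (Algebra.linearMap R B)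
  have key : ∀ r : ℕ, N ⊔ (J ^ r) • (⊤ : Submodule R B) = ⊤ := by
    intro r
    induction r with
    | zero =>
      rw [pow_zero, Ideal.one_eq_top, Submodule.top_smul]
      exact sup_top_eq _
    | succ r ih =>
      have h1 : N ⊔ J • (⊤ : Submodule R B) = ⊤ := by
        rw [eq_top_iff]
        intro b _
        obtain ⟨x, hx⟩ := (bij_iff.1 (quotientMap_bijective hB)).2 b
        have : b = algebraMap R B x + (b - algebraMap R B x) := by ring
        rw [this]
        refine Submodule.add_mem_sup ⟨x, rfl⟩ ?_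
        rw [Ideal.smul_top_eq_map]
        exact hx
      have h2 : J • N ≤ N := by
        rw [Submodule.smul_le]
        rintro c - _ ⟨y, rfl⟩
        exact ⟨c * y, by simp [Algebra.smul_def]⟩
      have h3 : J • (⊤ : Submodule R B) ≤ N ⊔ (J ^ (r + 1)) • (⊤ : Submodule R B) := by
        calc J • (⊤ : Submodule R B) = J • (N ⊔ (J ^ r) • (⊤ : Submodule R B)) := by rw [ih]
          _ = J • N ⊔ J • (J ^ r) • (⊤ : Submodule R B) := Submodule.smul_sup _ _ _
          _ ≤ N ⊔ (J ^ (r + 1)) • (⊤ : Submodule R B) := by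
            refine sup_le_sup h2 ?_
            rw [← Submodule.mul_smul, pow_succ']
      rw [eq_top_iff]
      calc (⊤ : Submodule R B) = N ⊔ J • (⊤ : Submodule R B) := h1.symm
        _ ≤ N ⊔ (J ^ (r + 1)) • (⊤ : Submodule R B) := sup_le le_sup_left h3
  have hb : b ∈ N ⊔ (J ^ r) • (⊤ : Submodule R B) := by
    rw [key r]
    trivial
  obtain ⟨_, ⟨x, rfl⟩, z, hz, rfl⟩ := Submodule.mem_sup.1 hb
  refine ⟨x, ?_⟩
  rw [Ideal.smul_top_eq_map] at hz
  change algebraMap R B x + z - algebraMap R B x ∈ _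
  rw [add_sub_cancel_left]
  exact hz

/-- the reduction of the henselization modulo `I ^ r` -/
theorem nonempty_algEquiv_quotient_pow (A : Type u) [CommRing A] (I : Ideal A)
    (R : Type u) [CommRing R] [Algebra A R]
    (B : Type u) [CommRing B] [Algebra R B] [Algebra A B] [IsScalarTower A R B]
    (hB : Hens2.IsPairHenselization R (I.map (algebraMap A R)) B) (r : ℕ) :
    Nonempty ((R ⧸ (I ^ r).map (algebraMap A R)) ≃ₐ[A ⧸ I ^ r]
      (B ⧸ (I ^ r).map (algebraMap A B))) := by
  have hmap : ((I ^ r).map (algebraMap A R)).map (algebraMap R B) =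
      (I ^ r).map (algebraMap A B) := by
    rw [Ideal.map_map, ← IsScalarTower.algebraMap_eq]
  have hle : (I ^ r).map (algebraMap A R) ≤
      Ideal.comap (algebraMap R B) ((I ^ r).map (algebraMap A B)) := by
    rw [← Ideal.map_le_iff_le_comap, hmap]
  let f₀ : (R ⧸ (I ^ r).map (algebraMap A R)) →+* (B ⧸ (I ^ r).map (algebraMap A B)) :=
    Ideal.quotientMap _ (algebraMap R B) hle
  have hpow : (I.map (algebraMap A R)) ^ r = (I ^ r).map (algebraMap A R) :=
    (Ideal.map_pow _ _ _).symm
  have hbij : Function.Bijective f₀ := by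
    constructor
    · rw [injective_iff_map_eq_zero]
      intro x hx
      obtain ⟨x, rfl⟩ := Ideal.Quotient.mk_surjective x
      rw [Ideal.quotientMap_mk, Ideal.Quotient.eq_zero_iff_mem, ← hmap, ← hpow] at hx
      rw [Ideal.Quotient.eq_zero_iff_mem, ← hpow]
      exact pow_inj hB r x hx
    · intro b
      obtain ⟨b, rfl⟩ := Ideal.Quotient.mk_surjective b
      obtain ⟨x, hx⟩ := pow_surj hB r b
      refine ⟨Ideal.Quotient.mk _ x, ?_⟩
      rw [Ideal.quotientMap_mk, Ideal.Quotient.eq, ← hmap, ← hpow, ← neg_sub]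
      exact neg_mem hx
  let f : (R ⧸ (I ^ r).map (algebraMap A R)) →ₐ[A ⧸ I ^ r] (B ⧸ (I ^ r).map (algebraMap A B)) :=
    { f₀ with
      commutes' := by
        intro a
        obtain ⟨a, rfl⟩ := Ideal.Quotient.mk_surjective a
        change f₀ (Ideal.Quotient.mk _ (algebraMap A R a)) =
          Ideal.Quotient.mk _ (algebraMap A B a)
        rw [Ideal.quotientMap_mk, ← IsScalarTower.algebraMap_apply] }
  exact ⟨AlgEquiv.ofBijective f hbij⟩

theorem etale_quotient_pow (A : Type u) [CommRing A] (I : Ideal A)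
    (R : Type u) [CommRing R] [Algebra A R] [Algebra.Etale A R]
    (B : Type u) [CommRing B] [Algebra R B] [Algebra A B] [IsScalarTower A R B]
    (hB : Hens2.IsPairHenselization R (I.map (algebraMap A R)) B) (r : ℕ) :
    Algebra.Etale (A ⧸ I ^ r) (B ⧸ (I ^ r).map (algebraMap A B)) := by
  obtain ⟨e⟩ := nonempty_algEquiv_quotient_pow A I R B hB r
  have h1 : Algebra.Etale (A ⧸ I ^ r) ((A ⧸ I ^ r) ⊗[A] R) := inferInstance
  have h2 : Algebra.Etale (A ⧸ I ^ r) (R ⧸ (I ^ r).map (algebraMap A R)) :=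
    Algebra.Etale.of_equiv (Algebra.TensorProduct.quotIdealMapEquivQuotTensor R (I ^ r)).symm
  exact Algebra.Etale.of_equiv e

theorem smooth_quotient_pow (A : Type u) [CommRing A] (I : Ideal A)
    (R : Type u) [CommRing R] [Algebra A R] [Algebra.Smooth A R]
    (B : Type u) [CommRing B] [Algebra R B] [Algebra A B] [IsScalarTower A R B]
    (hB : Hens2.IsPairHenselization R (I.map (algebraMap A R)) B) (r : ℕ) :
    Algebra.Smooth (A ⧸ I ^ r) (B ⧸ (I ^ r).map (algebraMap A B)) := by
  obtain ⟨e⟩ := nonempty_algEquiv_quotient_pow A I R B hB r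
  have h1 : Algebra.Smooth (A ⧸ I ^ r) ((A ⧸ I ^ r) ⊗[A] R) := inferInstance
  have h2 : Algebra.Smooth (A ⧸ I ^ r) (R ⧸ (I ^ r).map (algebraMap A R)) :=
    Algebra.Smooth.of_equiv (Algebra.TensorProduct.quotIdealMapEquivQuotTensor R (I ^ r)).symm
  exact Algebra.Smooth.of_equiv e

theorem flat_of_smooth (A : Type u) [CommRing A] (I : Ideal A)
    (R : Type u) [CommRing R] [Algebra A R] [Algebra.Smooth A R]
    (B : Type u) [CommRing B] [Algebra R B] [Algebra A B] [IsScalarTower A R B]
    (hB : Hens2.IsPairHenselization R (I.map (algebraMap A R)) B) : Module.Flat A B := by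
  have := flat hB
  exact Module.Flat.trans A R B

end Groth.Agent.Helper26.PH
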