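import Mathlib
import Groth.Prelude.Def_Hens2
import Groth.Prelude.Def_Hensel
import Groth.Agent.Lib.Helper26.PHPow
import Groth.Agent.Lib.Helper26.PHIntBC
import Groth.Agent.Lib.Helper26.HensEtBij

/-!
# Quick consequences of the pair-henselization library (helper26)
-/

set_option autoImplicit false
set_option linter.unusedSectionVars false
set_option linter.style.haveILetI false

namespace Groth.Agent.Helper26.PH

universe u

open IsLocalRing

/-- existence of the henselization of a pair -/
theorem exists_isPairHenselization (A : Type u) [CommRing A] (I : Ideal A) :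
    ∃ (Ah : Type u) (_ : CommRing Ah) (_ : Algebra A Ah), Hens2.IsPairHenselization A I Ah :=
  ⟨Colim A I, inferInstance, inferInstance, colim_isPairHenselization A I⟩

theorem flat_and_quotient_pow_bijective (A : Type u) [CommRing A] (I : Ideal A) (B : Type u)
    [CommRing B] [Algebra A B] (hB : Hens2.IsPairHenselization A I B) :
    Module.Flat A B ∧ ∀ n : ℕ, Function.Bijective
      (Ideal.quotientMap ((I ^ n).map (algebraMap A B)) (algebraMap A B) Ideal.le_comap_map) := by
  refine ⟨flat hB, fun n => ?_⟩
  rw [bij_iff]
  exact ⟨fun r hr => pow_inj hB n r hr, fun b => pow_surj hB n b⟩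

theorem isPairHenselization_iff_of_zeroLocus_eq (A : Type u) [CommRing A] (I J : Ideal A)
    (h : PrimeSpectrum.zeroLocus (I : Set A) = PrimeSpectrum.zeroLocus (J : Set A)) (B : Type u)
    [CommRing B] [Algebra A B] :
    Hens2.IsPairHenselization A I B ↔ Hens2.IsPairHenselization A J B := by
  have hrad : I.radical = J.radical := by
    rw [← PrimeSpectrum.vanishingIdeal_zeroLocus_eq_radical,
      ← PrimeSpectrum.vanishingIdeal_zeroLocus_eq_radical, h]
  have key : ∀ (K L : Ideal A), K.radical = L.radical → Hens2.IsPairHenselization A K B →
      Hens2.IsPairHenselization A L B := by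
    intro K L hKL hK
    have h1 : Hens2.IsPairHenselization A K.radical B :=
      isPairHenselization_of_radical_eq K K.radical Ideal.le_radical (Ideal.radical_idem K) hK
    rw [hKL] at h1
    -- go down from the radical to `L`
    refine ⟨?_, ?_⟩
    · have h2 : (L.map (algebraMap A B)).radical = (L.radical.map (algebraMap A B)).radical := by
        apply le_antisymm
        · exact Ideal.radical_mono (Ideal.map_mono Ideal.le_radical)
        · rw [Ideal.radical_le_radical_iff]
          exact Ideal.map_radical_le _
      exact (Groth.Agent.Helper1.henselianRing_iff_of_radical_eq h2).2 h1.1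
    · intro D _ M f hD hle
      have hD' : HenselianRing D M.radical :=
        (Groth.Agent.Helper1.henselianRing_iff_of_radical_eq (Ideal.radical_idem M)).2 hD
      refine h1.2 D M.radical f hD' ?_
      calc L.radical.map f ≤ (L.map f).radical := Ideal.map_radical_le _
        _ ≤ M.radical := Ideal.radical_mono hle
  exact ⟨key I J hrad, key J I hrad.symm⟩

end Groth.Agent.Helper26.PH
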