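import Mathlib
import Groth.Prelude.Def_Hens2
import Groth.Prelude.Def_Hensel
import Groth.Agent.Lib.Helper26.PHQuick1
import Groth.Agent.Lib.Helper26.HensIndEt2

/-!
# Pair henselization at the maximal ideal = henselization of the local ring (helper26)
-/

set_option autoImplicit false
set_option linter.unusedSectionVars false
set_option linter.style.haveILetI false

namespace Groth.Agent.Helper26.PH

universe u

open IsLocalRing

section
variable (A B : Type u) [CommRing A] [IsLocalRing A] [CommRing B]
    [IsLocalRing B] [Algebra A B] [IsLocalHom (algebraMap A B)]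

theorem isHenselization_of_isPairHenselization
    (hB : Hens2.IsPairHenselization A (maximalIdeal A) B) : Hensel.IsHenselization A B := by
  have hM : ((maximalIdeal A).map (algebraMap A B)).IsMaximal := by
    have hb := quotientMap_bijective hB
    let e : (A ⧸ maximalIdeal A) ≃+* (B ⧸ (maximalIdeal A).map (algebraMap A B)) :=
      RingEquiv.ofBijective _ hb
    rw [Ideal.Quotient.maximal_ideal_iff_isField_quotient]
    exact e.symm.toMulEquiv.isField
      (Ideal.Quotient.maximal_ideal_iff_isField_quotient _ |>.1 inferInstance)
  have hmax : maximalIdeal B = (maximalIdeal A).map (algebraMap A B) :=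
    (IsLocalRing.eq_maximalIdeal hM).symm
  refine ⟨?_, ?_⟩
  · apply Groth.Agent.Helper26.HensEtBij.henselianLocalRing_of_henselianRing
    rw [hmax]
    exact hB.1
  · intro T _ _ f hf
    refine hB.2 T (maximalIdeal T) f inferInstance ?_
    rw [Ideal.map_le_iff_le_comap]
    intro r hr
    rw [Ideal.mem_comap, IsLocalRing.mem_maximalIdeal]
    intro hu
    exact (IsLocalRing.mem_maximalIdeal r).1 hr (hf.map_nonunit r hu)

theorem isPairHenselization_of_isHenselization [Hensel.IsHenselization A B] :
    Hens2.IsPairHenselization A (maximalIdeal A) B := by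
  obtain ⟨e, he⟩ := Groth.Agent.Helper26.HensIndEt.exists_ringEquiv A B
  let e' : Colim A (maximalIdeal A) ≃ₐ[A] B := { e with commutes' := he }
  exact isPairHenselization_of_algEquiv (colim_isPairHenselization A (maximalIdeal A)) e'

theorem isPairHenselization_maximalIdeal_iff :
    Hens2.IsPairHenselization A (maximalIdeal A) B ↔ Hensel.IsHenselization A B :=
  ⟨isHenselization_of_isPairHenselization A B, fun _ => isPairHenselization_of_isHenselization A B⟩

end

end Groth.Agent.Helper26.PH
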