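import Mathlib
import Groth.Prelude.Def_Hensel
import Groth.Agent.Lib.Helper26.PHQuick2
import Groth.Agent.Lib.Helper26.EtSub2
import Groth.Agent.Lib.Helper26.EtFlat2
import Groth.Agent.Lib.Helper26.HensPrime1

/-!
# The henselization of `R_p` as a colimit of étale neighbourhoods (helper26)
-/

set_option autoImplicit false
set_option linter.unusedSectionVars false
set_option linter.style.haveILetI false

namespace Groth.Agent.Helper26.HensPrime

universe u
open IsLocalRing

variable (R : Type u) [CommRing R] (p : Ideal R) [p.IsPrime] (Rh : Type u) [CommRing Rh]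
  [IsLocalRing Rh] [Algebra (Localization.AtPrime p) Rh]
  [IsLocalHom (algebraMap (Localization.AtPrime p) Rh)]
  [Hensel.IsHenselization (Localization.AtPrime p) Rh] [Algebra R Rh]
  [IsScalarTower R (Localization.AtPrime p) Rh]

theorem comap_maximalIdeal : (maximalIdeal Rh).comap (algebraMap R Rh) = p := by
  rw [IsScalarTower.algebraMap_eq R (Localization.AtPrime p) Rh, ← Ideal.comap_comap,
    IsLocalRing.maximalIdeal_comap]
  exact IsLocalization.AtPrime.under_maximalIdeal (Localization.AtPrime p) p

include p in
theorem flat : Module.Flat R Rh := by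
  haveI : Module.Flat (Localization.AtPrime p) Rh :=
    PH.flat (PH.isPairHenselization_of_isHenselization (Localization.AtPrime p) Rh)
  exact Module.Flat.trans R (Localization.AtPrime p) Rh

theorem resSurj : ResSurj R p Rh := by
  intro k
  obtain ⟨x, rfl⟩ := residue_surjective k
  have hB := PH.isPairHenselization_of_isHenselization (Localization.AtPrime p) Rh
  obtain ⟨y, hy⟩ := (PH.quotientMap_bijective hB).2 (Ideal.Quotient.mk _ x)
  obtain ⟨y, rfl⟩ := Ideal.Quotient.mk_surjective y
  have h1 : algebraMap (Localization.AtPrime p) Rh y - x ∈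
      (maximalIdeal (Localization.AtPrime p)).map (algebraMap (Localization.AtPrime p) Rh) := by
    rw [← Ideal.Quotient.eq]
    exact hy
  have h2 : (maximalIdeal (Localization.AtPrime p)).map (algebraMap (Localization.AtPrime p) Rh) ≤
      maximalIdeal Rh := by
    rw [Ideal.map_le_iff_le_comap, IsLocalRing.maximalIdeal_comap]
  have h3 : residue Rh (algebraMap (Localization.AtPrime p) Rh y) = residue Rh x := by
    rw [← sub_eq_zero, ← map_sub, residue_eq_zero_iff]
    exact h2 h1
  obtain ⟨a, s, rfl⟩ := IsLocalization.exists_mk'_eq p.primeCompl y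
  refine ⟨a, s, s.2, ?_⟩
  rw [← h3, ← map_mul, IsScalarTower.algebraMap_apply R (Localization.AtPrime p) Rh,
    IsScalarTower.algebraMap_apply R (Localization.AtPrime p) Rh, ← map_mul,
    IsLocalization.mk'_spec]

include p in
/-- every element of the henselization comes from an étale `R`-algebra -/
theorem isEt (x : Rh) : EtSub.IsEt R Rh x := by
  haveI : HenselianLocalRing Rh :=
    Hensel.IsHenselization.henselian (R := Localization.AtPrime p) (S := Rh)
  let T' := EtSub.sub R Rh
  let ι : T' →+* Rh := algebraMap T' Rh
  have hι : ∀ y : T', ι y = (y : Rh) := fun _ => rfl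
  have hunits : ∀ s : p.primeCompl, IsUnit (algebraMap R T' s) := by
    intro s
    apply EtSub.isUnit_of_isUnit_coe
    change IsUnit (algebraMap R Rh s)
    rw [IsScalarTower.algebraMap_apply R (Localization.AtPrime p) Rh]
    exact (IsLocalization.map_units (Localization.AtPrime p) s).map _
  let j : Localization.AtPrime p →+* T' := IsLocalization.lift (M := p.primeCompl) hunits
  have hj : ∀ r : R, j (algebraMap R (Localization.AtPrime p) r) = algebraMap R T' r :=
    fun r => IsLocalization.lift_eq hunits r
  have hιj : ι.comp j = algebraMap (Localization.AtPrime p) Rh := by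
    apply IsLocalization.ringHom_ext p.primeCompl
    ext r
    change ι (j (algebraMap R (Localization.AtPrime p) r)) =
      algebraMap (Localization.AtPrime p) Rh (algebraMap R (Localization.AtPrime p) r)
    rw [hj, ← IsScalarTower.algebraMap_apply R (Localization.AtPrime p) Rh]
    rfl
  have hjloc : IsLocalHom j := by
    constructor
    intro y hy
    have h1 : IsUnit (ι (j y)) := hy.map ι
    have h2 : ι (j y) = algebraMap (Localization.AtPrime p) Rh y := by
      rw [← hιj]
      rfl
    rw [h2] at h1
    exact isUnit_of_map_unit (algebraMap (Localization.AtPrime p) Rh) y h1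
  obtain ⟨g, hg, -⟩ := Hensel.IsHenselization.universal (R := Localization.AtPrime p) (S := Rh)
    T' j hjloc
  have hg' : g.comp (algebraMap (Localization.AtPrime p) Rh) = j := hg
  obtain ⟨i, -, hiu⟩ := Hensel.IsHenselization.universal (R := Localization.AtPrime p) (S := Rh)
    Rh (algebraMap (Localization.AtPrime p) Rh) inferInstance
  have e1 : ι.comp g = i := by
    apply hiu
    change (ι.comp g).comp (algebraMap (Localization.AtPrime p) Rh) = _
    rw [RingHom.comp_assoc, hg', hιj]
  have e2 : RingHom.id Rh = i := by
    apply hiu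
    rfl
  have e3 : ι (g x) = x := by
    have := DFunLike.congr_fun (e1.trans e2.symm) x
    exact this
  rw [← e3]
  exact (g x).2

theorem partA (S : Type u) [CommRing S] [Algebra R S] [Algebra.Etale R S] (q : Ideal S) [q.IsPrime]
    (hq : p = q.comap (algebraMap R S))
    (hbij : Function.Bijective (Ideal.ResidueField.map p q (algebraMap R S) hq)) :
    ∃! f : S →ₐ[R] Rh, (IsLocalRing.maximalIdeal Rh).comap f.toRingHom = q := by
  haveI : HenselianLocalRing Rh :=
    Hensel.IsHenselization.henselian (R := Localization.AtPrime p) (S := Rh)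
  exact existsUnique_algHom (comap_maximalIdeal R p Rh) S q hq hbij

theorem partB (x : Rh) : ∃ (S : Type u) (_ : CommRing S) (_ : Algebra R S) (_ : Algebra.Etale R S)
    (q : Ideal S) (_ : q.IsPrime) (hq : p = q.comap (algebraMap R S)),
    Function.Bijective (Ideal.ResidueField.map p q (algebraMap R S) hq) ∧
      ∃ (f : S →ₐ[R] Rh) (s : S), (IsLocalRing.maximalIdeal Rh).comap f.toRingHom = q ∧ f s = x := by
  obtain ⟨C, _, _, _, φ, c, hc⟩ := isEt R p Rh x
  have hp := comap_maximalIdeal R p Rh
  haveI : ((maximalIdeal Rh).comap φ.toRingHom).IsPrime := Ideal.comap_isPrime _ _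
  refine ⟨C, inferInstance, inferInstance, inferInstance, (maximalIdeal Rh).comap φ.toRingHom,
    inferInstance, comap_comap_eq hp φ, ?_, φ, c, rfl, hc⟩
  exact map_bijective_of_comap hp (resSurj R p Rh) φ _ rfl _

theorem partC (S : Type u) [CommRing S] [Algebra R S] [Algebra.Etale R S] (q : Ideal S)
    (f : S →ₐ[R] Rh) (hfq : (IsLocalRing.maximalIdeal Rh).comap f.toRingHom = q) (s : S)
    (hs : f s = 0) :
    ∃ (S' : Type u) (_ : CommRing S') (_ : Algebra R S') (_ : Algebra.Etale R S') (q' : Ideal S')
      (_ : q'.IsPrime) (hq' : p = q'.comap (algebraMap R S')),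
      Function.Bijective (Ideal.ResidueField.map p q' (algebraMap R S') hq') ∧
        ∃ φ : S →ₐ[R] S', q'.comap φ.toRingHom = q ∧ φ s = 0 := by
  have hp := comap_maximalIdeal R p Rh
  haveI : Module.Flat R Rh := flat R p Rh
  obtain ⟨t, htu, hts⟩ := EtFlat.exists_mul_eq_zero_of_map_eq_zero R S Rh f s hs
  let S' := Localization.Away t
  haveI : Algebra.Etale R S' := Algebra.Etale.comp R S S'
  have hunits : ∀ y : Submonoid.powers t, IsUnit (f y) := by
    rintro ⟨_, n, rfl⟩
    change IsUnit (f (t ^ n))
    rw [map_pow]
    exact htu.pow n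
  let f' : S' →ₐ[R] Rh := IsLocalization.liftAlgHom (M := Submonoid.powers t) (f := f) hunits
  have hf' : ∀ y : S, f' (algebraMap S S' y) = f y := fun y => IsLocalization.lift_eq hunits y
  let φ : S →ₐ[R] S' := IsScalarTower.toAlgHom R S S'
  haveI : ((maximalIdeal Rh).comap f'.toRingHom).IsPrime := Ideal.comap_isPrime _ _
  refine ⟨S', inferInstance, inferInstance, inferInstance, (maximalIdeal Rh).comap f'.toRingHom,
    inferInstance, comap_comap_eq hp f', ?_, φ, ?_, ?_⟩
  · exact map_bijective_of_comap hp (resSurj R p Rh) f' _ rfl _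
  · rw [← hfq]
    ext y
    change f' (algebraMap S S' y) ∈ maximalIdeal Rh ↔ f y ∈ maximalIdeal Rh
    rw [hf']
  · change algebraMap S S' s = 0
    have h1 : algebraMap S S' t * algebraMap S S' s = 0 := by
      rw [← map_mul, hts, map_zero]
    have h2 : IsUnit (algebraMap S S' t) := IsLocalization.Away.algebraMap_isUnit t
    exact (h2.mul_right_eq_zero).1 h1

end Groth.Agent.Helper26.HensPrime
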