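import Mathlib

namespace Groth.Agent.Lib.Helper26.Pure1

open TensorProduct

universe u

variable {R : Type u} [CommRing R] {N P : Type u} [AddCommGroup N] [Module R N]
  [AddCommGroup P] [Module R P]

/-- every element of `M ⊗ K` is a finite sum of pure tensors indexed by a `Fintype` in `Type u`. -/
lemma exists_fin_sum {M K : Type u} [AddCommMonoid M] [Module R M] [AddCommMonoid K] [Module R K]
    (w : M ⊗[R] K) :
    ∃ (ι : Type u) (_ : Fintype ι) (p : ι → M) (κ : ι → K), w = ∑ i, p i ⊗ₜ[R] κ i := by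
  induction w using TensorProduct.induction_on with
  | zero => exact ⟨PEmpty, inferInstance, PEmpty.elim, PEmpty.elim, by simp⟩
  | tmul x y => exact ⟨PUnit, inferInstance, fun _ => x, fun _ => y, by simp⟩
  | add a b ha hb =>
    obtain ⟨ι₁, _, p₁, κ₁, rfl⟩ := ha
    obtain ⟨ι₂, _, p₂, κ₂, rfl⟩ := hb
    exact ⟨ι₁ ⊕ ι₂, inferInstance, Sum.elim p₁ p₂, Sum.elim κ₁ κ₂, by simp [Fintype.sum_sum_type]⟩

theorem ker_lTensor' {F Q : Type*} [AddCommGroup F] [Module R F]
    [AddCommGroup Q] [Module R Q]
    (π : F →ₗ[R] Q) (hπs : Function.Surjective π) (A' : Type*) [AddCommGroup A'] [Module R A']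
    (z : A' ⊗[R] F) (hz : LinearMap.lTensor A' π z = 0) :
    ∃ w, LinearMap.lTensor A' (LinearMap.ker π).subtype w = z := by
  have h1 : Function.Exact (LinearMap.ker π).subtype π := LinearMap.exact_subtype_ker_map π
  exact (lTensor_exact A' h1 hπs z).mp hz

theorem lTensor_subtype_zero {F Q : Type*} [AddCommGroup F] [Module R F]
    [AddCommGroup Q] [Module R Q]
    (π : F →ₗ[R] Q) (A' : Type*) [AddCommGroup A'] [Module R A']
    (w : A' ⊗[R] (LinearMap.ker π)) :
    LinearMap.lTensor A' π (LinearMap.lTensor A' (LinearMap.ker π).subtype w) = 0 := by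
  rw [← LinearMap.comp_apply, ← LinearMap.lTensor_comp]
  have : π ∘ₗ (LinearMap.ker π).subtype = 0 := by
    ext x; exact x.2
  rw [this, LinearMap.lTensor_zero, LinearMap.zero_apply]

/-- Equational purity of a linear map. -/
def Equational (f : N →ₗ[R] P) : Prop :=
  ∀ (ι κ : Type u) [Fintype ι] [Fintype κ] (A : ι → κ → R) (y : κ → N) (p : ι → P),
    (∀ j, f (y j) = ∑ i, A i j • p i) → ∃ x : ι → N, ∀ j, y j = ∑ i, A i j • x i

lemma finsuppScalarRight_rTensor (f : N →ₗ[R] P) (Q : Type u) [DecidableEq Q] (z : N ⊗[R] (Q →₀ R)) (q : Q) :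
    TensorProduct.finsuppScalarRight R R P Q (f.rTensor (Q →₀ R) z) q =
      f (TensorProduct.finsuppScalarRight R R N Q z q) := by
  induction z using TensorProduct.induction_on with
  | zero => simp
  | tmul x y => simp
  | add a b ha hb => simp [ha, hb]

theorem rTensor_injective_of_equational (f : N →ₗ[R] P) (hf : Equational f)
    (Q : Type u) [AddCommGroup Q] [Module R Q] : Function.Injective (f.rTensor Q) := by
  classical
  rw [injective_iff_map_eq_zero]
  intro z hz
  obtain ⟨π, hπdef⟩ : ∃ π : (Q →₀ R) →ₗ[R] Q, π = Finsupp.linearCombination R id := ⟨_, rfl⟩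
  have hπ : Function.Surjective π := by
    rw [hπdef]; exact Finsupp.linearCombination_id_surjective R Q
  obtain ⟨z', rfl⟩ := LinearMap.lTensor_surjective N hπ z
  have h1 : (π.lTensor P) ((f.rTensor (Q →₀ R)) z') = 0 := by
    rw [← hz, ← LinearMap.comp_apply, ← LinearMap.comp_apply, LinearMap.lTensor_comp_rTensor,
      LinearMap.rTensor_comp_lTensor]
  obtain ⟨w, hw⟩ := ker_lTensor' π hπ P _ h1
  obtain ⟨ι, _, p, κ, rfl⟩ := exists_fin_sum w
  have key : ∀ q, f (TensorProduct.finsuppScalarRight R R N Q z' q) =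
      ∑ i, ((κ i : Q →₀ R) q) • p i := by
    intro q
    rw [← finsuppScalarRight_rTensor, ← hw]
    simp [map_sum, Finsupp.finsetSum_apply]
  let T : Finset Q := (TensorProduct.finsuppScalarRight R R N Q z').support ∪
    Finset.univ.biUnion (fun i => (κ i : Q →₀ R).support)
  obtain ⟨x, hx⟩ := hf ι T (fun i j => (κ i : Q →₀ R) j)
    (fun j => TensorProduct.finsuppScalarRight R R N Q z' j) p (fun j => key j)
  have hz' : z' = (LinearMap.ker π).subtype.lTensor N (∑ i, x i ⊗ₜ κ i) := by
    apply (TensorProduct.finsuppScalarRight R R N Q).injective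
    ext q
    simp only [map_sum, LinearMap.lTensor_tmul, Submodule.subtype_apply, Finsupp.finsetSum_apply,
      TensorProduct.finsuppScalarRight_apply_tmul_apply]
    by_cases hq : q ∈ T
    · exact hx ⟨q, hq⟩
    · have h0 : TensorProduct.finsuppScalarRight R R N Q z' q = 0 := by
        by_contra hne
        exact hq (Finset.mem_union_left _ (Finsupp.mem_support_iff.mpr hne))
      rw [h0]
      symm
      apply Finset.sum_eq_zero
      intro i _
      have : (κ i : Q →₀ R) q = 0 := by
        by_contra hne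
        exact hq (Finset.mem_union_right _ (Finset.mem_biUnion.mpr
          ⟨i, Finset.mem_univ _, Finsupp.mem_support_iff.mpr hne⟩))
      rw [this, zero_smul]
  rw [hz']
  exact lTensor_subtype_zero π N _

end Groth.Agent.Lib.Helper26.Pure1
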