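import Mathlib
import Groth.Agent.Lib.Helper26.Pure1

namespace Groth.Agent.Lib.Helper26.Pure4

open TensorProduct Groth.Agent.Lib.Helper26.Pure1

universe u

variable {R : Type u} [CommRing R] {N P : Type u} [AddCommGroup N] [Module R N]
  [AddCommGroup P] [Module R P]

theorem exists_of_lTensor_mkQ_range {F₁ F₂ : Type*} [AddCommGroup F₁] [Module R F₁]
    [AddCommGroup F₂] [Module R F₂] (T : F₁ →ₗ[R] F₂) (N : Type*) [AddCommGroup N] [Module R N]
    (z : N ⊗[R] F₂) (hz : (LinearMap.range T).mkQ.lTensor N z = 0) :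
    ∃ w, T.lTensor N w = z :=
  (lTensor_exact N (LinearMap.exact_map_mkQ_range T) (Submodule.mkQ_surjective _) z).1 hz

theorem lTensor_mkQ_range_comp {F₁ F₂ : Type*} [AddCommGroup F₁] [Module R F₁]
    [AddCommGroup F₂] [Module R F₂] (T : F₁ →ₗ[R] F₂) (N : Type*) [AddCommGroup N] [Module R N]
    (w : N ⊗[R] F₁) : (LinearMap.range T).mkQ.lTensor N (T.lTensor N w) = 0 := by
  rw [← LinearMap.comp_apply, ← LinearMap.lTensor_comp]
  have : (LinearMap.range T).mkQ ∘ₗ T = 0 := by
    ext x
    simp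
  rw [this, LinearMap.lTensor_zero, LinearMap.zero_apply]

theorem equational_of_univInj (f : N →ₗ[R] P)
    (hf : ∀ (Q : Type u) [AddCommGroup Q] [Module R Q], Function.Injective (f.rTensor Q)) :
    Equational f := by
  intro ι κ _ _ A y p h
  classical
  obtain ⟨T, hT⟩ : ∃ T : (ι → R) →ₗ[R] (κ → R), T = Fintype.linearCombination R A := ⟨_, rfl⟩
  have hTe : ∀ i, T (Pi.single i 1) = A i := by
    intro i; rw [hT, Fintype.linearCombination_apply_single, one_smul]
  let z : N ⊗[R] (κ → R) := ∑ j, y j ⊗ₜ Pi.single j 1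
  have hfz : f.rTensor (κ → R) z = T.lTensor P (∑ i, p i ⊗ₜ Pi.single i 1) := by
    apply (TensorProduct.piScalarRight R R P κ).injective
    ext j
    simp only [z, map_sum, LinearMap.rTensor_tmul, LinearMap.lTensor_tmul, hTe,
      TensorProduct.piScalarRight_apply, TensorProduct.piScalarRightHom_tmul, Finset.sum_apply,
      Pi.single_apply, ite_smul, one_smul, zero_smul, Finset.sum_ite_eq, Finset.sum_ite_eq', Finset.mem_univ,
      if_true, h j]
  have hz : (LinearMap.range T).mkQ.lTensor N z = 0 := by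
    apply hf ((κ → R) ⧸ LinearMap.range T)
    rw [map_zero, ← LinearMap.comp_apply, LinearMap.rTensor_comp_lTensor,
      ← LinearMap.lTensor_comp_rTensor, LinearMap.comp_apply, hfz]
    exact lTensor_mkQ_range_comp T P _
  obtain ⟨w, hw⟩ := exists_of_lTensor_mkQ_range T N z hz
  obtain ⟨x, rfl⟩ : ∃ x, w = (TensorProduct.piScalarRight R R N ι).symm x :=
    ⟨_, (LinearEquiv.symm_apply_apply _ _).symm⟩
  refine ⟨x, fun j => ?_⟩
  have hw' : (TensorProduct.piScalarRight R R N ι).symm x = ∑ i, x i ⊗ₜ Pi.single i 1 := by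
    conv_lhs => rw [← Finset.univ_sum_single x]
    rw [map_sum]
    exact Finset.sum_congr rfl fun i _ => TensorProduct.piScalarRight_symm_single R R N ι (x i) i
  have h2 := congrArg (fun t => TensorProduct.piScalarRight R R N κ t j) hw
  rw [hw'] at h2
  simp only [z, map_sum, LinearMap.lTensor_tmul, hTe,
    TensorProduct.piScalarRight_apply, TensorProduct.piScalarRightHom_tmul, Finset.sum_apply,
    Pi.single_apply, ite_smul, one_smul, zero_smul, Finset.sum_ite_eq, Finset.mem_univ,
    if_true] at h2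
  exact h2.symm

theorem equational_pi {ι' : Type u} {N' P' : ι' → Type u} [∀ i, AddCommGroup (N' i)]
    [∀ i, Module R (N' i)] [∀ i, AddCommGroup (P' i)] [∀ i, Module R (P' i)]
    (g : ∀ i, N' i →ₗ[R] P' i) (hg : ∀ i, Equational (g i)) :
    Equational (LinearMap.pi (fun i => g i ∘ₗ LinearMap.proj i) :
      (∀ i, N' i) →ₗ[R] (∀ i, P' i)) := by
  intro ι κ _ _ A y p h
  have : ∀ i', ∃ x : ι → N' i', ∀ j, y j i' = ∑ i, A i j • x i := by
    intro i'
    apply hg i' ι κ A (fun j => y j i') (fun i => p i i')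
    intro j
    have := congrFun (h j) i'
    simpa [Finset.sum_apply] using this
  choose x hx using this
  refine ⟨fun i i' => x i' i, fun j => ?_⟩
  ext i'
  rw [hx i' j, Finset.sum_apply]
  rfl

end Groth.Agent.Lib.Helper26.Pure4
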