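import Mathlib
import Groth.Prelude.Def_Found
import Groth.Agent.Lib.Helper26.Pure4

namespace Groth.Agent.Lib.Helper26.ML3

open TensorProduct Groth.Agent.Lib.Helper26

universe u

section general

variable {R : Type u} [CommRing R]

lemma piRightHom_apply_eq {N : Type u} [AddCommGroup N] [Module R N] {ι : Type u}
    (Q : ι → Type u) [∀ i, AddCommGroup (Q i)] [∀ i, Module R (Q i)]
    (z : N ⊗[R] (∀ i, Q i)) (i : ι) :
    TensorProduct.piRightHom R R N Q z i =
      (LinearMap.proj i : (∀ i, Q i) →ₗ[R] Q i).lTensor N z := by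
  induction z using TensorProduct.induction_on with
  | zero => simp
  | tmul n f => simp
  | add z₁ z₂ h₁ h₂ => simp only [map_add, Pi.add_apply, h₁, h₂]

end general

variable (R : Type u) [CommRing R] (S : Type u) [CommRing S] [Algebra R S]

/-- `Q → S ⊗ Q` is universally injective for faithfully flat `S`. -/
theorem univInj_mk [Module.FaithfullyFlat R S] (Q : Type u) [AddCommGroup Q] [Module R Q]
    (T : Type u) [AddCommGroup T] [Module R T] :
    Function.Injective ((TensorProduct.mk R S Q 1).rTensor T) := by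
  have h := Module.FaithfullyFlat.tensorProduct_mk_injective (A := R) (B := S) (Q ⊗[R] T)
  have key : ∀ z, (TensorProduct.assoc R S Q T) ((TensorProduct.mk R S Q 1).rTensor T z) =
      TensorProduct.mk R S (Q ⊗[R] T) 1 z := by
    intro z
    induction z using TensorProduct.induction_on with
    | zero => simp
    | tmul q t => simp
    | add z₁ z₂ h₁ h₂ => simp only [map_add, h₁, h₂]
  intro a b hab
  apply h
  rw [← key, ← key, hab]

variable (M : Type u) [AddCommGroup M] [Module R M]

/-- `M ⊗_R X ≃ (S ⊗_R M) ⊗_S X` for an `S`-module `X`. -/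
noncomputable def Θ (X : Type u) [AddCommGroup X] [Module R X] [Module S X] [IsScalarTower R S X] :
    M ⊗[R] X ≃ₗ[R] (S ⊗[R] M) ⊗[S] X :=
  (TensorProduct.comm R M X) ≪≫ₗ
    ((TensorProduct.AlgebraTensorModule.cancelBaseChange R S S X M).symm.restrictScalars R) ≪≫ₗ
    ((TensorProduct.comm S X (S ⊗[R] M)).restrictScalars R)

lemma Θ_tmul (X : Type u) [AddCommGroup X] [Module R X] [Module S X] [IsScalarTower R S X]
    (m : M) (x : X) : Θ R S M X (m ⊗ₜ x) = ((1 : S) ⊗ₜ[R] m) ⊗ₜ[S] x := by
  simp [Θ]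

lemma Θ_natural {X X' : Type u} [AddCommGroup X] [Module R X] [Module S X] [IsScalarTower R S X]
    [AddCommGroup X'] [Module R X'] [Module S X'] [IsScalarTower R S X']
    (u : X →ₗ[S] X') (y : M ⊗[R] X) :
    u.lTensor (S ⊗[R] M) (Θ R S M X y) = Θ R S M X' ((u.restrictScalars R).lTensor M y) := by
  induction y using TensorProduct.induction_on with
  | zero => simp
  | tmul m x => simp [Θ_tmul]
  | add y₁ y₂ h₁ h₂ => simp only [map_add, h₁, h₂]

theorem ml_descent [Module.FaithfullyFlat R S]
    (h : CAlg.IsMittagLeffler S (S ⊗[R] M)) : CAlg.IsMittagLeffler R M := by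
  intro ι Q _ _
  rw [injective_iff_map_eq_zero]
  intro x hx
  have hpr : ∀ i, (LinearMap.proj i : (∀ i, Q i) →ₗ[R] Q i).lTensor M x = 0 := by
    intro i
    rw [← piRightHom_apply_eq, hx, Pi.zero_apply]
  let g : ∀ i, Q i →ₗ[R] S ⊗[R] Q i := fun i => TensorProduct.mk R S (Q i) 1
  let G : (∀ i, Q i) →ₗ[R] (∀ i, S ⊗[R] Q i) := LinearMap.pi (fun i => g i ∘ₗ LinearMap.proj i)
  have hG : Function.Injective (G.lTensor M) := by
    rw [LinearMap.lTensor_inj_iff_rTensor_inj]
    exact Pure1.rTensor_injective_of_equational G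
      (Pure4.equational_pi g (fun i => Pure4.equational_of_univInj (g i)
        (fun T _ _ => univInj_mk R S (Q i) T))) M
  apply hG
  rw [map_zero]
  apply (Θ R S M (∀ i, S ⊗[R] Q i)).injective
  rw [map_zero]
  apply h ι (fun i => S ⊗[R] Q i)
  rw [map_zero]
  ext i
  rw [piRightHom_apply_eq, Θ_natural, Pi.zero_apply]
  have : ((LinearMap.proj i : (∀ i, S ⊗[R] Q i) →ₗ[S] S ⊗[R] Q i).restrictScalars R).lTensor M
      (G.lTensor M x) = (g i).lTensor M
        ((LinearMap.proj i : (∀ i, Q i) →ₗ[R] Q i).lTensor M x) := by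
    rw [← LinearMap.comp_apply, ← LinearMap.comp_apply, ← LinearMap.lTensor_comp,
      ← LinearMap.lTensor_comp]
    rfl
  rw [this, hpr i, map_zero, map_zero]

end Groth.Agent.Lib.Helper26.ML3
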