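import Mathlib

/-!
# Kaplansky dévissage III: enlarging a countably generated submodule to one adapted to a
direct sum decomposition of the base change
-/

set_option autoImplicit false
universe u

namespace Groth.Agent.Lib.Helper26.Kap3

open scoped Classical TensorProduct
open DirectSum

variable {R S : Type u} [CommRing R] [CommRing S] [Algebra R S]
  {M : Type u} [AddCommGroup M] [Module R M]

/-- the map `m ↦ 1 ⊗ m` -/
noncomputable abbrev mk1 (R S M : Type u) [CommRing R] [CommRing S] [Algebra R S]
    [AddCommGroup M] [Module R M] : M →ₗ[R] S ⊗[R] M := TensorProduct.mk R S M 1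

theorem span_image_span (s : Set M) :
    Submodule.span S ((mk1 R S M) '' (Submodule.span R s : Set M)) =
      Submodule.span S ((mk1 R S M) '' s) := by
  have : (mk1 R S M) '' (Submodule.span R s : Set M) =
      ((Submodule.span R ((mk1 R S M) '' s) : Submodule R (S ⊗[R] M)) : Set (S ⊗[R] M)) := by
    rw [← Submodule.map_span, Submodule.map_coe]
  rw [this, Submodule.span_span_of_tower]

theorem exists_finset (y : S ⊗[R] M) :
    ∃ F : Finset M, y ∈ Submodule.span S ((mk1 R S M) '' (F : Set M)) := by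
  induction y using TensorProduct.induction_on with
  | zero => exact ⟨∅, Submodule.zero_mem _⟩
  | tmul a m =>
    refine ⟨{m}, ?_⟩
    have : a ⊗ₜ[R] m = a • (mk1 R S M m) := by
      rw [TensorProduct.mk_apply, TensorProduct.smul_tmul', smul_eq_mul, mul_one]
    rw [this]
    refine Submodule.smul_mem _ _ (Submodule.subset_span ⟨m, ?_, rfl⟩)
    simp
  | add x y hx hy =>
    obtain ⟨F₁, h₁⟩ := hx
    obtain ⟨F₂, h₂⟩ := hy
    refine ⟨F₁ ∪ F₂, Submodule.add_mem _ ?_ ?_⟩
    · refine Submodule.span_mono (Set.image_mono ?_) h₁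
      simp
    · refine Submodule.span_mono (Set.image_mono ?_) h₂
      simp

section

variable {I : Type u} [DecidableEq I] (Q : I → Submodule S (S ⊗[R] M)) (hQ : DirectSum.IsInternal Q)

/-- the decomposition map -/
noncomputable def dec : (S ⊗[R] M) ≃ₗ[S] ⨁ i, Q i :=
  (LinearEquiv.ofBijective (DirectSum.coeLinearMap Q) hQ).symm

/-- the finite support of an element -/
noncomputable def suppT (x : S ⊗[R] M) : Finset I := DFinsupp.support (dec Q hQ x)

theorem mem_iSup_suppT (x : S ⊗[R] M) : x ∈ ⨆ i ∈ suppT Q hQ x, Q i := by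
  have h1 : DirectSum.coeLinearMap Q (dec Q hQ x) = x :=
    (LinearEquiv.ofBijective (DirectSum.coeLinearMap Q) hQ).apply_symm_apply x
  have h2 : DirectSum.coeLinearMap Q (dec Q hQ x) ∈ ⨆ i ∈ suppT Q hQ x, Q i := by
    rw [DirectSum.coeLinearMap_eq_dfinsuppSum, DFinsupp.sum]
    refine Submodule.sum_mem _ fun i hi => ?_
    have : Q i ≤ ⨆ i ∈ suppT Q hQ x, Q i := le_iSup₂_of_le i hi le_rfl
    exact this (dec Q hQ x i).2
  rwa [h1] at h2

/-- the support of a set of elements of `M` -/
noncomputable def suppS (s : Set M) : Set I := ⋃ m ∈ s, (suppT Q hQ (mk1 R S M m) : Set I)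

theorem suppS_countable {s : Set M} (hs : s.Countable) : (suppS Q hQ s).Countable :=
  hs.biUnion fun _ _ => Finset.countable_toSet _

theorem span_le_iSup_suppS (s : Set M) :
    Submodule.span S ((mk1 R S M) '' s) ≤ ⨆ i ∈ suppS Q hQ s, Q i := by
  rw [Submodule.span_le]
  rintro _ ⟨m, hm, rfl⟩
  refine (biSup_mono ?_ : (⨆ i ∈ suppT Q hQ (mk1 R S M m), Q i) ≤ _) (mem_iSup_suppT Q hQ _)
  intro i hi
  exact Set.mem_biUnion hm hi

variable (t : I → Set (S ⊗[R] M)) (ht : ∀ i, Submodule.span S (t i) = Q i)

/-- a finite set of elements of `M` spanning `y` -/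
noncomputable def F (y : S ⊗[R] M) : Finset M := (exists_finset y).choose

theorem mem_span_F (y : S ⊗[R] M) : y ∈ Submodule.span S ((mk1 R S M) '' (F y : Set M)) :=
  (exists_finset y).choose_spec

/-- new elements of `M` needed to span `⨆ i ∈ J, Q i` -/
noncomputable def new (J : Set I) : Set M := ⋃ i ∈ J, ⋃ y ∈ t i, (F y : Set M)

theorem new_countable (htc : ∀ i, (t i).Countable) {J : Set I} (hJ : J.Countable) :
    (new t J).Countable :=
  hJ.biUnion fun i _ => (htc i).biUnion fun _ _ => Finset.countable_toSet _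

include ht in
theorem iSup_le_span_new (J : Set I) :
    (⨆ i ∈ J, Q i) ≤ Submodule.span S ((mk1 R S M) '' new t J) := by
  refine iSup₂_le fun i hi => ?_
  rw [← ht i, Submodule.span_le]
  intro y hy
  refine Submodule.span_mono (Set.image_mono ?_) (mem_span_F y)
  intro m hm
  exact Set.mem_biUnion hi (Set.mem_biUnion hy hm)

/-- the increasing sequence of countable sets -/
noncomputable def seq (s : Set M) : ℕ → Set M
  | 0 => s
  | n + 1 => seq s n ∪ new t (suppS Q hQ (seq s n))

theorem seq_countable (htc : ∀ i, (t i).Countable) {s : Set M} (hs : s.Countable) (n : ℕ) :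
    (seq Q hQ t s n).Countable := by
  induction n with
  | zero => exact hs
  | succ n ih => exact ih.union (new_countable t htc (suppS_countable Q hQ ih))

end

theorem main (R S : Type u) [CommRing R] [CommRing S] [Algebra R S]
    (M : Type u) [AddCommGroup M] [Module R M] {I : Type u} [DecidableEq I] (Q : I → Submodule S (S ⊗[R] M))
    (hQ : DirectSum.IsInternal Q) (hQc : ∀ i, ∃ t : Set (S ⊗[R] M), t.Countable ∧ Submodule.span S t = Q i)
    (N : Submodule R M) (hN : ∃ s : Set M, s.Countable ∧ Submodule.span R s = N) :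
    ∃ (N' : Submodule R M) (I' : Set I), N ≤ N' ∧ (∃ s : Set M, s.Countable ∧ Submodule.span R s = N') ∧
      Submodule.span S ((TensorProduct.mk R S M 1) '' (N' : Set M)) = ⨆ i ∈ I', Q i := by
  choose t htc ht using hQc
  obtain ⟨s, hs, rfl⟩ := hN
  set sq := seq Q hQ t s with hsq
  refine ⟨Submodule.span R (⋃ n, sq n), ⋃ n, suppS Q hQ (sq n), ?_, ⟨_, ?_, rfl⟩, ?_⟩
  · refine Submodule.span_mono ?_
    exact Set.subset_iUnion sq 0
  · exact Set.countable_iUnion fun n => seq_countable Q hQ t htc hs n
  · change Submodule.span S ((mk1 R S M) '' _) = _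
    rw [span_image_span, Set.image_iUnion, Submodule.span_iUnion]
    refine le_antisymm (iSup_le fun n => ?_) (iSup₂_le fun i hi => ?_)
    · refine (span_le_iSup_suppS Q hQ (sq n)).trans (biSup_mono ?_)
      intro i hi
      exact Set.mem_iUnion.mpr ⟨n, hi⟩
    · obtain ⟨n, hn⟩ := Set.mem_iUnion.mp hi
      refine le_trans ?_ (le_iSup _ (n + 1))
      refine le_trans (le_iSup₂_of_le i hn le_rfl : Q i ≤ ⨆ j ∈ suppS Q hQ (sq n), Q j) ?_
      refine (iSup_le_span_new Q t ht (suppS Q hQ (sq n))).trans (Submodule.span_mono (Set.image_mono ?_))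
      exact Set.subset_union_right

end Groth.Agent.Lib.Helper26.Kap3
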