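import Mathlib
import Groth.Prelude.Def_CohB1

/-!
# Standard charts of projective space
-/

set_option autoImplicit false
universe u

namespace Groth.Agent.Lib.Helper26.ProjChart

open MvPolynomial AlgebraicGeometry HomogeneousLocalization

variable (n : ℕ) (R : Type u) [CommRing R]

local notation "𝒜" => CohB1.polyGrading n R

theorem X_mem (i : Fin (n + 1)) : (X i : MvPolynomial (Fin (n + 1)) R) ∈ 𝒜 1 :=
  isHomogeneous_X R i

theorem adjoin_X_eq_top :
    Algebra.adjoin (𝒜 0) (Set.range (X : Fin (n + 1) → MvPolynomial (Fin (n + 1)) R)) = ⊤ := by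
  rw [eq_top_iff]
  rintro p -
  induction p using MvPolynomial.induction_on with
  | C r =>
    have : (C r : MvPolynomial (Fin (n + 1)) R) =
        algebraMap (𝒜 0) (MvPolynomial (Fin (n + 1)) R) ⟨C r, isHomogeneous_C _ r⟩ := rfl
    rw [this]
    exact Subalgebra.algebraMap_mem _ _
  | add p q hp hq => exact Subalgebra.add_mem _ hp hq
  | mul_X p i hp => exact Subalgebra.mul_mem _ hp (Algebra.subset_adjoin ⟨i, rfl⟩)

theorem iSup_basicOpen :
    (⨆ i : Fin (n + 1), Proj.basicOpen 𝒜 (X i)) = ⊤ :=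
  Proj.iSup_basicOpen_eq_top' 𝒜 _ (fun i => ⟨1, X_mem n R i⟩) (adjoin_X_eq_top n R)

variable (i : Fin (n + 1))

/-- The chart map `R[T_j, j ≠ i] → R[T]_(T_i)`. -/
noncomputable def φ : MvPolynomial {j : Fin (n + 1) // j ≠ i} R →+* Away 𝒜 (X i : MvPolynomial (Fin (n + 1)) R) :=
  MvPolynomial.eval₂Hom
      ((HomogeneousLocalization.fromZeroRingHom 𝒜 (Submonoid.powers (X i))).comp
        (algebraMap R (𝒜 0)))
      (fun j : {j : Fin (n + 1) // j ≠ i} =>
        (HomogeneousLocalization.mk ⟨1, ⟨X j.1, isHomogeneous_X R j.1⟩,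
          ⟨X i, isHomogeneous_X R i⟩, ⟨1, pow_one _⟩⟩ :
          HomogeneousLocalization.Away 𝒜 (X i)))

/-- dehomogenization -/
noncomputable def ev : MvPolynomial (Fin (n + 1)) R →+* MvPolynomial {j : Fin (n + 1) // j ≠ i} R :=
  MvPolynomial.eval₂Hom C (fun j => if h : j = i then 1 else X ⟨j, h⟩)

theorem ev_X_self : ev n R i (X i) = 1 := by
  simp [ev]

theorem ev_X_ne (j : {j : Fin (n + 1) // j ≠ i}) : ev n R i (X j.1) = X j := by
  simp [ev, j.2]

theorem isUnit_ev : IsUnit (ev n R i (X i)) := by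
  rw [ev_X_self]; exact isUnit_one

/-- the inverse of the chart map -/
noncomputable def ψ : Away 𝒜 (X i : MvPolynomial (Fin (n + 1)) R) →+* MvPolynomial {j : Fin (n + 1) // j ≠ i} R :=
  (IsLocalization.Away.lift (X i : MvPolynomial (Fin (n + 1)) R) (isUnit_ev n R i)).comp
    (algebraMap (Away 𝒜 (X i : MvPolynomial (Fin (n + 1)) R)) (Localization.Away (X i : MvPolynomial (Fin (n + 1)) R)))

theorem ψ_comp_φ : (ψ n R i).comp (φ n R i) = RingHom.id _ := by
  refine MvPolynomial.ringHom_ext (fun r => ?_) (fun j => ?_)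
  · simp only [RingHom.comp_apply, φ, eval₂Hom_C, RingHom.id_apply, ψ,
      HomogeneousLocalization.algebraMap_apply]
    have : (fromZeroRingHom 𝒜 (Submonoid.powers (X i : MvPolynomial (Fin (n + 1)) R))
        (algebraMap R (𝒜 0) r)).val =
        algebraMap (MvPolynomial (Fin (n + 1)) R) (Localization.Away (X i : MvPolynomial (Fin (n + 1)) R)) (C r) := by
      simp only [fromZeroRingHom, RingHom.coe_mk, MonoidHom.coe_mk, OneHom.coe_mk, val_mk]
      rw [← Localization.mk_one_eq_algebraMap]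
      rfl
    rw [this, IsLocalization.Away.lift_eq]
    simp [ev]
  · simp only [RingHom.comp_apply, φ, eval₂Hom_X', RingHom.id_apply, ψ,
      HomogeneousLocalization.algebraMap_apply, val_mk]
    rw [Localization.mk_eq_mk']
    unfold IsLocalization.Away.lift
    rw [IsLocalization.lift_mk'_spec]
    simp only [ev_X_ne, ev_X_self, one_mul]

theorem φ_injective : Function.Injective (φ n R i) := by
  intro a b h
  have := congrArg (ψ n R i) h
  rw [← RingHom.comp_apply, ← RingHom.comp_apply, ψ_comp_φ] at this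
  exact this

/-- The range of `φ` as a submodule over the degree zero part. -/
noncomputable def rangeSub : Submodule (𝒜 0) (Away 𝒜 (X i : MvPolynomial (Fin (n + 1)) R)) where
  carrier := Set.range (φ n R i)
  add_mem' := by
    rintro _ _ ⟨a, rfl⟩ ⟨b, rfl⟩
    exact ⟨a + b, map_add _ _ _⟩
  zero_mem' := ⟨0, map_zero _⟩
  smul_mem' := by
    rintro ⟨c, hc⟩ _ ⟨a, rfl⟩
    have hc' : c.IsHomogeneous 0 := hc
    have hcC : c = C (coeff 0 c) :=
      (totalDegree_eq_zero_iff_eq_C.1 (Nat.le_zero.1 hc'.totalDegree_le))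
    refine ⟨C (coeff 0 c) * a, ?_⟩
    rw [map_mul, Algebra.smul_def, HomogeneousLocalization.algebraMap_eq]
    congr 1
    simp only [φ, eval₂Hom_C, RingHom.comp_apply]
    congr 1
    apply Subtype.ext
    exact hcC.symm

theorem val_φ_X (j : {j : Fin (n + 1) // j ≠ i}) :
    (φ n R i (X j)).val = Localization.mk (X j.1 : MvPolynomial (Fin (n + 1)) R)
      (⟨X i, ⟨1, pow_one _⟩⟩ : Submonoid.powers (X i : MvPolynomial (Fin (n + 1)) R)) := by
  simp only [φ, eval₂Hom_X']
  rfl

theorem mk_eq_mul_pow (a : MvPolynomial (Fin (n + 1)) R) (k : ℕ)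
    (s : Submonoid.powers (X i : MvPolynomial (Fin (n + 1)) R)) (hs : (s : MvPolynomial (Fin (n + 1)) R) = X i ^ k)
    (v : Localization.Away (X i : MvPolynomial (Fin (n + 1)) R))
    (huv : algebraMap (MvPolynomial (Fin (n + 1)) R) (Localization.Away (X i : MvPolynomial (Fin (n + 1)) R)) (X i) * v = 1) :
    Localization.mk a s = algebraMap (MvPolynomial (Fin (n + 1)) R) (Localization.Away (X i : MvPolynomial (Fin (n + 1)) R)) a * v ^ k := by
  rw [Localization.mk_eq_mk', IsLocalization.mk'_eq_iff_eq_mul, hs, map_pow, mul_assoc, ← mul_pow,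
    mul_comm v, huv, one_pow, mul_one]

theorem val_φ_X' (j : {j : Fin (n + 1) // j ≠ i})
    (v : Localization.Away (X i : MvPolynomial (Fin (n + 1)) R))
    (huv : algebraMap (MvPolynomial (Fin (n + 1)) R) (Localization.Away (X i : MvPolynomial (Fin (n + 1)) R)) (X i) * v = 1) :
    (φ n R i (X j)).val = algebraMap (MvPolynomial (Fin (n + 1)) R)
      (Localization.Away (X i : MvPolynomial (Fin (n + 1)) R)) (X j.1) * v := by
  rw [val_φ_X]
  have := mk_eq_mul_pow n R i (X j.1) 1 ⟨X i, ⟨1, pow_one _⟩⟩ (pow_one _).symm v huv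
  rw [pow_one] at this
  exact this

theorem val_φ_prod (ai : Fin (n + 1) → ℕ)
    (v : Localization.Away (X i : MvPolynomial (Fin (n + 1)) R))
    (huv : algebraMap (MvPolynomial (Fin (n + 1)) R) (Localization.Away (X i : MvPolynomial (Fin (n + 1)) R)) (X i) * v = 1) :
    (φ n R i (∏ j : {j : Fin (n + 1) // j ≠ i}, X j ^ ai j.1)).val =
      (∏ j : {j : Fin (n + 1) // j ≠ i}, algebraMap (MvPolynomial (Fin (n + 1)) R)
        (Localization.Away (X i : MvPolynomial (Fin (n + 1)) R)) (X j.1) ^ ai j.1) *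
        v ^ ∑ j : {j : Fin (n + 1) // j ≠ i}, ai j.1 := by
  rw [← HomogeneousLocalization.algebraMap_apply, map_prod, map_prod]
  simp only [map_pow, HomogeneousLocalization.algebraMap_apply]
  simp only [val_φ_X' n R i _ v huv, mul_pow, Finset.prod_mul_distrib, Finset.prod_pow_eq_pow_sum]

theorem φ_prod (ai : Fin (n + 1) → ℕ) (a : ℕ) (hai : ∑ j, ai j • 1 = a • 1) :
    (Away.mk 𝒜 (X_mem n R i) a (∏ j, (X j : MvPolynomial (Fin (n + 1)) R) ^ ai j)
      (hai ▸ SetLike.prod_pow_mem_graded _ _ _ _ fun j _ ↦ X_mem n R j)) =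
      φ n R i (∏ j : {j : Fin (n + 1) // j ≠ i}, X j ^ ai j.1) := by
  rw [HomogeneousLocalization.ext_iff_val]
  have hu : IsUnit (algebraMap (MvPolynomial (Fin (n + 1)) R)
      (Localization.Away (X i : MvPolynomial (Fin (n + 1)) R)) (X i)) :=
    IsLocalization.Away.algebraMap_isUnit _
  obtain ⟨v, huv⟩ := hu.exists_right_inv
  have hsum : a = ai i + ∑ j : {j : Fin (n + 1) // j ≠ i}, ai j.1 := by
    have h1 : a = ∑ j, ai j := by simpa using hai.symm
    rw [h1, ← Finset.add_sum_erase Finset.univ ai (Finset.mem_univ i)]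
    congr 1
    exact Finset.sum_subtype (Finset.univ.erase i) (p := (· ≠ i)) (by simp) ai
  have hprod : (∏ j, (X j : MvPolynomial (Fin (n + 1)) R) ^ ai j) =
      X i ^ ai i * ∏ j : {j : Fin (n + 1) // j ≠ i}, (X j.1 : MvPolynomial (Fin (n + 1)) R) ^ ai j.1 := by
    rw [← Finset.mul_prod_erase Finset.univ (fun j => (X j : MvPolynomial (Fin (n + 1)) R) ^ ai j)
      (Finset.mem_univ i)]
    congr 1
    exact Finset.prod_subtype (Finset.univ.erase i) (p := (· ≠ i)) (by simp)
      (fun j => (X j : MvPolynomial (Fin (n + 1)) R) ^ ai j)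
  rw [val_φ_prod n R i ai v huv, Away.val_mk, mk_eq_mul_pow n R i _ a _ rfl v huv]
  rw [hprod, hsum, map_mul, map_pow, map_prod, pow_add]
  simp only [map_pow]
  have h3 : algebraMap (MvPolynomial (Fin (n + 1)) R) (Localization.Away (X i : MvPolynomial (Fin (n + 1)) R)) (X i) ^ ai i * v ^ ai i = 1 := by
    rw [← mul_pow, huv, one_pow]
  calc _ = (algebraMap (MvPolynomial (Fin (n + 1)) R) (Localization.Away (X i : MvPolynomial (Fin (n + 1)) R)) (X i) ^ ai i * v ^ ai i) *
        ((∏ j : {j : Fin (n + 1) // j ≠ i}, algebraMap (MvPolynomial (Fin (n + 1)) R) (Localization.Away (X i : MvPolynomial (Fin (n + 1)) R)) (X j.1 : MvPolynomial (Fin (n + 1)) R) ^ ai j.1) *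
          v ^ ∑ j : {j : Fin (n + 1) // j ≠ i}, ai j.1) := by ring
    _ = _ := by rw [h3, one_mul]

theorem φ_surjective : Function.Surjective (φ n R i) := by
  intro y
  have hy : y ∈ (⊤ : Submodule (𝒜 0) (Away 𝒜 (X i : MvPolynomial (Fin (n + 1)) R))) := trivial
  rw [← Away.span_mk_prod_pow_eq_top (X_mem n R i) (X : Fin (n + 1) → MvPolynomial (Fin (n + 1)) R)
    (adjoin_X_eq_top n R) (fun _ => 1) (fun j => X_mem n R j)] at hy
  refine (Submodule.span_le.mpr ?_ : _ ≤ rangeSub n R i) hy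
  rintro _ ⟨a, ai, hai, rfl⟩
  exact ⟨_, (φ_prod n R i ai a hai).symm⟩

theorem φ_bijective : Function.Bijective (φ n R i) := ⟨φ_injective n R i, φ_surjective n R i⟩

theorem main (n : ℕ) (R : Type u) [CommRing R] :
    (⨆ i : Fin (n + 1), Proj.basicOpen (CohB1.polyGrading n R) (MvPolynomial.X i)) = ⊤ ∧
      ∀ i : Fin (n + 1), Function.Bijective
        (MvPolynomial.eval₂Hom
          ((HomogeneousLocalization.fromZeroRingHom (CohB1.polyGrading n R) (Submonoid.powers (MvPolynomial.X i))).comp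
            (algebraMap R (CohB1.polyGrading n R 0)))
          (fun j : {j : Fin (n + 1) // j ≠ i} =>
            (HomogeneousLocalization.mk ⟨1, ⟨MvPolynomial.X j.1, MvPolynomial.isHomogeneous_X R j.1⟩,
              ⟨MvPolynomial.X i, MvPolynomial.isHomogeneous_X R i⟩, ⟨1, pow_one _⟩⟩ :
              HomogeneousLocalization.Away (CohB1.polyGrading n R) (MvPolynomial.X i)))) :=
  ⟨iSup_basicOpen n R, fun i => φ_bijective n R i⟩

end Groth.Agent.Lib.Helper26.ProjChart
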