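import Mathlib
import Groth.Prelude.Def_CohB1
import Groth.Agent.Lib.Helper26.ProjChart

/-!
# Dimension of projective space over a field
-/

set_option autoImplicit false
universe u

namespace Groth.Agent.Lib.Helper26.ProjChart

open MvPolynomial AlgebraicGeometry HomogeneousLocalization TopologicalSpace

section TopDim
variable {X : Type*} [TopologicalSpace X]

lemma coheight_le_dim_of_open (U : Set X) (hU : IsOpen U) (Z : IrreducibleCloseds X)
    (h : ((Z : Set X) ∩ U).Nonempty) :
    ((Order.coheight Z : ℕ∞) : WithBot ℕ∞) ≤ topologicalKrullDim U := by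
  have hemb : Topology.IsOpenEmbedding (Subtype.val : U → X) := hU.isOpenEmbedding_subtypeVal
  let e := IrreducibleCloseds.orderIsoOfIsOpenEmbedding _ hemb
  have hZ : (Subtype.val ⁻¹' (Z : Set X) : Set U).Nonempty := by
    obtain ⟨x, hxZ, hxU⟩ := h
    exact ⟨⟨x, hxU⟩, hxZ⟩
  let W : IrreducibleCloseds U := e.symm ⟨Z, hZ⟩
  have h1 : IrreducibleCloseds.map Subtype.val hemb.continuous W = Z := by
    have := e.apply_symm_apply ⟨Z, hZ⟩
    exact congrArg Subtype.val this
  rw [← h1, hemb.coheight_map W]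
  exact Order.coheight_le_krullDim W

lemma dim_le_of_forall_coheight (d : WithBot ℕ∞)
    (h : ∀ Z : IrreducibleCloseds X, ((Order.coheight Z : ℕ∞) : WithBot ℕ∞) ≤ d) :
    topologicalKrullDim X ≤ d := by
  unfold topologicalKrullDim
  rw [Order.krullDim_eq_iSup_coheight]
  exact iSup_le h

theorem dim_eq_iSup_of_open_cover {ι : Type*} (U : ι → Opens X) (hcov : ⨆ i, U i = ⊤) :
    topologicalKrullDim X = ⨆ i, topologicalKrullDim (U i) := by
  apply le_antisymm
  · apply dim_le_of_forall_coheight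
    intro Z
    obtain ⟨x, hx⟩ := Z.isIrreducible.nonempty
    have hxU : x ∈ ((⨆ i, U i : Opens X) : Set X) := by rw [hcov]; trivial
    rw [Opens.coe_iSup, Set.mem_iUnion] at hxU
    obtain ⟨i, hi⟩ := hxU
    exact (coheight_le_dim_of_open (U i : Set X) (U i).isOpen Z ⟨x, hx, hi⟩).trans
      (le_iSup (fun i => topologicalKrullDim (U i)) i)
  · exact iSup_le fun i => topologicalKrullDim_subspace_le X _

end TopDim

variable (n : ℕ) (k : Type u) [Field k]

local notation "𝒜" => CohB1.polyGrading n k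

theorem ringKrullDim_away (i : Fin (n + 1)) :
    ringKrullDim (Away 𝒜 (X i : MvPolynomial (Fin (n + 1)) k)) = (n : WithBot ℕ∞) := by
  rw [← ringKrullDim_eq_of_ringEquiv (RingEquiv.ofBijective (φ n k i) (φ_bijective n k i)),
    MvPolynomial.ringKrullDim_of_isNoetherianRing, ringKrullDim_eq_zero_of_field, zero_add]
  congr 1
  rw [Nat.card_eq_fintype_card, Fintype.card_subtype_compl, Fintype.card_fin]
  simp

theorem dim_chart (i : Fin (n + 1)) :
    topologicalKrullDim ↥(Proj.basicOpen 𝒜 (X i : MvPolynomial (Fin (n + 1)) k)) = (n : WithBot ℕ∞) := by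
  have e := Proj.basicOpenIsoSpec 𝒜 (X i : MvPolynomial (Fin (n + 1)) k) (X_mem n k i) one_pos
  have h := (Scheme.homeoOfIso e).isHomeomorph.topologicalKrullDim_eq
  rw [← ringKrullDim_away n k i, ← PrimeSpectrum.topologicalKrullDim_eq_ringKrullDim]
  exact h

theorem main_dim : topologicalKrullDim ↥(CohB1.ProjSpace n k) = (n : WithBot ℕ∞) := by
  have h := dim_eq_iSup_of_open_cover (X := ↥(CohB1.ProjSpace n k))
    (fun i : Fin (n + 1) => Proj.basicOpen 𝒜 (X i : MvPolynomial (Fin (n + 1)) k)) (iSup_basicOpen n k)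
  refine h.trans ?_
  have : ∀ i : Fin (n + 1), topologicalKrullDim
      ↥(Proj.basicOpen 𝒜 (X i : MvPolynomial (Fin (n + 1)) k)) = (n : WithBot ℕ∞) := dim_chart n k
  exact (iSup_congr this).trans ciSup_const

end Groth.Agent.Lib.Helper26.ProjChart
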