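import Mathlib
import Groth.Prelude
import Groth.Agent.Lib.Lead.RLR1

set_option linter.style.haveILetI false
set_option linter.unusedVariables false

open CategoryTheory CategoryTheory.Limits AlgebraicGeometry IsLocalRing

universe u

namespace Groth.Agent.Helper26.SpecFibReg

/-- algebra core: a regular local ring `O` with a local hom to a DVR `V` sending `ϖ` to a
uniformizer has `O/(ϖ)` regular. -/
theorem alg_core (O V : Type u) [CommRing O] [IsRegularLocalRing O] [CommRing V] [IsDomain V]
    [IsDiscreteValuationRing V] (τ : O →+* V) [IsLocalHom τ] (ϖ : O)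
    (h : Ideal.span {τ ϖ} = maximalIdeal V) :
    IsRegularLocalRing (O ⧸ Ideal.span {ϖ}) := by
  have hm : ϖ ∈ maximalIdeal O := by
    by_contra hn
    have hu : IsUnit ϖ := by
      by_contra h2
      exact hn ((mem_maximalIdeal ϖ).2 h2)
    have : IsUnit (τ ϖ) := hu.map τ
    have h3 : Ideal.span {τ ϖ} = ⊤ := Ideal.span_singleton_eq_top.2 this
    rw [h] at h3
    exact (maximalIdeal.isMaximal V).ne_top h3
  have hmap : ∀ a ∈ maximalIdeal O, τ a ∈ maximalIdeal V := by
    intro a ha
    rw [mem_maximalIdeal, mem_nonunits_iff] at ha ⊢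
    intro hu
    exact ha (isUnit_of_map_unit τ a hu)
  have hsq : ϖ ∉ maximalIdeal O ^ 2 := by
    intro hin
    have h1 : τ ϖ ∈ (maximalIdeal V) ^ 2 := by
      have h2 : τ ϖ ∈ Ideal.map τ (maximalIdeal O ^ 2) := Ideal.mem_map_of_mem τ hin
      rw [Ideal.map_pow] at h2
      refine Ideal.pow_right_mono ?_ 2 h2
      rw [Ideal.map_le_iff_le_comap]
      intro a ha
      exact hmap a ha
    rw [← h, Ideal.span_singleton_pow, Ideal.mem_span_singleton] at h1
    obtain ⟨c, hc⟩ := h1
    have hne : τ ϖ ≠ 0 := by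
      intro h0
      rw [h0] at h
      have : maximalIdeal V = ⊥ := by rw [← h]; simp
      exact IsDiscreteValuationRing.not_a_field V this
    have h4 : τ ϖ * 1 = τ ϖ * (τ ϖ * c) := by
      rw [mul_one]; exact hc.trans (by ring)
    have h5 := mul_left_cancel₀ hne h4
    have hu : IsUnit (τ ϖ) := IsUnit.of_mul_eq_one c h5.symm
    have h3 : Ideal.span {τ ϖ} = ⊤ := Ideal.span_singleton_eq_top.2 hu
    rw [h] at h3
    exact (maximalIdeal.isMaximal V).ne_top h3
  obtain ⟨n, y, hn, hspan⟩ := Groth.Agent.Lead.RLR.exists_generators_of_notMem_sq hm hsq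
  haveI : IsLocalRing (O ⧸ Ideal.span {ϖ}) :=
    Groth.Agent.Lead.RLR.isLocalRing_quotient (Groth.Agent.Lead.RLR.span_singleton_ne_top hm)
  exact (Groth.Agent.Lead.RLR.isRegularLocalRing_quotient_aux ϖ y hspan hn).1

theorem key
    (R : Type u) [CommRing R] [IsDomain R] [IsDiscreteValuationRing R]
    (YR : Over (Spec (CommRingCat.of R)))
    (V : Type u) [CommRing V] [IsLocalRing V] [Algebra R V]
    (σ : Spec (CommRingCat.of V) ⟶ YR.left)
    (hσ : σ ≫ YR.hom = Spec.map (CommRingCat.ofHom (algebraMap R V))) (r : R) :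
    (Scheme.stalkClosedPointTo σ).hom (Models.stalkHom R YR _ r) = algebraMap R V r := by
  have h1 := Scheme.germ_stalkClosedPointTo σ ⊤ trivial
  have h2 : (Scheme.stalkClosedPointTo σ).hom (Models.stalkHom R YR _ r) =
      (YR.left.presheaf.germ ⊤ _ trivial ≫ Scheme.stalkClosedPointTo σ).hom
        (YR.hom.appTop.hom ((Scheme.ΓSpecIso (CommRingCat.of R)).inv.hom r)) := rfl
  rw [h2, h1]
  have h3 : (Spec.map (CommRingCat.ofHom (algebraMap R V))).appTop ≫
      (Scheme.ΓSpecIso (CommRingCat.of V)).hom =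
      (Scheme.ΓSpecIso (CommRingCat.of R)).hom ≫ CommRingCat.ofHom (algebraMap R V) :=
    Scheme.ΓSpecIso_naturality _
  rw [← hσ, Scheme.Hom.comp_appTop] at h3
  have h4 := ConcreteCategory.congr_hom h3 ((Scheme.ΓSpecIso (CommRingCat.of R)).inv.hom r)
  have h6 : (ConcreteCategory.hom ((Scheme.ΓSpecIso (CommRingCat.of R)).hom ≫
      CommRingCat.ofHom (algebraMap R V)))
      ((CommRingCat.Hom.hom (Scheme.ΓSpecIso (CommRingCat.of R)).inv) r) = algebraMap R V r := by
    simp
  have h5 : ∀ (h : (⊤ : (Spec (CommRingCat.of V)).Opens) = σ ⁻¹ᵁ ⊤)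
      (z : Γ(Spec (CommRingCat.of V), σ ⁻¹ᵁ ⊤)),
      ((Spec (CommRingCat.of V)).presheaf.map (eqToHom h).op).hom z = z := by
    intro h z
    have : (Spec (CommRingCat.of V)).presheaf.map (eqToHom h).op = 𝟙 _ := by
      rw [eqToHom_op, eqToHom_map]
      rfl
    rw [this]
    rfl
  refine Eq.trans ?_ (h4.trans h6)
  simp only [Iso.trans_hom, Functor.mapIso_hom, Iso.op_hom, eqToIso.hom]
  change (Scheme.ΓSpecIso (CommRingCat.of V)).hom.hom
    (((Spec (CommRingCat.of V)).presheaf.map (eqToHom _).op).hom _) = _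
  rw [h5]
  rfl

theorem main
    (R : Type u) [CommRing R] [IsDomain R] [IsDiscreteValuationRing R]
    (YR : Over (Spec (CommRingCat.of R)))
    (V : Type u) [CommRing V] [IsDomain V] [IsDiscreteValuationRing V] [Algebra R V]
    (hV : Ideal.map (algebraMap R V) (IsLocalRing.maximalIdeal R) = IsLocalRing.maximalIdeal V)
    (σ : Spec (CommRingCat.of V) ⟶ YR.left)
    (hσ : σ ≫ YR.hom = Spec.map (CommRingCat.ofHom (algebraMap R V)))
    (y : YR.left) (hy : σ.base (IsLocalRing.closedPoint V) = y)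
    (hreg : IsRegularLocalRing (YR.left.presheaf.stalk y)) :
    IsRegularLocalRing (YR.left.presheaf.stalk y ⧸
      Ideal.map (Models.stalkHom R YR y) (IsLocalRing.maximalIdeal R)) := by
  subst hy
  obtain ⟨π, hπ⟩ := IsDiscreteValuationRing.exists_irreducible R
  have hmR : maximalIdeal R = Ideal.span {π} := hπ.maximalIdeal_eq
  have hI : Ideal.map (Models.stalkHom R YR (σ.base (IsLocalRing.closedPoint V))) (maximalIdeal R) =
      Ideal.span {Models.stalkHom R YR (σ.base (IsLocalRing.closedPoint V)) π} := by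
    rw [hmR, Ideal.map_span, Set.image_singleton]
  rw [hI]
  have hloc : IsLocalHom (Scheme.stalkClosedPointTo σ).hom := inferInstance
  refine alg_core _ V (Scheme.stalkClosedPointTo σ).hom _ ?_
  rw [key R YR V σ hσ π, ← hV, hmR, Ideal.map_span, Set.image_singleton]

end Groth.Agent.Helper26.SpecFibReg
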