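import Mathlib

set_option autoImplicit false

namespace Groth.Agent.Helper26.ExtCechH0a

open CategoryTheory Limits HomologicalComplex CochainComplex HomComplex

variable {C : Type*} [Category* C] [Preadditive C]
  {K L : CochainComplex C ℤ} (φ : K ⟶ L) [HasHomotopyCofiber φ]

lemma ofHom_fst' : (Cochain.ofHom (mappingCocone.fst φ) : Cochain ((mappingCone φ)⟦(-1 : ℤ)⟧) K 0) =
    -((mappingCone.fst φ).1.leftShift (-1) 0 (add_neg_cancel 1)) := by
  have : (Cochain.ofHom (-((mappingCone.fst φ).leftShift (-1) 0 (add_neg_cancel 1)).homOf) :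
      Cochain ((mappingCone φ)⟦(-1 : ℤ)⟧) K 0) =
    -((mappingCone.fst φ).1.leftShift (-1) 0 (add_neg_cancel 1)) := by
    simp
  exact this

lemma δ_snd' : δ (-1) 0 ((mappingCone.snd φ).leftShift (-1) (-1) (zero_add _)) =
    -(-((mappingCone.fst φ).1.leftShift (-1) 0 (add_neg_cancel 1))).comp (Cochain.ofHom φ) (add_zero 0) := by
  rw [Cochain.δ_leftShift (mappingCone.snd φ) (-1) (-1) 0 (zero_add _) 1 (add_neg_cancel 1),
    mappingCone.δ_snd, Cochain.leftShift_neg,
    Cochain.leftShift_comp_zero_cochain]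
  simp

lemma δ_snd : δ (-1) 0 (mappingCocone.snd φ) =
    -(Cochain.ofHom (mappingCocone.fst φ)).comp (Cochain.ofHom φ) (add_zero 0) := by
  have h := δ_snd' φ
  rw [← ofHom_fst'] at h
  exact h

end Groth.Agent.Helper26.ExtCechH0a

namespace Groth.Agent.Helper26.ExtCechH0a

open CategoryTheory Limits HomologicalComplex CochainComplex HomComplex

variable {C : Type*} [Category* C] [Preadditive C]
  {K L : CochainComplex C ℤ} (φ : K ⟶ L) [HasHomotopyCofiber φ]

lemma d_snd_v (p q p' : ℤ) (hpq : p + 1 = q) (hp' : p + -1 = p') :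
    (mappingCocone φ).d p q ≫ (mappingCocone.snd φ).v q p (by omega) =
      -((mappingCocone.fst φ).f p ≫ φ.f p) - (mappingCocone.snd φ).v p p' hp' ≫ L.d p' p := by
  have h := congrArg (fun z => z.v p p (add_zero p)) (δ_snd φ)
  rw [δ_v (-1) 0 (by omega) _ p p (add_zero p) p' q (by omega) hpq] at h
  simp only [Int.negOnePow_zero, one_smul, Cochain.neg_v, Cochain.comp_zero_cochain_v,
    Cochain.ofHom_v] at h
  rw [← h]
  abel

lemma d_snd_v_of_isZero (p q p' : ℤ) (hpq : p + 1 = q) (hp' : p + -1 = p') (hL : IsZero (L.X p')) :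
    (mappingCocone φ).d p q ≫ (mappingCocone.snd φ).v q p (by omega) =
      -((mappingCocone.fst φ).f p ≫ φ.f p) := by
  rw [d_snd_v φ p q p' hpq hp', hL.eq_of_tgt ((mappingCocone.snd φ).v p p' hp') 0]
  simp

lemma fst_inl_of_isZero (p p' : ℤ) (hp' : p + -1 = p') (hL : IsZero (L.X p')) :
    (mappingCocone.fst φ).f p ≫ (mappingCocone.inl φ).v p p (add_zero p) = 𝟙 _ := by
  have h := mappingCocone.id_X φ p p' hp'
  rw [hL.eq_of_tgt ((mappingCocone.snd φ).v p p' hp') 0] at h
  simpa using h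

lemma isZero_X (p p' : ℤ) (hp' : p + -1 = p') (hK : IsZero (K.X p)) (hL : IsZero (L.X p')) :
    IsZero ((mappingCocone φ).X p) := by
  rw [IsZero.iff_id_eq_zero, ← mappingCocone.id_X φ p p' hp',
    hL.eq_of_tgt ((mappingCocone.snd φ).v p p' hp') 0, hK.eq_of_tgt ((mappingCocone.fst φ).f p) 0]
  simp

lemma eq_zero_iff {T : C} (q p : ℤ) (hpq : p + 1 = q) (y : T ⟶ (mappingCocone φ).X q) :
    y = 0 ↔ y ≫ (mappingCocone.fst φ).f q = 0 ∧ y ≫ (mappingCocone.snd φ).v q p (by omega) = 0 := by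
  constructor
  · rintro rfl
    simp
  · rintro ⟨h1, h2⟩
    have h := mappingCocone.id_X φ q p (by omega)
    have : y = y ≫ 𝟙 _ := by simp
    rw [this, ← h, Preadditive.comp_add, reassoc_of% h1, reassoc_of% h2]
    simp

end Groth.Agent.Helper26.ExtCechH0a
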