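import Mathlib
import Groth.Prelude.Def_DerCA
import Groth.Prelude.Def_DRing3
import Groth.Agent.Lib.Helper26.ExtCechH0a

/-!
# Degree zero cohomology of the extended Čech complex (helper26)
-/

set_option autoImplicit false

namespace Groth.Agent.Helper26.ExtCechH0b

open CategoryTheory Limits HomologicalComplex CochainComplex HomComplex DerCA
open Groth.Agent.Helper26.ExtCechH0a

universe u
variable {R : Type u} [CommRing R]

/-- data describing the degree-zero part of a complex modelled on `M` -/
structure H0Data (K : CochainComplex (ModuleCat.{u} R) ℤ) (M : ModuleCat.{u} R) (fs : List R) where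
  e : K.X 0 ≃ₗ[R] M
  zero_neg : ∀ n : ℤ, n < 0 → IsZero (K.X n)
  ker_iff : ∀ x : K.X 0, (K.d 0 1).hom x = 0 ↔ ∀ f ∈ fs, ∃ n : ℕ, f ^ n • e x = 0

noncomputable def H0Data.nil (M : ModuleCat.{u} R) :
    H0Data ((HomologicalComplex.single (ModuleCat.{u} R) (ComplexShape.up ℤ) 0).obj M) M [] where
  e := (HomologicalComplex.singleObjXSelf (ComplexShape.up ℤ) 0 M).toLinearEquiv
  zero_neg n hn := HomologicalComplex.isZero_single_obj_X (ComplexShape.up ℤ) 0 M n (by omega)
  ker_iff x := by
    constructor
    · intro _ f hf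
      simp at hf
    · intro _
      rw [HomologicalComplex.single_obj_d]
      rfl

noncomputable def H0Data.cons {K : CochainComplex (ModuleCat.{u} R) ℤ} {M : ModuleCat.{u} R}
    {fs : List R} (D : H0Data K M fs) (f : R) :
    H0Data (CochainComplex.mappingCocone (locCxUnit (Submonoid.powers f) K)) M (f :: fs) := by
  have hL : IsZero (((locCx (Submonoid.powers f)).obj K).X (-1)) :=
    (locFunctor (Submonoid.powers f)).map_isZero (D.zero_neg (-1) (by omega))
  let φ := locCxUnit (Submonoid.powers f) K
  let i0 : (CochainComplex.mappingCocone φ).X 0 ≅ K.X 0 :=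
    { hom := (mappingCocone.fst φ).f 0
      inv := (mappingCocone.inl φ).v 0 0 (add_zero 0)
      hom_inv_id := fst_inl_of_isZero φ 0 (-1) (by omega) hL
      inv_hom_id := mappingCocone.inl_v_fst_f φ 0 }
  refine
    { e := i0.toLinearEquiv.trans D.e
      zero_neg := ?_
      ker_iff := ?_ }
  · intro n hn
    exact isZero_X φ n (n - 1) (by omega) (D.zero_neg n hn)
      ((locFunctor (Submonoid.powers f)).map_isZero (D.zero_neg (n - 1) (by omega)))
  · intro x
    have hfst : ((mappingCocone.fst φ).f 1).hom (((CochainComplex.mappingCocone φ).d 0 1).hom x) =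
        (K.d 0 1).hom (((mappingCocone.fst φ).f 0).hom x) := by
      have := congrArg (fun g => g.hom x) ((mappingCocone.fst φ).comm 0 1)
      exact this.symm
    have hsnd : ((mappingCocone.snd φ).v 1 0 (by omega)).hom
        (((CochainComplex.mappingCocone φ).d 0 1).hom x) =
        -((φ.f 0).hom (((mappingCocone.fst φ).f 0).hom x)) := by
      have := congrArg (fun g => g.hom x) (d_snd_v_of_isZero φ 0 1 (-1) (by omega) (by omega) hL)
      simpa using this
    have hz : ∀ z : (CochainComplex.mappingCocone φ).X 1, z = 0 ↔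
        ((mappingCocone.fst φ).f 1).hom z = 0 ∧ ((mappingCocone.snd φ).v 1 0 (by omega)).hom z = 0 := by
      intro z
      constructor
      · rintro rfl
        simp
      · rintro ⟨h1, h2⟩
        have := congrArg (fun g => g.hom z) (mappingCocone.id_X φ 1 0 (by omega))
        simp only [ModuleCat.hom_add, ModuleCat.hom_comp, LinearMap.add_apply,
          LinearMap.comp_apply, h1, h2, map_zero, add_zero, ModuleCat.hom_id,
          LinearMap.id_apply] at this
        exact this.symm
    have hloc : ∀ y : K.X 0, (φ.f 0).hom y = 0 ↔ ∃ n : ℕ, f ^ n • y = 0 := by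
      intro y
      change LocalizedModule.mkLinearMap (Submonoid.powers f) (K.X 0) y = 0 ↔ _
      rw [IsLocalizedModule.eq_zero_iff (Submonoid.powers f)]
      constructor
      · rintro ⟨⟨s, n, rfl⟩, hs⟩
        exact ⟨n, hs⟩
      · rintro ⟨n, hn⟩
        exact ⟨⟨f ^ n, n, rfl⟩, hn⟩
    rw [hz, hfst, hsnd, neg_eq_zero, D.ker_iff, hloc]
    simp only [List.forall_mem_cons]
    rw [and_comm]
    apply and_congr
    · constructor
      · rintro ⟨n, hn⟩
        refine ⟨n, ?_⟩
        change f ^ n • D.e (((mappingCocone.fst φ).f 0).hom x) = 0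
        rw [← map_smul, hn, map_zero]
      · rintro ⟨n, hn⟩
        refine ⟨n, ?_⟩
        change f ^ n • D.e (((mappingCocone.fst φ).f 0).hom x) = 0 at hn
        rw [← map_smul] at hn
        exact D.e.injective (hn.trans (map_zero _).symm)
    · exact Iff.rfl

noncomputable def H0Data.extCech (M : ModuleCat.{u} R) :
    (fs : List R) → H0Data (DerCA.extCech M fs) M fs
  | [] => H0Data.nil M
  | f :: fs => (H0Data.extCech M fs).cons f

theorem torsion_iff (fs : List R) {M : Type u} [AddCommGroup M] [Module R M] (m : M) :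
    (∀ f ∈ fs, ∃ n : ℕ, f ^ n • m = 0) ↔ m ∈ DRing.torsionSub (Ideal.span {x : R | x ∈ fs}) M := by
  constructor
  · intro h
    have hle : Ideal.span {x : R | x ∈ fs} ≤ (Ideal.torsionOf R M m).radical := by
      rw [Ideal.span_le]
      intro f hf
      obtain ⟨n, hn⟩ := h f hf
      exact ⟨n, (Ideal.mem_torsionOf_iff _ _).2 hn⟩
    have hfg : (Ideal.span {x : R | x ∈ fs}).FG := by
      apply Submodule.fg_span
      exact List.finite_toSet fs
    obtain ⟨k, hk⟩ := Ideal.exists_pow_le_of_le_radical_of_fg hle hfg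
    exact ⟨k, fun a ha => (Ideal.mem_torsionOf_iff _ _).1 (hk ha)⟩
  · rintro ⟨N, hN⟩ f hf
    exact ⟨N, hN _ (Ideal.pow_mem_pow (Ideal.subset_span (show f ∈ {x : R | x ∈ fs} from hf)) N)⟩

/-- degree-zero homology of a complex vanishing in negative degrees is the kernel of `d⁰` -/
noncomputable def homologyZeroIso (K : CochainComplex (ModuleCat.{u} R) ℤ)
    (hK : IsZero (K.X (-1))) :
    K.homology 0 ≅ ModuleCat.of R (LinearMap.ker (K.d 0 1).hom) := by
  have hf : (K.sc' (-1) 0 1).f = 0 := hK.eq_of_src _ _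
  let h := ShortComplex.LeftHomologyData.ofIsLimitKernelFork (K.sc' (-1) 0 1) hf
    (ModuleCat.kernelCone (K.sc' (-1) 0 1).g) (ModuleCat.kernelIsLimit _)
  exact ShortComplex.homologyMapIso (K.isoSc' (-1) 0 1 (by simp) (by simp)) ≪≫ h.homologyIso

theorem main (fs : List R) (M : ModuleCat.{u} R) :
    Nonempty (DerCA.extCechH fs M 0 ≅ (DRing.gammaI (Ideal.span {x : R | x ∈ fs})).obj M) := by
  let D := H0Data.extCech M fs
  have hmap : (LinearMap.ker ((DerCA.extCech M fs).d 0 1).hom).map (D.e : _ →ₗ[R] M) =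
      DRing.torsionSub (Ideal.span {x : R | x ∈ fs}) M := by
    ext m
    rw [← torsion_iff, Submodule.mem_map]
    constructor
    · rintro ⟨x, hx, rfl⟩
      exact (D.ker_iff x).1 hx
    · intro h
      obtain ⟨x, rfl⟩ := D.e.surjective m
      exact ⟨x, (D.ker_iff x).2 h, rfl⟩
  let e1 : LinearMap.ker ((DerCA.extCech M fs).d 0 1).hom ≃ₗ[R]
      DRing.torsionSub (Ideal.span {x : R | x ∈ fs}) M :=
    (D.e.submoduleMap _).trans (LinearEquiv.ofEq _ _ hmap)
  exact ⟨homologyZeroIso _ (D.zero_neg (-1) (by omega)) ≪≫ e1.toModuleIso⟩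

end Groth.Agent.Helper26.ExtCechH0b
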