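import Mathlib

namespace Groth.Agent.Helper26.Chev

open IsLocalRing

universe u
variable {R : Type u} [CommRing R] [IsNoetherianRing R] [IsLocalRing R]

/-- `R ⧸ 𝔪 ^ k` is an Artinian `R`-module. -/
theorem isArtinian_quot (k : ℕ) : IsArtinian R (R ⧸ (maximalIdeal R) ^ k) := by
  by_cases hI : (maximalIdeal R) ^ k = ⊤
  · have : Subsingleton (R ⧸ (maximalIdeal R) ^ k) := by
      rw [hI]; infer_instance
    infer_instance
  set I := (maximalIdeal R) ^ k with hIdef
  have : Nontrivial (R ⧸ I) := Ideal.Quotient.nontrivial_iff.mpr hI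
  have := IsLocalRing.of_surjective' (Ideal.Quotient.mk I) Ideal.Quotient.mk_surjective
  have := IsLocalHom.of_surjective (Ideal.Quotient.mk I) Ideal.Quotient.mk_surjective
  have hmap : (maximalIdeal R).map (Ideal.Quotient.mk I) = maximalIdeal (R ⧸ I) := by
    ext x
    obtain ⟨x, rfl⟩ := Ideal.Quotient.mk_surjective x
    simp [sup_eq_left.mpr (le_maximalIdeal hI)]
  have : IsArtinianRing (R ⧸ I) := by
    rw [isArtinianRing_iff_isNilpotent_maximalIdeal]
    refine ⟨k, ?_⟩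
    rw [← hmap, ← Ideal.map_pow, Ideal.zero_eq_bot, Ideal.map_eq_bot_iff_le_ker, Ideal.mk_ker]
  exact isArtinian_of_surjective_algebraMap (R := R ⧸ I) (S := R) (M := R ⧸ I)
    Ideal.Quotient.mk_surjective

/-- Stabilisation modulo `𝔪 ^ k`. -/
theorem stab (I : ℕ → Ideal R) (hI : Antitone I) (k : ℕ) :
    ∃ s0, ∀ s, s0 ≤ s → I s ⊔ (maximalIdeal R) ^ k = I s0 ⊔ (maximalIdeal R) ^ k := by
  have := isArtinian_quot (R := R) k
  let f : ℕ →o (Submodule R (R ⧸ (maximalIdeal R) ^ k))ᵒᵈ :=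
    ⟨fun s => OrderDual.toDual (Submodule.map ((maximalIdeal R) ^ k).mkQ (I s)), fun a b hab =>
      OrderDual.toDual_le_toDual.2 (Submodule.map_mono (hI hab))⟩
  obtain ⟨s0, hs0⟩ := IsArtinian.monotone_stabilizes f
  refine ⟨s0, fun s hs => ?_⟩
  have h1 : Submodule.map ((maximalIdeal R) ^ k).mkQ (I s0) =
      Submodule.map ((maximalIdeal R) ^ k).mkQ (I s) :=
    OrderDual.toDual.injective (hs0 s hs)
  have h2 := congrArg (Submodule.comap ((maximalIdeal R) ^ k).mkQ) h1
  rw [Submodule.comap_map_mkQ, Submodule.comap_map_mkQ] at h2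
  rw [sup_comm, ← h2, sup_comm]

/-- The "closure" `J k = ⨅ s, I s ⊔ 𝔪 ^ k`. -/
noncomputable def J (I : ℕ → Ideal R) (k : ℕ) : Ideal R := ⨅ s, I s ⊔ (maximalIdeal R) ^ k

theorem J_eq (I : ℕ → Ideal R) (hI : Antitone I) (k : ℕ) :
    ∃ s0, J I k = I s0 ⊔ (maximalIdeal R) ^ k := by
  obtain ⟨s0, hs0⟩ := stab I hI k
  refine ⟨s0, le_antisymm (iInf_le _ s0) (le_iInf fun s => ?_)⟩
  rcases le_total s0 s with h | h
  · rw [hs0 s h]
  · exact sup_le_sup_right (hI h) _

omit [IsNoetherianRing R] in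
theorem pow_le_J (I : ℕ → Ideal R) (k : ℕ) : (maximalIdeal R) ^ k ≤ J I k :=
  le_iInf fun _ => le_sup_right

theorem J_step (I : ℕ → Ideal R) (hI : Antitone I) (k : ℕ) :
    J I k ≤ J I (k + 1) ⊔ (maximalIdeal R) ^ k := by
  obtain ⟨s0, hs0⟩ := J_eq I hI (k + 1)
  rw [hs0]
  refine (iInf_le _ s0).trans ?_
  refine sup_le ?_ le_sup_right
  exact le_sup_of_le_left le_sup_left

omit [IsNoetherianRing R] in
theorem J_le (I : ℕ → Ideal R) (k s : ℕ) : J I k ≤ I s ⊔ (maximalIdeal R) ^ k := iInf_le _ s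

omit [IsNoetherianRing R] in
theorem J_anti (I : ℕ → Ideal R) {k l : ℕ} (h : k ≤ l) : J I l ≤ J I k :=
  iInf_mono fun _ => sup_le_sup_left (Ideal.pow_le_pow_right h) _

/-- Ideals are closed: if `x ∈ I + 𝔪 ^ k` for all `k` then `x ∈ I`. -/
theorem mem_of_forall_mem_sup (I : Ideal R) (x : R)
    (h : ∀ k, x ∈ I ⊔ (maximalIdeal R) ^ k) : x ∈ I := by
  have hH : IsHausdorff (maximalIdeal R) (R ⧸ I) := inferInstance
  rw [← Ideal.Quotient.eq_zero_iff_mem]
  refine hH.haus _ fun k => ?_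
  rw [SModEq.zero]
  obtain ⟨a, ha, b, hb, hab⟩ := Submodule.mem_sup.1 (h k)
  have : Ideal.Quotient.mk I x = b • (Ideal.Quotient.mk I 1) := by
    rw [← hab, map_add, Ideal.Quotient.eq_zero_iff_mem.2 ha, zero_add]
    rw [Algebra.smul_def, map_one, mul_one]; rfl
  rw [this]
  exact Submodule.smul_mem_smul hb Submodule.mem_top

theorem main [IsAdicComplete (maximalIdeal R) R] (I : ℕ → Ideal R) (hI : Antitone I)
    (hinf : ⨅ s, I s = ⊥) (n : ℕ) : ∃ s : ℕ, I s ≤ maximalIdeal R ^ n := by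
  by_contra hcon
  push Not at hcon
  set 𝔪 := maximalIdeal R with h𝔪
  -- `J n` is not contained in `𝔪 ^ n`
  obtain ⟨s0, hs0⟩ := J_eq I hI n
  obtain ⟨x0, hx0I, hx0⟩ := Set.not_subset.1 (hcon s0)
  have hx0J : x0 ∈ J I n := hs0 ▸ Ideal.mem_sup_left hx0I
  -- the successor function
  have hnext : ∀ k (y : R), ∃ y' : R, y ∈ J I k → (y' ∈ J I (k + 1) ∧ y' - y ∈ 𝔪 ^ k) := by
    intro k y
    by_cases hy : y ∈ J I k
    · obtain ⟨a, ha, b, hb, hab⟩ := Submodule.mem_sup.1 (J_step I hI k hy)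
      refine ⟨a, fun _ => ⟨ha, ?_⟩⟩
      have : a - y = -b := by rw [← hab]; ring
      rw [this]
      exact neg_mem hb
    · exact ⟨0, fun h => absurd h hy⟩
  choose next hnext using hnext
  let z : ℕ → R := fun j => Nat.rec x0 (fun j y => next (n + j) y) j
  have hz0 : z 0 = x0 := rfl
  have hzs : ∀ j, z (j + 1) = next (n + j) (z j) := fun j => rfl
  have hzJ : ∀ j, z j ∈ J I (n + j) := by
    intro j
    induction j with
    | zero => simpa [hz0] using hx0J
    | succ j ih =>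
      rw [hzs]
      exact (hnext (n + j) (z j) ih).1
  have hzstep : ∀ j, z (j + 1) - z j ∈ 𝔪 ^ (n + j) := by
    intro j
    rw [hzs]
    exact (hnext (n + j) (z j) (hzJ j)).2
  have hzle : ∀ i j, i ≤ j → z j - z i ∈ 𝔪 ^ (n + i) := by
    intro i j hij
    induction j, hij using Nat.le_induction with
    | base => simp
    | succ j hij ih =>
      have : z (j + 1) - z i = (z (j + 1) - z j) + (z j - z i) := by ring
      rw [this]
      exact add_mem (Ideal.pow_le_pow_right (by omega) (hzstep j)) ih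
  -- limit
  obtain ⟨L, hL⟩ := IsPrecomplete.prec' (I := 𝔪) (M := R) (fun k => z (k - n)) (by
    intro a b hab
    rw [SModEq.sub_mem, smul_eq_mul, Ideal.mul_top]
    have h1 := hzle (a - n) (b - n) (by omega)
    have h2 : z (a - n) - z (b - n) = -(z (b - n) - z (a - n)) := by ring
    rw [h2]
    exact neg_mem (Ideal.pow_le_pow_right (by omega) h1))
  have hL' : ∀ j, z j - L ∈ 𝔪 ^ (n + j) := by
    intro j
    have := hL (n + j)
    rw [SModEq.sub_mem, smul_eq_mul, Ideal.mul_top] at this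
    simpa using this
  -- `L ∉ 𝔪 ^ n`
  have hLn : L ∉ 𝔪 ^ n := by
    intro h
    apply hx0
    have h1 := hL' 0
    rw [hz0, add_zero] at h1
    have : x0 = (x0 - L) + L := by ring
    rw [this]
    exact add_mem h1 h
  -- `L ∈ J (n + j)`
  have hLJ : ∀ j, L ∈ J I (n + j) := by
    intro j
    have : L = z j - (z j - L) := by ring
    rw [this]
    exact sub_mem (hzJ j) (pow_le_J I _ (hL' j))
  -- `L ∈ I s` for all `s`
  have hLI : ∀ s, L ∈ I s := by
    intro s
    refine mem_of_forall_mem_sup (I s) L fun k => ?_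
    have h1 : L ∈ J I k := J_anti I (Nat.le_add_left k n) (hLJ k)
    exact J_le I k s h1
  have hL0 : L = 0 := by
    have : L ∈ ⨅ s, I s := (Submodule.mem_iInf _).2 hLI
    rw [hinf] at this
    simpa using this
  exact hLn (hL0 ▸ zero_mem _)

end Groth.Agent.Helper26.Chev
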