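import Mathlib

set_option autoImplicit false
universe u v

namespace Groth.Agent.Helper26.AdicCC

variable {A : Type u} [CommRing A] (I : Ideal A) (M : Type v) [AddCommGroup M] [Module A M]

open AdicCompletion

/-- `of` maps `I^n M` into `I^n M̂`. -/
lemma of_mem (n : ℕ) {y : M} (hy : y ∈ (I ^ n • ⊤ : Submodule A M)) :
    AdicCompletion.of I M y ∈ (I ^ n • ⊤ : Submodule A (AdicCompletion I M)) := by
  have h1 : AdicCompletion.of I M y ∈ Submodule.map (AdicCompletion.of I M)
      (I ^ n • ⊤ : Submodule A M) := Submodule.mem_map_of_mem hy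
  rw [Submodule.map_smul''] at h1
  exact Submodule.smul_mono le_rfl le_top h1

/-- the approximation condition is equivalent to `ker eval_n = I^n M̂`. -/
lemma ker_le_of_approx
    (h : ∀ (n : ℕ) (x : AdicCompletion I M), ∃ y : M,
        x - AdicCompletion.of I M y ∈ (I ^ n • ⊤ : Submodule A (AdicCompletion I M))) (n : ℕ) :
    LinearMap.ker (AdicCompletion.eval I M n) ≤ (I ^ n • ⊤ : Submodule A (AdicCompletion I M)) := by
  intro x hx
  obtain ⟨y, hy⟩ := h n x
  have h1 : x - AdicCompletion.of I M y ∈ LinearMap.ker (AdicCompletion.eval I M n) :=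
    AdicCompletion.pow_smul_top_le_ker_eval I n hy
  have h2 : AdicCompletion.of I M y ∈ LinearMap.ker (AdicCompletion.eval I M n) := by
    have := Submodule.sub_mem _ hx h1
    rwa [sub_sub_cancel] at this
  rw [LinearMap.mem_ker, AdicCompletion.eval_apply, AdicCompletion.of_apply,
    Submodule.mkQ_apply, Submodule.Quotient.mk_eq_zero] at h2
  have h3 := of_mem I M n h2
  have := Submodule.add_mem _ hy h3
  rwa [sub_add_cancel] at this

theorem complete_of_approx
    (h : ∀ (n : ℕ) (x : AdicCompletion I M), ∃ y : M,
        x - AdicCompletion.of I M y ∈ (I ^ n • ⊤ : Submodule A (AdicCompletion I M))) :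
    IsAdicComplete I (AdicCompletion I M) where
  prec' x hx := by
    have hker : ∀ n, (I ^ n • ⊤ : Submodule A (AdicCompletion I M)) =
        LinearMap.ker (AdicCompletion.eval I M n) := fun n =>
      le_antisymm (AdicCompletion.pow_smul_top_le_ker_eval I n) (ker_le_of_approx I M h n)
    let L : AdicCompletion I M := {
      val i := (x i).val i
      property {m n} h' := by
        simp only [transitionMap_comp_eval_apply]
        specialize hx h'
        rwa [SModEq.sub_mem, hker, LinearMap.mem_ker, _root_.map_sub,
          sub_eq_zero, eval_apply, eval_apply, eq_comm] at hx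
    }
    use L; intro i
    rw [SModEq.sub_mem, hker, LinearMap.mem_ker, _root_.map_sub, sub_eq_zero, eval_apply,
      eval_apply]

theorem approx_of_precomplete [IsPrecomplete I (AdicCompletion I M)]
    (n : ℕ) (x : AdicCompletion I M) : ∃ y : M,
        x - AdicCompletion.of I M y ∈ (I ^ n • ⊤ : Submodule A (AdicCompletion I M)) := by
  -- lifts of the components
  have hsurj : ∀ k, ∃ y : M, Submodule.Quotient.mk y = x.val k :=
    fun k => Submodule.Quotient.mk_surjective _ _
  choose y hy using hsurj
  have hcauchy : ∀ {a b : ℕ}, a ≤ b → AdicCompletion.of I M (y a) ≡ AdicCompletion.of I M (y b)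
      [SMOD (I ^ a • ⊤ : Submodule A (AdicCompletion I M))] := by
    intro a b hab
    rw [SModEq.sub_mem, ← map_sub]
    apply of_mem
    rw [← Submodule.Quotient.mk_eq_zero, Submodule.Quotient.mk_sub, hy a, sub_eq_zero]
    have h1 := x.2 hab
    rw [← hy b] at h1
    exact h1.symm
  obtain ⟨x', hx'⟩ := IsPrecomplete.prec' (fun k => AdicCompletion.of I M (y k))
    (fun hab => hcauchy hab)
  have hxx' : x' = x := by
    apply AdicCompletion.ext
    intro k
    have h1 := hx' k
    rw [SModEq.sub_mem] at h1
    have h2 := AdicCompletion.pow_smul_top_le_ker_eval I k h1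
    rw [LinearMap.mem_ker, map_sub, sub_eq_zero, AdicCompletion.eval_apply,
      AdicCompletion.eval_apply, AdicCompletion.of_apply, Submodule.mkQ_apply, hy k] at h2
    exact h2.symm
  refine ⟨y n, ?_⟩
  have h1 := hx' n
  rw [SModEq.sub_mem, hxx'] at h1
  rw [← neg_sub]
  exact (Submodule.neg_mem_iff _).2 h1

end Groth.Agent.Helper26.AdicCC
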