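import Groth.Prelude.Def_W4c5adicflatcomplDec
import Mathlib

set_option autoImplicit false
universe u v w x

namespace Groth.Agent.Helper26.DecSum

open W4c5adicflatcompl

variable {A : Type u} [CommRing A] (I : Ideal A) {Z : Type v} {P : Type w} [AddCommGroup P]
  [Module A P] {M : Type x} [AddCommGroup M] [Module A M] (ψ : Z → P →ₗ[A] M)

lemma map_mem (f : P →ₗ[A] M) (n : ℕ) {p : P} (hp : p ∈ (I ^ n • ⊤ : Submodule A P)) :
    f p ∈ (I ^ n • ⊤ : Submodule A M) := by
  have h1 : f p ∈ Submodule.map f (I ^ n • ⊤ : Submodule A P) := Submodule.mem_map_of_mem hp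
  rw [Submodule.map_smul''] at h1
  exact Submodule.smul_mono le_rfl le_top h1

lemma supp_fin (g : decaying I Z P) (n : ℕ) :
    (Function.support fun z => (Submodule.Quotient.mk (ψ z ((g : Z → P) z)) :
      M ⧸ (I ^ n • ⊤ : Submodule A M))).Finite := by
  refine (g.2 n).subset ?_
  intro z hz hmem
  apply hz
  rw [Submodule.Quotient.mk_eq_zero]
  exact map_mem I (ψ z) n hmem

/-- level-`n` sum. -/
noncomputable def level (n : ℕ) : decaying I Z P →ₗ[A] M ⧸ (I ^ n • ⊤ : Submodule A M) where
  toFun g := ∑ᶠ z, (Submodule.Quotient.mk (ψ z ((g : Z → P) z)) : M ⧸ (I ^ n • ⊤ : Submodule A M))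
  map_add' g h := by
    rw [← finsum_add_distrib (supp_fin I ψ g n) (supp_fin I ψ h n)]
    apply finsum_congr
    intro z
    simp only [Submodule.coe_add, Pi.add_apply, map_add, Submodule.Quotient.mk_add]
  map_smul' a g := by
    simp only [RingHom.id_apply]
    rw [smul_finsum' a (supp_fin I ψ g n)]
    apply finsum_congr
    intro z
    simp only [Submodule.coe_smul, Pi.smul_apply, map_smul, Submodule.Quotient.mk_smul]

lemma level_apply (n : ℕ) (g : decaying I Z P) :
    level I ψ n g = ∑ᶠ z, (Submodule.Quotient.mk (ψ z ((g : Z → P) z)) :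
      M ⧸ (I ^ n • ⊤ : Submodule A M)) := rfl

lemma level_compat {m n : ℕ} (hle : m ≤ n) :
    Submodule.factorPow I M hle ∘ₗ level I ψ n = level I ψ m := by
  ext g
  simp only [LinearMap.comp_apply, level_apply]
  have h1 := AddMonoidHom.map_finsum (Submodule.factorPow I M hle).toAddMonoidHom
    (supp_fin I ψ g n)
  simp only [LinearMap.toAddMonoidHom_coe] at h1
  rw [h1]
  apply finsum_congr
  intro z
  rfl

variable [IsAdicComplete I M]

/-- the convergent sum `g ↦ Σ_z ψ_z (g z)`. -/
noncomputable def dsum : decaying I Z P →ₗ[A] M :=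
  IsAdicComplete.lift I (level I ψ) (fun hle => level_compat I ψ hle)

lemma mk_dsum (n : ℕ) (g : decaying I Z P) :
    (Submodule.Quotient.mk (dsum I ψ g) : M ⧸ (I ^ n • ⊤ : Submodule A M)) = level I ψ n g :=
  IsAdicComplete.mk_lift I (fun hle => level_compat I ψ hle) n g

/-- specification of the convergent sum. -/
lemma dsum_spec (g : decaying I Z P) (n : ℕ) :
    ∃ S : Finset Z, (∀ z, z ∉ S → (g : Z → P) z ∈ (I ^ n • ⊤ : Submodule A P)) ∧
      dsum I ψ g - ∑ z ∈ S, ψ z ((g : Z → P) z) ∈ (I ^ n • ⊤ : Submodule A M) := by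
  classical
  refine ⟨(g.2 n).toFinset, ?_, ?_⟩
  · intro z hz
    by_contra h
    exact hz ((g.2 n).mem_toFinset.2 h)
  · rw [← Submodule.Quotient.mk_eq_zero, Submodule.Quotient.mk_sub, mk_dsum, level_apply,
      sub_eq_zero]
    rw [finsum_eq_sum_of_support_subset (s := (g.2 n).toFinset)]
    · rw [← Submodule.mkQ_apply, map_sum]
      rfl
    · intro z hz
      rw [Finset.mem_coe, (g.2 n).mem_toFinset]
      intro hmem
      apply hz
      rw [Submodule.Quotient.mk_eq_zero]
      exact map_mem I (ψ z) n hmem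

end Groth.Agent.Helper26.DecSum
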