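import Groth.Prelude.Def_W4c5adicflatcomplDec
import Mathlib
import Groth.Agent.Lib.Helper26.DecSum

set_option autoImplicit false
universe u v w

namespace Groth.Agent.Helper26.DecRedM

open W4c5adicflatcompl

variable {A : Type u} [CommRing A] (I : Ideal A) (Z : Type v)
  (N : Type w) [AddCommGroup N] [Module A N]

lemma mem_of_mem_smul (n : ℕ) (f : decaying I Z N)
    (hf : f ∈ (I ^ n • ⊤ : Submodule A (decaying I Z N))) (z : Z) :
    (f : Z → N) z ∈ (I ^ n • ⊤ : Submodule A N) :=
  Groth.Agent.Helper26.DecSum.map_mem I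
    ((LinearMap.proj z).comp (decaying I Z N).subtype : decaying I Z N →ₗ[A] N) n hf

/-- elements of `span s • N'` are combinations of the generators with coefficients in `N'`. -/
lemma exists_of_mem_span_smul (s : Finset A) (N' : Submodule A N) (x : N)
    (hx : x ∈ (Ideal.span (s : Set A)) • N') :
    ∃ y : s → N, (∀ a, y a ∈ N') ∧ x = ∑ a : s, (a : A) • y a := by
  classical
  refine Submodule.smul_induction_on hx ?_ ?_
  · intro r hr n hn
    obtain ⟨c, hc⟩ := (Submodule.mem_span_finset'.1 hr)
    refine ⟨fun a => c a • n, fun a => Submodule.smul_mem _ _ hn, ?_⟩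
    rw [← hc, Finset.sum_smul]
    apply Finset.sum_congr rfl
    intro a _
    rw [smul_eq_mul, mul_comm, mul_smul]
  · rintro x y ⟨y1, h1, e1⟩ ⟨y2, h2, e2⟩
    refine ⟨fun a => y1 a + y2 a, fun a => Submodule.add_mem _ (h1 a) (h2 a), ?_⟩
    rw [e1, e2, ← Finset.sum_add_distrib]
    apply Finset.sum_congr rfl
    intro a _
    rw [smul_add]

end Groth.Agent.Helper26.DecRedM

namespace Groth.Agent.Helper26.DecRedM

open W4c5adicflatcompl

variable {A : Type u} [CommRing A] (I : Ideal A) (Z : Type v)
  (N : Type w) [AddCommGroup N] [Module A N]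

theorem mem_smul_of_mem [IsNoetherianRing A] [IsHausdorff I N] (n : ℕ) (f : decaying I Z N)
    (hf : ∀ z, (f : Z → N) z ∈ (I ^ n • ⊤ : Submodule A N)) :
    f ∈ (I ^ n • ⊤ : Submodule A (decaying I Z N)) := by
  classical
  obtain ⟨s, hs⟩ := (isNoetherianRing_iff_ideal_fg A).1 inferInstance (I ^ n)
  have hpow : ∀ k : ℕ, (I ^ (n + k) • ⊤ : Submodule A N) =
      (Ideal.span (s : Set A)) • (I ^ k • ⊤ : Submodule A N) := by
    intro k
    have : Ideal.span (s : Set A) = I ^ n := hs
    rw [this, ← Submodule.smul_assoc, smul_eq_mul, ← pow_add]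
  -- pointwise decomposition
  have key : ∀ z : Z, ∃ h : s → N, (f : Z → N) z = ∑ a : s, (a : A) • h a ∧
      ∀ k : ℕ, (f : Z → N) z ∈ (I ^ (n + k) • ⊤ : Submodule A N) →
        ∀ a, h a ∈ (I ^ k • ⊤ : Submodule A N) := by
    intro z
    by_cases hall : ∀ k : ℕ, (f : Z → N) z ∈ (I ^ (n + k) • ⊤ : Submodule A N)
    · have h0 : (f : Z → N) z = 0 := by
        apply IsHausdorff.haus (inferInstance : IsHausdorff I N)
        intro k
        rw [SModEq.zero]
        exact Submodule.smul_mono (Ideal.pow_le_pow_right (Nat.le_add_left k n)) le_rfl (hall k)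
      exact ⟨0, by simp [h0], fun k _ a => by simp⟩
    · push Not at hall
      have hspec := Nat.find_spec hall
      have hmin := fun {k : ℕ} (hk : k < Nat.find hall) => Nat.find_min hall hk
      set k0 := Nat.find hall with hk0
      have hk0pos : k0 ≠ 0 := by
        intro h
        rw [h, add_zero] at hspec
        exact hspec (hf z)
      have hmem : (f : Z → N) z ∈ (I ^ (n + (k0 - 1)) • ⊤ : Submodule A N) := by
        have := hmin (k := k0 - 1) (by omega)
        simpa using this
      rw [hpow] at hmem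
      obtain ⟨y, hy1, hy2⟩ := exists_of_mem_span_smul N s _ _ hmem
      refine ⟨y, hy2, ?_⟩
      intro k hk a
      have hlt : k < k0 := by
        by_contra hge
        push Not at hge
        exact hspec (Submodule.smul_mono (Ideal.pow_le_pow_right (by omega)) le_rfl hk)
      exact Submodule.smul_mono (Ideal.pow_le_pow_right (by omega)) le_rfl (hy1 a)
  choose h hh1 hh2 using key
  have hdec : ∀ a : s, (fun z => h z a) ∈ decaying I Z N := by
    intro a
    rw [mem_decaying_iff]
    intro k
    refine (f.2 (n + k)).subset ?_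
    intro z hz hz'
    exact hz (hh2 z k hz' a)
  have hfeq : f = ∑ a : s, (a : A) • (⟨fun z => h z a, hdec a⟩ : decaying I Z N) := by
    apply Subtype.ext
    funext z
    rw [hh1 z]
    simp only [Submodule.coe_sum, Submodule.coe_smul, Finset.sum_apply, Pi.smul_apply]
  rw [hfeq]
  apply Submodule.sum_mem
  intro a _
  apply Submodule.smul_mem_smul _ Submodule.mem_top
  rw [← hs]
  exact Submodule.subset_span a.2

theorem isHausdorff_dec [IsHausdorff I N] : IsHausdorff I (decaying I Z N) := by
  refine ⟨fun f hf => ?_⟩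
  apply Subtype.ext
  funext z
  apply IsHausdorff.haus (inferInstance : IsHausdorff I N)
  intro n
  rw [SModEq.zero]
  exact mem_of_mem_smul I Z N n f (SModEq.zero.mp (hf n)) z

theorem isPrecomplete_dec [IsNoetherianRing A] [IsAdicComplete I N] :
    IsPrecomplete I (decaying I Z N) := by
  refine ⟨fun F hF => ?_⟩
  have hpt : ∀ z {a b : ℕ}, a ≤ b →
      ((F a : decaying I Z N) : Z → N) z ≡ ((F b : decaying I Z N) : Z → N) z
        [SMOD (I ^ a • ⊤ : Submodule A N)] := by
    intro z a b hab
    have h1 := hF hab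
    rw [SModEq.sub_mem] at h1 ⊢
    exact mem_of_mem_smul I Z N a _ h1 z
  have hlim : ∀ z, ∃ L : N, ∀ n, ((F n : decaying I Z N) : Z → N) z ≡ L
      [SMOD (I ^ n • ⊤ : Submodule A N)] :=
    fun z => IsPrecomplete.prec' (fun n => ((F n : decaying I Z N) : Z → N) z)
      (fun hab => hpt z hab)
  choose L hL using hlim
  have hLdec : L ∈ decaying I Z N := by
    rw [mem_decaying_iff]
    intro k
    refine ((F k).2 k).subset ?_
    intro z hz hz'
    apply hz
    have := hL z k
    rw [SModEq.sub_mem] at this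
    have h2 := Submodule.sub_mem _ hz' this
    rwa [sub_sub_cancel] at h2
  refine ⟨⟨L, hLdec⟩, fun n => ?_⟩
  rw [SModEq.sub_mem]
  apply mem_smul_of_mem
  intro z
  have := hL z n
  rw [SModEq.sub_mem] at this
  exact this

theorem isAdicComplete_dec [IsNoetherianRing A] [IsAdicComplete I N] :
    IsAdicComplete I (decaying I Z N) :=
  { toIsHausdorff := isHausdorff_dec I Z N, toIsPrecomplete := isPrecomplete_dec I Z N }

end Groth.Agent.Helper26.DecRedM
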