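import Groth.Prelude.Def_W4c5adicflatcomplDec
import Mathlib
import Groth.Agent.Lib.Helper26.DecSum
import Groth.Agent.Lib.Helper26.DecRedM
import Groth.Agent.Lib.Helper26.AdicCC

set_option autoImplicit false
universe u v w x

namespace Groth.Agent.Helper26.DecUniv

open W4c5adicflatcompl Groth.Agent.Helper26.DecSum

section
variable {A : Type u} [CommRing A] (I : Ideal A) {Z : Type v} [DecidableEq Z]
  {P : Type w} [AddCommGroup P] [Module A P] {M : Type x} [AddCommGroup M] [Module A M]
  (ψ : Z → P →ₗ[A] M) [IsAdicComplete I M]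

lemma dsum_single (z : Z) (p : P) : dsum I ψ (single I z p) = ψ z p := by
  rw [← sub_eq_zero]
  apply IsHausdorff.haus (inferInstance : IsHausdorff I M)
  intro n
  rw [SModEq.zero, ← Submodule.Quotient.mk_eq_zero, Submodule.Quotient.mk_sub, mk_dsum,
    level_apply, sub_eq_zero]
  rw [finsum_eq_single _ z]
  · simp
  · intro z' hz'
    simp [Pi.single_eq_of_ne hz']

end

section
variable {A : Type u} [CommRing A] (I : Ideal A) (Z : Type v) [DecidableEq Z]
  (N : Type w) [AddCommGroup N] [Module A N]

lemma single_add (z : Z) (a b : N) : single I z (a + b) = single I z a + single I z b := by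
  apply Subtype.ext
  simp [Pi.single_add]

lemma single_smul (z : Z) (c : A) (a : N) : single I z (c • a) = c • single I z a := by
  apply Subtype.ext
  simp [Pi.single_smul]

lemma single_mem [IsNoetherianRing A] [IsHausdorff I N] (n : ℕ) (z : Z) (a : N)
    (ha : a ∈ (I ^ n • ⊤ : Submodule A N)) :
    single I z a ∈ (I ^ n • ⊤ : Submodule A (decaying I Z N)) := by
  apply Groth.Agent.Helper26.DecRedM.mem_smul_of_mem
  intro z'
  rw [coe_single]
  by_cases h : z' = z
  · rw [h, Pi.single_eq_same]; exact ha
  · rw [Pi.single_eq_of_ne h]; exact Submodule.zero_mem _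

/-- decomposition of a decaying function into a finite part and a small part. -/
lemma sub_sum_single_mem [IsNoetherianRing A] [IsHausdorff I N] (n : ℕ) (g : decaying I Z N) :
    ∃ S : Finset Z, g - ∑ z ∈ S, single I z ((g : Z → N) z) ∈
      (I ^ n • ⊤ : Submodule A (decaying I Z N)) := by
  refine ⟨(g.2 n).toFinset, ?_⟩
  apply Groth.Agent.Helper26.DecRedM.mem_smul_of_mem
  intro z
  simp only [Submodule.coe_sub, Submodule.coe_sum, coe_single, Pi.sub_apply, Finset.sum_apply]
  by_cases hz : z ∈ (g.2 n).toFinset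
  · rw [Finset.sum_eq_single z]
    · rw [Pi.single_eq_same, sub_self]; exact Submodule.zero_mem _
    · intro z' _ hz'
      exact Pi.single_eq_of_ne' hz' _
    · intro h; exact absurd hz h
  · rw [Finset.sum_eq_zero]
    · rw [sub_zero]
      by_contra hc
      exact hz ((g.2 n).mem_toFinset.2 hc)
    · intro z' hz'
      have : z ≠ z' := fun h => hz (h ▸ hz')
      exact Pi.single_eq_of_ne this _

end

end Groth.Agent.Helper26.DecUniv

namespace Groth.Agent.Helper26.DecUniv

open W4c5adicflatcompl Groth.Agent.Helper26.DecSum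

variable {A : Type u} [CommRing A] (I : Ideal A) (Z : Type v) [DecidableEq Z]
  (M : Type w) [AddCommGroup M] [Module A M] [IsAdicComplete I M]

/-- the `A`-linear map `Â → M`, `1 ↦ m`. -/
noncomputable def ext1 (m : M) : AdicCompletion I A →ₗ[A] M :=
  (AdicCompletion.ofLinearEquiv I M).symm.toLinearMap ∘ₗ
    (AdicCompletion.map I (LinearMap.toSpanSingleton A M m)).restrictScalars A

lemma one_eq_of : (1 : AdicCompletion I A) = AdicCompletion.of I A 1 := by
  apply AdicCompletion.ext
  intro n
  rfl

lemma ext1_one (m : M) : ext1 I M m 1 = m := by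
  simp only [ext1, LinearMap.comp_apply, LinearMap.restrictScalars_apply, LinearEquiv.coe_coe]
  rw [one_eq_of, AdicCompletion.map_of, LinearMap.toSpanSingleton_apply, one_smul,
    AdicCompletion.ofLinearEquiv_symm_of]

lemma of_eq_smul_one (a : A) : AdicCompletion.of I A a = a • (1 : AdicCompletion I A) := by
  rw [one_eq_of, ← map_smul, smul_eq_mul, mul_one]

theorem exists_map (f : Z → M) :
    ∃ φ : decaying I Z (AdicCompletion I A) →ₗ[A] M,
      ∀ z, φ (single I z (1 : AdicCompletion I A)) = f z :=
  ⟨dsum I (fun z => ext1 I M (f z)), fun z => by rw [dsum_single, ext1_one]⟩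

theorem map_eq_zero [IsNoetherianRing A]
    (δ : decaying I Z (AdicCompletion I A) →ₗ[A] M)
    (hδ : ∀ z, δ (single I z (1 : AdicCompletion I A)) = 0) : δ = 0 := by
  have hfg : I.FG := (isNoetherianRing_iff_ideal_fg A).1 inferInstance I
  have hc : IsAdicComplete I (AdicCompletion I A) := AdicCompletion.isAdicComplete hfg
  -- singles
  have hsingle : ∀ (n : ℕ) (z : Z) (a : AdicCompletion I A),
      δ (single I z a) ∈ (I ^ n • ⊤ : Submodule A M) := by
    intro n z a
    obtain ⟨b, hb⟩ := Groth.Agent.Helper26.AdicCC.approx_of_precomplete I A n a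
    have e1 : single I z a = single I z (a - AdicCompletion.of I A b) +
        b • single I z (1 : AdicCompletion I A) := by
      rw [← single_smul, ← of_eq_smul_one, ← single_add, sub_add_cancel]
    rw [e1, map_add, map_smul, hδ, smul_zero, add_zero]
    exact map_mem I δ n (single_mem I Z _ n z _ hb)
  ext g
  rw [LinearMap.zero_apply]
  apply IsHausdorff.haus (inferInstance : IsHausdorff I M)
  intro n
  rw [SModEq.zero]
  obtain ⟨S, hS⟩ := sub_sum_single_mem I Z (AdicCompletion I A) n g
  have e2 : δ g = δ (g - ∑ z ∈ S, single I z ((g : Z → AdicCompletion I A) z)) +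
      ∑ z ∈ S, δ (single I z ((g : Z → AdicCompletion I A) z)) := by
    rw [← map_sum, ← map_add, sub_add_cancel]
  rw [e2]
  exact Submodule.add_mem _ (map_mem I δ n hS) (Submodule.sum_mem _ fun z _ => hsingle n z _)

theorem existsUnique_map [IsNoetherianRing A] (f : Z → M) :
    ∃! φ : decaying I Z (AdicCompletion I A) →ₗ[A] M,
      ∀ z, φ (single I z (1 : AdicCompletion I A)) = f z := by
  obtain ⟨φ, hφ⟩ := exists_map I Z M f
  refine ⟨φ, hφ, fun φ' hφ' => ?_⟩
  rw [← sub_eq_zero]
  apply map_eq_zero I Z M
  intro z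
  rw [LinearMap.sub_apply, hφ, hφ', sub_self]

end Groth.Agent.Helper26.DecUniv
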