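import Groth.Prelude.Def_W4c5adicflatcomplDec
import Mathlib
import Groth.Agent.Lib.Helper26.DecUniv

set_option autoImplicit false
universe u v w x

namespace Groth.Agent.Helper26.AdicProj

open W4c5adicflatcompl Groth.Agent.Helper26.DecSum Groth.Agent.Helper26.DecUniv

/-- a retract of an adically complete module is adically complete. -/
theorem complete_of_retract {A : Type u} [CommRing A] (I : Ideal A)
    {P : Type v} [AddCommGroup P] [Module A P] {D : Type w} [AddCommGroup D] [Module A D]
    [IsAdicComplete I D] (i : P →ₗ[A] D) (r : D →ₗ[A] P) (hri : r ∘ₗ i = LinearMap.id) :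
    IsAdicComplete I P := by
  have hri' : ∀ x, r (i x) = x := fun x => LinearMap.congr_fun hri x
  have h1 : IsHausdorff I P := by
    refine ⟨fun x hx => ?_⟩
    have : i x = 0 := by
      apply IsHausdorff.haus (inferInstance : IsHausdorff I D)
      intro n
      rw [SModEq.zero]
      exact map_mem I i n (SModEq.zero.mp (hx n))
    rw [← hri' x, this, map_zero]
  have h2 : IsPrecomplete I P := by
    refine ⟨fun f hf => ?_⟩
    obtain ⟨L, hL⟩ := IsPrecomplete.prec' (I := I) (fun k => i (f k)) (fun {a b} hab => by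
      have := hf hab
      rw [SModEq.sub_mem] at this ⊢
      rw [← map_sub]
      exact map_mem I i a this)
    refine ⟨r L, fun n => ?_⟩
    have := hL n
    rw [SModEq.sub_mem] at this ⊢
    have h3 := map_mem I r n this
    rwa [map_sub, hri'] at h3
  exact { toIsHausdorff := h1, toIsPrecomplete := h2 }

theorem main {A : Type u} [CommRing A] [IsNoetherianRing A]
    (I : Ideal A) (P : Type u) [AddCommGroup P] [Module A P] :
    IsAdicProjective I P ↔
      ∃ (Z : Type u) (i : P →ₗ[A] decaying I Z (AdicCompletion I A))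
        (r : decaying I Z (AdicCompletion I A) →ₗ[A] P), r ∘ₗ i = LinearMap.id := by
  classical
  have hfg : I.FG := (isNoetherianRing_iff_ideal_fg A).1 inferInstance I
  have hc : IsAdicComplete I (AdicCompletion I A) := AdicCompletion.isAdicComplete hfg
  have hD : ∀ Z : Type u, IsAdicComplete I (decaying I Z (AdicCompletion I A)) :=
    fun Z => Groth.Agent.Helper26.DecRedM.isAdicComplete_dec I Z (AdicCompletion I A)
  constructor
  · rintro ⟨hP1, hP2⟩
    obtain ⟨φ, hφ⟩ := exists_map I P P (fun p => p)
    have hsurj : Function.Surjective φ := fun p => ⟨_, hφ p⟩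
    obtain ⟨χ, hχ⟩ := hP2 (decaying I P (AdicCompletion I A)) P (hD P) hP1 φ hsurj LinearMap.id
    exact ⟨P, χ, φ, hχ⟩
  · rintro ⟨Z, i, r, hri⟩
    have := hD Z
    refine ⟨complete_of_retract I i r hri, ?_⟩
    intro M N _ _ _ _ hM hN φ hφ ψ
    choose m hm using fun z : Z => hφ (ψ (r (single I z (1 : AdicCompletion I A))))
    obtain ⟨χ', hχ'⟩ := exists_map I Z M m
    have heq : φ ∘ₗ χ' = ψ ∘ₗ r := by
      rw [← sub_eq_zero]
      apply map_eq_zero I Z N
      intro z
      simp only [LinearMap.sub_apply, LinearMap.comp_apply, hχ', hm, sub_self]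
    refine ⟨χ' ∘ₗ i, ?_⟩
    rw [← LinearMap.comp_assoc, heq, LinearMap.comp_assoc, hri, LinearMap.comp_id]

end Groth.Agent.Helper26.AdicProj
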