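import Mathlib
import Groth.Agent.Lib.Helper26.AdicProj

namespace Groth.Agent.Helper26.AdicPi

universe u v w

section
variable {A : Type u} [CommRing A] (J : Ideal A)

lemma map_mem' {P : Type v} [AddCommGroup P] [Module A P] {M : Type w} [AddCommGroup M] [Module A M]
    (f : P →ₗ[A] M) {p : P} (hp : p ∈ (J • ⊤ : Submodule A P)) :
    f p ∈ (J • ⊤ : Submodule A M) := by
  have h1 : f p ∈ Submodule.map f (J • ⊤ : Submodule A P) := Submodule.mem_map_of_mem hp
  rw [Submodule.map_smul''] at h1
  exact Submodule.smul_mono le_rfl le_top h1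

theorem mem_smul_top_pi_iff {ι : Type v} [Finite ι] {M : Type w} [AddCommGroup M] [Module A M]
    (f : ι → M) :
    f ∈ (J • ⊤ : Submodule A (ι → M)) ↔ ∀ i, f i ∈ (J • ⊤ : Submodule A M) := by
  classical
  cases nonempty_fintype ι
  constructor
  · intro h i
    exact map_mem' J (LinearMap.proj i : (ι → M) →ₗ[A] M) h
  · intro h
    rw [← Finset.univ_sum_single f]
    refine Submodule.sum_mem _ fun i _ => ?_
    exact map_mem' J (LinearMap.single A (fun _ => M) i) (h i)

theorem isAdicComplete_pi (I : Ideal A) {ι : Type v} [Finite ι] {M : Type w} [AddCommGroup M]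
    [Module A M] [IsAdicComplete I M] : IsAdicComplete I (ι → M) := by
  have h1 : IsHausdorff I (ι → M) := by
    refine ⟨fun f hf => ?_⟩
    ext i
    apply IsHausdorff.haus (inferInstance : IsHausdorff I M)
    intro n
    rw [SModEq.zero]
    exact (mem_smul_top_pi_iff (I ^ n) f).1 (SModEq.zero.mp (hf n)) i
  have h2 : IsPrecomplete I (ι → M) := by
    refine ⟨fun f hf => ?_⟩
    have hcoord : ∀ i, ∃ L : M, ∀ n, f n i ≡ L [SMOD (I ^ n • ⊤ : Submodule A M)] := by
      intro i
      apply IsPrecomplete.prec' (I := I) (M := M) (fun n => f n i)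
      intro m n hmn
      rw [SModEq.sub_mem]
      have := SModEq.sub_mem.1 (hf hmn)
      exact (mem_smul_top_pi_iff (I ^ m) _).1 this i
    choose L hL using hcoord
    refine ⟨L, fun n => ?_⟩
    rw [SModEq.sub_mem, mem_smul_top_pi_iff]
    intro i
    exact SModEq.sub_mem.1 (hL i n)
  exact { toIsHausdorff := h1, toIsPrecomplete := h2 }

theorem isAdicComplete_of_finite_projective (I : Ideal A) [IsAdicComplete I A]
    (Q : Type w) [AddCommGroup Q] [Module A Q] [Module.Finite A Q] [Module.Projective A Q] :
    IsAdicComplete I Q := by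
  obtain ⟨n, f, hf⟩ := Module.Finite.exists_fin' A Q
  obtain ⟨h, hh⟩ := Module.projective_lifting_property f LinearMap.id hf
  have : IsAdicComplete I (Fin n → A) := isAdicComplete_pi I
  exact Groth.Agent.Helper26.AdicProj.complete_of_retract I h f hh

end

end Groth.Agent.Helper26.AdicPi
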