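import Mathlib

/-!
# Smooth algebras: the Newton data of a presentation (helper26)
-/

set_option autoImplicit false
set_option linter.unusedSectionVars false
set_option linter.style.haveILetI false

namespace Groth.Agent.Helper26.SmoothLift

universe u
open MvPolynomial KaehlerDifferential TensorProduct

/-- For a formally smooth quotient `A[x]/J` there are `ε_i ∈ J` with
`f ≡ ∑ ∂f/∂x_i · ε_i` modulo `J²` for all `f ∈ J`. -/
theorem exists_eps {A B : Type u} [CommRing A] [CommRing B] [Algebra A B]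
    [Algebra.FormallySmooth A B] (n : ℕ) (φ : MvPolynomial (Fin n) A →ₐ[A] B)
    (hφ : Function.Surjective φ) :
    ∃ ε : Fin n → MvPolynomial (Fin n) A, (∀ i, ε i ∈ RingHom.ker φ.toRingHom) ∧
      ∀ f ∈ RingHom.ker φ.toRingHom, f - ∑ i, pderiv i f * ε i ∈ (RingHom.ker φ.toRingHom) ^ 2 := by
  letI : Algebra (MvPolynomial (Fin n) A) B := φ.toRingHom.toAlgebra
  haveI : IsScalarTower A (MvPolynomial (Fin n) A) B :=
    IsScalarTower.of_algebraMap_eq (fun r => (φ.commutes r).symm)
  have hf : Function.Surjective (algebraMap (MvPolynomial (Fin n) A) B) := hφ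
  obtain ⟨l, hl⟩ := (Algebra.FormallySmooth.iff_split_injection (R := A)
    (P := MvPolynomial (Fin n) A) (A := B) hf).1 inferInstance
  let J : Ideal (MvPolynomial (Fin n) A) := RingHom.ker (algebraMap (MvPolynomial (Fin n) A) B)
  have hJ : RingHom.ker φ.toRingHom = J := rfl
  -- lifts of `l (1 ⊗ dX_i)`
  choose ε' hε' using fun i : Fin n =>
    J.toCotangent_surjective (l ((1 : B) ⊗ₜ[MvPolynomial (Fin n) A] D A (MvPolynomial (Fin n) A) (X i)))
  refine ⟨fun i => (ε' i : MvPolynomial (Fin n) A), fun i => (ε' i).2, ?_⟩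
  intro f hf'
  rw [hJ] at hf' ⊢
  have hD : D A (MvPolynomial (Fin n) A) f =
      ∑ i, pderiv i f • D A (MvPolynomial (Fin n) A) (X i) := by
    have h0 := ((mvPolynomialBasis A (Fin n)).sum_repr (D A (MvPolynomial (Fin n) A) f)).symm
    simp_rw [mvPolynomialBasis_repr_apply, mvPolynomialBasis_apply] at h0
    exact h0
  have h1 : J.toCotangent ⟨f, hf'⟩ = l (kerCotangentToTensor A (MvPolynomial (Fin n) A) B
      (J.toCotangent ⟨f, hf'⟩)) := (DFunLike.congr_fun hl _).symm
  rw [kerCotangentToTensor_toCotangent] at h1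
  change J.toCotangent ⟨f, hf'⟩ = l ((1 : B) ⊗ₜ D A (MvPolynomial (Fin n) A) f) at h1
  rw [hD, TensorProduct.tmul_sum, map_sum] at h1
  have h2 : ∀ i : Fin n, l ((1 : B) ⊗ₜ[MvPolynomial (Fin n) A]
      (pderiv i f • D A (MvPolynomial (Fin n) A) (X i))) = pderiv i f • J.toCotangent (ε' i) := by
    intro i
    rw [TensorProduct.tmul_smul, map_smul, hε']
  simp_rw [h2] at h1
  have h3 : ∑ x, pderiv x f • J.toCotangent (ε' x) = J.toCotangent (∑ x, pderiv x f • ε' x) := by
    rw [map_sum]
    simp_rw [map_smul]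
  rw [h3, Ideal.toCotangent_eq] at h1
  have h4 : ((∑ x, pderiv x f • ε' x : J) : MvPolynomial (Fin n) A) =
      ∑ i, pderiv i f * (ε' i : MvPolynomial (Fin n) A) := by
    rw [Submodule.coe_sum]
    rfl
  rw [h4] at h1
  exact h1

end Groth.Agent.Helper26.SmoothLift
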