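import Mathlib
import Groth.Agent.Lib.Helper26.MvHens1

namespace Groth.Agent.Helper26.MvHens

open MvPolynomial

universe u
variable (A : Type u) [CommRing A] (n : ℕ) (P : Fin n → MvPolynomial (Fin n) A)

/-- the quotient algebra -/
abbrev SS := MvPolynomial (Fin n) A ⧸ Ideal.span (Set.range P)

/-- the naive presentation -/
noncomputable def P0 : Algebra.PreSubmersivePresentation A (SS A n P) (Fin n) (Fin n) :=
  Algebra.PreSubmersivePresentation.naive (v := P) id Function.injective_id

/-- the Jacobian matrix as in the statement -/
noncomputable def JM : Matrix (Fin n) (Fin n) (MvPolynomial (Fin n) A) :=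
  Matrix.of (fun i j => MvPolynomial.pderiv j (P i))

theorem P0_algebraMap (p : MvPolynomial (Fin n) A) :
    algebraMap (P0 A n P).Ring (SS A n P) p = Ideal.Quotient.mk _ p := rfl

theorem P0_jacobian : (P0 A n P).jacobian = Ideal.Quotient.mk _ (JM A n P).det := by
  rw [Algebra.PreSubmersivePresentation.jacobian_eq_jacobiMatrix_det, P0_algebraMap]
  congr 1
  rw [← Matrix.det_transpose]
  congr 1
  ext i j
  rw [Matrix.transpose_apply]
  simp [P0, JM]

end Groth.Agent.Helper26.MvHens

namespace Groth.Agent.Helper26.MvHens

open MvPolynomial

universe u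
variable (A : Type u) [CommRing A] (n : ℕ) (P : Fin n → MvPolynomial (Fin n) A)

/-- the Jacobian element -/
noncomputable def gg : SS A n P := Ideal.Quotient.mk _ (JM A n P).det

/-- the localization -/
abbrev TT := Localization.Away (gg A n P)

theorem etale_TT : Algebra.Etale A (TT A n P) := by
  let Q0 : Algebra.PreSubmersivePresentation (SS A n P) (TT A n P) Unit Unit :=
    Algebra.PreSubmersivePresentation.localizationAway (TT A n P) (gg A n P)
  let C0 := Q0.comp (P0 A n P)
  have hjac : IsUnit C0.jacobian := by
    rw [Algebra.PreSubmersivePresentation.comp_jacobian_eq_jacobian_smul_jacobian,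
      Algebra.smul_def, IsUnit.mul_iff, P0_jacobian]
    constructor
    · exact IsLocalization.Away.algebraMap_isUnit (gg A n P)
    · rw [Algebra.PreSubmersivePresentation.localizationAway_jacobian]
      exact IsLocalization.Away.algebraMap_isUnit (gg A n P)
  let SP : Algebra.SubmersivePresentation A (TT A n P) (Unit ⊕ Fin n) (Unit ⊕ Fin n) :=
    { toPreSubmersivePresentation := C0, jacobian_isUnit := hjac }
  have hdim : SP.dimension = 0 := by
    simp [Algebra.Presentation.dimension]
  have : Algebra.IsStandardSmoothOfRelativeDimension 0 A (TT A n P) :=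
    SP.isStandardSmoothOfRelativeDimension hdim
  infer_instance

end Groth.Agent.Helper26.MvHens
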