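import Mathlib
import Groth.Agent.Lib.Helper26.MvHens2
import Groth.Agent.Lib.Helper26.PHLift

/-!
# Multivariate Hensel lemma for henselian pairs (helper26)
-/

set_option autoImplicit false
set_option linter.unusedSectionVars false
set_option linter.style.haveILetI false

namespace Groth.Agent.Helper26.SmoothLift

universe u
open MvPolynomial

/-- multivariate Hensel for a henselian pair -/
theorem mvHensel_pair (A : Type u) [CommRing A] (I : Ideal A) [HenselianRing A I] (n : ℕ)
    (P : Fin n → MvPolynomial (Fin n) A) (a₀ : Fin n → A)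
    (h₀ : ∀ i, MvPolynomial.eval a₀ (P i) ∈ I)
    (hJ : IsUnit (Matrix.of (fun i j => MvPolynomial.eval a₀ (MvPolynomial.pderiv j (P i)))).det) :
    ∃ a : Fin n → A, (∀ i, MvPolynomial.eval a (P i) = 0) ∧ ∀ j, a j - a₀ j ∈ I := by
  have hEt : Algebra.Etale A (MvHens.TT A n P) := MvHens.etale_TT A n P
  let ev0 : MvPolynomial (Fin n) A →ₐ[A] A ⧸ I :=
    MvPolynomial.aeval (fun i => Ideal.Quotient.mk I (a₀ i))
  have hev0 : ∀ p : MvPolynomial (Fin n) A, ev0 p = Ideal.Quotient.mk I (MvPolynomial.eval a₀ p) := by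
    intro p
    have h1 : ev0 = (Ideal.Quotient.mkₐ A I).comp (MvPolynomial.aeval a₀) := by
      apply MvPolynomial.algHom_ext
      intro i
      simp [ev0]
    rw [h1, AlgHom.comp_apply, Ideal.Quotient.mkₐ_eq_mk]
    rfl
  have hker : ∀ p ∈ Ideal.span (Set.range P), ev0 p = 0 := by
    intro p hp
    have : Ideal.span (Set.range P) ≤ RingHom.ker ev0.toRingHom := by
      rw [Ideal.span_le]
      rintro _ ⟨i, rfl⟩
      rw [SetLike.mem_coe, RingHom.mem_ker]
      change ev0 (P i) = 0
      rw [hev0, Ideal.Quotient.eq_zero_iff_mem]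
      exact h₀ i
    have := this hp
    rwa [RingHom.mem_ker] at this
  let χS : MvHens.SS A n P →ₐ[A] A ⧸ I :=
    Ideal.Quotient.liftₐ (Ideal.span (Set.range P)) ev0 hker
  have hχS : ∀ p, χS (Ideal.Quotient.mk _ p) = ev0 p := fun p => rfl
  have hg : IsUnit (χS (MvHens.gg A n P)) := by
    rw [MvHens.gg, hχS, hev0]
    have : MvPolynomial.eval a₀ (MvHens.JM A n P).det =
        (Matrix.of (fun i j => MvPolynomial.eval a₀ (MvPolynomial.pderiv j (P i)))).det := by
      rw [RingHom.map_det]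
      congr 1
    rw [this]
    exact hJ.map _
  let χ : MvHens.TT A n P →ₐ[A] A ⧸ I :=
    IsLocalization.liftAlgHom (M := Submonoid.powers (MvHens.gg A n P)) (f := χS) (by
      rintro ⟨y, k, rfl⟩
      simpa using hg.pow k)
  have hχ : ∀ s : MvHens.SS A n P, χ (algebraMap _ (MvHens.TT A n P) s) = χS s := by
    intro s
    simp [χ]
  obtain ⟨ρ, hρ⟩ := PH.exists_algHom_lift (MvHens.TT A n P) A I χ
  let toT : MvPolynomial (Fin n) A →ₐ[A] MvHens.TT A n P :=
    (IsScalarTower.toAlgHom A (MvHens.SS A n P) (MvHens.TT A n P)).comp (Ideal.Quotient.mkₐ A _)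
  let a : Fin n → A := fun i => ρ (toT (X i))
  have hρeval : ∀ p : MvPolynomial (Fin n) A, ρ (toT p) = MvPolynomial.eval a p := by
    intro p
    have h1 : ρ.comp toT = MvPolynomial.aeval a := by
      apply MvPolynomial.algHom_ext
      intro i
      simp [a]
    rw [← AlgHom.comp_apply, h1]
    rfl
  refine ⟨a, fun i => ?_, fun j => ?_⟩
  · rw [← hρeval]
    have : toT (P i) = 0 := by
      simp only [toT, AlgHom.comp_apply, Ideal.Quotient.mkₐ_eq_mk]
      rw [Ideal.Quotient.eq_zero_iff_mem.2 (Ideal.subset_span (Set.mem_range_self i)), map_zero]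
    rw [this, map_zero]
  · rw [← Ideal.Quotient.eq_zero_iff_mem, map_sub, sub_eq_zero]
    change Ideal.Quotient.mk I (ρ (toT (X j))) = _
    rw [hρ]
    simp only [toT, AlgHom.comp_apply, Ideal.Quotient.mkₐ_eq_mk, IsScalarTower.coe_toAlgHom']
    rw [hχ, hχS, hev0, MvPolynomial.eval_X]

/-- multivariate Hensel for a henselian pair, arbitrary finite index type -/
theorem mvHensel_pair' (A : Type u) [CommRing A] (I : Ideal A) [HenselianRing A I]
    (ι : Type*) [Fintype ι] [DecidableEq ι]
    (P : ι → MvPolynomial ι A) (a₀ : ι → A)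
    (h₀ : ∀ i, MvPolynomial.eval a₀ (P i) ∈ I)
    (hJ : IsUnit (Matrix.of (fun i j => MvPolynomial.eval a₀ (MvPolynomial.pderiv j (P i)))).det) :
    ∃ a : ι → A, (∀ i, MvPolynomial.eval a (P i) = 0) ∧ ∀ j, a j - a₀ j ∈ I := by
  let e : ι ≃ Fin (Fintype.card ι) := Fintype.equivFin ι
  let P' : Fin (Fintype.card ι) → MvPolynomial (Fin (Fintype.card ι)) A :=
    fun k => rename e (P (e.symm k))
  let a₀' : Fin (Fintype.card ι) → A := a₀ ∘ e.symm
  have hev : ∀ (b : Fin (Fintype.card ι) → A) (p : MvPolynomial ι A),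
      MvPolynomial.eval b (rename e p) = MvPolynomial.eval (b ∘ e) p := fun b p => eval_rename e b p
  have ha₀' : a₀' ∘ e = a₀ := by
    funext i
    simp [a₀']
  have h₀' : ∀ k, MvPolynomial.eval a₀' (P' k) ∈ I := by
    intro k
    rw [hev, ha₀']
    exact h₀ _
  have hM : (Matrix.of (fun k l => MvPolynomial.eval a₀' (MvPolynomial.pderiv l (P' k)))) =
      (Matrix.of (fun i j => MvPolynomial.eval a₀ (MvPolynomial.pderiv j (P i)))).submatrix
        e.symm e.symm := by
    ext k l
    rw [Matrix.submatrix_apply, Matrix.of_apply, Matrix.of_apply]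
    have hl : l = e (e.symm l) := (e.apply_symm_apply l).symm
    conv_lhs => rw [hl]
    rw [pderiv_rename e.injective, hev, ha₀']
  have hJ' : IsUnit (Matrix.of (fun k l =>
      MvPolynomial.eval a₀' (MvPolynomial.pderiv l (P' k)))).det := by
    rw [hM, Matrix.det_submatrix_equiv_self]
    exact hJ
  obtain ⟨a', ha', haa'⟩ := mvHensel_pair A I _ P' a₀' h₀' hJ'
  refine ⟨a' ∘ e, fun i => ?_, fun j => ?_⟩
  · have := ha' (e i)
    rw [hev] at this
    simpa [P'] using this
  · have := haa' (e j)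
    simpa [a₀'] using this

end Groth.Agent.Helper26.SmoothLift
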