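import Mathlib
import Groth.Agent.Lib.Helper26.SmoothLift2
import Groth.Agent.Lib.Helper1.HPProj
import Groth.Agent.Lib.Helper1.HPEquiv

/-!
# Solving smooth systems over henselian pairs (helper26)
-/

set_option autoImplicit false
set_option linter.unusedSectionVars false
set_option linter.style.haveILetI false

namespace Groth.Agent.Helper26.SmoothLift

universe u
open MvPolynomial

section helpers

variable {A : Type u} [CommRing A]

theorem pderiv_mem_of_mem_sq {σ : Type*} (J : Ideal (MvPolynomial σ A)) (j : σ)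
    {g : MvPolynomial σ A} (hg : g ∈ J ^ 2) : pderiv j g ∈ J := by
  rw [pow_two] at hg
  refine Submodule.smul_induction_on hg (fun u hu v hv => ?_) (fun x y hx hy => ?_)
  · rw [smul_eq_mul, Derivation.leibniz]
    exact J.add_mem (J.mul_mem_right _ hu) (J.mul_mem_right _ hv)
  · rw [map_add]
    exact J.add_mem hx hy

theorem eval_sub_eval_mem {σ : Type*} (I : Ideal A) (x a : σ → A) (h : ∀ j, x j - a j ∈ I)
    (f : MvPolynomial σ A) : MvPolynomial.eval x f - MvPolynomial.eval a f ∈ I := by
  have h1 : (Ideal.Quotient.mk I).comp (MvPolynomial.eval x) =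
      (Ideal.Quotient.mk I).comp (MvPolynomial.eval a) := by
    apply MvPolynomial.ringHom_ext
    · intro r
      simp
    · intro j
      simp only [RingHom.comp_apply, MvPolynomial.eval_X]
      rw [Ideal.Quotient.eq]
      exact h j
  have h2 := RingHom.congr_fun h1 f
  simp only [RingHom.comp_apply] at h2
  rw [Ideal.Quotient.eq] at h2
  exact h2

theorem pderiv_inr_rename_inl {σ τ : Type*} (j : τ) (p : MvPolynomial σ A) :
    pderiv (Sum.inr j : σ ⊕ τ) (rename Sum.inl p) = 0 := by
  classical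
  induction p using MvPolynomial.induction_on with
  | C a => simp
  | add p q hp hq => simp [hp, hq]
  | mul_X p a h =>
    simp only [map_mul, MvPolynomial.rename_X, Derivation.leibniz, MvPolynomial.pderiv_X, h]
    simp

end helpers

section main

variable {A : Type u} [CommRing A] (I : Ideal A) (n : ℕ)
  (J : Ideal (MvPolynomial (Fin n) A)) (ε : Fin n → MvPolynomial (Fin n) A)
  (hε : ∀ i, ε i ∈ J)
  (hrel : ∀ f ∈ J, f - ∑ i, pderiv i f * ε i ∈ J ^ 2)
  (a : Fin n → A) (ha : ∀ f ∈ J, MvPolynomial.eval a f ∈ I)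

include hε hrel ha in
/-- the Jacobian of `ε` at the approximate solution is idempotent modulo `I` -/
theorem jac_idem_mod (k j : Fin n) :
    MvPolynomial.eval a (pderiv j (ε k)) -
      ∑ i, MvPolynomial.eval a (pderiv i (ε k)) * MvPolynomial.eval a (pderiv j (ε i)) ∈ I := by
  have h1 := pderiv_mem_of_mem_sq J j (hrel (ε k) (hε k))
  have h2 := ha _ h1
  rw [map_sub, map_sum, map_sub, map_sum] at h2
  have h3 : ∀ i, MvPolynomial.eval a (pderiv j (pderiv i (ε k) * ε i)) =
      MvPolynomial.eval a (pderiv i (ε k)) * MvPolynomial.eval a (pderiv j (ε i)) +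
        MvPolynomial.eval a (ε i) * MvPolynomial.eval a (pderiv j (pderiv i (ε k))) := by
    intro i
    rw [Derivation.leibniz, map_add, smul_eq_mul, smul_eq_mul, map_mul, map_mul]
  simp_rw [h3] at h2
  rw [Finset.sum_add_distrib] at h2
  have h4 : ∑ i, MvPolynomial.eval a (ε i) * MvPolynomial.eval a (pderiv j (pderiv i (ε k))) ∈ I :=
    I.sum_mem (fun i _ => I.mul_mem_right _ (ha _ (hε i)))
  have h5 := I.add_mem h2 h4
  convert h5 using 1
  ring

include hε ha in
/-- solving the auxiliary square system -/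
theorem exists_xy [HenselianRing A I] (E : Matrix (Fin n) (Fin n) A) (hE : IsIdempotentElem E)
    (hED : ∀ k j, E k j - MvPolynomial.eval a (pderiv j (ε k)) ∈ I) :
    ∃ x y : Fin n → A, (∀ j, x j - a j ∈ I) ∧ (∀ j, y j ∈ I) ∧
      (∀ k, MvPolynomial.eval x (ε k) + ∑ l, (1 - E) k l * y l = 0) ∧
      (∀ k, ∑ l, E k l * y l + ∑ l, (1 - E) k l * (x l - a l) = 0) := by
  classical
  let G : Fin n ⊕ Fin n → MvPolynomial (Fin n ⊕ Fin n) A :=
    Sum.elim
      (fun k => rename Sum.inl (ε k) + ∑ l, C ((1 - E) k l) * X (Sum.inr l))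
      (fun k => ∑ l, C (E k l) * X (Sum.inr l) +
        ∑ l, C ((1 - E) k l) * (X (Sum.inl l) - C (a l)))
  let z₀ : Fin n ⊕ Fin n → A := Sum.elim a 0
  have hz₀ : z₀ ∘ Sum.inl = a := rfl
  have hevr : ∀ (z : Fin n ⊕ Fin n → A) (p : MvPolynomial (Fin n) A),
      MvPolynomial.eval z (rename Sum.inl p) = MvPolynomial.eval (z ∘ Sum.inl) p :=
    fun z p => eval_rename Sum.inl z p
  have hG₀ : ∀ i, MvPolynomial.eval z₀ (G i) ∈ I := by
    rintro (k | k)
    · have : MvPolynomial.eval z₀ (G (Sum.inl k)) = MvPolynomial.eval a (ε k) := by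
        simp [G, z₀, hevr]
      rw [this]
      exact ha _ (hε k)
    · have : MvPolynomial.eval z₀ (G (Sum.inr k)) = 0 := by
        simp [G, z₀]
      rw [this]
      exact I.zero_mem
  let Da : Matrix (Fin n) (Fin n) A := Matrix.of fun k j => MvPolynomial.eval a (pderiv j (ε k))
  have hM : (Matrix.of (fun i j => MvPolynomial.eval z₀ (MvPolynomial.pderiv j (G i)))) =
      Matrix.fromBlocks Da (1 - E) (1 - E) E := by
    ext (k | k) (j | j)
    · simp [G, z₀, Da, hevr, pderiv_rename Sum.inl_injective]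
    · simp [G, z₀, Da, pderiv_inr_rename_inl, Pi.single_apply]
    · simp [G, z₀, Da, Pi.single_apply]
    · simp [G, z₀, Da, Pi.single_apply]
  let M₀ : Matrix (Fin n ⊕ Fin n) (Fin n ⊕ Fin n) A := Matrix.fromBlocks E (1 - E) (1 - E) E
  have hEE : E * E = E := hE.eq
  have hM₀ : M₀ * M₀ = 1 := by
    change Matrix.fromBlocks E (1 - E) (1 - E) E * Matrix.fromBlocks E (1 - E) (1 - E) E = 1
    rw [Matrix.fromBlocks_multiply, ← Matrix.fromBlocks_one]
    congr 1
    · simp only [mul_sub, sub_mul, mul_one, one_mul, hEE]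
      abel
    · simp only [mul_sub, sub_mul, mul_one, one_mul, hEE]
      abel
    · simp only [mul_sub, sub_mul, mul_one, one_mul, hEE]
      abel
    · simp only [mul_sub, sub_mul, mul_one, one_mul, hEE]
      abel
  have hdet₀ : IsUnit M₀.det := by
    have : M₀.det * M₀.det = 1 := by rw [← Matrix.det_mul, hM₀, Matrix.det_one]
    exact IsUnit.of_mul_eq_one _ this
  have hmapeq : (Matrix.fromBlocks Da (1 - E) (1 - E) E).map (Ideal.Quotient.mk I) =
      M₀.map (Ideal.Quotient.mk I) := by
    ext (k | k) (j | j)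
    · simp only [Matrix.map_apply, Matrix.fromBlocks_apply₁₁, M₀]
      rw [Ideal.Quotient.eq]
      have := hED k j
      have h2 : Da k j - E k j = -(E k j - MvPolynomial.eval a (pderiv j (ε k))) := by
        simp [Da]
      rw [h2]
      exact neg_mem this
    · rfl
    · rfl
    · rfl
  have hJ : IsUnit (Matrix.of (fun i j =>
      MvPolynomial.eval z₀ (MvPolynomial.pderiv j (G i)))).det := by
    rw [hM]
    haveI := isLocalHom_of_le_jacobson_bot I (HenselianRing.jac (R := A) (I := I))
    apply isUnit_of_map_unit (Ideal.Quotient.mk I)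
    rw [RingHom.map_det, RingHom.mapMatrix_apply, hmapeq, ← RingHom.mapMatrix_apply,
      ← RingHom.map_det]
    exact hdet₀.map _
  obtain ⟨z, hz, hzz₀⟩ := mvHensel_pair' A I (Fin n ⊕ Fin n) G z₀ hG₀ hJ
  refine ⟨z ∘ Sum.inl, z ∘ Sum.inr, fun j => hzz₀ (Sum.inl j), fun j => ?_, fun k => ?_, fun k => ?_⟩
  · have := hzz₀ (Sum.inr j)
    simpa [z₀] using this
  · have := hz (Sum.inl k)
    simpa [G, hevr] using this
  · have := hz (Sum.inr k)
    simpa [G] using this

include hε hrel ha in
/-- a solution of the auxiliary system is a zero of `J` -/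
theorem eval_eq_zero_of_xy (hI : I ≤ Ideal.jacobson ⊥) (hJfg : J.FG)
    (E : Matrix (Fin n) (Fin n) A) (hE : IsIdempotentElem E)
    (hED : ∀ k j, E k j - MvPolynomial.eval a (pderiv j (ε k)) ∈ I)
    (x y : Fin n → A) (hx : ∀ j, x j - a j ∈ I)
    (h1 : ∀ k, MvPolynomial.eval x (ε k) + ∑ l, (1 - E) k l * y l = 0)
    (h2 : ∀ k, ∑ l, E k l * y l + ∑ l, (1 - E) k l * (x l - a l) = 0) :
    ∀ f ∈ J, MvPolynomial.eval x f = 0 := by
  classical
  have hEE : E * E = E := hE.eq
  let w : Fin n → A := fun l => x l - a l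
  let η : Fin n → A := fun k => MvPolynomial.eval x (ε k)
  have hv2 : E.mulVec y + (1 - E).mulVec w = 0 := by
    funext k
    have := h2 k
    simpa [Matrix.mulVec, dotProduct, w] using this
  have hv1 : η + (1 - E).mulVec y = 0 := by
    funext k
    have := h1 k
    simpa [Matrix.mulVec, dotProduct, η] using this
  have hEy : E.mulVec y = 0 := by
    have h3 := congrArg E.mulVec hv2
    rw [Matrix.mulVec_add, Matrix.mulVec_mulVec, Matrix.mulVec_mulVec, Matrix.mulVec_zero,
      mul_sub, mul_one, hEE, sub_self, Matrix.zero_mulVec, add_zero] at h3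
    exact h3
  have hηy : η = -y := by
    rw [Matrix.sub_mulVec, Matrix.one_mulVec, hEy, sub_zero] at hv1
    exact eq_neg_of_add_eq_zero_left hv1
  have hEη : ∀ k, ∑ i, E k i * η i = 0 := by
    intro k
    have h3 : E.mulVec η = 0 := by rw [hηy, Matrix.mulVec_neg, hEy, neg_zero]
    have := congrFun h3 k
    simpa [Matrix.mulVec, dotProduct] using this
  -- the ideal of values
  let 𝔞 : Ideal A := J.map (MvPolynomial.eval x)
  have h𝔞fg : 𝔞.FG := hJfg.map _
  have hmem : ∀ f ∈ J, MvPolynomial.eval x f ∈ 𝔞 := fun f hf => Ideal.mem_map_of_mem _ hf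
  have h𝔞I : 𝔞 ≤ I := by
    rw [Ideal.map_le_iff_le_comap]
    intro f hf
    rw [Ideal.mem_comap]
    have h3 := eval_sub_eval_mem I x a hx f
    have h4 : MvPolynomial.eval x f =
        (MvPolynomial.eval x f - MvPolynomial.eval a f) + MvPolynomial.eval a f := by ring
    rw [h4]
    exact I.add_mem h3 (ha f hf)
  have hsq : ∀ g ∈ J ^ 2, MvPolynomial.eval x g ∈ I • 𝔞 := by
    intro g hg
    have h3 : MvPolynomial.eval x g ∈ (J ^ 2).map (MvPolynomial.eval x) :=
      Ideal.mem_map_of_mem _ hg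
    rw [Ideal.map_pow, pow_two] at h3
    exact Ideal.mul_mono_left h𝔞I h3
  have hηmem : ∀ i, η i ∈ 𝔞 := fun i => hmem _ (hε i)
  -- first Nakayama
  have hle1 : 𝔞 ≤ Ideal.span (Set.range η) ⊔ I • 𝔞 := by
    rw [Ideal.map_le_iff_le_comap]
    intro f hf
    rw [Ideal.mem_comap]
    have h3 := hsq _ (hrel f hf)
    rw [map_sub, map_sum] at h3
    have h4 : MvPolynomial.eval x f =
        ∑ i, MvPolynomial.eval x (pderiv i f * ε i) +
          (MvPolynomial.eval x f - ∑ i, MvPolynomial.eval x (pderiv i f * ε i)) := by ring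
    rw [h4]
    refine Submodule.add_mem_sup ?_ h3
    refine Ideal.sum_mem _ (fun i _ => ?_)
    rw [map_mul]
    exact Ideal.mul_mem_left _ _ (Ideal.subset_span ⟨i, rfl⟩)
  have hle2 : 𝔞 ≤ Ideal.span (Set.range η) :=
    Submodule.le_of_le_smul_of_le_jacobson_bot h𝔞fg hI hle1
  -- the `η i` lie in `I • 𝔞`
  have hη2 : ∀ k, η k ∈ I • 𝔞 := by
    intro k
    have h3 := hsq _ (hrel (ε k) (hε k))
    rw [map_sub, map_sum] at h3
    have h4 : η k = ∑ i, (MvPolynomial.eval x (pderiv i (ε k)) - E k i) * η i +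
        (MvPolynomial.eval x (ε k) - ∑ i, MvPolynomial.eval x (pderiv i (ε k) * ε i)) := by
      simp_rw [sub_mul, map_mul]
      rw [Finset.sum_sub_distrib, hEη k]
      simp only [η]
      ring
    rw [h4]
    refine Submodule.add_mem _ ?_ h3
    refine Submodule.sum_mem _ (fun i _ => ?_)
    refine Submodule.smul_mem_smul ?_ (hηmem i)
    have h5 := eval_sub_eval_mem I x a hx (pderiv i (ε k))
    have h6 := hED k i
    have h7 : MvPolynomial.eval x (pderiv i (ε k)) - E k i =
        (MvPolynomial.eval x (pderiv i (ε k)) - MvPolynomial.eval a (pderiv i (ε k))) -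
          (E k i - MvPolynomial.eval a (pderiv i (ε k))) := by ring
    rw [h7]
    exact I.sub_mem h5 h6
  have hle3 : 𝔞 ≤ I • 𝔞 := by
    refine hle2.trans ?_
    rw [Ideal.span_le]
    rintro _ ⟨k, rfl⟩
    exact hη2 k
  have hbot : 𝔞 = ⊥ := Submodule.eq_bot_of_le_smul_of_le_jacobson_bot I 𝔞 h𝔞fg hle3 hI
  intro f hf
  have := hmem f hf
  rw [hbot] at this
  exact this

include hε hrel ha in
/-- **Smooth systems over a henselian pair**: an approximate zero of `J` lifts to a zero. -/
theorem exists_zero [HenselianRing A I] (hJfg : J.FG) :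
    ∃ x : Fin n → A, (∀ j, x j - a j ∈ I) ∧ ∀ f ∈ J, MvPolynomial.eval x f = 0 := by
  classical
  have hG : Groth.Agent.Helper1.GabberProp A I := Groth.Agent.Helper1.gabberProp_of_henselianRing
  let Da : Matrix (Fin n) (Fin n) A := Matrix.of fun k j => MvPolynomial.eval a (pderiv j (ε k))
  let w : Matrix (Fin n) (Fin n) (A ⧸ I) := Da.map (Ideal.Quotient.mk I)
  have hw : IsIdempotentElem w := by
    change w * w = w
    ext k j
    rw [Matrix.mul_apply]
    simp only [w, Matrix.map_apply, Da, Matrix.of_apply]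
    simp_rw [← map_mul (Ideal.Quotient.mk I)]
    rw [← map_sum, eq_comm, Ideal.Quotient.eq]
    exact jac_idem_mod I n J ε hε hrel a ha k j
  obtain ⟨E, hE, hEw⟩ := Groth.Agent.Helper1.exists_isIdempotentElem_matrix_lift hG w hw
  have hED : ∀ k j, E k j - MvPolynomial.eval a (pderiv j (ε k)) ∈ I := by
    intro k j
    have h1 := congrFun (congrFun hEw k) j
    simp only [w, Matrix.map_apply, Da, Matrix.of_apply] at h1
    rw [Ideal.Quotient.eq] at h1
    exact h1
  obtain ⟨x, y, hx, -, h1, h2⟩ := exists_xy I n J ε hε a ha E hE hED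
  exact ⟨x, hx, eval_eq_zero_of_xy I n J ε hε hrel a ha (HenselianRing.jac (R := A) (I := I))
    hJfg E hE hED x y hx h1 h2⟩

end main

end Groth.Agent.Helper26.SmoothLift
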