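import Mathlib
import Groth.Agent.Lib.Helper26.SmoothLift1
import Groth.Agent.Lib.Helper26.SmoothLift3

/-!
# Lifting sections of smooth algebras over henselian pairs (helper26)
-/

set_option autoImplicit false
set_option linter.unusedSectionVars false
set_option linter.style.haveILetI false

namespace Groth.Agent.Helper26.SmoothLift

universe u
open MvPolynomial TensorProduct

/-- sections of a smooth algebra over a henselian pair lift -/
theorem exists_lift_of_smooth (A : Type u) [CommRing A] (I : Ideal A) [HenselianRing A I]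
    (B : Type u) [CommRing B] [Algebra A B] [Algebra.Smooth A B] (σ : B →ₐ[A] A ⧸ I) :
    ∃ τ : B →ₐ[A] A, (Ideal.Quotient.mkₐ A I).comp τ = σ := by
  obtain ⟨n, φ, hφ, hfg⟩ := (Algebra.FinitePresentation.out : ∃ (n : ℕ)
    (f : MvPolynomial (Fin n) A →ₐ[A] B), Function.Surjective f ∧ (RingHom.ker f.toRingHom).FG)
  obtain ⟨ε, hε, hrel⟩ := exists_eps n φ hφ
  choose a ha using fun j : Fin n => Ideal.Quotient.mk_surjective (σ (φ (X j)))
  have hσφ : (Ideal.Quotient.mkₐ A I).comp (MvPolynomial.aeval a) = σ.comp φ := by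
    apply MvPolynomial.algHom_ext
    intro j
    simp only [AlgHom.comp_apply, MvPolynomial.aeval_X, Ideal.Quotient.mkₐ_eq_mk]
    exact ha j
  have hev : ∀ (x : Fin n → A) (f : MvPolynomial (Fin n) A),
      MvPolynomial.aeval x f = MvPolynomial.eval x f := fun x f => rfl
  have haJ : ∀ f ∈ RingHom.ker φ.toRingHom, MvPolynomial.eval a f ∈ I := by
    intro f hf
    have h1 := DFunLike.congr_fun hσφ f
    simp only [AlgHom.comp_apply, Ideal.Quotient.mkₐ_eq_mk] at h1
    have h2 : φ f = 0 := hf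
    rw [h2, map_zero, hev, Ideal.Quotient.eq_zero_iff_mem] at h1
    exact h1
  obtain ⟨x, hx, hxJ⟩ := exists_zero I n (RingHom.ker φ.toRingHom) ε hε hrel a haJ hfg
  have hker : ∀ f : MvPolynomial (Fin n) A, f ∈ RingHom.ker φ.toRingHom →
      (MvPolynomial.aeval x : MvPolynomial (Fin n) A →ₐ[A] A) f = 0 := fun f hf => hxJ f hf
  let τ₀ : (MvPolynomial (Fin n) A ⧸ RingHom.ker φ.toRingHom) →ₐ[A] A :=
    Ideal.Quotient.liftₐ _ (MvPolynomial.aeval x) hker
  let e : (MvPolynomial (Fin n) A ⧸ RingHom.ker φ.toRingHom) ≃ₐ[A] B :=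
    Ideal.quotientKerAlgEquivOfSurjective hφ
  refine ⟨τ₀.comp (e.symm : B →ₐ[A] _), ?_⟩
  apply AlgHom.ext
  intro b
  obtain ⟨p, rfl⟩ := hφ b
  have h1 : e.symm (φ p) = Ideal.Quotient.mk _ p := by
    rw [AlgEquiv.symm_apply_eq]
    rfl
  change Ideal.Quotient.mk I (τ₀ (e.symm (φ p))) = σ (φ p)
  rw [h1]
  change Ideal.Quotient.mk I (MvPolynomial.eval x p) = σ (φ p)
  have h2 := DFunLike.congr_fun hσφ p
  simp only [AlgHom.comp_apply, Ideal.Quotient.mkₐ_eq_mk] at h2
  rw [← h2, hev, Ideal.Quotient.eq]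
  exact eval_sub_eval_mem I x a hx p

/-- the relative version over a base ring `R` -/
theorem exists_lift_of_smooth' (R : Type u) [CommRing R] (S : Type u) [CommRing S]
    [Algebra R S] [Algebra.Smooth R S] (A : Type u) [CommRing A] [Algebra R A] (I : Ideal A)
    [HenselianRing A I] (σ : S →ₐ[R] A ⧸ I) :
    ∃ τ : S →ₐ[R] A, (Ideal.Quotient.mkₐ R I).comp τ = σ := by
  let σA : A ⊗[R] S →ₐ[A] A ⧸ I :=
    Algebra.TensorProduct.lift (Algebra.ofId A (A ⧸ I)) σ (fun _ _ => Commute.all _ _)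
  obtain ⟨τA, hτA⟩ := exists_lift_of_smooth A I (A ⊗[R] S) σA
  refine ⟨(τA.restrictScalars R).comp Algebra.TensorProduct.includeRight, ?_⟩
  apply AlgHom.ext
  intro s
  have h1 := DFunLike.congr_fun hτA ((1 : A) ⊗ₜ[R] s)
  simp only [AlgHom.comp_apply, Ideal.Quotient.mkₐ_eq_mk] at h1
  change Ideal.Quotient.mk I (τA ((1 : A) ⊗ₜ[R] s)) = σ s
  rw [h1]
  simp [σA]

end Groth.Agent.Helper26.SmoothLift
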