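import Mathlib
import Groth.Agent.Lib.Helper26.HomGlob
import Groth.Agent.Lib.Lead.HomSh4
import Groth.Agent.Lib.Helper13.PnFin1
import Groth.Agent.Lib.Helper5.FPC1
import Groth.Agent.Lib.Helper5.PCH1
import Groth.Agent.S0038
import Groth.Prelude.Def_KLin

/-!
# Endomorphisms of a coherent module on `P^n_k` form a finite dimensional algebra; eigenvectors
-/

set_option autoImplicit false
set_option maxHeartbeats 400000
set_option linter.unusedSectionVars false
set_option linter.unusedVariables false
set_option linter.style.haveILetI false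
universe u
open CategoryTheory CategoryTheory.Limits AlgebraicGeometry Opposite TopologicalSpace
open RefHull Groth.Agent.Lead.HomSh Groth.Agent.Helper13.DirImgFull Groth.Agent.Helper26.HomGlob

namespace Groth.Agent.Helper26.EndFin

variable (k : Type u) [Field k] (n : ℕ)

/-- a locally free module of finite rank is coherent. -/
theorem isCoh_of_rank {X : Scheme.{u}} (E : X.Modules) (r : ℕ)
    (hE : FlatMod.IsFinLocFreeOfRank r E) : Coh.IsCoh E := by
  have h : FlatMod.IsFinLocFree E := fun x => by
    obtain ⟨U, hx, e⟩ := hE x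
    exact ⟨U, r, hx, e⟩
  exact ⟨Groth.Agent.Helper5.FPC.isQuasicoherent_of_isFinLocFree E h,
    Groth.Agent.Helper5.PCH.isFiniteType_of_isFinLocFree E h⟩

variable {k n}

/-- the `k`-linear identification `H⁰(𝓗om(F, G)) ≃ Hom(F, G)`. -/
noncomputable def Θ (F G : (CohB1.ProjSpace n k).Modules) :
    Coh.HH (CohB1.ProjSpace n k) (homSh F G) 0 →ₗ[k] (F ⟶ G) where
  toFun x := homOfSec (h0 (homSh F G) x)
  map_add' x y := by rw [map_add, homOfSec_add]
  map_smul' a x := by
    have h1 : a • x = (Coh.toGlobal ((CohB1.ProjSpace n k) ↘ Spec (CommRingCat.of k)) a) • x := rfl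
    rw [h1, h0_smul, RingHom.id_apply]
    apply Scheme.Modules.hom_ext
    intro U
    ext m
    rw [homOfSec_smul_app, KLin.smul_app_apply]

lemma Θ_bijective (F G : (CohB1.ProjSpace n k).Modules) : Function.Bijective (Θ F G) :=
  homOfSec_bijective.comp (h0 (homSh F G)).bijective

/-- `Hom(F, G)` is finite dimensional for coherent `F`, `G` on `P^n_k`. -/
theorem finite_hom (F G : (CohB1.ProjSpace n k).Modules) (hF : Coh.IsCoh F) (hG : Coh.IsCoh G) :
    Module.Finite k (F ⟶ G) := by
  haveI : IsNoetherian (CohB1.ProjSpace n k) := Groth.Agent.Helper13.PnFin.isNoetherian_projSpace n k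
  haveI : Module.Finite k (Coh.HH (CohB1.ProjSpace n k) (homSh F G) 0) :=
    Groth.Agent.S0038.result n k (homSh F G) (isCoh_homSh hF hG) 0
  exact Module.Finite.equiv (LinearEquiv.ofBijective (Θ F G) (Θ_bijective F G))

/-- **eigenvectors**: for an endomorphism `φ` of a coherent module `E` on `P^n_k`, `k`
algebraically closed, either `End E = 0` or there is a nonzero `s : E ⟶ E` and a scalar `μ` with
`s ≫ φ = μ • s`. -/
theorem exists_eigen [IsAlgClosed k] (E : (CohB1.ProjSpace n k).Modules) (hE : Coh.IsCoh E)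
    (φ : E ⟶ E) :
    Subsingleton (E ⟶ E) ∨ ∃ (μ : k) (s : E ⟶ E), s ≠ 0 ∧ s ≫ φ = μ • s := by
  by_cases hnt : Nontrivial (E ⟶ E)
  · right
    haveI : Module.Finite k (E ⟶ E) := finite_hom E E hE hE
    obtain ⟨μ, hμ⟩ := Module.End.exists_eigenvalue (Linear.rightComp k E φ)
    obtain ⟨s, hs⟩ := hμ.exists_hasEigenvector
    exact ⟨μ, s, hs.2, hs.apply_eq_smul⟩
  · left
    exact not_nontrivial_iff_subsingleton.1 hnt

end Groth.Agent.Helper26.EndFin
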