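import Mathlib
import Groth.Agent.Lib.Helper13.TensorFinLocFree
import Groth.Agent.Lib.Helper13.StalkBasis3
import Groth.Agent.Lib.Helper13.LocFree3
import Groth.Agent.Lib.Helper13.ResFinLocFree

/-!
# Families of sections which are bases of all stalks: coordinates, change of basis, transition
matrices
-/

set_option autoImplicit false
set_option maxHeartbeats 400000
set_option linter.unusedSectionVars false
set_option linter.unusedVariables false
universe u
open CategoryTheory CategoryTheory.Limits AlgebraicGeometry Opposite TopologicalSpace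
open Groth.Agent.Helper13.StalkBasis Groth.Agent.Helper13.TensorFinLocFree
open Groth.Agent.Helper13.QCoh Groth.Agent.Helper13.QCohLoc Groth.Agent.Helper13.QCohLocal

namespace Groth.Agent.Helper26.BasisSec

variable {X : Scheme.{u}} {n : ℕ} (M : X.Modules)

/-- the linear combination `∑ a i • s i` of sections. -/
noncomputable def lin {U : X.Opens} (s : Fin n → Γ(M, U)) (a : Fin n → Γ(X, U)) : Γ(M, U) :=
  ∑ i, a i • s i

lemma germ_lin {U : X.Opens} (s : Fin n → Γ(M, U)) (a : Fin n → Γ(X, U)) (y : X) (hy : y ∈ U) :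
    M.presheaf.germ U y hy (lin M s a) = comb M s y hy (fun i => X.presheaf.germ U y hy (a i)) := by
  unfold lin comb
  rw [map_sum]
  refine Finset.sum_congr rfl (fun i _ => ?_)
  rw [germ_smul]

lemma res_lin {U V : X.Opens} (i : V ⟶ U) (s : Fin n → Γ(M, U)) (a : Fin n → Γ(X, U)) :
    M.presheaf.map i.op (lin M s a) =
      lin M (fun j => M.presheaf.map i.op (s j)) (fun j => X.presheaf.map i.op (a j)) := by
  unfold lin
  rw [map_sum]
  refine Finset.sum_congr rfl (fun j _ => ?_)
  rw [Scheme.Modules.map_smul]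

/-- coordinates with respect to a family which is a basis of all stalks are unique. -/
theorem lin_injective {U : X.Opens} (s : Fin n → Γ(M, U))
    (h : ∀ (y : X) (hy : y ∈ U), IsBasisAt M s y hy) : Function.Injective (lin M s) := by
  intro a a' haa
  funext i
  apply TopCat.Presheaf.section_ext X.sheaf U
  intro y hy
  have h1 := congrArg (M.presheaf.germ U y hy) haa
  rw [germ_lin, germ_lin] at h1
  exact congrFun ((h y hy).1 h1) i

/-- local existence of coordinates. -/
lemma exists_local_coord {U : X.Opens} (s : Fin n → Γ(M, U)) (m : Γ(M, U)) (y : X) (hy : y ∈ U)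
    (h : IsBasisAt M s y hy) :
    ∃ (V : X.Opens) (hyV : y ∈ V) (hVU : V ≤ U) (γ : Fin n → Γ(X, V)),
      M.presheaf.map (homOfLE hVU).op m =
        lin M (fun j => M.presheaf.map (homOfLE hVU).op (s j)) γ := by
  obtain ⟨c, hc⟩ := h.2 (M.presheaf.germ U y hy m)
  obtain ⟨V₁, hyV₁, γ, hγ⟩ := exists_common_germ_ring y c
  let W₀ : X.Opens := V₁ ⊓ U
  have hyW₀ : y ∈ W₀ := ⟨hyV₁, hy⟩
  have h1 : W₀ ≤ V₁ := inf_le_left
  have h2 : W₀ ≤ U := inf_le_right
  let tF : Γ(M, W₀) := lin M (fun j => M.presheaf.map (homOfLE h2).op (s j))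
    (fun j => X.presheaf.map (homOfLE h1).op (γ j))
  have hgerm : M.presheaf.germ W₀ y hyW₀ tF =
      M.presheaf.germ W₀ y hyW₀ (M.presheaf.map (homOfLE h2).op m) := by
    rw [TopCat.Presheaf.germ_res_apply, ← hc, germ_lin]
    unfold comb
    refine Finset.sum_congr rfl (fun j _ => ?_)
    dsimp only
    rw [TopCat.Presheaf.germ_res_apply, TopCat.Presheaf.germ_res_apply, hγ]
  obtain ⟨W, hyW, i₁, i₂, heq⟩ := TopCat.Presheaf.germ_eq M.presheaf y hyW₀ hyW₀ _ _ hgerm
  refine ⟨W, hyW, i₁.le.trans h2, fun j => X.presheaf.map (homOfLE (i₁.le.trans h1)).op (γ j), ?_⟩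
  have e1 : M.presheaf.map (homOfLE (i₁.le.trans h2)).op m =
      M.presheaf.map i₂.op (M.presheaf.map (homOfLE h2).op m) := by
    rw [← ConcreteCategory.comp_apply, ← Functor.map_comp]
    rfl
  rw [e1, ← heq, res_lin]
  congr 1
  · funext j
    rw [← ConcreteCategory.comp_apply, ← Functor.map_comp]
    rfl
  · funext j
    rw [← ConcreteCategory.comp_apply, ← Functor.map_comp]
    rfl

/-- coordinates with respect to a family which is a basis of all stalks exist. -/
theorem lin_surjective {U : X.Opens} (s : Fin n → Γ(M, U))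
    (h : ∀ (y : X) (hy : y ∈ U), IsBasisAt M s y hy) : Function.Surjective (lin M s) := by
  intro m
  have loc : ∀ y : U, ∃ (V : X.Opens) (hyV : y.1 ∈ V) (hVU : V ≤ U) (γ : Fin n → Γ(X, V)),
      M.presheaf.map (homOfLE hVU).op m =
        lin M (fun j => M.presheaf.map (homOfLE hVU).op (s j)) γ :=
    fun y => exists_local_coord M s m y.1 y.2 (h y.1 y.2)
  choose V hyV hVU γ hγ using loc
  have hcompat : ∀ i : Fin n, TopCat.Presheaf.IsCompatible X.sheaf.1 V (fun y => γ y i) := by
    intro i y z
    let W : X.Opens := V y ⊓ V z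
    have hWU : W ≤ U := inf_le_left.trans (hVU y)
    have hbas : ∀ (w : X) (hw : w ∈ W),
        IsBasisAt M (fun j => M.presheaf.map (homOfLE hWU).op (s j)) w hw := by
      intro w hw
      rw [isBasisAt_res]
      exact h w _
    have e1 : lin M (fun j => M.presheaf.map (homOfLE hWU).op (s j))
        (fun j => X.presheaf.map (Opens.infLELeft (V y) (V z)).op (γ y j)) =
        lin M (fun j => M.presheaf.map (homOfLE hWU).op (s j))
        (fun j => X.presheaf.map (Opens.infLERight (V y) (V z)).op (γ z j)) := by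
      have a1 := congrArg (M.presheaf.map (Opens.infLELeft (V y) (V z)).op) (hγ y)
      have a2 := congrArg (M.presheaf.map (Opens.infLERight (V y) (V z)).op) (hγ z)
      rw [res_lin] at a1 a2
      have b1 : (fun j => M.presheaf.map (Opens.infLELeft (V y) (V z)).op
          (M.presheaf.map (homOfLE (hVU y)).op (s j))) =
          fun j => M.presheaf.map (homOfLE hWU).op (s j) := by
        funext j
        rw [← ConcreteCategory.comp_apply, ← Functor.map_comp]
        rfl
      have b2 : (fun j => M.presheaf.map (Opens.infLERight (V y) (V z)).op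
          (M.presheaf.map (homOfLE (hVU z)).op (s j))) =
          fun j => M.presheaf.map (homOfLE hWU).op (s j) := by
        funext j
        rw [← ConcreteCategory.comp_apply, ← Functor.map_comp]
        rfl
      rw [b1] at a1
      rw [b2] at a2
      rw [← a1, ← a2, ← ConcreteCategory.comp_apply, ← Functor.map_comp,
        ← ConcreteCategory.comp_apply, ← Functor.map_comp]
      rfl
    exact congrFun (lin_injective M _ hbas e1) i
  have hcover : U ≤ iSup V := by
    intro y hy
    exact Opens.mem_iSup.2 ⟨⟨y, hy⟩, hyV ⟨y, hy⟩⟩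
  have glue : ∀ i : Fin n, ∃ a : Γ(X, U), ∀ y : U,
      X.presheaf.map (homOfLE (hVU y)).op a = γ y i := by
    intro i
    obtain ⟨a, ha, -⟩ := X.sheaf.existsUnique_gluing' V U (fun y => homOfLE (hVU y)) hcover
      (fun y => γ y i) (hcompat i)
    exact ⟨a, ha⟩
  choose a ha using glue
  refine ⟨a, ?_⟩
  apply Groth.Agent.Lead.HomSh.sec_ext' M
  intro y
  have e1 : M.presheaf.germ U y.1 y.2 m =
      M.presheaf.germ (V y) y.1 (hyV y) (M.presheaf.map (homOfLE (hVU y)).op m) := by
    rw [TopCat.Presheaf.germ_res_apply]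
  rw [e1, hγ y, germ_lin, germ_lin]
  unfold comb
  refine Finset.sum_congr rfl (fun j _ => ?_)
  dsimp only
  rw [← ha j y, TopCat.Presheaf.germ_res_apply, TopCat.Presheaf.germ_res_apply]

/-- change of a family of sections by a matrix. -/
noncomputable def mulMat {U : X.Opens} (s : Fin n → Γ(M, U))
    (P : Matrix (Fin n) (Fin n) Γ(X, U)) : Fin n → Γ(M, U) :=
  fun j => lin M s (fun i => P i j)

lemma comb_mulMat {U : X.Opens} (s : Fin n → Γ(M, U)) (P : Matrix (Fin n) (Fin n) Γ(X, U))
    (y : X) (hy : y ∈ U) (c : Fin n → X.presheaf.stalk y) :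
    comb M (mulMat M s P) y hy c =
      comb M s y hy ((P.map (X.presheaf.germ U y hy).hom).mulVec c) := by
  unfold comb mulMat
  simp only [germ_lin]
  unfold comb
  simp only [Finset.smul_sum, smul_smul]
  rw [Finset.sum_comm]
  refine Finset.sum_congr rfl (fun i _ => ?_)
  rw [← Finset.sum_smul]
  congr 1
  unfold Matrix.mulVec
  rw [dotProduct]
  refine Finset.sum_congr rfl (fun j _ => ?_)
  rw [Matrix.map_apply, mul_comm]

/-- an invertible change of basis preserves bases of the stalks. -/
theorem isBasisAt_mulMat {U : X.Opens} (s : Fin n → Γ(M, U))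
    (P : Matrix (Fin n) (Fin n) Γ(X, U)) (hP : IsUnit P) (y : X) (hy : y ∈ U)
    (h : IsBasisAt M s y hy) : IsBasisAt M (mulMat M s P) y hy := by
  have hPy : IsUnit (P.map (X.presheaf.germ U y hy).hom) :=
    hP.map (RingHom.mapMatrix (X.presheaf.germ U y hy).hom)
  have h1 : comb M (mulMat M s P) y hy =
      (comb M s y hy) ∘ (P.map (X.presheaf.germ U y hy).hom).mulVec := by
    funext c
    exact comb_mulMat M s P y hy c
  unfold IsBasisAt
  rw [h1]
  refine h.comp ⟨?_, ?_⟩
  · exact Matrix.mulVec_injective_of_isUnit hPy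
  · exact Matrix.mulVec_surjective_iff_isUnit.2 hPy

lemma mulMat_mulMat {U : X.Opens} (s : Fin n → Γ(M, U))
    (P Q : Matrix (Fin n) (Fin n) Γ(X, U)) : mulMat M (mulMat M s P) Q = mulMat M s (P * Q) := by
  funext j
  unfold mulMat lin
  simp only [Finset.smul_sum, smul_smul]
  rw [Finset.sum_comm]
  refine Finset.sum_congr rfl (fun i _ => ?_)
  rw [← Finset.sum_smul]
  congr 1
  rw [Matrix.mul_apply]
  refine Finset.sum_congr rfl (fun l _ => ?_)
  rw [mul_comm]

lemma mulMat_one {U : X.Opens} (s : Fin n → Γ(M, U)) : mulMat M s 1 = s := by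
  classical
  funext j
  unfold mulMat lin
  rw [Finset.sum_eq_single j]
  · change (1 : Matrix (Fin n) (Fin n) Γ(X, U)) j j • s j = s j
    rw [Matrix.one_apply_eq, one_smul]
  · intro i _ hij
    change (1 : Matrix (Fin n) (Fin n) Γ(X, U)) i j • s i = 0
    rw [Matrix.one_apply_ne hij, zero_smul]
  · intro hj
    exact absurd (Finset.mem_univ j) hj

lemma res_mulMat {U V : X.Opens} (i : V ⟶ U) (s : Fin n → Γ(M, U))
    (P : Matrix (Fin n) (Fin n) Γ(X, U)) :
    (fun j => M.presheaf.map i.op (mulMat M s P j)) =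
      mulMat M (fun j => M.presheaf.map i.op (s j)) (P.map (X.presheaf.map i.op).hom) := by
  funext j
  unfold mulMat
  rw [res_lin]
  rfl

/-- two families which are bases of all stalks over `U` differ by an invertible matrix. -/
theorem exists_transition {U : X.Opens} (s s' : Fin n → Γ(M, U))
    (h : ∀ (y : X) (hy : y ∈ U), IsBasisAt M s y hy)
    (h' : ∀ (y : X) (hy : y ∈ U), IsBasisAt M s' y hy) :
    ∃ A : Matrix (Fin n) (Fin n) Γ(X, U), IsUnit A ∧ s' = mulMat M s A := by
  have hA : ∀ j, ∃ a : Fin n → Γ(X, U), lin M s a = s' j := fun j => lin_surjective M s h (s' j)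
  have hB : ∀ j, ∃ a : Fin n → Γ(X, U), lin M s' a = s j := fun j => lin_surjective M s' h' (s j)
  choose a ha using hA
  choose b hb using hB
  let A : Matrix (Fin n) (Fin n) Γ(X, U) := fun i j => a j i
  let B : Matrix (Fin n) (Fin n) Γ(X, U) := fun i j => b j i
  have e1 : s' = mulMat M s A := by
    funext j
    exact (ha j).symm
  have e2 : s = mulMat M s' B := by
    funext j
    exact (hb j).symm
  have e3 : mulMat M s (A * B) = mulMat M s 1 := by
    rw [← mulMat_mulMat, ← e1, ← e2, mulMat_one]
  have hAB : A * B = 1 := by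
    ext i j
    have := congrFun e3 j
    exact congrFun (lin_injective M s h this) i
  refine ⟨A, ?_, e1⟩
  exact ⟨⟨A, B, hAB, mul_eq_one_comm.1 hAB⟩, rfl⟩

/-- a basis of the sections of a quasi-coherent module over an affine open is a basis of all
stalks. -/
theorem isBasisAt_of_basis_affine' [M.IsQuasicoherent] {U : X.Opens} (hU : IsAffineOpen U)
    (b : Module.Basis (Fin n) Γ(X, U) Γ(M, U)) (x : U) :
    IsBasisAt M (fun i => b i) (x : X) x.2 := by
  let _ := modStalk M x
  have := isScalarTower_stalk M x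
  have := isLocalizedModule_germ M hU x
  have : IsLocalization (hU.primeIdealOf x).asIdeal.primeCompl (X.presheaf.stalk (x : X)) :=
    hU.isLocalization_stalk x
  let b' := b.ofIsLocalizedModule (X.presheaf.stalk (x : X))
    (hU.primeIdealOf x).asIdeal.primeCompl (germLin M x)
  apply isBasisAt_of_basis M (fun i => b i) (x : X) x.2 b'
  intro i
  exact Module.Basis.ofIsLocalizedModule_apply _ _ _ b i

theorem isBasisAt_of_basis_affine [M.IsQuasicoherent] {U : X.Opens} (hU : IsAffineOpen U)
    (b : Module.Basis (Fin n) Γ(X, U) Γ(M, U)) (y : X) (hy : y ∈ U) :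
    IsBasisAt M (fun i => b i) y hy :=
  isBasisAt_of_basis_affine' M hU b ⟨y, hy⟩

end Groth.Agent.Helper26.BasisSec
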