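import Mathlib
import Groth.Agent.Lib.Helper26.BasisSec
import Groth.Agent.Lib.Helper13.K0Tensor
import Groth.Agent.Lib.Helper24.KoszMap1

/-!
# Locally free modules on an integral scheme: torsion-freeness of sections, propagation of
vanishing, and rank-one endomorphisms which are homotheties
-/

set_option autoImplicit false
set_option maxHeartbeats 400000
set_option linter.unusedSectionVars false
set_option linter.unusedVariables false
universe u
open CategoryTheory CategoryTheory.Limits AlgebraicGeometry Opposite TopologicalSpace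
open Groth.Agent.Helper13.StalkBasis Groth.Agent.Helper26.BasisSec
open Groth.Agent.Helper24.KoszMap

namespace Groth.Agent.Helper26.IntLF

variable {X : Scheme.{u}}

lemma lin_zero (M : X.Modules) {n : ℕ} {U : X.Opens} (s : Fin n → Γ(M, U)) :
    lin M s (fun _ => 0) = 0 := by
  unfold lin
  simp

lemma lin_one (M : X.Modules) {U : X.Opens} (s : Fin 1 → Γ(M, U)) (a : Fin 1 → Γ(X, U)) :
    lin M s a = a 0 • s 0 := by
  unfold lin
  simp

lemma smul_lin (M : X.Modules) {n : ℕ} {U : X.Opens} (s : Fin n → Γ(M, U)) (a : Fin n → Γ(X, U))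
    (c : Γ(X, U)) : c • lin M s a = lin M s (fun i => c * a i) := by
  unfold lin
  rw [Finset.smul_sum]
  refine Finset.sum_congr rfl (fun i _ => ?_)
  rw [smul_smul]

lemma lin_single (M : X.Modules) {n : ℕ} {U : X.Opens} (s : Fin n → Γ(M, U)) (j : Fin n)
    (c : Γ(X, U)) : lin M s (Pi.single j c) = c • s j := by
  unfold lin
  rw [Finset.sum_eq_single j]
  · rw [Pi.single_eq_same]
  · intro i _ hij
    rw [Pi.single_eq_of_ne hij, zero_smul]
  · intro hj
    exact absurd (Finset.mem_univ j) hj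

variable [IsIntegral X]

/-- two nonempty opens of an integral scheme meet. -/
lemma inter_nonempty {U V : X.Opens} (hU : ∃ y, y ∈ U) (hV : ∃ y, y ∈ V) : ∃ y, y ∈ U ⊓ V := by
  obtain ⟨y, hy⟩ := hU
  obtain ⟨z, hz⟩ := hV
  obtain ⟨w, hw⟩ := nonempty_preirreducible_inter U.2 V.2 ⟨y, hy⟩ ⟨z, hz⟩
  exact ⟨w, hw⟩

/-- sections of a locally free module on an integral scheme vanish as soon as they vanish on a
nonempty open subset. -/
theorem sec_eq_zero_of_res (G : X.Modules) (r : ℕ) (hG : FlatMod.IsFinLocFreeOfRank r G)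
    {U W : X.Opens} (hWU : W ≤ U) (hW : ∃ y, y ∈ W) (s : Γ(G, U))
    (hs : res G hWU s = 0) : s = 0 := by
  refine TopCat.Presheaf.section_ext ⟨G.presheaf, G.isSheaf⟩ U _ _ ?_
  intro y hy
  obtain ⟨V, e, hyV, he⟩ := Groth.Agent.Helper13.K0Tensor.exists_isBasisAt_of_rank G r hG y
  have hyV' : y ∈ V ⊓ U := ⟨hyV, hy⟩
  let e1 : Fin r → Γ(G, V ⊓ U) := fun j => res G (inf_le_left : V ⊓ U ≤ V) (e j)
  have he' : ∀ (z : X) (hz : z ∈ V ⊓ U), IsBasisAt G e1 z hz :=
    fun z hz => (isBasisAt_res G (homOfLE inf_le_left) e z hz).2 (he z _)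
  obtain ⟨γ, hγ⟩ := lin_surjective G e1 he' (res G (inf_le_right : V ⊓ U ≤ U) s)
  obtain ⟨z, hz⟩ := inter_nonempty (U := V ⊓ U) (V := W) ⟨y, hyV'⟩ hW
  have hres : res G (inf_le_left : (V ⊓ U) ⊓ W ≤ V ⊓ U) (res G (inf_le_right : V ⊓ U ≤ U) s) = 0 := by
    have h1 : res G (inf_le_left : (V ⊓ U) ⊓ W ≤ V ⊓ U) (res G (inf_le_right : V ⊓ U ≤ U) s) =
        res G (inf_le_right : (V ⊓ U) ⊓ W ≤ W) (res G hWU s) := by
      rw [res_res, res_res]
    rw [h1, hs, res_zero]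
  rw [← hγ] at hres
  let e2 : Fin r → Γ(G, (V ⊓ U) ⊓ W) :=
    fun j => res G (inf_le_left : (V ⊓ U) ⊓ W ≤ V ⊓ U) (e1 j)
  have h2 : res G (inf_le_left : (V ⊓ U) ⊓ W ≤ V ⊓ U) (lin G e1 γ) =
      lin G e2 (fun j => X.presheaf.map (homOfLE (inf_le_left : (V ⊓ U) ⊓ W ≤ V ⊓ U)).op (γ j)) :=
    res_lin G (homOfLE (inf_le_left : (V ⊓ U) ⊓ W ≤ V ⊓ U)) e1 γ
  have h3 := (h2.symm.trans hres).trans (lin_zero G e2).symm
  have he'' : ∀ (z : X) (hz : z ∈ (V ⊓ U) ⊓ W), IsBasisAt G e2 z hz :=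
    fun z hz => (isBasisAt_res G (homOfLE inf_le_left) e1 z hz).2 (he' z _)
  have h4 := lin_injective G e2 he'' h3
  have hγ0 : γ = fun _ => 0 := by
    funext j
    refine map_injective_of_isIntegral (H := ⟨⟨z, hz⟩⟩) X
      (homOfLE (inf_le_left : (V ⊓ U) ⊓ W ≤ V ⊓ U)) ?_
    rw [map_zero]
    exact congrFun h4 j
  have h5 : res G (inf_le_right : V ⊓ U ≤ U) s = 0 := by
    rw [← hγ, hγ0, lin_zero]
  have h6 : G.presheaf.germ U y hy s =
      G.presheaf.germ (V ⊓ U) y hyV' (res G (inf_le_right : V ⊓ U ≤ U) s) :=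
    (TopCat.Presheaf.germ_res_apply G.presheaf (homOfLE inf_le_right) y hyV' s).symm
  rw [h6, h5, map_zero, map_zero]

lemma zero_app (F G : X.Modules) (U : X.Opens) (m : Γ(F, U)) : (0 : F ⟶ G).app U m = 0 := rfl

/-- a morphism into a locally free module which vanishes on all opens inside a nonempty open
vanishes. -/
theorem hom_eq_zero_of_vanish (F G : X.Modules) (r : ℕ) (hG : FlatMod.IsFinLocFreeOfRank r G)
    {W : X.Opens} (hW : ∃ y, y ∈ W) (τ : F ⟶ G)
    (h : ∀ (Z : X.Opens) (hZ : Z ≤ W) (m : Γ(F, Z)), τ.app Z m = 0) : τ = 0 := by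
  apply Scheme.Modules.hom_ext
  intro U
  ext m
  have h0 : τ.app U m = 0 := by
    by_cases hU : ∃ y, y ∈ U
    · obtain ⟨z, hz⟩ := inter_nonempty hU hW
      refine sec_eq_zero_of_res G r hG (inf_le_left : U ⊓ W ≤ U) ⟨z, hz⟩ _ ?_
      rw [← app_res]
      exact h _ inf_le_right _
    · exact TopCat.Presheaf.section_ext ⟨G.presheaf, G.isSheaf⟩ U _ _
        (fun y hy => absurd ⟨y, hy⟩ hU)
  exact h0.trans (zero_app F G U m).symm

/-- a morphism into a locally free module which kills a family of sections which is a basis at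
all points of a nonempty open vanishes. -/
theorem hom_eq_zero_of_basis (F G : X.Modules) (r : ℕ) (hG : FlatMod.IsFinLocFreeOfRank r G)
    {W : X.Opens} (hW : ∃ y, y ∈ W) {n : ℕ} (f : Fin n → Γ(F, W))
    (hf : ∀ (y : X) (hy : y ∈ W), IsBasisAt F f y hy) (τ : F ⟶ G)
    (h : ∀ j, τ.app W (f j) = 0) : τ = 0 := by
  refine hom_eq_zero_of_vanish F G r hG hW τ (fun Z hZ m => ?_)
  let f' : Fin n → Γ(F, Z) := fun j => res F hZ (f j)
  have hf' : ∀ (y : X) (hy : y ∈ Z), IsBasisAt F f' y hy :=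
    fun y hy => (isBasisAt_res F (homOfLE hZ) f y hy).2 (hf y _)
  obtain ⟨γ, hγ⟩ := lin_surjective F f' hf' m
  rw [← hγ]
  unfold lin
  rw [map_sum]
  refine Finset.sum_eq_zero (fun j _ => ?_)
  rw [Scheme.Modules.Hom.app_smul]
  have : τ.app Z (f' j) = 0 := by
    change τ.app Z (res F hZ (f j)) = 0
    rw [app_res, h j, res_zero]
  rw [this, smul_zero]

/-- **rank one endomorphisms which are homotheties vanish**: on an integral scheme, if the
composite `E ⟶ N ⟶ E` through a module of rank one is multiplication by a global function and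
`E` has rank at least two, then one of the two maps vanishes. -/
theorem eq_zero_or_eq_zero_of_homothety (E N : X.Modules) (r : ℕ) (hr : 2 ≤ r)
    (hE : FlatMod.IsFinLocFreeOfRank r E) (hN : FlatMod.IsFinLocFreeOfRank 1 N)
    (t : E ⟶ N) (σ : N ⟶ E) (ρ : Γ(X, ⊤))
    (h : ∀ (U : X.Opens) (m : Γ(E, U)),
      σ.app U (t.app U m) = X.presheaf.map (homOfLE (le_top : U ≤ ⊤)).op ρ • m) :
    t = 0 ∨ σ = 0 := by
  obtain ⟨y⟩ := (inferInstance : Nonempty X)
  obtain ⟨V₁, g, hyV₁, hg⟩ := Groth.Agent.Helper13.K0Tensor.exists_isBasisAt_of_rank N 1 hN y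
  obtain ⟨V₂, e, hyV₂, he⟩ := Groth.Agent.Helper13.K0Tensor.exists_isBasisAt_of_rank E r hE y
  have hyW : y ∈ V₁ ⊓ V₂ := ⟨hyV₁, hyV₂⟩
  have hW : ∃ z, z ∈ V₁ ⊓ V₂ := ⟨y, hyW⟩
  let g' : Fin 1 → Γ(N, V₁ ⊓ V₂) := fun j => res N (inf_le_left : V₁ ⊓ V₂ ≤ V₁) (g j)
  let e' : Fin r → Γ(E, V₁ ⊓ V₂) := fun j => res E (inf_le_right : V₁ ⊓ V₂ ≤ V₂) (e j)
  have hg' : ∀ (z : X) (hz : z ∈ V₁ ⊓ V₂), IsBasisAt N g' z hz :=
    fun z hz => (isBasisAt_res N (homOfLE inf_le_left) g z hz).2 (hg z _)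
  have he' : ∀ (z : X) (hz : z ∈ V₁ ⊓ V₂), IsBasisAt E e' z hz :=
    fun z hz => (isBasisAt_res E (homOfLE inf_le_right) e z hz).2 (he z _)
  have : IsDomain Γ(X, V₁ ⊓ V₂) := @IsIntegral.component_integral X _ (V₁ ⊓ V₂) ⟨⟨y, hyW⟩⟩
  choose α hα using fun j => lin_surjective N g' hg' (t.app (V₁ ⊓ V₂) (e' j))
  obtain ⟨b, hb⟩ := lin_surjective E e' he' (σ.app (V₁ ⊓ V₂) (g' 0))
  set ρW : Γ(X, V₁ ⊓ V₂) := X.presheaf.map (homOfLE (le_top : V₁ ⊓ V₂ ≤ ⊤)).op ρ with hρW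
  have key : ∀ j i, α j 0 * b i = (Pi.single j ρW : Fin r → Γ(X, V₁ ⊓ V₂)) i := by
    intro j
    have h1 : σ.app (V₁ ⊓ V₂) (t.app (V₁ ⊓ V₂) (e' j)) = lin E e' (fun i => α j 0 * b i) := by
      rw [← hα j, lin_one, Scheme.Modules.Hom.app_smul, ← hb, smul_lin]
    have h2 : σ.app (V₁ ⊓ V₂) (t.app (V₁ ⊓ V₂) (e' j)) = lin E e' (Pi.single j ρW) := by
      rw [h (V₁ ⊓ V₂) (e' j), lin_single]
    exact fun i => congrFun (lin_injective E e' he' (h1.symm.trans h2)) i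
  have hr0 : 0 < r := by omega
  have hr1 : 1 < r := by omega
  have hne : (⟨1, hr1⟩ : Fin r) ≠ ⟨0, hr0⟩ := by
    intro hcon
    have := congrArg Fin.val hcon
    simp at this
  have hρ0 : ρW = 0 := by
    by_contra hρ
    have k00 := key ⟨0, hr0⟩ ⟨0, hr0⟩
    have k11 := key ⟨1, hr1⟩ ⟨1, hr1⟩
    have k01 := key ⟨0, hr0⟩ ⟨1, hr1⟩
    rw [Pi.single_eq_same] at k00 k11
    rw [Pi.single_eq_of_ne hne] at k01
    have ha : α ⟨0, hr0⟩ 0 ≠ 0 := fun h0 => hρ (by rw [← k00, h0, zero_mul])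
    have hb1 : b ⟨1, hr1⟩ ≠ 0 := fun h0 => hρ (by rw [← k11, h0, mul_zero])
    exact mul_ne_zero ha hb1 k01
  have key0 : ∀ j i, α j 0 * b i = 0 := by
    intro j i
    rw [key j i, hρ0]
    by_cases hij : i = j
    · rw [hij, Pi.single_eq_same]
    · rw [Pi.single_eq_of_ne hij]
  by_cases hball : ∀ i, b i = 0
  · right
    refine hom_eq_zero_of_basis N E r hE hW g' hg' σ (fun j => ?_)
    have hj : j = 0 := Subsingleton.elim _ _
    rw [hj, ← hb]
    have : b = fun _ => 0 := funext hball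
    rw [this, lin_zero]
  · left
    push Not at hball
    obtain ⟨i, hi⟩ := hball
    refine hom_eq_zero_of_basis E N 1 hN hW e' he' t (fun j => ?_)
    have hαj : α j 0 = 0 := (mul_eq_zero.1 (key0 j i)).resolve_right hi
    rw [← hα j, lin_one, hαj, zero_smul]

omit [IsIntegral X] in
theorem isFinLocFreeOfRank_one_of_isInvertible (M : X.Modules) (h : PicF.IsInvertible M) :
    FlatMod.IsFinLocFreeOfRank 1 M := fun x => by
  obtain ⟨U, hxU, ⟨e⟩⟩ := h x
  exact ⟨U, hxU, ⟨e ≪≫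
    (coproductUniqueIso (fun _ : Fin 1 => Coh.structureModule (U : Scheme.{u}))).symm⟩⟩

omit [IsIntegral X] in
/-- evaluation of a homothety hypothesis on sections. -/
theorem app_of_toSheaf_eq_smulAb {E : X.Modules} (φ : E ⟶ E) (ρ : Coh.Γtop X)
    (h : (SheafOfModules.toSheaf X.ringCatSheaf).map φ = Coh.smulAb E ρ)
    (U : X.Opens) (m : Γ(E, U)) :
    φ.app U m = (show Γ(X, U) from X.presheaf.map (homOfLE (le_top : U ≤ ⊤)).op ρ) • m := by
  have h1 := congrArg (fun f => f.hom.app (op U) m) h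
  exact h1.trans (Coh.smulAb_app E ρ (op U) m)

end Groth.Agent.Helper26.IntLF
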