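import Mathlib
import Groth.Prelude.Def_CohB1
import Groth.Agent.Lib.Helper26.ProjChart

/-!
# Units of the coordinate rings of the double overlaps of the standard charts of `P^n_R`
-/

set_option autoImplicit false
set_option maxHeartbeats 400000
set_option linter.unusedSectionVars false
set_option linter.unusedVariables false
universe u
open LaurentPolynomial HomogeneousLocalization

namespace Groth.Agent.Helper26.PnRing

section Psi

variable {R₀ A : Type*} [CommRing R₀] [CommRing A] [Algebra R₀ A] (𝒜 : ℕ → Submodule R₀ A)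
  [GradedAlgebra 𝒜] {B : Type*} [CommRing B]

/-- the map `A_{(f)} → B` induced by a ring map `φ : A → B` inverting `f`. -/
noncomputable def Psi (φ : A →+* B) (f : A) (hu : IsUnit (φ f)) : Away 𝒜 f →+* B :=
  (IsLocalization.Away.lift (S := Localization.Away f) f hu).comp
    (algebraMap (Away 𝒜 f) (Localization.Away f))

lemma Psi_mul_pow (φ : A →+* B) (f : A) (hu : IsUnit (φ f)) {d : ℕ} (hf : f ∈ 𝒜 d) (n : ℕ) (x : A)
    (hx : x ∈ 𝒜 (n • d)) :
    Psi 𝒜 φ f hu (Away.mk 𝒜 hf n x hx) * φ f ^ n = φ x := by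
  unfold Psi
  rw [RingHom.comp_apply, HomogeneousLocalization.algebraMap_apply, Away.val_mk]
  have h1 : (Localization.mk x ⟨f ^ n, ⟨n, rfl⟩⟩ : Localization.Away f) *
      algebraMap A (Localization.Away f) (f ^ n) = algebraMap A (Localization.Away f) x := by
    rw [← Localization.mk_one_eq_algebraMap, ← Localization.mk_one_eq_algebraMap,
      Localization.mk_mul, Localization.mk_eq_mk_iff, Localization.r_iff_exists]
    exact ⟨1, by simp; ring⟩
  have h2 := congrArg (IsLocalization.Away.lift (S := Localization.Away f) f hu) h1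
  rw [map_mul, IsLocalization.Away.lift_eq, IsLocalization.Away.lift_eq, map_pow] at h2
  exact h2

lemma Psi_awayMap (φ : A →+* B) {e : ℕ} {f g x : A} (hg : g ∈ 𝒜 e) (hx : x = f * g)
    (hux : IsUnit (φ x)) (huf : IsUnit (φ f)) (z : Away 𝒜 f) :
    Psi 𝒜 φ x hux (awayMap 𝒜 hg hx z) = Psi 𝒜 φ f huf z := by
  unfold Psi
  rw [RingHom.comp_apply, RingHom.comp_apply, HomogeneousLocalization.algebraMap_apply,
    HomogeneousLocalization.algebraMap_apply, val_awayMap]
  have h : (IsLocalization.Away.lift (S := Localization.Away x) x hux).comp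
      (Localization.awayLift (algebraMap A (Localization.Away x)) f
        (isUnit_of_dvd_unit (map_dvd _ ⟨_, hx⟩) (IsLocalization.Away.algebraMap_isUnit x))) =
      IsLocalization.Away.lift (S := Localization.Away f) f huf := by
    apply IsLocalization.ringHom_ext (Submonoid.powers f)
    refine RingHom.ext (fun y => ?_)
    simp only [RingHom.comp_apply, Localization.awayLift, IsLocalization.Away.lift_eq]
  exact congrArg (fun ψ : Localization.Away f →+* B => ψ z.val) h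

lemma mk_eq_mk {d : ℕ} {f : A} (hf : f ∈ 𝒜 d) (N N' : ℕ) (p p' : A) (hp : p ∈ 𝒜 (N • d))
    (hp' : p' ∈ 𝒜 (N' • d)) (h : p * f ^ N' = p' * f ^ N) :
    Away.mk 𝒜 hf N p hp = Away.mk 𝒜 hf N' p' hp' := by
  apply HomogeneousLocalization.val_injective
  rw [Away.val_mk, Away.val_mk, Localization.mk_eq_mk_iff, Localization.r_iff_exists]
  exact ⟨1, by simp only [OneMemClass.coe_one, one_mul]; linear_combination h⟩

lemma mk_mul_mk {d : ℕ} {f : A} (hf : f ∈ 𝒜 d) (N N' : ℕ) (p p' : A) (hp : p ∈ 𝒜 (N • d))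
    (hp' : p' ∈ 𝒜 (N' • d)) :
    Away.mk 𝒜 hf N p hp * Away.mk 𝒜 hf N' p' hp' =
      Away.mk 𝒜 hf (N + N') (p * p') (by
        rw [add_smul]; exact SetLike.mul_mem_graded hp hp') := by
  apply HomogeneousLocalization.val_injective
  rw [HomogeneousLocalization.val_mul, Away.val_mk, Away.val_mk, Away.val_mk, Localization.mk_mul]
  congr 1
  apply Subtype.ext
  simp [pow_add]

end Psi


section Poly

open MvPolynomial

variable (n : ℕ) (R : Type u) [CommRing R]

local notation "𝔖" => MvPolynomial (Fin (n + 1)) R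
local notation "𝒜" => CohB1.polyGrading n R

lemma X_mem (i : Fin (n + 1)) : (X i : 𝔖) ∈ 𝒜 1 := isHomogeneous_X R i

lemma XX_mem (s t : Fin (n + 1)) : (X s * X t : 𝔖) ∈ 𝒜 2 :=
  SetLike.mul_mem_graded (X_mem n R s) (X_mem n R t)

lemma XXX_mem (r s t : Fin (n + 1)) : (X r * X s * X t : 𝔖) ∈ 𝒜 3 :=
  SetLike.mul_mem_graded (XX_mem n R r s) (X_mem n R t)

lemma C_mem (c : R) : (MvPolynomial.C c : 𝔖) ∈ 𝒜 0 := isHomogeneous_C _ c

lemma pow_mem (i : Fin (n + 1)) (e : ℕ) : (X i ^ e : 𝔖) ∈ 𝒜 e := by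
  have := SetLike.pow_mem_graded e (X_mem n R i)
  rwa [smul_eq_mul, mul_one] at this

/-- `X_l ↦ T`, `X_i ↦ 1` for `i ≠ l`. -/
noncomputable def evl (l : Fin (n + 1)) : 𝔖 →+* R[T;T⁻¹] :=
  MvPolynomial.eval₂Hom LaurentPolynomial.C (fun i => T (if i = l then 1 else 0))

@[simp] lemma evl_X (l i : Fin (n + 1)) : evl n R l (X i) = T (if i = l then 1 else 0) := by
  simp [evl]

@[simp] lemma evl_C (l : Fin (n + 1)) (c : R) : evl n R l (MvPolynomial.C c) = LaurentPolynomial.C c := by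
  simp [evl]

lemma isUnit_evl_X (l i : Fin (n + 1)) : IsUnit (evl n R l (X i)) := by
  rw [evl_X]; exact isUnit_T _

lemma isUnit_evl_XX (l s t : Fin (n + 1)) : IsUnit (evl n R l (X s * X t)) := by
  rw [map_mul]; exact (isUnit_evl_X n R l s).mul (isUnit_evl_X n R l t)

lemma isUnit_evl_XXX (l r s t : Fin (n + 1)) : IsUnit (evl n R l (X r * X s * X t)) := by
  rw [map_mul]; exact (isUnit_evl_XX n R l r s).mul (isUnit_evl_X n R l t)

lemma num_mem (s t : Fin (n + 1)) (c : R) (m : ℤ) :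
    (MvPolynomial.C c * (X t ^ (2 * m.toNat) * X s ^ (2 * (-m).toNat)) : 𝔖) ∈
      𝒜 ((m.toNat + (-m).toNat) • 2) := by
  have h1 := pow_mem n R t (2 * m.toNat)
  have h0 := pow_mem n R s (2 * (-m).toNat)
  have h := SetLike.mul_mem_graded (C_mem n R c) (SetLike.mul_mem_graded h1 h0)
  have e : (m.toNat + (-m).toNat) • 2 = 0 + (2 * m.toNat + 2 * (-m).toNat) := by
    rw [smul_eq_mul]; ring
  rw [e]
  exact h

/-- the unit `c (X_t / X_s) ^ m` of the coordinate ring of `D₊(X_s X_t)`. -/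
noncomputable def unitEl (s t : Fin (n + 1)) (c : R) (m : ℤ) : Away 𝒜 (X s * X t : 𝔖) :=
  Away.mk 𝒜 (XX_mem n R s t) (m.toNat + (-m).toNat)
    (MvPolynomial.C c * (X t ^ (2 * m.toNat) * X s ^ (2 * (-m).toNat))) (num_mem n R s t c m)

/-- the constant `c` as an element of a coordinate ring. -/
noncomputable def cst {d : ℕ} {f : 𝔖} (hf : f ∈ 𝒜 d) (c : R) : Away 𝒜 f :=
  Away.mk 𝒜 hf 0 (MvPolynomial.C c) (by rw [zero_smul]; exact C_mem n R c)

lemma Psi_evl_cst (l : Fin (n + 1)) {d : ℕ} {f : 𝔖} (hf : f ∈ 𝒜 d) (hu : IsUnit (evl n R l f))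
    (c : R) : Psi 𝒜 (evl n R l) f hu (cst n R hf c) = LaurentPolynomial.C c := by
  have h := Psi_mul_pow 𝒜 (evl n R l) f hu hf 0 (MvPolynomial.C c) (by rw [zero_smul]; exact C_mem n R c)
  rw [pow_zero, mul_one, evl_C] at h
  exact h

lemma Psi_evl_unitEl (l s t : Fin (n + 1)) (c : R) (m : ℤ) :
    Psi 𝒜 (evl n R l) (X s * X t) (isUnit_evl_XX n R l s t) (unitEl n R s t c m) =
      LaurentPolynomial.C c *
        T (m * ((if t = l then 1 else 0) - (if s = l then 1 else 0))) := by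
  have h := Psi_mul_pow 𝒜 (evl n R l) (X s * X t) (isUnit_evl_XX n R l s t) (XX_mem n R s t)
    (m.toNat + (-m).toNat) (MvPolynomial.C c * (X t ^ (2 * m.toNat) * X s ^ (2 * (-m).toNat)))
    (num_mem n R s t c m)
  rw [map_mul, map_mul, map_mul, map_pow, map_pow, evl_X, evl_X, evl_C, T_pow, T_pow,
    ← T_add, ← T_add, T_pow] at h
  have hu : IsUnit (T ((↑(m.toNat + (-m).toNat) : ℤ) *
      ((if s = l then (1:ℤ) else 0) + (if t = l then 1 else 0))) : R[T;T⁻¹]) := isUnit_T _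
  apply hu.mul_right_cancel
  refine h.trans ?_
  rw [mul_assoc, ← T_add]
  congr 2
  push_cast
  split_ifs <;> omega

lemma cst_mul_unitEl (s t : Fin (n + 1)) (a c : R) (m : ℤ) :
    cst n R (XX_mem n R s t) a * unitEl n R s t c m = unitEl n R s t (a * c) m := by
  unfold cst unitEl
  rw [mk_mul_mk]
  apply mk_eq_mk
  rw [zero_add, map_mul]
  ring

lemma unitEl_mul_cst (s t : Fin (n + 1)) (a c : R) (m : ℤ) :
    unitEl n R s t c m * cst n R (XX_mem n R s t) a = unitEl n R s t (c * a) m := by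
  rw [mul_comm (unitEl n R s t c m), cst_mul_unitEl, mul_comm a c]

lemma cst_mul_cst {d : ℕ} {f : 𝔖} (hf : f ∈ 𝒜 d) (a c : R) :
    cst n R hf a * cst n R hf c = cst n R hf (a * c) := by
  unfold cst
  rw [mk_mul_mk]
  apply mk_eq_mk
  rw [map_mul]

lemma cst_one {d : ℕ} {f : 𝔖} (hf : f ∈ 𝒜 d) : cst n R hf 1 = 1 := by
  unfold cst
  apply HomogeneousLocalization.val_injective
  rw [Away.val_mk, HomogeneousLocalization.val_one, map_one, ← Localization.mk_one]
  congr 1

lemma awayMap_cst {d e : ℕ} {f g x : 𝔖} (hf : f ∈ 𝒜 d) (hg : g ∈ 𝒜 e) (hx : x = f * g)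
    (hxm : x ∈ 𝒜 (d + e)) (c : R) :
    awayMap 𝒜 hg hx (cst n R hf c) = cst n R hxm c := by
  unfold cst
  rw [awayMap_mk]
  apply mk_eq_mk
  simp


lemma monomial_two (s t : Fin (n + 1)) (x y : ℕ) (u : R) :
    (monomial (Finsupp.single s x + Finsupp.single t y) u : 𝔖) =
      MvPolynomial.C u * X s ^ x * X t ^ y := by
  rw [monomial_add_single, C_mul_X_pow_eq_monomial]

/-- every unit of the coordinate ring of `D₊(X_s X_t)` is `c (X_t/X_s)^m`. -/
theorem exists_eq_unitEl [IsDomain R] (s t : Fin (n + 1)) (hst : s ≠ t)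
    (z : Away 𝒜 (X s * X t : 𝔖)) (hz : IsUnit z) :
    ∃ (c : R) (m : ℤ), IsUnit c ∧ z = unitEl n R s t c m := by
  obtain ⟨z', hzz'⟩ := hz.exists_right_inv
  obtain ⟨N, p, hp, rfl⟩ := Away.mk_surjective 𝒜 (XX_mem n R s t) z
  obtain ⟨N', p', hp', rfl⟩ := Away.mk_surjective 𝒜 (XX_mem n R s t) z'
  have hf0 : (X s * X t : 𝔖) ≠ 0 := mul_ne_zero (X_ne_zero s) (X_ne_zero t)
  have hinj : Function.Injective (algebraMap 𝔖 (FractionRing 𝔖)) :=
    IsFractionRing.injective 𝔖 (FractionRing 𝔖)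
  have hu : IsUnit (algebraMap 𝔖 (FractionRing 𝔖) (X s * X t)) := by
    rw [isUnit_iff_ne_zero]
    intro h
    exact hf0 (hinj (h.trans (map_zero _).symm))
  have h1 := Psi_mul_pow 𝒜 (algebraMap 𝔖 (FractionRing 𝔖)) _ hu (XX_mem n R s t) N p hp
  have h2 := Psi_mul_pow 𝒜 (algebraMap 𝔖 (FractionRing 𝔖)) _ hu (XX_mem n R s t) N' p' hp'
  have h3 : algebraMap 𝔖 (FractionRing 𝔖) (p * p') =
      algebraMap 𝔖 (FractionRing 𝔖) ((X s * X t) ^ (N + N')) := by
    rw [map_mul, ← h1, ← h2, map_pow, pow_add]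
    have := congrArg (Psi 𝒜 (algebraMap 𝔖 (FractionRing 𝔖)) _ hu) hzz'
    rw [map_mul, map_one] at this
    linear_combination (algebraMap 𝔖 (FractionRing 𝔖) (X s * X t) ^ N *
      algebraMap 𝔖 (FractionRing 𝔖) (X s * X t) ^ N') * this
  have h4 : p * p' = (X s * X t) ^ (N + N') := hinj h3
  have hmon : ((X s * X t : 𝔖)) ^ (N + N') =
      monomial ((N + N') • (Finsupp.single s 1 + Finsupp.single t 1)) 1 := by
    rw [X, X, monomial_mul, monomial_pow, one_mul, one_pow]
  have hdvd : p ∣ monomial ((N + N') • (Finsupp.single s 1 + Finsupp.single t 1)) 1 := by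
    rw [← hmon]; exact Dvd.intro p' h4
  obtain ⟨a, u, hale, hu', rfl⟩ := dvd_monomial_one_iff_exists.1 hdvd
  have hzero : ∀ i, i ≠ s ∧ i ≠ t → a i = 0 := by
    intro i hi
    have h := hale i
    simp only [Finsupp.smul_apply, Finsupp.add_apply, smul_eq_mul] at h
    rw [Finsupp.single_eq_of_ne hi.1, Finsupp.single_eq_of_ne hi.2] at h
    omega
  have hdeg : a s + a t = N • 2 := by
    have h := hp (d := a) (by rw [coeff_monomial, if_pos rfl]; exact hu'.ne_zero)
    have h2 : Finsupp.degree a = a s + a t := by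
      rw [Finsupp.degree_eq_sum]
      exact Fintype.sum_eq_add s t hst hzero
    rw [← h2, Finsupp.degree_eq_weight_one, ← Pi.one_def]
    exact h
  have ha : a = Finsupp.single s (a s) + Finsupp.single t (a t) := by
    ext i
    by_cases his : i = s
    · subst his
      simp [Finsupp.single_eq_of_ne hst]
    · by_cases hit : i = t
      · subst hit
        simp [Finsupp.single_eq_of_ne (Ne.symm hst)]
      · rw [hzero i ⟨his, hit⟩]
        simp [Finsupp.single_eq_of_ne his, Finsupp.single_eq_of_ne hit]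
  obtain ⟨x, hx⟩ : ∃ x, x = a s := ⟨_, rfl⟩
  obtain ⟨y, hy⟩ : ∃ y, y = a t := ⟨_, rfl⟩
  rw [← hx, ← hy] at ha hdeg
  refine ⟨u, (y : ℤ) - N, hu', ?_⟩
  unfold unitEl
  apply mk_eq_mk
  generalize hm : (y : ℤ) - N = m
  rw [ha, monomial_two]
  rw [smul_eq_mul] at hdeg
  have e1 : x + (m.toNat + (-m).toNat) = 2 * (-m).toNat + N := by omega
  have e2 : y + (m.toNat + (-m).toNat) = 2 * m.toNat + N := by omega
  calc MvPolynomial.C u * X s ^ x * X t ^ y * (X s * X t) ^ (m.toNat + (-m).toNat)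
      = MvPolynomial.C u * (X s ^ (x + (m.toNat + (-m).toNat)) *
          X t ^ (y + (m.toNat + (-m).toNat))) := by
        rw [pow_add, pow_add, mul_pow]; ring
    _ = MvPolynomial.C u * (X s ^ (2 * (-m).toNat + N) * X t ^ (2 * m.toNat + N)) := by
        rw [e1, e2]
    _ = _ := by
        rw [pow_add, pow_add, mul_pow]; ring

end Poly

end Groth.Agent.Helper26.PnRing
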