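import Mathlib
import Groth.Agent.Lib.Helper26.IntLF
import Groth.Agent.Lib.Helper26.PnRing
import Groth.Agent.Lib.Helper26.PnTwist
import Groth.Agent.Lib.Helper12.RelProjIntegral
import Groth.Agent.Lib.Helper13.InvTensor

/-!
# Projective space over a field is integral; rank one modules on it
-/

set_option autoImplicit false
set_option maxHeartbeats 400000
set_option linter.unusedSectionVars false
set_option linter.unusedVariables false
universe u
open CategoryTheory CategoryTheory.Limits AlgebraicGeometry Opposite TopologicalSpace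

namespace Groth.Agent.Helper26.IntPn

variable (n : ℕ) (k : Type u) [Field k]

theorem isIntegral_PP : IsIntegral (CohB1.ProjSpace n k) := by
  apply Groth.Agent.Helper12.RelProjIntegral.isIntegral_proj
  intro h
  have hmem : (MvPolynomial.X 0 : MvPolynomial (Fin (n + 1)) k) ∈
      (HomogeneousIdeal.irrelevant (CohB1.polyGrading n k)).toIdeal :=
    HomogeneousIdeal.mem_irrelevant_of_mem _ one_pos (Groth.Agent.Helper26.PnRing.X_mem n k 0)
  rw [h] at hmem
  exact MvPolynomial.X_ne_zero (0 : Fin (n + 1)) ((Submodule.mem_bot _).1 hmem)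

theorem rank_one_twist (d : ℤ) : FlatMod.IsFinLocFreeOfRank 1 (Twist.twistProjSpace n k d) :=
  Groth.Agent.Helper26.IntLF.isFinLocFreeOfRank_one_of_isInvertible _
    (Groth.Agent.Helper26.PnTwist.isInvertible_twist n k d)

theorem rank_one_O : FlatMod.IsFinLocFreeOfRank 1 (Coh.structureModule (CohB1.ProjSpace n k)) :=
  Groth.Agent.Helper26.IntLF.isFinLocFreeOfRank_one_of_isInvertible _
    Groth.Agent.Helper13.Inv.isInvertible_structureModule

end Groth.Agent.Helper26.IntPn
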