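import Mathlib
import Groth.Agent.Lib.Helper26.PnTopF
import Groth.Agent.Lib.Helper26.PnH0b
import Groth.Agent.S0844

set_option autoImplicit false
set_option linter.unusedSectionVars false
set_option linter.unusedVariables false
universe u
open CategoryTheory CategoryTheory.Limits AlgebraicGeometry Opposite TopologicalSpace TopCat
open Twist Coherent

namespace Groth.Agent.Helper26.PnCoh

section
variable (k : Type u) [Field k]

theorem finrank_homogeneousSubmodule' (N d : ℕ) :
    Module.finrank k (MvPolynomial.homogeneousSubmodule (Fin N) k d) =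
      Nat.choose (N + d - 1) d := by
  classical
  rw [MvPolynomial.homogeneousSubmodule_eq_finsupp_supported]
  have hS : {e : Fin N →₀ ℕ | e.degree = d} =
      ↑((Finset.univ : Finset (Fin N)).finsuppAntidiag d) := by
    ext e
    simp [Finset.mem_finsuppAntidiag, Finsupp.degree_eq_sum]
  rw [hS, (AddMonoidAlgebra.supportedEquivFinsupp _).finrank_eq, Module.finrank_finsupp_self,
    ← Nat.card_eq_fintype_card, Nat.card_coe_set_eq, Set.ncard_coe_finset,
    Finset.card_finsuppAntidiag_nat_eq_choose]
  simp only [Finset.card_univ, Fintype.card_fin]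

variable (r : ℕ)

theorem finrank_H0 (m : ℕ) :
    Module.finrank k (Coh.HH (CohB1.ProjSpace r k) (Twist.twistProjSpace r k (m : ℤ)) 0) =
      Nat.choose (m + r) r := by
  rw [(h0PolyEquiv r k m).finrank_eq, finrank_homogeneousSubmodule']
  have : r + 1 + m - 1 = m + r := by omega
  rw [this, Nat.choose_symm_add]

theorem finrank_Htop (m : ℕ) :
    Module.finrank k (Coh.HH (CohB1.ProjSpace r k)
      (Twist.twistProjSpace r k (-((r : ℤ) + 1 + m))) r) = Nat.choose (m + r) r := by
  obtain ⟨F, hF⟩ := exists_top_equiv r k (-((r : ℤ) + 1 + m)) (by omega)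
  have e : Coh.HH (CohB1.ProjSpace r k) (Twist.twistProjSpace r k (-((r : ℤ) + 1 + m))) r ≃ₗ[k]
      MvPolynomial.homogeneousSubmodule (Fin (r + 1)) k m :=
    ({ F with map_smul' := hF } :
      Coh.HH (CohB1.ProjSpace r k) (Twist.twistProjSpace r k (-((r : ℤ) + 1 + m))) r ≃ₗ[k]
        LamNeg r k (-((r : ℤ) + 1 + m))).trans (negPolyEquiv r k m).symm
  rw [e.finrank_eq, finrank_homogeneousSubmodule']
  have : r + 1 + m - 1 = m + r := by omega
  rw [this, Nat.choose_symm_add]

theorem finrank_H_zero (n : ℤ) (q : ℕ) (h₀ : ¬ (q = 0 ∧ 0 ≤ n))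
    (hn : ¬ (q = r ∧ n ≤ -((r : ℤ) + 1))) :
    Module.finrank k (Coh.HH (CohB1.ProjSpace r k) (Twist.twistProjSpace r k n) q) = 0 := by
  haveI := Groth.Agent.S0844.result k r n q h₀ hn
  exact Module.finrank_zero_of_subsingleton

end

end Groth.Agent.Helper26.PnCoh
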