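import Mathlib
import Groth.Agent.Lib.Helper13.TwistSES
import Groth.Agent.Lib.Helper13.TensorFunctor
import Groth.Agent.Lib.Helper13.TensorAssoc
import Groth.Agent.Lib.Helper13.QCohStalk
import Groth.Agent.Lib.Helper26.LesDim
import Groth.Agent.Lib.Helper26.HomVan
import Groth.Agent.Lib.Helper26.PnTwist
import Groth.Agent.Lib.Helper26.PnEuler
import Groth.Agent.Lib.Helper26.PnRing
import Groth.Agent.Lib.Helper28.TwistMul
import Groth.Agent.S0844

/-!
# Cohomology of twists of an extension `0 → O → E → J(c) → 0` on `P^n_k`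
-/

set_option autoImplicit false
set_option maxHeartbeats 400000
set_option linter.unusedSectionVars false
set_option linter.unusedVariables false
universe u
open CategoryTheory CategoryTheory.Limits AlgebraicGeometry Opposite TopologicalSpace
open Groth.Agent.Helper13.Tensor Groth.Agent.Helper26.LesDim Groth.Agent.Helper26.HomVan
open Groth.Agent.Helper26.PnFin Groth.Agent.Helper26.DualFun

namespace Groth.Agent.Helper26.SerreBun

variable (k : Type u) [Field k] (n : ℕ)

/-- multiplication by `X₀ : O(d) → O(d+1)`. -/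
noncomputable def mulX (d : ℤ) : Twist.twistProjSpace n k d ⟶ Twist.twistProjSpace n k (d + 1) :=
  Groth.Agent.Helper28.TwistMul.mulHom (CohB1.polyGrading n k)
    (Groth.Agent.Helper26.PnRing.X_mem n k 0) (by push_cast; rfl)

instance mono_mulX (d : ℤ) : Mono (mulX k n d) := by
  rw [Groth.Agent.Helper13.QCoh.mono_iff_app_injective]
  intro U s t hst
  have h0 : ∀ x : U, ((s.1 x).1 : Twist.Loc (CohB1.polyGrading n k) x.1) = (t.1 x).1 := by
    intro x
    have h1 := congrArg (fun w : Twist.sectN (𝒜 := CohB1.polyGrading n k) (d + 1) (op U) =>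
      ((w.1 x).1 : Twist.Loc (CohB1.polyGrading n k) x.1)) hst
    have h2 : algebraMap (MvPolynomial (Fin (n + 1)) k) (Twist.Loc (CohB1.polyGrading n k) x.1)
        (MvPolynomial.X 0) * (s.1 x).1 =
        algebraMap (MvPolynomial (Fin (n + 1)) k) (Twist.Loc (CohB1.polyGrading n k) x.1)
        (MvPolynomial.X 0) * (t.1 x).1 := h1
    have h3 : algebraMap (MvPolynomial (Fin (n + 1)) k) (Twist.Loc (CohB1.polyGrading n k) x.1)
        (MvPolynomial.X 0) ≠ 0 := by
      intro h
      have : (x.1.asHomogeneousIdeal.toIdeal).IsPrime := x.1.isPrime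
      have := IsLocalization.injective (Twist.Loc (CohB1.polyGrading n k) x.1)
        (M := x.1.asHomogeneousIdeal.toIdeal.primeCompl)
        (Ideal.primeCompl_le_nonZeroDivisors _) (h.trans (map_zero _).symm)
      exact MvPolynomial.X_ne_zero 0 this
    exact mul_left_cancel₀ h3 h2
  apply Subtype.ext
  funext x
  apply Subtype.ext
  exact h0 x


section Nat

variable {X : Scheme.{u}}

lemma lid_nat {M N : X.Modules} (f : M ⟶ N) :
    Groth.Agent.Helper13.Tensor.map (𝟙 (Coh.structureModule X)) f ≫ (lid N).hom =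
      (lid M).hom ≫ f := by
  apply Groth.Agent.Helper13.Tensor.hom_ext
  intro U r m
  change (lidHom N).app U ((Groth.Agent.Helper13.Tensor.map (𝟙 (Coh.structureModule X)) f).app U
    (tmul _ M r m)) = f.app U ((lidHom M).app U (tmul _ M r m))
  rw [map_app_tmul, lidHom_app_tmul, lidHom_app_tmul, Scheme.Modules.Hom.app_smul]
  rfl

end Nat

variable {k n}

theorem flat_twist (e : ℤ) (x : CohB1.ProjSpace n k) :
    Module.Flat ((CohB1.ProjSpace n k).presheaf.stalk x)
      ((Twist.twistProjSpace n k e).presheaf.stalk x) :=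
  Groth.Agent.Helper13.TwistSES.flat_stalk_of_isInvertible _
    (Groth.Agent.Helper26.PnTwist.isInvertible_twist n k e) x

/-- `J(d) → J(d+1)` is a monomorphism for a subsheaf `J` of `O`. -/
theorem mono_tensor_mulX (J : (CohB1.ProjSpace n k).Modules)
    (ι : J ⟶ Coh.structureModule (CohB1.ProjSpace n k)) [Mono ι] (d : ℤ) :
    Mono (Groth.Agent.Helper13.Tensor.map (𝟙 J) (mulX k n d)) := by
  haveI : Mono (Groth.Agent.Helper13.Tensor.map ι (𝟙 (Twist.twistProjSpace n k d))) :=
    Groth.Agent.Helper13.TensorFunctor.mono_map_of_flat _ (flat_twist d) ι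
  have sq : Groth.Agent.Helper13.Tensor.map (𝟙 J) (mulX k n d) ≫
      (Groth.Agent.Helper13.Tensor.map ι (𝟙 (Twist.twistProjSpace n k (d + 1))) ≫
        (lid (Twist.twistProjSpace n k (d + 1))).hom) =
      Groth.Agent.Helper13.Tensor.map ι (𝟙 (Twist.twistProjSpace n k d)) ≫
        ((lid (Twist.twistProjSpace n k d)).hom ≫ mulX k n d) := by
    rw [← lid_nat, ← Category.assoc, ← Category.assoc, ← Groth.Agent.Helper13.Tensor.map_comp,
      ← Groth.Agent.Helper13.Tensor.map_comp, Category.id_comp, Category.comp_id,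
      Category.id_comp, Category.comp_id]
  have hm : Mono (Groth.Agent.Helper13.Tensor.map (𝟙 J) (mulX k n d) ≫
      (Groth.Agent.Helper13.Tensor.map ι (𝟙 (Twist.twistProjSpace n k (d + 1))) ≫
        (lid (Twist.twistProjSpace n k (d + 1))).hom)) := by
    rw [sq]
    infer_instance
  exact mono_of_mono _ (Groth.Agent.Helper13.Tensor.map ι (𝟙 (Twist.twistProjSpace n k (d + 1))) ≫
        (lid (Twist.twistProjSpace n k (d + 1))).hom)

/-- a monomorphism induces an injection on `H⁰`. -/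
theorem HHlin_injective_of_mono (A : Type u) [CommRing A] {X : Scheme.{u}}
    [X.Over (Spec (CommRingCat.of A))] {M N : X.Modules} (f : M ⟶ N) [Mono f] :
    Function.Injective (Canon.HHlin A f 0) := by
  have hS : (ShortComplex.mk f (cokernel.π f) (cokernel.condition f)).ShortExact :=
    { exact := ShortComplex.exact_cokernel f }
  exact HHlin_f_injective_zero A (ShortComplex.mk f (cokernel.π f) (cokernel.condition f)) hS

/-- `H⁰(J(e)) = 0` and `d ≤ e` imply `H⁰(J(d)) = 0`. -/
theorem subsingleton_h0_of_le (J : (CohB1.ProjSpace n k).Modules)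
    (ι : J ⟶ Coh.structureModule (CohB1.ProjSpace n k)) [Mono ι] (d e : ℤ) (hde : d ≤ e)
    (h : Subsingleton (Coh.HH (CohB1.ProjSpace n k)
      (CohB1.tensorMod J (Twist.twistProjSpace n k e)) 0)) :
    Subsingleton (Coh.HH (CohB1.ProjSpace n k)
      (CohB1.tensorMod J (Twist.twistProjSpace n k d)) 0) := by
  obtain ⟨m, rfl⟩ : ∃ m : ℕ, e = d + m := ⟨(e - d).toNat, by omega⟩
  clear hde
  induction m with
  | zero => simpa using h
  | succ m ih =>
    apply ih
    haveI := mono_tensor_mulX J ι (d + m)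
    have hinj := HHlin_injective_of_mono k
      (Groth.Agent.Helper13.Tensor.map (𝟙 J) (mulX k n (d + m)))
    have e1 : d + (m + 1 : ℕ) = d + m + 1 := by push_cast; ring
    rw [e1] at h
    exact hinj.subsingleton


theorem h0_twist_subsingleton_iff (hn : 1 ≤ n) (a : ℤ) :
    Subsingleton (Coh.HH (CohB1.ProjSpace n k) (Twist.twistProjSpace n k a) 0) ↔ a < 0 := by
  constructor
  · intro h
    by_contra hlt
    obtain ⟨m, rfl⟩ := Int.eq_ofNat_of_zero_le (not_lt.1 hlt)
    have h1 := Groth.Agent.Helper26.PnCoh.finrank_H0 k n m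
    rw [Module.finrank_zero_of_subsingleton] at h1
    exact absurd h1.symm (Nat.choose_pos (Nat.le_add_left n m)).ne'
  · intro h
    exact Groth.Agent.S0844.result k n a 0 (by omega) (by omega)

/-- `H⁰(E(a)) = 0` iff `a < 0` and `H⁰(J(c + a)) = 0`, for an extension `0 → O → E → J(c) → 0`
on `P^n`, `n ≥ 2`. -/
theorem h0_twist_ext_iff (hn : 2 ≤ n) (J : (CohB1.ProjSpace n k).Modules)
    (S : ShortComplex (CohB1.ProjSpace n k).Modules) (hS : S.ShortExact)
    (h₁ : Nonempty (S.X₁ ≅ Coh.structureModule (CohB1.ProjSpace n k))) (c a : ℤ)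
    (h₃ : Nonempty (S.X₃ ≅ CohB1.tensorMod J (Twist.twistProjSpace n k c))) :
    Subsingleton (Coh.HH (CohB1.ProjSpace n k)
      (CohB1.tensorMod S.X₂ (Twist.twistProjSpace n k a)) 0) ↔
    (a < 0 ∧ Subsingleton (Coh.HH (CohB1.ProjSpace n k)
      (CohB1.tensorMod J (Twist.twistProjSpace n k (c + a))) 0)) := by
  obtain ⟨e₁⟩ := h₁
  obtain ⟨e₃⟩ := h₃
  obtain ⟨τ⟩ := Groth.Agent.Helper26.PnTwist.twist_tensor_iso n k c a
  obtain ⟨T, hT, hT1, hT2, hT3⟩ : ∃ T : ShortComplex (CohB1.ProjSpace n k).Modules,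
      T.ShortExact ∧ T.X₁ = CohB1.tensorMod S.X₁ (Twist.twistProjSpace n k a) ∧
      T.X₂ = CohB1.tensorMod S.X₂ (Twist.twistProjSpace n k a) ∧
      T.X₃ = CohB1.tensorMod S.X₃ (Twist.twistProjSpace n k a) :=
    ⟨_, Groth.Agent.Helper13.TwistSES.tensorSC_shortExact S hS (Twist.twistProjSpace n k a)
      (Groth.Agent.Helper26.PnTwist.isInvertible_twist n k a), rfl, rfl, rfl⟩
  let i1 : T.X₁ ≅ Twist.twistProjSpace n k a :=
    eqToIso hT1 ≪≫ mapIso e₁ (Iso.refl _) ≪≫ lid (Twist.twistProjSpace n k a)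
  let i3 : T.X₃ ≅ CohB1.tensorMod J (Twist.twistProjSpace n k (c + a)) :=
    eqToIso hT3 ≪≫ mapIso e₃ (Iso.refl _) ≪≫ assoc J _ _ ≪≫ mapIso (Iso.refl J) τ
  have hH1 : Subsingleton (Coh.HH (CohB1.ProjSpace n k) T.X₁ 1) :=
    subsingleton_HH_of_iso k i1 1 (Groth.Agent.S0844.result k n a 1 (by omega) (by omega))
  have h0X1 : Subsingleton (Coh.HH (CohB1.ProjSpace n k) T.X₁ 0) ↔ a < 0 := by
    rw [← h0_twist_subsingleton_iff (k := k) (n := n) (by omega) a]
    exact ⟨fun h => subsingleton_HH_of_iso k i1.symm 0 h, fun h => subsingleton_HH_of_iso k i1 0 h⟩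
  have h0X3 : Subsingleton (Coh.HH (CohB1.ProjSpace n k) T.X₃ 0) ↔
      Subsingleton (Coh.HH (CohB1.ProjSpace n k)
        (CohB1.tensorMod J (Twist.twistProjSpace n k (c + a))) 0) :=
    ⟨fun h => subsingleton_HH_of_iso k i3.symm 0 h, fun h => subsingleton_HH_of_iso k i3 0 h⟩
  rw [← hT2, ← h0X1, ← h0X3]
  constructor
  · intro h
    refine ⟨(HHlin_f_injective_zero k T hT).subsingleton, ⟨fun z z' => ?_⟩⟩
    have key : ∀ w : Coh.HH (CohB1.ProjSpace n k) T.X₃ 0, w = 0 := by
      intro w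
      obtain ⟨y, rfl⟩ := deltaLin_exact k T hT 0 w (Subsingleton.elim _ _)
      rw [Subsingleton.elim y 0, map_zero]
    rw [key z, key z']
  · rintro ⟨h1, h3⟩
    refine ⟨fun y y' => ?_⟩
    have key : ∀ w : Coh.HH (CohB1.ProjSpace n k) T.X₂ 0, w = 0 := by
      intro w
      obtain ⟨x, rfl⟩ := exact₂ k T hT 0 w (Subsingleton.elim _ _)
      rw [Subsingleton.elim x 0, map_zero]
    rw [key y, key y']

end Groth.Agent.Helper26.SerreBun
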