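import Mathlib
import Groth.Agent.Lib.Helper24.KoszMap1
import Groth.Agent.Lib.Helper13.TensorMap

/-!
# Gluing a bilinear family on all opens from a compatible bilinear family on affine opens
-/

set_option autoImplicit false
set_option maxHeartbeats 400000
set_option linter.unusedSectionVars false
set_option linter.unusedVariables false
universe u
open CategoryTheory CategoryTheory.Limits AlgebraicGeometry Opposite TopologicalSpace
open Groth.Agent.Helper24.KoszMap Groth.Agent.Helper13.Tensor

namespace Groth.Agent.Helper26.BilinGlue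

variable {X : Scheme.{u}} (M N P : X.Modules)
  (β : ∀ U : X.affineOpens, Γ(M, U.1) →ₗ[Γ(X, U.1)] Γ(N, U.1) →ₗ[Γ(X, U.1)] Γ(P, U.1))
  (hβ : ∀ (U V : X.affineOpens) (h : V.1 ≤ U.1) (m : Γ(M, U.1)) (n : Γ(N, U.1)),
    β V (res M h m) (res N h n) = res P h (β U m n))

include hβ in
theorem exists_glue (W : X.Opens) (m : Γ(M, W)) (n : Γ(N, W)) :
    ∃ s : Γ(P, W), ∀ (U : X.affineOpens) (h : U.1 ≤ W),
      res P h s = β U (res M h m) (res N h n) := by
  let I := {U : X.affineOpens // U.1 ≤ W}
  let Uf : I → X.Opens := fun i => i.1.1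
  let sf : ∀ i : I, Γ(P, Uf i) := fun i => β i.1 (res M i.2 m) (res N i.2 n)
  have hcov : W ≤ iSup Uf := by
    intro x hx
    obtain ⟨_, ⟨U, hU, rfl⟩, hxU, hUW⟩ := X.isBasis_affineOpens.exists_subset_of_mem_open hx W.2
    exact Opens.mem_iSup.mpr ⟨⟨⟨U, hU⟩, hUW⟩, hxU⟩
  have hcompat : TopCat.Presheaf.IsCompatible P.presheaf Uf sf := by
    intro i j
    refine eq_of_affine P (Uf i ⊓ Uf j) _ _ (fun V hV => ?_)
    have h1 : res P hV (P.presheaf.map (Opens.infLELeft (Uf i) (Uf j)).op (sf i)) =
        res P (hV.trans inf_le_left) (sf i) := res_res P hV inf_le_left (sf i)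
    have h2 : res P hV (P.presheaf.map (Opens.infLERight (Uf i) (Uf j)).op (sf j)) =
        res P (hV.trans inf_le_right) (sf j) := res_res P hV inf_le_right (sf j)
    rw [h1, h2]
    change res P _ (β i.1 (res M i.2 m) (res N i.2 n)) = res P _ (β j.1 (res M j.2 m) (res N j.2 n))
    rw [← hβ i.1 V (hV.trans inf_le_left), ← hβ j.1 V (hV.trans inf_le_right), res_res, res_res,
      res_res, res_res]
  obtain ⟨s, hs, -⟩ := TopCat.Sheaf.existsUnique_gluing'
    (⟨P.presheaf, P.isSheaf⟩ : TopCat.Sheaf Ab X) Uf W (fun i => homOfLE i.2) hcov sf hcompat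
  exact ⟨s, fun U h => hs ⟨U, h⟩⟩

/-- the glued value. -/
noncomputable def glueVal (W : X.Opens) (m : Γ(M, W)) (n : Γ(N, W)) : Γ(P, W) :=
  (exists_glue M N P β hβ W m n).choose

theorem res_glueVal (W : X.Opens) (m : Γ(M, W)) (n : Γ(N, W)) (U : X.affineOpens)
    (h : U.1 ≤ W) :
    res P h (glueVal M N P β hβ W m n) = β U (res M h m) (res N h n) :=
  (exists_glue M N P β hβ W m n).choose_spec U h

theorem glueVal_unique (W : X.Opens) (m : Γ(M, W)) (n : Γ(N, W)) (s : Γ(P, W))
    (hs : ∀ (U : X.affineOpens) (h : U.1 ≤ W), res P h s = β U (res M h m) (res N h n)) :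
    s = glueVal M N P β hβ W m n :=
  eq_of_affine P W _ _ (fun U h => (hs U h).trans (res_glueVal M N P β hβ W m n U h).symm)

theorem glueVal_affine (U : X.affineOpens) (m : Γ(M, U.1)) (n : Γ(N, U.1)) :
    glueVal M N P β hβ U.1 m n = β U m n := by
  refine (glueVal_unique M N P β hβ U.1 m n _ (fun V h => ?_)).symm
  exact (hβ U V h m n).symm

/-- the glued bilinear maps. -/
noncomputable def glueBilin (W : X.Opens) :
    Γ(M, W) →ₗ[Γ(X, W)] Γ(N, W) →ₗ[Γ(X, W)] Γ(P, W) :=
  LinearMap.mk₂ Γ(X, W) (glueVal M N P β hβ W)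
    (fun m m' n => by
      refine (glueVal_unique M N P β hβ W _ n _ (fun U h => ?_)).symm
      rw [res_add, res_glueVal, res_glueVal, res_add, map_add, LinearMap.add_apply])
    (fun c m n => by
      refine (glueVal_unique M N P β hβ W _ n _ (fun U h => ?_)).symm
      rw [res_smul, res_glueVal, res_smul, map_smul, LinearMap.smul_apply])
    (fun m n n' => by
      refine (glueVal_unique M N P β hβ W m _ _ (fun U h => ?_)).symm
      rw [res_add, res_glueVal, res_glueVal, res_add, map_add])
    (fun c m n => by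
      refine (glueVal_unique M N P β hβ W m _ _ (fun U h => ?_)).symm
      rw [res_smul, res_glueVal, res_smul, map_smul])

/-- the glued bilinear family. -/
noncomputable def glueFamily : BilinFamily M N P where
  β W := glueBilin M N P β hβ W
  res {U V} i m n := by
    change res P i.le (glueVal M N P β hβ U m n) = glueVal M N P β hβ V (res M i.le m) (res N i.le n)
    refine glueVal_unique M N P β hβ V _ _ _ (fun A h => ?_)
    rw [res_res, res_res, res_res, res_glueVal]

/-- the morphism out of the tensor product glued from a compatible bilinear family on affine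
opens. -/
noncomputable def glueHom : CohB1.tensorMod M N ⟶ P := (glueFamily M N P β hβ).hom

theorem glueHom_app_tmul (U : X.affineOpens) (m : Γ(M, U.1)) (n : Γ(N, U.1)) :
    (glueHom M N P β hβ).app U.1 (tmul M N m n) = β U m n :=
  ((glueFamily M N P β hβ).hom_app_tmul m n).trans (glueVal_affine M N P β hβ U m n)

end Groth.Agent.Helper26.BilinGlue
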