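import Mathlib
import Groth.Agent.Lib.Helper26.BilinGlue
import Groth.Agent.Lib.Helper26.BasisSec
import Groth.Prelude.Def_ExtPow2

/-!
# The wedge pairing `E ⊗ E ⟶ L` attached to a second exterior power `L` of `E`
-/

set_option autoImplicit false
set_option maxHeartbeats 400000
set_option linter.unusedSectionVars false
set_option linter.unusedVariables false
universe u
open CategoryTheory CategoryTheory.Limits AlgebraicGeometry Opposite TopologicalSpace
open Groth.Agent.Helper24.KoszMap Groth.Agent.Helper13.Tensor exteriorPower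

namespace Groth.Agent.Helper26.Wedge

section Alg

variable {R : Type*} [CommRing R] {A : Type*} [AddCommGroup A] [Module R A]

lemma upd0 (a b x : A) : Function.update ![a, b] 0 x = ![x, b] := by
  funext i; fin_cases i <;> simp

lemma upd1 (a b x : A) : Function.update ![a, b] 1 x = ![a, x] := by
  funext i; fin_cases i <;> simp

variable (R A) in
/-- the wedge product as a bilinear map. -/
noncomputable def wedge₂ : A →ₗ[R] A →ₗ[R] ⋀[R]^2 A :=
  LinearMap.mk₂ R (fun a b => ιMulti R 2 ![a, b])
    (fun a a' b => by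
      have h := (ιMulti R 2 (M := A)).map_update_add ![a, b] 0 a a'
      rwa [upd0, upd0, upd0] at h)
    (fun c a b => by
      have h := (ιMulti R 2 (M := A)).map_update_smul ![a, b] 0 c a
      rwa [upd0, upd0] at h)
    (fun a b b' => by
      have h := (ιMulti R 2 (M := A)).map_update_add ![a, b] 1 b b'
      rwa [upd1, upd1, upd1] at h)
    (fun c a b => by
      have h := (ιMulti R 2 (M := A)).map_update_smul ![a, b] 1 c b
      rwa [upd1, upd1] at h)

lemma wedge₂_apply (a b : A) : wedge₂ R A a b = ιMulti R 2 ![a, b] := rfl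

/-- nondegeneracy of the wedge pairing on a free module of rank two. -/
lemma eq_zero_of_wedge (b : Module.Basis (Fin 2) R A) (x : A)
    (h : ∀ e : A, ιMulti R 2 ![e, x] = 0) : x = 0 := by
  let D : ⋀[R]^2 A →ₗ[R] R := alternatingMapLinearEquiv b.det
  have hD : ∀ v : Fin 2 → A, D (ιMulti R 2 v) = b.det v :=
    fun v => alternatingMapLinearEquiv_apply_ιMulti _ _
  have h0 := congrArg D (h (b 0))
  have h1 := congrArg D (h (b 1))
  rw [hD, map_zero D, Module.Basis.det_apply, Matrix.det_fin_two] at h0 h1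
  simp only [Module.Basis.toMatrix_apply, Matrix.cons_val_zero, Matrix.cons_val_one,
    Module.Basis.repr_self, Finsupp.single_apply] at h0 h1
  apply b.repr.injective
  rw [map_zero b.repr]
  ext i
  fin_cases i
  · simpa using h1
  · simpa using h0

end Alg

section Sch

open Groth.Agent.Helper13.StalkBasis Groth.Agent.Helper26.BasisSec

variable {X : Scheme.{u}}

/-- a family of sections which is a basis of all stalks is a basis of the module of sections. -/
noncomputable def basisOfSec (M : X.Modules) {n : ℕ} {U : X.Opens} (s : Fin n → Γ(M, U))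
    (h : ∀ (y : X) (hy : y ∈ U), IsBasisAt M s y hy) : Module.Basis (Fin n) Γ(X, U) Γ(M, U) :=
  Module.Basis.mk (v := s)
    (Fintype.linearIndependent_iff.2 (fun g hg i => by
      have h1 : lin M s g = lin M s (fun _ => 0) := by
        unfold lin
        rw [hg]
        simp
      exact congrFun (lin_injective M s h h1) i))
    (fun m _ => by
      obtain ⟨γ, hγ⟩ := lin_surjective M s h m
      rw [← hγ]
      unfold lin
      exact Submodule.sum_mem _ (fun i _ => Submodule.smul_mem _ _
        (Submodule.subset_span ⟨i, rfl⟩)))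

variable (E L : X.Modules)
  (φ : ∀ U : X.affineOpens, Γ(L, U.1) ≃ₗ[Γ(X, U.1)] ↥(⋀[Γ(X, U.1)]^2 Γ(E, U.1)))
  (hφ : ∀ (U V : X.affineOpens) (h : V.1 ≤ U.1) (f : Fin 2 → Γ(E, U.1)),
    res L h ((φ U).symm (ιMulti _ 2 f)) = (φ V).symm (ιMulti _ 2 (fun j => res E h (f j))))

/-- the affine-local wedge pairings. -/
noncomputable def wβ (U : X.affineOpens) :
    Γ(E, U.1) →ₗ[Γ(X, U.1)] Γ(E, U.1) →ₗ[Γ(X, U.1)] Γ(L, U.1) :=
  (wedge₂ Γ(X, U.1) Γ(E, U.1)).compr₂ (φ U).symm.toLinearMap

lemma wβ_apply (U : X.affineOpens) (m n : Γ(E, U.1)) :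
    wβ E L φ U m n = (φ U).symm (ιMulti _ 2 ![m, n]) := rfl

include hφ in
lemma wβ_res (U V : X.affineOpens) (h : V.1 ≤ U.1) (m n : Γ(E, U.1)) :
    wβ E L φ V (res E h m) (res E h n) = res L h (wβ E L φ U m n) := by
  rw [wβ_apply, wβ_apply, hφ U V h ![m, n]]
  congr 2

/-- the global wedge pairing. -/
noncomputable def W : CohB1.tensorMod E E ⟶ L :=
  Groth.Agent.Helper26.BilinGlue.glueHom E E L (wβ E L φ) (wβ_res E L φ hφ)

lemma W_app_tmul (U : X.affineOpens) (m n : Γ(E, U.1)) :
    (W E L φ hφ).app U.1 (tmul E E m n) = (φ U).symm (ιMulti _ 2 ![m, n]) :=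
  Groth.Agent.Helper26.BilinGlue.glueHom_app_tmul E E L (wβ E L φ) (wβ_res E L φ hφ) U m n

end Sch

end Groth.Agent.Helper26.Wedge
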