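import Mathlib
import Groth.Agent.Lib.Helper26.Wedge
import Groth.Agent.Lib.Helper26.IntLF

/-!
# Nondegeneracy of the wedge pairing of a rank two bundle on an integral scheme
-/

set_option autoImplicit false
set_option maxHeartbeats 400000
set_option linter.unusedSectionVars false
set_option linter.unusedVariables false
universe u
open CategoryTheory CategoryTheory.Limits AlgebraicGeometry Opposite TopologicalSpace
open Groth.Agent.Helper24.KoszMap Groth.Agent.Helper13.Tensor exteriorPower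
open Groth.Agent.Helper13.StalkBasis Groth.Agent.Helper26.BasisSec

namespace Groth.Agent.Helper26.Wedge

variable {X : Scheme.{u}} [IsIntegral X] (E L : X.Modules)
  (φ : ∀ U : X.affineOpens, Γ(L, U.1) ≃ₗ[Γ(X, U.1)] ↥(⋀[Γ(X, U.1)]^2 Γ(E, U.1)))
  (hφ : ∀ (U V : X.affineOpens) (h : V.1 ≤ U.1) (f : Fin 2 → Γ(E, U.1)),
    res L h ((φ U).symm (ιMulti _ 2 f)) = (φ V).symm (ιMulti _ 2 (fun j => res E h (f j))))

/-- if wedging with the image of `σ : N ⟶ E` is zero, then `σ = 0`. -/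
theorem eq_zero_of_wedge_comp (hE : FlatMod.IsFinLocFreeOfRank 2 E) (N : X.Modules) (σ : N ⟶ E)
    (h : map (𝟙 E) σ ≫ W E L φ hφ = 0) : σ = 0 := by
  obtain ⟨y⟩ := (inferInstance : Nonempty X)
  obtain ⟨V, e, hyV, he⟩ := Groth.Agent.Helper13.K0Tensor.exists_isBasisAt_of_rank E 2 hE y
  refine Groth.Agent.Helper26.IntLF.hom_eq_zero_of_vanish N E 2 hE (W := V) ⟨y, hyV⟩ σ
    (fun Z hZ g => ?_)
  refine eq_of_affine E Z _ _ (fun A hA => ?_)
  rw [res_zero, ← app_res]
  have hAV : A.1 ≤ V := hA.trans hZ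
  let eA : Fin 2 → Γ(E, A.1) := fun j => res E hAV (e j)
  have heA : ∀ (z : X) (hz : z ∈ A.1), IsBasisAt E eA z hz :=
    fun z hz => (isBasisAt_res E (homOfLE hAV) e z hz).2 (he z _)
  refine eq_zero_of_wedge (basisOfSec E eA heA) _ (fun m => ?_)
  have h1 := congrArg (fun f => f.app A.1 (tmul E N m (res N hA g))) h
  have h2 : (map (𝟙 E) σ ≫ W E L φ hφ).app A.1 (tmul E N m (res N hA g)) =
      (φ A).symm (ιMulti _ 2 ![m, σ.app A.1 (res N hA g)]) := by
    rw [Scheme.Modules.Hom.comp_app, ConcreteCategory.comp_apply, map_app_tmul, W_app_tmul]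
    rfl
  have h3 : (φ A).symm (ιMulti _ 2 ![m, σ.app A.1 (res N hA g)]) = 0 := h2.symm.trans h1
  exact (LinearEquiv.map_eq_zero_iff (φ A).symm).1 h3

end Groth.Agent.Helper26.Wedge
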