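import Mathlib
import Groth.Agent.Lib.Helper26.WedgeInt
import Groth.Agent.Lib.Helper26.IntPn
import Groth.Agent.Lib.Helper26.SerreBun
import Groth.Agent.Lib.Helper24.CartExt1
import Groth.Agent.Lib.Helper13.FreeMod

/-!
# Simple rank two bundles on `P^n_k` have no sections in their normalised twist
-/

set_option autoImplicit false
set_option maxHeartbeats 400000
set_option linter.unusedSectionVars false
set_option linter.unusedVariables false
set_option linter.style.haveILetI false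
universe u
open CategoryTheory CategoryTheory.Limits AlgebraicGeometry Opposite TopologicalSpace
open Groth.Agent.Helper24.KoszMap Groth.Agent.Helper13.Tensor Groth.Agent.Helper13.TensorFunctor
  exteriorPower

namespace Groth.Agent.Helper26.SimpleRk2

variable (k : Type u) [Field k] (n : ℕ)

/-- `O(a) ⊗ O(-a) ≅ O`. -/
theorem nonempty_cancel (a : ℤ) :
    Nonempty (CohB1.tensorMod (Twist.twistProjSpace n k a) (Twist.twistProjSpace n k (-a)) ≅
      Coh.structureModule (CohB1.ProjSpace n k)) := by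
  obtain ⟨τ⟩ := Groth.Agent.Helper26.PnTwist.twist_tensor_iso n k a (-a)
  exact ⟨τ ≪≫ eqToIso (congrArg (Twist.twistProjSpace n k) (add_neg_cancel a)) ≪≫
    (Groth.Agent.Helper28.TwistMul.zeroIso (CohB1.polyGrading n k)).symm⟩

/-- a monomorphism `O(c) ⟶ O(d)` for `d = c` or `d = c + 1`. -/
theorem exists_mono_twist (c d : ℤ) (h : c = d ∨ c + 1 = d) :
    ∃ m : Twist.twistProjSpace n k c ⟶ Twist.twistProjSpace n k d, Mono m := by
  rcases h with h | h
  · subst h
    exact ⟨𝟙 _, inferInstance⟩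
  · subst h
    exact ⟨Groth.Agent.Helper26.SerreBun.mulX k n c, inferInstance⟩

/-- a nonzero element of `H⁰(E(a))` gives a nonzero map `O(-a) ⟶ E`. -/
theorem exists_hom_of_h0 (E : (CohB1.ProjSpace n k).Modules) (a : ℤ)
    (hne : ¬ Subsingleton (Coh.HH (CohB1.ProjSpace n k)
      (CohB1.tensorMod E (Twist.twistProjSpace n k a)) 0)) :
    ∃ σ : Twist.twistProjSpace n k (-a) ⟶ E, σ ≠ 0 := by
  rw [not_subsingleton_iff_nontrivial] at hne
  obtain ⟨x, hx⟩ := exists_ne (0 : Coh.HH (CohB1.ProjSpace n k)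
      (CohB1.tensorMod E (Twist.twistProjSpace n k a)) 0)
  let M := CohB1.tensorMod E (Twist.twistProjSpace n k a)
  let eq := Sheaf.H.equiv₀ (Coh.toAb M)
    (isTerminalTop : IsTerminal (⊤ : Opens (CohB1.ProjSpace n k)))
  let v : Γ(M, ⊤) := eq x
  have hv : v ≠ 0 := fun h => hx (eq.injective (h.trans (map_zero eq).symm))
  let σ₀ := Groth.Agent.Helper13.LocFree.homOfSec M v
  have hσ₀ : σ₀ ≠ 0 := by
    intro h
    have h1 := Groth.Agent.Helper13.LocFree.homOfSec_app_one M v ⊤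
    have h2 : M.presheaf.map (homOfLE (le_top : (⊤ : (CohB1.ProjSpace n k).Opens) ≤ ⊤)).op v = v := by
      have : (homOfLE (le_top : (⊤ : (CohB1.ProjSpace n k).Opens) ≤ ⊤)) = 𝟙 _ := Subsingleton.elim _ _
      rw [this]
      simp
    apply hv
    rw [← h2, ← h1]
    change σ₀.app ⊤ _ = 0
    rw [h]
    rfl
  obtain ⟨ε⟩ := nonempty_cancel k n a
  let N₀ := Twist.twistProjSpace n k (-a)
  haveI := Groth.Agent.Helper24.CartExt.isEquivalence_tensorRight (Twist.twistProjSpace n k a) N₀ ε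
  let σ₁ : CohB1.tensorMod (Coh.structureModule (CohB1.ProjSpace n k)) N₀ ⟶ CohB1.tensorMod M N₀ :=
    (tensorRight N₀).map σ₀
  have hσ₁ : σ₁ ≠ 0 := by
    intro h
    apply hσ₀
    apply (tensorRight N₀).map_injective
    rw [Functor.map_zero]
    exact h
  let c := Groth.Agent.Helper24.CartExt.cancelIso (Twist.twistProjSpace n k a) N₀ ε E
  refine ⟨(lid N₀).inv ≫ σ₁ ≫ c.hom, fun h => hσ₁ ?_⟩
  have h4 : σ₁ ≫ c.hom = 0 := by
    have := (Iso.inv_comp_eq (lid N₀)).1 h
    rw [comp_zero] at this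
    exact this
  exact (cancel_mono c.hom).1 (h4.trans zero_comp.symm)

/-- **simple rank two bundles have no sections in low twists**. -/
theorem main (E : (CohB1.ProjSpace n k).Modules) (hE : FlatMod.IsFinLocFreeOfRank 2 E) (c k₀ : ℤ)
    (L : (CohB1.ProjSpace n k).Modules) (hL : ExtPow.IsExtPow 2 E L)
    (ι : L ≅ Twist.twistProjSpace n k c)
    (hk₀ : c + 2 * k₀ = 0 ∨ c + 2 * k₀ = -1)
    (hsimple : ∀ φ : E ⟶ E, ∃ c' : k,
      (SheafOfModules.toSheaf (CohB1.ProjSpace n k).ringCatSheaf).map φ =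
        Coh.smulAb E (Coh.toGlobal (CohB1.ProjSpace.toSpec n k) c')) :
    Subsingleton (Coh.HH (CohB1.ProjSpace n k)
      (CohB1.tensorMod E (Twist.twistProjSpace n k k₀)) 0) := by
  by_contra hne
  haveI : IsIntegral (CohB1.ProjSpace n k) := Groth.Agent.Helper26.IntPn.isIntegral_PP n k
  obtain ⟨σ, hσ⟩ := exists_hom_of_h0 k n E k₀ hne
  obtain ⟨φ, hφ⟩ := hL
  obtain ⟨m, hm⟩ := exists_mono_twist k n c (-k₀ + -k₀) (by omega)
  obtain ⟨δ⟩ := Groth.Agent.Helper26.PnTwist.twist_tensor_iso n k (-k₀) (-k₀)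
  obtain ⟨ε⟩ := nonempty_cancel k n k₀
  let N₀ := Twist.twistProjSpace n k (-k₀)
  haveI := Groth.Agent.Helper24.CartExt.isEquivalence_tensorRight (Twist.twistProjSpace n k k₀) N₀ ε
  let w' : CohB1.tensorMod E N₀ ⟶ L := map (𝟙 E) σ ≫ Groth.Agent.Helper26.Wedge.W E L φ hφ
  let m' : L ⟶ CohB1.tensorMod N₀ N₀ := ι.hom ≫ m ≫ δ.inv
  haveI : Mono m' := by
    haveI : Mono (m ≫ δ.inv) := mono_comp m δ.inv
    exact mono_comp ι.hom (m ≫ δ.inv)
  let tT : (tensorRight N₀).obj E ⟶ (tensorRight N₀).obj N₀ := w' ≫ m'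
  let t : E ⟶ N₀ := (tensorRight N₀).preimage tT
  obtain ⟨lam, hlam⟩ := hsimple (t ≫ σ)
  rcases Groth.Agent.Helper26.IntLF.eq_zero_or_eq_zero_of_homothety E N₀ 2 le_rfl hE
    (Groth.Agent.Helper26.IntPn.rank_one_twist n k (-k₀)) t σ
    (Coh.toGlobal (CohB1.ProjSpace.toSpec n k) lam)
    (fun U x => Groth.Agent.Helper26.IntLF.app_of_toSheaf_eq_smulAb (t ≫ σ) _ hlam U x) with h | h
  · have h1 : tT = 0 := by
      rw [← (tensorRight N₀).map_preimage tT]
      change (tensorRight N₀).map t = 0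
      rw [h, Functor.map_zero]
    have h2 : w' = 0 := (cancel_mono m').1 (h1.trans zero_comp.symm)
    exact hσ (Groth.Agent.Helper26.Wedge.eq_zero_of_wedge_comp E L φ hφ hE N₀ σ h2)
  · exact hσ h

end Groth.Agent.Helper26.SimpleRk2
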