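import Mathlib
import Groth.Agent.Lib.Helper26.SimpleRk2
import Groth.Agent.Lib.Helper13.GenLocus
import Groth.Agent.Lib.Helper13.K0Tensor

/-!
# Maps from line bundles into a bundle on `P^n_k` and sections of twists
-/

set_option autoImplicit false
set_option maxHeartbeats 400000
set_option linter.unusedSectionVars false
set_option linter.unusedVariables false
set_option linter.style.haveILetI false
universe u
open CategoryTheory CategoryTheory.Limits AlgebraicGeometry Opposite TopologicalSpace
open Groth.Agent.Helper13.Tensor Groth.Agent.Helper13.TensorFunctor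
open Groth.Agent.Helper26.SerreBun

namespace Groth.Agent.Helper26.Rk2Num

section Gen

variable {X : Scheme.{u}}

/-- naturality of the braiding. -/
lemma braid_nat (E : X.Modules) {A B : X.Modules} (m : A ⟶ B) :
    map (𝟙 E) m ≫ (braid E B).hom = (braid E A).hom ≫ map m (𝟙 E) := by
  apply hom_ext
  intro U x y
  rw [Scheme.Modules.Hom.comp_app, Scheme.Modules.Hom.comp_app, ConcreteCategory.comp_apply,
    ConcreteCategory.comp_apply, map_app_tmul]
  change (braidHom E B).app U _ = (map m (𝟙 E)).app U ((braidHom E A).app U _)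
  rw [braidHom_app_tmul, braidHom_app_tmul, map_app_tmul]

/-- the stalks of a locally free module are flat. -/
theorem flat_stalk_of_rank (E : X.Modules) (r : ℕ) (hE : FlatMod.IsFinLocFreeOfRank r E) (x : X) :
    Module.Flat (X.presheaf.stalk x) (E.presheaf.stalk x) := by
  obtain ⟨V, s, hx, hs⟩ := Groth.Agent.Helper13.K0Tensor.exists_isBasisAt_of_rank E r hE x
  let b := Groth.Agent.Helper13.TensorFinLocFree.basisOf E s x hx (hs x hx)
  haveI : Module.Free (X.presheaf.stalk x) (E.presheaf.stalk x) := Module.Free.of_basis b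
  infer_instance

/-- tensoring on the left with a module with flat stalks preserves monomorphisms. -/
theorem mono_map_left_of_flat (E : X.Modules)
    (hE : ∀ x : X, Module.Flat (X.presheaf.stalk x) (E.presheaf.stalk x))
    {A B : X.Modules} (m : A ⟶ B) [Mono m] : Mono (map (𝟙 E) m) := by
  haveI : Mono (map m (𝟙 E)) := mono_map_of_flat E hE m
  haveI : Mono (map (𝟙 E) m ≫ (braid E B).hom) := by
    rw [braid_nat]
    infer_instance
  exact mono_of_mono _ (braid E B).hom

end Gen

variable {k : Type u} [Field k] {n : ℕ}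

/-- `H⁰(E(e)) = 0` and `d ≤ e` imply `H⁰(E(d)) = 0`, for `E` locally free. -/
theorem subsingleton_h0_of_le (E : (CohB1.ProjSpace n k).Modules) (r : ℕ)
    (hE : FlatMod.IsFinLocFreeOfRank r E) (d e : ℤ) (hde : d ≤ e)
    (h : Subsingleton (Coh.HH (CohB1.ProjSpace n k)
      (CohB1.tensorMod E (Twist.twistProjSpace n k e)) 0)) :
    Subsingleton (Coh.HH (CohB1.ProjSpace n k)
      (CohB1.tensorMod E (Twist.twistProjSpace n k d)) 0) := by
  obtain ⟨m, rfl⟩ : ∃ m : ℕ, e = d + m := ⟨(e - d).toNat, by omega⟩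
  clear hde
  induction m with
  | zero => simpa using h
  | succ m ih =>
    apply ih
    haveI := mono_map_left_of_flat E (flat_stalk_of_rank E r hE) (mulX k n (d + m))
    have hinj := HHlin_injective_of_mono k
      (Groth.Agent.Helper13.Tensor.map (𝟙 E) (mulX k n (d + m)))
    have e1 : d + (m + 1 : ℕ) = d + m + 1 := by push_cast; ring
    rw [e1] at h
    exact hinj.subsingleton

/-- a nonzero map `O(a) ⟶ M` gives a nonzero element of `H⁰(M(-a))`. -/
theorem not_subsingleton_h0_of_hom (M : (CohB1.ProjSpace n k).Modules) (a : ℤ)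
    (σ : Twist.twistProjSpace n k a ⟶ M) (hσ : σ ≠ 0) :
    ¬ Subsingleton (Coh.HH (CohB1.ProjSpace n k)
      (CohB1.tensorMod M (Twist.twistProjSpace n k (-a))) 0) := by
  intro hsub
  obtain ⟨ε⟩ := Groth.Agent.Helper26.SimpleRk2.nonempty_cancel k n a
  let N₀ := Twist.twistProjSpace n k (-a)
  haveI := Groth.Agent.Helper24.CartExt.isEquivalence_tensorRight (Twist.twistProjSpace n k a) N₀ ε
  let M' := CohB1.tensorMod M N₀
  let σ₁ : CohB1.tensorMod (Twist.twistProjSpace n k a) N₀ ⟶ M' := (tensorRight N₀).map σ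
  have hσ₁ : σ₁ ≠ 0 := by
    intro h
    apply hσ
    apply (tensorRight N₀).map_injective
    rw [Functor.map_zero]
    exact h
  let σ₂ : Coh.structureModule (CohB1.ProjSpace n k) ⟶ M' := ε.inv ≫ σ₁
  have hσ₂ : σ₂ ≠ 0 := by
    intro h
    apply hσ₁
    have := (Iso.inv_comp_eq ε).1 h
    rw [comp_zero] at this
    exact this
  let eq := Sheaf.H.equiv₀ (Coh.toAb M')
    (isTerminalTop : IsTerminal (⊤ : Opens (CohB1.ProjSpace n k)))
  have hΓ : Subsingleton Γ(M', ⊤) := eq.symm.injective.subsingleton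
  apply hσ₂
  rw [← Groth.Agent.Helper13.GenLoc.homOfSec_sec M' σ₂,
    ← Groth.Agent.Helper13.GenLoc.homOfSec_sec M' 0]
  congr 1
  exact Subsingleton.elim _ _

/-- a nonzero map `O(a) ⟶ E` into a locally free module with `H⁰(E(k₀)) = 0` has `a < -k₀`. -/
theorem lt_of_hom (E : (CohB1.ProjSpace n k).Modules) (r : ℕ)
    (hE : FlatMod.IsFinLocFreeOfRank r E) (k₀ : ℤ)
    (h0 : Subsingleton (Coh.HH (CohB1.ProjSpace n k)
      (CohB1.tensorMod E (Twist.twistProjSpace n k k₀)) 0))
    (a : ℤ) (σ : Twist.twistProjSpace n k a ⟶ E) (hσ : σ ≠ 0) : a < -k₀ := by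
  by_contra hlt
  exact not_subsingleton_h0_of_hom E a σ hσ
    (subsingleton_h0_of_le E r hE (-a) k₀ (by omega) h0)

end Groth.Agent.Helper26.Rk2Num
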