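import Mathlib
import Groth.Agent.Lib.Helper13.CurveGen1
import Groth.Agent.Lib.Helper13.EulerAdd2
import Groth.Agent.Lib.Helper26.Rk2Num
import Groth.Agent.Lib.Helper26.EndFin
import Groth.Agent.Lib.Helper13.ExtSheaf
import Groth.Agent.Lib.Helper26.IntLF
import Groth.Agent.Lib.Helper26.HomGlob

/-!
# Degrees of locally free submodules on a proper curve are bounded above
-/

set_option autoImplicit false
set_option maxHeartbeats 400000
set_option linter.unusedSectionVars false
set_option linter.unusedVariables false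
set_option linter.style.haveILetI false
universe u
open CategoryTheory CategoryTheory.Limits AlgebraicGeometry Opposite TopologicalSpace

namespace Groth.Agent.Helper26.CurveDeg

/-- a locally free submodule of a locally free module has smaller rank. -/
theorem rank_le_of_mono {X : Scheme.{u}} [Nonempty X] (F E : X.Modules) (r' r : ℕ)
    (hF : FlatMod.IsFinLocFreeOfRank r' F) (hE : FlatMod.IsFinLocFreeOfRank r E)
    (i : F ⟶ E) [Mono i] : r' ≤ r := by
  obtain ⟨x⟩ := ‹Nonempty X›
  obtain ⟨V, s, hx, hs⟩ := Groth.Agent.Helper13.K0Tensor.exists_isBasisAt_of_rank F r' hF x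
  obtain ⟨W, t, hxW, ht⟩ := Groth.Agent.Helper13.K0Tensor.exists_isBasisAt_of_rank E r hE x
  let bF := Groth.Agent.Helper13.TensorFinLocFree.basisOf F s x hx (hs x hx)
  let bE := Groth.Agent.Helper13.TensorFinLocFree.basisOf E t x hxW (ht x hxW)
  haveI : Nontrivial (X.presheaf.stalk x) := inferInstance
  let φ : F.presheaf.stalk x →ₗ[X.presheaf.stalk x] E.presheaf.stalk x :=
    { toFun := fun m => Groth.Agent.Helper13.QCoh.stalkMap i x m
      map_add' := fun a b => map_add _ a b
      map_smul' := fun c m => Groth.Agent.Helper13.QCoh.stalkMap_smul i x c m }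
  have hφ : Function.Injective φ := Groth.Agent.Helper13.Ext.stalkMap_injective_of_mono i x
  have hli : LinearIndependent (X.presheaf.stalk x) (fun j => φ (bF j)) :=
    bF.linearIndependent.map' φ (LinearMap.ker_eq_bot.2 hφ)
  have := bE.card_le_card_of_linearIndependent hli
  simpa using this

variable (k : Type u) [Field k] (X : Scheme.{u}) [X.Over (Spec (CommRingCat.of k))]
  [IsProper (X ↘ Spec (CommRingCat.of k))]

/-- on a proper scheme of dimension at most one, `χ(F) ≤ h⁰(F)`. -/
theorem euler_le_h0 (hdim : topologicalKrullDim X ≤ 1) (F : X.Modules) [F.IsQuasicoherent] :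
    Curv2.euler k X F ≤ (Module.finrank k (Coh.HH X F 0) : ℤ) := by
  haveI : IsLocallyNoetherian (Spec (CommRingCat.of k)) := inferInstance
  haveI : IsLocallyNoetherian X :=
    LocallyOfFiniteType.isLocallyNoetherian (X ↘ Spec (CommRingCat.of k))
  haveI : CompactSpace X :=
    QuasiCompact.compactSpace_of_compactSpace (X ↘ Spec (CommRingCat.of k))
  haveI : IsNoetherian X := {}
  rw [Groth.Agent.Helper13.EulerAdd.euler_eq_sum k F 2 (fun p hp =>
    Groth.Agent.Helper13.CurveGen.HH_subsingleton_of_two_le (X ↘ Spec (CommRingCat.of k)) hdim F p hp)]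
  rw [Finset.sum_range_succ, Finset.sum_range_one]
  simp only [pow_zero, one_mul, pow_one]
  have : (0 : ℤ) ≤ (Module.finrank k (Coh.HH X F 1) : ℤ) := by positivity
  linarith

/-- the degrees of the locally free submodules of a locally free module on a proper curve are
bounded above. -/
theorem main [Nonempty X] (hdim : topologicalKrullDim X ≤ 1)
    (r : ℕ) (E : X.Modules) (hE : FlatMod.IsFinLocFreeOfRank r E) :
    ∃ N : ℤ, ∀ (F : X.Modules) (r' : ℕ) (i : F ⟶ E), Mono i → FlatMod.IsFinLocFreeOfRank r' F →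
      Curv2.deg k X F r' ≤ N := by
  refine ⟨(Module.finrank k (Coh.HH X E 0) : ℤ) +
    r * |Curv2.euler k X (Coh.structureModule X)|, ?_⟩
  intro F r' i hi hF
  haveI := hi
  have hle : r' ≤ r := rank_le_of_mono F E r' r hF hE i
  have hcF := Groth.Agent.Helper26.EndFin.isCoh_of_rank F r' hF
  have hcE := Groth.Agent.Helper26.EndFin.isCoh_of_rank E r hE
  haveI := hcF.1
  haveI : Module.Finite k (Coh.HH X E 0) :=
    Groth.Agent.Helper13.FinProj.finite_HH_of_isProper k X E hcE 0
  have h1 := euler_le_h0 k X hdim F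
  have h2 : Module.finrank k (Coh.HH X F 0) ≤ Module.finrank k (Coh.HH X E 0) :=
    LinearMap.finrank_le_finrank_of_injective
      (Groth.Agent.Helper26.SerreBun.HHlin_injective_of_mono k i)
  unfold Curv2.deg
  set e := Curv2.euler k X (Coh.structureModule X)
  have h3 : -e ≤ |e| := neg_le_abs e
  have h4 : (r' : ℤ) * (-e) ≤ r' * |e| := mul_le_mul_of_nonneg_left h3 (by positivity)
  have h5 : (r' : ℤ) * |e| ≤ r * |e| :=
    mul_le_mul_of_nonneg_right (by exact_mod_cast hle) (abs_nonneg e)
  have h6 : ((Module.finrank k (Coh.HH X F 0) : ℕ) : ℤ) ≤ (Module.finrank k (Coh.HH X E 0) : ℕ) := by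
    exact_mod_cast h2
  linarith

/-- a scheme of dimension one is nonempty. -/
theorem nonempty_of_dim {T : Type*} [TopologicalSpace T] (hdim : topologicalKrullDim T = 1) :
    Nonempty T := by
  by_contra h
  haveI : IsEmpty T := not_nonempty_iff.1 h
  haveI : IsEmpty (IrreducibleCloseds T) :=
    ⟨fun s => by obtain ⟨x, _⟩ := s.isIrreducible.nonempty; exact IsEmpty.false x⟩
  have h0 : topologicalKrullDim T = ⊥ := Order.krullDim_eq_bot
  rw [h0] at hdim
  exact absurd hdim (by simp)

/-- `H⁰(X, O_X)` is nonzero for nonempty `X`. -/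
theorem h0_structure_pos [Nonempty X] :
    1 ≤ Module.finrank k (Coh.HH X (Coh.structureModule X) 0) := by
  have hcO : Coh.IsCoh (Coh.structureModule X) :=
    Groth.Agent.Helper26.EndFin.isCoh_of_rank _ 1
      (Groth.Agent.Helper26.IntLF.isFinLocFreeOfRank_one_of_isInvertible _
        (Groth.Agent.Helper13.Inv.isInvertible_structureModule (X := X)))
  haveI : Module.Finite k (Coh.HH X (Coh.structureModule X) 0) :=
    Groth.Agent.Helper13.FinProj.finite_HH_of_isProper k X _ hcO 0
  haveI : Nonempty ((⊤ : X.Opens) : Type u) := by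
    obtain ⟨x⟩ := ‹Nonempty X›
    exact ⟨⟨x, trivial⟩⟩
  haveI : Nontrivial Γ(X, ⊤) := X.component_nontrivial ⊤
  haveI : Nontrivial Γ(Coh.structureModule X, ⊤) := ‹Nontrivial Γ(X, ⊤)›
  haveI : Nontrivial (Coh.HH X (Coh.structureModule X) 0) :=
    (Groth.Agent.Helper26.HomGlob.h0 (Coh.structureModule X)).symm.injective.nontrivial
  exact Module.finrank_pos

/-- `χ(O_X) = h⁰(O_X) - g` on a proper scheme of dimension at most one. -/
theorem euler_structure (hdim : topologicalKrullDim X ≤ 1) :
    Curv2.euler k X (Coh.structureModule X) =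
      (Module.finrank k (Coh.HH X (Coh.structureModule X) 0) : ℤ) - (Curv2.genus k X : ℤ) := by
  haveI : IsLocallyNoetherian (Spec (CommRingCat.of k)) := inferInstance
  haveI : IsLocallyNoetherian X :=
    LocallyOfFiniteType.isLocallyNoetherian (X ↘ Spec (CommRingCat.of k))
  haveI : CompactSpace X :=
    QuasiCompact.compactSpace_of_compactSpace (X ↘ Spec (CommRingCat.of k))
  haveI : IsNoetherian X := {}
  haveI : (Coh.structureModule X).IsQuasicoherent :=
    (Groth.Agent.Helper26.EndFin.isCoh_of_rank _ 1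
      (Groth.Agent.Helper26.IntLF.isFinLocFreeOfRank_one_of_isInvertible _
        (Groth.Agent.Helper13.Inv.isInvertible_structureModule (X := X)))).1
  rw [Groth.Agent.Helper13.EulerAdd.euler_eq_sum k (Coh.structureModule X) 2 (fun p hp =>
    Groth.Agent.Helper13.CurveGen.HH_subsingleton_of_two_le (X ↘ Spec (CommRingCat.of k)) hdim
      (Coh.structureModule X) p hp)]
  rw [Finset.sum_range_succ, Finset.sum_range_one]
  unfold Curv2.genus
  simp only [pow_zero, one_mul, pow_one]
  ring

/-- slope bound: `deg F ≤ r' (h⁰(E) + g - 1)` for a locally free submodule `F` of rank `r' ≥ 1`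
of a locally free module `E`. -/
theorem slope_bound [Nonempty X] (hdim : topologicalKrullDim X ≤ 1)
    (E : X.Modules) (hE : FlatMod.IsFinLocFree E) (F : X.Modules) (r' : ℕ) (hr' : 0 < r')
    (hF : FlatMod.IsFinLocFreeOfRank r' F) (i : F ⟶ E) [Mono i] :
    Curv2.deg k X F r' ≤
      (r' : ℤ) * ((Module.finrank k (Coh.HH X E 0) : ℤ) + (Curv2.genus k X : ℤ) - 1) := by
  have hcF := Groth.Agent.Helper26.EndFin.isCoh_of_rank F r' hF
  have hcE : Coh.IsCoh E := ⟨Groth.Agent.Helper5.FPC.isQuasicoherent_of_isFinLocFree E hE,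
    Groth.Agent.Helper5.PCH.isFiniteType_of_isFinLocFree E hE⟩
  haveI := hcF.1
  haveI : Module.Finite k (Coh.HH X E 0) :=
    Groth.Agent.Helper13.FinProj.finite_HH_of_isProper k X E hcE 0
  have h1 := euler_le_h0 k X hdim F
  have h2 : Module.finrank k (Coh.HH X F 0) ≤ Module.finrank k (Coh.HH X E 0) :=
    LinearMap.finrank_le_finrank_of_injective
      (Groth.Agent.Helper26.SerreBun.HHlin_injective_of_mono k i)
  have h3 := h0_structure_pos k X
  unfold Curv2.deg
  rw [euler_structure k X hdim]
  have h2' : ((Module.finrank k (Coh.HH X F 0) : ℕ) : ℤ) ≤ (Module.finrank k (Coh.HH X E 0) : ℕ) := by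
    exact_mod_cast h2
  have h3' : (1 : ℤ) ≤ (Module.finrank k (Coh.HH X (Coh.structureModule X) 0) : ℕ) := by
    exact_mod_cast h3
  have h4 : (1 : ℤ) ≤ (r' : ℤ) := by exact_mod_cast hr'
  have h5 : (0 : ℤ) ≤ (Module.finrank k (Coh.HH X E 0) : ℕ) := by positivity
  nlinarith [mul_le_mul_of_nonneg_left h3' (le_trans zero_le_one h4),
    mul_le_mul_of_nonneg_right h4 h5]

end Groth.Agent.Helper26.CurveDeg
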