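import Mathlib
import Groth.Agent.Lib.Helper26.CurveDeg

/-!
# The first step of the Harder–Narasimhan filtration on a proper curve
-/

set_option autoImplicit false
set_option maxHeartbeats 400000
set_option linter.unusedSectionVars false
set_option linter.unusedVariables false
set_option linter.style.haveILetI false
universe u
open CategoryTheory CategoryTheory.Limits AlgebraicGeometry Opposite TopologicalSpace

namespace Groth.Agent.Helper26.HNFirst

/-- cross-multiplication: comparing `d * (r!/a)` and `d' * (r!/b)` is comparing slopes. -/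
lemma cross_le (r a b : ℕ) (ha : 0 < a) (hb : 0 < b) (har : a ≤ r) (hbr : b ≤ r) (d d' : ℤ)
    (h : d * ((r.factorial / a : ℕ) : ℤ) ≤ d' * ((r.factorial / b : ℕ) : ℤ)) :
    d * (b : ℤ) ≤ d' * (a : ℤ) := by
  have hA : (r.factorial / a) * a = r.factorial := Nat.div_mul_cancel (Nat.dvd_factorial ha har)
  have hB : (r.factorial / b) * b = r.factorial := Nat.div_mul_cancel (Nat.dvd_factorial hb hbr)
  have hA' : ((r.factorial / a : ℕ) : ℤ) * (a : ℤ) = (r.factorial : ℤ) := by exact_mod_cast hA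
  have hB' : ((r.factorial / b : ℕ) : ℤ) * (b : ℤ) = (r.factorial : ℤ) := by exact_mod_cast hB
  have hf : (0 : ℤ) < (r.factorial : ℤ) := by exact_mod_cast r.factorial_pos
  have hab : (0 : ℤ) ≤ (a : ℤ) * (b : ℤ) := by positivity
  have h1 := mul_le_mul_of_nonneg_right h hab
  have h2 : d * ((r.factorial / a : ℕ) : ℤ) * ((a : ℤ) * (b : ℤ)) =
      (r.factorial : ℤ) * (d * (b : ℤ)) := by
    rw [← hA']; ring
  have h3 : d' * ((r.factorial / b : ℕ) : ℤ) * ((a : ℤ) * (b : ℤ)) =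
      (r.factorial : ℤ) * (d' * (a : ℤ)) := by
    rw [← hB']; ring
  rw [h2, h3] at h1
  exact le_of_mul_le_mul_left h1 hf

/-- cross-multiplication, converse direction. -/
lemma cross_le' (r a b : ℕ) (ha : 0 < a) (hb : 0 < b) (har : a ≤ r) (hbr : b ≤ r) (d d' : ℤ)
    (h : d * (b : ℤ) ≤ d' * (a : ℤ)) :
    d * ((r.factorial / a : ℕ) : ℤ) ≤ d' * ((r.factorial / b : ℕ) : ℤ) := by
  have hA : (r.factorial / a) * a = r.factorial := Nat.div_mul_cancel (Nat.dvd_factorial ha har)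
  have hB : (r.factorial / b) * b = r.factorial := Nat.div_mul_cancel (Nat.dvd_factorial hb hbr)
  have hA' : ((r.factorial / a : ℕ) : ℤ) * (a : ℤ) = (r.factorial : ℤ) := by exact_mod_cast hA
  have hB' : ((r.factorial / b : ℕ) : ℤ) * (b : ℤ) = (r.factorial : ℤ) := by exact_mod_cast hB
  have hab : (0 : ℤ) < (a : ℤ) * (b : ℤ) := by positivity
  have hf : (0 : ℤ) ≤ (r.factorial : ℤ) := by positivity
  have h1 := mul_le_mul_of_nonneg_left h hf
  have h2 : d * ((r.factorial / a : ℕ) : ℤ) * ((a : ℤ) * (b : ℤ)) =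
      (r.factorial : ℤ) * (d * (b : ℤ)) := by
    rw [← hA']; ring
  have h3 : d' * ((r.factorial / b : ℕ) : ℤ) * ((a : ℤ) * (b : ℤ)) =
      (r.factorial : ℤ) * (d' * (a : ℤ)) := by
    rw [← hB']; ring
  rw [← h2, ← h3] at h1
  exact le_of_mul_le_mul_right h1 hab

variable (k : Type u) [Field k] (X : Scheme.{u}) [X.Over (Spec (CommRingCat.of k))]
  [IsProper (X ↘ Spec (CommRingCat.of k))]

/-- **the maximal destabilising subbundle**: among the locally free submodules of positive rank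
of a locally free module on a proper curve there is one of maximal slope and, among these, of
maximal rank; it is semistable. -/
theorem main (hdim : topologicalKrullDim X = 1)
    (r : ℕ) (hr : 0 < r) (E : X.Modules) (hE : FlatMod.IsFinLocFreeOfRank r E) :
    ∃ (E₁ : X.Modules) (r₁ : ℕ) (i₁ : E₁ ⟶ E), Mono i₁ ∧ 0 < r₁ ∧ FlatMod.IsFinLocFreeOfRank r₁ E₁ ∧
      (∀ (G : X.Modules) (r' : ℕ) (j : G ⟶ E), Mono j → 0 < r' → FlatMod.IsFinLocFreeOfRank r' G →
        Curv2.deg k X G r' * (r₁ : ℤ) ≤ Curv2.deg k X E₁ r₁ * (r' : ℤ)) ∧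
      (∀ (G : X.Modules) (r' : ℕ) (j : G ⟶ E), Mono j → 0 < r' → FlatMod.IsFinLocFreeOfRank r' G →
        Curv2.deg k X G r' * (r₁ : ℤ) = Curv2.deg k X E₁ r₁ * (r' : ℤ) → r' ≤ r₁) ∧
      (∀ (G : X.Modules) (r' : ℕ) (i : G ⟶ E₁), Mono i → 0 < r' → FlatMod.IsFinLocFreeOfRank r' G →
      Curv2.deg k X G r' * (r₁ : ℤ) ≤ Curv2.deg k X E₁ r₁ * (r' : ℤ)) := by
  haveI : Nonempty X := Groth.Agent.Helper26.CurveDeg.nonempty_of_dim hdim
  obtain ⟨N, hN⟩ := Groth.Agent.Helper26.CurveDeg.main k X (le_of_eq hdim) r E hE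
  -- the score of a submodule
  let σ : ℤ → ℕ → ℤ := fun d r' => d * ((r.factorial / r' : ℕ) : ℤ) * ((r : ℤ) + 1) + (r' : ℤ)
  let P : ℤ → Prop := fun z => ∃ (G : X.Modules) (r' : ℕ) (j : G ⟶ E), Mono j ∧ 0 < r' ∧
    FlatMod.IsFinLocFreeOfRank r' G ∧ z = σ (Curv2.deg k X G r') r'
  have hrank : ∀ (G : X.Modules) (r' : ℕ) (j : G ⟶ E), Mono j →
      FlatMod.IsFinLocFreeOfRank r' G → r' ≤ r := by
    intro G r' j hj hG
    haveI := hj
    exact Groth.Agent.Helper26.CurveDeg.rank_le_of_mono G E r' r hG hE j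
  have hbdd : ∃ b, ∀ z, P z → z ≤ b := by
    refine ⟨|N| * (r.factorial : ℤ) * ((r : ℤ) + 1) + (r : ℤ), ?_⟩
    rintro z ⟨G, r', j, hj, hr', hG, rfl⟩
    have h1 : Curv2.deg k X G r' ≤ |N| := (hN G r' j hj hG).trans (le_abs_self N)
    have h2 : r' ≤ r := hrank G r' j hj hG
    have h3 : r.factorial / r' ≤ r.factorial := Nat.div_le_self _ _
    have h3' : ((r.factorial / r' : ℕ) : ℤ) ≤ (r.factorial : ℤ) := by exact_mod_cast h3
    have h4 : (0 : ℤ) ≤ ((r.factorial / r' : ℕ) : ℤ) := by positivity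
    have h5 : Curv2.deg k X G r' * ((r.factorial / r' : ℕ) : ℤ) ≤ |N| * (r.factorial : ℤ) :=
      (mul_le_mul_of_nonneg_right h1 h4).trans (mul_le_mul_of_nonneg_left h3' (abs_nonneg N))
    have h6 : (0 : ℤ) ≤ (r : ℤ) + 1 := by positivity
    have h7 := mul_le_mul_of_nonneg_right h5 h6
    have h8 : (r' : ℤ) ≤ (r : ℤ) := by exact_mod_cast h2
    show Curv2.deg k X G r' * ((r.factorial / r' : ℕ) : ℤ) * ((r : ℤ) + 1) + (r' : ℤ) ≤ _
    linarith
  have hinh : ∃ z, P z := ⟨_, E, r, 𝟙 E, inferInstance, hr, hE, rfl⟩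
  obtain ⟨ub, ⟨E₁, r₁, i₁, hi₁, hr₁, hE₁, hub⟩, hmax⟩ := Int.exists_greatest_of_bdd hbdd hinh
  have hr₁r : r₁ ≤ r := hrank E₁ r₁ i₁ hi₁ hE₁
  -- the key comparison
  have key : ∀ (G : X.Modules) (r' : ℕ) (j : G ⟶ E), Mono j → 0 < r' →
      FlatMod.IsFinLocFreeOfRank r' G →
      Curv2.deg k X G r' * ((r.factorial / r' : ℕ) : ℤ) ≤
        Curv2.deg k X E₁ r₁ * ((r.factorial / r₁ : ℕ) : ℤ) ∧
      (Curv2.deg k X G r' * ((r.factorial / r' : ℕ) : ℤ) =
        Curv2.deg k X E₁ r₁ * ((r.factorial / r₁ : ℕ) : ℤ) → r' ≤ r₁) := by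
    intro G r' j hj hr' hG
    have h1 : σ (Curv2.deg k X G r') r' ≤ ub := hmax _ ⟨G, r', j, hj, hr', hG, rfl⟩
    rw [hub] at h1
    have h1' : Curv2.deg k X G r' * ((r.factorial / r' : ℕ) : ℤ) * ((r : ℤ) + 1) + (r' : ℤ) ≤
        Curv2.deg k X E₁ r₁ * ((r.factorial / r₁ : ℕ) : ℤ) * ((r : ℤ) + 1) + (r₁ : ℤ) := h1
    have h2 : (r' : ℤ) ≤ (r : ℤ) := by exact_mod_cast hrank G r' j hj hG
    have h3 : (r₁ : ℤ) ≤ (r : ℤ) := by exact_mod_cast hr₁r
    have h4 : (0 : ℤ) < (r' : ℤ) := by exact_mod_cast hr'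
    have h5 : (0 : ℤ) < (r₁ : ℤ) := by exact_mod_cast hr₁
    constructor
    · by_contra hlt
      rw [not_le] at hlt
      have h6 : Curv2.deg k X E₁ r₁ * ((r.factorial / r₁ : ℕ) : ℤ) + 1 ≤
          Curv2.deg k X G r' * ((r.factorial / r' : ℕ) : ℤ) := hlt
      have h7 : (0 : ℤ) ≤ (r : ℤ) + 1 := by positivity
      have h8 := mul_le_mul_of_nonneg_right h6 h7
      nlinarith
    · intro heq
      rw [heq] at h1'
      have : (r' : ℤ) ≤ (r₁ : ℤ) := by linarith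
      exact_mod_cast this
  refine ⟨E₁, r₁, i₁, hi₁, hr₁, hE₁, ?_, ?_, ?_⟩
  · intro G r' j hj hr' hG
    exact cross_le r r' r₁ hr' hr₁ (hrank G r' j hj hG) hr₁r _ _ (key G r' j hj hr' hG).1
  · intro G r' j hj hr' hG heq
    apply (key G r' j hj hr' hG).2
    apply le_antisymm (key G r' j hj hr' hG).1
    exact cross_le' r r₁ r' hr₁ hr' hr₁r (hrank G r' j hj hG) _ _ (le_of_eq heq.symm)
  · intro G r' i hi hr' hG
    haveI := hi
    haveI := hi₁
    have hj : Mono (i ≫ i₁) := mono_comp i i₁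
    exact cross_le r r' r₁ hr' hr₁ (hrank G r' (i ≫ i₁) hj hG) hr₁r _ _
      (key G r' (i ≫ i₁) hj hr' hG).1

end Groth.Agent.Helper26.HNFirst
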