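import Mathlib
import Groth.Prelude.Def_Curv2
import Groth.Agent.Lib.Helper13.K0Tensor
import Groth.Agent.Lib.Helper13.TwistSES
import Groth.Agent.Lib.Helper13.TensorUnit
import Groth.Agent.Lib.Helper20.VBMap1
import Groth.Agent.Lib.Helper24.CohExt2
import Groth.Agent.Lib.Helper13.CurveDeg3
import Groth.Agent.Lib.Helper26.HomVan
import Groth.Agent.S1524

/-!
# The degree of a tensor product of vector bundles on a proper curve

`χ(M ⊗ E) = e χ(M) + m χ(E) - e m χ(O)` for locally free `M`, `E` of ranks `m`, `e` on a scheme of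
dimension at most one, proper over a field; proved through `K₀` (helper13's `K0Tensor.main_tensor`):
`[M ⊗ F] - m [F]` is a combination of classes of modules of zero-dimensional support, and the
additive function `F ↦ χ(F ⊗ E) - e χ(F)` kills such classes.
-/

set_option autoImplicit false
set_option maxHeartbeats 400000
set_option linter.style.haveILetI false
set_option linter.unusedSectionVars false
set_option linter.unusedVariables false
universe u
open CategoryTheory CategoryTheory.Limits AlgebraicGeometry Opposite TopologicalSpace TensorProduct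
open Groth.Agent.Helper13.QCoh Groth.Agent.Helper13.FinType Groth.Agent.Helper13.Inv
open Groth.Agent.Helper13.Tensor Groth.Agent.Helper13.TwistSES

namespace Groth.Agent.Helper26.DegTensor

section Exact

variable {X : Scheme.{u}}

/-- tensoring with a module with flat stalks is exact. -/
theorem tensorSC_shortExact_of_flat (S : ShortComplex X.Modules) (hS : S.ShortExact)
    (N : X.Modules) (hN : ∀ x : X, Module.Flat (X.presheaf.stalk x) (N.presheaf.stalk x)) :
    (tensorSC S N).ShortExact := by
  haveI := hS.mono_f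
  haveI := hS.epi_g
  have hinj : ∀ x : X, Function.Injective (stalkLinearMap S.f x) := fun x =>
    (mono_iff_stalk_injective S.f).1 inferInstance x
  have hsurj : ∀ x : X, Function.Surjective (stalkLinearMap S.g x) := fun x =>
    Groth.Agent.Helper13.FinType.stalkMap_surjective_of_epi S.g x
  have hex : ∀ x : X, Function.Exact (stalkLinearMap S.f x) (stalkLinearMap S.g x) := by
    intro x m
    constructor
    · intro hm
      obtain ⟨m₁, hm₁⟩ := stalk_exact_of_exact_of_mono S hS.exact x m hm
      exact ⟨m₁, hm₁⟩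
    · rintro ⟨m₁, rfl⟩
      change stalkMap S.g x (stalkMap S.f x m₁) = 0
      rw [← Groth.Agent.Helper18.BasisCrit.stalkMap_comp, S.zero]
      exact Groth.Agent.Helper18.BasisCrit.stalkMap_zero x m₁
  refine ShortComplex.ShortExact.mk' ?_ ?_ ?_
  · apply Groth.Agent.Helper18.BasisCrit.exact_of_stalk
    intro x m hm
    obtain ⟨z, rfl⟩ := (stalkTensorEquiv S.X₂ N x).surjective m
    change stalkMap (Groth.Agent.Helper13.Tensor.map S.g (𝟙 N)) x _ = 0 at hm
    rw [stalkMap_map_id] at hm
    have hz : (stalkLinearMap S.g x).rTensor (N.presheaf.stalk x) z = 0 := by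
      apply (stalkTensorEquiv S.X₃ N x).injective
      rw [hm, map_zero]
    obtain ⟨z₁, hz₁⟩ := (rTensor_exact (N.presheaf.stalk x) (hex x) (hsurj x) z).1 hz
    refine ⟨stalkTensorEquiv S.X₁ N x z₁, ?_⟩
    change stalkMap (Groth.Agent.Helper13.Tensor.map S.f (𝟙 N)) x _ = _
    rw [stalkMap_map_id, hz₁]
  · rw [mono_iff_stalk_injective]
    intro x a b hab
    haveI := hN x
    obtain ⟨z, rfl⟩ := (stalkTensorEquiv S.X₁ N x).surjective a
    obtain ⟨z', rfl⟩ := (stalkTensorEquiv S.X₁ N x).surjective b
    change stalkMap (Groth.Agent.Helper13.Tensor.map S.f (𝟙 N)) x _ = stalkMap (Groth.Agent.Helper13.Tensor.map S.f (𝟙 N)) x _ at hab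
    rw [stalkMap_map_id, stalkMap_map_id] at hab
    have := Module.Flat.rTensor_preserves_injective_linearMap (M := N.presheaf.stalk x)
      (stalkLinearMap S.f x) (hinj x) ((stalkTensorEquiv S.X₂ N x).injective hab)
    rw [this]
  · apply Groth.Agent.Helper13.FinType.epi_of_stalkMap_surjective
    intro x m
    obtain ⟨z, rfl⟩ := (stalkTensorEquiv S.X₃ N x).surjective m
    obtain ⟨z₂, rfl⟩ := LinearMap.rTensor_surjective (N.presheaf.stalk x) (hsurj x) z
    refine ⟨stalkTensorEquiv S.X₂ N x z₂, ?_⟩
    change stalkMap (Groth.Agent.Helper13.Tensor.map S.g (𝟙 N)) x _ = _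
    rw [stalkMap_map_id]

theorem flat_stalk_of_isFinLocFree (N : X.Modules) (hN : FlatMod.IsFinLocFree N) (x : X) :
    Module.Flat (X.presheaf.stalk x) (N.presheaf.stalk x) := by
  haveI := (Groth.Agent.Helper20.RankFn.free_finite_stalk N hN x).1
  infer_instance

/-- tensoring with a vector bundle is exact. -/
theorem tensorSC_shortExact_of_isFinLocFree (S : ShortComplex X.Modules) (hS : S.ShortExact)
    (N : X.Modules) (hN : FlatMod.IsFinLocFree N) : (tensorSC S N).ShortExact :=
  tensorSC_shortExact_of_flat S hS N (flat_stalk_of_isFinLocFree N hN)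

end Exact

section K0

variable (X : Scheme.{u})

/-- the property of being coherent. -/
def Pc : ObjectProperty X.Modules := fun G => Coh.IsCoh G

theorem hPc (G : X.Modules) : Pc X G ↔ Coh.IsCoh G := Iff.rfl

/-- additivity on short exact sequences of coherent modules. -/
def IsAdditive (f : X.Modules → ℤ) : Prop :=
  ∀ S : ShortComplex X.Modules, S.ShortExact → Coh.IsCoh S.X₁ → Coh.IsCoh S.X₂ → Coh.IsCoh S.X₃ →
    f S.X₂ = f S.X₁ + f S.X₃

variable {X}

theorem relSub_le_ker (f : X.Modules → ℤ) (hf : IsAdditive X f) :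
    KZero.relSub (Pc X) ≤
      (FreeAbelianGroup.lift (fun G : Subtype (Pc X) => f G.1)).ker := by
  unfold KZero.relSub
  rw [AddSubgroup.closure_le]
  rintro x ⟨S, h₁, h₂, h₃, hS, rfl⟩
  rw [SetLike.mem_coe, AddMonoidHom.mem_ker, map_sub, map_sub, FreeAbelianGroup.lift_apply_of,
    FreeAbelianGroup.lift_apply_of, FreeAbelianGroup.lift_apply_of]
  have := hf S hS h₁ h₂ h₃
  change f S.X₂ - f S.X₁ - f S.X₃ = 0
  omega

/-- the homomorphism on `K₀` of coherent modules defined by an additive function. -/
noncomputable def homOfAdditive (f : X.Modules → ℤ) (hf : IsAdditive X f) :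
    KZero.K0sub (Pc X) →+ ℤ :=
  QuotientAddGroup.lift (KZero.relSub (Pc X))
    (FreeAbelianGroup.lift (fun G : Subtype (Pc X) => f G.1)) (relSub_le_ker f hf)

theorem homOfAdditive_clSub (f : X.Modules → ℤ) (hf : IsAdditive X f) (G : X.Modules)
    (hG : Coh.IsCoh G) : homOfAdditive f hf (KZero.clSub (Pc X) G) = f G := by
  have hG' : Pc X G := hG
  unfold KZero.clSub
  rw [dif_pos hG']
  unfold homOfAdditive
  rw [QuotientAddGroup.lift_mk, FreeAbelianGroup.lift_apply_of]

theorem homOfAdditive_filtLt (f : X.Modules → ℤ) (hf : IsAdditive X f) (n : ℕ)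
    (h0 : ∀ G : X.Modules, Coh.IsCoh G → topologicalKrullDim ↥(CohB1.support G) < n → f G = 0)
    (c : KZero.K0sub (Pc X)) (hc : c ∈ Groth.Agent.Helper13.K0Length.filtLt (Pc X) n) :
    homOfAdditive f hf c = 0 := by
  have hle : Groth.Agent.Helper13.K0Length.filtLt (Pc X) n ≤ (homOfAdditive f hf).ker := by
    unfold Groth.Agent.Helper13.K0Length.filtLt
    rw [AddSubgroup.closure_le]
    rintro _ ⟨G, hG, hdim, rfl⟩
    rw [SetLike.mem_coe, AddMonoidHom.mem_ker, homOfAdditive_clSub f hf G hG]
    exact h0 G hG hdim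
  exact hle hc

end K0

section Euler

variable (k : Type u) [Field k] (X : Scheme.{u}) [X.Over (Spec (CommRingCat.of k))]
  [IsProper (X ↘ Spec (CommRingCat.of k))]

include k in
theorem isNoetherian_of_proper : IsNoetherian X := by
  haveI : LocallyOfFiniteType (X ↘ Spec (CommRingCat.of k)) := inferInstance
  haveI : IsLocallyNoetherian X :=
    LocallyOfFiniteType.isLocallyNoetherian (X ↘ Spec (CommRingCat.of k))
  haveI : CompactSpace X :=
    QuasiCompact.compactSpace_of_compactSpace (X ↘ Spec (CommRingCat.of k))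
  exact {}

theorem euler_additive : IsAdditive X (Curv2.euler k X) := fun S hS h₁ h₂ h₃ =>
  Groth.Agent.S1524.result k X S hS h₁ h₂ h₃

omit [IsProper (X ↘ Spec (CommRingCat.of k))] in
theorem euler_of_iso {M N : X.Modules} (e : M ≅ N) : Curv2.euler k X M = Curv2.euler k X N := by
  unfold Curv2.euler
  apply finsum_congr
  intro i
  rw [Groth.Agent.Helper26.HomVan.finrank_HH_of_iso k e i]

omit [IsProper (X ↘ Spec (CommRingCat.of k))] in
theorem deg_of_iso {M N : X.Modules} (e : M ≅ N) (n : ℕ) :
    Curv2.deg k X M n = Curv2.deg k X N n := by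
  unfold Curv2.deg
  rw [euler_of_iso k X e]

theorem isZero_of_dim_lt_zero (G : X.Modules)
    (h : topologicalKrullDim ↥(CohB1.support G) < ((0 : ℕ) : WithBot ℕ∞)) : IsZero G := by
  have hempty : ∀ x : X, Subsingleton (G.presheaf.stalk x) := by
    intro x
    by_contra hx
    have hxs : x ∈ CohB1.support G := hx
    have hne : Nonempty (IrreducibleCloseds ↥(CohB1.support G)) :=
      ⟨⟨closure {⟨x, hxs⟩}, isIrreducible_singleton.closure, isClosed_closure⟩⟩
    have h0 : (0 : WithBot ℕ∞) ≤ topologicalKrullDim ↥(CohB1.support G) :=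
      Order.krullDim_nonneg_iff.2 hne
    exact absurd h (not_lt.2 (by exact_mod_cast h0))
  rw [IsZero.iff_id_eq_zero]
  apply Groth.Agent.Helper13.FinType.hom_ext_stalk
  intro y m
  haveI := hempty y
  exact Subsingleton.elim _ _

theorem euler_eq_zero_of_dim_lt_zero (G : X.Modules) (hG : Coh.IsCoh G)
    (h : topologicalKrullDim ↥(CohB1.support G) < ((0 : ℕ) : WithBot ℕ∞)) :
    Curv2.euler k X G = 0 :=
  Groth.Agent.Helper20.VBMap.euler_eq_zero_of_isZero k G (isZero_of_dim_lt_zero X G h) hG

/-- tensoring a module with zero-dimensional support with a vector bundle of rank `e` multiplies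
the Euler characteristic by `e`. -/
theorem euler_tensor_of_dim_zero (E : X.Modules) (e : ℕ) (hE : FlatMod.IsFinLocFreeOfRank e E)
    (T : X.Modules) (hT : Coh.IsCoh T)
    (hdim : topologicalKrullDim ↥(CohB1.support T) ≤ ((0 : ℕ) : WithBot ℕ∞)) :
    Curv2.euler k X (CohB1.tensorMod E T) = (e : ℤ) * Curv2.euler k X T := by
  haveI : IsNoetherian X := isNoetherian_of_proper k X
  have h := Groth.Agent.Helper13.K0Tensor.main_tensor (Pc X) (hPc X) E e hE T hT 0 hdim
  have hv := homOfAdditive_filtLt (Curv2.euler k X) (euler_additive k X) 0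
    (fun G hG hd => euler_eq_zero_of_dim_lt_zero k X G hG hd) _ h
  rw [map_sub, map_nsmul,
    homOfAdditive_clSub _ _ _ (Groth.Agent.Helper13.K0Tensor.isCoh_tensor E e hE T hT),
    homOfAdditive_clSub _ _ _ hT] at hv
  rw [nsmul_eq_mul] at hv
  linarith

theorem le_zero_of_lt_one (x : WithBot ℕ∞) (h : x < ((1 : ℕ) : WithBot ℕ∞)) :
    x ≤ ((0 : ℕ) : WithBot ℕ∞) := by
  induction x using WithBot.recBotCoe with
  | bot => exact bot_le
  | coe a =>
    have h1 : a < 1 := by exact_mod_cast h
    have h2 : a = 0 := Order.lt_one_iff.mp h1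
    subst h2
    exact le_refl _

/-- `F ↦ χ(F ⊗ E) - e χ(F)` is additive. -/
theorem additive_tensor_right (E : X.Modules) (e : ℕ) (hE : FlatMod.IsFinLocFreeOfRank e E) :
    IsAdditive X (fun F => Curv2.euler k X (CohB1.tensorMod F E) - (e : ℤ) * Curv2.euler k X F) := by
  intro S hS h₁ h₂ h₃
  have hEl := Groth.Agent.Helper13.K0Tensor.isFinLocFree_of_rank E e hE
  have hT := tensorSC_shortExact_of_isFinLocFree S hS E hEl
  have hc : ∀ F : X.Modules, Coh.IsCoh F → Coh.IsCoh (CohB1.tensorMod F E) := fun F hF =>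
    Groth.Agent.Helper24.CohExt.isCoh_of_iso (Groth.Agent.Helper13.Tensor.braid E F)
      (Groth.Agent.Helper13.K0Tensor.isCoh_tensor E e hE F hF)
  have h1 := Groth.Agent.S1524.result k X (tensorSC S E) hT (hc _ h₁) (hc _ h₂) (hc _ h₃)
  have h2 := Groth.Agent.S1524.result k X S hS h₁ h₂ h₃
  change Curv2.euler k X (CohB1.tensorMod S.X₂ E) = Curv2.euler k X (CohB1.tensorMod S.X₁ E) +
    Curv2.euler k X (CohB1.tensorMod S.X₃ E) at h1
  simp only
  rw [h1, h2]
  ring

/-- **Euler characteristic of a tensor product of vector bundles on a proper curve.** -/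
theorem euler_tensor (hdim : topologicalKrullDim X ≤ 1) (M E : X.Modules) (m e : ℕ)
    (hM : FlatMod.IsFinLocFreeOfRank m M) (hE : FlatMod.IsFinLocFreeOfRank e E) :
    Curv2.euler k X (CohB1.tensorMod M E) = (e : ℤ) * Curv2.euler k X M +
      (m : ℤ) * Curv2.euler k X E - (e : ℤ) * (m : ℤ) * Curv2.euler k X (Coh.structureModule X) := by
  haveI : IsNoetherian X := isNoetherian_of_proper k X
  have hO : Coh.IsCoh (Coh.structureModule X) :=
    Groth.Agent.Helper13.CurveDeg.isCoh_of_isInvertible _
      Groth.Agent.Helper13.Inv.isInvertible_structureModule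
  have hdimO : topologicalKrullDim ↥(CohB1.support (Coh.structureModule X)) ≤
      ((1 : ℕ) : WithBot ℕ∞) :=
    (topologicalKrullDim_subspace_le X _).trans (by exact_mod_cast hdim)
  have h := Groth.Agent.Helper13.K0Tensor.main_tensor (Pc X) (hPc X) M m hM
    (Coh.structureModule X) hO 1 hdimO
  set f : X.Modules → ℤ :=
    fun F => Curv2.euler k X (CohB1.tensorMod F E) - (e : ℤ) * Curv2.euler k X F with hf
  have hadd := additive_tensor_right k X E e hE
  have hv := homOfAdditive_filtLt f hadd 1 (fun G hG hd => by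
    have hd0 := le_zero_of_lt_one _ hd
    have h1 := euler_tensor_of_dim_zero k X E e hE G hG hd0
    have h2 := euler_of_iso k X (Groth.Agent.Helper13.Tensor.braid G E)
    simp only [hf]
    rw [h2, h1]
    ring) _ h
  have hMO : Coh.IsCoh (CohB1.tensorMod M (Coh.structureModule X)) :=
    Groth.Agent.Helper13.K0Tensor.isCoh_tensor M m hM _ hO
  rw [map_sub, map_nsmul, homOfAdditive_clSub _ _ _ hMO, homOfAdditive_clSub _ _ _ hO,
    nsmul_eq_mul] at hv
  simp only [hf] at hv
  have e1 : CohB1.tensorMod (CohB1.tensorMod M (Coh.structureModule X)) E ≅ CohB1.tensorMod M E :=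
    Groth.Agent.Helper13.Tensor.mapIso (Groth.Agent.Helper13.Tensor.rid M) (Iso.refl E)
  rw [euler_of_iso k X e1, euler_of_iso k X (Groth.Agent.Helper13.Tensor.rid M),
    euler_of_iso k X (Groth.Agent.Helper13.Tensor.lid E)] at hv
  linarith

/-- **the degree of a tensor product.** -/
theorem deg_tensor (hdim : topologicalKrullDim X ≤ 1) (M E : X.Modules) (m e : ℕ)
    (hM : FlatMod.IsFinLocFreeOfRank m M) (hE : FlatMod.IsFinLocFreeOfRank e E) :
    Curv2.deg k X (CohB1.tensorMod M E) (m * e) =
      (e : ℤ) * Curv2.deg k X M m + (m : ℤ) * Curv2.deg k X E e := by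
  unfold Curv2.deg
  rw [euler_tensor k X hdim M E m e hM hE]
  push_cast
  ring

end Euler

end Groth.Agent.Helper26.DegTensor
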