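import Mathlib
import Groth.Prelude.Def_Curv2
import Groth.Prelude.Def_CurvBase
import Groth.Prelude.Def_FlatMod2
import Groth.Agent.Lib.Helper20.VBMap1
import Groth.Agent.Lib.Helper13.CurveDeg3
import Groth.Agent.Lib.Helper13.ResAffine
import Groth.Agent.Lib.Helper26.CurveDeg
import Groth.Agent.Lib.Helper26.IntLF
import Groth.Agent.S9514

/-!
# Nefness (curve-test form) is stable under extensions
-/

set_option autoImplicit false
set_option maxHeartbeats 400000
set_option linter.style.haveILetI false
set_option linter.unusedSectionVars false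
set_option linter.unusedVariables false
universe u
open CategoryTheory CategoryTheory.Limits AlgebraicGeometry Opposite TopologicalSpace
open Groth.Agent.Helper20.RankFn

namespace Groth.Agent.Helper26.NefExt

theorem isInvertible_of_rank_one {X : Scheme.{u}} (M : X.Modules)
    (h : FlatMod.IsFinLocFreeOfRank 1 M) : PicF.IsInvertible M := fun x => by
  obtain ⟨U, hxU, ⟨e⟩⟩ := h x
  exact ⟨U, hxU, ⟨e ≪≫
    coproductUniqueIso (fun _ : Fin 1 => Coh.structureModule (U : Scheme.{u}))⟩⟩

/-- on a regular proper integral curve, the image of a nonzero map from a vector bundle to an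
invertible module is invertible of degree at most that of the target. -/
theorem image_invertible (k : Type u) [Field k] (C : Scheme.{u})
    [C.Over (Spec (CommRingCat.of k))]
    [IsProper (C ↘ Spec (CommRingCat.of k))] [IsIntegral C] (hdim : topologicalKrullDim C = 1)
    (hreg : ∀ x : C, IsRegularLocalRing (C.presheaf.stalk x))
    (V M : C.Modules) (hV : FlatMod.IsFinLocFree V) (hM : PicF.IsInvertible M) (c : V ⟶ M)
    (hc : c ≠ 0) :
    PicF.IsInvertible (Abelian.image c) ∧
      Curv2.deg k C (Abelian.image c) 1 ≤ Curv2.deg k C M 1 := by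
  have hN : IsLocallyNoetherian C := by
    have : IsLocallyNoetherian (Spec (CommRingCat.of k)) := inferInstance
    exact LocallyOfFiniteType.isLocallyNoetherian (C ↘ Spec (CommRingCat.of k))
  have hMl : FlatMod.IsFinLocFree M := fun x => by
    obtain ⟨U, hxU, ⟨e⟩⟩ := hM x
    exact ⟨U, 1, hxU, ⟨e ≪≫
      (coproductUniqueIso (fun _ : Fin 1 => Coh.structureModule (U : Scheme.{u}))).symm⟩⟩
  have hM1 := Groth.Agent.Helper26.IntLF.isFinLocFreeOfRank_one_of_isInvertible M hM
  have hVc : Coh.IsCoh V := Groth.Agent.Helper9.ResVan.isCoh_of_isFinLocFree V hV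
  have hMc : Coh.IsCoh M := Groth.Agent.Helper9.ResVan.isCoh_of_isFinLocFree M hMl
  have hcok : Coh.IsCoh (cokernel c) := (Groth.Agent.S9514.result C hVc hMc c).2
  have hIc : Coh.IsCoh (Abelian.image c) :=
    (Groth.Agent.S9514.result C hMc hcok (cokernel.π c)).1
  haveI : Mono (Abelian.image.ι c) := inferInstance
  have hIl : FlatMod.IsFinLocFree (Abelian.image c) :=
    Groth.Agent.Helper20.VBMap.isFinLocFree_of_mono hreg hdim.le hIc hMl (Abelian.image.ι c)
  have hne : Nonempty C := inferInstance
  obtain ⟨x₀⟩ := hne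
  have hIr := isFinLocFreeOfRank_of_preconnected (Abelian.image c) hIl x₀
  have hle : rk (Abelian.image c) x₀ ≤ 1 :=
    Groth.Agent.Helper26.CurveDeg.rank_le_of_mono _ M _ 1 hIr hM1 (Abelian.image.ι c)
  have hιne : Abelian.image.ι c ≠ 0 := by
    intro h0
    apply hc
    rw [← Abelian.image.fac c, h0, comp_zero]
  have hne0 : rk (Abelian.image c) x₀ ≠ 0 := by
    intro h0
    apply hιne
    have hz : IsZero (Abelian.image c) := isZero_of_rk_eq_zero _ hIl (fun y => by
      rw [rk_eq_of_isFinLocFreeOfRank _ _ hIr y]; exact h0)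
    exact hz.eq_of_src _ _
  have h1 : rk (Abelian.image c) x₀ = 1 := by omega
  rw [h1] at hIr
  have hIinv := isInvertible_of_rank_one _ hIr
  exact ⟨hIinv, (Groth.Agent.Helper13.CurveDeg.main1521 k C hdim _ M hIinv hM
    (Abelian.image.ι c) hιne).1⟩

/-- the curve-test for nefness passes to the middle term of a short exact sequence. -/
theorem main (k : Type u) [Field k] (X : Scheme.{u}) (S : ShortComplex X.Modules)
    (hS : S.ShortExact) (h₁ : FlatMod.IsFinLocFree S.X₁)
    (C : Scheme.{u}) [C.Over (Spec (CommRingCat.of k))]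
    [IsProper (C ↘ Spec (CommRingCat.of k))] [IsIntegral C] (hdim : topologicalKrullDim C = 1)
    (hreg : ∀ x : C, IsRegularLocalRing (C.presheaf.stalk x)) (f : C ⟶ X)
    (hnef₁ : ∀ (M : C.Modules), PicF.IsInvertible M →
      ∀ (q : (Scheme.Modules.pullback f).obj S.X₁ ⟶ M), Epi q → 0 ≤ Curv2.deg k C M 1)
    (hnef₃ : ∀ (M : C.Modules), PicF.IsInvertible M →
      ∀ (q : (Scheme.Modules.pullback f).obj S.X₃ ⟶ M), Epi q → 0 ≤ Curv2.deg k C M 1)
    (M : C.Modules) (hM : PicF.IsInvertible M)
    (q : (Scheme.Modules.pullback f).obj S.X₂ ⟶ M) (hq : Epi q) : 0 ≤ Curv2.deg k C M 1 := by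
  haveI : (Scheme.Modules.pullback f).IsLeftAdjoint :=
    (Scheme.Modules.pullbackPushforwardAdjunction f).isLeftAdjoint
  haveI : (Scheme.Modules.pullback f).PreservesZeroMorphisms := inferInstance
  haveI := hS.epi_g
  have hex : (S.map (Scheme.Modules.pullback f)).Exact :=
    hS.exact.map_of_epi_of_preservesCokernel (Scheme.Modules.pullback f) hS.epi_g inferInstance
  haveI : Epi (S.map (Scheme.Modules.pullback f)).g := by
    change Epi ((Scheme.Modules.pullback f).map S.g)
    infer_instance
  by_cases hc : (Scheme.Modules.pullback f).map S.f ≫ q = 0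
  · -- `q` factors through the pullback of the quotient
    let q' := hex.desc q hc
    have hq' : (Scheme.Modules.pullback f).map S.g ≫ q' = q := hex.g_desc q hc
    have hq'e : Epi q' := by
      haveI : Epi ((Scheme.Modules.pullback f).map S.g ≫ q') := by rw [hq']; exact hq
      exact epi_of_epi ((Scheme.Modules.pullback f).map S.g) q'
    exact hnef₃ M hM q' hq'e
  · have hV := Groth.Agent.Helper13.ResAffine.isFinLocFree_pullback f S.X₁ h₁
    obtain ⟨hI, hle⟩ := image_invertible k C hdim hreg _ M hV hM _ hc
    have h0 := hnef₁ _ hI (Abelian.factorThruImage _) inferInstance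
    linarith

end Groth.Agent.Helper26.NefExt
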