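import Mathlib
import Groth.Prelude.Def_ModFun2
import Groth.Agent.Lib.Helper26.DegTensor
import Groth.Agent.Lib.Helper26.HNFirst
import Groth.Agent.Lib.Helper26.IntLF
import Groth.Agent.Lib.Helper20.VBMap4
import Groth.Agent.Lib.Helper20.HiggsSlope
import Groth.Agent.Lib.Helper13.InvDual
import Groth.Agent.Lib.Helper13.TensorAssoc
import Groth.Agent.S9514

/-!
# Semistable twisted pairs with a twist of degree zero have semistable underlying bundle
-/

set_option autoImplicit false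
set_option maxHeartbeats 800000
set_option linter.style.haveILetI false
set_option linter.unusedSectionVars false
set_option linter.unusedVariables false
universe u
open CategoryTheory CategoryTheory.Limits AlgebraicGeometry Opposite TopologicalSpace TensorProduct
open Groth.Agent.Helper13.QCoh Groth.Agent.Helper13.FinType Groth.Agent.Helper13.LocFree
open Groth.Agent.Helper13.Inv Groth.Agent.Helper13.StalkBasis Groth.Agent.Helper13.Tensor
open Groth.Agent.Helper13.LocalLift Groth.Agent.Helper13.TensorFinLocFree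
open Groth.Agent.Helper13.TwistSES
open Groth.Agent.Helper20.RankFn Groth.Agent.Helper20.VBMap Groth.Agent.Helper26.DegTensor

namespace Groth.Agent.Helper26.HiggsSS

section Rank

variable {X : Scheme.{u}}

/-- the tensor product of locally free modules of ranks `n`, `m` is locally free of rank `n m`. -/
theorem isFinLocFreeOfRank_tensorMod (E₁ E₂ : X.Modules) (n m : ℕ)
    (h₁ : FlatMod.IsFinLocFreeOfRank n E₁) (h₂ : FlatMod.IsFinLocFreeOfRank m E₂) :
    FlatMod.IsFinLocFreeOfRank (n * m) (CohB1.tensorMod E₁ E₂) := by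
  intro x
  obtain ⟨V₁, s₁, hx₁, hb₁⟩ := Groth.Agent.Helper13.K0Tensor.exists_isBasisAt_of_rank E₁ n h₁ x
  obtain ⟨V₂, s₂, hx₂, hb₂⟩ := Groth.Agent.Helper13.K0Tensor.exists_isBasisAt_of_rank E₂ m h₂ x
  let V : X.Opens := V₁ ⊓ V₂
  let t₁ : Fin n → Γ(E₁, V) := fun i => E₁.presheaf.map (homOfLE (inf_le_left : V ≤ V₁)).op (s₁ i)
  let t₂ : Fin m → Γ(E₂, V) := fun i => E₂.presheaf.map (homOfLE (inf_le_right : V ≤ V₂)).op (s₂ i)
  have ht₁ : ∀ (y : X) (hy : y ∈ V), IsBasisAt E₁ t₁ y hy := by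
    intro y hy
    rw [isBasisAt_res E₁ (homOfLE (inf_le_left : V ≤ V₁)) s₁ y hy]
    exact hb₁ y _
  have ht₂ : ∀ (y : X) (hy : y ∈ V), IsBasisAt E₂ t₂ y hy := by
    intro y hy
    rw [isBasisAt_res E₂ (homOfLE (inf_le_right : V ≤ V₂)) s₂ y hy]
    exact hb₂ y _
  refine ⟨V, ⟨hx₁, hx₂⟩, ?_⟩
  exact nonempty_restrict_iso_freeMod (CohB1.tensorMod E₁ E₂) _
    (fun y hy => isBasisAt_tmul E₁ E₂ t₁ t₂ y hy (ht₁ y hy) (ht₂ y hy))

theorem rk_of_iso {M N : X.Modules} (e : M ≅ N) (y : X) : rk M y = rk N y :=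
  (stalkLinearEquiv e y).finrank_eq

/-- the rank at a point is additive on short exact sequences of coherent modules. -/
theorem rk_additive [IsIntegral X] (y : X) : IsAdditive X (fun F => (rk F y : ℤ)) := by
  intro S hS h₁ h₂ h₃
  haveI hqc : S.X₂.IsQuasicoherent := h₂.1
  haveI hft : SheafOfModules.IsFiniteType (R := X.ringCatSheaf) S.X₂ := h₂.2
  haveI : Module.Finite (X.presheaf.stalk y) (S.X₂.presheaf.stalk y) :=
    @finite_stalk_of_isFiniteType _ S.X₂ hqc hft _
  have := rk_shortExact S hS y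
  simp only
  exact_mod_cast this

variable [IsLocallyNoetherian X]

theorem additive_ker_epi (f : X.Modules → ℤ) (hf : IsAdditive X f) {A B : X.Modules}
    (hA : Coh.IsCoh A) (hB : Coh.IsCoh B) (p : A ⟶ B) [Epi p] :
    f A = f (kernel p) + f B := by
  let S : ShortComplex X.Modules := ShortComplex.mk (kernel.ι p) p (kernel.condition p)
  have hS : S.ShortExact :=
    ShortComplex.ShortExact.mk' (ShortComplex.exact_kernel p)
      (inferInstanceAs (Mono (kernel.ι p))) (inferInstanceAs (Epi p))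
  exact hf S hS (Groth.Agent.S9514.result X hA hB p).1 hA hB

theorem additive_four (f : X.Modules → ℤ) (hf : IsAdditive X f)
    (hiso : ∀ {A B : X.Modules}, (A ≅ B) → f A = f B) {A B : X.Modules}
    (hA : Coh.IsCoh A) (hB : Coh.IsCoh B) (g : A ⟶ B) :
    f A + f (cokernel g) = f (kernel g) + f B := by
  have hK := (Groth.Agent.S9514.result X hA hB g).1
  have hC := (Groth.Agent.S9514.result X hA hB g).2
  let S₁ : ShortComplex X.Modules :=
    ShortComplex.mk (kernel.ι g) (cokernel.π (kernel.ι g)) (cokernel.condition _)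
  have hS₁ : S₁.ShortExact :=
    ShortComplex.ShortExact.mk' (ShortComplex.exact_cokernel (kernel.ι g))
      (inferInstanceAs (Mono (kernel.ι g))) (inferInstanceAs (Epi (cokernel.π (kernel.ι g))))
  have hcoim : Coh.IsCoh (cokernel (kernel.ι g)) :=
    (Groth.Agent.S9514.result X hK hA (kernel.ι g)).2
  have h1 : f A = f (kernel g) + f (cokernel (kernel.ι g)) := hf S₁ hS₁ hK hA hcoim
  let S₂ : ShortComplex X.Modules :=
    ShortComplex.mk (kernel.ι (cokernel.π g)) (cokernel.π g) (kernel.condition _)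
  have hS₂ : S₂.ShortExact :=
    ShortComplex.ShortExact.mk' (ShortComplex.exact_kernel (cokernel.π g))
      (inferInstanceAs (Mono (kernel.ι (cokernel.π g)))) (inferInstanceAs (Epi (cokernel.π g)))
  have him : Coh.IsCoh (kernel (cokernel.π g)) :=
    (Groth.Agent.S9514.result X hB hC (cokernel.π g)).1
  have h2 : f B = f (kernel (cokernel.π g)) + f (cokernel g) := hf S₂ hS₂ him hB hC
  have h3 : f (cokernel (kernel.ι g)) = f (kernel (cokernel.π g)) :=
    hiso (Abelian.coimageIsoImage g)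
  omega

end Rank


section Main

variable (k : Type u) [Field k] {X : Scheme.{u}} [X.Over (Spec (CommRingCat.of k))] [IsIntegral X]
  [IsProper (X ↘ Spec (CommRingCat.of k))] [Smooth (X ↘ Spec (CommRingCat.of k))]

/-- the inverse of an invertible module of degree `0` has degree `0`. -/
theorem deg_inverse (hdim : topologicalKrullDim X = 1) (L N : X.Modules)
    (hL : PicF.IsInvertible L) (hN : PicF.IsInvertible N)
    (e : CohB1.tensorMod L N ≅ Coh.structureModule X) :
    Curv2.deg k X N 1 = - Curv2.deg k X L 1 := by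
  have hL1 := Groth.Agent.Helper26.IntLF.isFinLocFreeOfRank_one_of_isInvertible L hL
  have hN1 := Groth.Agent.Helper26.IntLF.isFinLocFreeOfRank_one_of_isInvertible N hN
  have h := deg_tensor k X hdim.le L N 1 1 hL1 hN1
  rw [deg_of_iso k X e (1 * 1)] at h
  have h0 : Curv2.deg k X (Coh.structureModule X) (1 * 1) = 0 := by
    unfold Curv2.deg
    simp
  rw [h0] at h
  push_cast at h
  linarith

/-- **a maximal destabilising subbundle is invariant under every twisted endomorphism with twist of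
degree at most zero.** -/
theorem invariant_of_max (hdim : topologicalKrullDim X = 1) (L : X.Modules)
    (hL : PicF.IsInvertible L) (hL0 : Curv2.deg k X L 1 ≤ 0) (r : ℕ) (E : X.Modules)
    (hE : FlatMod.IsFinLocFreeOfRank r E) (φ : E ⟶ CohB1.tensorMod E L)
    (G : X.Modules) (n : ℕ) (hn : 0 < n) (j : G ⟶ E) [Mono j]
    (hG : FlatMod.IsFinLocFreeOfRank n G)
    (hmax : ∀ (G' : X.Modules) (r' : ℕ) (j' : G' ⟶ E), Mono j' → 0 < r' →
      FlatMod.IsFinLocFreeOfRank r' G' →
      Curv2.deg k X G' r' * (n : ℤ) ≤ Curv2.deg k X G n * (r' : ℤ))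
    (hmaxrk : ∀ (G' : X.Modules) (r' : ℕ) (j' : G' ⟶ E), Mono j' → 0 < r' →
      FlatMod.IsFinLocFreeOfRank r' G' →
      Curv2.deg k X G' r' * (n : ℤ) = Curv2.deg k X G n * (r' : ℤ) → r' ≤ n)
    (hssG : ∀ (K : X.Modules) (r' : ℕ) (i : K ⟶ G), Mono i → 0 < r' →
      FlatMod.IsFinLocFreeOfRank r' K →
      Curv2.deg k X K r' * (n : ℤ) ≤ Curv2.deg k X G n * (r' : ℤ)) :
    ∃ χ : G ⟶ CohB1.tensorMod G L,
      χ ≫ Groth.Agent.Helper13.Tensor.map j (𝟙 L) = j ≫ φ := by
  classical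
  haveI hN : IsLocallyNoetherian X := isLocallyNoetherian_of_proper k
  have hreg : ∀ x : X, IsRegularLocalRing (X.presheaf.stalk x) := hreg_of_smooth k
  have hL1 := Groth.Agent.Helper26.IntLF.isFinLocFreeOfRank_one_of_isInvertible L hL
  have hGl := Groth.Agent.Helper20.VBIndec.isFinLocFree_of_rank n G hG
  have hEl := Groth.Agent.Helper20.VBIndec.isFinLocFree_of_rank r E hE
  have hGc : Coh.IsCoh G := Groth.Agent.Helper9.ResVan.isCoh_of_isFinLocFree G hGl
  have hEc : Coh.IsCoh E := Groth.Agent.Helper9.ResVan.isCoh_of_isFinLocFree E hEl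
  have hQc : Coh.IsCoh (cokernel j) := (Groth.Agent.S9514.result X hGc hEc j).2
  let S : ShortComplex X.Modules := ShortComplex.mk j (cokernel.π j) (cokernel.condition j)
  have hS : S.ShortExact :=
    ShortComplex.ShortExact.mk' (ShortComplex.exact_cokernel j)
      (inferInstanceAs (Mono j)) (inferInstanceAs (Epi (cokernel.π j)))
  have hT := tensorSC_shortExact S hS L hL
  haveI := hT.mono_f
  haveI hepi : Epi (Groth.Agent.Helper13.Tensor.map (cokernel.π j) (𝟙 L)) := hT.epi_g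
  have hcohL : ∀ F : X.Modules, Coh.IsCoh F → Coh.IsCoh (CohB1.tensorMod F L) := fun F hF =>
    Groth.Agent.Helper24.CohExt.isCoh_of_iso (Groth.Agent.Helper13.Tensor.braid L F)
      (Groth.Agent.Helper13.K0Tensor.isCoh_tensor L 1 hL1 F hF)
  have hGLc := hcohL G hGc
  have hELc := hcohL E hEc
  have hQLc := hcohL (cokernel j) hQc
  -- the obstruction to invariance
  obtain ⟨ψ, hψdef⟩ : ∃ ψ : G ⟶ CohB1.tensorMod (cokernel j) L,
      ψ = j ≫ φ ≫ Groth.Agent.Helper13.Tensor.map (cokernel.π j) (𝟙 L) := ⟨_, rfl⟩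
  suffices hψ : ψ = 0 by
    refine ⟨hT.exact.lift (j ≫ φ) ?_, hT.exact.lift_f _ _⟩
    rw [hψdef] at hψ
    exact (Category.assoc _ _ _).trans hψ
  have hK'c : Coh.IsCoh (kernel ψ) := (Groth.Agent.S9514.result X hGc hQLc ψ).1
  have hCc : Coh.IsCoh (cokernel ψ) := (Groth.Agent.S9514.result X hGc hQLc ψ).2
  obtain ⟨p, hpdef⟩ : ∃ p : CohB1.tensorMod E L ⟶ cokernel ψ,
      p = Groth.Agent.Helper13.Tensor.map (cokernel.π j) (𝟙 L) ≫ cokernel.π ψ := ⟨_, rfl⟩
  haveI : Epi p := by rw [hpdef]; exact epi_comp _ _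
  have hG'c : Coh.IsCoh (kernel p) := (Groth.Agent.S9514.result X hELc hCc p).1
  have hELr : FlatMod.IsFinLocFreeOfRank (r * 1) (CohB1.tensorMod E L) :=
    isFinLocFreeOfRank_tensorMod E L r 1 hE hL1
  have hGLr : FlatMod.IsFinLocFreeOfRank (n * 1) (CohB1.tensorMod G L) :=
    isFinLocFreeOfRank_tensorMod G L n 1 hG hL1
  have hELl := Groth.Agent.Helper20.VBIndec.isFinLocFree_of_rank _ _ hELr
  have hK'l : FlatMod.IsFinLocFree (kernel ψ) :=
    isFinLocFree_of_mono hreg hdim.le hK'c hGl (kernel.ι ψ)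
  have hG'l : FlatMod.IsFinLocFree (kernel p) :=
    isFinLocFree_of_mono hreg hdim.le hG'c hELl (kernel.ι p)
  obtain ⟨k', hk'⟩ : ∃ k' : ℕ, k' = rk (kernel ψ) (genericPoint X) := ⟨_, rfl⟩
  obtain ⟨g', hg'⟩ : ∃ g' : ℕ, g' = rk (kernel p) (genericPoint X) := ⟨_, rfl⟩
  have hK'r : FlatMod.IsFinLocFreeOfRank k' (kernel ψ) := by
    rw [hk']; exact isFinLocFreeOfRank_of_preconnected _ hK'l _
  have hG'r : FlatMod.IsFinLocFreeOfRank g' (kernel p) := by
    rw [hg']; exact isFinLocFreeOfRank_of_preconnected _ hG'l _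
  -- the identity for additive functions
  have key : ∀ f : X.Modules → ℤ, IsAdditive X f →
      (∀ {A B : X.Modules}, (A ≅ B) → f A = f B) →
      f (kernel p) = f (CohB1.tensorMod G L) + f G - f (kernel ψ) := by
    intro f hf hiso
    have h1 := additive_ker_epi f hf hELc hCc p
    have h2 := additive_four f hf hiso hGc hQLc ψ
    have h3 := hf (tensorSC S L) hT hGLc hELc hQLc
    change f (CohB1.tensorMod E L) = f (CohB1.tensorMod G L) + f (CohB1.tensorMod (cokernel j) L)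
      at h3
    linarith
  have keyχ := key (Curv2.euler k X) (euler_additive k X) (fun e => euler_of_iso k X e)
  have keyrk := key (fun F => (rk F (genericPoint X) : ℤ)) (rk_additive (genericPoint X))
    (fun e => congrArg (Nat.cast) (rk_of_iso e _))
  try simp only at keyrk
  rw [← hg', ← hk', rk_eq_of_isFinLocFreeOfRank _ _ hGLr, rk_eq_of_isFinLocFreeOfRank _ _ hG]
    at keyrk
  -- ranks
  have hk'le : k' ≤ n :=
    Groth.Agent.Helper26.CurveDeg.rank_le_of_mono (kernel ψ) G k' n hK'r hG (kernel.ι ψ)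
  have hg'eq : (g' : ℤ) = 2 * (n : ℤ) - (k' : ℤ) := by
    push_cast at keyrk
    linarith
  have hg'pos : 0 < g' := by
    have : (0 : ℤ) < (g' : ℤ) := by
      rw [hg'eq]
      have h1 : (k' : ℤ) ≤ (n : ℤ) := by exact_mod_cast hk'le
      have h2 : (0 : ℤ) < (n : ℤ) := by exact_mod_cast hn
      linarith
    exact_mod_cast this
  -- degrees
  have hdtG := deg_tensor k X hdim.le G L n 1 hG hL1
  obtain ⟨ℓ, hℓ⟩ : ∃ ℓ : ℤ, ℓ = Curv2.deg k X L 1 := ⟨_, rfl⟩
  rw [← hℓ] at hdtG hL0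
  -- the inverse of `L`
  obtain ⟨N, hNinv, ⟨eLN⟩, -⟩ := Groth.Agent.Helper13.InvDual.exists_inverse L hL
  have hN1 := Groth.Agent.Helper26.IntLF.isFinLocFreeOfRank_one_of_isInvertible N hNinv
  have hdN : Curv2.deg k X N 1 = -ℓ := by
    rw [deg_inverse k hdim L N hL hNinv eLN, hℓ]
  have hG''r : FlatMod.IsFinLocFreeOfRank (g' * 1) (CohB1.tensorMod (kernel p) N) :=
    isFinLocFreeOfRank_tensorMod _ N g' 1 hG'r hN1
  have hdtG'' := deg_tensor k X hdim.le (kernel p) N g' 1 hG'r hN1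
  rw [hdN] at hdtG''
  -- the embedding of `G' ⊗ N` into `E`
  let S' : ShortComplex X.Modules := ShortComplex.mk (kernel.ι p) p (kernel.condition p)
  have hS' : S'.ShortExact :=
    ShortComplex.ShortExact.mk' (ShortComplex.exact_kernel p)
      (inferInstanceAs (Mono (kernel.ι p))) (inferInstanceAs (Epi p))
  have hT' := tensorSC_shortExact S' hS' N hNinv
  haveI hmono' : Mono (Groth.Agent.Helper13.Tensor.map (kernel.ι p) (𝟙 N)) := hT'.mono_f
  let θ : CohB1.tensorMod (CohB1.tensorMod E L) N ≅ E :=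
    Groth.Agent.Helper13.Tensor.assoc E L N ≪≫
      Groth.Agent.Helper13.Tensor.mapIso (Iso.refl E) eLN ≪≫ Groth.Agent.Helper13.Tensor.rid E
  have hmono'' : Mono (Groth.Agent.Helper13.Tensor.map (kernel.ι p) (𝟙 N) ≫ θ.hom) :=
    mono_comp _ _
  have hm1 := hmax _ (g' * 1) _ hmono'' (by omega) hG''r
  -- the bound for the kernel
  have hKbound : Curv2.deg k X (kernel ψ) k' * (n : ℤ) ≤ Curv2.deg k X G n * (k' : ℤ) := by
    rcases Nat.eq_zero_or_pos k' with h0 | hpos
    · have hz : IsZero (kernel ψ) := isZero_of_rk_eq_zero _ hK'l (fun y => by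
        rw [rk_eq_of_isFinLocFreeOfRank _ _ hK'r y]; exact h0)
      have he0 := euler_eq_zero_of_isZero k (kernel ψ) hz hK'c
      unfold Curv2.deg
      rw [he0, h0]
      simp
    · exact hssG _ k' (kernel.ι ψ) inferInstance hpos hK'r
  -- arithmetic
  have hn0 : (0 : ℤ) < (n : ℤ) := by exact_mod_cast hn
  have hk'le' : (k' : ℤ) ≤ (n : ℤ) := by exact_mod_cast hk'le
  have hdegG' : Curv2.deg k X (kernel p) g' =
      2 * Curv2.deg k X G n - Curv2.deg k X (kernel ψ) k' + (n : ℤ) * ℓ := by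
    have h1 : Curv2.deg k X (CohB1.tensorMod G L) (n * 1) = Curv2.deg k X G n + (n : ℤ) * ℓ := by
      rw [hdtG]; ring
    unfold Curv2.deg at h1 ⊢
    push_cast at h1 ⊢
    rw [hg'eq]
    linarith
  have hdegG'' : Curv2.deg k X (CohB1.tensorMod (kernel p) N) (g' * 1) =
      Curv2.deg k X (kernel p) g' - (g' : ℤ) * ℓ := by
    rw [hdtG'']; ring
  have hB : ((n : ℤ) - (k' : ℤ)) * (-ℓ) * (n : ℤ) ≥ 0 :=
    mul_nonneg (mul_nonneg (sub_nonneg.2 hk'le') (neg_nonneg.2 hL0)) hn0.le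
  rw [hdegG'', hdegG'] at hm1
  push_cast at hm1
  rw [hg'eq] at hm1
  have heq1 : Curv2.deg k X (kernel ψ) k' * (n : ℤ) = Curv2.deg k X G n * (k' : ℤ) := by
    nlinarith
  have hB0 : ((n : ℤ) - (k' : ℤ)) * (-ℓ) * (n : ℤ) = 0 := by
    nlinarith
  have heq2 : Curv2.deg k X (CohB1.tensorMod (kernel p) N) (g' * 1) * (n : ℤ) =
      Curv2.deg k X G n * ((g' * 1 : ℕ) : ℤ) := by
    rw [hdegG'', hdegG']
    push_cast
    rw [hg'eq]
    nlinarith
  have hrk := hmaxrk _ (g' * 1) _ hmono'' (by omega) hG''r heq2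
  have hk'n : k' = n := by
    have : (g' : ℤ) ≤ (n : ℤ) := by
      have : g' * 1 ≤ n := hrk
      exact_mod_cast (by omega : g' ≤ n)
    have h2 : (n : ℤ) ≤ (k' : ℤ) := by linarith
    have h3 : n ≤ k' := by exact_mod_cast h2
    omega
  subst hk'n
  have hdeq : Curv2.deg k X (kernel ψ) k' = Curv2.deg k X G k' := by
    have hn' : (0 : ℤ) < (k' : ℤ) := by exact_mod_cast hn
    exact mul_right_cancel₀ (ne_of_gt hn') heq1
  have heul : Curv2.euler k X (kernel ψ) = Curv2.euler k X G := by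
    unfold Curv2.deg at hdeq
    linarith
  haveI : IsIso (kernel.ι ψ) :=
    isIso_of_mono_of_rank_euler k hdim k' hK'r hG (kernel.ι ψ) heul
  have hcond := kernel.condition ψ
  rw [← cancel_epi (kernel.ι ψ), hcond, comp_zero]

/-- **a pair `(E, φ : E ⟶ E ⊗ L)` with `deg L ≤ 0` that is semistable as a pair has semistable
underlying bundle.** -/
theorem main16004 (hdim : topologicalKrullDim X = 1) (L : X.Modules)
    (hL : PicF.IsInvertible L) (hL0 : Curv2.deg k X L 1 ≤ 0) (r : ℕ) (hr : 0 < r) (E : X.Modules)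
    (hE : FlatMod.IsFinLocFreeOfRank r E) (φ : E ⟶ CohB1.tensorMod E L)
    (hss : ∀ (G : X.Modules) (n : ℕ) (j : G ⟶ E) (χ : G ⟶ CohB1.tensorMod G L), Mono j → 0 < n →
      FlatMod.IsFinLocFreeOfRank n G →
      χ ≫ Groth.Agent.Helper13.Tensor.map j (𝟙 L) = j ≫ φ →
      Curv2.deg k X G n * (r : ℤ) ≤ Curv2.deg k X E r * (n : ℤ)) :
    ∀ (G : X.Modules) (n : ℕ) (j : G ⟶ E), Mono j → 0 < n → FlatMod.IsFinLocFreeOfRank n G →
      Curv2.deg k X G n * (r : ℤ) ≤ Curv2.deg k X E r * (n : ℤ) := by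
  intro G n j hj hn hG
  obtain ⟨E₁, r₁, i₁, hi₁, hr₁, hE₁, hmax, hmaxrk, hss₁⟩ :=
    Groth.Agent.Helper26.HNFirst.main k X hdim r hr E hE
  haveI := hi₁
  obtain ⟨χ, hχ⟩ := invariant_of_max k hdim L hL hL0 r E hE φ E₁ r₁ hr₁ i₁ hE₁ hmax hmaxrk hss₁
  have h1 := hss E₁ r₁ i₁ χ hi₁ hr₁ hE₁ hχ
  have h2 := hmax G n j hj hn hG
  have hr₁' : (0 : ℤ) < (r₁ : ℤ) := by exact_mod_cast hr₁
  have hn' : (0 : ℤ) ≤ (n : ℤ) := by positivity
  have hr' : (0 : ℤ) ≤ (r : ℤ) := by positivity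
  have h3 : Curv2.deg k X G n * (r : ℤ) * (r₁ : ℤ) ≤ Curv2.deg k X E r * (n : ℤ) * (r₁ : ℤ) := by
    have h2' := mul_le_mul_of_nonneg_right h2 hr'
    have h1' := mul_le_mul_of_nonneg_right h1 hn'
    linarith
  exact le_of_mul_le_mul_right h3 hr₁'

end Main

end Groth.Agent.Helper26.HiggsSS
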