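import Mathlib
import Groth.Prelude.Def_PBC
import Groth.Agent.Lib.Helper26.EtSub1

/-!
# Recognising ind-étale algebras: the index category (helper26)
-/

set_option autoImplicit false
set_option linter.unusedSectionVars false
set_option linter.style.haveILetI false

namespace Groth.Agent.Helper26.IndEtRec

universe u
open CategoryTheory Limits TensorProduct

variable (R : Type u) [CommRing R] (B : Type u) [CommRing B] [Algebra R B]

/-- kernel elements of maps from étale algebras die in a further étale algebra -/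
def KerDies : Prop :=
  ∀ (C : Type u) [CommRing C] [Algebra R C] [Algebra.Etale R C] (φ : C →ₐ[R] B) (c : C), φ c = 0 →
    ∃ (C' : Type u) (_ : CommRing C') (_ : Algebra R C') (_ : Algebra.Etale R C')
      (ψ : C →ₐ[R] C') (φ' : C' →ₐ[R] B), φ'.comp ψ = φ ∧ ψ c = 0

variable {R B}

/-- finitely many kernel elements die simultaneously -/
theorem KerDies.fin (H : KerDies R B) : ∀ (n : ℕ) (C : Type u) [CommRing C] [Algebra R C]
    [Algebra.Etale R C] (φ : C →ₐ[R] B) (c : Fin n → C), (∀ l, φ (c l) = 0) →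
    ∃ (C' : Type u) (_ : CommRing C') (_ : Algebra R C') (_ : Algebra.Etale R C')
      (ψ : C →ₐ[R] C') (φ' : C' →ₐ[R] B), φ'.comp ψ = φ ∧ ∀ l, ψ (c l) = 0 := by
  intro n
  induction n with
  | zero =>
    intro C _ _ _ φ c _
    exact ⟨C, inferInstance, inferInstance, inferInstance, AlgHom.id R C, φ, AlgHom.comp_id _,
      fun l => l.elim0⟩
  | succ n ih =>
    intro C _ _ _ φ c hc
    obtain ⟨C₁, _, _, _, ψ₁, φ₁, h₁, hk₁⟩ := ih C φ (fun l => c l.succ) (fun l => hc l.succ)
    have h0 : φ₁ (ψ₁ (c 0)) = 0 := by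
      have : φ₁ (ψ₁ (c 0)) = (φ₁.comp ψ₁) (c 0) := rfl
      rw [this, h₁, hc 0]
    obtain ⟨C₂, _, _, _, ψ₂, φ₂, h₂, hk₂⟩ := H C₁ φ₁ (ψ₁ (c 0)) h0
    refine ⟨C₂, inferInstance, inferInstance, inferInstance, ψ₂.comp ψ₁, φ₂, ?_, ?_⟩
    · rw [← AlgHom.comp_assoc, h₂, h₁]
    · intro l
      refine Fin.cases ?_ (fun j => ?_) l
      · exact hk₂
      · change ψ₂ (ψ₁ (c j.succ)) = 0
        rw [hk₁ j, map_zero]

variable (R B)

/-- the index category: étale `R`-algebras (given by presentations) with a map to `B` -/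
structure Idx : Type u where
  /-- the presentation -/
  P : FGAlgCatSkeleton R
  /-- the presented algebra is étale -/
  etale : Algebra.Etale R (MvPolynomial (Fin P.n) R ⧸ P.I)
  /-- the structure map to `B` -/
  φ : (MvPolynomial (Fin P.n) R ⧸ P.I) →ₐ[R] B

variable {R B}

/-- the ring attached to an index -/
abbrev Idx.ring (i : Idx R B) : Type u := MvPolynomial (Fin i.P.n) R ⧸ i.P.I

instance (i : Idx R B) : Algebra.Etale R i.ring := i.etale

theorem exists_idx (C : Type u) [CommRing C] [Algebra R C] [Algebra.Etale R C] (φ : C →ₐ[R] B) :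
    ∃ (i : Idx R B) (e : C ≃ₐ[R] i.ring), i.φ.comp (e : C →ₐ[R] i.ring) = φ := by
  have : Algebra.FiniteType R C := inferInstance
  obtain ⟨n, f, hf⟩ := Algebra.FiniteType.iff_quotient_mvPolynomial''.mp this
  let e : C ≃ₐ[R] (MvPolynomial (Fin n) R ⧸ RingHom.ker f) :=
    (Ideal.quotientKerAlgEquivOfSurjective hf).symm
  refine ⟨⟨⟨n, RingHom.ker f⟩, Algebra.Etale.of_equiv e, φ.comp (e.symm : _ →ₐ[R] C)⟩, e, ?_⟩
  apply AlgHom.ext
  intro x
  change φ (e.symm (e x)) = φ x
  rw [AlgEquiv.symm_apply_apply]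

noncomputable instance : SmallCategory (Idx R B) where
  Hom i j := {f : i.ring →ₐ[R] j.ring // j.φ.comp f = i.φ}
  id i := ⟨AlgHom.id R _, AlgHom.comp_id _⟩
  comp f g := ⟨g.1.comp f.1, by rw [← AlgHom.comp_assoc, g.2, f.2]⟩

theorem Idx.comp_val {i j k : Idx R B} (f : i ⟶ j) (g : j ⟶ k) :
    (f ≫ g).1 = g.1.comp f.1 := rfl

theorem Idx.id_val (i : Idx R B) : (𝟙 i : i ⟶ i).1 = AlgHom.id R i.ring := rfl

theorem isFiltered (H : KerDies R B) : IsFiltered (Idx R B) where
  cocone_objs i j := by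
    haveI : Algebra.Etale R (i.ring ⊗[R] j.ring) := Algebra.Etale.comp R i.ring _
    obtain ⟨k, e, he⟩ := exists_idx (i.ring ⊗[R] j.ring)
      (Algebra.TensorProduct.productMap i.φ j.φ)
    refine ⟨k, ⟨(e : (i.ring ⊗[R] j.ring) →ₐ[R] k.ring).comp Algebra.TensorProduct.includeLeft, ?_⟩,
      ⟨(e : (i.ring ⊗[R] j.ring) →ₐ[R] k.ring).comp Algebra.TensorProduct.includeRight, ?_⟩,
      trivial⟩
    · rw [← AlgHom.comp_assoc, he]
      exact Algebra.TensorProduct.productMap_left _ _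
    · rw [← AlgHom.comp_assoc, he]
      exact Algebra.TensorProduct.productMap_right _ _
  cocone_maps i j f g := by
    let c : Fin i.P.n → j.ring := fun l =>
      f.1 (Ideal.Quotient.mk _ (MvPolynomial.X l)) - g.1 (Ideal.Quotient.mk _ (MvPolynomial.X l))
    have hc : ∀ l, j.φ (c l) = 0 := by
      intro l
      have h1 : ∀ x : i.ring, j.φ (f.1 x) = i.φ x := fun x => DFunLike.congr_fun f.2 x
      have h2 : ∀ x : i.ring, j.φ (g.1 x) = i.φ x := fun x => DFunLike.congr_fun g.2 x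
      change j.φ (_ - _) = 0
      rw [map_sub, h1, h2, sub_self]
    obtain ⟨C', _, _, _, ψ, φ', h', hk⟩ := H.fin i.P.n j.ring j.φ c hc
    obtain ⟨k, e, he⟩ := exists_idx C' φ'
    refine ⟨k, ⟨(e : C' →ₐ[R] k.ring).comp ψ, ?_⟩, ?_⟩
    · rw [← AlgHom.comp_assoc, he, h']
    · apply Subtype.ext
      rw [Idx.comp_val, Idx.comp_val]
      apply Ideal.Quotient.algHom_ext
      apply MvPolynomial.algHom_ext
      intro l
      change e (ψ (f.1 (Ideal.Quotient.mk _ (MvPolynomial.X l)))) =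
        e (ψ (g.1 (Ideal.Quotient.mk _ (MvPolynomial.X l))))
      congr 1
      rw [← sub_eq_zero, ← map_sub]
      exact hk l
  nonempty := by
    obtain ⟨k, -, -⟩ := exists_idx R (Algebra.ofId R B)
    exact ⟨k⟩

end Groth.Agent.Helper26.IndEtRec
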