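import Mathlib
import Groth.Prelude.Def_PBC
import Groth.Agent.Lib.Helper26.IndEtRec1

/-!
# Recognising ind-étale algebras (helper26)
-/

set_option autoImplicit false
set_option linter.unusedSectionVars false
set_option linter.style.haveILetI false

namespace Groth.Agent.Helper26.IndEtRec

universe u
open CategoryTheory Limits TensorProduct

section Recognize

variable {A : CommRingCat.{u}} {J : Type u} [SmallCategory J] [IsFiltered J]

/-- Recognition of filtered colimits in `Under A` on underlying sets. -/
noncomputable def isColimitOfUnder (F : J ⥤ Under A) (c : Cocone F)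
    (hsurj : ∀ x : c.pt.right, ∃ (i : J) (xi : (F.obj i).right), x = (c.ι.app i).right.hom xi)
    (hinj : ∀ (i : J) (x y : (F.obj i).right),
      (c.ι.app i).right.hom x = (c.ι.app i).right.hom y →
        ∃ (k : J) (f : i ⟶ k), (F.map f).right.hom x = (F.map f).right.hom y) :
    IsColimit c := by
  have : IsConnected J := IsFiltered.isConnected J
  apply isColimitOfReflects (Under.forget A)
  have : ReflectsColimit (F ⋙ Under.forget A) (forget CommRingCat.{u}) :=
    reflectsColimit_of_reflectsIsomorphisms _ _
  apply isColimitOfReflects (forget CommRingCat.{u})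
  refine Types.FilteredColimit.isColimitOf' _ _ ?_ ?_
  · intro x
    obtain ⟨i, xi, h⟩ := hsurj x
    exact ⟨i, xi, h⟩
  · intro i x y h
    obtain ⟨k, f, hk⟩ := hinj i x y h
    exact ⟨k, f, hk⟩

end Recognize

variable (R : Type u) [CommRing R] (B : Type u) [CommRing B] [Algebra R B]

/-- the diagram of étale algebras over `B`, as objects under `R` -/
noncomputable def diagU : Idx R B ⥤ Under (CommRingCat.of R) where
  obj i := Under.mk (CommRingCat.ofHom (algebraMap R i.ring))
  map {i j} f := Under.homMk (CommRingCat.ofHom (f.1 : i.ring →ₐ[R] j.ring).toRingHom) (by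
    ext r
    exact (f.1 : i.ring →ₐ[R] j.ring).commutes r)
  map_id i := by
    ext x
    rfl
  map_comp f g := by
    ext x
    rfl

/-- the cocone with vertex `B` -/
noncomputable def coconeU : Cocone (diagU R B) where
  pt := Under.mk (CommRingCat.ofHom (algebraMap R B))
  ι :=
    { app := fun i => Under.homMk (CommRingCat.ofHom (i.φ : i.ring →ₐ[R] B).toRingHom) (by
        ext r
        exact i.φ.commutes r)
      naturality := by
        intro i j f
        ext x
        exact DFunLike.congr_fun f.2 x }

variable {R B}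

/-- the cocone is a colimit -/
noncomputable def isColimitU [IsFiltered (Idx R B)] (H : KerDies R B)
    (hsurj : ∀ b : B, EtSub.IsEt R B b) : IsColimit (coconeU R B) := by
  apply isColimitOfUnder
  · intro b
    obtain ⟨C, _, _, _, φ, c, hc⟩ := hsurj b
    obtain ⟨i, e, he⟩ := exists_idx C φ
    refine ⟨i, e c, ?_⟩
    change b = i.φ (e c)
    have : i.φ (e c) = (i.φ.comp (e : C →ₐ[R] i.ring)) c := rfl
    rw [this, he, hc]
  · intro i (x : i.ring) (y : i.ring) hxy
    have hxy' : i.φ x = i.φ y := hxy
    have h0 : i.φ (x - y) = 0 := by rw [map_sub, hxy', sub_self]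
    obtain ⟨C', _, _, _, ψ, φ', h', hk⟩ := H i.ring i.φ (x - y) h0
    obtain ⟨k, e, he⟩ := exists_idx C' φ'
    refine ⟨k, ⟨(e : C' →ₐ[R] k.ring).comp ψ, ?_⟩, ?_⟩
    · rw [← AlgHom.comp_assoc, he, h']
    · change e (ψ x) = e (ψ y)
      congr 1
      rw [← sub_eq_zero, ← map_sub]
      exact hk

/-- **Recognition of ind-étale algebras.** -/
theorem isIndEtale_of_kerDies (H : KerDies R B) (hsurj : ∀ b : B, EtSub.IsEt R B b) :
    EtPBC.IsIndEtale R B := by
  haveI := isFiltered H
  refine ⟨Idx R B, inferInstance, inferInstance, diagU R B, coconeU R B, isColimitU H hsurj, ?_,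
    ⟨Iso.refl _⟩⟩
  intro i
  have h : ((diagU R B).obj i).hom.hom.toAlgebra = (inferInstance : Algebra R i.ring) :=
    Algebra.algebra_ext _ _ (fun r => rfl)
  rw [h]
  exact i.etale

end Groth.Agent.Helper26.IndEtRec
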