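import Mathlib

/-!
# Lifting étale algebras along a quotient map (helper26)
-/

set_option autoImplicit false
set_option linter.unusedSectionVars false

open MvPolynomial

namespace Groth.Agent.Helper26.EtLift

universe u

section naive

variable (A : Type u) [CommRing A] {ι σ : Type} [Finite ι] [Finite σ]
  (F : σ → MvPolynomial ι A) (a : σ → ι) (ha : Function.Injective a)

/-- the quotient algebra -/
abbrev SS := MvPolynomial ι A ⧸ Ideal.span (Set.range F)

/-- the naive presentation -/
noncomputable def P0 : Algebra.PreSubmersivePresentation A (SS A F) ι σ :=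
  Algebra.PreSubmersivePresentation.naive (v := F) a ha

theorem P0_algebraMap (p : MvPolynomial ι A) :
    algebraMap (P0 A F a ha).Ring (SS A F) p = Ideal.Quotient.mk _ p := rfl

/-- the Jacobian element -/
noncomputable def gg : SS A F := (P0 A F a ha).jacobian

/-- the localization -/
abbrev TT := Localization.Away (gg A F a ha)

theorem etale_TT (hcard : Nat.card ι = Nat.card σ) : Algebra.Etale A (TT A F a ha) := by
  let Q0 : Algebra.PreSubmersivePresentation (SS A F) (TT A F a ha) Unit Unit :=
    Algebra.PreSubmersivePresentation.localizationAway (TT A F a ha) (gg A F a ha)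
  let C0 := Q0.comp (P0 A F a ha)
  have hjac : IsUnit C0.jacobian := by
    rw [Algebra.PreSubmersivePresentation.comp_jacobian_eq_jacobian_smul_jacobian,
      Algebra.smul_def, IsUnit.mul_iff]
    constructor
    · exact IsLocalization.Away.algebraMap_isUnit (gg A F a ha)
    · rw [Algebra.PreSubmersivePresentation.localizationAway_jacobian]
      exact IsLocalization.Away.algebraMap_isUnit (gg A F a ha)
  let SP : Algebra.SubmersivePresentation A (TT A F a ha) (Unit ⊕ ι) (Unit ⊕ σ) :=
    { toPreSubmersivePresentation := C0, jacobian_isUnit := hjac }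
  have hdim : SP.dimension = 0 := by
    simp [Algebra.Presentation.dimension, hcard]
  have : Algebra.IsStandardSmoothOfRelativeDimension 0 A (TT A F a ha) :=
    SP.isStandardSmoothOfRelativeDimension hdim
  infer_instance

end naive

theorem exists_etale_lift (A : Type u) [CommRing A] (𝔍 : Ideal A) (Bb : Type u) [CommRing Bb]
    [Algebra (A ⧸ 𝔍) Bb] [Algebra A Bb] [IsScalarTower A (A ⧸ 𝔍) Bb]
    [hBb : Algebra.Etale (A ⧸ 𝔍) Bb] :
    ∃ (R : Type u) (_ : CommRing R) (_ : Algebra A R) (_ : Algebra.Etale A R) (φ : R →ₐ[A] Bb),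
      Function.Surjective φ ∧ RingHom.ker φ = 𝔍.map (algebraMap A R) := by
  classical
  obtain ⟨ι, σ, _, _, P, hP⟩ :=
    (Algebra.Etale.iff_isStandardSmoothOfRelativeDimension_zero.1 hBb).out
  have hcard : Nat.card ι = Nat.card σ := by
    have h1 := P.card_relations_le_card_vars_of_isFinite
    have h2 : Nat.card ι - Nat.card σ = 0 := hP
    omega
  have hsurj : Function.Surjective
      (MvPolynomial.map (Ideal.Quotient.mk 𝔍) : MvPolynomial ι A → MvPolynomial ι (A ⧸ 𝔍)) :=
    MvPolynomial.map_surjective _ Ideal.Quotient.mk_surjective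
  choose F hF using fun s => hsurj (P.relation s)
  have ha := P.map_inj
  let χ₀ : MvPolynomial ι A →ₐ[A] Bb := aeval P.val
  have hχ₀ : ∀ p, χ₀ p = aeval (R := A ⧸ 𝔍) P.val (MvPolynomial.map (Ideal.Quotient.mk 𝔍) p) := by
    intro p
    change aeval (R := A) P.val p = _
    rw [aeval_def, aeval_def, eval₂_map, IsScalarTower.algebraMap_eq A (A ⧸ 𝔍) Bb]
    rfl
  have hχF : ∀ s, χ₀ (F s) = 0 := by
    intro s
    rw [hχ₀, hF, P.aeval_val_relation]
  let χ₁ : SS A F →ₐ[A] Bb :=
    Ideal.Quotient.liftₐ _ χ₀ (by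
      intro p hp
      have : Ideal.span (Set.range F) ≤ RingHom.ker (χ₀ : _ →+* Bb) := by
        rw [Ideal.span_le]
        rintro _ ⟨s, rfl⟩
        exact hχF s
      exact this hp)
  have hχ₁ : ∀ p, χ₁ (Ideal.Quotient.mk _ p) = χ₀ p := fun p => rfl
  have : Fintype σ := Fintype.ofFinite σ
  have hgg : χ₁ (gg A F P.map ha) = P.jacobian := by
    rw [gg, Algebra.PreSubmersivePresentation.jacobian_eq_jacobiMatrix_det,
      Algebra.PreSubmersivePresentation.jacobian_eq_jacobiMatrix_det, P0_algebraMap, hχ₁, hχ₀,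
      Algebra.Generators.algebraMap_apply]
    congr 1
    rw [← RingHom.coe_coe, RingHom.map_det]
    congr 1
    refine Matrix.ext fun i j => ?_
    rw [RingHom.mapMatrix_apply, Matrix.map_apply, P0,
      Algebra.PreSubmersivePresentation.jacobiMatrix_naive,
      Algebra.PreSubmersivePresentation.jacobiMatrix_apply]
    have : MvPolynomial.map (Ideal.Quotient.mk 𝔍) (pderiv (P.map i) (F j)) =
        pderiv (P.map i) (P.relation j) := by
      rw [← MvPolynomial.pderiv_map, hF]
    exact this
  have hu : IsUnit (χ₁ (gg A F P.map ha)) := by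
    rw [hgg]
    exact P.jacobian_isUnit
  let χ : TT A F P.map ha →ₐ[A] Bb :=
    IsLocalization.Away.liftAlgHom (gg A F P.map ha) (f := χ₁) hu
  have hχ : ∀ y, χ (algebraMap (SS A F) (TT A F P.map ha) y) = χ₁ y := by
    intro y
    exact IsLocalization.Away.lift_eq _ hu y
  refine ⟨TT A F P.map ha, inferInstance, inferInstance, etale_TT A F P.map ha hcard, χ, ?_, ?_⟩
  · intro b
    obtain ⟨q, rfl⟩ := P.aeval_val_surjective b
    obtain ⟨p, rfl⟩ := hsurj q
    exact ⟨algebraMap (SS A F) (TT A F P.map ha) (Ideal.Quotient.mk _ p), by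
      rw [hχ, hχ₁, hχ₀]⟩
  · apply le_antisymm
    · intro x hx
      rw [RingHom.mem_ker] at hx
      obtain ⟨n, y, hy⟩ := IsLocalization.Away.surj (gg A F P.map ha) x
      have hy0 : χ₁ y = 0 := by
        rw [← hχ, ← hy, map_mul, hx, zero_mul]
      obtain ⟨p, rfl⟩ := Ideal.Quotient.mk_surjective y
      rw [hχ₁, hχ₀] at hy0
      have h1 : MvPolynomial.map (Ideal.Quotient.mk 𝔍) p ∈
          Ideal.span (Set.range P.relation) := by
        rw [P.span_range_relation_eq_ker, Algebra.Generators.ker_eq_ker_aeval_val, RingHom.mem_ker]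
        exact hy0
      have h2 : Ideal.span (Set.range P.relation) =
          (Ideal.span (Set.range F)).map (MvPolynomial.map (Ideal.Quotient.mk 𝔍)) := by
        rw [Ideal.map_span]
        congr 1
        ext z
        constructor
        · rintro ⟨s, rfl⟩
          exact ⟨F s, ⟨s, rfl⟩, hF s⟩
        · rintro ⟨_, ⟨s, rfl⟩, rfl⟩
          exact ⟨s, (hF s).symm⟩
      rw [h2, Ideal.mem_map_iff_of_surjective _ hsurj] at h1
      obtain ⟨q, hq, hqp⟩ := h1
      have h3 : p - q ∈ 𝔍.map (C : A →+* MvPolynomial ι A) := by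
        have : p - q ∈ RingHom.ker (MvPolynomial.map (Ideal.Quotient.mk 𝔍) :
            MvPolynomial ι A →+* MvPolynomial ι (A ⧸ 𝔍)) := by
          rw [RingHom.mem_ker, map_sub, hqp, sub_self]
        rwa [MvPolynomial.ker_map, Ideal.mk_ker] at this
      have h4 : Ideal.Quotient.mk (Ideal.span (Set.range F)) p =
          Ideal.Quotient.mk (Ideal.span (Set.range F)) (p - q) := by
        rw [map_sub, Ideal.Quotient.eq_zero_iff_mem.2 hq, sub_zero]
      have h5 : Ideal.Quotient.mk (Ideal.span (Set.range F)) p ∈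
          𝔍.map (algebraMap A (SS A F)) := by
        rw [h4]
        have h6 : 𝔍.map (algebraMap A (SS A F)) =
            (𝔍.map (C : A →+* MvPolynomial ι A)).map
              (Ideal.Quotient.mk (Ideal.span (Set.range F))) := by
          rw [Ideal.map_map]
          rfl
        rw [h6]
        exact Ideal.mem_map_of_mem _ h3
      have h7 : algebraMap (SS A F) (TT A F P.map ha)
          (Ideal.Quotient.mk (Ideal.span (Set.range F)) p) ∈
          𝔍.map (algebraMap A (TT A F P.map ha)) := by
        rw [IsScalarTower.algebraMap_eq A (SS A F) (TT A F P.map ha), ← Ideal.map_map]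
        exact Ideal.mem_map_of_mem _ h5
      rw [← hy] at h7
      have hug : IsUnit (algebraMap (SS A F) (TT A F P.map ha) (gg A F P.map ha) ^ n) :=
        (IsLocalization.Away.algebraMap_isUnit _).pow n
      obtain ⟨v, hv⟩ := hug
      have : x = x * algebraMap (SS A F) (TT A F P.map ha) (gg A F P.map ha) ^ n *
          ((v⁻¹ : (TT A F P.map ha)ˣ) : TT A F P.map ha) := by
        rw [mul_assoc, ← hv, Units.mul_inv, mul_one]
      rw [this]
      exact Ideal.mul_mem_right _ _ h7
    · rw [Ideal.map_le_iff_le_comap]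
      intro j hj
      rw [Ideal.mem_comap, RingHom.mem_ker, AlgHom.commutes,
        IsScalarTower.algebraMap_apply A (A ⧸ 𝔍) Bb]
      have : algebraMap A (A ⧸ 𝔍) j = 0 := Ideal.Quotient.eq_zero_iff_mem.2 hj
      rw [this, map_zero]

end Groth.Agent.Helper26.EtLift
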