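import Mathlib
import Groth.Prelude.Def_Smoothing

/-! # Reordering a presentation to make an element elementary standard -/

set_option autoImplicit false

namespace Groth.Agent.Helper26.Std

open MvPolynomial

universe u

lemma exists_perm_comp {c n : ℕ} (g₁ g₂ : Fin c → Fin n) (h₁ : Function.Injective g₁)
    (h₂ : Function.Injective g₂) : ∃ τ : Equiv.Perm (Fin n), ∀ k, τ (g₁ k) = g₂ k := by
  classical
  let e : {x // x ∈ Set.range g₁} ≃ {x // x ∈ Set.range g₂} :=
    (Equiv.ofInjective g₁ h₁).symm.trans (Equiv.ofInjective g₂ h₂)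
  refine ⟨e.extendSubtype, fun k => ?_⟩
  rw [Equiv.extendSubtype_apply_of_mem e (g₁ k) ⟨k, rfl⟩]
  simp [e, Equiv.ofInjective_symm_apply]

theorem isElementaryStandard_of_rows_cols {R A : Type u} [CommRing R] [CommRing A] [Algebra R A]
    {n m : ℕ} (f : Fin m → MvPolynomial (Fin n) R) (φ : MvPolynomial (Fin n) R →ₐ[R] A)
    (hφ : Function.Surjective φ)
    (hker : RingHom.ker φ.toRingHom = Ideal.span (Set.range f))
    {c : ℕ} (rows : Fin c ↪ Fin m) (cols : Fin c ↪ Fin n) (b b' : A)
    (hb : b = b' * φ (Smoothing.jacobianMinor f rows cols))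
    (hkill : ∀ a₁, φ a₁ = b → ∀ ℓ, a₁ * f ℓ ∈
      Ideal.span (Set.range (f ∘ rows)) ⊔ Ideal.span (Set.range f) ^ 2) :
    Smoothing.IsElementaryStandard R A b := by
  classical
  have hcn : c ≤ n := by simpa using Fintype.card_le_of_embedding cols
  have hcm : c ≤ m := by simpa using Fintype.card_le_of_embedding rows
  obtain ⟨σ, hσ⟩ := exists_perm_comp (Fin.castLE hcm) rows (Fin.castLE_injective hcm)
    rows.injective
  obtain ⟨τ, hτ⟩ := exists_perm_comp (Fin.castLE hcn) cols (Fin.castLE_injective hcn)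
    cols.injective
  -- the ring automorphism
  let ρ : MvPolynomial (Fin n) R ≃ₐ[R] MvPolynomial (Fin n) R := renameEquiv R τ.symm
  have hρ : ∀ p, ρ p = rename τ.symm p := fun p => rfl
  have hρsymm : ∀ p, ρ.symm p = rename τ p := fun p => rfl
  have hρρ : ∀ p : MvPolynomial (Fin n) R, rename τ (rename τ.symm p) = p := fun p => by
    rw [rename_rename]; simp
  let hom' : MvPolynomial (Fin n) R →ₐ[R] A := φ.comp (rename τ)
  have hhom' : ∀ p : MvPolynomial (Fin n) R, hom' (rename τ.symm p) = φ p := fun p => by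
    show φ (rename τ (rename τ.symm p)) = φ p
    rw [hρρ]
  let rel' : Fin m → MvPolynomial (Fin n) R := fun j => rename τ.symm (f (σ j))
  have hsurj' : Function.Surjective hom' := by
    intro a
    obtain ⟨p, rfl⟩ := hφ a
    exact ⟨rename τ.symm p, hhom' p⟩
  have hmap : ∀ (g : ℕ) (s : Fin g → MvPolynomial (Fin n) R),
      (Ideal.span (Set.range s)).map (ρ : MvPolynomial (Fin n) R →+* MvPolynomial (Fin n) R) =
        Ideal.span (Set.range fun j => rename τ.symm (s j)) := by
    intro g s
    rw [Ideal.map_span, ← Set.range_comp]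
    rfl
  have hrange' : Set.range rel' = Set.range fun j => rename τ.symm (f j) := by
    ext x
    constructor
    · rintro ⟨j, rfl⟩
      exact ⟨σ j, rfl⟩
    · rintro ⟨j, rfl⟩
      exact ⟨σ.symm j, by simp [rel']⟩
  have hker' : RingHom.ker hom'.toRingHom = Ideal.span (Set.range rel') := by
    rw [hrange', ← hmap m f, ← hker]
    ext p
    rw [RingHom.mem_ker]
    constructor
    · intro hp
      have h1 : rename τ p ∈ RingHom.ker φ.toRingHom := by
        rw [RingHom.mem_ker]; exact hp
      have h2 := Ideal.mem_map_of_mem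
        (ρ : MvPolynomial (Fin n) R →+* MvPolynomial (Fin n) R) h1
      have h3 : (ρ : MvPolynomial (Fin n) R →+* MvPolynomial (Fin n) R) (rename τ p) = p := by
        show rename τ.symm (rename τ p) = p
        rw [rename_rename]; simp
      rwa [h3] at h2
    · intro hp
      rw [Ideal.mem_map_iff_of_surjective
        (ρ : MvPolynomial (Fin n) R →+* MvPolynomial (Fin n) R) ρ.surjective] at hp
      obtain ⟨x, hx, rfl⟩ := hp
      show φ (rename τ (rename τ.symm x)) = 0
      rw [hρρ]
      exact hx
  let P : Smoothing.MarkedPresentation R A :=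
    { n := n, m := m, c := c, hcn := hcn, hcm := hcm, rel := rel', hom := hom',
      surj := hsurj', ker_eq := hker' }
  have hminor : Smoothing.jacobianMinor rel' (Fin.castLE hcm) (Fin.castLE hcn) =
      rename τ.symm (Smoothing.jacobianMinor f rows cols) := by
    unfold Smoothing.jacobianMinor
    rw [AlgHom.map_det]
    congr 1
    refine Matrix.ext fun j k => ?_
    simp only [Matrix.of_apply, AlgHom.mapMatrix_apply, Matrix.map_apply, rel']
    rw [hσ j, ← pderiv_rename τ.symm.injective, ← hτ k]
    simp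
  have himg : rel' '' {j' : Fin m | (j' : ℕ) < c} =
      Set.range fun j => rename τ.symm ((f ∘ rows) j) := by
    ext x
    constructor
    · rintro ⟨j, hj, rfl⟩
      refine ⟨⟨j, hj⟩, ?_⟩
      show rename τ.symm (f (rows ⟨j, hj⟩)) = rename τ.symm (f (σ j))
      rw [← hσ]
      rfl
    · rintro ⟨j, rfl⟩
      refine ⟨Fin.castLE hcm j, by simp, ?_⟩
      show rename τ.symm (f (σ (Fin.castLE hcm j))) = _
      rw [hσ]
      rfl
  refine ⟨P, ⟨b', ?_⟩, ?_⟩
  · show b = b' * hom' (Smoothing.jacobianMinor rel' (Fin.castLE hcm) (Fin.castLE hcn))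
    rw [hminor, hhom', hb]
  · intro a'' ha'' j _
    show a'' * rel' j ∈ Ideal.span (rel' '' {j' : Fin m | (j' : ℕ) < c}) ⊔
      Ideal.span (Set.range rel') ^ 2
    have h1 := hkill (rename τ a'') ha'' (σ j)
    have h2 := Ideal.mem_map_of_mem
        (ρ : MvPolynomial (Fin n) R →+* MvPolynomial (Fin n) R) h1
    rw [Ideal.map_sup, Ideal.map_pow, hmap m f, hmap c (f ∘ rows), ← hrange', ← himg] at h2
    have h3 : (ρ : MvPolynomial (Fin n) R →+* MvPolynomial (Fin n) R) (rename τ a'' * f (σ j)) =
        a'' * rel' j := by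
      show rename τ.symm (rename τ a'' * f (σ j)) = a'' * rel' j
      rw [map_mul, rename_rename]
      simp [rel']
    rwa [h3] at h2

end Groth.Agent.Helper26.Std
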