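import Mathlib

/-!
# Base change of the range of an idempotent matrix (helper26)
-/

set_option autoImplicit false
set_option linter.unusedSectionVars false
set_option linter.style.haveILetI false

open TensorProduct

namespace Groth.Agent.Helper26.IdemRange

universe u v

variable {R : Type u} [CommRing R] {n : ℕ} (e : Matrix (Fin n) (Fin n) R)

/-- the range of a matrix acting on column vectors -/
abbrev P : Submodule R (Fin n → R) := LinearMap.range (Matrix.toLin' e)

variable {e}

theorem toLin'_idem (he : IsIdempotentElem e) (x : Fin n → R) :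
    Matrix.toLin' e (Matrix.toLin' e x) = Matrix.toLin' e x := by
  rw [← LinearMap.comp_apply, ← Matrix.toLin'_mul, he.eq]

theorem toLin'_of_mem (he : IsIdempotentElem e) {x : Fin n → R} (hx : x ∈ P e) :
    Matrix.toLin' e x = x := by
  obtain ⟨y, rfl⟩ := hx
  exact toLin'_idem he y

theorem finite_P : Module.Finite R (P e) := Module.Finite.range _

theorem projective_P (he : IsIdempotentElem e) : Module.Projective R (P e) := by
  refine Module.Projective.of_split (P e).subtype (Matrix.toLin' e).rangeRestrict ?_
  ext ⟨x, y, rfl⟩ : 2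
  exact toLin'_idem he y

section baseChange

variable (S : Type v) [CommRing S] [Algebra R S]

/-- the componentwise map -/
def comp : (Fin n → R) →ₗ[R] (Fin n → S) :=
  (Algebra.linearMap R S).compLeft (Fin n)

theorem comp_apply (x : Fin n → R) (i : Fin n) : comp S x i = algebraMap R S (x i) := rfl

theorem comp_toLin' (x : Fin n → R) :
    comp S (Matrix.toLin' e x) = Matrix.toLin' (e.map (algebraMap R S)) (comp S x) := by
  ext i
  rw [comp_apply, Matrix.toLin'_apply, Matrix.toLin'_apply]
  exact RingHom.map_mulVec (algebraMap R S) e x i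

variable (e) in
/-- restriction of the componentwise map to the ranges -/
def compP : P e →ₗ[R] P (e.map (algebraMap R S)) where
  toFun x := ⟨comp S x.1, by
    obtain ⟨x, y, rfl⟩ := x
    exact ⟨comp S y, (comp_toLin' S y).symm⟩⟩
  map_add' x y := by
    apply Subtype.ext
    simp
  map_smul' r x := by
    apply Subtype.ext
    simp

theorem compP_coe (x : P e) : (compP e S x : Fin n → S) = comp S x.1 := rfl

variable (e) in
/-- the comparison map -/
noncomputable def α : S ⊗[R] P e →ₗ[S] P (e.map (algebraMap R S)) :=
  LinearMap.liftBaseChange S (compP e S)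

theorem α_tmul (s : S) (x : P e) : α e S (s ⊗ₜ x) = s • compP e S x := by
  simp [α]

/-- the standard generators of the range -/
def gen (e : Matrix (Fin n) (Fin n) R) (j : Fin n) : P e := ⟨Matrix.toLin' e (Pi.single j 1), _, rfl⟩

variable (e) in
/-- the inverse map -/
noncomputable def β : P (e.map (algebraMap R S)) →ₗ[S] S ⊗[R] P e where
  toFun y := ∑ j, (y.1 j) ⊗ₜ[R] gen e j
  map_add' y z := by
    simp only [Submodule.coe_add, Pi.add_apply, TensorProduct.add_tmul, Finset.sum_add_distrib]
  map_smul' s y := by
    simp only [SetLike.val_smul, Pi.smul_apply, smul_eq_mul, RingHom.id_apply, Finset.smul_sum,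
      TensorProduct.smul_tmul', smul_eq_mul]

theorem mem_eq_sum (he : IsIdempotentElem e) (x : P e) : x = ∑ j, x.1 j • gen e j := by
  apply Subtype.ext
  rw [AddSubmonoidClass.coe_finsetSum]
  simp only [SetLike.val_smul, gen]
  conv_lhs => rw [← toLin'_of_mem he x.2, pi_eq_sum_univ' x.1, map_sum]
  refine Finset.sum_congr rfl fun j _ => ?_
  rw [← map_smul]

theorem β_α (he : IsIdempotentElem e) (t : S ⊗[R] P e) : β e S (α e S t) = t := by
  induction t using TensorProduct.induction_on with
  | zero => simp
  | tmul s x =>
    rw [α_tmul, map_smul]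
    change s • ∑ j, (comp S x.1 j) ⊗ₜ[R] gen e j = _
    conv_rhs => rw [mem_eq_sum he x, TensorProduct.tmul_sum]
    rw [Finset.smul_sum]
    refine Finset.sum_congr rfl fun j _ => ?_
    rw [comp_apply, TensorProduct.tmul_smul, TensorProduct.smul_tmul', TensorProduct.smul_tmul',
      Algebra.smul_def (x.1 j) s, smul_eq_mul, mul_comm]
  | add a b ha hb => rw [map_add, map_add, ha, hb]

theorem α_β (he : IsIdempotentElem e) (y : P (e.map (algebraMap R S))) :
    α e S (β e S y) = y := by
  have heS : IsIdempotentElem (e.map (algebraMap R S)) := by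
    change _ * _ = _
    rw [← Matrix.map_mul, he.eq]
  change α e S (∑ j, (y.1 j) ⊗ₜ[R] gen e j) = y
  rw [map_sum]
  simp only [α_tmul]
  conv_rhs => rw [mem_eq_sum heS y]
  refine Finset.sum_congr rfl fun j _ => ?_
  congr 1
  apply Subtype.ext
  rw [compP_coe]
  change comp S (Matrix.toLin' e (Pi.single j 1)) = Matrix.toLin' _ (Pi.single j 1)
  rw [comp_toLin']
  congr 1
  ext i
  rw [comp_apply]
  by_cases h : i = j
  · subst h; simp
  · simp [h]

/-- **Base change of the range of an idempotent matrix.** -/
noncomputable def baseChangeEquiv (he : IsIdempotentElem e) :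
    S ⊗[R] P e ≃ₗ[S] P (e.map (algebraMap R S)) :=
  LinearEquiv.ofLinearMap (α e S) (β e S) (LinearMap.ext (α_β S he)) (LinearMap.ext (β_α S he))

end baseChange

end Groth.Agent.Helper26.IdemRange

namespace Groth.Agent.Helper26.IdemRange

universe u

/-- a finite projective module is the range of an idempotent matrix -/
theorem exists_idem_equiv (R : Type u) [CommRing R] (Q : Type u) [AddCommGroup Q] [Module R Q]
    [Module.Finite R Q] [Module.Projective R Q] :
    ∃ (n : ℕ) (w : Matrix (Fin n) (Fin n) R), IsIdempotentElem w ∧ Nonempty (Q ≃ₗ[R] P w) := by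
  obtain ⟨n, f, g, hf, hg, hfg⟩ := Module.Finite.exists_comp_eq_id_of_projective R Q
  have hfg' : ∀ q, f (g q) = q := fun q ↦ LinearMap.congr_fun hfg q
  refine ⟨n, LinearMap.toMatrix' (g ∘ₗ f), ?_, ?_⟩
  · change _ * _ = _
    rw [← LinearMap.toMatrix'_comp]
    congr 1
    ext x
    simp [hfg']
  · have hrange : P (LinearMap.toMatrix' (g ∘ₗ f)) = LinearMap.range g := by
      change LinearMap.range (Matrix.toLin' (LinearMap.toMatrix' (g ∘ₗ f))) = _
      rw [Matrix.toLin'_toMatrix', LinearMap.range_comp, LinearMap.range_eq_top.2 hf,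
        Submodule.map_top]
    exact ⟨(LinearEquiv.ofInjective g hg).trans (LinearEquiv.ofEq _ _ hrange.symm)⟩

end Groth.Agent.Helper26.IdemRange
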