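import Mathlib
import Groth.Prelude.Def_Hens2
import Groth.Agent.Lib.Helper26.PHTransfer

/-!
# Descent of tensor identities from the henselization to an étale neighbourhood (helper26)
-/

set_option autoImplicit false
set_option linter.unusedSectionVars false

open TensorProduct Polynomial

namespace Groth.Agent.Helper26.PH.Desc

universe u

variable (A : Type u) [CommRing A] (I : Ideal A)

/-- the `i`-th neighbourhood ring, opaque to instance search -/
def Rg (i : Idx A I) : Type u := i.ring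

noncomputable instance (i : Idx A I) : CommRing (Rg A I i) := inferInstanceAs (CommRing i.ring)

noncomputable instance (i : Idx A I) : Algebra A (Rg A I i) := inferInstanceAs (Algebra A i.ring)

theorem Rg.isNbhd (i : Idx A I) : IsNbhd A I (Rg A I i) := i.isNbhd

/-- the coprojections -/
noncomputable def ι (i : Idx A I) : Rg A I i →ₐ[A] Colim A I := ιA A I i

variable {A I}

theorem ι_comp_apply {i j : Idx A I} (f : Rg A I i →ₐ[A] Rg A I j) (x : Rg A I i) :
    ι A I j (f x) = ι A I i x := ιA_comp_apply A I (i := i) (j := j) f x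

variable (A I)

theorem exists_join' (i j : Idx A I) :
    ∃ (k : Idx A I) (_ : Rg A I i →ₐ[A] Rg A I k) (_ : Rg A I j →ₐ[A] Rg A I k), True := by
  obtain ⟨k, f, g, -⟩ := exists_join A I i j
  exact ⟨k, f, g, trivial⟩

theorem ι_rep (b : Colim A I) : ∃ (i : Idx A I) (x : Rg A I i), ι A I i x = b := by
  obtain ⟨i, x, hx⟩ := ιA_rep A I b
  exact ⟨i, x, hx⟩

theorem ι_rep_fin (n : ℕ) (b : Fin n → Colim A I) :
    ∃ (i : Idx A I) (x : Fin n → Rg A I i), ∀ l, ι A I i (x l) = b l := by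
  obtain ⟨i, x, hx⟩ := exists_rep_fin A I n b
  exact ⟨i, x, hx⟩

theorem ι_eq_zero {i : Idx A I} (x : Rg A I i) (hx : ι A I i x = 0) :
    ∃ (k : Idx A I) (f : Rg A I i →ₐ[A] Rg A I k), f x = 0 := by
  obtain ⟨k, f, hf⟩ := ιA_eq_zero A I (i := i) x hx
  exact ⟨k, f, hf⟩

variable (B : Type u) [CommRing B] [Algebra A B]

/-- base change of `B` to the `i`-th neighbourhood -/
abbrev T (i : Idx A I) : Type u := B ⊗[A] Rg A I i

/-- base change of `B` to the henselization -/
abbrev TH : Type u := B ⊗[A] Colim A I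

variable {A I}

/-- transition maps -/
noncomputable def Tm {i j : Idx A I} (f : Rg A I i →ₐ[A] Rg A I j) : T A I B i →ₐ[B] T A I B j :=
  Algebra.TensorProduct.map (AlgHom.id B B) f

/-- coprojections -/
noncomputable def Tι (i : Idx A I) : T A I B i →ₐ[B] TH A I B :=
  Algebra.TensorProduct.map (AlgHom.id B B) (ι A I i)

@[simp] theorem Tm_tmul {i j : Idx A I} (f : Rg A I i →ₐ[A] Rg A I j) (b : B) (r : Rg A I i) :
    Tm B f (b ⊗ₜ[A] r) = b ⊗ₜ[A] f r := rfl

@[simp] theorem Tι_tmul (i : Idx A I) (b : B) (r : Rg A I i) :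
    Tι B i (b ⊗ₜ[A] r) = b ⊗ₜ[A] ι A I i r := rfl

theorem Tι_Tm {i j : Idx A I} (f : Rg A I i →ₐ[A] Rg A I j) (y : T A I B i) :
    Tι B j (Tm B f y) = Tι B i y := by
  induction y using TensorProduct.induction_on with
  | zero => simp
  | tmul b r => rw [Tm_tmul, Tι_tmul, Tι_tmul, ι_comp_apply]
  | add x y hx hy => rw [map_add, map_add, hx, hy, map_add]

theorem Tm_Tm {i j k : Idx A I} (f : Rg A I i →ₐ[A] Rg A I j) (g : Rg A I j →ₐ[A] Rg A I k)
    (y : T A I B i) : Tm B g (Tm B f y) = Tm B (g.comp f) y := by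
  induction y using TensorProduct.induction_on with
  | zero => simp
  | tmul b r => rfl
  | add x y hx hy => rw [map_add, map_add, hx, hy, map_add]

theorem Tm_smul {i j : Idx A I} (f : Rg A I i →ₐ[A] Rg A I j) (a : A) (y : T A I B i) :
    Tm B f (a • y) = a • Tm B f y := by
  rw [← algebraMap_smul B a y, map_smul, algebraMap_smul]

theorem Tι_smul (i : Idx A I) (a : A) (y : T A I B i) :
    Tι B i (a • y) = a • Tι B i y := by
  rw [← algebraMap_smul B a y, map_smul, algebraMap_smul]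

theorem Tm_mem {i j : Idx A I} (f : Rg A I i →ₐ[A] Rg A I j) {y : T A I B i}
    (hy : y ∈ I • (⊤ : Submodule A (T A I B i))) :
    Tm B f y ∈ I • (⊤ : Submodule A (T A I B j)) := by
  refine Submodule.smul_induction_on hy (fun a ha n _ => ?_) (fun x y hx hy => ?_)
  · rw [Tm_smul]
    exact Submodule.smul_mem_smul ha Submodule.mem_top
  · rw [map_add]
    exact Submodule.add_mem _ hx hy

variable (A I)

/-- finitely many elements killed in the colimit are killed at a finite stage -/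
theorem ι_eq_zero_fin {i : Idx A I} (s : Finset (Rg A I i)) (hs : ∀ x ∈ s, ι A I i x = 0) :
    ∃ (k : Idx A I) (f : Rg A I i →ₐ[A] Rg A I k), ∀ x ∈ s, f x = 0 := by
  classical
  induction s using Finset.induction_on with
  | empty => exact ⟨i, AlgHom.id A _, by simp⟩
  | insert x₀ s hx₀ ih =>
    obtain ⟨k, f, hf⟩ := ih (fun x hx => hs x (Finset.mem_insert_of_mem hx))
    have h0 : ι A I k (f x₀) = 0 := by
      rw [ι_comp_apply]; exact hs x₀ (Finset.mem_insert_self _ _)
    obtain ⟨k', f', hf'⟩ := ι_eq_zero A I (f x₀) h0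
    refine ⟨k', f'.comp f, ?_⟩
    intro x hx
    rcases Finset.mem_insert.1 hx with rfl | hx
    · exact hf'
    · change f' (f x) = 0
      rw [hf x hx, map_zero]

variable {A I}

/-- **Descent of vanishing.** -/
theorem Tι_eq_zero {i : Idx A I} (y : T A I B i) (hy : Tι B i y = 0) :
    ∃ (k : Idx A I) (f : Rg A I i →ₐ[A] Rg A I k), Tm B f y = 0 := by
  classical
  obtain ⟨S, hS⟩ := TensorProduct.exists_finset y
  let m : S → B := fun p => p.1.1
  let n : S → Colim A I := fun p => ι A I i p.1.2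
  have hflat : Module.Flat A (Colim A I) := flat (colim_isPairHenselization A I)
  have hmn : ∑ p, m p ⊗ₜ[A] n p = 0 := by
    rw [← hy, hS, map_sum, ← Finset.sum_coe_sort S]
    rfl
  have hv := TensorProduct.vanishesTrivially_of_sum_tmul_eq_zero_of_rTensor_injective (R := A)
    (Module.Flat.rTensor_preserves_injective_linearMap _ (Submodule.injective_subtype _)) hmn
  obtain ⟨κ, a, h, h1, h2⟩ := hv
  obtain ⟨i₁, x, hx⟩ := ι_rep_fin A I κ h
  obtain ⟨k₁, f, f₁, -⟩ := exists_join' A I i i₁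
  let u : S → Rg A I k₁ := fun p => f p.1.2 - ∑ j, a p j • f₁ (x j)
  have hu : ∀ p, ι A I k₁ (u p) = 0 := by
    intro p
    simp only [u, map_sub, map_sum, map_smul, ι_comp_apply, hx]
    rw [← h1 p]
    exact sub_self _
  obtain ⟨k, f', hf'⟩ := ι_eq_zero_fin A I (Finset.univ.image u) (by
    intro z hz
    obtain ⟨p, -, rfl⟩ := Finset.mem_image.1 hz
    exact hu p)
  have hf'' : ∀ p : S, f' (f p.1.2) = ∑ j, a p j • f' (f₁ (x j)) := by
    intro p
    have := hf' (u p) (Finset.mem_image_of_mem _ (Finset.mem_univ p))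
    simp only [u, map_sub, map_sum, map_smul] at this
    exact sub_eq_zero.1 this
  refine ⟨k, f'.comp f, ?_⟩
  rw [hS, map_sum, ← Finset.sum_coe_sort S]
  calc ∑ p : S, Tm B (f'.comp f) (p.1.1 ⊗ₜ[A] p.1.2)
      = ∑ p : S, ∑ j, (a p j • m p) ⊗ₜ[A] f' (f₁ (x j)) := by
        refine Finset.sum_congr rfl fun p _ => ?_
        rw [Tm_tmul, AlgHom.comp_apply, hf'' p, TensorProduct.tmul_sum]
        refine Finset.sum_congr rfl fun j _ => ?_
        rw [TensorProduct.tmul_smul, TensorProduct.smul_tmul']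
    _ = ∑ j, (∑ p : S, a p j • m p) ⊗ₜ[A] f' (f₁ (x j)) := by
        rw [Finset.sum_comm]
        refine Finset.sum_congr rfl fun j _ => ?_
        rw [TensorProduct.sum_tmul]
    _ = 0 := by
        refine Finset.sum_eq_zero fun j _ => ?_
        rw [h2 j, TensorProduct.zero_tmul]

/-- **Representation of elements.** -/
theorem Tι_rep (z : TH A I B) : ∃ (i : Idx A I) (y : T A I B i), Tι B i y = z := by
  induction z using TensorProduct.induction_on with
  | zero => exact ⟨idx₀ A I, 0, map_zero _⟩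
  | tmul b h =>
    obtain ⟨i, x, hx⟩ := ι_rep A I h
    exact ⟨i, b ⊗ₜ[A] x, by rw [Tι_tmul, hx]⟩
  | add z₁ z₂ h₁ h₂ =>
    obtain ⟨i₁, y₁, hy₁⟩ := h₁
    obtain ⟨i₂, y₂, hy₂⟩ := h₂
    obtain ⟨k, f₁, f₂, -⟩ := exists_join' A I i₁ i₂
    exact ⟨k, Tm B f₁ y₁ + Tm B f₂ y₂, by rw [map_add, Tι_Tm, Tι_Tm, hy₁, hy₂]⟩

theorem Tι_rep_above (i : Idx A I) (z : TH A I B) :
    ∃ (k : Idx A I) (_ : Rg A I i →ₐ[A] Rg A I k) (y : T A I B k), Tι B k y = z := by
  obtain ⟨j, y, hy⟩ := Tι_rep B z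
  obtain ⟨k, f, g, -⟩ := exists_join' A I i j
  exact ⟨k, f, Tm B g y, by rw [Tι_Tm, hy]⟩

/-- **Descent of membership in `I T`.** -/
theorem Tι_mem {i : Idx A I} (y : T A I B i)
    (hy : Tι B i y ∈ I • (⊤ : Submodule A (TH A I B))) :
    ∃ (k : Idx A I) (f : Rg A I i →ₐ[A] Rg A I k), Tm B f y ∈ I • (⊤ : Submodule A (T A I B k)) := by
  have key : ∀ w ∈ I • (⊤ : Submodule A (TH A I B)), ∀ (i : Idx A I) (y : T A I B i),
      Tι B i y = w → ∃ (k : Idx A I) (f : Rg A I i →ₐ[A] Rg A I k),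
        Tm B f y ∈ I • (⊤ : Submodule A (T A I B k)) := by
    intro w hw
    refine Submodule.smul_induction_on hw (fun a ha z _ => ?_) (fun w₁ w₂ h₁ h₂ => ?_)
    · intro i y hy
      obtain ⟨k, f, z', hz'⟩ := Tι_rep_above B i z
      have h0 : Tι B k (Tm B f y - a • z') = 0 := by
        rw [map_sub, Tι_Tm, hy, Tι_smul, hz', sub_self]
      obtain ⟨k', f', hf'⟩ := Tι_eq_zero B _ h0
      refine ⟨k', f'.comp f, ?_⟩
      rw [map_sub, sub_eq_zero, Tm_Tm, Tm_smul] at hf'
      rw [hf']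
      exact Submodule.smul_mem_smul ha Submodule.mem_top
    · intro i y hy
      obtain ⟨k₁, f₁, y₁, hy₁⟩ := Tι_rep_above B i w₁
      obtain ⟨k₂, f₂, hm₂⟩ := h₁ k₁ y₁ hy₁
      have h0 : Tι B k₂ (Tm B f₂ (Tm B f₁ y - y₁)) = w₂ := by
        rw [Tι_Tm, map_sub, Tι_Tm, hy, hy₁, add_sub_cancel_left]
      obtain ⟨k₃, f₃, hm₃⟩ := h₂ k₂ _ h0
      refine ⟨k₃, (f₃.comp f₂).comp f₁, ?_⟩
      have : Tm B ((f₃.comp f₂).comp f₁) y =
          Tm B f₃ (Tm B f₂ y₁) + Tm B f₃ (Tm B f₂ (Tm B f₁ y - y₁)) := by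
        rw [← map_add, ← map_add, add_sub_cancel, Tm_Tm, Tm_Tm]
      rw [this]
      exact Submodule.add_mem _ (Tm_mem B f₃ hm₂) hm₃
  exact key _ hy i y rfl

end Groth.Agent.Helper26.PH.Desc
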