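import Mathlib
import Groth.Agent.Lib.Helper26.NbDesc1
import Groth.Agent.Lib.Helper26.IdemRange
import Groth.Agent.Lib.Helper1.HPProj
import Groth.Agent.Lib.Helper1.HPEquiv

/-!
# Étale-local lifting of finite projective modules (helper26)
-/

set_option autoImplicit false
set_option linter.unusedSectionVars false
set_option linter.style.haveILetI false

open TensorProduct

namespace Groth.Agent.Helper26.PH.Desc

universe u

variable {A : Type u} [CommRing A] (I : Ideal A)

/-- membership in `I R'` can be tested in the henselization -/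
theorem mem_of_ι_mem (k : Idx A I) (x : Rg A I k)
    (hx : ι A I k x ∈ I.map (algebraMap A (Colim A I))) : x ∈ I.map (algebraMap A (Rg A I k)) := by
  have hN := Rg.isNbhd A I k
  obtain ⟨a, ha⟩ := hN.surj x
  have h1 : ι A I k (x - algebraMap A (Rg A I k) a) ∈ I.map (algebraMap A (Colim A I)) :=
    mem_map_algHom I (ι A I k) ha
  have h2 : algebraMap A (Colim A I) a ∈ I.map (algebraMap A (Colim A I)) := by
    have : algebraMap A (Colim A I) a = ι A I k x - ι A I k (x - algebraMap A (Rg A I k) a) := by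
      rw [map_sub, AlgHom.commutes]; ring
    rw [this]
    exact Ideal.sub_mem _ hx h1
  have h3 : a ∈ I :=
    (bij_iff.1 (quotientMap_bijective (colim_isPairHenselization A I))).1 a h2
  have : x = (x - algebraMap A (Rg A I k) a) + algebraMap A (Rg A I k) a := by ring
  rw [this]
  exact Ideal.add_mem _ ha (Ideal.mem_map_of_mem _ h3)

theorem exists_etale_lift_finite_projective (P : Type u)
    [AddCommGroup P] [Module (A ⧸ I) P] [Module.Finite (A ⧸ I) P] [Module.Projective (A ⧸ I) P] :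
    ∃ (A' : Type u) (_ : CommRing A') (_ : Algebra A A'), Algebra.Etale A A' ∧
      Function.Bijective (algebraMap (A ⧸ I) (A' ⧸ I.map (algebraMap A A'))) ∧
      ∃ (P' : Type u) (_ : AddCommGroup P') (_ : Module A' P'), Module.Finite A' P' ∧
        Module.Projective A' P' ∧
        Nonempty (((A' ⧸ I.map (algebraMap A A')) ⊗[A'] P') ≃ₗ[A' ⧸ I.map (algebraMap A A')]
          ((A' ⧸ I.map (algebraMap A A')) ⊗[A ⧸ I] P)) := by
  classical
  obtain ⟨n, w, hw, ⟨φ⟩⟩ := IdemRange.exists_idem_equiv (A ⧸ I) P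
  choose a ha using fun i j => Ideal.Quotient.mk_surjective (w i j)
  -- the henselization
  let Ah := Colim A I
  have hH : HenselianRing Ah (I.map (algebraMap A Ah)) := colim_henselian A I
  have hG : Groth.Agent.Helper1.GabberProp Ah (I.map (algebraMap A Ah)) :=
    Groth.Agent.Helper1.gabberProp_of_henselianRing
  let qh : A ⧸ I →+* Ah ⧸ I.map (algebraMap A Ah) :=
    Ideal.quotientMap (I.map (algebraMap A Ah)) (algebraMap A Ah) Ideal.le_comap_map
  have hwh : IsIdempotentElem (w.map qh) := hw.map qh.mapMatrix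
  obtain ⟨eh, heh, hehw⟩ := Groth.Agent.Helper1.exists_isIdempotentElem_matrix_lift hG _ hwh
  have hehmem : ∀ i j, eh i j - algebraMap A Ah (a i j) ∈ I.map (algebraMap A Ah) := by
    intro i j
    rw [← Ideal.Quotient.eq]
    have h1 : Ideal.Quotient.mk (I.map (algebraMap A Ah)) (eh i j) = qh (w i j) := by
      have := congrFun (congrFun hehw i) j
      exact this
    rw [h1, ← ha i j]
    rfl
  -- descend the entries
  let b : Fin (n * n) → Ah := fun l => eh (finProdFinEquiv.symm l).1 (finProdFinEquiv.symm l).2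
  obtain ⟨k, x, hx⟩ := ι_rep_fin A I (n * n) b
  let e₁ : Matrix (Fin n) (Fin n) (Rg A I k) := fun i j => x (finProdFinEquiv (i, j))
  have he₁ : ∀ i j, ι A I k (e₁ i j) = eh i j := by
    intro i j
    change ι A I k (x (finProdFinEquiv (i, j))) = _
    rw [hx]
    have h0 : finProdFinEquiv.symm (finProdFinEquiv (i, j)) = (i, j) :=
      Equiv.symm_apply_apply _ _
    change eh (finProdFinEquiv.symm (finProdFinEquiv (i, j))).1
      (finProdFinEquiv.symm (finProdFinEquiv (i, j))).2 = eh i j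
    rw [h0]
  have he₁map : e₁.map (ι A I k) = eh := by
    ext i j
    exact he₁ i j
  obtain ⟨z, hzdef⟩ : ∃ z : Matrix (Fin n) (Fin n) (Rg A I k), z = e₁ * e₁ - e₁ := ⟨_, rfl⟩
  have hz : ∀ i j, ι A I k (z i j) = 0 := by
    intro i j
    have h1 : z.map (ι A I k) = 0 := by
      have := (ι A I k : Rg A I k →+* Ah).mapMatrix.map_sub (e₁ * e₁) e₁
      have h2 : (e₁ * e₁ - e₁).map (ι A I k) = (e₁ * e₁).map (ι A I k) - e₁.map (ι A I k) := this
      rw [hzdef, h2, Matrix.map_mul, he₁map, heh.eq, sub_self]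
    exact congrFun (congrFun h1 i) j
  obtain ⟨k₂, f, hf⟩ := ι_eq_zero_fin A I
    (Finset.univ.image (fun p : Fin n × Fin n => z p.1 p.2)) (by
      intro y hy'
      obtain ⟨p, -, rfl⟩ := Finset.mem_image.1 hy'
      exact hz p.1 p.2)
  have hfz : ∀ i j, f (z i j) = 0 := by
    intro i j
    exact hf (z i j) (Finset.mem_image.2 ⟨(i, j), Finset.mem_univ _, rfl⟩)
  let e₂ : Matrix (Fin n) (Fin n) (Rg A I k₂) := e₁.map f
  have he₂ : IsIdempotentElem e₂ := by
    change e₂ * e₂ = e₂
    rw [← sub_eq_zero]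
    have h1 : e₂ * e₂ - e₂ = z.map f := by
      have := (f : Rg A I k →+* Rg A I k₂).mapMatrix.map_sub (e₁ * e₁) e₁
      have h2 : (e₁ * e₁ - e₁).map f = (e₁ * e₁).map f - e₁.map f := this
      rw [hzdef, h2, Matrix.map_mul]
    rw [h1]
    ext i j
    exact hfz i j
  have he₂ι : ∀ i j, ι A I k₂ (e₂ i j) = eh i j := by
    intro i j
    change ι A I k₂ (f (e₁ i j)) = _
    rw [ι_comp_apply, he₁]
  have he₂mem : ∀ i j, e₂ i j - algebraMap A (Rg A I k₂) (a i j) ∈
      I.map (algebraMap A (Rg A I k₂)) := by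
    intro i j
    apply mem_of_ι_mem
    rw [map_sub, he₂ι, AlgHom.commutes]
    exact hehmem i j
  have hN := Rg.isNbhd A I k₂
  refine ⟨Rg A I k₂, inferInstance, inferInstance, hN.etale, hN.bij, IdemRange.P e₂,
    inferInstance, inferInstance, IdemRange.finite_P, IdemRange.projective_P he₂, ?_⟩
  -- the comparison of reductions
  have hmat : e₂.map (algebraMap (Rg A I k₂) (Rg A I k₂ ⧸ I.map (algebraMap A (Rg A I k₂)))) =
      w.map (algebraMap (A ⧸ I) (Rg A I k₂ ⧸ I.map (algebraMap A (Rg A I k₂)))) := by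
    ext i j
    change Ideal.Quotient.mk _ (e₂ i j) = algebraMap (A ⧸ I) _ (w i j)
    rw [← ha i j, Ideal.Quotient.algebraMap_quotient_map_quotient, Ideal.Quotient.eq]
    exact he₂mem i j
  let E1 := IdemRange.baseChangeEquiv
    (Rg A I k₂ ⧸ I.map (algebraMap A (Rg A I k₂))) he₂
  let E2 := IdemRange.baseChangeEquiv
    (Rg A I k₂ ⧸ I.map (algebraMap A (Rg A I k₂))) hw
  let E3 : ((Rg A I k₂ ⧸ I.map (algebraMap A (Rg A I k₂))) ⊗[A ⧸ I] P) ≃ₗ[
      Rg A I k₂ ⧸ I.map (algebraMap A (Rg A I k₂))]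
      ((Rg A I k₂ ⧸ I.map (algebraMap A (Rg A I k₂))) ⊗[A ⧸ I] IdemRange.P w) :=
    TensorProduct.AlgebraTensorModule.congr (LinearEquiv.refl _ _) φ
  exact ⟨E1.trans ((LinearEquiv.ofEq _ _ (congrArg IdemRange.P hmat)).trans
    (E2.symm.trans E3.symm))⟩

end Groth.Agent.Helper26.PH.Desc
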