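import Mathlib

universe u

namespace Groth.Agent.Lib.Helper26.CycSeq1

variable {R : Type u} [CommRing R] (q : Ideal R) [q.IsPrime]

/-- Length of the localization at `q`. -/
noncomputable def ell (N : Type u) [AddCommGroup N] [Module R N] : ℕ∞ :=
  Module.length (Localization.AtPrime q) (LocalizedModule q.primeCompl N)

theorem ell_congr {N N' : Type u} [AddCommGroup N] [Module R N] [AddCommGroup N'] [Module R N']
    (e : N ≃ₗ[R] N') : ell q N = ell q N' := by
  unfold ell
  exact (IsLocalizedModule.mapEquiv q.primeCompl (LocalizedModule.mkLinearMap q.primeCompl N)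
    (LocalizedModule.mkLinearMap q.primeCompl N') (Localization.AtPrime q) e).length_eq

theorem ell_exact {N₁ N₂ N₃ : Type u} [AddCommGroup N₁] [Module R N₁] [AddCommGroup N₂]
    [Module R N₂] [AddCommGroup N₃] [Module R N₃] (f : N₁ →ₗ[R] N₂) (g : N₂ →ₗ[R] N₃)
    (hf : Function.Injective f) (hg : Function.Surjective g) (H : Function.Exact f g) :
    ell q N₂ = ell q N₁ + ell q N₃ := by
  unfold ell
  refine Module.length_eq_add_of_exact (LocalizedModule.map q.primeCompl f)
    (LocalizedModule.map q.primeCompl g) (LocalizedModule.map_injective _ f hf)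
    (LocalizedModule.map_surjective _ g hg) ?_
  have := LocalizedModule.map_exact q.primeCompl f g H
  intro y
  exact this y

theorem ell_eq_zero_of_subsingleton (N : Type u) [AddCommGroup N] [Module R N]
    [Subsingleton (LocalizedModule q.primeCompl N)] : ell q N = 0 :=
  Module.length_eq_zero

theorem ell_quotient (N : Type u) [AddCommGroup N] [Module R N] (A : Submodule R N) :
    ell q N = ell q A + ell q (N ⧸ A) :=
  ell_exact q A.subtype A.mkQ A.injective_subtype A.mkQ_surjective
    (LinearMap.exact_subtype_mkQ A)

theorem ell_submoduleOf (N : Type u) [AddCommGroup N] [Module R N] (A B : Submodule R N) :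
    ell q B = ell q (A.submoduleOf B) + ell q (↥B ⧸ A.submoduleOf B) :=
  ell_quotient q B (A.submoduleOf B)

theorem ell_submoduleOf' (N : Type u) [AddCommGroup N] [Module R N] (A B : Submodule R N)
    (h : A ≤ B) : ell q B = ell q A + ell q (↥B ⧸ A.submoduleOf B) := by
  rw [ell_submoduleOf q N A B]
  congr 1
  exact ell_congr q (Submodule.submoduleOfEquivOfLe h)

/-- `(R/q)_q` has length one. -/
theorem ell_quot_self : ell q (R ⧸ q) = 1 := by
  unfold ell
  rw [Module.length_eq_one_iff]
  -- simple module: nontrivial and every nonzero element generates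
  have hnt : Nontrivial (LocalizedModule q.primeCompl (R ⧸ q)) := by
    rw [← Module.mem_support_iff (p := ⟨q, inferInstance⟩), Module.support_eq_zeroLocus,
      PrimeSpectrum.mem_zeroLocus]
    intro r hr
    have : r • (1 : R ⧸ q) = 0 := Module.mem_annihilator.mp hr 1
    rw [Algebra.smul_def, mul_one] at this
    exact Ideal.Quotient.eq_zero_iff_mem.mp this
  refine isSimpleModule_iff_toSpanSingleton_surjective.mpr ⟨hnt, ?_⟩
  intro z hz
  induction z using LocalizedModule.induction_on with
  | h m s =>
    obtain ⟨a, rfl⟩ := Ideal.Quotient.mk_surjective m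
    have ha : a ∉ q := by
      intro ha
      apply hz
      rw [Ideal.Quotient.eq_zero_iff_mem.mpr ha, LocalizedModule.zero_mk]
    intro w
    induction w using LocalizedModule.induction_on with
    | h m' t =>
      obtain ⟨b, rfl⟩ := Ideal.Quotient.mk_surjective m'
      refine ⟨Localization.mk (b * s) (⟨a, ha⟩ * t), ?_⟩
      rw [LinearMap.toSpanSingleton_apply, LocalizedModule.mk_smul_mk, LocalizedModule.mk_eq]
      refine ⟨1, ?_⟩
      simp only [one_smul, Submonoid.smul_def, Submonoid.coe_mul, smul_eq_mul]
      rw [Algebra.smul_def, Algebra.smul_def, Algebra.smul_def]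
      simp only [Ideal.Quotient.algebraMap_eq, ← map_mul]
      congr 1
      ring

end Groth.Agent.Lib.Helper26.CycSeq1
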