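import Mathlib

universe u

namespace Groth.Agent.Lib.Helper26.LenA

open Function
open scoped Pointwise

section six

variable {R : Type*} [CommRing R] {A₁ A₂ A₃ A₄ A₅ A₆ : Type*}
  [AddCommGroup A₁] [Module R A₁] [AddCommGroup A₂] [Module R A₂] [AddCommGroup A₃] [Module R A₃]
  [AddCommGroup A₄] [Module R A₄] [AddCommGroup A₅] [Module R A₅] [AddCommGroup A₆] [Module R A₆]

theorem length_eq_ker_add_range (f : A₁ →ₗ[R] A₂) :
    Module.length R A₁ = Module.length R (LinearMap.ker f) + Module.length R (LinearMap.range f) :=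
  Module.length_eq_add_of_exact (LinearMap.ker f).subtype f.rangeRestrict
    (Submodule.subtype_injective _) f.surjective_rangeRestrict
    (LinearMap.exact_iff.mpr (by rw [LinearMap.ker_rangeRestrict, Submodule.range_subtype]))

theorem length_ker_eq_of_exact (f : A₁ →ₗ[R] A₂) (g : A₂ →ₗ[R] A₃) (h : Exact f g) :
    Module.length R (LinearMap.ker g) = Module.length R (LinearMap.range f) := by
  rw [LinearMap.exact_iff.mp h]

theorem six_term (a₁ : A₁ →ₗ[R] A₂) (a₂ : A₂ →ₗ[R] A₃) (a₃ : A₃ →ₗ[R] A₄) (a₄ : A₄ →ₗ[R] A₅)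
    (a₅ : A₅ →ₗ[R] A₆) (h0 : Injective a₁) (h1 : Exact a₁ a₂) (h2 : Exact a₂ a₃)
    (h3 : Exact a₃ a₄) (h4 : Exact a₄ a₅) (h5 : Surjective a₅) :
    Module.length R A₁ + Module.length R A₃ + Module.length R A₅ =
      Module.length R A₂ + Module.length R A₄ + Module.length R A₆ := by
  have e1 : Module.length R A₁ = Module.length R (LinearMap.range a₁) := by
    rw [length_eq_ker_add_range a₁, LinearMap.ker_eq_bot.mpr h0, Module.length_bot, zero_add]
  have e2 := length_eq_ker_add_range a₂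
  rw [length_ker_eq_of_exact a₁ a₂ h1] at e2
  have e3 := length_eq_ker_add_range a₃
  rw [length_ker_eq_of_exact a₂ a₃ h2] at e3
  have e4 := length_eq_ker_add_range a₄
  rw [length_ker_eq_of_exact a₃ a₄ h3] at e4
  have e5 := length_eq_ker_add_range a₅
  rw [length_ker_eq_of_exact a₄ a₅ h4] at e5
  have e6 : Module.length R (LinearMap.range a₅) = Module.length R A₆ := by
    rw [LinearMap.range_eq_top.mpr h5, Module.length_top]
  rw [e1, e2, e3, e4, e5, e6]
  ring

end six

section snake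

variable {R : Type*} [CommRing R] (x : R)

/-- multiplication by `x`. -/
abbrev mulx (N : Type*) [AddCommGroup N] [Module R N] : N →ₗ[R] N := LinearMap.lsmul R N x

/-- the `x`-torsion -/
abbrev K (N : Type*) [AddCommGroup N] [Module R N] : Submodule R N := LinearMap.ker (mulx x N)

theorem range_mulx (N : Type*) [AddCommGroup N] [Module R N] :
    LinearMap.range (mulx x N) = x • (⊤ : Submodule R N) := by
  ext n
  rw [LinearMap.mem_range, Submodule.mem_smul_pointwise_iff_exists]
  constructor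
  · rintro ⟨m, rfl⟩
    exact ⟨m, Submodule.mem_top, rfl⟩
  · rintro ⟨m, -, rfl⟩
    exact ⟨m, rfl⟩

theorem exact_mulx_mkQ (N : Type*) [AddCommGroup N] [Module R N] :
    Exact (mulx x N) (x • (⊤ : Submodule R N)).mkQ := by
  rw [LinearMap.exact_iff, Submodule.ker_mkQ, range_mulx]

variable {N₁ N₂ N₃ : Type*} [AddCommGroup N₁] [Module R N₁] [AddCommGroup N₂] [Module R N₂]
  [AddCommGroup N₃] [Module R N₃]

/-- induced map on torsion -/
def kerMap (f : N₁ →ₗ[R] N₂) : K x N₁ →ₗ[R] K x N₂ :=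
  f.restrict (fun n hn => by
    rw [LinearMap.mem_ker] at hn ⊢
    change x • f n = 0
    rw [← map_smul]
    change x • n = 0 at hn
    rw [hn, map_zero])

/-- induced map on cokernels -/
def cokMap (f : N₁ →ₗ[R] N₂) :
    (N₁ ⧸ x • (⊤ : Submodule R N₁)) →ₗ[R] (N₂ ⧸ x • (⊤ : Submodule R N₂)) :=
  Submodule.mapQ _ _ f (by
    intro n hn
    obtain ⟨m, -, rfl⟩ := (Submodule.mem_smul_pointwise_iff_exists _ _ _).mp hn
    rw [Submodule.mem_comap, map_smul]
    exact Submodule.smul_mem_pointwise_smul _ _ _ Submodule.mem_top)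

theorem snake_length (f : N₁ →ₗ[R] N₂) (g : N₂ →ₗ[R] N₃) (hf : Injective f) (hg : Surjective g)
    (H : Exact f g) :
    Module.length R (K x N₁) + Module.length R (K x N₃) +
        Module.length R (N₂ ⧸ x • (⊤ : Submodule R N₂)) =
      Module.length R (K x N₂) + Module.length R (N₁ ⧸ x • (⊤ : Submodule R N₁)) +
        Module.length R (N₃ ⧸ x • (⊤ : Submodule R N₃)) := by
  have h₁ : f.comp (mulx x N₁) = (mulx x N₂).comp f := by
    ext n; simp
  have h₂ : g.comp (mulx x N₂) = (mulx x N₃).comp g := by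
    ext n; simp
  have hι₂ := LinearMap.exact_subtype_ker_map (mulx x N₂)
  have hι₃ := LinearMap.exact_subtype_ker_map (mulx x N₃)
  have hπ₁ := exact_mulx_mkQ x N₁
  have hπ₂ := exact_mulx_mkQ x N₂
  have hF : g.comp (K x N₂).subtype = (K x N₃).subtype.comp (kerMap x g) := by
    ext n; rfl
  have hG : (cokMap x f).comp (x • (⊤ : Submodule R N₁)).mkQ =
      (x • (⊤ : Submodule R N₂)).mkQ.comp f := by
    ext n; rfl
  have E3 := SnakeLemma.exact_δ'_right (mulx x N₁) (mulx x N₂) (mulx x N₃) f g H f g H h₁ h₂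
    (K x N₂).subtype hι₂ (K x N₃).subtype hι₃ (x • (⊤ : Submodule R N₁)).mkQ hπ₁ hg hf
    (kerMap x g) hF (Submodule.subtype_injective _)
  have E4 := SnakeLemma.exact_δ'_left (mulx x N₁) (mulx x N₂) (mulx x N₃) f g H f g H h₁ h₂
    (K x N₃).subtype hι₃ (x • (⊤ : Submodule R N₁)).mkQ hπ₁ (x • (⊤ : Submodule R N₂)).mkQ hπ₂
    hg hf (cokMap x f) hG (Submodule.mkQ_surjective _)
  have E1 : Injective (kerMap x f) := by
    intro a b hab
    apply Subtype.ext
    apply hf
    exact congrArg Subtype.val hab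
  have E2 : Exact (kerMap x f) (kerMap x g) := by
    intro k₂
    constructor
    · intro hk
      have hk' : g k₂.1 = 0 := congrArg Subtype.val hk
      obtain ⟨n₁, hn₁⟩ := (H k₂.1).mp hk'
      have hx : x • n₁ = 0 := by
        apply hf
        rw [map_smul, hn₁, map_zero]
        exact k₂.2
      exact ⟨⟨n₁, hx⟩, Subtype.ext hn₁⟩
    · rintro ⟨k₁, rfl⟩
      apply Subtype.ext
      exact H.apply_apply_eq_zero k₁.1
  have E5 : Exact (cokMap x f) (cokMap x g) := by
    intro c₂
    constructor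
    · intro hc
      obtain ⟨n₂, rfl⟩ := Submodule.mkQ_surjective _ c₂
      have hc' : (x • (⊤ : Submodule R N₃)).mkQ (g n₂) = 0 := hc
      rw [Submodule.mkQ_apply, Submodule.Quotient.mk_eq_zero] at hc'
      obtain ⟨n₃, -, hn₃⟩ := (Submodule.mem_smul_pointwise_iff_exists _ _ _).mp hc'
      obtain ⟨n₂', rfl⟩ := hg n₃
      have : g (n₂ - x • n₂') = 0 := by
        rw [map_sub, map_smul, hn₃, sub_self]
      obtain ⟨n₁, hn₁⟩ := (H _).mp this
      refine ⟨(x • (⊤ : Submodule R N₁)).mkQ n₁, ?_⟩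
      change (x • (⊤ : Submodule R N₂)).mkQ (f n₁) = _
      rw [hn₁, map_sub, sub_eq_self, Submodule.mkQ_apply, Submodule.Quotient.mk_eq_zero]
      exact Submodule.smul_mem_pointwise_smul _ _ _ Submodule.mem_top
    · rintro ⟨c₁, rfl⟩
      obtain ⟨n₁, rfl⟩ := Submodule.mkQ_surjective _ c₁
      change (x • (⊤ : Submodule R N₃)).mkQ (g (f n₁)) = 0
      rw [H.apply_apply_eq_zero, map_zero]
  have E6 : Surjective (cokMap x g) := by
    intro c₃
    obtain ⟨n₃, rfl⟩ := Submodule.mkQ_surjective _ c₃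
    obtain ⟨n₂, rfl⟩ := hg n₃
    exact ⟨(x • (⊤ : Submodule R N₂)).mkQ n₂, rfl⟩
  have := six_term (kerMap x f) (kerMap x g) _ (cokMap x f) (cokMap x g) E1 E2 E3 E4 E5 E6
  rw [this]

end snake

end Groth.Agent.Lib.Helper26.LenA
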