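import Mathlib
import Groth.Agent.Lib.Helper26.LenA
import Groth.Agent.Lib.Helper26.CycSeq1

universe u

namespace Groth.Agent.Lib.Helper26.LenB

open Function IsLocalRing Groth.Agent.Lib.Helper26.LenA Groth.Agent.Lib.Helper26.CycSeq1
open scoped Pointwise

variable {R : Type u} [CommRing R]

section fl

variable {M : Type*} [AddCommGroup M] [Module R M]

/-- (after Helper5.HS2) a finite module over a noetherian ring whose support consists of maximal
ideals has finite length. -/
theorem isFiniteLength_of_support [IsNoetherianRing R] [Module.Finite R M]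
    (h : ∀ p ∈ Module.support R M, p.asIdeal.IsMaximal) : IsFiniteLength R M := by
  let _ : Module (R ⧸ Module.annihilator R M) M := Module.quotientAnnihilator
  have : IsScalarTower R (R ⧸ Module.annihilator R M) M :=
    ⟨fun a b m => by
      obtain ⟨b, rfl⟩ := Ideal.Quotient.mk_surjective b
      rw [Algebra.smul_def, Ideal.Quotient.algebraMap_eq, ← map_mul]
      change (a * b) • m = a • (b • m)
      rw [mul_smul]⟩
  have : IsArtinianRing (R ⧸ Module.annihilator R M) := by
    rw [isArtinianRing_iff_krullDimLE_zero, Ring.krullDimLE_zero_iff]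
    intro P hP
    have h1 : (P.comap (Ideal.Quotient.mk (Module.annihilator R M))).IsMaximal := by
      apply h ⟨P.comap (Ideal.Quotient.mk _), inferInstance⟩
      rw [Module.mem_support_iff_of_finite]
      intro a ha
      rw [Ideal.mem_comap, Ideal.Quotient.eq_zero_iff_mem.mpr ha]
      exact zero_mem _
    have h2 := Ideal.map_eq_top_or_isMaximal_of_surjective
      (Ideal.Quotient.mk (Module.annihilator R M)) Ideal.Quotient.mk_surjective h1
    rw [Ideal.map_comap_of_surjective _ Ideal.Quotient.mk_surjective] at h2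
    exact h2.resolve_left hP.ne_top
  have : Module.Finite (R ⧸ Module.annihilator R M) M :=
    Module.Finite.of_restrictScalars_finite R _ M
  have h1 : IsFiniteLength (R ⧸ Module.annihilator R M) M :=
    isFiniteLength_iff_isNoetherian_isArtinian.mpr ⟨inferInstance, inferInstance⟩
  rw [← Module.length_ne_top_iff] at h1 ⊢
  rwa [Module.length_eq_of_surjective (S := R) (R := R ⧸ Module.annihilator R M)
    Ideal.Quotient.mk_surjective]

end fl

variable [IsLocalRing R]

section dim

variable (M : Type*) [AddCommGroup M] [Module R M]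

theorem eq_maximal_of_supportDim_le_zero (h : Module.supportDim R M ≤ 0) :
    ∀ p ∈ Module.support R M, p.asIdeal = maximalIdeal R := by
  intro p hp
  by_contra hne
  have hle : p ≤ closedPoint R := IsLocalRing.le_maximalIdeal p.2.ne_top
  have hlt : p < closedPoint R := lt_of_le_of_ne hle (fun h' => hne (by rw [h']; rfl))
  have hc : closedPoint R ∈ Module.support R M := Module.mem_support_mono hle hp
  have : 0 < Module.supportDim R M := by
    rw [Module.supportDim, Order.krullDim_pos_iff]
    exact ⟨⟨p, hp⟩, ⟨closedPoint R, hc⟩, hlt⟩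
  exact absurd h (not_le.mpr this)

theorem eq_maximal_of_lt_of_supportDim_le_one (h : Module.supportDim R M ≤ 1) :
    ∀ q ∈ Module.support R M, ∀ p ∈ Module.support R M, q < p → p.asIdeal = maximalIdeal R := by
  intro q hq p hp hqp
  rw [Module.supportDim, Order.krullDim_le_one_iff] at h
  have hle : p ≤ closedPoint R := IsLocalRing.le_maximalIdeal p.2.ne_top
  have hc : closedPoint R ∈ Module.support R M := Module.mem_support_mono hle hp
  rcases h ⟨p, hp⟩ with hmin | hmax
  · have h1 : (⟨p, hp⟩ : Module.support R M) ≤ ⟨q, hq⟩ := hmin (b := ⟨q, hq⟩) hqp.le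
    exact absurd (lt_of_lt_of_le hqp h1) (lt_irrefl _)
  · have := hmax (b := ⟨closedPoint R, hc⟩) hle
    have h' : p = closedPoint R := le_antisymm hle this
    rw [h']; rfl

end dim

section S

variable [IsNoetherianRing R] (x : R)

/-- one term of the sum -/
noncomputable def Sterm (N : Type u) [AddCommGroup N] [Module R N] (p : PrimeSpectrum R) : ℕ∞ :=
  Ring.ord (R ⧸ p.asIdeal) (Ideal.Quotient.mk p.asIdeal x) *
    Module.length (Localization.AtPrime p.asIdeal) (LocalizedModule p.asIdeal.primeCompl N)

/-- the sum in the statement -/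
noncomputable def S (N : Type u) [AddCommGroup N] [Module R N] : ℕ∞ :=
  ∑ᶠ (p : PrimeSpectrum R)
    (_ : p ∈ Module.support R N ∧ p.asIdeal ≠ maximalIdeal R), Sterm x N p

theorem Sterm_eq (N : Type u) [AddCommGroup N] [Module R N] (p : PrimeSpectrum R) :
    Sterm x N p = Ring.ord (R ⧸ p.asIdeal) (Ideal.Quotient.mk p.asIdeal x) * ell p.asIdeal N := rfl

theorem mem_support_of_Sterm_ne_zero (N : Type u) [AddCommGroup N] [Module R N]
    (p : PrimeSpectrum R) (h : Sterm x N p ≠ 0) : p ∈ Module.support R N := by
  rw [Module.mem_support_iff]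
  by_contra hcon
  rw [not_nontrivial_iff_subsingleton] at hcon
  apply h
  rw [Sterm, Module.length_eq_zero, mul_zero]

variable (Z : Set (PrimeSpectrum R)) (T : Finset (PrimeSpectrum R))
  (hT : ∀ p, p ∈ T ↔ (p ∈ Z ∧ p.asIdeal ≠ maximalIdeal R))

include hT in
theorem S_eq_sum (N : Type u) [AddCommGroup N] [Module R N] (hN : Module.support R N ⊆ Z) :
    S x N = ∑ p ∈ T, Sterm x N p := by
  rw [← finsum_mem_coe_finset]
  unfold S
  refine finsum_mem_inter_support_eq (Sterm x N)
    {p | p ∈ Module.support R N ∧ p.asIdeal ≠ maximalIdeal R} (↑T) ?_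
  ext p
  constructor
  · rintro ⟨⟨h1, h2⟩, h3⟩
    exact ⟨(hT p).mpr ⟨hN h1, h2⟩, h3⟩
  · rintro ⟨h1, h3⟩
    exact ⟨⟨mem_support_of_Sterm_ne_zero x N p h3, ((hT p).mp h1).2⟩, h3⟩

include hT in
theorem S_exact {N₁ N₂ N₃ : Type u} [AddCommGroup N₁] [Module R N₁] [AddCommGroup N₂]
    [Module R N₂] [AddCommGroup N₃] [Module R N₃] (f : N₁ →ₗ[R] N₂) (g : N₂ →ₗ[R] N₃)
    (hf : Injective f) (hg : Surjective g) (H : Exact f g) (hN : Module.support R N₂ ⊆ Z) :
    S x N₂ = S x N₁ + S x N₃ := by
  rw [S_eq_sum x Z T hT N₂ hN,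
    S_eq_sum x Z T hT N₁ ((Module.support_subset_of_injective f hf).trans hN),
    S_eq_sum x Z T hT N₃ ((Module.support_subset_of_surjective g hg).trans hN),
    ← Finset.sum_add_distrib]
  refine Finset.sum_congr rfl (fun p _ => ?_)
  rw [Sterm_eq, Sterm_eq, Sterm_eq, ell_exact p.asIdeal f g hf hg H, mul_add]

end S

section finite

variable [IsNoetherianRing R] (M : Type*) [AddCommGroup M] [Module R M] [Module.Finite R M]

theorem finite_nonmaximal_support
    (hB : ∀ q ∈ Module.support R M, ∀ p ∈ Module.support R M, q < p →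
      p.asIdeal = maximalIdeal R) :
    {p : PrimeSpectrum R | p ∈ Module.support R M ∧ p.asIdeal ≠ maximalIdeal R}.Finite := by
  have hfin := Ideal.finite_minimalPrimes_of_isNoetherianRing R (Module.annihilator R M)
  refine (hfin.preimage (f := PrimeSpectrum.asIdeal) ?_).subset ?_
  · intro p _ q _ hpq
    exact PrimeSpectrum.ext hpq
  · rintro p ⟨hp, hpm⟩
    rw [Set.mem_preimage]
    refine ⟨⟨p.2, (Module.mem_support_iff_of_finite.mp hp)⟩, ?_⟩
    rintro q ⟨hq, hIq⟩ hqp
    have hq' : (⟨q, hq⟩ : PrimeSpectrum R) ∈ Module.support R M :=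
      Module.mem_support_iff_of_finite.mpr hIq
    by_contra hnle
    have hlt : (⟨q, hq⟩ : PrimeSpectrum R) < p := lt_of_le_not_ge hqp hnle
    exact hpm (hB _ hq' p hp hlt)

end finite

section KC

variable [IsNoetherianRing R] (x : R) (Z : Set (PrimeSpectrum R))
  (hA : ∀ p ∈ Z, x ∈ p.asIdeal → p.asIdeal = maximalIdeal R)

include hA in
theorem length_C_ne_top (N : Type*) [AddCommGroup N] [Module R N] [Module.Finite R N]
    (hN : Module.support R N ⊆ Z) :
    Module.length R (N ⧸ x • (⊤ : Submodule R N)) ≠ ⊤ := by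
  rw [Module.length_ne_top_iff]
  apply isFiniteLength_of_support
  intro p hp
  have hp' : p ∈ Module.support R (QuotSMulTop x N) := hp
  rw [Module.support_quotSMulTop] at hp'
  have : p.asIdeal = maximalIdeal R := hA p (hN hp'.1) (by
    have := hp'.2
    rw [PrimeSpectrum.mem_zeroLocus, Set.singleton_subset_iff] at this
    exact this)
  rw [this]
  infer_instance

include hA in
theorem length_K_ne_top (N : Type*) [AddCommGroup N] [Module R N] [Module.Finite R N]
    (hN : Module.support R N ⊆ Z) :
    Module.length R (K x N) ≠ ⊤ := by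
  rw [Module.length_ne_top_iff]
  apply isFiniteLength_of_support
  intro p hp
  have h1 : p ∈ Module.support R N :=
    Module.support_subset_of_injective (K x N).subtype (Submodule.subtype_injective _) hp
  have h2 : x ∈ p.asIdeal := by
    apply Module.annihilator_le_of_mem_support hp
    rw [Module.mem_annihilator]
    intro k
    apply Subtype.ext
    exact k.2
  rw [hA p (hN h1) h2]
  infer_instance

end KC

end Groth.Agent.Lib.Helper26.LenB
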