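import Mathlib
import Groth.Agent.Lib.Helper26.SmoothLift4

set_option autoImplicit false
set_option linter.unusedSectionVars false
set_option linter.style.haveILetI false

open CategoryTheory CategoryTheory.Limits AlgebraicGeometry

namespace Groth.Agent.Helper26.SmoothSec

universe u

/-- sections of smooth algebras over henselian local rings lift from the residue field -/
theorem exists_section (A : Type u) [CommRing A] [HenselianLocalRing A] (T : Type u) [CommRing T]
    [Algebra A T] [Algebra.Smooth A T] (χ : T →ₐ[A] IsLocalRing.ResidueField A) :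
    ∃ ρ : T →ₐ[A] A, ∀ t, IsLocalRing.residue A (ρ t) = χ t := by
  haveI : HenselianRing A (IsLocalRing.maximalIdeal A) := inferInstance
  obtain ⟨τ, hτ⟩ := SmoothLift.exists_lift_of_smooth A (IsLocalRing.maximalIdeal A) T χ
  exact ⟨τ, fun t => DFunLike.congr_fun hτ t⟩

theorem exists_sec (R : Type u) [CommRing R] [HenselianLocalRing R] {X : Scheme.{u}}
    (f : X ⟶ Spec (CommRingCat.of R)) [Smooth f]
    (t : Spec (CommRingCat.of (IsLocalRing.ResidueField R)) ⟶ X)
    (ht : t ≫ f = Spec.map (CommRingCat.ofHom (IsLocalRing.residue R))) :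
    ∃ s : Spec (CommRingCat.of R) ⟶ X,
      s ≫ f = 𝟙 (Spec (CommRingCat.of R)) ∧
        Spec.map (CommRingCat.ofHom (IsLocalRing.residue R)) ≫ s = t := by
  classical
  let pt : Spec (CommRingCat.of (IsLocalRing.ResidueField R)) := default
  let x : X := t.base pt
  obtain ⟨U, hU, hxU⟩ : ∃ U : X.Opens, IsAffineOpen U ∧ x ∈ U := by
    obtain ⟨_, ⟨U, hU, rfl⟩, hxU, -⟩ :=
      X.isBasis_affineOpens.exists_subset_of_mem_open (Set.mem_univ x) isOpen_univ
    exact ⟨U, hU, hxU⟩
  have hrange : Set.range t.base ⊆ Set.range U.ι.base := by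
    rintro _ ⟨y, rfl⟩
    have : y = pt := Subsingleton.elim _ _
    rw [this]
    simpa using hxU
  let t' : Spec (CommRingCat.of (IsLocalRing.ResidueField R)) ⟶ U.toScheme :=
    IsOpenImmersion.lift U.ι t hrange
  have ht' : t' ≫ U.ι = t := IsOpenImmersion.lift_fac _ _ _
  -- the ring maps
  let φ : CommRingCat.of R ⟶ Γ(X, U) := Spec.preimage (hU.fromSpec ≫ f)
  have hφ : Spec.map φ = hU.fromSpec ≫ f := Spec.map_preimage _
  let χ0 : Γ(X, U) ⟶ CommRingCat.of (IsLocalRing.ResidueField R) :=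
    Spec.preimage (t' ≫ hU.isoSpec.hom)
  have hχ0 : Spec.map χ0 = t' ≫ hU.isoSpec.hom := Spec.map_preimage _
  have hcomp : φ ≫ χ0 = CommRingCat.ofHom (IsLocalRing.residue R) := by
    apply Spec.map_injective
    rw [Spec.map_comp, hφ, hχ0, Category.assoc, ← Category.assoc hU.isoSpec.hom,
      hU.isoSpec_hom_fromSpec, ← Category.assoc, ht', ht]
  have hSm : φ.hom.Smooth := by
    have : Smooth (Spec.map φ) := by rw [hφ]; infer_instance
    exact (HasRingHomProperty.Spec_iff (P := @Smooth)).mp this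
  let _ : Algebra R Γ(X, U) := φ.hom.toAlgebra
  have hSm' : Algebra.Smooth R Γ(X, U) := hSm
  let χ : Γ(X, U) →ₐ[R] IsLocalRing.ResidueField R :=
    { χ0.hom with
      commutes' := fun r => by
        have := congrArg (fun ψ => ψ.hom r) hcomp
        exact this }
  obtain ⟨ρ, hρ⟩ := exists_section R Γ(X, U) χ
  have hρφ : φ ≫ CommRingCat.ofHom ρ.toRingHom = 𝟙 _ := by
    ext r
    exact ρ.commutes r
  have hρχ : CommRingCat.ofHom ρ.toRingHom ≫ CommRingCat.ofHom (IsLocalRing.residue R) = χ0 := by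
    ext b
    exact hρ b
  refine ⟨Spec.map (CommRingCat.ofHom ρ.toRingHom) ≫ hU.fromSpec, ?_, ?_⟩
  · rw [Category.assoc, ← hφ, ← Spec.map_comp, hρφ, Spec.map_id]
  · rw [← Category.assoc, ← Spec.map_comp, hρχ, hχ0, Category.assoc, hU.isoSpec_hom_fromSpec, ht']

end Groth.Agent.Helper26.SmoothSec
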