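import Mathlib
import Groth.Prelude.Def_Hens2
import Groth.Agent.Lib.Helper26.SmoothLift4
import Groth.Agent.Lib.Helper26.NbDesc1

/-!
# Lifting sections of smooth algebras to étale neighbourhoods (helper26)
-/

set_option autoImplicit false
set_option linter.unusedSectionVars false
set_option linter.style.haveILetI false

namespace Groth.Agent.Helper26.SmoothLift

universe u
open MvPolynomial TensorProduct
open Groth.Agent.Helper26.PH

/-- elements of a neighbourhood mapping into `I·Aʰ` lie in the extended ideal -/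
theorem mem_map_of_ι_mem {A : Type u} [CommRing A] (I : Ideal A) (i : Idx A I)
    (x : Desc.Rg A I i)
    (hx : Desc.ι A I i x ∈ I.map (algebraMap A (Colim A I))) :
    x ∈ I.map (algebraMap A (Desc.Rg A I i)) := by
  have hB := colim_isPairHenselization A I
  have hN := Desc.Rg.isNbhd A I i
  obtain ⟨r₀, hr₀⟩ := hN.surj x
  have h1 : Desc.ι A I i (x - algebraMap A _ r₀) ∈ I.map (algebraMap A (Colim A I)) := by
    have h2 : I.map (algebraMap A (Desc.Rg A I i)) ≤
        (I.map (algebraMap A (Colim A I))).comap (Desc.ι A I i).toRingHom := by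
      rw [Ideal.map_le_iff_le_comap]
      intro r hr
      rw [Ideal.mem_comap, Ideal.mem_comap]
      change Desc.ι A I i (algebraMap A _ r) ∈ _
      rw [AlgHom.commutes]
      exact Ideal.mem_map_of_mem _ hr
    exact h2 hr₀
  rw [map_sub, AlgHom.commutes] at h1
  have h3 : algebraMap A (Colim A I) r₀ ∈ I.map (algebraMap A (Colim A I)) := by
    have := Ideal.sub_mem _ hx h1
    rwa [sub_sub_cancel] at this
  have h4 : r₀ ∈ I := (bij_iff.1 (quotientMap_bijective hB)).1 r₀ h3
  have h5 : x = (x - algebraMap A _ r₀) + algebraMap A _ r₀ := by ring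
  rw [h5]
  exact Ideal.add_mem _ hr₀ (Ideal.mem_map_of_mem _ h4)

/-- **Sections of smooth algebras lift to étale neighbourhoods.** -/
theorem exists_etale_lift_of_smooth {A B : Type u} [CommRing A] [CommRing B] [Algebra A B]
    [Algebra.Smooth A B] (I : Ideal A) (σ : B →ₐ[A] A ⧸ I) :
    ∃ (A' : Type u) (_ : CommRing A') (_ : Algebra A A'), Algebra.Etale A A' ∧
      Function.Bijective (algebraMap (A ⧸ I) (A' ⧸ I.map (algebraMap A A'))) ∧
      ∃ τ : B →ₐ[A] A', ∀ b : B,
        Ideal.Quotient.mk (I.map (algebraMap A A')) (τ b) =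
          algebraMap (A ⧸ I) (A' ⧸ I.map (algebraMap A A')) (σ b) := by
  classical
  have hB := colim_isPairHenselization A I
  haveI : HenselianRing (Colim A I) (I.map (algebraMap A (Colim A I))) := hB.1
  -- the section into the henselization
  let κ : A ⧸ I →ₐ[A] Colim A I ⧸ I.map (algebraMap A (Colim A I)) :=
    Ideal.Quotient.liftₐ I ((Ideal.Quotient.mkₐ A _).comp (Algebra.ofId A (Colim A I))) (by
      intro r hr
      change Ideal.Quotient.mk _ (algebraMap A (Colim A I) r) = 0
      rw [Ideal.Quotient.eq_zero_iff_mem]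
      exact Ideal.mem_map_of_mem _ hr)
  have hκ : ∀ r : A, κ (Ideal.Quotient.mk I r) =
      Ideal.Quotient.mk _ (algebraMap A (Colim A I) r) := fun r => rfl
  obtain ⟨τh, hτh⟩ := exists_lift_of_smooth' A B (Colim A I)
    (I.map (algebraMap A (Colim A I))) (κ.comp σ)
  have hτh' : ∀ b : B, Ideal.Quotient.mk _ (τh b) = κ (σ b) := fun b => DFunLike.congr_fun hτh b
  -- a presentation of `B`
  obtain ⟨n, φ, hφ, hfg⟩ := (Algebra.FinitePresentation.out : ∃ (n : ℕ)
    (f : MvPolynomial (Fin n) A →ₐ[A] B), Function.Surjective f ∧ (RingHom.ker f.toRingHom).FG)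
  obtain ⟨s, hs⟩ := hfg
  -- representatives of the images of the variables
  obtain ⟨i, x, hx⟩ := Desc.ι_rep_fin A I n (fun j => τh (φ (X j)))
  have hcomp : ∀ p : MvPolynomial (Fin n) A,
      Desc.ι A I i (MvPolynomial.aeval x p) = τh (φ p) := by
    intro p
    have h1 : (Desc.ι A I i).comp (MvPolynomial.aeval x) = τh.comp φ := by
      apply MvPolynomial.algHom_ext
      intro j
      simp only [AlgHom.comp_apply, MvPolynomial.aeval_X]
      exact hx j
    exact DFunLike.congr_fun h1 p
  have hkill : ∀ z ∈ s.image (fun p => MvPolynomial.aeval x p), Desc.ι A I i z = 0 := by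
    intro z hz
    obtain ⟨p, hp, rfl⟩ := Finset.mem_image.1 hz
    rw [hcomp]
    have h1 : p ∈ RingHom.ker φ.toRingHom := by
      rw [← hs]
      exact Ideal.subset_span hp
    have h2 : φ p = 0 := h1
    rw [h2, map_zero]
  obtain ⟨k, f, hf⟩ := Desc.ι_eq_zero_fin A I (s.image (fun p => MvPolynomial.aeval x p)) hkill
  let x'' : Fin n → Desc.Rg A I k := fun j => f (x j)
  have hx'' : ∀ p : MvPolynomial (Fin n) A,
      MvPolynomial.aeval x'' p = f (MvPolynomial.aeval x p) := by
    intro p
    have h1 : (MvPolynomial.aeval x'' : MvPolynomial (Fin n) A →ₐ[A] _) =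
        f.comp (MvPolynomial.aeval x) := by
      apply MvPolynomial.algHom_ext
      intro j
      simp [x'']
    exact DFunLike.congr_fun h1 p
  have hker : ∀ p : MvPolynomial (Fin n) A, p ∈ RingHom.ker φ.toRingHom →
      (MvPolynomial.aeval x'' : MvPolynomial (Fin n) A →ₐ[A] Desc.Rg A I k) p = 0 := by
    have h1 : RingHom.ker φ.toRingHom ≤
        RingHom.ker (MvPolynomial.aeval x'' : MvPolynomial (Fin n) A →ₐ[A] Desc.Rg A I k).toRingHom := by
      rw [← hs, Ideal.span_le]
      intro p hp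
      rw [SetLike.mem_coe, RingHom.mem_ker]
      change MvPolynomial.aeval x'' p = 0
      rw [hx'']
      exact hf _ (Finset.mem_image_of_mem _ hp)
    intro p hp
    exact h1 hp
  let τ₀ : (MvPolynomial (Fin n) A ⧸ RingHom.ker φ.toRingHom) →ₐ[A] Desc.Rg A I k :=
    Ideal.Quotient.liftₐ _ (MvPolynomial.aeval x'') hker
  let e : (MvPolynomial (Fin n) A ⧸ RingHom.ker φ.toRingHom) ≃ₐ[A] B :=
    Ideal.quotientKerAlgEquivOfSurjective hφ
  let τ : B →ₐ[A] Desc.Rg A I k := τ₀.comp (e.symm : B →ₐ[A] _)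
  have hτφ : ∀ p : MvPolynomial (Fin n) A, τ (φ p) = MvPolynomial.aeval x'' p := by
    intro p
    have h1 : e.symm (φ p) = Ideal.Quotient.mk _ p := by
      rw [AlgEquiv.symm_apply_eq]
      rfl
    change τ₀ (e.symm (φ p)) = _
    rw [h1]
    rfl
  have hιτ : ∀ b : B, Desc.ι A I k (τ b) = τh b := by
    intro b
    obtain ⟨p, rfl⟩ := hφ b
    rw [hτφ, hx'', Desc.ι_comp_apply, hcomp]
  have hN := Desc.Rg.isNbhd A I k
  refine ⟨Desc.Rg A I k, inferInstance, inferInstance, hN.etale, hN.bij, τ, ?_⟩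
  intro b
  obtain ⟨r, hr⟩ := Ideal.Quotient.mk_surjective (σ b)
  rw [← hr, Ideal.Quotient.algebraMap_quotient_map_quotient, Ideal.Quotient.eq]
  apply mem_map_of_ι_mem I k
  rw [map_sub, AlgHom.commutes, hιτ, ← Ideal.Quotient.eq, hτh', ← hr, hκ]

end Groth.Agent.Helper26.SmoothLift
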