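import Mathlib

set_option autoImplicit false

namespace Groth.Agent.Helper26.InvSwap

universe u v

variable {R : Type u} {M : Type v} [CommRing R] [AddCommGroup M] [Module R M]

theorem exists_gen_at_prime [Module.Invertible R M] (p : Ideal R) [p.IsPrime] :
    ∃ m : M, ∀ x : M, ∃ c : R, c ∉ p ∧ ∃ a : R, c • x = a • m := by
  have hfree : Module.Free (Localization.AtPrime p) (LocalizedModule p.primeCompl M) :=
    inferInstance
  obtain ⟨e⟩ := (Module.Invertible.free_iff_linearEquiv).1 hfree
  obtain ⟨m, s, hms⟩ : ∃ (m : M) (s : p.primeCompl), e.symm 1 = LocalizedModule.mk m s := by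
    induction e.symm 1 using LocalizedModule.induction_on with
    | h m s => exact ⟨m, s, rfl⟩
  refine ⟨m, fun x => ?_⟩
  obtain ⟨a, t, hat⟩ : ∃ (a : R) (t : p.primeCompl),
      e (LocalizedModule.mk x 1) = Localization.mk a t := by
    induction e (LocalizedModule.mk x 1) using Localization.induction_on with
    | H y => exact ⟨y.1, y.2, rfl⟩
  have h1 : LocalizedModule.mk x 1 = (Localization.mk a t) • LocalizedModule.mk m s := by
    rw [← hms, ← map_smul e.symm, smul_eq_mul, mul_one, ← hat, LinearEquiv.symm_apply_apply]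
  rw [LocalizedModule.mk_smul_mk, LocalizedModule.mk_eq] at h1
  obtain ⟨v, hv⟩ := h1
  refine ⟨(v : R) * ((t : R) * (s : R)), ?_, (v : R) * a, ?_⟩
  · exact (v * (t * s)).2
  · rw [mul_smul, mul_smul]
    convert hv using 1
    · simp [Submonoid.smul_def, mul_smul]
    · simp [Submonoid.smul_def, mul_smul]

/-- In an invertible module, `f x • y = f y • x`. -/
theorem swap [Module.Invertible R M] (f : M →ₗ[R] R) (x y : M) : f x • y = f y • x := by
  rw [← sub_eq_zero]
  set u := f x • y - f y • x with hu
  by_contra hne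
  have hann : (Submodule.span R {u}).annihilator ≠ ⊤ := by
    intro h
    apply hne
    have h1 : (1 : R) ∈ (Submodule.span R {u}).annihilator := by rw [h]; trivial
    have := (Submodule.mem_annihilator_span_singleton _ _).1 h1
    simpa using this
  obtain ⟨p, hp, hle⟩ := Ideal.exists_le_maximal _ hann
  have : p.IsPrime := hp.isPrime
  obtain ⟨m, hm⟩ := exists_gen_at_prime (M := M) p
  obtain ⟨c, hc, a, hca⟩ := hm x
  obtain ⟨c', hc', a', hca'⟩ := hm y
  have h2 : (c * c') • u = 0 := by
    rw [hu, smul_sub]
    have e1 : (c * c') • f x • y = f (c • x) • (c' • y) := by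
      rw [map_smul, smul_eq_mul, smul_smul, smul_smul]; ring_nf
    have e2 : (c * c') • f y • x = f (c' • y) • (c • x) := by
      rw [map_smul, smul_eq_mul, smul_smul, smul_smul]; ring_nf
    rw [e1, e2, hca, hca', map_smul, map_smul, smul_eq_mul, smul_eq_mul, smul_smul, smul_smul]
    rw [sub_eq_zero]
    ring_nf
  have h3 : c * c' ∈ (Submodule.span R {u}).annihilator :=
    (Submodule.mem_annihilator_span_singleton _ _).2 h2
  exact (hp.isPrime.mul_mem_iff_mem_or_mem.1 (hle h3)).elim hc hc'

end Groth.Agent.Helper26.InvSwap
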