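import Mathlib
import Groth.Prelude.Def_EtRam

namespace Groth.Agent.Lib.Helper26.Tame1

universe u
open IsLocalRing

section general

variable {A : Type u} [CommRing A] [IsLocalRing A] {L : Type u} [Field L]

lemma mem_maximalIdeal_iff_valuation (V : ValuationSubring L) (x : L) (hx : x ∈ V) :
    (⟨x, hx⟩ : V) ∈ maximalIdeal V ↔ V.valuation x < 1 :=
  V.valuation_lt_one_iff ⟨x, hx⟩

theorem isLocalHom_of_dominates (g : A →+* L) (V : ValuationSubring L)
    (h : EtRam.Dominates A g V) : IsLocalHom (RingHom.codRestrict g V h.1) := by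
  constructor
  intro a ha
  by_contra hna
  have hm : a ∈ maximalIdeal A := (IsLocalRing.mem_maximalIdeal a).2 hna
  have h1 := h.2 a hm
  have h2 : (RingHom.codRestrict g V h.1 a) ∈ maximalIdeal V :=
    (mem_maximalIdeal_iff_valuation V (g a) (h.1 a)).2 h1
  exact (IsLocalRing.mem_maximalIdeal _).1 h2 ha

end general

section DVR

variable (A K : Type u) [CommRing A] [IsDomain A] [IsDiscreteValuationRing A] [Field K]
  [Algebra A K] [IsFractionRing A K]
  (L : Type u) [Field L] [Algebra K L] [Algebra A L] [IsScalarTower A K L]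
  [FiniteDimensional K L] [Algebra.IsSeparable K L]

include K in
theorem algebraMap_injective : Function.Injective (algebraMap A L) := by
  rw [IsScalarTower.algebraMap_eq A K L]
  exact (algebraMap K L).injective.comp (IsFractionRing.injective A K)

include K in
theorem isDVR_of_dominates (V : ValuationSubring L) (h : EtRam.Dominates A (algebraMap A L) V) :
    IsDiscreteValuationRing V := by
  have hDed : IsDedekindDomain (integralClosure A L) := integralClosure.isDedekindDomain A K L
  have hFrac : IsFractionRing (integralClosure A L) L :=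
    IsIntegralClosure.isFractionRing_of_finite_extension A K L (integralClosure A L)
  -- B ⊂ V
  have hBV : ∀ b : integralClosure A L, (algebraMap (integralClosure A L) L b) ∈ V := by
    intro b
    have hb : IsIntegral A (b : L) := b.2
    have h1 : (V.toSubring.subtype.comp
        (RingHom.codRestrict (algebraMap A L) V.toSubring h.1)).IsIntegralElem (b : L) := hb
    have h2 : V.toSubring.subtype.IsIntegralElem (b : L) := RingHom.IsIntegralElem.of_comp h1
    exact LocalSubring.mem_of_isMax_of_isIntegral V.isMax_toLocalSubring h2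
  let ι : integralClosure A L →+* V :=
    RingHom.codRestrict (algebraMap (integralClosure A L) L) V hBV
  obtain ⟨𝔪, h𝔪⟩ : ∃ 𝔪 : Ideal (integralClosure A L), 𝔪 = (maximalIdeal V).comap ι := ⟨_, rfl⟩
  have hmem𝔪 : ∀ b, b ∈ 𝔪 ↔ ι b ∈ maximalIdeal V := by intro b; rw [h𝔪]; rfl
  have h𝔪prime : 𝔪.IsPrime := by rw [h𝔪]; exact Ideal.comap_isPrime _ _
  have h𝔪bot : 𝔪 ≠ ⊥ := by
    obtain ⟨ϖ, hϖ⟩ := IsDiscreteValuationRing.exists_irreducible A
    have hϖm : ϖ ∈ maximalIdeal A := (IsLocalRing.mem_maximalIdeal _).2 hϖ.not_isUnit
    intro hbot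
    have hmem : algebraMap A (integralClosure A L) ϖ ∈ 𝔪 := by
      rw [hmem𝔪]
      exact (mem_maximalIdeal_iff_valuation V _ _).2 (h.2 ϖ hϖm)
    rw [hbot, Ideal.mem_bot] at hmem
    have h0 : algebraMap A L ϖ = 0 := by
      have := congrArg (algebraMap (integralClosure A L) L) hmem
      rwa [map_zero, ← IsScalarTower.algebraMap_apply] at this
    exact hϖ.ne_zero (algebraMap_injective A K L (h0.trans (map_zero _).symm))
  have hunits : ∀ y : 𝔪.primeCompl, IsUnit (ι y) := by
    intro y
    by_contra hy
    have : ι y ∈ maximalIdeal V := (IsLocalRing.mem_maximalIdeal _).2 hy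
    exact y.2 ((hmem𝔪 _).2 this)
  have hDVR : IsDiscreteValuationRing (Localization.AtPrime 𝔪) :=
    IsLocalization.AtPrime.isDiscreteValuationRing_of_dedekind_domain (integralClosure A L)
      h𝔪bot (Localization.AtPrime 𝔪)
  let f : Localization.AtPrime 𝔪 →+* V := IsLocalization.lift (M := 𝔪.primeCompl) (g := ι) hunits
  let _ : Algebra (Localization.AtPrime 𝔪) L := (V.subtype.comp f).toAlgebra
  have hST : IsScalarTower (integralClosure A L) (Localization.AtPrime 𝔪) L :=
    IsScalarTower.of_algebraMap_eq (fun b => by
      change algebraMap (integralClosure A L) L b = V.subtype (f (algebraMap _ _ b))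
      rw [IsLocalization.lift_eq]
      rfl)
  have hFracD : IsFractionRing (Localization.AtPrime 𝔪) L :=
    IsFractionRing.isFractionRing_of_isDomain_of_isLocalization 𝔪.primeCompl
      (Localization.AtPrime 𝔪) L
  have hloc : IsLocalHom f := by
    constructor
    intro d hd
    obtain ⟨b, s, rfl⟩ := IsLocalization.exists_mk'_eq 𝔪.primeCompl d
    rw [IsLocalization.AtPrime.isUnit_mk'_iff]
    intro hb
    have h1 : f (IsLocalization.mk' (Localization.AtPrime 𝔪) b s) * ι s = ι b := by
      have := congrArg f (IsLocalization.mk'_spec (Localization.AtPrime 𝔪) b s)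
      rwa [map_mul, IsLocalization.lift_eq, IsLocalization.lift_eq] at this
    have h2 : IsUnit (ι b) := by rw [← h1]; exact hd.mul (hunits s)
    exact (IsLocalRing.mem_maximalIdeal _).1 ((hmem𝔪 b).1 hb) h2
  have bij := bijective_rangeRestrict_comp_of_valuationRing (R := Localization.AtPrime 𝔪)
    (S := V) (K := L) f V.subtype rfl
  have hfbij : Function.Bijective f := by
    constructor
    · have h1 : Function.Injective (V.subtype.rangeRestrict ∘ f) := bij.1
      exact Function.Injective.of_comp h1
    · intro v
      obtain ⟨d, hd⟩ := bij.2 (V.subtype.rangeRestrict v)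
      refine ⟨d, ?_⟩
      have := congrArg Subtype.val hd
      exact Subtype.ext this
  exact IsDiscreteValuationRing.RingEquivClass.isDiscreteValuationRing (RingEquiv.ofBijective f hfbij)

end DVR

end Groth.Agent.Lib.Helper26.Tame1
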