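import Mathlib
import Groth.Prelude.Def_EtRam

namespace Groth.Agent.Lib.Helper26.Tame2

universe u
open IsLocalRing

section abstract

variable {A V W : Type u} [CommRing A] [CommRing V] [CommRing W]
  [Algebra A V] [Algebra V W] [Algebra A W] [IsScalarTower A V W]

/-- residue field tower -/
theorem residue_tower [IsLocalRing A] [IsLocalRing V] [IsLocalRing W]
    [IsLocalHom (algebraMap A V)] [IsLocalHom (algebraMap V W)] [IsLocalHom (algebraMap A W)] :
    IsScalarTower (ResidueField A) (ResidueField V) (ResidueField W) := by
  apply IsScalarTower.of_algebraMap_eq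
  intro x
  obtain ⟨a, rfl⟩ := IsLocalRing.residue_surjective x
  rw [IsLocalRing.ResidueField.algebraMap_residue, IsLocalRing.ResidueField.algebraMap_residue,
    IsLocalRing.ResidueField.algebraMap_residue, ← IsScalarTower.algebraMap_apply]

variable [IsDomain A] [IsDomain V] [IsDomain W]
  [IsDiscreteValuationRing A] [IsDiscreteValuationRing V] [IsDiscreteValuationRing W]

theorem map_maximalIdeal_ne_bot (hinj : Function.Injective (algebraMap A V)) :
    (maximalIdeal A).map (algebraMap A V) ≠ ⊥ := by
  rw [Ne, Ideal.map_eq_bot_iff_of_injective hinj]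
  exact IsDiscreteValuationRing.not_a_field A

theorem ramificationIdx_tower (hAV : Function.Injective (algebraMap A V))
    (hVW : Function.Injective (algebraMap V W)) [IsLocalHom (algebraMap V W)] :
    Ideal.ramificationIdx' (maximalIdeal A) (maximalIdeal W) =
      Ideal.ramificationIdx' (maximalIdeal A) (maximalIdeal V) *
        Ideal.ramificationIdx' (maximalIdeal V) (maximalIdeal W) := by
  have hAW : Function.Injective (algebraMap A W) := by
    rw [IsScalarTower.algebraMap_eq A V W]; exact hVW.comp hAV
  apply Ideal.ramificationIdx'_algebra_tower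
  · exact map_maximalIdeal_ne_bot hVW
  · exact map_maximalIdeal_ne_bot hAW
  · exact ((IsLocalRing.local_hom_TFAE (algebraMap V W)).out 0 2).1 ‹_›

theorem weaklyUnramified_iff (hAV : Function.Injective (algebraMap A V))
    [IsLocalHom (algebraMap A V)] :
    EtRam.IsWeaklyUnramified A V ↔
      Ideal.ramificationIdx' (maximalIdeal A) (maximalIdeal V) = 1 := by
  have hanti : StrictAnti (fun n : ℕ => maximalIdeal V ^ n) :=
    Ideal.pow_right_strictAnti (maximalIdeal V) (IsDiscreteValuationRing.not_a_field V)
      (Ideal.IsMaximal.ne_top inferInstance)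
  have hnle : ∀ n : ℕ, ¬ maximalIdeal V ^ n ≤ maximalIdeal V ^ (n + 1) := fun n hle =>
    absurd (hanti (Nat.lt_succ_self n)) (not_lt_of_ge hle)
  constructor
  · intro h
    apply Ideal.ramificationIdx'_spec
    · rw [pow_one]; exact le_of_eq h
    · rw [h]
      have := hnle 1
      rwa [pow_one] at this
  · intro h
    obtain ⟨ϖ, hϖ⟩ := IsDiscreteValuationRing.exists_irreducible V
    obtain ⟨n, hn⟩ := IsDiscreteValuationRing.ideal_eq_span_pow_irreducible
      (map_maximalIdeal_ne_bot hAV) hϖ
    have hm : maximalIdeal V = Ideal.span {ϖ} := hϖ.maximalIdeal_eq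
    have hn' : (maximalIdeal A).map (algebraMap A V) = maximalIdeal V ^ n := by
      rw [hn, hm, Ideal.span_singleton_pow]
    have he : Ideal.ramificationIdx' (maximalIdeal A) (maximalIdeal V) = n := by
      apply Ideal.ramificationIdx'_spec
      · exact le_of_eq hn'
      · rw [hn']; exact hnle n
    rw [h] at he
    show (maximalIdeal A).map (algebraMap A V) = maximalIdeal V
    rw [hn', ← he, pow_one]

end abstract

end Groth.Agent.Lib.Helper26.Tame2
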