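import Mathlib
import Groth.Prelude.Def_EtRam
import Groth.Agent.Lib.Helper26.Tame1
import Groth.Agent.Lib.Helper26.Tame2

namespace Groth.Agent.Lib.Helper26.Tame3

universe u
open IsLocalRing Groth.Agent.Lib.Helper26.Tame1 Groth.Agent.Lib.Helper26.Tame2

section dom

variable {L M : Type u} [Field L] [Field M] [Algebra L M]

lemma valuation_lt_one_iff' (V : ValuationSubring L) (x : L) :
    V.valuation x < 1 ↔ x = 0 ∨ x⁻¹ ∉ V := by
  by_cases hx : x = 0
  · simp [hx]
  · have h0 : 0 < V.valuation x := zero_lt_iff.2 ((Valuation.ne_zero_iff _).2 hx)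
    rw [← V.valuation_le_one_iff, map_inv₀, inv_le_one₀ h0, not_le]
    simp [hx]

variable {A : Type u} [CommRing A] [IsLocalRing A]

theorem dominates_trans (g : A →+* L) (V : ValuationSubring L) (W : ValuationSubring M)
    (hV : EtRam.Dominates A g V)
    (hVW : EtRam.Dominates V ((algebraMap L M).comp V.subtype) W) :
    EtRam.Dominates A ((algebraMap L M).comp g) W := by
  refine ⟨fun a => hVW.1 ⟨g a, hV.1 a⟩, fun a ha => ?_⟩
  have : (⟨g a, hV.1 a⟩ : V) ∈ maximalIdeal V :=
    (mem_maximalIdeal_iff_valuation V _ _).2 (hV.2 a ha)
  exact hVW.2 _ this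

theorem exists_dominating (V : ValuationSubring L) :
    ∃ W : ValuationSubring M, EtRam.Dominates V ((algebraMap L M).comp V.subtype) W := by
  obtain ⟨W, h, hloc⟩ := IsLocalRing.exists_factor_valuationRing
    ((algebraMap L M).comp V.subtype)
  refine ⟨W, h, fun v hv => ?_⟩
  rw [← mem_maximalIdeal_iff_valuation W _ (h v), IsLocalRing.mem_maximalIdeal]
  intro hu
  exact (IsLocalRing.mem_maximalIdeal _).1 hv (hloc.map_nonunit _ hu)

theorem comap_dominates (W : ValuationSubring M) :
    EtRam.Dominates (W.comap (algebraMap L M))
      ((algebraMap L M).comp (W.comap (algebraMap L M)).subtype) W := by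
  refine ⟨fun v => v.2, fun v hv => ?_⟩
  have h1 : (W.comap (algebraMap L M)).valuation v.1 < 1 :=
    (mem_maximalIdeal_iff_valuation _ v.1 v.2).1 hv
  rw [valuation_lt_one_iff'] at h1 ⊢
  rcases h1 with h1 | h1
  · left; simp [h1]
  · right
    intro hmem
    apply h1
    rw [ValuationSubring.mem_comap, map_inv₀]
    exact hmem

theorem dominates_comap (g : A →+* L) (W : ValuationSubring M)
    (hW : EtRam.Dominates A ((algebraMap L M).comp g) W) :
    EtRam.Dominates A g (W.comap (algebraMap L M)) := by
  refine ⟨fun a => hW.1 a, fun a ha => ?_⟩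
  have h1 := hW.2 a ha
  rw [valuation_lt_one_iff'] at h1 ⊢
  rcases h1 with h1 | h1
  · left
    exact (algebraMap L M).injective (h1.trans (map_zero _).symm)
  · right
    intro hmem
    apply h1
    rw [ValuationSubring.mem_comap, map_inv₀] at hmem
    exact hmem

end dom

section main

variable (A K : Type u) [CommRing A] [IsDomain A] [IsDiscreteValuationRing A] [Field K]
  [Algebra A K] [IsFractionRing A K]
  (L M : Type u) [Field L] [Field M] [Algebra K L] [Algebra K M] [Algebra L M]
  [IsScalarTower K L M]
  [Algebra A L] [Algebra A M] [IsScalarTower A K L] [IsScalarTower A K M] [IsScalarTower A L M]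
  [FiniteDimensional K M] [Algebra.IsSeparable K M]

include K in
theorem tame_sub (hM : EtRam.IsTamelyRamified A (algebraMap A M)) :
    EtRam.IsTamelyRamified A (algebraMap A L) := by
  have : FiniteDimensional K L := FiniteDimensional.left K L M
  have : Algebra.IsSeparable K L := Algebra.isSeparable_tower_bot_of_isSeparable K L M
  intro V hV
  obtain ⟨W, hVW⟩ := exists_dominating (M := M) V
  have hW : EtRam.Dominates A (algebraMap A M) W := by
    have := dominates_trans (algebraMap A L) V W hV hVW
    rwa [← IsScalarTower.algebraMap_eq A L M] at this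
  have hVdvr := isDVR_of_dominates A K L V hV
  have hWdvr := isDVR_of_dominates A K M W hW
  let _ : Algebra A V := (RingHom.codRestrict (algebraMap A L) V hV.1).toAlgebra
  let _ : Algebra A W := (RingHom.codRestrict (algebraMap A M) W hW.1).toAlgebra
  let _ : Algebra V W := (RingHom.codRestrict ((algebraMap L M).comp V.subtype) W hVW.1).toAlgebra
  have hST : IsScalarTower A V W := IsScalarTower.of_algebraMap_eq
    (fun a => Subtype.ext (IsScalarTower.algebraMap_apply A L M a))
  have l2 : IsLocalHom (algebraMap A W) := isLocalHom_of_dominates _ W hW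
  have l3 : IsLocalHom (algebraMap V W) := isLocalHom_of_dominates _ W hVW
  intro l1
  obtain ⟨hsep, hram⟩ := hM W hW
  have hAV : Function.Injective (algebraMap A V) := fun a b hab =>
    algebraMap_injective A K L (congrArg Subtype.val hab)
  have hVWinj : Function.Injective (algebraMap V W) := fun a b hab =>
    Subtype.ext ((algebraMap L M).injective (congrArg Subtype.val hab))
  have hRT := residue_tower (A := A) (V := V) (W := W)
  refine ⟨Algebra.isSeparable_tower_bot_of_isSeparable (ResidueField A) (ResidueField V)
    (ResidueField W), fun p hp hchar hdvd => ?_⟩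
  apply hram p hp hchar
  rw [ramificationIdx_tower (A := A) (V := V) (W := W) hAV hVWinj]
  exact Dvd.dvd.mul_right hdvd _

include K in
theorem unram_sub (hM : EtRam.IsUnramifiedExt A (algebraMap A M)) :
    EtRam.IsUnramifiedExt A (algebraMap A L) := by
  have : FiniteDimensional K L := FiniteDimensional.left K L M
  have : Algebra.IsSeparable K L := Algebra.isSeparable_tower_bot_of_isSeparable K L M
  intro V hV
  obtain ⟨W, hVW⟩ := exists_dominating (M := M) V
  have hW : EtRam.Dominates A (algebraMap A M) W := by
    have := dominates_trans (algebraMap A L) V W hV hVW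
    rwa [← IsScalarTower.algebraMap_eq A L M] at this
  have hVdvr := isDVR_of_dominates A K L V hV
  have hWdvr := isDVR_of_dominates A K M W hW
  let _ : Algebra A V := (RingHom.codRestrict (algebraMap A L) V hV.1).toAlgebra
  let _ : Algebra A W := (RingHom.codRestrict (algebraMap A M) W hW.1).toAlgebra
  let _ : Algebra V W := (RingHom.codRestrict ((algebraMap L M).comp V.subtype) W hVW.1).toAlgebra
  have hST : IsScalarTower A V W := IsScalarTower.of_algebraMap_eq
    (fun a => Subtype.ext (IsScalarTower.algebraMap_apply A L M a))
  have l2 : IsLocalHom (algebraMap A W) := isLocalHom_of_dominates _ W hW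
  have l3 : IsLocalHom (algebraMap V W) := isLocalHom_of_dominates _ W hVW
  intro l1
  obtain ⟨hwu, hsep⟩ := hM W hW
  have hAV : Function.Injective (algebraMap A V) := fun a b hab =>
    algebraMap_injective A K L (congrArg Subtype.val hab)
  have hVWinj : Function.Injective (algebraMap V W) := fun a b hab =>
    Subtype.ext ((algebraMap L M).injective (congrArg Subtype.val hab))
  have hAW : Function.Injective (algebraMap A W) := fun a b hab =>
    algebraMap_injective A K M (congrArg Subtype.val hab)
  have hRT := residue_tower (A := A) (V := V) (W := W)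
  refine ⟨?_, Algebra.isSeparable_tower_bot_of_isSeparable (ResidueField A) (ResidueField V)
    (ResidueField W)⟩
  rw [weaklyUnramified_iff hAW, ramificationIdx_tower (A := A) (V := V) (W := W) hAV hVWinj] at hwu
  rw [weaklyUnramified_iff hAV]
  exact Nat.dvd_one.mp ⟨_, hwu.symm⟩

include K in
theorem tame_comp (hL : EtRam.IsTamelyRamified A (algebraMap A L))
    (hML : ∀ V : ValuationSubring L, EtRam.Dominates A (algebraMap A L) V →
      EtRam.IsTamelyRamified V ((algebraMap L M).comp V.subtype)) :
    EtRam.IsTamelyRamified A (algebraMap A M) := by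
  have : FiniteDimensional K L := FiniteDimensional.left K L M
  have : Algebra.IsSeparable K L := Algebra.isSeparable_tower_bot_of_isSeparable K L M
  intro W hW
  obtain ⟨V, hVdef⟩ : ∃ V : ValuationSubring L, V = W.comap (algebraMap L M) := ⟨_, rfl⟩
  have hV : EtRam.Dominates A (algebraMap A L) V := by
    rw [hVdef]
    apply dominates_comap
    rwa [← IsScalarTower.algebraMap_eq A L M]
  have hVW : EtRam.Dominates V ((algebraMap L M).comp V.subtype) W := by
    subst hVdef
    exact comap_dominates W
  have hVdvr := isDVR_of_dominates A K L V hV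
  have hWdvr := isDVR_of_dominates A K M W hW
  let _ : Algebra A V := (RingHom.codRestrict (algebraMap A L) V hV.1).toAlgebra
  let _ : Algebra A W := (RingHom.codRestrict (algebraMap A M) W hW.1).toAlgebra
  let _ : Algebra V W := (RingHom.codRestrict ((algebraMap L M).comp V.subtype) W hVW.1).toAlgebra
  have hST : IsScalarTower A V W := IsScalarTower.of_algebraMap_eq
    (fun a => Subtype.ext (IsScalarTower.algebraMap_apply A L M a))
  have l1 : IsLocalHom (algebraMap A V) := isLocalHom_of_dominates _ V hV
  have l3 : IsLocalHom (algebraMap V W) := isLocalHom_of_dominates _ W hVW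
  intro l2
  obtain ⟨hsep1, hram1⟩ := hL V hV
  obtain ⟨hsep2, hram2⟩ := hML V hV W hVW
  have hAV : Function.Injective (algebraMap A V) := fun a b hab =>
    algebraMap_injective A K L (congrArg Subtype.val hab)
  have hVWinj : Function.Injective (algebraMap V W) := fun a b hab =>
    Subtype.ext ((algebraMap L M).injective (congrArg Subtype.val hab))
  have hRT := residue_tower (A := A) (V := V) (W := W)
  refine ⟨Algebra.IsSeparable.trans (ResidueField A) (ResidueField V) (ResidueField W),
    fun p hp hchar hdvd => ?_⟩
  have hcharV : CharP (ResidueField V) p :=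
    charP_of_injective_algebraMap (algebraMap (ResidueField A) (ResidueField V)).injective p
  rw [ramificationIdx_tower (A := A) (V := V) (W := W) hAV hVWinj] at hdvd
  rcases (Nat.Prime.dvd_mul hp).1 hdvd with h | h
  · exact hram1 p hp hchar h
  · exact hram2 p hp hcharV h

include K in
theorem unram_comp (hL : EtRam.IsUnramifiedExt A (algebraMap A L))
    (hML : ∀ V : ValuationSubring L, EtRam.Dominates A (algebraMap A L) V →
      EtRam.IsUnramifiedExt V ((algebraMap L M).comp V.subtype)) :
    EtRam.IsUnramifiedExt A (algebraMap A M) := by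
  intro W hW
  obtain ⟨V, hVdef⟩ : ∃ V : ValuationSubring L, V = W.comap (algebraMap L M) := ⟨_, rfl⟩
  have hV : EtRam.Dominates A (algebraMap A L) V := by
    rw [hVdef]
    apply dominates_comap
    rwa [← IsScalarTower.algebraMap_eq A L M]
  have hVW : EtRam.Dominates V ((algebraMap L M).comp V.subtype) W := by
    subst hVdef
    exact comap_dominates W
  let _ : Algebra A V := (RingHom.codRestrict (algebraMap A L) V hV.1).toAlgebra
  let _ : Algebra A W := (RingHom.codRestrict (algebraMap A M) W hW.1).toAlgebra
  let _ : Algebra V W := (RingHom.codRestrict ((algebraMap L M).comp V.subtype) W hVW.1).toAlgebra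
  have hST : IsScalarTower A V W := IsScalarTower.of_algebraMap_eq
    (fun a => Subtype.ext (IsScalarTower.algebraMap_apply A L M a))
  have l1 : IsLocalHom (algebraMap A V) := isLocalHom_of_dominates _ V hV
  have l3 : IsLocalHom (algebraMap V W) := isLocalHom_of_dominates _ W hVW
  intro l2
  obtain ⟨hwu1, hsep1⟩ := hL V hV
  obtain ⟨hwu2, hsep2⟩ := hML V hV W hVW
  have hRT := residue_tower (A := A) (V := V) (W := W)
  refine ⟨?_, Algebra.IsSeparable.trans (ResidueField A) (ResidueField V) (ResidueField W)⟩
  show (maximalIdeal A).map (algebraMap A W) = maximalIdeal W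
  rw [IsScalarTower.algebraMap_eq A V W, ← Ideal.map_map]
  have h1 : (maximalIdeal A).map (algebraMap A V) = maximalIdeal V := hwu1
  have h2 : (maximalIdeal V).map (algebraMap V W) = maximalIdeal W := hwu2
  rw [h1, h2]

end main

end Groth.Agent.Lib.Helper26.Tame3
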