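import Mathlib
import Groth.Agent.Lib.Helper26.MvHens2

namespace Groth.Agent.Helper26.MvHens

open MvPolynomial

universe u

theorem main (A : Type u) [CommRing A] [HenselianLocalRing A] (n : ℕ)
    (P : Fin n → MvPolynomial (Fin n) A) (a₀ : Fin n → A)
    (h₀ : ∀ i, MvPolynomial.eval a₀ (P i) ∈ IsLocalRing.maximalIdeal A)
    (hJ : IsUnit (Matrix.of (fun i j => MvPolynomial.eval a₀ (MvPolynomial.pderiv j (P i)))).det) :
    ∃ a : Fin n → A, (∀ i, MvPolynomial.eval a (P i) = 0) ∧
      ∀ j, a j - a₀ j ∈ IsLocalRing.maximalIdeal A := by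
  have hEt : Algebra.Etale A (TT A n P) := etale_TT A n P
  -- the point on S
  let ev0 : MvPolynomial (Fin n) A →ₐ[A] IsLocalRing.ResidueField A :=
    MvPolynomial.aeval (fun i => IsLocalRing.residue A (a₀ i))
  have hev0 : ∀ p : MvPolynomial (Fin n) A, ev0 p = IsLocalRing.residue A (MvPolynomial.eval a₀ p) := by
    intro p
    have h1 : ev0 = (Algebra.ofId A (IsLocalRing.ResidueField A)).comp (MvPolynomial.aeval a₀) := by
      apply MvPolynomial.algHom_ext
      intro i
      simp [ev0, Algebra.ofId_apply, IsLocalRing.ResidueField.algebraMap_eq]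
    rw [h1, AlgHom.comp_apply, Algebra.ofId_apply, IsLocalRing.ResidueField.algebraMap_eq]
    rfl
  have hker : ∀ p ∈ Ideal.span (Set.range P), ev0 p = 0 := by
    intro p hp
    have : Ideal.span (Set.range P) ≤ RingHom.ker ev0.toRingHom := by
      rw [Ideal.span_le]
      rintro _ ⟨i, rfl⟩
      rw [SetLike.mem_coe, RingHom.mem_ker]
      change ev0 (P i) = 0
      rw [hev0, IsLocalRing.residue_eq_zero_iff]
      exact h₀ i
    have := this hp
    rwa [RingHom.mem_ker] at this
  let χS : SS A n P →ₐ[A] IsLocalRing.ResidueField A :=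
    Ideal.Quotient.liftₐ (Ideal.span (Set.range P)) ev0 hker
  have hχS : ∀ p, χS (Ideal.Quotient.mk _ p) = ev0 p := fun p => rfl
  have hg : IsUnit (χS (gg A n P)) := by
    rw [gg, hχS, hev0]
    have : MvPolynomial.eval a₀ (JM A n P).det =
        (Matrix.of (fun i j => MvPolynomial.eval a₀ (MvPolynomial.pderiv j (P i)))).det := by
      rw [RingHom.map_det]
      congr 1
    rw [this]
    exact hJ.map _
  let χ : TT A n P →ₐ[A] IsLocalRing.ResidueField A :=
    IsLocalization.liftAlgHom (M := Submonoid.powers (gg A n P)) (f := χS) (by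
      rintro ⟨y, k, rfl⟩
      simpa using hg.pow k)
  have hχ : ∀ s : SS A n P, χ (algebraMap _ (TT A n P) s) = χS s := by
    intro s
    simp [χ]
  obtain ⟨ρ, hρ⟩ := exists_section A (TT A n P) χ
  let toT : MvPolynomial (Fin n) A →ₐ[A] TT A n P :=
    (IsScalarTower.toAlgHom A (SS A n P) (TT A n P)).comp (Ideal.Quotient.mkₐ A _)
  let a : Fin n → A := fun i => ρ (toT (X i))
  have hρeval : ∀ p : MvPolynomial (Fin n) A, ρ (toT p) = MvPolynomial.eval a p := by
    intro p
    have h1 : ρ.comp toT = MvPolynomial.aeval a := by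
      apply MvPolynomial.algHom_ext
      intro i
      simp [a]
    rw [← AlgHom.comp_apply, h1]
    rfl
  refine ⟨a, fun i => ?_, fun j => ?_⟩
  · rw [← hρeval]
    have : toT (P i) = 0 := by
      simp only [toT, AlgHom.comp_apply, Ideal.Quotient.mkₐ_eq_mk]
      rw [Ideal.Quotient.eq_zero_iff_mem.2 (Ideal.subset_span (Set.mem_range_self i)), map_zero]
    rw [this, map_zero]
  · rw [← IsLocalRing.residue_eq_zero_iff, map_sub, sub_eq_zero]
    change IsLocalRing.residue A (ρ (toT (X j))) = _
    rw [hρ]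
    simp only [toT, AlgHom.comp_apply, Ideal.Quotient.mkₐ_eq_mk, IsScalarTower.coe_toAlgHom']
    rw [hχ, hχS, hev0, MvPolynomial.eval_X]

end Groth.Agent.Helper26.MvHens
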