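import Mathlib

namespace Groth.Agent.Helper26.HopfTr

open WithConv

universe u v
variable {k : Type u} {A : Type v} [Field k] [CommRing A] [HopfAlgebra k A]

/-- translation by a character -/
noncomputable def tau (x : WithConv (A →ₐ[k] A)) : A →ₐ[k] A :=
  ofConv (x * toConv (AlgHom.id k A))

/-- the element of the convolution group attached to a character -/
noncomputable def chi (g : A →ₐ[k] k) : WithConv (A →ₐ[k] A) :=
  toConv ((Algebra.ofId k A).comp g)

theorem chi_inv (g : A →ₐ[k] k) :
    (chi g)⁻¹ = chi (g.comp (HopfAlgebra.antipodeAlgHom k A)) := rfl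

theorem tau_comp_tau (g g' : A →ₐ[k] k) :
    (tau (chi g')).comp (tau (chi g)) = tau (chi g * chi g') := by
  unfold tau
  rw [AlgHom.comp_convMul_distrib]
  have h1 : (ofConv (chi g' * toConv (AlgHom.id k A))).comp (chi g).ofConv = (chi g).ofConv := by
    ext a
    simp [chi]
  rw [h1, AlgHom.comp_id]
  simp only [toConv_ofConv]
  rw [mul_assoc]

theorem tau_one : tau (1 : WithConv (A →ₐ[k] A)) = AlgHom.id k A := by
  unfold tau
  rw [one_mul]

theorem tau_inv_comp (g : A →ₐ[k] k) :
    (tau (chi (g.comp (HopfAlgebra.antipodeAlgHom k A)))).comp (tau (chi g)) = AlgHom.id k A := by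
  rw [tau_comp_tau, ← chi_inv, mul_inv_cancel, tau_one]

theorem counit_comp_tau (g : A →ₐ[k] k) :
    (Bialgebra.counitAlgHom k A).comp (tau (chi g)) = g := by
  unfold tau
  rw [AlgHom.comp_convMul_distrib]
  have h1 : (Bialgebra.counitAlgHom k A).comp (chi g).ofConv = g := by
    ext a
    simp [chi]
  have h2 : toConv ((Bialgebra.counitAlgHom k A).comp (toConv (AlgHom.id k A)).ofConv) =
      (1 : WithConv (A →ₐ[k] k)) := by
    rw [AlgHom.convOne_def]
    congr 1
  rw [h1, h2, mul_one]

theorem tau_injective (g : A →ₐ[k] k) : Function.Injective (tau (chi g)) := by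
  intro a b hab
  have := congrArg (tau (chi (g.comp (HopfAlgebra.antipodeAlgHom k A)))) hab
  rw [← AlgHom.comp_apply, ← AlgHom.comp_apply, tau_inv_comp] at this
  exact this

end Groth.Agent.Helper26.HopfTr
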