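import Mathlib

namespace Groth.Agent.Helper26.AdjLoc

open IsLocalRing

universe u v
variable {k : Type u} [Field k] [IsAlgClosed k]
  {A : Type v} [CommRing A] [Algebra k A] [Module.Finite k A] [IsLocalRing A]

theorem exists_sub_mem (x : A) : ∃ c : k, x - algebraMap k A c ∈ maximalIdeal A := by
  let _ : Field (A ⧸ maximalIdeal A) := Ideal.Quotient.field _
  have : Algebra.IsIntegral k (A ⧸ maximalIdeal A) := Algebra.IsIntegral.of_finite k _
  obtain ⟨c, hc⟩ := (IsAlgClosed.algebraMap_bijective_of_isIntegral (k := k)
    (K := A ⧸ maximalIdeal A)).2 (Ideal.Quotient.mk (maximalIdeal A) x)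
  refine ⟨c, ?_⟩
  rw [← Ideal.Quotient.eq_zero_iff_mem, map_sub, ← hc, sub_eq_zero]
  exact IsScalarTower.algebraMap_apply k A (A ⧸ maximalIdeal A) c

omit [IsAlgClosed k] [Module.Finite k A] in
theorem forward {m : ℕ} (a : Fin m → A) (ha : ∀ i, a i ∈ maximalIdeal A)
    (h : Algebra.adjoin k (Set.range a) = ⊤) :
    Ideal.span (Set.range a) = maximalIdeal A := by
  have hle : Ideal.span (Set.range a) ≤ maximalIdeal A := by
    refine Ideal.span_le.2 ?_
    rintro _ ⟨i, rfl⟩
    exact ha i
  refine le_antisymm hle ?_
  have key : ∀ x : A, ∃ c : k, x - algebraMap k A c ∈ Ideal.span (Set.range a) := by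
    intro x
    have hx : x ∈ Algebra.adjoin k (Set.range a) := h ▸ Algebra.mem_top
    induction hx using Algebra.adjoin_induction with
    | mem x hx => exact ⟨0, by simpa using Ideal.subset_span hx⟩
    | algebraMap r => exact ⟨r, by simp⟩
    | add x y _ _ hx hy =>
      obtain ⟨c, hc⟩ := hx
      obtain ⟨d, hd⟩ := hy
      refine ⟨c + d, ?_⟩
      have : x + y - algebraMap k A (c + d) = (x - algebraMap k A c) + (y - algebraMap k A d) := by
        rw [map_add]; ring
      rw [this]
      exact add_mem hc hd
    | mul x y _ _ hx hy =>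
      obtain ⟨c, hc⟩ := hx
      obtain ⟨d, hd⟩ := hy
      refine ⟨c * d, ?_⟩
      have : x * y - algebraMap k A (c * d) =
          (x - algebraMap k A c) * y + algebraMap k A c * (y - algebraMap k A d) := by
        rw [map_mul]; ring
      rw [this]
      exact add_mem (Ideal.mul_mem_right _ _ hc) (Ideal.mul_mem_left _ _ hd)
  intro x hx
  obtain ⟨c, hc⟩ := key x
  have hcm : algebraMap k A c ∈ maximalIdeal A := by
    have : algebraMap k A c = x - (x - algebraMap k A c) := by ring
    rw [this]
    exact sub_mem hx (hle hc)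
  have hc0 : c = 0 := by
    by_contra hne
    have : IsUnit (algebraMap k A c) := (IsUnit.mk0 c hne).map _
    exact (IsLocalRing.mem_maximalIdeal _).1 hcm this
  simpa [hc0] using hc

theorem backward {m : ℕ} (a : Fin m → A) (h : Ideal.span (Set.range a) = maximalIdeal A) :
    Algebra.adjoin k (Set.range a) = ⊤ := by
  set B := Algebra.adjoin k (Set.range a) with hB
  have haB : ∀ i, a i ∈ B := fun i => Algebra.subset_adjoin ⟨i, rfl⟩
  let a' : Fin m → B := fun i => ⟨a i, haB i⟩
  -- nilpotency of the `a i`
  have hnil : ∀ i, IsNilpotent (a i) := by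
    intro i
    have : IsArtinianRing A := IsArtinianRing.of_finite k A
    have hm : a i ∈ maximalIdeal A := h ▸ Ideal.subset_span ⟨i, rfl⟩
    obtain ⟨n, hn⟩ := (isArtinianRing_iff_isNilpotent_maximalIdeal A).1 this
    refine ⟨n, ?_⟩
    have : a i ^ n ∈ (maximalIdeal A) ^ n := Ideal.pow_mem_pow hm n
    rw [hn] at this
    simpa using this
  have hnil' : ∀ i, IsNilpotent (a' i) := by
    intro i
    obtain ⟨n, hn⟩ := hnil i
    refine ⟨n, ?_⟩
    apply Subtype.ext
    simpa [a'] using hn
  let I : Ideal B := Ideal.span (Set.range a')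
  have hIjac : I ≤ Ideal.jacobson ⊥ := by
    refine le_trans ?_ (Ideal.radical_le_jacobson (I := (⊥ : Ideal B)))
    refine Ideal.span_le.2 ?_
    rintro _ ⟨i, rfl⟩
    obtain ⟨n, hn⟩ := hnil' i
    exact ⟨n, by simp [hn]⟩
  have hfin : Module.Finite B A := Module.Finite.of_restrictScalars_finite k B A
  let N : Submodule B A := LinearMap.range (Algebra.linearMap B A)
  have hle : (⊤ : Submodule B A) ≤ N := by
    refine Submodule.le_of_le_smul_of_le_jacobson_bot (I := I) hfin.1 hIjac ?_
    intro x _
    obtain ⟨c, hc⟩ := exists_sub_mem (k := k) x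
    have hx : x = algebraMap k A c + (x - algebraMap k A c) := by ring
    rw [hx]
    refine Submodule.add_mem_sup ?_ ?_
    · exact ⟨algebraMap k B c, rfl⟩
    · rw [← h] at hc
      refine Submodule.span_induction ?_ ?_ ?_ ?_ hc
      · rintro _ ⟨i, rfl⟩
        have : a i = a' i • (1 : A) := by
          rw [Algebra.smul_def, mul_one]; rfl
        rw [this]
        exact Submodule.smul_mem_smul (Ideal.subset_span ⟨i, rfl⟩) Submodule.mem_top
      · exact zero_mem _
      · intro x y _ _ hx hy
        exact add_mem hx hy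
      · intro r x _ hx
        -- I • ⊤ is closed under multiplication by elements of A
        refine Submodule.smul_induction_on hx ?_ ?_
        · intro s hs n _
          have : r • s • n = s • (r * n) := by
            rw [smul_eq_mul, Algebra.smul_def, Algebra.smul_def]; ring
          rw [this]
          exact Submodule.smul_mem_smul hs Submodule.mem_top
        · intro y z hy hz
          rw [smul_add]
          exact add_mem hy hz
  rw [eq_top_iff]
  intro x _
  obtain ⟨b, hb⟩ := hle (Submodule.mem_top (x := x))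
  rw [← hb]
  exact b.2

theorem main {m : ℕ} (a : Fin m → A) (ha : ∀ i, a i ∈ maximalIdeal A) :
    Algebra.adjoin k (Set.range a) = ⊤ ↔ Ideal.span (Set.range a) = maximalIdeal A :=
  ⟨forward a ha, backward a⟩

end Groth.Agent.Helper26.AdjLoc
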