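import Mathlib

/-!
# Invariant derivations of a commutative bialgebra from tangent vectors at the counit (helper26)
-/

set_option autoImplicit false

namespace Groth.Agent.Helper26.HtOne2

open TensorProduct

universe u v

variable {k : Type u} [Field k] {A : Type v} [CommRing A] [Bialgebra k A]

/-- the invariant operator attached to a functional `d` -/
noncomputable def invOp (d : A →ₗ[k] k) : A →ₗ[k] A :=
  (TensorProduct.rid k A).toLinearMap ∘ₗ (LinearMap.lTensor A d) ∘ₗ Coalgebra.comul

theorem counit_invOp (d : A →ₗ[k] k) (a : A) :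
    Coalgebra.counit (R := k) (invOp d a) = d a := by
  have h : (Coalgebra.counit (R := k) (A := A)) ∘ₗ (TensorProduct.rid k A).toLinearMap ∘ₗ
      (LinearMap.lTensor A d) =
      (TensorProduct.lid k k).toLinearMap ∘ₗ (LinearMap.lTensor k d) ∘ₗ
        (LinearMap.rTensor A (Coalgebra.counit (R := k) (A := A))) := by
    apply TensorProduct.ext'
    intro u v
    simp [mul_comm]
  have h1 := LinearMap.congr_fun h (Coalgebra.comul a)
  simp only [LinearMap.comp_apply, Coalgebra.rTensor_counit_comul, LinearMap.lTensor_tmul,
    LinearEquiv.coe_coe, TensorProduct.lid_tmul, one_smul] at h1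
  exact h1

theorem invOp_mul (d : A →ₗ[k] k)
    (hd : ∀ a b, d (a * b) = Coalgebra.counit (R := k) a * d b + d a * Coalgebra.counit (R := k) b)
    (a b : A) : invOp d (a * b) = a * invOp d b + invOp d a * b := by
  let Φ : A ⊗[k] A →ₗ[k] A := (TensorProduct.rid k A).toLinearMap ∘ₗ (LinearMap.lTensor A d)
  let Ψ : A ⊗[k] A →ₗ[k] A := (TensorProduct.rid k A).toLinearMap ∘ₗ
    (LinearMap.lTensor A (Coalgebra.counit (R := k) (A := A)))
  have key : ∀ S T : A ⊗[k] A, Φ (S * T) = Ψ S * Φ T + Φ S * Ψ T := by
    intro S T
    induction S using TensorProduct.induction_on with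
    | zero => simp
    | add S₁ S₂ h₁ h₂ => rw [add_mul, map_add, h₁, h₂, map_add, map_add]; ring
    | tmul u v =>
      induction T using TensorProduct.induction_on with
      | zero => simp
      | add T₁ T₂ h₁ h₂ => rw [mul_add, map_add, h₁, h₂, map_add, map_add]; ring
      | tmul u' v' =>
        simp only [Φ, Ψ, Algebra.TensorProduct.tmul_mul_tmul, LinearMap.comp_apply,
          LinearMap.lTensor_tmul, LinearEquiv.coe_coe, TensorProduct.rid_tmul, hd]
        simp only [Algebra.smul_def]
        rw [map_add, map_mul, map_mul]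
        ring
  have hΨ : ∀ c : A, Ψ (Coalgebra.comul c) = c := by
    intro c
    simp only [Ψ, LinearMap.comp_apply, Coalgebra.lTensor_counit_comul, LinearEquiv.coe_coe,
      TensorProduct.rid_tmul, one_smul]
  change Φ (Coalgebra.comul (a * b)) = a * Φ (Coalgebra.comul b) + Φ (Coalgebra.comul a) * b
  rw [Bialgebra.comul_mul, key, hΨ, hΨ]

/-- the invariant derivation attached to a point derivation -/
noncomputable def invDer (d : A →ₗ[k] k)
    (hd : ∀ a b, d (a * b) = Coalgebra.counit (R := k) a * d b + d a * Coalgebra.counit (R := k) b) :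
    Derivation k A A :=
  Derivation.mk' (invOp d) (by
    intro a b
    rw [invOp_mul d hd, smul_eq_mul, smul_eq_mul]
    ring)

theorem counit_invDer (d : A →ₗ[k] k)
    (hd : ∀ a b, d (a * b) = Coalgebra.counit (R := k) a * d b + d a * Coalgebra.counit (R := k) b)
    (a : A) : Coalgebra.counit (R := k) (invDer d hd a) = d a :=
  counit_invOp d a

end Groth.Agent.Helper26.HtOne2
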