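import Mathlib

/-!
# Linear independence of restricted monomials from derivations (helper26)
-/

set_option autoImplicit false

namespace Groth.Agent.Helper26.HtOne3

open MvPolynomial

universe u v

variable {k : Type u} [Field k] {A : Type v} [CommRing A] [Algebra k A]

theorem prod_pow_mem {ι : Type*} (I : Ideal A) (s : Finset ι) (e : ι → ℕ) (y : ι → A)
    (hy : ∀ i ∈ s, y i ∈ I) : ∏ i ∈ s, y i ^ e i ∈ I ^ (∑ i ∈ s, e i) := by
  classical
  induction s using Finset.induction_on with
  | empty => simp
  | insert a s ha ih =>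
    rw [Finset.prod_insert ha, Finset.sum_insert ha, pow_add]
    exact Ideal.mul_mem_mul (Ideal.pow_mem_pow (hy a (Finset.mem_insert_self a s)) _)
      (ih (fun i hi => hy i (Finset.mem_insert_of_mem hi)))

theorem deriv_pow_mem (I : Ideal A) (D : Derivation k A A) :
    ∀ (m : ℕ) (y : A), y ∈ I ^ (m + 1) → D y ∈ I ^ m := by
  intro m
  induction m with
  | zero => intro y _; simp
  | succ m ih =>
    intro y hy
    rw [pow_succ] at hy
    refine Submodule.smul_induction_on hy ?_ ?_
    · intro a ha b hb
      rw [smul_eq_mul, Derivation.leibniz, smul_eq_mul, smul_eq_mul]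
      refine Ideal.add_mem _ ?_ ?_
      · exact Ideal.mul_mem_right _ _ ha
      · rw [pow_succ, mul_comm b (D a)]
        exact Ideal.mul_mem_mul (ih a ha) hb
    · intro a b ha hb
      rw [map_add]
      exact Ideal.add_mem _ ha hb

variable {n : ℕ} (x : Fin n → A)

/-- all monomials have degree at least `m` -/
def MinDeg (m : ℕ) (F : MvPolynomial (Fin n) k) : Prop := ∀ β ∈ F.support, m ≤ β.degree

/-- all exponents are smaller than `p` -/
def Restr (p : ℕ) (F : MvPolynomial (Fin n) k) : Prop := ∀ β ∈ F.support, ∀ i, β i < p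

theorem aeval_mem_pow (ε : A →ₐ[k] k) (hx : ∀ i, ε (x i) = 0) {m : ℕ}
    {F : MvPolynomial (Fin n) k} (hF : MinDeg m F) :
    aeval x F ∈ (RingHom.ker ε) ^ m := by
  rw [F.as_sum, map_sum]
  refine Ideal.sum_mem _ ?_
  intro β hβ
  rw [aeval_monomial]
  refine Ideal.mul_mem_left _ _ ?_
  refine Ideal.pow_le_pow_right (hF β hβ) ?_
  rw [Finsupp.degree_apply]
  exact prod_pow_mem _ _ _ _ (fun i _ => (RingHom.mem_ker).2 (hx i))

theorem chain_rule (D : Derivation k A A) (F : MvPolynomial (Fin n) k) :
    D (aeval x F) = ∑ j, aeval x (pderiv j F) * D (x j) := by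
  induction F using MvPolynomial.induction_on with
  | C a =>
    simp
  | add p q hp hq =>
    simp only [map_add, hp, hq, add_mul, Finset.sum_add_distrib]
  | mul_X p l hp =>
    classical
    rw [map_mul, aeval_X, Derivation.leibniz, hp, smul_eq_mul, smul_eq_mul]
    have h : ∀ j, aeval x (pderiv j (p * X l)) * D (x j) =
        x l * (aeval x (pderiv j p) * D (x j)) + (if j = l then aeval x p * D (x l) else 0) := by
      intro j
      rw [pderiv_mul, map_add, map_mul, map_mul, aeval_X, pderiv_X]
      by_cases hjl : j = l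
      · subst hjl
        simp
        ring
      · rw [if_neg hjl, Pi.single_apply, if_neg (Ne.symm hjl)]
        simp
        ring
    simp only [h, Finset.sum_add_distrib, ← Finset.mul_sum, Finset.sum_ite_eq', Finset.mem_univ,
      if_true]
    ring

theorem minDeg_pderiv {m : ℕ} {F : MvPolynomial (Fin n) k} (hF : MinDeg m F) (j : Fin n) :
    MinDeg (m - 1) (pderiv j F) := by
  intro β hβ
  rw [mem_support_iff, coeff_pderiv] at hβ
  have h1 : coeff (β + Finsupp.single j 1) F ≠ 0 := left_ne_zero_of_mul hβ
  have h2 := hF _ (mem_support_iff.2 h1)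
  rw [map_add, Finsupp.degree_single] at h2
  omega

theorem restr_pderiv {p : ℕ} {F : MvPolynomial (Fin n) k} (hF : Restr p F) (j : Fin n) :
    Restr p (pderiv j F) := by
  intro β hβ i
  rw [mem_support_iff, coeff_pderiv] at hβ
  have h1 : coeff (β + Finsupp.single j 1) F ≠ 0 := left_ne_zero_of_mul hβ
  have h2 := hF _ (mem_support_iff.2 h1) i
  rw [Finsupp.add_apply] at h2
  omega

variable (ε : A →ₐ[k] k) (hx : ∀ i, ε (x i) = 0) (D : Fin n → Derivation k A A)
  (hD : ∀ i j, ε (D i (x j)) = if i = j then 1 else 0)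

include hx hD in
theorem deriv_sub_mem {m : ℕ} {F : MvPolynomial (Fin n) k} (hF : MinDeg m F) (i : Fin n) :
    D i (aeval x F) - aeval x (pderiv i F) ∈ (RingHom.ker ε) ^ m := by
  rcases Nat.eq_zero_or_pos m with rfl | hm
  · simp
  rw [chain_rule]
  have h1 : aeval x (pderiv i F) = ∑ j, aeval x (pderiv j F) * (if i = j then (1 : A) else 0) := by
    rw [Finset.sum_eq_single i]
    · simp
    · intro j _ hj
      rw [if_neg (Ne.symm hj), mul_zero]
    · intro h; exact absurd (Finset.mem_univ i) h
  rw [h1, ← Finset.sum_sub_distrib]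
  refine Ideal.sum_mem _ ?_
  intro j _
  rw [← mul_sub]
  have h2 : aeval x (pderiv j F) ∈ (RingHom.ker ε) ^ (m - 1) :=
    aeval_mem_pow x ε hx (minDeg_pderiv hF j)
  have h3 : D i (x j) - (if i = j then (1 : A) else 0) ∈ RingHom.ker ε := by
    rw [RingHom.mem_ker, map_sub, hD]
    split_ifs <;> simp
  have h4 : (RingHom.ker ε) ^ m = (RingHom.ker ε) ^ (m - 1) * RingHom.ker ε := by
    rw [← pow_succ, Nat.sub_add_cancel hm]
  rw [h4]
  exact Ideal.mul_mem_mul h2 h3

include hx in
theorem eps_aeval (F : MvPolynomial (Fin n) k) : ε (aeval x F) = coeff 0 F := by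
  have h1 : (ε.comp (aeval x)) F = aeval (fun i => ε (x i)) F := by
    rw [comp_aeval]
  have h2 : (fun i => ε (x i)) = (0 : Fin n → k) := funext hx
  rw [h2, aeval_zero] at h1
  rw [← constantCoeff_eq]
  simpa using h1

include hx hD in
theorem claim (p : ℕ) [CharP k p] :
    ∀ (m : ℕ) (F : MvPolynomial (Fin n) k), MinDeg m F → Restr p F →
      (∃ β ∈ F.support, β.degree = m) → aeval x F ∉ (RingHom.ker ε) ^ (m + 1) := by
  intro m
  induction m with
  | zero =>
    intro F _ _ ⟨β, hβ, hdeg⟩ hmem
    rw [Finsupp.degree_eq_zero_iff] at hdeg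
    subst hdeg
    rw [zero_add, pow_one, RingHom.mem_ker, eps_aeval x ε hx] at hmem
    exact (mem_support_iff.1 hβ) hmem
  | succ m ih =>
    intro F hF hR ⟨β, hβ, hdeg⟩ hmem
    have hex : ∃ i, β i ≠ 0 := by
      by_contra h
      push Not at h
      have : β = 0 := Finsupp.ext h
      rw [this, map_zero] at hdeg
      omega
    obtain ⟨i, hi⟩ := hex
    have h1 : D i (aeval x F) ∈ (RingHom.ker ε) ^ (m + 1) := deriv_pow_mem _ (D i) (m + 1) _ hmem
    have h2 := deriv_sub_mem x ε hx D hD hF i
    have h3 : aeval x (pderiv i F) ∈ (RingHom.ker ε) ^ (m + 1) := by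
      have := Ideal.sub_mem _ h1 h2
      simpa using this
    refine ih (pderiv i F) (minDeg_pderiv hF i) (restr_pderiv hR i)
      ⟨β - Finsupp.single i 1, ?_, ?_⟩ h3
    · have hβi : β - Finsupp.single i 1 + Finsupp.single i 1 = β := by
        ext j
        by_cases hj : j = i
        · subst hj
          simp
          omega
        · simp [Ne.symm hj]
      rw [mem_support_iff, coeff_pderiv, hβi]
      refine mul_ne_zero (mem_support_iff.1 hβ) ?_
      have h5 : (((β - Finsupp.single i 1 : Fin n →₀ ℕ) i : ℕ) : k) + 1 = ((β i : ℕ) : k) := by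
        have : (β - Finsupp.single i 1 : Fin n →₀ ℕ) i + 1 = β i := by
          simp
          omega
        rw [← this]
        push_cast
        rfl
      rw [h5, Ne, CharP.cast_eq_zero_iff k p]
      intro hdvd
      have := Nat.le_of_dvd (Nat.pos_of_ne_zero hi) hdvd
      have := hR β hβ i
      omega
    · have hβi : β - Finsupp.single i 1 + Finsupp.single i 1 = β := by
        ext j
        by_cases hj : j = i
        · subst hj
          simp
          omega
        · simp [Ne.symm hj]
      have := congrArg Finsupp.degree hβi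
      rw [map_add, Finsupp.degree_single, hdeg] at this
      omega

include hx hD in
theorem eq_zero_of_aeval_eq_zero (p : ℕ) [CharP k p] {F : MvPolynomial (Fin n) k}
    (hR : Restr p F) (h0 : aeval x F = 0) : F = 0 := by
  by_contra hF
  have hne : F.support.Nonempty := by
    rw [Finset.nonempty_iff_ne_empty, Ne, support_eq_empty]
    exact hF
  obtain ⟨β, hβ, hmin⟩ := Finset.exists_min_image F.support (fun β => β.degree) hne
  have := claim x ε hx D hD p (β.degree) F (fun γ hγ => hmin γ hγ) hR ⟨β, hβ, rfl⟩
  rw [h0] at this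
  exact this (Ideal.zero_mem _)

include hx hD in
theorem linearIndependent (p : ℕ) [CharP k p] :
    LinearIndependent k (fun β : Fin n → Fin p => ∏ i, x i ^ (β i : ℕ)) := by
  classical
  rw [Fintype.linearIndependent_iff]
  intro g hg
  let tf : (Fin n → Fin p) → (Fin n →₀ ℕ) := fun β =>
    Finsupp.equivFunOnFinite.symm (fun i => (β i : ℕ))
  have htf : Function.Injective tf := by
    intro β γ h
    funext i
    have := DFunLike.congr_fun h i
    simp only [tf, Finsupp.coe_equivFunOnFinite_symm] at this
    exact Fin.ext this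
  let F : MvPolynomial (Fin n) k := ∑ β : Fin n → Fin p, monomial (tf β) (g β)
  have hcoeff : ∀ β, coeff (tf β) F = g β := by
    intro β
    simp only [F, coeff_sum, coeff_monomial]
    rw [Finset.sum_eq_single β]
    · simp
    · intro γ _ hγ
      rw [if_neg (fun h => hγ (htf h))]
    · intro h; exact absurd (Finset.mem_univ β) h
  have hR : Restr p F := by
    intro γ hγ i
    have hsub : F.support ⊆ Finset.univ.image tf := by
      intro δ hδ
      by_contra hnot
      rw [mem_support_iff] at hδ
      apply hδ
      simp only [F, coeff_sum, coeff_monomial]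
      apply Finset.sum_eq_zero
      intro β _
      rw [if_neg]
      intro h
      exact hnot (Finset.mem_image.2 ⟨β, Finset.mem_univ _, h⟩)
    obtain ⟨β, -, rfl⟩ := Finset.mem_image.1 (hsub hγ)
    simp only [tf, Finsupp.coe_equivFunOnFinite_symm]
    exact (β i).2
  have haev : aeval x F = 0 := by
    rw [← hg]
    simp only [F, map_sum, aeval_monomial]
    refine Finset.sum_congr rfl (fun β _ => ?_)
    rw [Algebra.smul_def]
    congr 1
    rw [Finsupp.prod_fintype]
    · rfl
    · intro i; simp
  have hF0 := eq_zero_of_aeval_eq_zero x ε hx D hD p hR haev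
  intro β
  rw [← hcoeff β, hF0, coeff_zero]

end Groth.Agent.Helper26.HtOne3
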