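import Mathlib
import Groth.Agent.Lib.Helper26.HtOne2
import Groth.Agent.Lib.Helper26.HtOne3
import Groth.Agent.Lib.Helper26.AdjLoc

/-!
# Infinitesimal group schemes of height at most one have order `p ^ dim Lie` (helper26)
-/

set_option autoImplicit false

namespace Groth.Agent.Helper26.HtOne4

open MvPolynomial

universe u v

section pointDer

variable {k : Type u} [Field k] {A : Type v} [CommRing A] [Algebra k A] (ε : A →ₐ[k] k)

theorem sub_mem_ker (a : A) : a - algebraMap k A (ε a) ∈ RingHom.ker ε := by
  rw [RingHom.mem_ker, map_sub, AlgHom.commutes, Algebra.algebraMap_self, RingHom.id_apply, sub_self]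

/-- the point derivation at `ε` attached to a functional on the cotangent space -/
noncomputable def pointDer (l : (RingHom.ker ε).Cotangent →ₗ[k] k) : A →ₗ[k] k where
  toFun a := l ((RingHom.ker ε).toCotangent ⟨a - algebraMap k A (ε a), sub_mem_ker ε a⟩)
  map_add' a b := by
    rw [← map_add, ← map_add]
    congr 2
    apply Subtype.ext
    simp only [map_add, Submodule.coe_add]
    ring
  map_smul' c a := by
    simp only [RingHom.id_apply]
    rw [← map_smul, ← LinearMap.map_smul_of_tower]
    congr 2
    apply Subtype.ext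
    rw [Submodule.coe_smul_of_tower]
    simp only [map_mul, Algebra.smul_def, AlgHom.commutes, Algebra.algebraMap_self,
      RingHom.id_apply]
    ring

theorem pointDer_of_mem (l : (RingHom.ker ε).Cotangent →ₗ[k] k) (y : RingHom.ker ε) :
    pointDer ε l (y : A) = l ((RingHom.ker ε).toCotangent y) := by
  change l ((RingHom.ker ε).toCotangent ⟨(y : A) - algebraMap k A (ε y), _⟩) = _
  congr 2
  apply Subtype.ext
  have : ε (y : A) = 0 := y.2
  simp [this]

theorem pointDer_mul (l : (RingHom.ker ε).Cotangent →ₗ[k] k) (a b : A) :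
    pointDer ε l (a * b) = ε a * pointDer ε l b + pointDer ε l a * ε b := by
  let a' : RingHom.ker ε := ⟨a - algebraMap k A (ε a), sub_mem_ker ε a⟩
  let b' : RingHom.ker ε := ⟨b - algebraMap k A (ε b), sub_mem_ker ε b⟩
  have hab : (a' : A) * (b' : A) ∈ RingHom.ker ε := Ideal.mul_mem_left _ _ b'.2
  have h1 : (⟨a * b - algebraMap k A (ε (a * b)), sub_mem_ker ε (a * b)⟩ : RingHom.ker ε) =
      ε a • b' + ε b • a' + ⟨(a' : A) * (b' : A), hab⟩ := by
    apply Subtype.ext
    simp only [Submodule.coe_add, Submodule.coe_smul_of_tower, a', b', map_mul, Algebra.smul_def]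
    ring
  have h2 : (RingHom.ker ε).toCotangent ⟨(a' : A) * (b' : A), hab⟩ = 0 := by
    rw [Ideal.toCotangent_eq_zero, pow_two]
    exact Ideal.mul_mem_mul a'.2 b'.2
  change l ((RingHom.ker ε).toCotangent ⟨a * b - algebraMap k A (ε (a * b)), _⟩) =
    ε a * l ((RingHom.ker ε).toCotangent b') + l ((RingHom.ker ε).toCotangent a') * ε b
  rw [h1, map_add, map_add, h2, map_zero, add_zero, map_add, LinearMap.map_smul_of_tower,
    LinearMap.map_smul_of_tower, map_add, map_smul, map_smul, smul_eq_mul, smul_eq_mul]
  ring

end pointDer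

section main

variable {k : Type u} [Field k] [IsAlgClosed k] (p : ℕ) [CharP k p]
  {A : Type v} [CommRing A] [HopfAlgebra k A] [Module.Finite k A]

theorem main (h1 : ∀ f : A, Bialgebra.counitAlgHom k A f = 0 → f ^ p = 0) :
    Module.finrank k A =
      p ^ Module.finrank k (RingHom.ker (Bialgebra.counitAlgHom k A)).Cotangent := by
  classical
  have hnil : ∀ f : A, Bialgebra.counitAlgHom k A f = 0 → IsNilpotent f := fun f hf => ⟨p, h1 f hf⟩
  have hε1 : Bialgebra.counitAlgHom k A 1 = 1 := map_one _
  have hnt : Nontrivial A := by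
    refine ⟨⟨0, 1, fun h => ?_⟩⟩
    have h2 := congrArg (Bialgebra.counitAlgHom k A) h
    rw [map_zero, hε1] at h2
    exact zero_ne_one h2
  have hunit : ∀ a : A, Bialgebra.counitAlgHom k A a ≠ 0 → IsUnit a := by
    intro a ha
    have h : a = algebraMap k A (Bialgebra.counitAlgHom k A a) +
        (a - algebraMap k A (Bialgebra.counitAlgHom k A a)) := by ring
    rw [h]
    have hu : IsUnit (algebraMap k A (Bialgebra.counitAlgHom k A a)) :=
      (IsUnit.mk0 _ ha).map (algebraMap k A)
    have hn : IsNilpotent (a - algebraMap k A (Bialgebra.counitAlgHom k A a)) :=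
      hnil _ (sub_mem_ker _ a)
    exact hn.isUnit_add_left_of_commute hu (Commute.all _ _)
  have hloc : IsLocalRing A := by
    apply IsLocalRing.of_isUnit_or_isUnit_one_sub_self
    intro a
    by_cases ha : Bialgebra.counitAlgHom k A a = 0
    · right
      apply hunit
      rw [map_sub, hε1, ha, sub_zero]
      exact one_ne_zero
    · left
      exact hunit a ha
  have hsurj : Function.Surjective (Bialgebra.counitAlgHom k A) := by
    intro c
    exact ⟨algebraMap k A c, by rw [AlgHom.commutes]; rfl⟩
  have hmaxI : (RingHom.ker (Bialgebra.counitAlgHom k A)).IsMaximal :=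
    RingHom.ker_isMaximal_of_surjective (Bialgebra.counitAlgHom k A : A →+* k) hsurj
  have hmax : RingHom.ker (Bialgebra.counitAlgHom k A) = IsLocalRing.maximalIdeal A :=
    IsLocalRing.eq_maximalIdeal hmaxI
  have hnoeth : IsNoetherianRing A := isNoetherian_of_tower k (inferInstance : IsNoetherian k A)
  have hfinI : Module.Finite k (RingHom.ker (Bialgebra.counitAlgHom k A)) :=
    Module.Finite.of_injective
      ((RingHom.ker (Bialgebra.counitAlgHom k A)).subtype.restrictScalars k)
      Subtype.val_injective
  have hfinC : Module.Finite k (RingHom.ker (Bialgebra.counitAlgHom k A)).Cotangent :=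
    Module.Finite.of_surjective
      ((RingHom.ker (Bialgebra.counitAlgHom k A)).toCotangent.restrictScalars k)
      (RingHom.ker (Bialgebra.counitAlgHom k A)).toCotangent_surjective
  let b := Module.finBasis k (RingHom.ker (Bialgebra.counitAlgHom k A)).Cotangent
  choose y hy using fun i =>
    (RingHom.ker (Bialgebra.counitAlgHom k A)).toCotangent_surjective (b i)
  let x : Fin (Module.finrank k (RingHom.ker (Bialgebra.counitAlgHom k A)).Cotangent) → A :=
    fun i => (y i : A)
  have hxI : ∀ i, Bialgebra.counitAlgHom k A (x i) = 0 := fun i => (y i).2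
  -- Nakayama
  have hspan : Ideal.span (Set.range x) = RingHom.ker (Bialgebra.counitAlgHom k A) := by
    apply le_antisymm
    · rw [Ideal.span_le]
      rintro _ ⟨i, rfl⟩
      exact (y i).2
    · apply Submodule.le_of_le_smul_of_le_jacobson_bot
        (I := RingHom.ker (Bialgebra.counitAlgHom k A))
      · exact IsNoetherian.noetherian _
      · rw [hmax]
        exact IsLocalRing.maximalIdeal_le_jacobson _
      · intro z hz
        have hsum := b.sum_repr ((RingHom.ker (Bialgebra.counitAlgHom k A)).toCotangent ⟨z, hz⟩)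
        have h2 : (RingHom.ker (Bialgebra.counitAlgHom k A)).toCotangent
            (∑ i, b.repr ((RingHom.ker (Bialgebra.counitAlgHom k A)).toCotangent ⟨z, hz⟩) i • y i) =
            (RingHom.ker (Bialgebra.counitAlgHom k A)).toCotangent ⟨z, hz⟩ := by
          rw [map_sum, ← hsum]
          refine Finset.sum_congr rfl (fun i _ => ?_)
          rw [LinearMap.map_smul_of_tower, hy, hsum]
        rw [Ideal.toCotangent_eq] at h2
        have h3 : z = (∑ i, b.repr ((RingHom.ker (Bialgebra.counitAlgHom k A)).toCotangent
            ⟨z, hz⟩) i • x i) - ((∑ i, b.repr ((RingHom.ker (Bialgebra.counitAlgHom k A)).toCotangent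
            ⟨z, hz⟩) i • x i) - z) := by ring
        rw [h3]
        refine Submodule.sub_mem _ (Submodule.mem_sup_left ?_) (Submodule.mem_sup_right ?_)
        · refine Submodule.sum_mem _ (fun i _ => ?_)
          rw [Algebra.smul_def]
          exact Ideal.mul_mem_left _ _ (Ideal.subset_span ⟨i, rfl⟩)
        · rw [smul_eq_mul, ← pow_two]
          convert h2 using 1
          simp only [Submodule.coe_sum, Submodule.coe_smul_of_tower, x]
  have hadj : Algebra.adjoin k (Set.range x) = ⊤ :=
    Groth.Agent.Helper26.AdjLoc.backward x (hspan.trans hmax)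
  -- derivations
  let D : Fin (Module.finrank k (RingHom.ker (Bialgebra.counitAlgHom k A)).Cotangent) →
      Derivation k A A := fun i =>
    Groth.Agent.Helper26.HtOne2.invDer (pointDer (Bialgebra.counitAlgHom k A) (b.coord i))
      (pointDer_mul (Bialgebra.counitAlgHom k A) (b.coord i))
  have hD : ∀ i j, Bialgebra.counitAlgHom k A (D i (x j)) = if i = j then 1 else 0 := by
    intro i j
    have h2 := Groth.Agent.Helper26.HtOne2.counit_invDer
      (pointDer (Bialgebra.counitAlgHom k A) (b.coord i))
      (pointDer_mul (Bialgebra.counitAlgHom k A) (b.coord i)) (x j)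
    have h3 : Bialgebra.counitAlgHom k A (D i (x j)) =
        pointDer (Bialgebra.counitAlgHom k A) (b.coord i) (x j) := h2
    rw [h3, pointDer_of_mem, hy, Module.Basis.coord_apply, Module.Basis.repr_self,
      Finsupp.single_apply]
    simp only [eq_comm]
  have hli := Groth.Agent.Helper26.HtOne3.linearIndependent x (Bialgebra.counitAlgHom k A) hxI D hD p
  -- spanning
  have hsp : ⊤ ≤ Submodule.span k (Set.range (fun β :
      Fin (Module.finrank k (RingHom.ker (Bialgebra.counitAlgHom k A)).Cotangent) → Fin p =>
        ∏ i, x i ^ (β i : ℕ))) := by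
    intro a _
    have ha : a ∈ Algebra.adjoin k (Set.range x) := by rw [hadj]; exact Algebra.mem_top
    rw [Algebra.adjoin_range_eq_range_aeval] at ha
    obtain ⟨F, rfl⟩ := ha
    change aeval x F ∈ _
    rw [F.as_sum, map_sum]
    refine Submodule.sum_mem _ (fun β _ => ?_)
    rw [aeval_monomial, ← Algebra.smul_def]
    refine Submodule.smul_mem _ _ ?_
    rw [Finsupp.prod_fintype _ _ (fun i => by simp)]
    by_cases hβ : ∀ i, β i < p
    · exact Submodule.subset_span ⟨fun i => ⟨β i, hβ i⟩, rfl⟩
    · push Not at hβ
      obtain ⟨i, hi⟩ := hβ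
      have h0 : x i ^ β i = 0 := by
        obtain ⟨c, hc⟩ := Nat.exists_eq_add_of_le hi
        rw [hc, pow_add, h1 (x i) (hxI i), zero_mul]
      rw [Finset.prod_eq_zero (Finset.mem_univ i) h0]
      exact Submodule.zero_mem _
  let B := Module.Basis.mk hli hsp
  rw [Module.finrank_eq_card_basis B, Fintype.card_fun, Fintype.card_fin, Fintype.card_fin]

end main

end Groth.Agent.Helper26.HtOne4
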