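import Mathlib

set_option autoImplicit false
set_option linter.style.haveILetI false
universe u
open CategoryTheory CategoryTheory.Limits AlgebraicGeometry IsLocalRing TopologicalSpace

namespace Groth.Agent.Helper26.GenIso

section Alg

/-- flat local homomorphism from a local domain: if the maximal ideal of the target kills a nonzero
element, then the source is a field. -/
theorem maximalIdeal_eq_bot_of_flat {A B : Type*} [CommRing A] [IsLocalRing A] [IsDomain A]
    [CommRing B] [IsLocalRing B] (ψ : A →+* B) (hflat : ψ.Flat) [IsLocalHom ψ]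
    (z : B) (hz : z ≠ 0) (hkill : ∀ m ∈ maximalIdeal B, m * z = 0) :
    maximalIdeal A = ⊥ := by
  rw [eq_bot_iff]
  intro a ha
  rw [Submodule.mem_bot]
  by_contra hne
  letI := ψ.toAlgebra
  haveI : Module.Flat A B := hflat
  have hreg : IsSMulRegular A a := by
    intro x y hxy
    exact mul_left_cancel₀ hne (by simpa using hxy)
  have hreg' : IsSMulRegular B (algebraMap A B a) := IsSMulRegular.of_flat hreg
  have hmem : ψ a ∈ maximalIdeal B := by
    rw [mem_maximalIdeal, mem_nonunits_iff] at ha ⊢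
    intro hu
    exact ha (isUnit_of_map_unit ψ a hu)
  have h0 := hkill _ hmem
  apply hz
  apply hreg'
  change ψ a * z = ψ a * 0
  rw [h0, mul_zero]

end Alg

section Pts

/-- on an integral scheme, a point whose local ring is a field is the generic point. -/
theorem eq_genericPoint_of_maximalIdeal_eq_bot (C : Scheme.{u}) [IsIntegral C] (c : C)
    (h : maximalIdeal (C.presheaf.stalk c) = ⊥) : c = genericPoint C := by
  have hsp : genericPoint C ⤳ c := genericPoint_specializes c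
  have hmem : genericPoint C ∈ Set.range (C.fromSpecStalk c) := by
    rw [Scheme.range_fromSpecStalk]
    exact hsp
  obtain ⟨z, hz⟩ := hmem
  have hz' : z = closedPoint (C.presheaf.stalk c) := by
    apply PrimeSpectrum.ext
    have h1 : z.asIdeal ≤ maximalIdeal (C.presheaf.stalk c) := le_maximalIdeal z.isPrime.ne_top
    rw [h] at h1
    change z.asIdeal = maximalIdeal (C.presheaf.stalk c)
    rw [h]
    exact le_bot_iff.1 h1
  rw [← hz, hz', Scheme.fromSpecStalk_closedPoint]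

/-- the canonical morphism `Spec 𝒪_{X,x} ⟶ X` is flat (as in helper16's `SmoothLocusBC`). -/
theorem flat_fromSpecStalk (X : Scheme.{u}) (x : X) : Flat (X.fromSpecStalk x) := by
  obtain ⟨U, hU, hxU, -⟩ :=
    Opens.isBasis_iff_nbhd.mp X.isBasis_affineOpens (show x ∈ (⊤ : X.Opens) from trivial)
  have hU : IsAffineOpen U := hU
  rw [← hU.fromSpecStalk_eq_fromSpecStalk hxU]
  unfold IsAffineOpen.fromSpecStalk
  haveI h1 : Flat (Spec.map (X.presheaf.germ U x hxU)) := by
    letI : Algebra Γ(X, U) (X.presheaf.stalk x) := (X.presheaf.germ U x hxU).hom.toAlgebra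
    haveI := hU.isLocalization_stalk ⟨x, hxU⟩
    rw [HasRingHomProperty.Spec_iff (P := @Flat)]
    exact RingHom.flat_algebraMap_iff.mpr
      (IsLocalization.flat _ (hU.primeIdealOf ⟨x, hxU⟩).asIdeal.primeCompl)
  exact MorphismProperty.comp_mem _ _ _ h1 inferInstance

/-- in a Noetherian affine open, a nonzero ideal of sections contains an element whose germ at some
point is nonzero and killed by the maximal ideal. -/
theorem exists_germ_killed {P : Scheme.{u}} {W : P.Opens} (hW : IsAffineOpen W)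
    [IsNoetherianRing Γ(P, W)] (K : Ideal Γ(P, W)) (hK : K ≠ ⊥) :
    ∃ x ∈ K, ∃ (y : P) (hy : y ∈ W), P.presheaf.germ W y hy x ≠ 0 ∧
      ∀ m ∈ maximalIdeal (P.presheaf.stalk y), m * P.presheaf.germ W y hy x = 0 := by
  haveI : Nontrivial K := by
    obtain ⟨t, htK, ht0⟩ := Submodule.exists_mem_ne_zero_of_ne_bot hK
    exact ⟨⟨⟨t, htK⟩, 0, fun h => ht0 (congrArg Subtype.val h)⟩⟩
  obtain ⟨q, hq⟩ := associatedPrimes.nonempty Γ(P, W) K
  obtain ⟨hqprime, x, hx⟩ := (isAssociatedPrime_iff).1 hq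
  have hann : ∀ r : Γ(P, W), r ∈ q ↔ r * (x : Γ(P, W)) = 0 := by
    intro r
    rw [hx, Submodule.mem_colon_singleton, Submodule.mem_bot]
    constructor
    · intro h
      have := congrArg Subtype.val h
      simpa using this
    · intro h
      apply Subtype.ext
      simpa using h
  let y0 : PrimeSpectrum Γ(P, W) := ⟨q, hqprime⟩
  have hy : hW.fromSpec y0 ∈ W := by
    have : hW.fromSpec y0 ∈ Set.range hW.fromSpec := Set.mem_range_self _
    rw [hW.range_fromSpec] at this
    exact this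
  refine ⟨x, x.2, hW.fromSpec y0, hy, ?_, ?_⟩
  · letI := TopCat.Presheaf.algebra_section_stalk P.presheaf ⟨hW.fromSpec y0, hy⟩
    haveI hloc : IsLocalization.AtPrime (P.presheaf.stalk (hW.fromSpec y0)) q :=
      hW.isLocalization_stalk' y0 hy
    intro h0
    have h1 : algebraMap Γ(P, W) (P.presheaf.stalk (hW.fromSpec y0)) (x : Γ(P, W)) = 0 := h0
    rw [IsLocalization.map_eq_zero_iff q.primeCompl] at h1
    obtain ⟨m, hm⟩ := h1
    exact m.2 ((hann m).2 hm)
  · letI := TopCat.Presheaf.algebra_section_stalk P.presheaf ⟨hW.fromSpec y0, hy⟩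
    haveI hloc : IsLocalization.AtPrime (P.presheaf.stalk (hW.fromSpec y0)) q :=
      hW.isLocalization_stalk' y0 hy
    intro z hz
    obtain ⟨s, r, rfl⟩ := IsLocalization.exists_mk'_eq q.primeCompl z
    rw [IsLocalization.AtPrime.mk'_mem_maximal_iff (P.presheaf.stalk (hW.fromSpec y0)) q s r
      inferInstance] at hz
    have hunit : IsUnit (algebraMap Γ(P, W) (P.presheaf.stalk (hW.fromSpec y0)) r) :=
      IsLocalization.map_units _ r
    have h2 : IsLocalization.mk' (P.presheaf.stalk (hW.fromSpec y0)) s r *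
        algebraMap Γ(P, W) (P.presheaf.stalk (hW.fromSpec y0)) (x : Γ(P, W)) *
        algebraMap Γ(P, W) (P.presheaf.stalk (hW.fromSpec y0)) r = 0 := by
      rw [mul_right_comm, IsLocalization.mk'_spec, ← map_mul, (hann s).1 hz, map_zero]
    exact (hunit.mul_left_eq_zero).1 h2

end Pts

section Main

lemma appLE_of_eq {X Y : Scheme.{u}} {a b : X ⟶ Y} (h : a = b) (U : Y.Opens) (V : X.Opens)
    (e : V ≤ a ⁻¹ᵁ U) (e' : V ≤ b ⁻¹ᵁ U) : a.appLE U V e = b.appLE U V e' := by
  subst h; rfl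

theorem stalkMap_injective_of_flat {X Y : Scheme.{u}} (f : X ⟶ Y) [Flat f] (x : X) :
    Function.Injective (f.stalkMap x).hom := by
  algebraize [(f.stalkMap x).hom]
  have : Module.FaithfullyFlat (Y.presheaf.stalk (f x)) (X.presheaf.stalk x) :=
    @Module.FaithfullyFlat.of_flat_of_isLocalHom _ _ _ _ _ _ _
      (Flat.stalkMap f x) (f.toLRSHom.prop x)
  exact ‹RingHom.FaithfullyFlat _›.injective

set_option maxHeartbeats 800000 in
theorem main {S S' C C' : Scheme.{u}} [IsLocallyNoetherian S] [IsLocallyNoetherian S']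
    (f : S' ⟶ S) [Flat f] (i : C ⟶ S) [IsClosedImmersion i] [IsIntegral C]
    (i' : C' ⟶ S') [IsClosedImmersion i'] [IsIntegral C']
    (g : C' ⟶ C) (hsq : g ≫ i = i' ≫ f)
    (hgen : IsIso (pullback.snd (pullback.lift g i' hsq)
      (pullback.fst (pullback.fst i f ≫ i) (S.fromSpecStalk (i.base (genericPoint C)))))) :
    IsIso (pullback.lift g i' hsq) := by
  obtain ⟨φ, hφ⟩ : ∃ φ : C' ⟶ pullback i f, φ = pullback.lift g i' hsq := ⟨_, rfl⟩
  rw [← hφ] at hgen ⊢
  have hφ2 : φ ≫ pullback.snd i f = i' := by rw [hφ]; exact pullback.lift_snd _ _ _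
  haveI : IsClosedImmersion (φ ≫ pullback.snd i f) := by rw [hφ2]; infer_instance
  haveI : IsClosedImmersion φ := IsClosedImmersion.of_comp φ (pullback.snd i f)
  haveI : IsLocallyNoetherian (pullback i f) :=
    LocallyOfFiniteType.isLocallyNoetherian (pullback.snd i f)
  rw [IsClosedImmersion.isIso_iff_ker_eq_bot]
  apply Scheme.IdealSheafData.ext
  funext W
  rw [Scheme.Hom.ker_apply, Scheme.IdealSheafData.ideal_bot]
  by_contra hK
  haveI : IsNoetherianRing Γ(pullback i f, W.1) := IsLocallyNoetherian.component_noetherian W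
  obtain ⟨x, hxK, y, hy, hne, hkill⟩ := exists_germ_killed W.2 _ hK
  -- `y` lies over the generic point of `C`
  have hyC : pullback.fst i f y = genericPoint C := by
    apply eq_genericPoint_of_maximalIdeal_eq_bot
    exact maximalIdeal_eq_bot_of_flat ((pullback.fst i f).stalkMap y).hom
      (Flat.stalkMap (pullback.fst i f) y) _ hne hkill
  obtain ⟨η, hη⟩ : ∃ η : S, η = i.base (genericPoint C) := ⟨_, rfl⟩
  rw [← hη] at hgen
  obtain ⟨π, hπ⟩ : ∃ π : pullback (pullback.fst i f ≫ i) (S.fromSpecStalk η) ⟶ pullback i f,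
    π = pullback.fst (pullback.fst i f ≫ i) (S.fromSpecStalk η) := ⟨_, rfl⟩
  rw [← hπ] at hgen
  haveI : Flat (S.fromSpecStalk η) := flat_fromSpecStalk S η
  haveI : Flat π := by rw [hπ]; infer_instance
  have hpt : (pullback.fst i f ≫ i) y = S.fromSpecStalk η (closedPoint (S.presheaf.stalk η)) := by
    rw [Scheme.fromSpecStalk_closedPoint, Scheme.Hom.comp_apply, hyC, hη]
  obtain ⟨y', hy'1, -⟩ := Scheme.Pullback.exists_preimage_pullback
    (f := pullback.fst i f ≫ i) (g := S.fromSpecStalk η) y _ hpt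
  rw [← hπ] at hy'1
  subst hy'1
  -- the section `x` pulled back to `P_T` vanishes
  have hx0 : (φ.app W.1).hom x = 0 := hxK
  have hcond : pullback.fst φ π ≫ φ = pullback.snd φ π ≫ π := pullback.condition
  have e1 : (pullback.snd φ π) ⁻¹ᵁ (π ⁻¹ᵁ W.1) ≤ (pullback.fst φ π ≫ φ) ⁻¹ᵁ W.1 := by
    rw [hcond]; exact le_rfl
  have e2 : (pullback.snd φ π) ⁻¹ᵁ (π ⁻¹ᵁ W.1) ≤ (pullback.snd φ π ≫ π) ⁻¹ᵁ W.1 := le_rfl
  have k1 : (pullback.fst φ π ≫ φ).appLE W.1 ((pullback.snd φ π) ⁻¹ᵁ (π ⁻¹ᵁ W.1)) e1 =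
      φ.app W.1 ≫ (pullback.fst φ π).appLE (φ ⁻¹ᵁ W.1) ((pullback.snd φ π) ⁻¹ᵁ (π ⁻¹ᵁ W.1)) e1 :=
    Scheme.Hom.comp_appLE _ _ _ _ _
  have k2 : (pullback.snd φ π ≫ π).appLE W.1 ((pullback.snd φ π) ⁻¹ᵁ (π ⁻¹ᵁ W.1)) e2 =
      π.app W.1 ≫ (pullback.snd φ π).appLE (π ⁻¹ᵁ W.1)
        ((pullback.snd φ π) ⁻¹ᵁ (π ⁻¹ᵁ W.1)) le_rfl :=
    Scheme.Hom.comp_appLE _ _ _ _ _
  have k3 : (pullback.snd φ π).appLE (π ⁻¹ᵁ W.1) ((pullback.snd φ π) ⁻¹ᵁ (π ⁻¹ᵁ W.1)) le_rfl =
      (pullback.snd φ π).app (π ⁻¹ᵁ W.1) := Scheme.Hom.appLE_eq_app _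
  have key : π.app W.1 ≫ (pullback.snd φ π).app (π ⁻¹ᵁ W.1) =
      φ.app W.1 ≫ (pullback.fst φ π).appLE (φ ⁻¹ᵁ W.1)
        ((pullback.snd φ π) ⁻¹ᵁ (π ⁻¹ᵁ W.1)) e1 := by
    rw [← k3, ← k2, ← k1]
    exact appLE_of_eq hcond.symm _ _ _ _
  have h2 : ((pullback.snd φ π).app (π ⁻¹ᵁ W.1)).hom ((π.app W.1).hom x) = 0 := by
    have h3 := congrArg (fun k => k.hom x) key
    simp only [CommRingCat.hom_comp, RingHom.coe_comp, Function.comp_apply] at h3
    rw [h3, hx0, map_zero]
  have h4 : (π.app W.1).hom x = 0 := by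
    have hinj : Function.Injective ((pullback.snd φ π).app (π ⁻¹ᵁ W.1)).hom :=
      (ConcreteCategory.bijective_of_isIso ((pullback.snd φ π).app (π ⁻¹ᵁ W.1))).1
    apply hinj
    rw [h2, map_zero]
  apply hne
  apply stalkMap_injective_of_flat π y'
  have h5 := Scheme.Hom.germ_stalkMap π W.1 y' hy
  have h6 := congrArg (fun k => k.hom x) h5
  simp only [CommRingCat.hom_comp, RingHom.coe_comp, Function.comp_apply] at h6
  rw [map_zero]
  refine h6.trans ?_
  rw [h4, map_zero]

end Main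

end Groth.Agent.Helper26.GenIso
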