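import Mathlib
import Groth.Prelude.Def_CurvBase
import Groth.Prelude.Def_Coh
import Groth.Agent.Lib.Helper26.GenIso
import Groth.Agent.Lib.Helper13.WeakAss
import Groth.Agent.Lib.Helper4.CurveExt2

/-!
# Flatness over a regular one-dimensional base in terms of associated points (helper26)
-/

set_option autoImplicit false
set_option linter.style.haveILetI false
universe u
open CategoryTheory CategoryTheory.Limits AlgebraicGeometry TopologicalSpace IsLocalRing

namespace Groth.Agent.Helper26.FlatAssDim1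

/-- `x` is an associated point of `O_X` iff some nonzero element of `O_{X,x}` is killed by the
maximal ideal. -/
theorem isAssPoint_iff_exists_killed {X : Scheme.{u}} [IsLocallyNoetherian X] (x : X) :
    Curv2.IsAssPoint (Coh.structureModule X) x ↔
      ∃ z : X.presheaf.stalk x, z ≠ 0 ∧
        ∀ m ∈ maximalIdeal (X.presheaf.stalk x), m * z = 0 := by
  unfold Curv2.IsAssPoint
  rw [LinearEquiv.isAssociatedPrime_iff (Groth.Agent.Helper13.WeakAss.unitStalkEquiv x),
    isAssociatedPrime_iff]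
  constructor
  · rintro ⟨-, z, hz⟩
    refine ⟨z, ?_, ?_⟩
    · rintro rfl
      have h1 : (1 : X.presheaf.stalk x) ∈ maximalIdeal (X.presheaf.stalk x) := by
        rw [hz, Submodule.mem_colon_singleton, smul_zero]
        exact Submodule.zero_mem _
      exact (IsLocalRing.maximalIdeal.isMaximal _).ne_top ((Ideal.eq_top_iff_one _).2 h1)
    · intro m hm
      rw [hz, Submodule.mem_colon_singleton, Submodule.mem_bot] at hm
      exact hm
  · rintro ⟨z, hz0, hz⟩
    refine ⟨inferInstance, z, le_antisymm ?_ ?_⟩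
    · intro m hm
      rw [Submodule.mem_colon_singleton, Submodule.mem_bot]
      exact hz m hm
    · apply le_maximalIdeal
      intro h
      have h1 : (1 : X.presheaf.stalk x) ∈ Submodule.colon (⊥ : Submodule _ (X.presheaf.stalk x)) {z} := by
        rw [h]; trivial
      rw [Submodule.mem_colon_singleton, Submodule.mem_bot, one_smul] at h1
      exact hz0 h1

/-- Associated points of the source of a flat morphism to an integral scheme lie over the generic
point. -/
theorem eq_genericPoint_of_flat_of_isAssPoint {X Y : Scheme.{u}} (f : X ⟶ Y) [IsIntegral Y]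
    [IsLocallyNoetherian X] [Flat f] (x : X) (hx : Curv2.IsAssPoint (Coh.structureModule X) x) :
    f.base x = genericPoint Y := by
  obtain ⟨z, hz0, hz⟩ := (isAssPoint_iff_exists_killed x).1 hx
  apply Groth.Agent.Helper26.GenIso.eq_genericPoint_of_maximalIdeal_eq_bot
  exact Groth.Agent.Helper26.GenIso.maximalIdeal_eq_bot_of_flat (f.stalkMap x).hom
    (Flat.stalkMap f x) z hz0 hz

/-- A nonzero section is invertible at the generic point. -/
theorem isUnit_germ_of_eq_genericPoint {Y : Scheme.{u}} [IsIntegral Y] (W : Y.Opens) (y : Y)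
    (hy : y = genericPoint Y) (hyW : y ∈ W) (s : Γ(Y, W)) (hs : s ≠ 0) :
    IsUnit (Y.presheaf.germ W y hyW s) := by
  subst hy
  have hinj := germ_injective_of_isIntegral Y (genericPoint Y) hyW
  letI : Field (Y.presheaf.stalk (genericPoint Y)) := inferInstanceAs (Field Y.functionField)
  exact IsUnit.mk0 _ (fun h => hs (hinj (h.trans (map_zero _).symm)))

theorem germ_appLE {X Y : Scheme.{u}} (f : X ⟶ Y) (W : Y.Opens) (V : X.Opens)
    (e : V ≤ f ⁻¹ᵁ W) (x : X) (hx : x ∈ V) (hfx : f x ∈ W) (s : Γ(Y, W)) :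
    X.presheaf.germ V x hx (f.appLE W V e s) =
      f.stalkMap x (Y.presheaf.germ W (f x) hfx s) := by
  rw [Scheme.Hom.germ_stalkMap_apply, Scheme.Hom.appLE]
  exact (TopCat.Presheaf.germ_res_apply X.presheaf (homOfLE e) x hx _)

/-- If all associated points of `X` map to the generic point, nonzero functions on `Y` pull back
to nonzerodivisors. -/
theorem eq_zero_of_appLE_mul_eq_zero {X Y : Scheme.{u}} (f : X ⟶ Y) [IsIntegral Y]
    [IsLocallyNoetherian X]
    (h : ∀ x : X, Curv2.IsAssPoint (Coh.structureModule X) x → f.base x = genericPoint Y)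
    {W : Y.Opens} {V : X.Opens} (hV : IsAffineOpen V) (e : V ≤ f ⁻¹ᵁ W) (s : Γ(Y, W))
    (hs : s ≠ 0) (r : Γ(X, V)) (hr : f.appLE W V e s * r = 0) : r = 0 := by
  by_contra hr0
  haveI : IsNoetherianRing Γ(X, V) := IsLocallyNoetherian.component_noetherian ⟨V, hV⟩
  obtain ⟨K, hK⟩ : ∃ K : Ideal Γ(X, V), K = Groth.Agent.Helper13.WeakAss.annIdeal (f.appLE W V e s) :=
    ⟨_, rfl⟩
  have hmem : ∀ t, t ∈ K ↔ t * f.appLE W V e s = 0 := fun t => by
    rw [hK]; exact Groth.Agent.Helper13.WeakAss.mem_annIdeal _ _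
  have hKne : K ≠ ⊥ := by
    intro hbot
    have : r ∈ K := (hmem r).2 (by rw [mul_comm]; exact hr)
    rw [hbot, Submodule.mem_bot] at this
    exact hr0 this
  obtain ⟨r', hr'K, x', hx'V, hne, hkill⟩ :=
    Groth.Agent.Helper26.GenIso.exists_germ_killed hV K hKne
  have hass : Curv2.IsAssPoint (Coh.structureModule X) x' :=
    (isAssPoint_iff_exists_killed x').2 ⟨_, hne, hkill⟩
  have hgen := h x' hass
  have hunit : IsUnit (X.presheaf.germ V x' hx'V (f.appLE W V e s)) := by
    rw [germ_appLE f W V e x' hx'V (e hx'V)]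
    exact (isUnit_germ_of_eq_genericPoint W (f x') hgen (e hx'V) s hs).map _
  have h0 : X.presheaf.germ V x' hx'V r' * X.presheaf.germ V x' hx'V (f.appLE W V e s) = 0 := by
    rw [← map_mul, (hmem r').1 hr'K, map_zero]
  exact hne (hunit.mul_left_eq_zero.1 h0)

/-- Pure algebra: torsion-freeness passes to localizations. -/
theorem torsionFree_of_localization {S R A B : Type*} [CommRing S] [CommRing R] [CommRing A]
    [CommRing B] [Algebra S A] [Algebra R B] (MS : Submonoid S) (MR : Submonoid R)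
    [IsLocalization MS A] [IsLocalization MR B] (φ : S →+* R) (ψ : A →+* B)
    (hcomm : ∀ s, ψ (algebraMap S A s) = algebraMap R B (φ s))
    (hreg : ∀ s : S, s ≠ 0 → ∀ r : R, φ s * r = 0 → r = 0)
    (a : A) (ha : a ≠ 0) (b : B) (hab : ψ a * b = 0) : b = 0 := by
  obtain ⟨⟨s, t⟩, hst⟩ := IsLocalization.surj MS a
  simp only at hst
  have hs0 : s ≠ 0 := by
    rintro rfl
    rw [map_zero] at hst
    have hu : IsUnit (algebraMap S A t) := IsLocalization.map_units _ t
    exact ha (hu.mul_left_eq_zero.1 hst)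
  obtain ⟨⟨r, u⟩, hru⟩ := IsLocalization.surj MR b
  simp only at hru
  have hu : IsUnit (algebraMap R B u) := IsLocalization.map_units _ u
  have h1 : algebraMap R B (φ s * r) = 0 := by
    rw [map_mul, ← hcomm, ← hst, ← hru, map_mul]
    calc ψ a * ψ (algebraMap S A ↑t) * (b * algebraMap R B ↑u)
        = (ψ a * b) * (ψ (algebraMap S A ↑t) * algebraMap R B ↑u) := by ring
      _ = 0 := by rw [hab, zero_mul]
  rw [IsLocalization.map_eq_zero_iff MR] at h1
  obtain ⟨v, hv⟩ := h1
  have h2 : (v : R) * r = 0 := by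
    apply hreg s hs0
    rw [← hv]; ring
  have h3 : algebraMap R B r = 0 := by
    rw [IsLocalization.map_eq_zero_iff MR]
    exact ⟨v, h2⟩
  rw [h3] at hru
  exact hu.mul_left_eq_zero.1 hru

theorem flat_of_torsionFree {A B : Type*} [CommRing A] [IsDomain A] [IsBezout A] [CommRing B]
    (ψ : A →+* B) (h : ∀ a : A, a ≠ 0 → ∀ b : B, ψ a * b = 0 → b = 0) : ψ.Flat := by
  algebraize [ψ]
  show Module.Flat A B
  rw [Module.Flat.flat_iff_torsion_eq_bot_of_isBezout, eq_bot_iff]
  intro b hb
  rw [Submodule.mem_bot]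
  rw [Submodule.mem_torsion_iff] at hb
  obtain ⟨⟨a, ha⟩, hab⟩ := hb
  exact h a (nonZeroDivisors.ne_zero ha) b hab

/-- The stalk map is flat. -/
theorem flat_stalkMap {X Y : Scheme.{u}} (f : X ⟶ Y) [IsIntegral Y] [IsLocallyNoetherian X]
    (h : ∀ x : X, Curv2.IsAssPoint (Coh.structureModule X) x → f.base x = genericPoint Y)
    (x : X) [IsRegularLocalRing (Y.presheaf.stalk (f x))]
    (hdim : ringKrullDim (Y.presheaf.stalk (f x)) ≤ 1) : (f.stalkMap x).hom.Flat := by
  obtain ⟨hdom, hval⟩ := Groth.Agent.Helper4.CurveExt.valuationRing_of_regular _ hdim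
  obtain ⟨_, ⟨W, hW, rfl⟩, hyW, -⟩ :=
    Y.isBasis_affineOpens.exists_subset_of_mem_open (Set.mem_univ (f x)) isOpen_univ
  obtain ⟨_, ⟨V, hV, rfl⟩, hxV, hVW⟩ :=
    X.isBasis_affineOpens.exists_subset_of_mem_open (show x ∈ f ⁻¹ᵁ W from hyW) (f ⁻¹ᵁ W).isOpen
  have hW : IsAffineOpen W := hW
  have hV : IsAffineOpen V := hV
  have e : V ≤ f ⁻¹ᵁ W := hVW
  letI algY := TopCat.Presheaf.algebra_section_stalk Y.presheaf (⟨f x, hyW⟩ : W)
  haveI locY := hW.isLocalization_stalk ⟨f x, hyW⟩
  letI algX := TopCat.Presheaf.algebra_section_stalk X.presheaf (⟨x, hxV⟩ : V)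
  haveI locX := hV.isLocalization_stalk ⟨x, hxV⟩
  apply flat_of_torsionFree
  exact torsionFree_of_localization (hW.primeIdealOf ⟨f x, hyW⟩).asIdeal.primeCompl
    (hV.primeIdealOf ⟨x, hxV⟩).asIdeal.primeCompl (f.appLE W V e).hom (f.stalkMap x).hom
    (fun s => (germ_appLE f W V e x hxV hyW s).symm)
    (fun s hs r hr => eq_zero_of_appLE_mul_eq_zero f h hV e s hs r hr)

/-- dimension of stalks is bounded by the dimension of the scheme (after helper16). -/
theorem ringKrullDim_stalk_le {Y : Scheme.{u}} (y : Y) :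
    ringKrullDim (Y.presheaf.stalk y) ≤ topologicalKrullDim Y := by
  obtain ⟨_, ⟨W, hW, rfl⟩, hyW, -⟩ :=
    Y.isBasis_affineOpens.exists_subset_of_mem_open (Set.mem_univ y) isOpen_univ
  have hW : IsAffineOpen W := hW
  letI := TopCat.Presheaf.algebra_section_stalk Y.presheaf (⟨y, hyW⟩ : W)
  haveI := hW.isLocalization_stalk ⟨y, hyW⟩
  haveI := (hW.primeIdealOf ⟨y, hyW⟩).isPrime
  rw [IsLocalization.AtPrime.ringKrullDim_eq_height (hW.primeIdealOf ⟨y, hyW⟩).asIdeal
    (Y.presheaf.stalk y)]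
  refine (Ideal.height_le_ringKrullDim_of_ne_top (hW.primeIdealOf ⟨y, hyW⟩).isPrime.ne_top).trans ?_
  rw [← PrimeSpectrum.topologicalKrullDim_eq_ringKrullDim]
  exact hW.fromSpec.isOpenEmbedding.isInducing.topologicalKrullDim_le

theorem main {X Y : Scheme.{u}} (f : X ⟶ Y)
    [IsIntegral Y] (hreg : ∀ y : Y, IsRegularLocalRing (Y.presheaf.stalk y))
    (hY : topologicalKrullDim ↥Y = 1) [IsNoetherian X] :
    Flat f ↔ ∀ x : X, Curv2.IsAssPoint (Coh.structureModule X) x → f.base x = genericPoint ↥Y := by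
  constructor
  · intro hf x hx
    exact eq_genericPoint_of_flat_of_isAssPoint f x hx
  · intro h
    rw [Flat.iff_flat_stalkMap]
    intro x
    haveI := hreg (f x)
    exact flat_stalkMap f h x (hY ▸ ringKrullDim_stalk_le (f x))

end Groth.Agent.Helper26.FlatAssDim1
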