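import Mathlib
import Groth.Prelude.Def_CohB1
import Groth.Agent.Lib.Helper26.ProjChart

/-!
# Global functions on projective space (scheme-theoretic part)
-/

set_option autoImplicit false
universe u

namespace Groth.Agent.Lib.Helper26.ProjGamma

open MvPolynomial AlgebraicGeometry HomogeneousLocalization TopologicalSpace CategoryTheory
open Groth.Agent.Lib.Helper26.ProjChart

variable (n : ℕ) (R : Type u) [CommRing R]

local notation "𝒜" => CohB1.polyGrading n R

/-- the map from global sections to the `i`-th chart ring -/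
noncomputable def g (i : Fin (n + 1)) :
    Γ(Proj 𝒜, ⊤) ⟶ CommRingCat.of (Away 𝒜 (X i : MvPolynomial (Fin (n + 1)) R)) :=
  (Proj.awayι 𝒜 (X i) (X_mem n R i) one_pos).appTop ≫ (Scheme.ΓSpecIso _).hom

theorem XX_mem (i j : Fin (n + 1)) :
    (X i * X j : MvPolynomial (Fin (n + 1)) R) ∈ 𝒜 (1 + 1) :=
  SetLike.mul_mem_graded (X_mem n R i) (X_mem n R j)

/-- the map from global sections to the ring of the overlap of two charts -/
noncomputable def gg (i j : Fin (n + 1)) :
    Γ(Proj 𝒜, ⊤) ⟶ CommRingCat.of (Away 𝒜 (X i * X j : MvPolynomial (Fin (n + 1)) R)) :=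
  (Proj.awayι 𝒜 (X i * X j) (XX_mem n R i j) (by norm_num)).appTop ≫ (Scheme.ΓSpecIso _).hom

/-- the structure morphism, with source literally `Proj 𝒜` -/
noncomputable def toSpec' : Proj 𝒜 ⟶ Spec (CommRingCat.of R) :=
  Proj.toSpecZero 𝒜 ≫ Spec.map (CommRingCat.ofHom (algebraMap R (𝒜 0)))

theorem toSpec_g (i : Fin (n + 1)) :
    (toSpec' n R).appTop ≫ g n R i =
      (Scheme.ΓSpecIso (CommRingCat.of R)).hom ≫
        CommRingCat.ofHom ((fromZeroRingHom 𝒜 (Submonoid.powers (X i))).comp (algebraMap R (𝒜 0))) := by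
  unfold g toSpec'
  rw [← Category.assoc, ← Scheme.Hom.comp_appTop, ← Category.assoc, Proj.awayι_toSpecZero,
    ← Spec.map_comp, Scheme.ΓSpecIso_naturality]
  rfl

theorem g_awayMap_left (i j : Fin (n + 1)) :
    g n R i ≫ CommRingCat.ofHom (awayMap 𝒜 (X_mem n R j) (rfl : X i * X j = X i * X j)) =
      gg n R i j := by
  unfold g gg
  rw [Category.assoc, ← Scheme.ΓSpecIso_naturality, ← Category.assoc, ← Scheme.Hom.comp_appTop,
    Proj.SpecMap_awayMap_awayι]

theorem g_awayMap_right (i j : Fin (n + 1)) :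
    g n R j ≫ CommRingCat.ofHom (awayMap 𝒜 (X_mem n R i) (mul_comm _ _ : X i * X j = X j * X i)) =
      gg n R i j := by
  unfold g gg
  rw [Category.assoc, ← Scheme.ΓSpecIso_naturality, ← Category.assoc, ← Scheme.Hom.comp_appTop,
    Proj.SpecMap_awayMap_awayι]

end Groth.Agent.Lib.Helper26.ProjGamma
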