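import Mathlib
import Groth.Prelude.Def_CohB1
import Groth.Agent.Lib.Helper26.ProjChart
import Groth.Agent.Lib.Helper26.ProjGamma1

set_option autoImplicit false
universe u

namespace Groth.Agent.Lib.Helper26.ProjGamma

open MvPolynomial AlgebraicGeometry HomogeneousLocalization TopologicalSpace CategoryTheory Opposite
open Groth.Agent.Lib.Helper26.ProjChart

variable (n : ℕ) (R : Type u) [CommRing R]

local notation "𝒜" => CohB1.polyGrading n R

theorem g_jointly_injective (s t : Γ(Proj 𝒜, ⊤))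
    (h : ∀ i, (g n R i).hom s = (g n R i).hom t) : s = t := by
  refine (Proj 𝒜).sheaf.eq_of_locally_eq'
    (fun i : Fin (n + 1) => (Proj.basicOpen 𝒜 (X i : MvPolynomial (Fin (n + 1)) R)).ι ''ᵁ ⊤) ⊤
    (fun i => homOfLE le_top) ?_ s t ?_
  · simp only [Scheme.Opens.ι_image_top]
    exact (iSup_basicOpen n R).ge
  · intro i
    have h1 := h i
    unfold g at h1
    rw [CommRingCat.hom_comp, RingHom.comp_apply, RingHom.comp_apply] at h1
    have h2 := (ConcreteCategory.bijective_of_isIso (Scheme.ΓSpecIso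
      (CommRingCat.of (Away 𝒜 (X i : MvPolynomial (Fin (n + 1)) R)))).hom).injective h1
    have h3 : Proj.awayι 𝒜 (X i : MvPolynomial (Fin (n + 1)) R) (X_mem n R i) one_pos =
      (Proj.basicOpenIsoSpec 𝒜 (X i : MvPolynomial (Fin (n + 1)) R) (X_mem n R i) one_pos).inv ≫
        (Proj.basicOpen 𝒜 (X i : MvPolynomial (Fin (n + 1)) R)).ι := rfl
    rw [h3, Scheme.Hom.comp_appTop, CommRingCat.hom_comp, RingHom.comp_apply, RingHom.comp_apply] at h2
    have hiso : IsIso (Proj.basicOpenIsoSpec 𝒜 (X i : MvPolynomial (Fin (n + 1)) R)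
        (X_mem n R i) one_pos).inv.appTop :=
      inferInstanceAs (IsIso ((Proj.basicOpenIsoSpec 𝒜 (X i : MvPolynomial (Fin (n + 1)) R)
        (X_mem n R i) one_pos).inv.app ⊤))
    have h4 := (ConcreteCategory.bijective_of_isIso
      (Proj.basicOpenIsoSpec 𝒜 (X i : MvPolynomial (Fin (n + 1)) R) (X_mem n R i) one_pos).inv.appTop).injective h2
    exact h4

end Groth.Agent.Lib.Helper26.ProjGamma
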