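import Mathlib
import Groth.Prelude.Def_CohB1
import Groth.Agent.Lib.Helper26.ProjChart

/-!
# Global functions on projective space (algebraic part)
-/

set_option autoImplicit false
universe u

namespace Groth.Agent.Lib.Helper26.ProjGamma

open MvPolynomial HomogeneousLocalization
open Groth.Agent.Lib.Helper26.ProjChart

theorem coeff_eq_zero_of_mul_monomial_eq {σ R : Type*} [CommRing R] (p q : MvPolynomial σ R)
    (s₁ s₂ : σ →₀ ℕ) (h : p * monomial s₁ 1 = q * monomial s₂ 1) (i : σ) (μ : σ →₀ ℕ)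
    (hμ : μ i + s₁ i < s₂ i) : coeff μ p = 0 := by
  classical
  have := congrArg (coeff (μ + s₁)) h
  rw [coeff_mul_monomial', coeff_mul_monomial', if_pos (le_add_left le_rfl), add_tsub_cancel_right,
    mul_one, if_neg] at this
  · exact this
  · intro hle
    have := hle i
    simp only [Finsupp.coe_add, Pi.add_apply] at this
    omega

variable (n : ℕ) (R : Type u) [CommRing R]

local notation "𝒜" => CohB1.polyGrading n R

theorem X_pow_mul_X_pow (i j : Fin (n + 1)) (a b : ℕ) :
    (X i ^ a * X j ^ b : MvPolynomial (Fin (n + 1)) R) =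
      monomial (Finsupp.single i a + Finsupp.single j b) 1 := by
  rw [X_pow_eq_monomial, X_pow_eq_monomial, monomial_mul, one_mul]

/-- a homogeneous polynomial of degree `d` all of whose monomials have `i`-exponent at least `d`
is a multiple of `X i ^ d` -/
theorem eq_C_mul_X_pow (i : Fin (n + 1)) (d : ℕ) (p : MvPolynomial (Fin (n + 1)) R)
    (hp : p.IsHomogeneous d) (h : ∀ μ : Fin (n + 1) →₀ ℕ, μ i < d → coeff μ p = 0) :
    p = C (coeff (Finsupp.single i d) p) * X i ^ d := by
  classical
  ext μ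
  rw [coeff_C_mul, coeff_X_pow]
  split_ifs with hμ
  · rw [← hμ, mul_one]
  · rw [mul_zero]
    by_cases hlt : μ i < d
    · exact h μ hlt
    · push Not at hlt
      apply hp.coeff_eq_zero
      intro hdeg
      apply hμ
      rw [Finsupp.degree_eq_sum] at hdeg
      have hsum : ∑ k, μ k = μ i + ∑ k ∈ Finset.univ.erase i, μ k :=
        (Finset.add_sum_erase Finset.univ μ (Finset.mem_univ i)).symm
      have hi : μ i = d := by omega
      have hzero : ∑ k ∈ Finset.univ.erase i, μ k = 0 := by omega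
      ext k
      by_cases hk : k = i
      · subst hk; simp [hi]
      · rw [Finsupp.single_apply, if_neg (Ne.symm hk)]
        exact (Finset.sum_eq_zero_iff.mp hzero k (Finset.mem_erase.mpr ⟨hk, Finset.mem_univ k⟩)).symm

theorem const_of_compat (i j : Fin (n + 1)) (hij : i ≠ j)
    (a : Away 𝒜 (X i : MvPolynomial (Fin (n + 1)) R)) (b : Away 𝒜 (X j : MvPolynomial (Fin (n + 1)) R))
    (h : awayMap 𝒜 (X_mem n R j) (rfl : X i * X j = X i * X j) a =
      awayMap 𝒜 (X_mem n R i) (mul_comm _ _ : X i * X j = X j * X i) b) :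
    ∃ r : R, a = fromZeroRingHom 𝒜 _ (algebraMap R (𝒜 0) r) := by
  obtain ⟨d, p, hp, rfl⟩ := Away.mk_surjective 𝒜 (X_mem n R i) a
  obtain ⟨e, q, hq, rfl⟩ := Away.mk_surjective 𝒜 (X_mem n R j) b
  rw [awayMap_mk, awayMap_mk, HomogeneousLocalization.ext_iff_val, Away.val_mk, Away.val_mk,
    Localization.mk_eq_mk_iff, Localization.r_iff_exists] at h
  obtain ⟨⟨_, N, rfl⟩, hc⟩ := h
  simp only at hc
  have h1 : p * monomial (Finsupp.single i (N + e) + Finsupp.single j (N + e + d)) 1 =
      q * monomial (Finsupp.single i (N + d + e) + Finsupp.single j (N + d)) 1 := by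
    rw [← X_pow_mul_X_pow, ← X_pow_mul_X_pow]
    calc p * (X i ^ (N + e) * X j ^ (N + e + d))
        = (X i * X j) ^ N * ((X i * X j) ^ e * (p * X j ^ d)) := by ring
      _ = (X i * X j) ^ N * ((X i * X j) ^ d * (q * X i ^ e)) := hc
      _ = q * (X i ^ (N + d + e) * X j ^ (N + d)) := by ring
  have h2 : ∀ μ : Fin (n + 1) →₀ ℕ, μ i < d → coeff μ p = 0 := by
    intro μ hμ
    refine coeff_eq_zero_of_mul_monomial_eq p q _ _ h1 i μ ?_
    simp only [Finsupp.coe_add, Pi.add_apply, Finsupp.single_eq_same,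
      Finsupp.single_eq_of_ne hij]
    omega
  have hp' : p.IsHomogeneous d := by
    have : p ∈ 𝒜 (d • 1) := hp
    rwa [smul_eq_mul, mul_one] at this
  have h3 := eq_C_mul_X_pow n R i d p hp' h2
  refine ⟨coeff (Finsupp.single i d) p, ?_⟩
  rw [HomogeneousLocalization.ext_iff_val, Away.val_mk]
  have : (fromZeroRingHom 𝒜 (Submonoid.powers (X i : MvPolynomial (Fin (n + 1)) R))
      (algebraMap R (𝒜 0) (coeff (Finsupp.single i d) p))).val =
      Localization.mk (C (coeff (Finsupp.single i d) p)) 1 := rfl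
  rw [this, Localization.mk_eq_mk_iff, Localization.r_iff_exists]
  refine ⟨1, ?_⟩
  simp only [OneMemClass.coe_one, one_mul]
  conv_lhs => rw [h3]
  ring

/-- evaluation at the point `(1, …, 1)` -/
noncomputable def χ (f : MvPolynomial (Fin (n + 1)) R) (hf : IsUnit (eval (fun _ => (1 : R)) f)) :
    Away 𝒜 f →+* R :=
  (IsLocalization.Away.lift f (g := eval (fun _ => (1 : R))) hf).comp
    (algebraMap (Away 𝒜 f) (Localization.Away f))

theorem χ_fromZero (f : MvPolynomial (Fin (n + 1)) R) (hf : IsUnit (eval (fun _ => (1 : R)) f)) (r : R) :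
    χ n R f hf (fromZeroRingHom 𝒜 _ (algebraMap R (𝒜 0) r)) = r := by
  have : (fromZeroRingHom 𝒜 (Submonoid.powers f) (algebraMap R (𝒜 0) r)).val =
      algebraMap (MvPolynomial (Fin (n + 1)) R) (Localization.Away f) (C r) := by
    rw [← Localization.mk_one_eq_algebraMap]
    rfl
  simp only [χ, RingHom.comp_apply, HomogeneousLocalization.algebraMap_apply]
  rw [this, IsLocalization.Away.lift_eq]
  simp

theorem fromZero_injective (f : MvPolynomial (Fin (n + 1)) R) (hf : IsUnit (eval (fun _ => (1 : R)) f))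
    (r r' : R) (h : fromZeroRingHom 𝒜 (Submonoid.powers f) (algebraMap R (𝒜 0) r) =
      fromZeroRingHom 𝒜 (Submonoid.powers f) (algebraMap R (𝒜 0) r')) : r = r' := by
  have := congrArg (χ n R f hf) h
  rwa [χ_fromZero, χ_fromZero] at this

end Groth.Agent.Lib.Helper26.ProjGamma
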