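import Mathlib
import Groth.Prelude.Def_CohB1
import Groth.Agent.Lib.Helper26.ProjChart
import Groth.Agent.Lib.Helper26.ProjGamma1
import Groth.Agent.Lib.Helper26.ProjGamma2
import Groth.Agent.Lib.Helper26.ProjGamma3

set_option autoImplicit false
universe u

namespace Groth.Agent.Lib.Helper26.ProjGamma

open MvPolynomial AlgebraicGeometry HomogeneousLocalization TopologicalSpace CategoryTheory Opposite
open Groth.Agent.Lib.Helper26.ProjChart

variable (n : ℕ) (R : Type u) [CommRing R]

local notation "𝒜" => CohB1.polyGrading n R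

theorem toSpec_g_apply (i : Fin (n + 1)) (x : Γ(Spec (CommRingCat.of R), ⊤)) :
    (g n R i).hom ((toSpec' n R).appTop.hom x) =
      fromZeroRingHom 𝒜 (Submonoid.powers (X i : MvPolynomial (Fin (n + 1)) R))
        (algebraMap R (𝒜 0) ((Scheme.ΓSpecIso (CommRingCat.of R)).hom.hom x)) := by
  have := congrArg (fun f => f.hom x) (toSpec_g n R i)
  simpa using this

theorem compat (i j : Fin (n + 1)) (s : Γ(Proj 𝒜, ⊤)) :
    awayMap 𝒜 (X_mem n R j) (rfl : X i * X j = X i * X j) ((g n R i).hom s) =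
      awayMap 𝒜 (X_mem n R i) (mul_comm _ _ : X i * X j = X j * X i) ((g n R j).hom s) := by
  have h1 := congrArg (fun f => f.hom s) (g_awayMap_left n R i j)
  have h2 := congrArg (fun f => f.hom s) (g_awayMap_right n R i j)
  simp only [CommRingCat.hom_comp, CommRingCat.hom_ofHom, RingHom.comp_apply] at h1 h2
  rw [h1, h2]

theorem isUnit_eval_XX (i j : Fin (n + 1)) :
    IsUnit (eval (fun _ => (1 : R)) (X i * X j : MvPolynomial (Fin (n + 1)) R)) := by
  simp

theorem exists_const (s : Γ(Proj 𝒜, ⊤)) :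
    ∃ r : R, ∀ i, (g n R i).hom s = fromZeroRingHom 𝒜 _ (algebraMap R (𝒜 0) r) := by
  rcases Nat.eq_zero_or_pos n with rfl | hn
  · -- `n = 0`: the chart ring is `R`
    have hsub : Subsingleton (Fin (0 + 1)) := inferInstanceAs (Subsingleton (Fin 1))
    obtain ⟨p, hp⟩ := φ_surjective 0 R 0 ((g 0 R 0).hom s)
    have : IsEmpty {j : Fin (0 + 1) // j ≠ 0} := ⟨fun j => j.2 (Subsingleton.elim _ _)⟩
    obtain ⟨r, rfl⟩ := C_surjective _ p
    refine ⟨r, fun i => ?_⟩
    obtain rfl : i = 0 := Subsingleton.elim _ _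
    rw [← hp]
    simp [φ]
  · have h01 : (0 : Fin (n + 1)) ≠ ⟨1, by omega⟩ := by
      intro h
      have := congrArg Fin.val h
      simp at this
    obtain ⟨r, hr⟩ := const_of_compat n R 0 ⟨1, by omega⟩ h01 _ _ (compat n R 0 ⟨1, by omega⟩ s)
    refine ⟨r, fun i => ?_⟩
    by_cases hi : i = 0
    · subst hi; exact hr
    · obtain ⟨r', hr'⟩ := const_of_compat n R i 0 hi _ _ (compat n R i 0 s)
      have hc := compat n R i 0 s
      rw [hr', hr, awayMap_fromZeroRingHom, awayMap_fromZeroRingHom] at hc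
      have := fromZero_injective n R _ (isUnit_eval_XX n R i 0) _ _ hc
      rw [hr', this]

theorem isIso_appTop' : IsIso (toSpec' n R).appTop := by
  rw [ConcreteCategory.isIso_iff_bijective]
  constructor
  · intro x y hxy
    have h1 : (g n R 0).hom ((toSpec' n R).appTop.hom x) = (g n R 0).hom ((toSpec' n R).appTop.hom y) :=
      congrArg _ hxy
    rw [toSpec_g_apply, toSpec_g_apply] at h1
    have h2 := fromZero_injective n R (X 0) (by simp) _ _ h1
    exact (ConcreteCategory.bijective_of_isIso (Scheme.ΓSpecIso (CommRingCat.of R)).hom).injective h2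
  · intro s
    obtain ⟨r, hr⟩ := exists_const n R s
    refine ⟨(Scheme.ΓSpecIso (CommRingCat.of R)).inv.hom r, ?_⟩
    refine g_jointly_injective n R _ _ fun i => ?_
    change (g n R i).hom ((toSpec' n R).appTop.hom _) = _
    rw [toSpec_g_apply, hr i]
    congr 2
    exact Iso.inv_hom_id_apply (Scheme.ΓSpecIso (CommRingCat.of R)) r

theorem main : IsIso (CohB1.ProjSpace.toSpec n R).appTop :=
  isIso_appTop' n R

end Groth.Agent.Lib.Helper26.ProjGamma
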