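import Mathlib
import Groth.Agent.Lib.Helper26.PnLaurent3

set_option autoImplicit false
set_option linter.unusedSectionVars false
set_option linter.unusedVariables false
universe u
open Finsupp

namespace Groth.Agent.Helper26.PnCoh

section LPdef
variable (n : ℕ) (R : Type u) [CommRing R]

/-- the Laurent polynomial ring in `n + 1` variables. -/
abbrev LP := AddMonoidAlgebra R (E n)

variable {n R}

/-- Laurent polynomials as elements of the Laurent polynomial ring. -/
noncomputable def toLP : Lam n R ≃+ LP n R := AddMonoidAlgebra.coeffAddEquiv.symm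

theorem coeff_toLP (l : Lam n R) : (toLP l).coeff = l := rfl

theorem toLP_coeff (x : LP n R) : toLP x.coeff = x := rfl

theorem toLP_single (e : E n) (r : R) :
    toLP (Finsupp.single e r) = AddMonoidAlgebra.single e r := rfl

/-- polynomials as Laurent polynomials. -/
noncomputable def polyToLP : MvPolynomial (Fin (n + 1)) R →+* LP n R :=
  AddMonoidAlgebra.mapDomainRingHom R (castE (n := n))

theorem polyToLP_monomial (μ : Fin (n + 1) →₀ ℕ) (r : R) :
    polyToLP (MvPolynomial.monomial μ r) = AddMonoidAlgebra.single (castE μ) r := by
  unfold polyToLP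
  have : (MvPolynomial.monomial μ r : MvPolynomial (Fin (n + 1)) R) =
      AddMonoidAlgebra.single μ r := rfl
  rw [this]
  simp

/-- the monomial `x^v`. -/
noncomputable def xpow (v : E n) : LP n R := AddMonoidAlgebra.single v 1

theorem xpow_add (v w : E n) : (xpow (v + w) : LP n R) = xpow v * xpow w := by
  unfold xpow
  rw [AddMonoidAlgebra.single_mul_single, one_mul]

theorem xpow_zero : (xpow 0 : LP n R) = 1 := rfl

theorem xpow_neg_mul (v : E n) : (xpow (-v) : LP n R) * xpow v = 1 := by
  rw [← xpow_add, neg_add_cancel, xpow_zero]

theorem toLP_sh (v : E n) (b : MvPolynomial (Fin (n + 1)) R) :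
    toLP (sh v b) = xpow v * polyToLP b := by
  induction b using MvPolynomial.induction_on' with
  | monomial μ r =>
    rw [sh_monomial, toLP_single, polyToLP_monomial]
    unfold xpow
    rw [AddMonoidAlgebra.single_mul_single, one_mul, add_comm]
  | add p q hp hq =>
    rw [sh_add, map_add, hp, hq, map_add, mul_add]

theorem toLP_smul (r : R) (l : Lam n R) : toLP (r • l) = r • toLP l := rfl

end LPdef

end Groth.Agent.Helper26.PnCoh
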