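import Mathlib
import Groth.Agent.Lib.Helper26.PnTopC
import Groth.Agent.Lib.Helper26.PnLP

set_option autoImplicit false
set_option linter.unusedSectionVars false
set_option linter.unusedVariables false
universe u
open CategoryTheory CategoryTheory.Limits AlgebraicGeometry Opposite TopologicalSpace TopCat
open Twist Groth.Agent.Helper28.TwistMul
open Groth.Agent.Helper24.CechEv Groth.Agent.Helper13.CechAcyc

namespace Groth.Agent.Helper26.PnCoh

section Mul

variable {R A : Type u} [CommRing R] [CommRing A] [Algebra R A] {𝒜 : ℕ → Submodule R A}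
  [GradedAlgebra 𝒜]

/-- scalar multiplication on sections of `O(d)` (a name, to help instance search). -/
def osmul {d : ℤ} (U : (Opens (ProjectiveSpectrum.top 𝒜))ᵒᵖ) (c : O (𝒜 := 𝒜) U)
    (s : sectN (𝒜 := 𝒜) d U) : sectN (𝒜 := 𝒜) d U := c • s

theorem osmul_val {d : ℤ} (U : (Opens (ProjectiveSpectrum.top 𝒜))ᵒᵖ) (c : O (𝒜 := 𝒜) U)
    (s : sectN (𝒜 := 𝒜) d U) (x : U.unop) :
    (((osmul U c s).1 x).1 : Loc 𝒜 x.1) = (c.1 x).val * ((s.1 x).1 : Loc 𝒜 x.1) :=
  Twist.coe_smul_val d x.1 _ _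

theorem osmul_oneSec_val (U : (Opens (ProjectiveSpectrum.top 𝒜))ᵒᵖ) (c : O (𝒜 := 𝒜) U)
    (x : U.unop) : (((osmul U c (oneSec U)).1 x).1 : Loc 𝒜 x.1) = (c.1 x).val :=
  smul_oneSec_val U c x

/-- scalar multiplication of a fraction by a function which is itself a fraction. -/
theorem osmul_fracSec_of_frac (d : ℤ) (U : Opens (ProjectiveSpectrum.top 𝒜))
    (c : O (𝒜 := 𝒜) (op U))
    {i₀ j₀ : ℕ} (b₀ : A) (hb₀ : b₀ ∈ 𝒜 i₀) (s₀ : A) (hs₀ : s₀ ∈ 𝒜 j₀) (hij₀ : (i₀ : ℤ) = j₀ + 0)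
    (nin₀ : ∀ x : U, s₀ ∉ x.1.asHomogeneousIdeal)
    (hc : osmul (op U) c (oneSec (op U)) = fracSec 0 U b₀ hb₀ s₀ hs₀ hij₀ nin₀)
    {i j : ℕ} (b : A) (hb : b ∈ 𝒜 i) (s : A) (hs : s ∈ 𝒜 j) (hij : (i : ℤ) = j + d)
    (nin : ∀ x : U, s ∉ x.1.asHomogeneousIdeal) :
    osmul (op U) c (fracSec d U b hb s hs hij nin) =
      fracSec d U (b₀ * b) (SetLike.mul_mem_graded hb₀ hb) (s₀ * s)
        (SetLike.mul_mem_graded hs₀ hs) (by push_cast; omega)
        (fun x hx => (x.1.isPrime.mem_or_mem hx).elim (nin₀ x) (nin x)) := by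
  apply sectN_ext
  intro x
  have h1 := osmul_val (op U) c (fracSec d U b hb s hs hij nin) x
  have h2 : (c.1 x).val = Localization.mk b₀ ⟨s₀, nin₀ x⟩ := by
    rw [← osmul_oneSec_val (op U) c x, hc]
    rfl
  refine h1.trans ?_
  rw [h2]
  change Localization.mk b₀ ⟨s₀, nin₀ x⟩ * Localization.mk b ⟨s, nin x⟩ = _
  rw [Localization.mk_mul]
  rfl

end Mul

section Gen

variable {R A : Type u} [CommRing R] [CommRing A] [Algebra R A] {𝒜 : ℕ → Submodule R A}
  [GradedAlgebra 𝒜]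

theorem toNat_sub_toNat (a : ℤ) : ((a.toNat : ℕ) : ℤ) = ((-a).toNat : ℕ) + a := by
  omega

/-- the local generator `t ^ a` of `O(a)` over an open where the degree one element `t` is
invertible. -/
def genT (a : ℤ) {t : A} (ht : t ∈ 𝒜 1) (T : Opens (ProjectiveSpectrum.top 𝒜))
    (hT : ∀ x : T, t ∉ x.1.asHomogeneousIdeal) : sectN (𝒜 := 𝒜) a (op T) :=
  fracSec a T (t ^ a.toNat) (tpow_mem ht a.toNat) (t ^ (-a).toNat) (tpow_mem ht (-a).toNat)
    (toNat_sub_toNat a) (pow_nin hT _)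

theorem resN_genT (a : ℤ) {t : A} (ht : t ∈ 𝒜 1) {T T' : Opens (ProjectiveSpectrum.top 𝒜)}
    (hTT : T' ≤ T) (hT : ∀ x : T, t ∉ x.1.asHomogeneousIdeal) :
    resN a (homOfLE hTT).op (genT a ht T hT) = genT a ht T' (fun x => hT ⟨x.1, hTT x.2⟩) :=
  resN_fracSec a hTT _ _ _ _ _ _

/-- `O(a)` is generated by `t ^ a` over any open where `t` is invertible. -/
theorem exists_osmul_genT (a : ℤ) {t : A} (ht : t ∈ 𝒜 1) (T : Opens (ProjectiveSpectrum.top 𝒜))
    (hT : ∀ x : T, t ∉ x.1.asHomogeneousIdeal) (s : sectN (𝒜 := 𝒜) a (op T)) :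
    ∃ c : O (𝒜 := 𝒜) (op T), s = osmul (op T) c (genT a ht T hT) := by
  have h1 : ((a.toNat : ℕ) : ℤ) = a + ((-a).toNat : ℕ) := by omega
  have h2 : ((a.toNat : ℕ) : ℤ) = 0 + (a.toNat : ℕ) := by omega
  have hq := tpow_mem ht (-a).toNat
  have hp := tpow_mem ht a.toNat
  obtain ⟨s₀, hs₀⟩ := (mulSec_bijective hp h2 T (pow_nin hT _)).2 (mulSec hq h1 (op T) s)
  obtain ⟨c, hc⟩ := (smul_oneSec_bijective (𝒜 := 𝒜) (op T)).2 s₀
  refine ⟨c, ?_⟩
  apply (mulSec_bijective hq h1 T (pow_nin hT _)).1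
  have e1 : mulSec hq h1 (op T) (osmul (op T) c (genT a ht T hT)) =
      osmul (op T) c (mulSec hq h1 (op T) (genT a ht T hT)) := mulSec_smul hq h1 (op T) c _
  have e2 : mulSec hq h1 (op T) (genT a ht T hT) = mulSec hp h2 (op T) (oneSec (op T)) := by
    apply sectN_ext
    intro x
    rw [mulSec_val, mulSec_val]
    change algebraMap A (Loc 𝒜 x.1) (t ^ (-a).toNat) *
      Localization.mk (t ^ a.toNat) ⟨t ^ (-a).toNat, pow_nin hT _ x⟩ =
        algebraMap A (Loc 𝒜 x.1) (t ^ a.toNat) * 1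
    rw [mul_one, ← Localization.mk_one_eq_algebraMap, ← Localization.mk_one_eq_algebraMap,
      Localization.mk_mul, Localization.mk_eq_mk_iff, Localization.r_iff_exists]
    refine ⟨1, ?_⟩
    simp only [OneMemClass.coe_one, one_mul]
  have e3 : osmul (op T) c (mulSec hp h2 (op T) (oneSec (op T))) =
      mulSec hp h2 (op T) (osmul (op T) c (oneSec (op T))) :=
    (mulSec_smul hp h2 (op T) c _).symm
  rw [e1, e2, e3]
  have e4 : osmul (op T) c (oneSec (op T)) = s₀ := hc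
  rw [e4, hs₀]

end Gen

section App

variable {R A : Type u} [CommRing R] [CommRing A] [Algebra R A] {𝒜 : ℕ → Submodule R A}
  [GradedAlgebra 𝒜]

/-- the action of a morphism `O(a) ⟶ O(b)` on sections. -/
noncomputable def appSec {a b : ℤ} (φ : Twist.twist 𝒜 a ⟶ Twist.twist 𝒜 b)
    (U : (Opens (ProjectiveSpectrum.top 𝒜))ᵒᵖ) (s : sectN (𝒜 := 𝒜) a U) : sectN (𝒜 := 𝒜) b U :=
  (φ.val.app U).hom s

theorem appSec_add {a b : ℤ} (φ : Twist.twist 𝒜 a ⟶ Twist.twist 𝒜 b)
    (U : (Opens (ProjectiveSpectrum.top 𝒜))ᵒᵖ) (s t : sectN (𝒜 := 𝒜) a U) :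
    appSec φ U (s + t) = appSec φ U s + appSec φ U t :=
  (φ.val.app U).hom.map_add s t

theorem appSec_smul {a b : ℤ} (φ : Twist.twist 𝒜 a ⟶ Twist.twist 𝒜 b)
    (U : (Opens (ProjectiveSpectrum.top 𝒜))ᵒᵖ) (c : O (𝒜 := 𝒜) U) (s : sectN (𝒜 := 𝒜) a U) :
    appSec φ U (c • s) = c • appSec φ U s :=
  (φ.val.app U).hom.map_smul c s

theorem appSec_res {a b : ℤ} (φ : Twist.twist 𝒜 a ⟶ Twist.twist 𝒜 b)
    {U V : (Opens (ProjectiveSpectrum.top 𝒜))ᵒᵖ} (i : U ⟶ V) (s : sectN (𝒜 := 𝒜) a U) :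
    resN b i (appSec φ U s) = appSec φ V (resN a i s) := by
  have h := PresheafOfModules.naturality_apply φ.val i s
  exact h.symm


theorem hom_ext_appSec {a b : ℤ} (φ φ' : Twist.twist 𝒜 a ⟶ Twist.twist 𝒜 b)
    (h : ∀ (U : (Opens (ProjectiveSpectrum.top 𝒜))ᵒᵖ) (s : sectN (𝒜 := 𝒜) a U),
      appSec φ U s = appSec φ' U s) : φ = φ' := by
  apply SheafOfModules.hom_ext
  apply PresheafOfModules.hom_ext
  intro U
  ext s
  exact h U s

theorem toSheaf_map_app {a b : ℤ} (φ : Twist.twist 𝒜 a ⟶ Twist.twist 𝒜 b)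
    (U : (Opens (ProjectiveSpectrum.top 𝒜))ᵒᵖ) (s : sectN (𝒜 := 𝒜) a U) :
    (((SheafOfModules.toSheaf (Proj 𝒜).ringCatSheaf).map φ).hom.app U).hom s = appSec φ U s := rfl

theorem appSec_mulHom {e : ℕ} {g : A} (hg : g ∈ 𝒜 e) {m m' : ℤ} (h : m' = m + e)
    (U : (Opens (ProjectiveSpectrum.top 𝒜))ᵒᵖ) (s : sectN (𝒜 := 𝒜) m U) :
    appSec (mulHom 𝒜 hg h) U s = mulSec hg h U s := rfl

end App

section Poly

variable {n : ℕ} {R : Type u} [CommRing R]

theorem gI_singleton (i : Fin (n + 1)) :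
    gI R ({i} : Finset (Fin (n + 1))) = MvPolynomial.X i := by
  have := gI_insert (R := R) (Finset.notMem_empty i)
  rw [← insert_empty_eq, this]
  unfold gI
  have h3 : natOne (∅ : Finset (Fin (n + 1))) = 0 := by
    ext j
    rw [natOne_apply]
    simp
  rw [h3]
  simp

theorem X_nin_of_le (i : Fin (n + 1)) (T : Opens (ProjectiveSpectrum.top (CohB1.polyGrading n R)))
    (hT : T ≤ DP (CohB1.polyGrading n R) (gI R {i})) :
    ∀ x : T, (MvPolynomial.X i : MvPolynomial (Fin (n + 1)) R) ∉ x.1.asHomogeneousIdeal := by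
  intro x hx
  have h1 := hT x.2
  apply h1
  change gI R {i} ∈ x.1.asHomogeneousIdeal
  rw [gI_singleton]
  exact hx

/-- the Laurent expansion of a fraction with monomial denominator over `D₊(X_0 ⋯ X_n)`. -/
theorem rho_frac_mono (d : ℤ) {i j : ℕ} (b : MvPolynomial (Fin (n + 1)) R)
    (hb : b ∈ CohB1.polyGrading n R i) (ν : Fin (n + 1) →₀ ℕ)
    (s : MvPolynomial (Fin (n + 1)) R) (hs' : s = MvPolynomial.monomial ν 1)
    (hj : j = ν.degree)
    (hs : s ∈ CohB1.polyGrading n R j) (hij : (i : ℤ) = j + d)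
    (nin : ∀ x : DP (CohB1.polyGrading n R) (gI R (Uall n)), s ∉ x.1.asHomogeneousIdeal) :
    rho d (fracSec d (DP (CohB1.polyGrading n R) (gI R (Uall n))) b hb s hs hij nin) =
      sh (-castE ν) b := by
  classical
  subst hs'
  set k := ν.degree with hk
  have hle : ν ≤ k • natOne (Uall n) := by
    intro l
    rw [Finsupp.smul_apply, natOne_apply, if_pos (Finset.mem_univ l), smul_eq_mul, mul_one]
    exact Finsupp.le_degree l ν
  set ν' := k • natOne (Uall n) - ν with hν'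
  have hadd : ν + ν' = k • natOne (Uall n) := add_tsub_cancel_of_le hle
  have hdeg : ν.degree + ν'.degree = k * (Uall n).card := by
    have := congrArg Finsupp.degree hadd
    rw [map_add, map_nsmul, natOne_degree, smul_eq_mul] at this
    exact this
  have hm' : (MvPolynomial.monomial ν' (1 : R)) ∈ CohB1.polyGrading n R ν'.degree :=
    (MvPolynomial.mem_homogeneousSubmodule _ _).2 (MvPolynomial.isHomogeneous_monomial _ rfl)
  have hb2 : b * MvPolynomial.monomial ν' 1 ∈ CohB1.polyGrading n R (i + ν'.degree) :=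
    SetLike.mul_mem_graded hb hm'
  have hij2 : ((i + ν'.degree : ℕ) : ℤ) = ((k * (Uall n).card : ℕ) : ℤ) + d := by
    rw [← hdeg]
    push_cast
    rw [hij, hj]
    ring
  rw [fracSec_eq_of_mul_eq d _ b hb _ hs hij nin (b * MvPolynomial.monomial ν' 1) hb2
    (gI R (Uall n) ^ k) (SetLike.pow_mem_graded k (gI_mem (Uall n))) hij2
    (pow_nin (nin_pbo (gI R (Uall n))) k)
    (by rw [gI_pow, ← hadd, mul_assoc, MvPolynomial.monomial_mul, one_mul, add_comm ν' ν])]
  rw [rho_frac, sh_mul_monomial]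
  congr 1
  have h3 : castE ν + castE ν' = k • oneJ (Uall n) := by
    rw [← map_add, hadd, castE_nsmul_natOne]
  rw [← h3]
  abel


/-- the Laurent expansion, with values in the Laurent polynomial ring. -/
noncomputable def rhoL (d : ℤ)
    (σ : sectN (𝒜 := CohB1.polyGrading n R) d
      (op (DP (CohB1.polyGrading n R) (gI R (Uall n))))) : LP n R := toLP (rho d σ)

theorem rhoL_injective (d : ℤ) : Function.Injective (rhoL (n := n) (R := R) d) := by
  intro σ σ' h
  have h1 : rho d σ = rho d σ' := toLP.injective h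
  have hW : DP (CohB1.polyGrading n R) (gI R (Uall n)) ≤
      DP (CohB1.polyGrading n R) (gI R (Uall n)) := le_refl _
  exact theta_inj Finset.univ_nonempty d hW σ σ' h1

/-- the Laurent expansion is multiplicative. -/
theorem rhoL_osmul (d : ℤ)
    (c : O (𝒜 := CohB1.polyGrading n R) (op (DP (CohB1.polyGrading n R) (gI R (Uall n)))))
    (σ : sectN (𝒜 := CohB1.polyGrading n R) d
      (op (DP (CohB1.polyGrading n R) (gI R (Uall n))))) :
    rhoL d (osmul _ c σ) = rhoL 0 (osmul _ c (oneSec _)) * rhoL d σ := by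
  have h := exists_frac_J (Finset.univ_nonempty (α := Fin (n + 1))) d σ
  obtain ⟨k, h⟩ := h
  obtain ⟨j, h⟩ := h
  obtain ⟨b, h⟩ := h
  obtain ⟨hb, h⟩ := h
  obtain ⟨hij, hσ⟩ := h
  have h₀ := exists_frac_J (Finset.univ_nonempty (α := Fin (n + 1))) 0
    (osmul _ c (oneSec (op (DP (CohB1.polyGrading n R) (gI R (Uall n))))))
  obtain ⟨k₀, h₀⟩ := h₀
  obtain ⟨j₀, h₀⟩ := h₀
  obtain ⟨b₀, h₀⟩ := h₀
  obtain ⟨hb₀, h₀⟩ := h₀
  obtain ⟨hij₀, hc⟩ := h₀
  have e1 := osmul_fracSec_of_frac d _ c b₀ hb₀ _ _ hij₀ _ hc b hb (gI R (Uall n) ^ k)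
    (SetLike.pow_mem_graded k (gI_mem (Uall n))) hij (pow_nin (nin_pbo (gI R (Uall n))) k)
  have hij2 : ((j₀ + j : ℕ) : ℤ) = (((k₀ + k) * (Uall n).card : ℕ) : ℤ) + d := by
    push_cast at hij hij₀ ⊢
    rw [hij, hij₀]
    ring
  have e2 := fracSec_eq_of_mul_eq d (DP (CohB1.polyGrading n R) (gI R (Uall n)))
    (b₀ * b) (SetLike.mul_mem_graded hb₀ hb) (gI R (Uall n) ^ k₀ * gI R (Uall n) ^ k)
    (SetLike.mul_mem_graded (SetLike.pow_mem_graded k₀ (gI_mem (Uall n)))
      (SetLike.pow_mem_graded k (gI_mem (Uall n))))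
    (by simp only [smul_eq_mul]; push_cast at hij hij₀ ⊢; rw [hij, hij₀]; ring)
    (fun x hx => (x.1.isPrime.mem_or_mem hx).elim (pow_nin (nin_pbo (gI R (Uall n))) k₀ x)
      (pow_nin (nin_pbo (gI R (Uall n))) k x))
    (b₀ * b) (SetLike.mul_mem_graded hb₀ hb) (gI R (Uall n) ^ (k₀ + k))
    (SetLike.pow_mem_graded (k₀ + k) (gI_mem (Uall n))) hij2
    (pow_nin (nin_pbo (gI R (Uall n))) (k₀ + k)) (by rw [pow_add])
  unfold rhoL
  rw [hc, rho_frac]
  conv_lhs => rw [hσ]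
  rw [e1, e2, rho_frac]
  conv_rhs => rw [hσ, rho_frac]
  rw [toLP_sh, toLP_sh, toLP_sh, map_mul]
  have e3 : (-((k₀ + k) • oneJ (Uall n)) : E n) = -(k₀ • oneJ (Uall n)) + -(k • oneJ (Uall n)) := by
    rw [add_smul]
    abel
  rw [e3, xpow_add]
  ring


/-- the `i`-th unit vector of exponents. -/
noncomputable def eI (i : Fin (n + 1)) : E n := Finsupp.single i 1

theorem X_nin_W (i : Fin (n + 1)) :
    ∀ x : DP (CohB1.polyGrading n R) (gI R (Uall n)),
      (MvPolynomial.X i : MvPolynomial (Fin (n + 1)) R) ∉ x.1.asHomogeneousIdeal :=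
  X_nin_of_le i _ (Wtop_le {i})

theorem rhoL_genT (a : ℤ) (i : Fin (n + 1)) :
    rhoL a (genT a (X_mem' (R := R) i) (DP (CohB1.polyGrading n R) (gI R (Uall n))) (X_nin_W i)) =
      xpow (a • eI i) := by
  unfold rhoL genT
  rw [rho_frac_mono a _ _ (Finsupp.single i (-a).toNat) _
    (MvPolynomial.X_pow_eq_monomial (R := R) (n := i) (e := (-a).toNat)) (by simp)]
  rw [toLP_sh, MvPolynomial.X_pow_eq_monomial, polyToLP_monomial]
  unfold xpow
  rw [AddMonoidAlgebra.single_mul_single, one_mul]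
  congr 1
  ext l
  unfold eI
  by_cases hl : l = i
  · subst hl
    simp [castE_apply]
    omega
  · simp [castE_apply, Ne.symm hl]

variable {a b : ℤ}

/-- the multiplier of a morphism `O(a) ⟶ O(b)`, computed in the `i`-th chart. -/
noncomputable def lamW (φ : Twist.twist (CohB1.polyGrading n R) a ⟶ Twist.twist (CohB1.polyGrading n R) b)
    (i : Fin (n + 1)) : LP n R :=
  xpow (-(a • eI i)) * rhoL b (appSec φ (op (DP (CohB1.polyGrading n R) (gI R (Uall n))))
    (genT a (X_mem' (R := R) i) (DP (CohB1.polyGrading n R) (gI R (Uall n))) (X_nin_W i)))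

/-- a morphism `O(a) ⟶ O(b)` acts on Laurent expansions by multiplication with its multiplier. -/
theorem rhoL_appSec (φ : Twist.twist (CohB1.polyGrading n R) a ⟶ Twist.twist (CohB1.polyGrading n R) b)
    (i : Fin (n + 1))
    (m : sectN (𝒜 := CohB1.polyGrading n R) a (op (DP (CohB1.polyGrading n R) (gI R (Uall n))))) :
    rhoL b (appSec φ (op (DP (CohB1.polyGrading n R) (gI R (Uall n)))) m) = lamW φ i * rhoL a m := by
  obtain ⟨c, rfl⟩ := exists_osmul_genT a (X_mem' (R := R) i) _ (X_nin_W i) m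
  have e1 : appSec φ (op (DP (CohB1.polyGrading n R) (gI R (Uall n))))
      (osmul _ c (genT a (X_mem' (R := R) i) _ (X_nin_W i))) =
      osmul _ c (appSec φ (op (DP (CohB1.polyGrading n R) (gI R (Uall n))))
        (genT a (X_mem' (R := R) i) _ (X_nin_W i))) := appSec_smul φ _ c _
  rw [e1, rhoL_osmul, rhoL_osmul a, rhoL_genT]
  unfold lamW
  have e2 : (xpow (-(a • eI i)) : LP n R) * xpow (a • eI i) = 1 := xpow_neg_mul _
  generalize rhoL b (appSec φ (op (DP (CohB1.polyGrading n R) (gI R (Uall n))))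
        (genT a (X_mem' (R := R) i) _ (X_nin_W i))) = y
  generalize rhoL 0 (osmul (op (DP (CohB1.polyGrading n R) (gI R (Uall n)))) c (oneSec _)) = z
  calc z * y = (xpow (-(a • eI i)) * xpow (a • eI i)) * (z * y) := by rw [e2, one_mul]
    _ = _ := by ring

theorem lamW_indep (φ : Twist.twist (CohB1.polyGrading n R) a ⟶ Twist.twist (CohB1.polyGrading n R) b)
    (i j : Fin (n + 1)) : lamW φ j = lamW φ i := by
  have h := rhoL_appSec φ i (genT a (X_mem' (R := R) j) _ (X_nin_W j))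
  rw [rhoL_genT] at h
  have e2 : (xpow (-(a • eI j)) : LP n R) * xpow (a • eI j) = 1 := xpow_neg_mul _
  conv_lhs => unfold lamW
  rw [h]
  calc xpow (-(a • eI j)) * (lamW φ i * xpow (a • eI j))
      = (xpow (-(a • eI j)) * xpow (a • eI j)) * lamW φ i := by ring
    _ = _ := by rw [e2, one_mul]


theorem sum_eI (i : Fin (n + 1)) : ∑ l, (eI i : E n) l = 1 := by
  unfold eI
  rw [Finset.sum_eq_single i]
  · simp
  · intro l _ hl
    simp [Ne.symm hl]
  · intro h
    exact absurd (Finset.mem_univ i) h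

theorem lamW_inL (φ : Twist.twist (CohB1.polyGrading n R) a ⟶ Twist.twist (CohB1.polyGrading n R) b)
    (i : Fin (n + 1)) : InL (b - a) {i} (lamW φ i).coeff := by
  have hUi : ∀ x : DP (CohB1.polyGrading n R) (gI R {i}),
      (MvPolynomial.X i : MvPolynomial (Fin (n + 1)) R) ∉ x.1.asHomogeneousIdeal :=
    X_nin_of_le i _ le_rfl
  have e1 : appSec φ (op (DP (CohB1.polyGrading n R) (gI R (Uall n))))
      (genT a (X_mem' (R := R) i) _ (X_nin_W i)) =
      resN b (homOfLE (Wtop_le {i})).op (appSec φ (op (DP (CohB1.polyGrading n R) (gI R {i})))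
        (genT a (X_mem' (R := R) i) _ hUi)) := by
    rw [appSec_res, resN_genT]
  have h1 := theta_inL (Finset.singleton_nonempty i) b (Wtop_le {i})
    (appSec φ (op (DP (CohB1.polyGrading n R) (gI R {i}))) (genT a (X_mem' (R := R) i) _ hUi))
  rw [← e1] at h1
  intro e he
  rw [Finsupp.mem_support_iff] at he
  unfold lamW xpow at he
  rw [AddMonoidAlgebra.coeff_single_mul_apply, one_mul] at he
  have h2 := h1 (-(-(a • eI i)) + e) (Finsupp.mem_support_iff.2 he)
  obtain ⟨h3, h4⟩ := h2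
  constructor
  · have h5 : ∑ l, (-(-(a • eI i)) + e) l = a + ∑ l, e l := by
      simp only [neg_neg, Finsupp.add_apply, Finsupp.smul_apply, smul_eq_mul,
        Finset.sum_add_distrib]
      rw [← Finset.mul_sum, sum_eI, mul_one]
    rw [h5] at h3
    omega
  · intro j hj
    by_contra hji
    rw [Finset.mem_singleton] at hji
    have h6 : (-(-(a • eI i)) + e) j = e j := by
      simp only [neg_neg, Finsupp.add_apply, Finsupp.smul_apply, smul_eq_mul]
      unfold eI
      rw [Finsupp.single_apply, if_neg (Ne.symm hji), mul_zero, zero_add]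
    have h7 := h4 j (by rw [h6]; exact hj)
    rw [Finset.mem_singleton] at h7
    exact hji h7

theorem lamW_inL_all (φ : Twist.twist (CohB1.polyGrading n R) a ⟶ Twist.twist (CohB1.polyGrading n R) b)
    (i : Fin (n + 1)) : InL (b - a) {i} (lamW φ 0).coeff := by
  rw [← lamW_indep φ 0 i]
  exact lamW_inL φ i

/-- the multiplier of a morphism `O(a) ⟶ O(b)` is a polynomial of degree `b - a`. -/
theorem exists_poly_lamW (φ : Twist.twist (CohB1.polyGrading n R) a ⟶ Twist.twist (CohB1.polyGrading n R) b)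
    (N : ℕ) (hN : b - a = N) :
    ∃ f : MvPolynomial (Fin (n + 1)) R, f.IsHomogeneous N ∧ polyToLP f = lamW φ 0 := by
  have h1 : InL (N : ℤ) ∅ (lamW φ 0).coeff := by
    apply inL_empty_of_forall
    intro i
    rw [← hN]
    exact lamW_inL_all φ i
  obtain ⟨f, hf, hf2⟩ := exists_poly h1
  refine ⟨f, hf, ?_⟩
  have h2 := congrArg toLP hf2
  rw [toLP_sh, xpow_zero, one_mul] at h2
  exact h2

/-- there are no nonzero morphisms `O(a) ⟶ O(b)` for `b < a`, in positive dimension. -/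
theorem lamW_eq_zero (hn : 1 ≤ n)
    (φ : Twist.twist (CohB1.polyGrading n R) a ⟶ Twist.twist (CohB1.polyGrading n R) b)
    (hab : b - a < 0) : lamW φ 0 = 0 := by
  have h1 : InL (b - a) ∅ (lamW φ 0).coeff := by
    intro e he
    refine ⟨(lamW_inL_all φ 0 e he).1, fun j hj => ?_⟩
    exfalso
    have h0 := (lamW_inL_all φ 0 e he).2 j hj
    have h1 := (lamW_inL_all φ ⟨1, by omega⟩ e he).2 j hj
    rw [Finset.mem_singleton] at h0 h1
    rw [h0] at h1
    have := congrArg Fin.val h1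
    simp at this
  have h2 := eq_zero_of_inL_empty h1 hab
  exact toLP.symm.injective h2


end Poly

end Groth.Agent.Helper26.PnCoh
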