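import Mathlib
import Groth.Agent.Lib.Helper26.PnDual1

set_option autoImplicit false
set_option linter.unusedSectionVars false
set_option linter.unusedVariables false
universe u
open CategoryTheory CategoryTheory.Limits AlgebraicGeometry Opposite TopologicalSpace TopCat
open Twist Groth.Agent.Helper28.TwistMul
open Groth.Agent.Helper24.CechEv Groth.Agent.Helper13.CechAcyc

namespace Groth.Agent.Helper26.PnCoh

section Poly

variable {n : ℕ} {R : Type u} [CommRing R] {a b : ℤ}

theorem xpow_mul_cancel (v : E n) {y z : LP n R} (h : xpow v * y = xpow v * z) : y = z := by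
  have h1 := congrArg (fun w => xpow (-v) * w) h
  simp only [← mul_assoc, xpow_neg_mul, one_mul] at h1
  exact h1

/-- the generator over the `i`-th chart. -/
noncomputable def genU (a : ℤ) (i : Fin (n + 1)) :
    sectN (𝒜 := CohB1.polyGrading n R) a (op (DP (CohB1.polyGrading n R) (gI R {i}))) :=
  genT a (X_mem' (R := R) i) _ (X_nin_of_le i _ le_rfl)

/-- the generator over the smallest chart. -/
noncomputable def genW (a : ℤ) (i : Fin (n + 1)) :
    sectN (𝒜 := CohB1.polyGrading n R) a (op (DP (CohB1.polyGrading n R) (gI R (Uall n)))) :=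
  genT a (X_mem' (R := R) i) _ (X_nin_W i)

theorem appSec_genW
    (ψ : Twist.twist (CohB1.polyGrading n R) a ⟶ Twist.twist (CohB1.polyGrading n R) b)
    (i : Fin (n + 1)) :
    appSec ψ (op (DP (CohB1.polyGrading n R) (gI R (Uall n)))) (genW a i) =
      resN b (homOfLE (Wtop_le {i})).op
        (appSec ψ (op (DP (CohB1.polyGrading n R) (gI R {i}))) (genU a i)) := by
  rw [appSec_res]
  rfl

theorem lamW_eq (ψ : Twist.twist (CohB1.polyGrading n R) a ⟶ Twist.twist (CohB1.polyGrading n R) b)
    (i : Fin (n + 1)) :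
    lamW ψ i = xpow (-(a • eI i)) *
      rhoL b (appSec ψ (op (DP (CohB1.polyGrading n R) (gI R (Uall n)))) (genW a i)) := rfl


/-- a morphism `O(a) ⟶ O(b)` is determined by its multiplier: values on the local generators. -/
theorem appSec_genU_eq_of_lamW
    (φ φ' : Twist.twist (CohB1.polyGrading n R) a ⟶ Twist.twist (CohB1.polyGrading n R) b)
    (h : lamW φ 0 = lamW φ' 0) (i : Fin (n + 1)) :
    appSec φ (op (DP (CohB1.polyGrading n R) (gI R {i}))) (genU a i) =
      appSec φ' (op (DP (CohB1.polyGrading n R) (gI R {i}))) (genU a i) := by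
  have h2 : lamW φ i = lamW φ' i := by
    rw [lamW_indep φ 0 i, lamW_indep φ' 0 i, h]
  rw [lamW_eq, lamW_eq] at h2
  have h3 := rhoL_injective b (xpow_mul_cancel (-(a • eI i)) h2)
  rw [appSec_genW φ, appSec_genW φ'] at h3
  exact theta_inj (Finset.singleton_nonempty i) b (Wtop_le {i}) _ _ (congrArg (rho b) h3)


/-- agreement on the generator of a chart implies agreement on all smaller opens. -/
theorem appSec_eq_of_le
    (φ φ' : Twist.twist (CohB1.polyGrading n R) a ⟶ Twist.twist (CohB1.polyGrading n R) b)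
    (i : Fin (n + 1))
    (h : appSec φ (op (DP (CohB1.polyGrading n R) (gI R {i}))) (genU a i) =
      appSec φ' (op (DP (CohB1.polyGrading n R) (gI R {i}))) (genU a i))
    (V' : Opens (ProjectiveSpectrum.top (CohB1.polyGrading n R)))
    (hV2 : V' ≤ DP (CohB1.polyGrading n R) (gI R {i}))
    (t : sectN (𝒜 := CohB1.polyGrading n R) a (op V')) :
    appSec φ (op V') t = appSec φ' (op V') t := by
  obtain ⟨c, hc⟩ := exists_osmul_genT a (X_mem' (R := R) i) V' (X_nin_of_le i V' hV2) t
  have e0 : genT a (X_mem' (R := R) i) V' (X_nin_of_le i V' hV2) =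
      resN a (homOfLE hV2).op (genU a i) := rfl
  have e1 : ∀ ψ : Twist.twist (CohB1.polyGrading n R) a ⟶ Twist.twist (CohB1.polyGrading n R) b,
      appSec ψ (op V') t =
        osmul (op V') c (resN b (homOfLE hV2).op
          (appSec ψ (op (DP (CohB1.polyGrading n R) (gI R {i}))) (genU a i))) := by
    intro ψ
    have s1 : appSec ψ (op V') t = appSec ψ (op V')
        (osmul (op V') c (genT a (X_mem' (R := R) i) V' (X_nin_of_le i V' hV2))) :=
      congrArg (appSec ψ (op V')) hc
    have s2 : appSec ψ (op V')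
        (osmul (op V') c (genT a (X_mem' (R := R) i) V' (X_nin_of_le i V' hV2))) =
        osmul (op V') c (appSec ψ (op V') (genT a (X_mem' (R := R) i) V' (X_nin_of_le i V' hV2))) :=
      appSec_smul ψ _ c _
    have s3 : appSec ψ (op V') (genT a (X_mem' (R := R) i) V' (X_nin_of_le i V' hV2)) =
        resN b (homOfLE hV2).op
          (appSec ψ (op (DP (CohB1.polyGrading n R) (gI R {i}))) (genU a i)) :=
      (appSec_res ψ (homOfLE hV2).op (genU a i)).symm
    exact s1.trans (s2.trans (congrArg (osmul (op V') c) s3))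
  exact (e1 φ).trans ((congrArg (fun z => osmul (op V') c (resN b (homOfLE hV2).op z)) h).trans
    (e1 φ').symm)


theorem hom_ext_of_lamW
    (φ φ' : Twist.twist (CohB1.polyGrading n R) a ⟶ Twist.twist (CohB1.polyGrading n R) b)
    (h : lamW φ 0 = lamW φ' 0) : φ = φ' := by
  apply hom_ext_appSec
  intro U s
  apply sectN_ext
  intro x
  obtain ⟨i, hi⟩ := exists_X_notMem n R x.1
  have hxU : x.1 ∈ DP (CohB1.polyGrading n R) (gI R {i}) := by
    intro hx
    apply hi
    rw [← gI_singleton]
    exact hx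
  have hV1 : U.unop ⊓ DP (CohB1.polyGrading n R) (gI R {i}) ≤ U.unop := inf_le_left
  have hV2 : U.unop ⊓ DP (CohB1.polyGrading n R) (gI R {i}) ≤
      DP (CohB1.polyGrading n R) (gI R {i}) := inf_le_right
  have key := appSec_eq_of_le φ φ' i (appSec_genU_eq_of_lamW φ φ' h i) _ hV2
    (resN a (homOfLE hV1).op s)
  have e2 : ∀ ψ : Twist.twist (CohB1.polyGrading n R) a ⟶ Twist.twist (CohB1.polyGrading n R) b,
      (((appSec ψ U s).1 x).1 : Loc (CohB1.polyGrading n R) x.1) =
        (((appSec ψ (op (U.unop ⊓ DP (CohB1.polyGrading n R) (gI R {i})))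
          (resN a (homOfLE hV1).op s)).1 ⟨x.1, ⟨x.2, hxU⟩⟩).1 :
          Loc (CohB1.polyGrading n R) x.1) := by
    intro ψ
    exact congrArg (fun z : sectN (𝒜 := CohB1.polyGrading n R) b
        (op (U.unop ⊓ DP (CohB1.polyGrading n R) (gI R {i}))) =>
      ((z.1 ⟨x.1, ⟨x.2, hxU⟩⟩).1 : Loc (CohB1.polyGrading n R) x.1))
      (appSec_res ψ (homOfLE hV1).op s)
  exact (e2 φ).trans ((congrArg (fun z : sectN (𝒜 := CohB1.polyGrading n R) b
        (op (U.unop ⊓ DP (CohB1.polyGrading n R) (gI R {i}))) =>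
      ((z.1 ⟨x.1, ⟨x.2, hxU⟩⟩).1 : Loc (CohB1.polyGrading n R) x.1)) key).trans (e2 φ').symm)


/-- multiplication by a homogeneous polynomial, on Laurent expansions. -/
theorem rhoL_mulSec {N : ℕ} {f : MvPolynomial (Fin (n + 1)) R} (hf : f ∈ CohB1.polyGrading n R N)
    (h : b = a + N)
    (m : sectN (𝒜 := CohB1.polyGrading n R) a (op (DP (CohB1.polyGrading n R) (gI R (Uall n))))) :
    rhoL b (mulSec hf h (op (DP (CohB1.polyGrading n R) (gI R (Uall n)))) m) =
      polyToLP f * rhoL a m := by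
  have h' := exists_frac_J (Finset.univ_nonempty (α := Fin (n + 1))) a m
  obtain ⟨k, h'⟩ := h'
  obtain ⟨j, h'⟩ := h'
  obtain ⟨b', h'⟩ := h'
  obtain ⟨hb, h'⟩ := h'
  obtain ⟨hij, hσ⟩ := h'
  subst hσ
  rw [mulSec_fracSec]
  unfold rhoL
  rw [rho_frac, rho_frac, toLP_sh, toLP_sh, map_mul]
  ring

theorem lamW_mulHom {N : ℕ} {f : MvPolynomial (Fin (n + 1)) R} (hf : f ∈ CohB1.polyGrading n R N)
    (h : b = a + N) :
    lamW (mulHom (CohB1.polyGrading n R) hf h) 0 = polyToLP f := by
  rw [lamW_eq]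
  have e1 : appSec (mulHom (CohB1.polyGrading n R) hf h)
      (op (DP (CohB1.polyGrading n R) (gI R (Uall n)))) (genW a 0) =
      mulSec hf h (op (DP (CohB1.polyGrading n R) (gI R (Uall n)))) (genW a 0) := rfl
  rw [e1, rhoL_mulSec]
  have e2 : rhoL a (genW (n := n) (R := R) a 0) = xpow (a • eI 0) := rhoL_genT a 0
  rw [e2]
  calc xpow (-(a • eI 0)) * (polyToLP f * xpow (a • eI 0))
      = (xpow (-(a • eI 0)) * xpow (a • eI 0)) * polyToLP f := by ring
    _ = polyToLP f := by rw [xpow_neg_mul, one_mul]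

end Poly

end Groth.Agent.Helper26.PnCoh
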