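import Mathlib
import Groth.Agent.Lib.Helper26.HomFun

universe u
set_option linter.unusedSectionVars false
set_option autoImplicit false
open CategoryTheory CategoryTheory.Limits

namespace Groth.Agent.Helper26.HomFun

variable (K : CochainComplex AddCommGrpCat.{u} ℕ) (p : ℕ)
  {A : Type u} [AddCommGroup A] (Φ : K.X p →+ A)

/-- naturality of the descended functional, for a morphism between two complexes. -/
theorem desc_natural₂ (K' : CochainComplex AddCommGrpCat.{u} ℕ) {A' : Type u} [AddCommGroup A']
    (Φ' : K'.X p →+ A') (Ψ : K.homology p →+ A)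
    (hΨ : ∀ z : K.cycles p, Ψ ((K.homologyπ p).hom z) = Φ ((K.iCycles p).hom z))
    (Ψ' : K'.homology p →+ A')
    (hΨ' : ∀ z : K'.cycles p, Ψ' ((K'.homologyπ p).hom z) = Φ' ((K'.iCycles p).hom z))
    (f : K ⟶ K') (g : A →+ A') (hfg : ∀ x : K.X p, Φ' ((f.f p).hom x) = g (Φ x))
    (y : K.homology p) :
    Ψ' ((HomologicalComplex.homologyMap f p).hom y) = g (Ψ y) := by
  obtain ⟨z, rfl⟩ := homologyπ_surjective K p y
  have e1 : (HomologicalComplex.homologyMap f p).hom ((K.homologyπ p).hom z) =
      (K'.homologyπ p).hom ((HomologicalComplex.cyclesMap f p).hom z) :=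
    congrArg (fun m => m.hom z) (HomologicalComplex.homologyπ_naturality f p)
  have e2 : (K'.iCycles p).hom ((HomologicalComplex.cyclesMap f p).hom z) =
      (f.f p).hom ((K.iCycles p).hom z) :=
    congrArg (fun m => m.hom z) (HomologicalComplex.cyclesMap_i f p)
  rw [e1, hΨ', e2, hfg, hΨ]

end Groth.Agent.Helper26.HomFun
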