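import Mathlib
import Groth.Agent.Lib.Helper26.PnTopF
import Groth.Agent.Lib.Helper26.HomFun2

set_option autoImplicit false
set_option linter.unusedSectionVars false
set_option linter.unusedVariables false
universe u
open CategoryTheory CategoryTheory.Limits AlgebraicGeometry Opposite TopologicalSpace TopCat
open Twist Coherent
open Groth.Agent.Helper24.CechEv Groth.Agent.Helper13.CechAcyc

namespace Groth.Agent.Helper26.PnCoh

variable (n : ℕ) (R : Type u) [CommRing R]

set_option maxHeartbeats 1600000 in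
/-- the top cohomology groups of all the `O(d)` on `P^n_R`, as all-negative Laurent polynomials,
naturally with respect to morphisms of the underlying abelian sheaves which are computable on
top Čech cochains. -/
theorem exists_top_family :
    ∃ F : ∀ d : ℤ, Coh.HH (CohB1.ProjSpace n R) (Twist.twistProjSpace n R d) n →+ Lam n R,
      (∀ d x, F d x ∈ LamNeg n R d) ∧
      (∀ d, d < 0 → Function.Injective (F d)) ∧
      (∀ d, ∀ l ∈ LamNeg n R d, ∃ x, F d x = l) ∧
      (∀ (a b : ℤ) (ψ : Coh.toAb (Twist.twistProjSpace n R a) ⟶ Coh.toAb (Twist.twistProjSpace n R b))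
        (G : Lam n R →+ Lam n R),
        (∀ s : (cech (Vst n R) (twistPre (CohB1.polyGrading n R) a)).X n,
          PhiC n R b ((((cechComplexFunctor (Vst n R)).map ψ.hom).f n).hom s) = G (PhiC n R a s)) →
        ∀ x, F b (Sheaf.H.map ψ n x) = G (F a x)) := by
  classical
  obtain ⟨c, hc1, hc2⟩ := CechNat.exists_comparison_scheme (CohB1.ProjSpace n R) (Ust n R)
    (Ust_cov n R) (Ust_affine n R)
  obtain ⟨i, hi, h1, h2⟩ : ∃ i : ℕ, (ComplexShape.up ℕ).prev n = i ∧
      (∀ (d : ℤ) (t : (cech (Vst n R) (twistPre (CohB1.polyGrading n R) d)).X i),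
        PhiC n R d (((cech (Vst n R) (twistPre (CohB1.polyGrading n R) d)).d i n).hom t) = 0) ∧
      (∀ (d : ℤ), d < 0 → ∀ x : (cech (Vst n R) (twistPre (CohB1.polyGrading n R) d)).X n,
        ((cech (Vst n R) (twistPre (CohB1.polyGrading n R) d)).d n (n + 1)).hom x = 0 →
        PhiC n R d x = 0 →
        ∃ t : (cech (Vst n R) (twistPre (CohB1.polyGrading n R) d)).X i,
          ((cech (Vst n R) (twistPre (CohB1.polyGrading n R) d)).d i n).hom t = x) := by
    rcases n with _ | q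
    · refine ⟨0, CochainComplex.prev_nat_zero, ?_, ?_⟩
      · intro d t
        have h0 : (cech (Vst 0 R) (twistPre (CohB1.polyGrading 0 R) d)).d 0 0 = 0 :=
          (cech (Vst 0 R) (twistPre (CohB1.polyGrading 0 R) d)).shape 0 0 (by simp)
        rw [h0]
        exact map_zero _
      · intro d hd x _ hx
        refine ⟨0, ?_⟩
        rw [map_zero]
        exact (PhiC_zero_inj R d hd x hx).symm
    · refine ⟨q, CochainComplex.prev_nat_succ q, ?_, ?_⟩
      · intro d t
        exact PhiC_d q R d t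
      · intro d _ x hx hΦ
        exact PhiC_primitive q R d x hx hΦ
  have key : ∀ d : ℤ, ∃ Ψ₀ : (cech (Vst n R) (twistPre (CohB1.polyGrading n R) d)).homology n →+
      Lam n R, ∀ z, Ψ₀ (((cech (Vst n R) (twistPre (CohB1.polyGrading n R) d)).homologyπ n).hom z) =
        PhiC n R d (((cech (Vst n R) (twistPre (CohB1.polyGrading n R) d)).iCycles n).hom z) :=
    fun d => HomFun.exists_desc _ n i hi (PhiC n R d) (h1 d)
  choose Ψ₀ hΨ₀ using key
  let cE : ∀ d : ℤ, CohTop.cechH (twistPre (CohB1.polyGrading n R) d) (Vst n R) n ≃+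
      Coh.HH (CohB1.ProjSpace n R) (Twist.twistProjSpace n R d) n := fun d =>
    AddEquiv.ofBijective (c (Twist.twistProjSpace n R d) n) (hc2 (Twist.twistProjSpace n R d) n)
  refine ⟨fun d => (Ψ₀ d).comp (cE d).symm.toAddMonoidHom, ?_, ?_, ?_, ?_⟩
  · intro d x
    obtain ⟨s, -, hs⟩ := (HomFun.desc_range _ n (PhiC n R d) (Ψ₀ d) (hΨ₀ d)
      (Ψ₀ d ((cE d).symm x))).1 ⟨_, rfl⟩
    change Ψ₀ d ((cE d).symm x) ∈ LamNeg n R d
    rw [← hs]
    exact PhiC_mem s
  · intro d hd x x' hxx
    have hinj := HomFun.desc_injective _ n i hi (PhiC n R d) (Ψ₀ d) (hΨ₀ d) (h2 d hd)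
    exact (cE d).symm.injective (hinj hxx)
  · intro d l hl
    obtain ⟨s, hs, hsl⟩ := PhiC_surj hl
    obtain ⟨y, hy⟩ := (HomFun.desc_range _ n (PhiC n R d) (Ψ₀ d) (hΨ₀ d) l).2 ⟨s, hs, hsl⟩
    refine ⟨cE d y, ?_⟩
    change Ψ₀ d ((cE d).symm (cE d y)) = l
    rw [AddEquiv.symm_apply_apply]
    exact hy
  · intro a b ψ G hG x
    obtain ⟨y, rfl⟩ := (cE a).surjective x
    have e1 : Sheaf.H.map ψ n (cE a y) =
        cE b (CechNat.cechMapTop (Vst n R) ψ.hom n y) :=
      (hc1 (Twist.twistProjSpace n R a) (Twist.twistProjSpace n R b) ψ n y).symm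
    have e2 : (cE b).symm (Sheaf.H.map ψ n (cE a y)) =
        CechNat.cechMapTop (Vst n R) ψ.hom n y := by
      rw [e1]
      exact AddEquiv.symm_apply_apply (cE b) _
    have e3 : (cE a).symm (cE a y) = y := AddEquiv.symm_apply_apply (cE a) y
    change Ψ₀ b ((cE b).symm (Sheaf.H.map ψ n (cE a y))) = G (Ψ₀ a ((cE a).symm (cE a y)))
    rw [e2, e3]
    exact HomFun.desc_natural₂ _ n (PhiC n R a) _ (PhiC n R b) (Ψ₀ a) (hΨ₀ a) (Ψ₀ b) (hΨ₀ b)
      ((cechComplexFunctor (Vst n R)).map ψ.hom) G hG y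

end Groth.Agent.Helper26.PnCoh
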