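import Mathlib
import Groth.Agent.Lib.Helper26.PnLP
import Groth.Agent.Lib.Helper26.PnLaurent3

set_option autoImplicit false
set_option linter.unusedSectionVars false
set_option linter.unusedVariables false
universe u
open Finsupp

namespace Groth.Agent.Helper26.PnCoh

section
variable {n : ℕ} {R : Type u} [CommRing R]

/-- multiplication by a Laurent polynomial, on coefficient functions. -/
noncomputable def mulL (L : LP n R) : Lam n R →+ Lam n R :=
  (toLP.symm.toAddMonoidHom).comp ((AddMonoidHom.mulLeft L).comp toLP.toAddMonoidHom)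

theorem mulL_apply (L : LP n R) (l : Lam n R) : mulL L l = (L * toLP l).coeff := rfl

theorem toLP_mulL (L : LP n R) (l : Lam n R) : toLP (mulL L l) = L * toLP l := rfl

theorem mulL_add_left (L L' : LP n R) (l : Lam n R) : mulL (L + L') l = mulL L l + mulL L' l := by
  rw [mulL_apply, mulL_apply, mulL_apply, add_mul, AddMonoidAlgebra.coeff_add]

theorem mulL_single_single (v e : E n) (c r : R) :
    mulL (AddMonoidAlgebra.single v c) (Finsupp.single e r) = Finsupp.single (v + e) (c * r) := by
  rw [mulL_apply, toLP_single, AddMonoidAlgebra.single_mul_single]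
  rfl

theorem mulL_smul (L : LP n R) (r : R) (l : Lam n R) : mulL L (r • l) = r • mulL L l := by
  rw [mulL_apply, mulL_apply, toLP_smul, mul_smul_comm]
  rfl

open Classical in
theorem Nv_single (e : E n) (r : R) :
    Nv (Finsupp.single e r) = if AllNeg e then Finsupp.single e r else 0 := by
  ext e'
  rw [Nv_apply]
  by_cases h : AllNeg e
  · rw [if_pos h]
    by_cases h' : e = e'
    · subst h'
      rw [if_pos h]
    · rw [Finsupp.single_apply, if_neg h']
      simp
  · rw [if_neg h]
    by_cases h' : e = e'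
    · subst h'
      rw [if_neg h]
      rfl
    · rw [Finsupp.single_apply, if_neg h']
      simp

/-- the negative part of a product with a polynomial only depends on the negative part. -/
theorem Nv_mulL_poly (f : MvPolynomial (Fin (n + 1)) R) (l : Lam n R) :
    Nv (mulL (polyToLP f) l) = Nv (mulL (polyToLP f) (Nv l)) := by
  classical
  induction l using Finsupp.induction_linear with
  | zero => simp
  | add l l' hl hl' => rw [map_add, map_add, hl, hl', map_add, map_add, map_add]
  | single e r =>
    rw [Nv_single e r]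
    by_cases h : AllNeg e
    · rw [if_pos h]
    · rw [if_neg h, map_zero, map_zero]
      induction f using MvPolynomial.induction_on' with
      | monomial μ c =>
        rw [polyToLP_monomial, mulL_single_single, Nv_single, if_neg]
        intro hneg
        apply h
        intro i
        have := hneg i
        rw [Finsupp.add_apply, castE_apply] at this
        omega
      | add p q hp hq => rw [map_add, mulL_add_left, map_add, hp, hq, add_zero]

/-- the exponent `(-1, …, -1)`. -/
noncomputable def eNeg (n : ℕ) : E n := -oneJ Finset.univ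

theorem eNeg_apply (i : Fin (n + 1)) : eNeg n i = -1 := by
  unfold eNeg
  rw [Finsupp.neg_apply, oneJ_apply, if_pos (Finset.mem_univ i)]

theorem allNeg_eNeg : AllNeg (eNeg n) := fun i => by rw [eNeg_apply]; omega

theorem flipE_eq (μ : Fin (n + 1) →₀ ℕ) : flipE μ = -castE μ + eNeg n := by
  unfold flipE eNeg
  abel

/-- the pairing between polynomials and Laurent polynomials: the coefficient of
`x^(-1,…,-1)` in the product. -/
noncomputable def pairL (f : MvPolynomial (Fin (n + 1)) R) (l : Lam n R) : R :=
  mulL (polyToLP f) l (eNeg n)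

theorem pairL_add_left (f f' : MvPolynomial (Fin (n + 1)) R) (l : Lam n R) :
    pairL (f + f') l = pairL f l + pairL f' l := by
  unfold pairL
  rw [map_add, mulL_add_left, Finsupp.add_apply]

theorem pairL_add_right (f : MvPolynomial (Fin (n + 1)) R) (l l' : Lam n R) :
    pairL f (l + l') = pairL f l + pairL f l' := by
  unfold pairL
  rw [map_add, Finsupp.add_apply]

theorem pairL_smul_right (f : MvPolynomial (Fin (n + 1)) R) (r : R) (l : Lam n R) :
    pairL f (r • l) = r * pairL f l := by
  unfold pairL
  rw [mulL_smul, Finsupp.smul_apply, smul_eq_mul]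

theorem pairL_zero_left (l : Lam n R) : pairL (0 : MvPolynomial (Fin (n + 1)) R) l = 0 := by
  unfold pairL
  rw [map_zero, mulL_apply, zero_mul]
  rfl

theorem pairL_sum_left {ι : Type*} (s : Finset ι) (f : ι → MvPolynomial (Fin (n + 1)) R)
    (l : Lam n R) : pairL (∑ i ∈ s, f i) l = ∑ i ∈ s, pairL (f i) l := by
  classical
  induction s using Finset.induction_on with
  | empty => simp [pairL_zero_left]
  | insert a s ha ih => rw [Finset.sum_insert ha, Finset.sum_insert ha, pairL_add_left, ih]

theorem pairL_monomial (μ : Fin (n + 1) →₀ ℕ) (c : R) (l : Lam n R) :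
    pairL (MvPolynomial.monomial μ c) l = c * l (flipE μ) := by
  unfold pairL
  rw [mulL_apply, polyToLP_monomial, AddMonoidAlgebra.coeff_single_mul_apply, flipE_eq]
  rfl

theorem pairL_Nv (f : MvPolynomial (Fin (n + 1)) R) (l : Lam n R) :
    Nv (mulL (polyToLP f) l) (eNeg n) = pairL f l := by
  classical
  rw [Nv_apply, if_pos allNeg_eNeg]
  rfl

theorem pairL_single (f : MvPolynomial (Fin (n + 1)) R) (μ : Fin (n + 1) →₀ ℕ) (r : R) :
    pairL f (Finsupp.single (flipE μ) r) = MvPolynomial.coeff μ f * r := by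
  induction f using MvPolynomial.induction_on' with
  | monomial ν c =>
    classical
    rw [pairL_monomial, Finsupp.single_apply, MvPolynomial.coeff_monomial]
    by_cases h : ν = μ
    · subst h
      rw [if_pos rfl, if_pos rfl, mul_comm]
    · rw [if_neg (fun h' => h (flipE_injective h').symm), if_neg h, mul_zero, zero_mul]
  | add p q hp hq => rw [pairL_add_left, hp, hq, MvPolynomial.coeff_add, add_mul]


/-- the exponents of degree `N`. -/
noncomputable def Sdeg (n N : ℕ) : Finset (Fin (n + 1) →₀ ℕ) :=
  Finset.finsuppAntidiag Finset.univ N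

theorem mem_Sdeg {N : ℕ} {μ : Fin (n + 1) →₀ ℕ} : μ ∈ Sdeg n N ↔ μ.degree = N := by
  unfold Sdeg
  rw [Finset.mem_finsuppAntidiag, Finsupp.degree_eq_sum]
  constructor
  · intro h
    exact h.1
  · intro h
    exact ⟨h, Finset.subset_univ _⟩

theorem single_flipE_mem {d : ℤ} (μ : Fin (n + 1) →₀ ℕ) (hd : d = -((n : ℤ) + 1 + μ.degree))
    (r : R) : Finsupp.single (flipE μ) r ∈ LamNeg n R d := by
  classical
  intro e he
  have h1 := Finsupp.support_single_subset he
  rw [Finset.mem_singleton] at h1
  subst h1
  refine ⟨?_, fun i => ?_⟩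
  · rw [sum_flipE, hd]
  · rw [flipE_apply]
    omega

theorem exists_flipE_of_mem {d : ℤ} {N : ℕ} (hd : d = -((n : ℤ) + 1 + N)) {l : Lam n R}
    (hl : l ∈ LamNeg n R d) {e : E n} (he : e ∈ l.support) :
    ∃ μ ∈ Sdeg n N, flipE μ = e := by
  obtain ⟨h1, h2⟩ := hl e he
  refine ⟨unflipE e, ?_, flipE_unflipE h2⟩
  rw [mem_Sdeg]
  have h3 := sum_flipE (unflipE e)
  rw [flipE_unflipE h2, h1, hd] at h3
  have : ((unflipE e).degree : ℤ) = (N : ℤ) := by omega
  exact_mod_cast this

/-- decomposition of an all-negative Laurent polynomial into monomials. -/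
theorem decomp_LamNeg {d : ℤ} {N : ℕ} (hd : d = -((n : ℤ) + 1 + N)) {l : Lam n R}
    (hl : l ∈ LamNeg n R d) :
    l = ∑ μ ∈ Sdeg n N, l (flipE μ) • Finsupp.single (flipE μ) (1 : R) := by
  classical
  ext e
  rw [Finsupp.finsetSum_apply]
  simp only [Finsupp.smul_apply, Finsupp.single_apply, smul_eq_mul, mul_ite, mul_one, mul_zero]
  by_cases he : e ∈ l.support
  · obtain ⟨μ₀, hμ₀, rfl⟩ := exists_flipE_of_mem hd hl he
    rw [Finset.sum_eq_single μ₀]
    · rw [if_pos rfl]
    · intro μ _ hμ
      rw [if_neg (fun h => hμ (flipE_injective h))]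
    · intro h
      exact absurd hμ₀ h
  · rw [Finsupp.notMem_support_iff] at he
    rw [he]
    symm
    apply Finset.sum_eq_zero
    intro μ _
    split_ifs with h
    · rw [h, he]
    · rfl

/-- every linear form on the all-negative Laurent polynomials of degree `-(n+1+N)` is the
pairing with a homogeneous polynomial of degree `N`. -/
theorem exists_pairL {d : ℤ} {N : ℕ} (hd : d = -((n : ℤ) + 1 + N))
    (ψ : LamNeg n R d →ₗ[R] R) :
    ∃ f : MvPolynomial (Fin (n + 1)) R, f.IsHomogeneous N ∧
      ∀ (l : Lam n R) (hl : l ∈ LamNeg n R d), ψ ⟨l, hl⟩ = pairL f l := by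
  classical
  have hmem : ∀ μ : Sdeg n N, Finsupp.single (flipE μ.1) (1 : R) ∈ LamNeg n R d := by
    intro μ
    apply single_flipE_mem
    rw [mem_Sdeg.1 μ.2, hd]
  refine ⟨∑ μ ∈ (Sdeg n N).attach, MvPolynomial.monomial μ.1 (ψ ⟨_, hmem μ⟩), ?_, ?_⟩
  · apply MvPolynomial.IsHomogeneous.sum
    intro μ _
    apply MvPolynomial.isHomogeneous_monomial
    exact mem_Sdeg.1 μ.2
  · intro l hl
    rw [pairL_sum_left]
    simp only [pairL_monomial]
    have h1 : (⟨l, hl⟩ : LamNeg n R d) =
        ∑ μ ∈ (Sdeg n N).attach, l (flipE μ.1) • (⟨_, hmem μ⟩ : LamNeg n R d) := by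
      apply Subtype.ext
      rw [Submodule.coe_sum]
      simp only [Submodule.coe_smul]
      conv_lhs => rw [decomp_LamNeg hd hl]
      exact (Finset.sum_attach (Sdeg n N)
        (fun μ => l (flipE μ) • Finsupp.single (flipE μ) (1 : R))).symm
    rw [h1, map_sum]
    apply Finset.sum_congr rfl
    intro μ _
    rw [map_smul, smul_eq_mul, mul_comm]

/-- the pairing is non degenerate in the polynomial variable. -/
theorem pairL_ext {d : ℤ} {N : ℕ} (hd : d = -((n : ℤ) + 1 + N))
    {f f' : MvPolynomial (Fin (n + 1)) R} (hf : f.IsHomogeneous N) (hf' : f'.IsHomogeneous N)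
    (h : ∀ l ∈ LamNeg n R d, pairL f l = pairL f' l) : f = f' := by
  ext μ
  by_cases hμ : μ.degree = N
  · have h1 := h _ (single_flipE_mem (R := R) μ (by rw [hμ, hd]) 1)
    rw [pairL_single, pairL_single, mul_one, mul_one] at h1
    exact h1
  · rw [hf.coeff_eq_zero, hf'.coeff_eq_zero]
    · exact hμ
    · exact hμ

/-- an all-negative Laurent polynomial of degree `-(n+1)` is a multiple of `x^(-1,…,-1)`. -/
theorem eq_single_of_mem_LamNeg {d : ℤ} (hd : d = -((n : ℤ) + 1)) {l : Lam n R}
    (hl : l ∈ LamNeg n R d) : l = Finsupp.single (eNeg n) (l (eNeg n)) := by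
  classical
  have hd' : d = -((n : ℤ) + 1 + (0 : ℕ)) := by rw [hd]; simp
  have h0 : flipE (0 : Fin (n + 1) →₀ ℕ) = eNeg n := by
    rw [flipE_eq]
    simp
  have hS : Sdeg n 0 = {0} := by
    ext μ
    rw [mem_Sdeg, Finset.mem_singleton]
    constructor
    · intro h
      exact (Finsupp.degree_eq_zero_iff μ).1 h
    · intro h
      rw [h]
      simp
  conv_lhs => rw [decomp_LamNeg hd' hl, hS, Finset.sum_singleton, h0]
  rw [Finsupp.smul_single, smul_eq_mul, mul_one]

theorem single_eNeg_mem {d : ℤ} (hd : d = -((n : ℤ) + 1)) (r : R) :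
    Finsupp.single (eNeg n) r ∈ LamNeg n R d := by
  have h0 : flipE (0 : Fin (n + 1) →₀ ℕ) = eNeg n := by
    rw [flipE_eq]
    simp
  rw [← h0]
  apply single_flipE_mem
  rw [hd]
  simp

end

end Groth.Agent.Helper26.PnCoh
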