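import Mathlib
import Groth.Agent.Lib.Helper26.PnDual2
import Groth.Agent.Lib.Helper26.PnDual3
import Groth.Agent.Lib.Helper26.PnDual4

set_option autoImplicit false
set_option linter.unusedSectionVars false
set_option linter.unusedVariables false
universe u
open CategoryTheory CategoryTheory.Limits AlgebraicGeometry Opposite TopologicalSpace TopCat
open Twist Coherent Groth.Agent.Helper28.TwistMul
open Groth.Agent.Helper24.CechEv Groth.Agent.Helper13.CechAcyc

namespace Groth.Agent.Helper26.PnCoh

section

variable {X : TopCat.{u}} {ι : Type u} (V : ι → Opens X) {P P' : (Opens X)ᵒᵖ ⥤ AddCommGrpCat.{u}}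

lemma evT_map₂ {n : ℕ} (φ : P ⟶ P') (T : Opens X) (a : Fin (n+1) → ι) (h : ∀ k, T ≤ V (a k))
    (s : (cech V P).X n) :
    evT V P' T a h ((((cechComplexFunctor V).map φ).f n).hom s) =
      (φ.app (op T)).hom (evT V P T a h s) := by
  have h1 := congrArg (fun m => m.hom s) (map_ev V φ T (tup V a h))
  exact h1

end

section Poly

variable {n : ℕ} {R : Type u} [CommRing R] {a b : ℤ}

/-- the underlying morphism of presheaves of a morphism `O(a) ⟶ O(b)`. -/
noncomputable def preHom (φ : Twist.twistProjSpace n R a ⟶ Twist.twistProjSpace n R b) :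
    twistPre (CohB1.polyGrading n R) a ⟶ twistPre (CohB1.polyGrading n R) b :=
  ((SheafOfModules.toSheaf (CohB1.ProjSpace n R).ringCatSheaf).map φ).hom

theorem preHom_app (φ : Twist.twistProjSpace n R a ⟶ Twist.twistProjSpace n R b)
    (T : Opens (ProjectiveSpectrum.top (CohB1.polyGrading n R)))
    (m : (twistPre (CohB1.polyGrading n R) a).obj (op T)) :
    ((preHom φ).app (op T)).hom m = appSec φ (op T) m := rfl

/-- a morphism `O(a) ⟶ O(b)` acts on Laurent expansions by multiplication with its multiplier. -/
theorem th_preHom (φ : Twist.twistProjSpace n R a ⟶ Twist.twistProjSpace n R b)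
    (T : Opens (ProjectiveSpectrum.top (CohB1.polyGrading n R))) (hWT : Wst n R ≤ T)
    (m : (twistPre (CohB1.polyGrading n R) a).obj (op T)) :
    th (twistPre (CohB1.polyGrading n R) b) (Wst n R) (rhoP n R b) T hWT
        (((preHom φ).app (op T)).hom m) =
      mulL (lamW φ 0) (th (twistPre (CohB1.polyGrading n R) a) (Wst n R) (rhoP n R a) T hWT m) := by
  rw [th_eq, th_eq, preHom_app]
  apply toLP.injective
  rw [toLP_mulL]
  have e1 : resN b (homOfLE hWT).op (appSec φ (op T) m) =
      appSec φ (op (DP (CohB1.polyGrading n R) (gI R (Uall n)))) (resN a (homOfLE hWT).op m) :=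
    appSec_res φ (homOfLE hWT).op m
  rw [e1]
  exact rhoL_appSec φ 0 _


/-- the action of a morphism `O(a) ⟶ O(b)` with polynomial multiplier on the top Čech functional. -/
theorem PhiC_preHom (φ : Twist.twistProjSpace n R a ⟶ Twist.twistProjSpace n R b)
    (f : MvPolynomial (Fin (n + 1)) R) (hf : polyToLP f = lamW φ 0)
    (s : (cech (Vst n R) (twistPre (CohB1.polyGrading n R) a)).X n) :
    PhiC n R b ((((cechComplexFunctor (Vst n R)).map (preHom φ)).f n).hom s) =
      (Nv.comp (mulL (polyToLP f))) (PhiC n R a s) := by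
  unfold PhiC
  rw [PhiTop_apply, PhiTop_apply, thEv_apply, thEv_apply, evT_map₂, th_preHom, ← hf]
  exact Nv_mulL_poly f _

end Poly

end Groth.Agent.Helper26.PnCoh
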