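import Mathlib
import Groth.Agent.Lib.Helper26.PnDual5

set_option autoImplicit false
set_option linter.unusedSectionVars false
set_option linter.unusedVariables false
universe u
open CategoryTheory CategoryTheory.Limits AlgebraicGeometry Opposite TopologicalSpace TopCat
open Twist Coherent Groth.Agent.Helper28.TwistMul
open Groth.Agent.Helper24.CechEv Groth.Agent.Helper13.CechAcyc

namespace Groth.Agent.Helper26.PnCoh

variable (n : ℕ) (R : Type u) [CommRing R]

set_option maxHeartbeats 1600000 in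
/-- the packaged description of the top cohomology of the `O(d)` on `P^n_R`, `n ≥ 1`:
Laurent expansions `F d`, and the action of the morphisms `O(a) ⟶ O(b)` through their
polynomial multipliers. -/
theorem exists_top_family' :
    ∃ F : ∀ d : ℤ, Coh.HH (CohB1.ProjSpace n R) (Twist.twistProjSpace n R d) n →+ Lam n R,
      (∀ d x, F d x ∈ LamNeg n R d) ∧
      (∀ d, d < 0 → Function.Injective (F d)) ∧
      (∀ d, ∀ l ∈ LamNeg n R d, ∃ x, F d x = l) ∧
      (∀ (d : ℤ) (r : R) x, F d (r • x) = r • F d x) ∧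
      (∀ (a b : ℤ) (φ : Twist.twistProjSpace n R a ⟶ Twist.twistProjSpace n R b)
        (f : MvPolynomial (Fin (n + 1)) R), polyToLP f = lamW φ 0 →
        ∀ x, F b (Sheaf.H.map ((SheafOfModules.toSheaf (CohB1.ProjSpace n R).ringCatSheaf).map φ)
          n x) = Nv (mulL (polyToLP f) (F a x))) := by
  obtain ⟨F, hmem, hinj, hsurj, hnat⟩ := exists_top_family n R
  refine ⟨F, hmem, hinj, hsurj, ?_, ?_⟩
  · intro d r x
    exact hnat d d (Coh.smulAb (Twist.twistProjSpace n R d)
      (Coh.toGlobal (CohB1.ProjSpace.toSpec n R) r)) (DistribSMul.toAddMonoidHom (Lam n R) r)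
      (fun s => PhiC_smul r s) x
  · intro a b φ f hf x
    exact hnat a b ((SheafOfModules.toSheaf (CohB1.ProjSpace n R).ringCatSheaf).map φ)
      (Nv.comp (mulL (polyToLP f))) (fun s => PhiC_preHom φ f hf s) x


set_option maxHeartbeats 3200000 in
/-- duality for the twisting sheaves on `P^r_A`, `r ≥ 1`. -/
theorem duality_projSpace (A : Type u) [CommRing A] (r : ℕ) (hr : 1 ≤ r) :
    ∃ t : Coh.HH (CohB1.ProjSpace r A) (Twist.twistProjSpace r A (-((r : ℤ) + 1))) r ≃ₗ[A] A,
      ∀ (n : ℤ) (ψ : Coh.HH (CohB1.ProjSpace r A) (Twist.twistProjSpace r A (-(n + r + 1))) r →ₗ[A] A),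
        ∃! φ : Twist.twistProjSpace r A (-(n + r + 1)) ⟶ Twist.twistProjSpace r A (-((r : ℤ) + 1)),
          ∀ x : Coh.HH (CohB1.ProjSpace r A) (Twist.twistProjSpace r A (-(n + r + 1))) r,
            ψ x = t (Sheaf.H.map ((SheafOfModules.toSheaf (CohB1.ProjSpace r A).ringCatSheaf).map φ) r x) := by
  classical
  obtain ⟨F, hmem, hinj, hsurj, hsmul, hnat⟩ := exists_top_family' r A
  have hb : (-((r : ℤ) + 1)) = -((r : ℤ) + 1) := rfl
  have hbneg : (-((r : ℤ) + 1)) < 0 := by omega
  -- the trace
  let t₀ : Coh.HH (CohB1.ProjSpace r A) (Twist.twistProjSpace r A (-((r : ℤ) + 1))) r →ₗ[A] A :=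
    { toFun := fun x => F (-((r : ℤ) + 1)) x (eNeg r)
      map_add' := fun x y => by rw [map_add, Finsupp.add_apply]
      map_smul' := fun c x => by
        rw [hsmul, Finsupp.smul_apply]
        rfl }
  have ht₀ : Function.Bijective t₀ := by
    constructor
    · intro x y hxy
      apply hinj _ hbneg
      rw [eq_single_of_mem_LamNeg hb (hmem _ x), eq_single_of_mem_LamNeg hb (hmem _ y)]
      exact congrArg (Finsupp.single (eNeg r)) hxy
    · intro c
      obtain ⟨x, hx⟩ := hsurj _ _ (single_eNeg_mem (R := A) hb c)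
      refine ⟨x, ?_⟩
      change F (-((r : ℤ) + 1)) x (eNeg r) = c
      rw [hx, Finsupp.single_eq_same]
  refine ⟨LinearEquiv.ofBijective t₀ ht₀, ?_⟩
  intro n ψ
  have ht : ∀ y, (LinearEquiv.ofBijective t₀ ht₀) y = F (-((r : ℤ) + 1)) y (eNeg r) := fun y => rfl
  by_cases hn : 0 ≤ n
  · -- the main case
    obtain ⟨N, rfl⟩ := Int.eq_ofNat_of_zero_le hn
    have hd : (-((N : ℤ) + r + 1)) = -((r : ℤ) + 1 + N) := by ring
    have haneg : (-((N : ℤ) + r + 1)) < 0 := by omega
    have hab : (-((r : ℤ) + 1)) - (-((N : ℤ) + r + 1)) = N := by ring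
    have hba : (-((r : ℤ) + 1)) = (-((N : ℤ) + r + 1)) + N := by ring
    -- the linear form on Laurent polynomials
    have hex : ∃ f : MvPolynomial (Fin (r + 1)) A, f.IsHomogeneous N ∧
        ∀ x, ψ x = pairL f (F (-((N : ℤ) + r + 1)) x) := by
      let Fa : Coh.HH (CohB1.ProjSpace r A) (Twist.twistProjSpace r A (-((N : ℤ) + r + 1))) r →ₗ[A]
          LamNeg r A (-((N : ℤ) + r + 1)) :=
        { toFun := fun x => ⟨F _ x, hmem _ x⟩
          map_add' := fun x y => Subtype.ext (map_add _ x y)
          map_smul' := fun c x => Subtype.ext (hsmul _ c x) }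
      have hFa : Function.Bijective Fa := by
        constructor
        · intro x y hxy
          exact hinj _ haneg (congrArg Subtype.val hxy)
        · intro l
          obtain ⟨x, hx⟩ := hsurj _ l.1 l.2
          exact ⟨x, Subtype.ext hx⟩
      obtain ⟨f, hf, hf2⟩ := exists_pairL hd (ψ.comp (LinearEquiv.ofBijective Fa hFa).symm.toLinearMap)
      refine ⟨f, hf, fun x => ?_⟩
      rw [← hf2 _ (hmem _ x)]
      change ψ x = ψ ((LinearEquiv.ofBijective Fa hFa).symm (Fa x))
      congr 1
      exact ((LinearEquiv.ofBijective Fa hFa).symm_apply_apply x).symm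
    obtain ⟨f, hf, hψ⟩ := hex
    have hf' : f ∈ CohB1.polyGrading r A N := (MvPolynomial.mem_homogeneousSubmodule _ _).2 hf
    have key : ∀ (φ : Twist.twistProjSpace r A (-((N : ℤ) + r + 1)) ⟶
          Twist.twistProjSpace r A (-((r : ℤ) + 1))) (g : MvPolynomial (Fin (r + 1)) A),
        polyToLP g = lamW φ 0 → ∀ x,
        (LinearEquiv.ofBijective t₀ ht₀)
          (Sheaf.H.map ((SheafOfModules.toSheaf (CohB1.ProjSpace r A).ringCatSheaf).map φ) r x) =
          pairL g (F (-((N : ℤ) + r + 1)) x) := by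
      intro φ g hg x
      rw [ht, hnat _ _ φ g hg x, pairL_Nv]
    refine ⟨mulHom (CohB1.polyGrading r A) hf' hba, ?_, ?_⟩
    · intro x
      rw [key _ f (lamW_mulHom hf' hba).symm x]
      exact hψ x
    · intro φ' hφ'
      obtain ⟨g, hg, hg2⟩ := exists_poly_lamW φ' N hab
      have hgf : g = f := by
        apply pairL_ext hd hg hf
        intro l hl
        obtain ⟨x, rfl⟩ := hsurj _ l hl
        rw [← key φ' g hg2 x, ← hφ' x, hψ x]
      apply hom_ext_of_lamW
      rw [← hg2, hgf, lamW_mulHom hf' hba]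
  · -- the degenerate case: the source cohomology group vanishes
    have hn' : n < 0 := by omega
    have hsub : Subsingleton (Coh.HH (CohB1.ProjSpace r A)
        (Twist.twistProjSpace r A (-(n + r + 1))) r) := by
      obtain ⟨q, rfl⟩ : ∃ q, r = q + 1 := ⟨r - 1, by omega⟩
      apply HH_subsingleton_of_isZero_cechH
      apply isZero_cechH_twist_succ
      right
      push_cast
      omega
    have hab : (-((r : ℤ) + 1)) - (-(n + r + 1)) < 0 := by omega
    refine ⟨0, ?_, ?_⟩
    · intro x
      rw [Subsingleton.elim x 0, map_zero, map_zero, map_zero]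
    · intro φ' _
      apply hom_ext_of_lamW
      exact (lamW_eq_zero hr φ' hab).trans (lamW_eq_zero hr _ hab).symm

end Groth.Agent.Helper26.PnCoh
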