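import Mathlib
import Groth.Agent.Lib.Helper26.PnDual6
import Groth.Prelude.Def_Canon

set_option autoImplicit false
set_option linter.unusedSectionVars false
set_option linter.unusedVariables false
universe u
open CategoryTheory CategoryTheory.Limits AlgebraicGeometry Opposite TopologicalSpace TopCat
open Twist Coherent Groth.Agent.Helper28.TwistMul
open Groth.Agent.Helper24.CechEv Groth.Agent.Helper13.CechAcyc

namespace Groth.Agent.Helper26.PnCoh

set_option maxHeartbeats 3200000 in
/-- duality for the twisting sheaves `O(a)`, `a ≤ -(r+1)`, on `P^r_A` (any `r ≥ 0`). -/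
theorem duality_projSpace_main (A : Type u) [CommRing A] (r : ℕ) :
    ∃ t : Coh.HH (CohB1.ProjSpace r A) (Twist.twistProjSpace r A (-((r : ℤ) + 1))) r ≃ₗ[A] A,
      ∀ (N : ℕ), Function.Bijective (Canon.dualityMap A (CohB1.ProjSpace r A) r
        (Twist.twistProjSpace r A (-((r : ℤ) + 1))) t.toLinearMap
        (Twist.twistProjSpace r A (-((N : ℤ) + r + 1)))) := by
  classical
  obtain ⟨F, hmem, hinj, hsurj, hsmul, hnat⟩ := exists_top_family' r A
  have hb : (-((r : ℤ) + 1)) = -((r : ℤ) + 1) := rfl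
  have hbneg : (-((r : ℤ) + 1)) < 0 := by omega
  -- the trace
  let t₀ : Coh.HH (CohB1.ProjSpace r A) (Twist.twistProjSpace r A (-((r : ℤ) + 1))) r →ₗ[A] A :=
    { toFun := fun x => F (-((r : ℤ) + 1)) x (eNeg r)
      map_add' := fun x y => by rw [map_add, Finsupp.add_apply]
      map_smul' := fun c x => by
        rw [hsmul, Finsupp.smul_apply]
        rfl }
  have ht₀ : Function.Bijective t₀ := by
    constructor
    · intro x y hxy
      apply hinj _ hbneg
      rw [eq_single_of_mem_LamNeg hb (hmem _ x), eq_single_of_mem_LamNeg hb (hmem _ y)]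
      exact congrArg (Finsupp.single (eNeg r)) hxy
    · intro c
      obtain ⟨x, hx⟩ := hsurj _ _ (single_eNeg_mem (R := A) hb c)
      refine ⟨x, ?_⟩
      change F (-((r : ℤ) + 1)) x (eNeg r) = c
      rw [hx, Finsupp.single_eq_same]
  refine ⟨LinearEquiv.ofBijective t₀ ht₀, ?_⟩
  intro N
  have hd : (-((N : ℤ) + r + 1)) = -((r : ℤ) + 1 + N) := by ring
  have haneg : (-((N : ℤ) + r + 1)) < 0 := by omega
  have hab : (-((r : ℤ) + 1)) - (-((N : ℤ) + r + 1)) = N := by ring
  have hba : (-((r : ℤ) + 1)) = (-((N : ℤ) + r + 1)) + N := by ring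
  have key : ∀ (φ : Twist.twistProjSpace r A (-((N : ℤ) + r + 1)) ⟶
        Twist.twistProjSpace r A (-((r : ℤ) + 1))) (g : MvPolynomial (Fin (r + 1)) A),
      polyToLP g = lamW φ 0 → ∀ x,
      Canon.dualityMap A (CohB1.ProjSpace r A) r
        (Twist.twistProjSpace r A (-((r : ℤ) + 1))) (LinearEquiv.ofBijective t₀ ht₀).toLinearMap
        (Twist.twistProjSpace r A (-((N : ℤ) + r + 1))) φ x =
        pairL g (F (-((N : ℤ) + r + 1)) x) := by
    intro φ g hg x
    change F (-((r : ℤ) + 1)) (Sheaf.H.map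
      ((SheafOfModules.toSheaf (CohB1.ProjSpace r A).ringCatSheaf).map φ) r x) (eNeg r) = _
    rw [hnat _ _ φ g hg x, pairL_Nv]
  constructor
  · intro φ φ' hφ
    obtain ⟨g, hg, hg2⟩ := exists_poly_lamW φ N hab
    obtain ⟨g', hg', hg2'⟩ := exists_poly_lamW φ' N hab
    have hgg : g = g' := by
      apply pairL_ext hd hg hg'
      intro l hl
      obtain ⟨x, rfl⟩ := hsurj _ l hl
      rw [← key φ g hg2 x, ← key φ' g' hg2' x, hφ]
    apply hom_ext_of_lamW
    rw [← hg2, hgg, hg2']
  · intro ψ
    have hex : ∃ f : MvPolynomial (Fin (r + 1)) A, f.IsHomogeneous N ∧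
        ∀ x, ψ x = pairL f (F (-((N : ℤ) + r + 1)) x) := by
      let Fa : Coh.HH (CohB1.ProjSpace r A) (Twist.twistProjSpace r A (-((N : ℤ) + r + 1))) r →ₗ[A]
          LamNeg r A (-((N : ℤ) + r + 1)) :=
        { toFun := fun x => ⟨F _ x, hmem _ x⟩
          map_add' := fun x y => Subtype.ext (map_add _ x y)
          map_smul' := fun c x => Subtype.ext (hsmul _ c x) }
      have hFa : Function.Bijective Fa := by
        constructor
        · intro x y hxy
          exact hinj _ haneg (congrArg Subtype.val hxy)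
        · intro l
          obtain ⟨x, hx⟩ := hsurj _ l.1 l.2
          exact ⟨x, Subtype.ext hx⟩
      obtain ⟨f, hf, hf2⟩ := exists_pairL hd (ψ.comp (LinearEquiv.ofBijective Fa hFa).symm.toLinearMap)
      refine ⟨f, hf, fun x => ?_⟩
      rw [← hf2 _ (hmem _ x)]
      change ψ x = ψ ((LinearEquiv.ofBijective Fa hFa).symm (Fa x))
      congr 1
      exact ((LinearEquiv.ofBijective Fa hFa).symm_apply_apply x).symm
    obtain ⟨f, hf, hψ⟩ := hex
    have hf' : f ∈ CohB1.polyGrading r A N := (MvPolynomial.mem_homogeneousSubmodule _ _).2 hf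
    refine ⟨mulHom (CohB1.polyGrading r A) hf' hba, ?_⟩
    ext x
    rw [key _ f (lamW_mulHom hf' hba).symm x]
    exact (hψ x).symm

end Groth.Agent.Helper26.PnCoh
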