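import Mathlib

namespace Groth.Agent.Lib.Helper26.ProjNoeth

universe u
open DirectSum

variable {R A : Type u} [CommRing R] [CommRing A] [Algebra R A] (𝒜 : ℕ → Submodule R A)
  [GradedAlgebra 𝒜]

theorem finiteType_of_noetherian [IsNoetherianRing A] : Algebra.FiniteType (𝒜 0) A := by
  classical
  obtain ⟨G, hG⟩ := (IsNoetherian.noetherian (HomogeneousIdeal.irrelevant 𝒜).toIdeal :
    (HomogeneousIdeal.irrelevant 𝒜).toIdeal.FG)
  let X : Finset A := G.biUnion (fun g => (decompose 𝒜 g).support.image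
    (fun n => (decompose 𝒜 g n : A)))
  have hGmem : ∀ g ∈ G, g ∈ (HomogeneousIdeal.irrelevant 𝒜).toIdeal := by
    intro g hg; rw [← hG]; exact Submodule.subset_span hg
  have hXdeg : ∀ x ∈ X, ∃ n : ℕ, n ≠ 0 ∧ x ∈ 𝒜 n := by
    intro x hx
    simp only [X, Finset.mem_biUnion, Finset.mem_image] at hx
    obtain ⟨g, hg, n, hn, rfl⟩ := hx
    refine ⟨n, ?_, (decompose 𝒜 g n).2⟩
    rintro rfl
    have h0 : (decompose 𝒜 g 0 : A) = 0 := hGmem g hg
    rw [DFinsupp.mem_support_iff] at hn
    exact hn (Subtype.ext h0)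
  have hGX : ∀ g ∈ G, g ∈ Ideal.span (X : Set A) := by
    intro g hg
    rw [← DirectSum.sum_support_decompose 𝒜 g]
    refine Ideal.sum_mem _ fun n hn => Ideal.subset_span ?_
    simp only [X, Finset.coe_biUnion, Finset.coe_image, Set.mem_iUnion, Set.mem_image,
      Finset.mem_coe]
    exact ⟨g, hg, n, hn, rfl⟩
  have hspan : (HomogeneousIdeal.irrelevant 𝒜).toIdeal ≤ Ideal.span (X : Set A) := by
    rw [← hG]
    exact Ideal.span_le.2 fun g hg => hGX g hg
  choose! deg hdeg using hXdeg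
  have key : ∀ d : ℕ, ∀ a ∈ 𝒜 d, a ∈ Algebra.adjoin (𝒜 0) (X : Set A) := by
    intro d
    induction d using Nat.strong_induction_on with
    | _ d ih =>
      intro a ha
      rcases Nat.eq_zero_or_pos d with rfl | hd
      · exact Subalgebra.algebraMap_mem _ (⟨a, ha⟩ : 𝒜 0)
      · have hairr : a ∈ (HomogeneousIdeal.irrelevant 𝒜).toIdeal :=
          HomogeneousIdeal.mem_irrelevant_of_mem 𝒜 hd ha
        have haX := hspan hairr
        rw [Ideal.span, Submodule.mem_span_finset] at haX
        obtain ⟨c, -, hc⟩ := haX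
        have hadec : a = (decompose 𝒜 a d : A) := by
          rw [DirectSum.decompose_of_mem_same 𝒜 ha]
        rw [hadec, ← hc, DirectSum.decompose_sum, DFinsupp.finsetSum_apply,
          AddSubmonoidClass.coe_finsetSum]
        refine Subalgebra.sum_mem _ fun x hx => ?_
        obtain ⟨hx0, hxm⟩ := hdeg x hx
        rw [smul_eq_mul, DirectSum.coe_decompose_mul_of_right_mem 𝒜 d hxm]
        split_ifs with hle
        · refine Subalgebra.mul_mem _ (ih (d - deg x) (by omega) _ (decompose 𝒜 (c x) _).2) ?_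
          exact Algebra.subset_adjoin hx
        · exact Subalgebra.zero_mem _
  refine ⟨⟨X, ?_⟩⟩
  rw [eq_top_iff]
  intro a _
  rw [← DirectSum.sum_support_decompose 𝒜 a]
  exact Subalgebra.sum_mem _ fun n _ => key n _ (decompose 𝒜 a n).2

open AlgebraicGeometry in
theorem proj_isNoetherian [IsNoetherianRing A] : IsNoetherian (Proj 𝒜) := by
  have hft : Algebra.FiniteType (𝒜 0) A := finiteType_of_noetherian 𝒜
  have hN0 : IsNoetherianRing (𝒜 0) := GradedRing.GradeZero.isNoetherianRing 𝒜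
  have hloc : IsLocallyNoetherian (Proj 𝒜) :=
    LocallyOfFiniteType.isLocallyNoetherian (Proj.toSpecZero 𝒜)
  have hqc : QuasiCompact (Proj.toSpecZero 𝒜) := inferInstance
  have hc : CompactSpace (Proj 𝒜) := QuasiCompact.compactSpace_of_compactSpace (Proj.toSpecZero 𝒜)
  exact ⟨⟩

end Groth.Agent.Lib.Helper26.ProjNoeth
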