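import Mathlib
import Groth.Agent.Lib.Helper26.PnDual7
import Groth.Agent.Lib.Helper26.DualFun
import Groth.Agent.Lib.Helper26.ProjNoeth
import Groth.Agent.Lib.Helper28.TwistSerre
import Groth.Agent.Lib.Lead.KerFree2
import Groth.Agent.Lib.Helper5.QCS1
import Groth.Agent.Lib.Helper5.K0Coh
import Groth.Agent.Lib.Helper29.TenCohB
import Groth.Agent.S0022

set_option autoImplicit false
set_option linter.unusedSectionVars false
set_option linter.unusedVariables false
universe u
open CategoryTheory CategoryTheory.Limits AlgebraicGeometry Opposite TopologicalSpace TopCat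
open Twist Coherent Groth.Agent.Helper28.TwistMul

namespace Groth.Agent.Helper26.PnCoh

section

variable (n : ℕ) (R : Type u) [CommRing R]

open Classical in
theorem irrelevant_eq :
    (HomogeneousIdeal.irrelevant (CohB1.polyGrading n R)).toIdeal =
      Ideal.span ((Finset.univ.image
        (MvPolynomial.X : Fin (n + 1) → MvPolynomial (Fin (n + 1)) R) : Finset _) : Set _) := by
  classical
  rw [Finset.coe_image, Finset.coe_univ, Set.image_univ]
  apply le_antisymm (irrelevant_le n R)
  rw [Ideal.span_le]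
  rintro _ ⟨i, rfl⟩
  change MvPolynomial.X i ∈ HomogeneousIdeal.irrelevant (CohB1.polyGrading n R)
  rw [HomogeneousIdeal.mem_irrelevant_iff, GradedRing.proj_apply]
  exact DirectSum.decompose_of_mem_ne (CohB1.polyGrading n R) (X_mem' i) (by norm_num)

theorem isCoh_twist (d : ℤ) : Coh.IsCoh (Twist.twistProjSpace n R d) :=
  ⟨inferInstance, Groth.Agent.Helper13.GlobGen.isFiniteType_of_isInvertible _
    (Groth.Agent.Helper26.PnTwist.isInvertible_twist n R d)⟩

theorem isCoh_sigma_fin {X : Scheme.{u}} {k : ℕ} (L : Fin k → X.Modules)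
    (hL : ∀ j, Coh.IsCoh (L j)) : Coh.IsCoh (∐ L) := by
  classical
  let e : ∐ (L ∘ (Equiv.ulift : ULift.{u} (Fin k) ≃ Fin k)) ≅ ∐ L :=
    Sigma.reindex (Equiv.ulift : ULift.{u} (Fin k) ≃ Fin k) L
  apply Groth.Agent.Helper5.K0Coh.isCoh_of_iso e
  refine ⟨Groth.Agent.Helper5.QCS.isQuasicoherent_sigma _ (fun i => (hL _).1), ?_⟩
  exact Groth.Agent.Helper29.TenCohB.isFiniteType_sigma_of_support _ (fun i => (hL _).2)
    Finset.univ (fun i hi => absurd (Finset.mem_univ i) hi)

end

section Main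

variable (A : Type u) [CommRing A] [IsNoetherianRing A] (n : ℕ)

open Classical in
/-- a coherent module on `P^n_A` is a quotient of a finite sum of copies of `O(-(N+n+1))`, for
some `N ≥ 0`. -/
theorem exists_epi_sigma_twist_neg (F : (CohB1.ProjSpace n A).Modules) (hF : Coh.IsCoh F) :
    ∃ (N k : ℕ) (p : (∐ fun _ : Fin k => Twist.twistProjSpace n A (-((N : ℤ) + n + 1))) ⟶ F),
      Epi p := by
  classical
  obtain ⟨n₀, hn₀⟩ := exists_epi_sigma_twist (CohB1.polyGrading n A)
    (Finset.univ.image (MvPolynomial.X : Fin (n + 1) → MvPolynomial (Fin (n + 1)) A))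
    (by
      intro f hf
      obtain ⟨i, -, rfl⟩ := Finset.mem_image.1 hf
      exact X_mem' i)
    (irrelevant_eq n A) F hF.1 hF.2
  have h1 := hn₀ (n₀ + n + 1) (by omega)
  have e : (-((n₀ + n + 1 : ℕ) : ℤ)) = -((n₀ : ℤ) + n + 1) := by push_cast; ring
  have key : ∀ d d' : ℤ, d = d' →
      (∃ (k : ℕ) (p : (∐ fun _ : Fin k => Twist.twist (CohB1.polyGrading n A) d) ⟶ F), Epi p) →
      (∃ (k : ℕ) (p : (∐ fun _ : Fin k => Twist.twist (CohB1.polyGrading n A) d') ⟶ F), Epi p) := by
    intro d d' hdd h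
    subst hdd
    exact h
  obtain ⟨k, p, hp⟩ := key _ _ e h1
  exact ⟨n₀, k, p, hp⟩


open Groth.Agent.Helper26.DualFun in
set_option maxHeartbeats 1600000 in
/-- `O(-n-1)` with the trace is dualizing for the coherent modules on `P^n_A`, `A` Noetherian. -/
theorem duality_coh :
    ∃ t : Coh.HH (CohB1.ProjSpace n A) (Twist.twistProjSpace n A (-((n : ℤ) + 1))) n ≃ₗ[A] A,
      ∀ F : (CohB1.ProjSpace n A).Modules, Coh.IsCoh F →
        Function.Bijective (Canon.dualityMap A (CohB1.ProjSpace n A) n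
          (Twist.twistProjSpace n A (-((n : ℤ) + 1))) t.toLinearMap F) := by
  obtain ⟨t, ht⟩ := duality_projSpace_main A n
  refine ⟨t, fun F hF => ?_⟩
  haveI : IsNoetherian (CohB1.ProjSpace n A) :=
    Groth.Agent.Lib.Helper26.ProjNoeth.proj_isNoetherian (CohB1.polyGrading n A)
  obtain ⟨N, k, p, hp⟩ := exists_epi_sigma_twist_neg A n F hF
  have hE₀ : Coh.IsCoh (∐ fun _ : Fin k => Twist.twistProjSpace n A (-((N : ℤ) + n + 1))) :=
    isCoh_sigma_fin _ (fun _ => isCoh_twist n A _)
  have hK : Coh.IsCoh (kernel p) := Groth.Agent.Lead.KerFree.isCoh_kernel hE₀ hF p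
  obtain ⟨N', k', q, hq⟩ := exists_epi_sigma_twist_neg A n (kernel p) hK
  have h0 := dualityMap_sigma_bijective A n (Twist.twistProjSpace n A (-((n : ℤ) + 1)))
    t.toLinearMap (fun _ : Fin k => Twist.twistProjSpace n A (-((N : ℤ) + n + 1))) (fun _ => ht N)
  have h1 := dualityMap_sigma_bijective A n (Twist.twistProjSpace n A (-((n : ℤ) + 1)))
    t.toLinearMap (fun _ : Fin k' => Twist.twistProjSpace n A (-((N' : ℤ) + n + 1)))
    (fun _ => ht N')
  haveI : (kernel p).IsQuasicoherent := hK.1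
  have hsub : Subsingleton (Coh.HH (CohB1.ProjSpace n A) (kernel p) (n + 1)) :=
    Groth.Agent.S0022.result n A (kernel p) (n + 1) (Nat.lt_succ_self n)
  have hS : (ShortComplex.mk (kernel.ι p) p (kernel.condition p)).ShortExact :=
    { exact := ShortComplex.exact_kernel p
      mono_f := inferInstanceAs (Mono (kernel.ι p))
      epi_g := hp }
  have hsurj := HHlin_surjective_of_vanish A n _ hS hsub
  exact dualityMap_bijective_of_presentation A n _ _ p q h0 h1.1 hsurj

end Main

end Groth.Agent.Helper26.PnCoh
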