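import Mathlib
import Groth.Agent.Lib.Helper26.KosF
import Groth.Agent.Lib.Helper13.GlobGen2
import Groth.Agent.Lib.Helper28.TwistGen

set_option autoImplicit false
set_option linter.unusedSectionVars false
set_option linter.style.haveILetI false
set_option linter.unusedVariables false
universe u
open CategoryTheory CategoryTheory.Limits AlgebraicGeometry Opposite TopologicalSpace TensorProduct
open Groth.Agent.Helper13 Groth.Agent.Helper13.Tensor Groth.Agent.Helper13.GlobGen
  Groth.Agent.Helper13.Inv

namespace Groth.Agent.Helper26.Kos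

section GG
variable {X : Scheme.{u}}

/-- if `G ⊗ N` is generated by global sections at `y`, `N` is invertible and the multiplication
map `Γ(G) ⊗ Γ(N) → Γ(G ⊗ N)` is surjective, then `G` is generated by global sections at `y`. -/
theorem ggAt_of_tensor (G N : X.Modules) (hN : PicF.IsInvertible N) (y : X)
    (hmult : Function.Surjective ((Tensor.ηpre G N).app (op ⊤)))
    (h : GGAt (CohB1.tensorMod G N) y) : GGAt G y := by
  obtain ⟨U, hyU, ν₀, hν⟩ := (isInvertible_iff_exists_isGen N).1 hN y
  set ν := N.presheaf.germ U y hyU ν₀ with hνdef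
  have hνb : Function.Bijective (fun r : X.presheaf.stalk y => r • ν) := hν y hyU
  let ε : X.presheaf.stalk y ≃ₗ[X.presheaf.stalk y] N.presheaf.stalk y :=
    LinearEquiv.ofBijective
      (LinearMap.toSpanSingleton (X.presheaf.stalk y) (N.presheaf.stalk y) ν) hνb
  let φ : G.presheaf.stalk y ≃ₗ[X.presheaf.stalk y] (CohB1.tensorMod G N).presheaf.stalk y :=
    ((TensorProduct.rid (X.presheaf.stalk y) (G.presheaf.stalk y)).symm.trans
      (LinearEquiv.lTensor (G.presheaf.stalk y) ε)).trans (stalkTensorEquiv G N y)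
  have hφ : ∀ g, φ g = stalkTensorEquiv G N y (g ⊗ₜ ν) := by
    intro g
    change stalkTensorEquiv G N y (LinearEquiv.lTensor (G.presheaf.stalk y) ε
      ((TensorProduct.rid (X.presheaf.stalk y) (G.presheaf.stalk y)).symm g)) = _
    have hε : ε 1 = ν := one_smul (X.presheaf.stalk y) ν
    rw [TensorProduct.rid_symm_apply, LinearEquiv.lTensor_tmul, hε]
  set S : Submodule (X.presheaf.stalk y) (G.presheaf.stalk y) :=
    Submodule.span (X.presheaf.stalk y)
      (Set.range fun t : Γ(G, ⊤) => G.presheaf.germ ⊤ y trivial t) with hS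
  -- germs of pure tensors land in `φ S`
  have hpure : ∀ (s : Γ(G, ⊤)) (u : Γ(N, ⊤)),
      (CohB1.tensorMod G N).presheaf.germ ⊤ y trivial (tmul G N s u) ∈ S.map φ.toLinearMap := by
    intro s u
    have e1 : (CohB1.tensorMod G N).presheaf.germ ⊤ y trivial (tmul G N s u) =
        stalkTensorEquiv G N y
          (G.presheaf.germ ⊤ y trivial s ⊗ₜ N.presheaf.germ ⊤ y trivial u) :=
      (stalkTensorEquiv_germ G N y _ s u).symm
    rw [e1]
    obtain ⟨c, hc⟩ := hνb.2 (N.presheaf.germ ⊤ y trivial u)
    have hc' : N.presheaf.germ ⊤ y trivial u = c • ν := hc.symm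
    rw [hc', TensorProduct.tmul_smul, TensorProduct.smul_tmul', ← hφ]
    exact Submodule.mem_map_of_mem (S.smul_mem c (Submodule.subset_span ⟨s, rfl⟩))
  have hall : ∀ t : Γ(G, ⊤) ⊗[Γ(X, ⊤)] Γ(N, ⊤),
      (CohB1.tensorMod G N).presheaf.germ ⊤ y trivial
        ((Tensor.ηpre G N).app (op ⊤) (toSecT' G N t)) ∈ S.map φ.toLinearMap := by
    intro t
    induction t using TensorProduct.induction_on with
    | zero =>
      have : (Tensor.ηpre G N).app (op ⊤) (toSecT' G N 0) = 0 := map_zero _
      rw [this, map_zero]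
      exact Submodule.zero_mem _
    | tmul s u => exact hpure s u
    | add a b ha hb =>
      have : (Tensor.ηpre G N).app (op ⊤) (toSecT' G N (a + b)) =
          (Tensor.ηpre G N).app (op ⊤) (toSecT' G N a) +
            (Tensor.ηpre G N).app (op ⊤) (toSecT' G N b) := map_add _ _ _
      rw [this, map_add]
      exact Submodule.add_mem _ ha hb
  have hle : (⊤ : Submodule (X.presheaf.stalk y) ((CohB1.tensorMod G N).presheaf.stalk y)) ≤
      S.map φ.toLinearMap := by
    unfold GGAt at h
    rw [← h, Submodule.span_le]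
    rintro _ ⟨τ, rfl⟩
    obtain ⟨t, rfl⟩ := hmult τ
    exact hall t
  unfold GGAt
  rw [eq_top_iff]
  intro g _
  obtain ⟨g', hg', hgg'⟩ := hle (show φ g ∈ ⊤ from trivial)
  have : g' = g := φ.injective hgg'
  rw [← this]
  exact hg'

end GG

section Main
variable (k : Type u) [Field k] (n : ℕ)

/-- **Castelnuovo–Mumford**: an `m`-regular coherent module `F` has `F(m)` globally generated. -/
theorem main1647 (F : (CohB1.ProjSpace n k).Modules) (hF : Coh.IsCoh F) (m : ℤ)
    (h : Curv2.IsMRegular k n F m) :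
    Curv2.IsGloballyGenerated (CohB1.tensorMod F (Twist.twistProjSpace n k m)) := by
  haveI := Groth.Agent.Helper26.PnReg.isNoetherian_projSpace k n
  haveI : CompactSpace (Proj (CohB1.polyGrading n k)) :=
    inferInstanceAs (CompactSpace (CohB1.ProjSpace n k))
  have hG := Groth.Agent.Helper26.PnReg.isCoh_tensor_twist k n F hF m
  haveI := hG.1
  haveI := hG.2
  have hcov := Groth.Agent.Helper26.PnTwist.hcov n k
  have hample : CohB1.IsAmple (Twist.twistProjSpace n k 1) :=
    Groth.Agent.Helper28.TwistMul.twist_one_isAmple' (CohB1.polyGrading n k) hcov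
  obtain ⟨n₀, hn₀⟩ := exists_isGloballyGenerated_twist (Twist.twistProjSpace n k 1)
    hample (CohB1.tensorMod F (Twist.twistProjSpace n k m))
  obtain ⟨e⟩ : Nonempty (Twist.twistProjSpace n k (n₀ : ℤ) ≅
      CohB1.tensorPow (Twist.twistProjSpace n k 1) n₀) :=
    (Groth.Agent.Helper28.TwistMul.twist_all_of_degree_one
      (CohB1.polyGrading n k) hcov).2.2 n₀
  have hgg : Curv2.IsGloballyGenerated (CohB1.tensorMod
      (CohB1.tensorMod F (Twist.twistProjSpace n k m)) (Twist.twistProjSpace n k (n₀ : ℤ))) :=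
    isGloballyGenerated_of_iso (Tensor.mapIso (Iso.refl _) e.symm) (hn₀ n₀ le_rfl)
  rw [isGloballyGenerated_iff] at hgg ⊢
  intro y
  exact ggAt_of_tensor _ _ (Groth.Agent.Helper26.PnTwist.isInvertible_twist n k (n₀ : ℤ)) y
    (mult_surjective_Pn k n F hF m m le_rfl h n₀) (hgg y)

end Main

end Groth.Agent.Helper26.Kos
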