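import Mathlib

set_option autoImplicit false
universe u v w
open TensorProduct

namespace Groth.Agent.Lib.Helper26.PPGen

section Ring

variable {R : Type u} [CommRing R] (I : Ideal R) {ι : Type v}

lemma prod_mem_pow (s : Finset ι) (x : ι → R) (hx : ∀ i ∈ s, x i ∈ I) :
    ∏ i ∈ s, x i ∈ I ^ s.card := by
  have := Ideal.prod_mem_prod (s := s) (I := fun _ => I) (x := x) hx
  rwa [Finset.prod_const] at this

/-- Products of elements of `I` congruent modulo `I²` are congruent modulo `I^(n+1)`. -/
lemma prod_sub_prod_mem [DecidableEq ι] (s : Finset ι) (x y : ι → R) (hx : ∀ i ∈ s, x i ∈ I)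
    (hy : ∀ i ∈ s, y i ∈ I) (hxy : ∀ i ∈ s, x i - y i ∈ I ^ 2) :
    ∏ i ∈ s, x i - ∏ i ∈ s, y i ∈ I ^ (s.card + 1) := by
  induction s using Finset.induction_on with
  | empty => simp
  | insert a s ha ih =>
    rw [Finset.prod_insert ha, Finset.prod_insert ha, Finset.card_insert_of_notMem ha]
    have e : x a * ∏ i ∈ s, x i - y a * ∏ i ∈ s, y i =
        x a * (∏ i ∈ s, x i - ∏ i ∈ s, y i) + (x a - y a) * ∏ i ∈ s, y i := by ring
    rw [e]
    apply Ideal.add_mem
    · have h1 := ih (fun i hi => hx i (Finset.mem_insert_of_mem hi))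
        (fun i hi => hy i (Finset.mem_insert_of_mem hi))
        (fun i hi => hxy i (Finset.mem_insert_of_mem hi))
      have h2 : x a * (∏ i ∈ s, x i - ∏ i ∈ s, y i) ∈ I * I ^ (s.card + 1) :=
        Ideal.mul_mem_mul (hx a (Finset.mem_insert_self a s)) h1
      rwa [← pow_succ'] at h2
    · have h1 : ∏ i ∈ s, y i ∈ I ^ s.card :=
        prod_mem_pow I s y (fun i hi => hy i (Finset.mem_insert_of_mem hi))
      have h2 : (x a - y a) * ∏ i ∈ s, y i ∈ I ^ 2 * I ^ s.card :=
        Ideal.mul_mem_mul (hxy a (Finset.mem_insert_self a s)) h1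
      rw [← pow_add] at h2
      have e2 : 2 + s.card = s.card + 1 + 1 := by ring
      rwa [e2] at h2

end Ring

section Deriv

variable {R : Type u} [CommRing R] {A : Type v} [CommRing A] [Algebra R A]
  (D : Derivation R A A) {ι : Type w}

/-- Leibniz rule for finite products. -/
lemma leibniz_prod [DecidableEq ι] (s : Finset ι) (x : ι → A) :
    D (∏ i ∈ s, x i) = ∑ p ∈ s, D (x p) * ∏ i ∈ s.erase p, x i := by
  induction s using Finset.induction_on with
  | empty => simp
  | insert a s ha ih =>
    rw [Finset.prod_insert ha, D.leibniz, ih, Finset.sum_insert ha, Finset.erase_insert ha]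
    rw [smul_eq_mul, smul_eq_mul, add_comm, Finset.mul_sum, mul_comm]
    congr 1
    apply Finset.sum_congr rfl
    intro p hp
    have hpa : p ≠ a := fun h => ha (h ▸ hp)
    rw [Finset.erase_insert_of_ne (Ne.symm hpa), Finset.prod_insert]
    · ring
    · intro h
      exact ha (Finset.mem_of_mem_erase h)

/-- A derivation lowers the `I`-adic order by at most one. -/
lemma deriv_mem_pow (I : Ideal A) (m : ℕ) : ∀ x ∈ I ^ (m + 1), D x ∈ I ^ m := by
  induction m with
  | zero => intro x _; simp
  | succ m ih =>
    intro x hx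
    rw [pow_succ'] at hx
    refine Submodule.mul_induction_on hx ?_ ?_
    · intro a ha b hb
      rw [D.leibniz, smul_eq_mul, smul_eq_mul]
      apply Ideal.add_mem
      · have := Ideal.mul_mem_mul ha (ih b hb)
        rwa [← pow_succ'] at this
      · exact Ideal.mul_mem_right _ _ hb
    · intro a b ha hb
      rw [map_add]
      exact Ideal.add_mem _ ha hb

end Deriv

section Poly

variable {B : Type u} [CommRing B] [Algebra ℚ B] {J : Type v}

/-- In characteristic zero a polynomial with vanishing constant term and vanishing partial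
derivatives is zero. -/
lemma eq_zero_of_pderiv_eq_zero (f : MvPolynomial J B) (h0 : MvPolynomial.constantCoeff f = 0)
    (h : ∀ j, MvPolynomial.pderiv j f = 0) : f = 0 := by
  classical
  ext m
  rw [MvPolynomial.coeff_zero]
  by_cases hm : m = 0
  · subst hm
    exact h0
  · obtain ⟨j, hj⟩ : ∃ j, m j ≠ 0 := by
      by_contra hcon
      push Not at hcon
      exact hm (Finsupp.ext hcon)
    have h1 := MvPolynomial.coeff_pderiv (i := j) f (m - Finsupp.single j 1)
    rw [h j, MvPolynomial.coeff_zero] at h1
    have e1 : m - Finsupp.single j 1 + Finsupp.single j 1 = m := by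
      ext k
      by_cases hk : k = j
      · subst hk
        simp only [Finsupp.coe_add, Finsupp.coe_tsub, Pi.add_apply, Pi.sub_apply,
          Finsupp.single_eq_same]
        omega
      · simp [Finsupp.single_eq_of_ne hk]
    rw [e1] at h1
    have e2 : (((m - Finsupp.single j 1 : J →₀ ℕ) j : ℕ) : B) + 1 = ((m j : ℕ) : B) := by
      simp only [Finsupp.coe_tsub, Pi.sub_apply, Finsupp.single_eq_same]
      have : m j - 1 + 1 = m j := by omega
      rw [← Nat.cast_one (R := B), ← Nat.cast_add, this]
    rw [e2] at h1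
    have hu : IsUnit ((m j : ℕ) : B) := by
      have : ((m j : ℕ) : B) = algebraMap ℚ B (m j : ℚ) := by simp
      rw [this]
      apply IsUnit.map
      exact IsUnit.mk0 _ (by exact_mod_cast hj)
    exact (hu.mul_left_eq_zero).mp h1.symm

end Poly

section Perm

variable {ι : Type u} [Fintype ι] {J : Type v}

/-- Two maps from a finite type with the same counting function differ by a permutation. -/
lemma exists_perm_of_count_eq [DecidableEq J] (g g' : ι → J)
    (h : (∑ i, Finsupp.single (g i) 1 : J →₀ ℕ) = ∑ i, Finsupp.single (g' i) 1) :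
    ∃ σ : Equiv.Perm ι, ∀ i, g' i = g (σ i) := by
  classical
  have hc : ∀ (f : ι → J) (j : J), (∑ i, Finsupp.single (f i) 1 : J →₀ ℕ) j =
      Fintype.card {i // f i = j} := by
    intro f j
    rw [Finsupp.finsetSum_apply, Fintype.card_subtype]
    rw [Finset.card_filter]
    apply Finset.sum_congr rfl
    intro i _
    rw [Finsupp.single_apply]
  have hcard : ∀ j, Fintype.card {i // g' i = j} = Fintype.card {i // g i = j} := by
    intro j
    rw [← hc, ← hc, h]
  have he : ∀ j, Nonempty ({i // g' i = j} ≃ {i // g i = j}) := fun j =>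
    Fintype.card_eq.mp (hcard j)
  let σ : ι ≃ ι := Equiv.ofFiberEquiv (f := g') (g := g) (fun j => (he j).some)
  exact ⟨σ, fun i => (Equiv.ofFiberEquiv_map (f := g') (g := g) (fun j => (he j).some) i).symm⟩

end Perm

end Groth.Agent.Lib.Helper26.PPGen
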