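import Mathlib
import Groth.Agent.Lib.Helper26.PPGen

set_option autoImplicit false
universe u v
open MvPolynomial

namespace Groth.Agent.Lib.Helper26.AFSPoly

open Groth.Agent.Lib.Helper26

variable {X : Type u} {Q : Type u} [CommRing Q]

lemma hc_eq_zero_of_mem {n : ℕ} {p : MvPolynomial X Q} (hp : p ∈ idealOfVars X Q ^ (n + 1)) :
    homogeneousComponent n p = 0 := by
  ext d
  rw [coeff_homogeneousComponent, coeff_zero]
  split_ifs with h
  · exact (mem_pow_idealOfVars_iff' _ _).1 hp d (by omega)
  · rfl

lemma mem_pow_of_hc {n : ℕ} {p : MvPolynomial X Q}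
    (h : ∀ i < n, homogeneousComponent i p = 0) : p ∈ idealOfVars X Q ^ n := by
  rw [mem_pow_idealOfVars_iff']
  intro d hd
  have := congrArg (coeff d) (h d.degree hd)
  rwa [coeff_homogeneousComponent, if_pos rfl, coeff_zero] at this

lemma sub_hc_mem {n : ℕ} {p : MvPolynomial X Q} (hp : p ∈ idealOfVars X Q ^ n) :
    p - homogeneousComponent n p ∈ idealOfVars X Q ^ (n + 1) := by
  rw [mem_pow_idealOfVars_iff'] at hp ⊢
  intro d hd
  rw [coeff_sub, coeff_homogeneousComponent]
  split_ifs with h
  · rw [sub_self]
  · rw [sub_zero]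
    exact hp d (by omega)

lemma hc_mem_pow (n : ℕ) (p : MvPolynomial X Q) :
    homogeneousComponent n p ∈ idealOfVars X Q ^ n := by
  rw [mem_pow_idealOfVars_iff']
  intro d hd
  rw [coeff_homogeneousComponent, if_neg (by omega)]

lemma mem_idealOfVars_iff (p : MvPolynomial X Q) :
    p ∈ idealOfVars X Q ↔ constantCoeff p = 0 := by
  have h := mem_pow_idealOfVars_iff' (σ := X) (R := Q) 1 p
  rw [pow_one] at h
  rw [h]
  constructor
  · intro h0
    exact h0 0 (by simp)
  · intro h0 d hd
    have : d = 0 := by
      rw [← Finsupp.degree_eq_zero_iff]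
      omega
    rw [this]
    exact h0

lemma sub_C_mem (p : MvPolynomial X Q) : p - C (constantCoeff p) ∈ idealOfVars X Q := by
  rw [mem_idealOfVars_iff, map_sub, constantCoeff_C, sub_self]

/-- The lowest-degree part of a product of `n` polynomials without constant term. -/
lemma hc_prod {ι : Type v} [Fintype ι] (p : ι → MvPolynomial X Q)
    (hp : ∀ i, p i ∈ idealOfVars X Q) :
    homogeneousComponent (Fintype.card ι) (∏ i, p i) = ∏ i, homogeneousComponent 1 (p i) := by
  classical
  have h1 : ∏ i, p i - ∏ i, homogeneousComponent 1 (p i) ∈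
      idealOfVars X Q ^ (Fintype.card ι + 1) := by
    have := PPGen.prod_sub_prod_mem (idealOfVars X Q) Finset.univ p
      (fun i => homogeneousComponent 1 (p i)) (fun i _ => hp i)
      (fun i _ => by simpa using hc_mem_pow 1 (p i))
      (fun i _ => by
        have := sub_hc_mem (n := 1) (p := p i) (by simpa using hp i)
        simpa using this)
    rwa [Finset.card_univ] at this
  have h2 : (∏ i, homogeneousComponent 1 (p i)).IsHomogeneous (Fintype.card ι) := by
    have := IsHomogeneous.prod Finset.univ (fun i => homogeneousComponent 1 (p i)) (fun _ => 1)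
      (fun i _ => homogeneousComponent_isHomogeneous 1 (p i))
    simpa using this
  have h3 := hc_eq_zero_of_mem h1
  rw [map_sub, homogeneousComponent_eq_self h2, sub_eq_zero] at h3
  exact h3

/-- Multiplying an element of `𝔪^n` by `p` only sees the constant coefficient of `p` in degree `n`. -/
lemma hc_mul {n : ℕ} (p q : MvPolynomial X Q) (hq : q ∈ idealOfVars X Q ^ n) :
    homogeneousComponent n (p * q) = C (constantCoeff p) * homogeneousComponent n q := by
  have h1 : p * q = C (constantCoeff p) * q + (p - C (constantCoeff p)) * q := by ring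
  have h2 : (p - C (constantCoeff p)) * q ∈ idealOfVars X Q ^ (n + 1) := by
    rw [pow_succ']
    exact Ideal.mul_mem_mul (sub_C_mem p) hq
  rw [h1, map_add, hc_eq_zero_of_mem h2, add_zero, homogeneousComponent_C_mul]

variable (X Q) in
/-- The truncated polynomial ring `C[X]/(X)^(n+1)`. -/
abbrev Tr (n : ℕ) : Type u := MvPolynomial X Q ⧸ idealOfVars X Q ^ (n + 1)

/-- The degree-`n` part of an element of `C[X]/(X)^(n+1)`. -/
noncomputable def lam (n : ℕ) (e : Tr X Q n) : MvPolynomial X Q :=
  homogeneousComponent n (Function.surjInv Ideal.Quotient.mk_surjective e)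

lemma lam_mk (n : ℕ) (p : MvPolynomial X Q) :
    lam n (Ideal.Quotient.mk (idealOfVars X Q ^ (n + 1)) p) = homogeneousComponent n p := by
  have h : Function.surjInv Ideal.Quotient.mk_surjective
      (Ideal.Quotient.mk (idealOfVars X Q ^ (n + 1)) p) - p ∈ idealOfVars X Q ^ (n + 1) := by
    rw [← Ideal.Quotient.eq]
    exact Function.surjInv_eq _ _
  have := hc_eq_zero_of_mem h
  rw [map_sub, sub_eq_zero] at this
  exact this

end Groth.Agent.Lib.Helper26.AFSPoly
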