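import Mathlib
import Groth.Agent.Lib.Helper26.AFSPoly

set_option autoImplicit false
universe u
open MvPolynomial

namespace Groth.Agent.Lib.Helper26.AFSDeg1

open Groth.Agent.Lib.Helper26 Groth.Agent.Lib.Helper26.AFSPoly

variable (X : Type u) (Q : Type u) [CommRing Q]

/-- The algebra map to the trivial square-zero extension recording the linear part. -/
noncomputable def Tmap : MvPolynomial X Q →ₐ[Q] TrivSqZeroExt Q (X →₀ Q) :=
  MvPolynomial.aeval (fun j => TrivSqZeroExt.inr (Finsupp.single j 1))

/-- The vector of degree-one coefficients. -/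
noncomputable def vP : MvPolynomial X Q →ₗ[Q] (X →₀ Q) :=
  (TrivSqZeroExt.sndHom Q (X →₀ Q)) ∘ₗ (Tmap X Q).toLinearMap

lemma vP_apply (p : MvPolynomial X Q) : vP X Q p = (Tmap X Q p).snd := rfl

lemma Tmap_C (a : Q) : Tmap X Q (C a) = TrivSqZeroExt.inl a := by
  rw [Tmap, aeval_C, TrivSqZeroExt.algebraMap_eq_inl]

lemma Tmap_X (i : X) : Tmap X Q (MvPolynomial.X i) = TrivSqZeroExt.inr (Finsupp.single i 1) := by
  rw [Tmap, aeval_X]

lemma fst_Tmap (p : MvPolynomial X Q) : (Tmap X Q p).fst = constantCoeff p := by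
  induction p using MvPolynomial.induction_on with
  | C a => rw [Tmap_C, TrivSqZeroExt.fst_inl, constantCoeff_C]
  | add p q hp hq => rw [map_add, TrivSqZeroExt.fst_add, hp, hq, map_add]
  | mul_X p i hp =>
    rw [map_mul, TrivSqZeroExt.fst_mul, Tmap_X, TrivSqZeroExt.fst_inr, mul_zero, map_mul,
      constantCoeff_X, mul_zero]

lemma vP_C (a : Q) : vP X Q (C a) = 0 := by
  rw [vP_apply, Tmap_C, TrivSqZeroExt.snd_inl]

lemma vP_mul_X (p : MvPolynomial X Q) (i : X) :
    vP X Q (p * MvPolynomial.X i) = constantCoeff p • Finsupp.single i 1 := by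
  rw [vP_apply, map_mul, TrivSqZeroExt.snd_mul, Tmap_X, TrivSqZeroExt.fst_inr,
    TrivSqZeroExt.snd_inr, fst_Tmap, MulOpposite.op_zero, zero_smul, add_zero]

/-- The linear forms. -/
noncomputable def ell : (X →₀ Q) →ₗ[Q] MvPolynomial X Q :=
  Finsupp.linearCombination Q (fun j => (MvPolynomial.X j : MvPolynomial X Q))

lemma ell_single (i : X) (c : Q) : ell X Q (Finsupp.single i c) = C c * MvPolynomial.X i := by
  rw [ell, Finsupp.linearCombination_single, MvPolynomial.smul_eq_C_mul]

lemma ell_vP (p : MvPolynomial X Q) : ell X Q (vP X Q p) = homogeneousComponent 1 p := by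
  induction p using MvPolynomial.induction_on with
  | C a =>
    rw [vP_C, map_zero, homogeneousComponent_of_mem (isHomogeneous_C X a), if_neg one_ne_zero]
  | add p q hp hq => rw [map_add, map_add, hp, hq, map_add]
  | mul_X p i hp =>
    have h1 : MvPolynomial.X i ∈ idealOfVars X Q ^ 1 := by
      rw [pow_one]
      exact Ideal.subset_span ⟨i, rfl⟩
    rw [vP_mul_X, hc_mul p _ h1, homogeneousComponent_eq_self (isHomogeneous_X Q i), map_smul,
      ell_single, map_one, one_mul, MvPolynomial.smul_eq_C_mul]

lemma constantCoeff_ell (v : X →₀ Q) : constantCoeff (ell X Q v) = 0 := by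
  induction v using Finsupp.induction_linear with
  | zero => simp
  | add f g hf hg => rw [map_add, map_add, hf, hg, add_zero]
  | single i c => rw [ell_single, map_mul, constantCoeff_X, mul_zero]

lemma ell_isHomogeneous (v : X →₀ Q) : (ell X Q v).IsHomogeneous 1 := by
  induction v using Finsupp.induction_linear with
  | zero => rw [map_zero]; exact isHomogeneous_zero _ _ _
  | add f g hf hg => rw [map_add]; exact hf.add hg
  | single i c =>
    rw [ell_single]
    exact (isHomogeneous_X Q i).C_mul c

lemma vP_hc (p : MvPolynomial X Q) : vP X Q (homogeneousComponent 1 p) = vP X Q p := by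
  induction p using MvPolynomial.induction_on with
  | C a =>
    rw [homogeneousComponent_of_mem (isHomogeneous_C X a), if_neg one_ne_zero, map_zero, vP_C]
  | add p q hp hq => rw [map_add, map_add, hp, hq, map_add]
  | mul_X p i hp =>
    have h1 : MvPolynomial.X i ∈ idealOfVars X Q ^ 1 := by
      rw [pow_one]
      exact Ideal.subset_span ⟨i, rfl⟩
    rw [hc_mul p _ h1, homogeneousComponent_eq_self (isHomogeneous_X Q i), vP_mul_X,
      constantCoeff_C, vP_mul_X]

end Groth.Agent.Lib.Helper26.AFSDeg1
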