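import Mathlib

set_option autoImplicit false
universe u v w
open TensorProduct

namespace Groth.Agent.Lib.Helper26.SymLift

variable {R ι : Type u} [CommRing R] {M : Type v} [AddCommGroup M] [Module R M]
  {N : Type w} [AddCommGroup N] [Module R N]

/-- Universal property of the symmetric power: a symmetric multilinear map factors. -/
noncomputable def symLift (f : MultilinearMap R (fun _ : ι => M) N)
    (hf : ∀ (e : Equiv.Perm ι) (v : ι → M), f (fun i => v (e i)) = f v) :
    SymmetricPower R ι M →ₗ[R] N where
  toFun := AddCon.lift (addConGen (SymmetricPower.Rel R ι M))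
    (PiTensorProduct.lift f).toAddMonoidHom (by
      rw [AddCon.addConGen_le]
      intro x y hxy
      cases hxy with
      | perm e v =>
        rw [AddCon.ker_rel]
        simp only [LinearMap.toAddMonoidHom_coe, PiTensorProduct.lift.tprod]
        exact (hf e v).symm)
  map_add' x y := map_add _ x y
  map_smul' r x := by
    induction x using AddCon.induction_on with
    | H x =>
      change AddCon.lift _ _ _ ((AddCon.mk' _) (r • x)) = r • AddCon.lift _ _ _ ((AddCon.mk' _) x)
      simp only [AddCon.coe_mk', AddCon.lift_coe, LinearMap.toAddMonoidHom_coe, map_smul]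

@[simp] lemma symLift_tprod (f : MultilinearMap R (fun _ : ι => M) N)
    (hf : ∀ (e : Equiv.Perm ι) (v : ι → M), f (fun i => v (e i)) = f v) (v : ι → M) :
    symLift f hf (SymmetricPower.tprod R v) = f v := by
  show (PiTensorProduct.lift f) (PiTensorProduct.tprod R v) = f v
  exact PiTensorProduct.lift.tprod v

/-- Linear maps out of the symmetric power are determined by their values on pure tensors. -/
lemma hom_ext {f g : SymmetricPower R ι M →ₗ[R] N}
    (h : ∀ v : ι → M, f (SymmetricPower.tprod R v) = g (SymmetricPower.tprod R v)) : f = g := by
  apply LinearMap.ext_on_range (SymmetricPower.span_tprod_eq_top R ι M)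
  exact h

/-- Every element of the symmetric power is a finite combination of pure tensors. -/
lemma exists_rep (x : SymmetricPower R ι M) :
    ∃ (T : Finset (ι → M)) (a : (ι → M) → R),
      x = ∑ k ∈ T, a k • SymmetricPower.tprod R k := by
  have hx : x ∈ Submodule.span R (Set.range (SymmetricPower.tprod R (ι := ι) (M := M))) := by
    rw [SymmetricPower.span_tprod_eq_top]; trivial
  rw [Finsupp.mem_span_range_iff_exists_finsupp] at hx
  obtain ⟨c, hc⟩ := hx
  exact ⟨c.support, c, hc.symm⟩

end Groth.Agent.Lib.Helper26.SymLift
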