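import Mathlib
import Groth.Agent.Lib.Helper26.SymLift
import Groth.Agent.Lib.Helper26.PPGen

set_option autoImplicit false
universe u v w
open TensorProduct

namespace Groth.Agent.Lib.Helper26.SymPoly

open Groth.Agent.Lib.Helper26

variable {R ι : Type u} [CommRing R] [Fintype ι]
  {M : Type v} [AddCommGroup M] [Module R M]
  {N : Type w} [AddCommGroup N] [Module R N]

section SymMap

/-- Functoriality of the symmetric power. -/
noncomputable def symMap (f : M →ₗ[R] N) : SymmetricPower R ι M →ₗ[R] SymmetricPower R ι N :=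
  SymLift.symLift ((SymmetricPower.tprod R (ι := ι) (M := N)).compLinearMap (fun _ => f))
    (fun σ v => by
      simp only [MultilinearMap.compLinearMap_apply]
      exact (SymmetricPower.tprod_equiv σ (fun i => f (v i))))

lemma symMap_tprod (f : M →ₗ[R] N) (v : ι → M) :
    symMap (ι := ι) f (SymmetricPower.tprod R v) = SymmetricPower.tprod R (fun i => f (v i)) := by
  rw [symMap, SymLift.symLift_tprod]
  rfl

lemma symMap_injective_of_leftInverse (f : M →ₗ[R] N) (g : N →ₗ[R] M)
    (h : ∀ m, g (f m) = m) : Function.Injective (symMap (ι := ι) f) := by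
  have hc : (symMap (ι := ι) g) ∘ₗ (symMap (ι := ι) f) = LinearMap.id := by
    apply SymLift.hom_ext
    intro v
    simp only [LinearMap.coe_comp, Function.comp_apply, symMap_tprod, h, LinearMap.id_coe, id_eq]
  intro x y hxy
  have h1 := LinearMap.congr_fun hc x
  have h2 := LinearMap.congr_fun hc y
  simp only [LinearMap.coe_comp, Function.comp_apply, LinearMap.id_coe, id_eq] at h1 h2
  rw [← h1, ← h2, hxy]

end SymMap

section Theta

variable {J : Type w} (ι)

/-- The polynomial-valued symmetric multilinear map `(m_i) ↦ ∏ ℓ(m_i)`. -/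
noncomputable def polyMul (ℓ : M →ₗ[R] MvPolynomial J R) :
    MultilinearMap R (fun _ : ι => M) (MvPolynomial J R) :=
  (MultilinearMap.mkPiAlgebra R ι (MvPolynomial J R)).compLinearMap (fun _ => ℓ)

lemma polyMul_apply (ℓ : M →ₗ[R] MvPolynomial J R) (v : ι → M) :
    polyMul ι ℓ v = ∏ i, ℓ (v i) := by
  simp [polyMul]

/-- The comparison map from the symmetric power to polynomials. -/
noncomputable def theta (ℓ : M →ₗ[R] MvPolynomial J R) :
    SymmetricPower R ι M →ₗ[R] MvPolynomial J R :=
  SymLift.symLift (polyMul ι ℓ) (fun σ v => by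
    rw [polyMul_apply, polyMul_apply]
    exact Equiv.prod_comp σ (fun i => ℓ (v i)))

lemma theta_tprod (ℓ : M →ₗ[R] MvPolynomial J R) (v : ι → M) :
    theta ι ℓ (SymmetricPower.tprod R v) = ∏ i, ℓ (v i) := by
  rw [theta, SymLift.symLift_tprod, polyMul_apply]

lemma theta_comp_symMap {M' : Type*} [AddCommGroup M'] [Module R M']
    (ℓ : M →ₗ[R] MvPolynomial J R) (f : M' →ₗ[R] M) :
    theta ι ℓ ∘ₗ symMap (ι := ι) f = theta ι (ℓ ∘ₗ f) := by
  apply SymLift.hom_ext
  intro v
  simp only [LinearMap.coe_comp, Function.comp_apply, symMap_tprod, theta_tprod]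

/-- The linear form attached to a basis: `e j ↦ X j`. -/
noncomputable def ell (e : Module.Basis J R M) : M →ₗ[R] MvPolynomial J R :=
  e.constr R (fun j => (MvPolynomial.X j : MvPolynomial J R))

lemma ell_basis (e : Module.Basis J R M) (j : J) : ell e (e j) = MvPolynomial.X j := by
  rw [ell, Module.Basis.constr_basis]

/-- The exponent vector of a map `g : ι → J`. -/
noncomputable def expo (g : ι → J) : J →₀ ℕ := ∑ i, Finsupp.single (g i) 1

lemma prod_X (g : ι → J) :
    ∏ i, (MvPolynomial.X (g i) : MvPolynomial J R) = MvPolynomial.monomial (expo ι g) 1 := by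
  rw [expo, MvPolynomial.monomial_sum_one]
  rfl

variable (e : Module.Basis J R M)

open Classical in
/-- The candidate inverse on monomials. -/
noncomputable def Emon (m : J →₀ ℕ) : SymmetricPower R ι M :=
  if h : ∃ g : ι → J, expo ι g = m then SymmetricPower.tprod R (fun i => e (h.choose i)) else 0

lemma Emon_expo (g : ι → J) :
    Emon ι e (expo ι g) = SymmetricPower.tprod R (fun i => e (g i)) := by
  classical
  have h : ∃ g' : ι → J, expo ι g' = expo ι g := ⟨g, rfl⟩
  rw [Emon, dif_pos h]
  obtain ⟨σ, hσ⟩ := PPGen.exists_perm_of_count_eq g h.choose h.choose_spec.symm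
  have : (fun i => e (h.choose i)) = fun i => (fun i => e (g i)) (σ i) := by
    funext i
    rw [hσ i]
  rw [this]
  exact SymmetricPower.tprod_equiv σ (fun i => e (g i))

/-- The candidate inverse of `theta`. -/
noncomputable def rho : MvPolynomial J R →ₗ[R] SymmetricPower R ι M :=
  (MvPolynomial.basisMonomials J R).constr R (Emon ι e)

lemma rho_monomial (m : J →₀ ℕ) : rho ι e (MvPolynomial.monomial m 1) = Emon ι e m := by
  have := (MvPolynomial.basisMonomials J R).constr_basis R (Emon ι e) m
  rw [MvPolynomial.coe_basisMonomials] at this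
  exact this

theorem rho_theta : rho ι e ∘ₗ theta ι (ell e) = LinearMap.id := by
  have key : ((rho ι e ∘ₗ theta ι (ell e)).compMultilinearMap (SymmetricPower.tprod R)) =
      (LinearMap.id : SymmetricPower R ι M →ₗ[R] _).compMultilinearMap
        (SymmetricPower.tprod R) := by
    apply Module.Basis.ext_multilinear (fun _ => e)
    intro g
    simp only [LinearMap.compMultilinearMap_apply, LinearMap.coe_comp, Function.comp_apply,
      theta_tprod, ell_basis, prod_X, rho_monomial, Emon_expo, LinearMap.id_coe, id_eq]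
  apply SymLift.hom_ext
  intro v
  exact congrFun (congrArg DFunLike.coe key) v

theorem theta_injective : Function.Injective (theta ι (ell e)) := by
  intro x y hxy
  have h1 := LinearMap.congr_fun (rho_theta ι e) x
  have h2 := LinearMap.congr_fun (rho_theta ι e) y
  simp only [LinearMap.coe_comp, Function.comp_apply, LinearMap.id_coe, id_eq] at h1 h2
  rw [← h1, ← h2, hxy]

end Theta

section Homog

variable {J : Type w}

lemma ell_isHomogeneous (e : Module.Basis J R M) (m : M) : (ell e m).IsHomogeneous 1 := by
  have h : Submodule.span R (Set.range e) ≤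
      (MvPolynomial.homogeneousSubmodule J R 1).comap (ell e) := by
    rw [Submodule.span_le]
    rintro _ ⟨j, rfl⟩
    simp only [Submodule.comap_coe, Set.mem_preimage, SetLike.mem_coe,
      MvPolynomial.mem_homogeneousSubmodule, ell_basis]
    exact MvPolynomial.isHomogeneous_X R j
  rw [e.span_eq] at h
  exact h (Submodule.mem_top (x := m))

lemma eq_zero_of_isHomogeneous_of_mem {p : MvPolynomial J R} {n : ℕ}
    (hp : p.IsHomogeneous n) (hm : p ∈ MvPolynomial.idealOfVars J R ^ (n + 1)) : p = 0 := by
  rw [MvPolynomial.mem_pow_idealOfVars_iff'] at hm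
  ext x
  rw [MvPolynomial.coeff_zero]
  by_contra hx
  have h1 := hp hx
  have h2 : Finsupp.degree x = n := by
    rw [← h1, Finsupp.degree_eq_weight_one]
    rfl
  exact hx (hm x (by omega))

lemma sum_smul_prod_isHomogeneous {κ : Type*} (ℓ : M →ₗ[R] MvPolynomial J R)
    (hℓ : ∀ m, (ℓ m).IsHomogeneous 1) (T : Finset κ) (a : κ → R) (w : κ → ι → M) :
    (∑ k ∈ T, a k • ∏ i, ℓ (w k i)).IsHomogeneous (Fintype.card ι) := by
  apply MvPolynomial.IsHomogeneous.sum
  intro k _
  rw [MvPolynomial.smul_eq_C_mul]
  have h1 : (∏ i, ℓ (w k i)).IsHomogeneous (∑ _i : ι, 1) :=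
    MvPolynomial.IsHomogeneous.prod Finset.univ (fun i => ℓ (w k i)) (fun _ => 1)
      (fun i _ => hℓ _)
  have h2 : (∑ _i : ι, 1) = Fintype.card ι := by simp
  rw [h2] at h1
  have := (MvPolynomial.isHomogeneous_C J (a k)).mul h1
  rwa [zero_add] at this

end Homog

section Proj

/-- For a projective module: a linear form to polynomials in the variables indexed by the
elements of `M`, inducing an injective map on symmetric powers. -/
lemma exists_ell_of_projective (R : Type u) [CommRing R] (M : Type v) [AddCommGroup M]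
    [Module R M] [Module.Projective R M] :
    ∃ ℓ : M →ₗ[R] MvPolynomial M R, (∀ m, (ℓ m).IsHomogeneous 1) ∧
      ∀ (ι : Type u) [Fintype ι], Function.Injective (theta ι ℓ) := by
  obtain ⟨sec, hsec⟩ := Module.projective_def'.mp (inferInstance : Module.Projective R M)
  let e : Module.Basis M R (M →₀ R) := Finsupp.basisSingleOne
  refine ⟨ell e ∘ₗ sec, fun m => ell_isHomogeneous e _, ?_⟩
  intro ι _
  rw [← theta_comp_symMap]
  have h1 : Function.Injective (symMap (ι := ι) sec) :=
    symMap_injective_of_leftInverse sec (Finsupp.linearCombination R id)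
      (fun m => LinearMap.congr_fun hsec m)
  exact (theta_injective ι e).comp h1

end Proj


end Groth.Agent.Lib.Helper26.SymPoly

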