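import Mathlib
import Groth.Agent.Lib.Helper26.SymLift
import Groth.Agent.Lib.Helper26.PPGen
import Groth.Agent.Lib.Helper26.SymPoly

set_option autoImplicit false
universe u v w
open TensorProduct

namespace Groth.Agent.Lib.Helper26.SymPoly2

open Groth.Agent.Lib.Helper26 Groth.Agent.Lib.Helper26.SymPoly

variable {R ι : Type u} [CommRing R] [Fintype ι]
  {M : Type v} [AddCommGroup M] [Module R M]

section Basis

variable {J : Type w}

lemma ell_basisSingleOne :
    ell (Finsupp.basisSingleOne : Module.Basis J R (J →₀ R)) =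
      Finsupp.linearCombination R (fun j => (MvPolynomial.X j : MvPolynomial J R)) := by
  apply (Finsupp.basisSingleOne : Module.Basis J R (J →₀ R)).ext
  intro j
  rw [ell_basis, Finsupp.coe_basisSingleOne, Finsupp.linearCombination_single, one_smul]

lemma mem_span_tprod_basis (e : Module.Basis J R M) (y : SymmetricPower R ι M) :
    y ∈ Submodule.span R (Set.range fun g : ι → J => SymmetricPower.tprod R (fun i => e (g i))) := by
  classical
  have h := LinearMap.congr_fun (rho_theta ι e) y
  simp only [LinearMap.coe_comp, Function.comp_apply, LinearMap.id_coe, id_eq] at h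
  rw [← h, MvPolynomial.as_sum (theta ι (ell e) y), map_sum]
  apply Submodule.sum_mem
  intro m _
  have e1 : MvPolynomial.monomial m (MvPolynomial.coeff m (theta ι (ell e) y)) =
      MvPolynomial.coeff m (theta ι (ell e) y) • MvPolynomial.monomial m (1 : R) := by
    rw [MvPolynomial.smul_monomial, smul_eq_mul, mul_one]
  rw [e1, map_smul, rho_monomial]
  apply Submodule.smul_mem
  unfold Emon
  split_ifs with hh
  · exact Submodule.subset_span ⟨hh.choose, rfl⟩
  · exact zero_mem _

end Basis

section Span

lemma symMap_surjective {N : Type w} [AddCommGroup N] [Module R N] (f : M →ₗ[R] N)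
    (hf : Function.Surjective f) : Function.Surjective (symMap (ι := ι) f) := by
  rw [← LinearMap.range_eq_top, eq_top_iff, ← SymmetricPower.span_tprod_eq_top R ι N,
    Submodule.span_le]
  rintro _ ⟨v, rfl⟩
  choose u hu using fun i => hf (v i)
  refine ⟨SymmetricPower.tprod R u, ?_⟩
  rw [symMap_tprod]
  congr 1
  funext i
  exact hu i

lemma span_tprod_of_span (G : Set M) (hG : Submodule.span R G = ⊤) :
    Submodule.span R {x : SymmetricPower R ι M | ∃ v : ι → M, (∀ i, v i ∈ G) ∧
      x = SymmetricPower.tprod R v} = ⊤ := by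
  classical
  let e : Module.Basis G R (G →₀ R) := Finsupp.basisSingleOne
  let π : (G →₀ R) →ₗ[R] M := Finsupp.linearCombination R (Subtype.val : G → M)
  have hπ : Function.Surjective π := by
    rw [← LinearMap.range_eq_top, Finsupp.range_linearCombination, Subtype.range_coe]
    exact hG
  rw [eq_top_iff]
  intro x _
  obtain ⟨y, rfl⟩ := symMap_surjective (ι := ι) π hπ x
  have hy := mem_span_tprod_basis (ι := ι) e y
  have hle : Submodule.span R (Set.range fun g : ι → G =>
      SymmetricPower.tprod R (fun i => e (g i))) ≤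
      (Submodule.span R {x : SymmetricPower R ι M | ∃ v : ι → M, (∀ i, v i ∈ G) ∧
        x = SymmetricPower.tprod R v}).comap (symMap (ι := ι) π) := by
    rw [Submodule.span_le]
    rintro _ ⟨g, rfl⟩
    rw [SetLike.mem_coe, Submodule.mem_comap, symMap_tprod]
    apply Submodule.subset_span
    refine ⟨fun i => π (e (g i)), fun i => ?_, rfl⟩
    simp only [π, e, Finsupp.coe_basisSingleOne, Finsupp.linearCombination_single, one_smul]
    exact (g i).2
  exact hle hy

lemma hom_ext_of_span {N : Type w} [AddCommGroup N] [Module R N] (G : Set M)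
    (hG : Submodule.span R G = ⊤) {f g : SymmetricPower R ι M →ₗ[R] N}
    (h : ∀ v : ι → M, (∀ i, v i ∈ G) →
      f (SymmetricPower.tprod R v) = g (SymmetricPower.tprod R v)) : f = g := by
  apply LinearMap.ext_on (span_tprod_of_span (ι := ι) G hG)
  rintro _ ⟨v, hv, rfl⟩
  exact h v hv

end Span

section Retraction

variable {J : Type w} {F : Type*} [AddCommGroup F] [Module R F]

lemma exists_retraction (e : Module.Basis J R F) (sec : M →ₗ[R] F) (π : F →ₗ[R] M)
    (h : ∀ m, π (sec m) = m) :
    ∃ ρ : MvPolynomial J R →ₗ[R] SymmetricPower R ι M,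
      ∀ x, ρ (theta ι (ell e ∘ₗ sec) x) = x := by
  refine ⟨symMap (ι := ι) π ∘ₗ rho ι e, ?_⟩
  intro x
  rw [← theta_comp_symMap]
  have h1 := LinearMap.congr_fun (rho_theta ι e) (symMap (ι := ι) sec x)
  simp only [LinearMap.coe_comp, Function.comp_apply, LinearMap.id_coe, id_eq] at h1 ⊢
  rw [h1]
  have hc : (symMap (ι := ι) π) ∘ₗ (symMap (ι := ι) sec) = LinearMap.id := by
    apply SymLift.hom_ext
    intro v
    simp only [LinearMap.coe_comp, Function.comp_apply, symMap_tprod, h, LinearMap.id_coe, id_eq]
  exact LinearMap.congr_fun hc x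

lemma theta_injective_of_section (e : Module.Basis J R F) (sec : M →ₗ[R] F) (π : F →ₗ[R] M)
    (h : ∀ m, π (sec m) = m) : Function.Injective (theta ι (ell e ∘ₗ sec)) := by
  obtain ⟨ρ, hρ⟩ := exists_retraction (ι := ι) e sec π h
  intro x y hxy
  rw [← hρ x, ← hρ y, hxy]

lemma projective_sym (e : Module.Basis J R F) (sec : M →ₗ[R] F) (π : F →ₗ[R] M)
    (h : ∀ m, π (sec m) = m) : Module.Projective R (SymmetricPower R ι M) := by
  obtain ⟨ρ, hρ⟩ := exists_retraction (ι := ι) e sec π h
  exact Module.Projective.of_split (theta ι (ell e ∘ₗ sec)) ρ (LinearMap.ext hρ)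

end Retraction

end Groth.Agent.Lib.Helper26.SymPoly2
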