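import Mathlib
import Groth.Prelude.Def_PP16
import Groth.Agent.Lib.Helper26.SymPoly2

set_option autoImplicit false
universe u
open TensorProduct

namespace Groth.Agent.Lib.Helper26.QRSym

open Groth.Agent.Lib.Helper26

variable {R : Type u} [CommRing R] (J : Ideal R) (ι : Type u) [Fintype ι]

/-- The multilinear product map `(x_i) ↦ class of ∏ x_i` on `J`. -/
noncomputable def zmul : MultilinearMap R (fun _ : ι => ↥J) (PP16.grJ R J (Fintype.card ι)) :=
  (Submodule.mkQ _).compMultilinearMap
    (((MultilinearMap.mkPiAlgebra R ι R).compLinearMap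
      (fun _ => (Submodule.subtype J))).codRestrict (J ^ Fintype.card ι)
      (fun v => by
        simpa using PP16.prod_mem_pow J Finset.univ (fun i => (v i : R)) (fun i _ => (v i).2)))

lemma zmul_apply (x : ι → ↥J) : zmul J ι x = PP16.zetaJ R J x := by
  simp only [zmul, LinearMap.compMultilinearMap_apply, Submodule.mkQ_apply, PP16.zetaJ]
  congr 1

lemma zetaJ_eq_iff (x x' : ι → ↥J) :
    PP16.zetaJ R J x = PP16.zetaJ R J x' ↔
      ∏ i, (x i : R) - ∏ i, (x' i : R) ∈ J ^ (Fintype.card ι + 1) := by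
  rw [PP16.zetaJ, PP16.zetaJ, Submodule.Quotient.eq, Submodule.mem_comap]
  rfl

lemma zetaJ_congr (x x' : ι → ↥J) (h : ∀ i, J.toCotangent (x i) = J.toCotangent (x' i)) :
    PP16.zetaJ R J x = PP16.zetaJ R J x' := by
  classical
  rw [zetaJ_eq_iff]
  have := PPGen.prod_sub_prod_mem J Finset.univ (fun i => (x i : R)) (fun i => (x' i : R))
    (fun i _ => (x i).2) (fun i _ => (x' i).2) (fun i _ => (Ideal.toCotangent_eq J).1 (h i))
  rwa [Finset.card_univ] at this

/-- A set-theoretic section of `J → J/J²`. -/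
noncomputable def sec (m : J.Cotangent) : ↥J := Function.surjInv J.toCotangent_surjective m

lemma toCotangent_sec (m : J.Cotangent) : J.toCotangent (sec J m) = m :=
  Function.surjInv_eq J.toCotangent_surjective m

/-- The product map descended to the cotangent module. -/
noncomputable def cmul :
    MultilinearMap R (fun _ : ι => J.Cotangent) (PP16.grJ R J (Fintype.card ι)) where
  toFun m := PP16.zetaJ R J (fun i => sec J (m i))
  map_update_add' := by
    intro _ m i a b
    have e : ∀ c : J.Cotangent, (fun j => sec J (Function.update m i c j)) =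
        Function.update (fun j => sec J (m j)) i (sec J c) := by
      intro c
      funext j
      by_cases hj : j = i
      · subst hj; simp
      · simp [Function.update_of_ne hj]
    rw [e, e, e, ← zmul_apply, ← zmul_apply, ← zmul_apply, ← MultilinearMap.map_update_add,
      zmul_apply, zmul_apply]
    apply zetaJ_congr
    intro j
    by_cases hj : j = i
    · subst hj
      simp [toCotangent_sec]
    · simp [Function.update_of_ne hj]
  map_update_smul' := by
    intro _ m i c a
    have e : ∀ c : J.Cotangent, (fun j => sec J (Function.update m i c j)) =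
        Function.update (fun j => sec J (m j)) i (sec J c) := by
      intro c
      funext j
      by_cases hj : j = i
      · subst hj; simp
      · simp [Function.update_of_ne hj]
    rw [e, e, ← zmul_apply, ← zmul_apply, ← MultilinearMap.map_update_smul,
      zmul_apply, zmul_apply]
    apply zetaJ_congr
    intro j
    by_cases hj : j = i
    · subst hj
      simp [toCotangent_sec]
    · simp [Function.update_of_ne hj]

lemma cmul_toCotangent (x : ι → ↥J) :
    cmul J ι (fun i => J.toCotangent (x i)) = PP16.zetaJ R J x := by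
  change PP16.zetaJ R J (fun i => sec J (J.toCotangent (x i))) = _
  apply zetaJ_congr
  intro i
  rw [toCotangent_sec]

lemma cmul_perm (σ : Equiv.Perm ι) (m : ι → J.Cotangent) :
    cmul J ι (fun i => m (σ i)) = cmul J ι m := by
  change PP16.zetaJ R J (fun i => sec J (m (σ i))) = PP16.zetaJ R J (fun i => sec J (m i))
  rw [zetaJ_eq_iff]
  rw [Equiv.prod_comp σ (fun i => ((sec J (m i) : ↥J) : R)), sub_self]
  exact zero_mem _

/-- The canonical map `Sym^ι(J/J²) → J^n/J^(n+1)`. -/
noncomputable def phiJ : SymmetricPower R ι J.Cotangent →ₗ[R] PP16.grJ R J (Fintype.card ι) :=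
  SymLift.symLift (cmul J ι) (cmul_perm J ι)

lemma phiJ_tprod (x : ι → ↥J) :
    phiJ J ι (SymmetricPower.tprod R (fun i => J.toCotangent (x i))) = PP16.zetaJ R J x := by
  rw [phiJ, SymLift.symLift_tprod, cmul_toCotangent]

/-- Any map with the prescribed values on pure tensors is the canonical one. -/
lemma eq_phiJ (φ : SymmetricPower R ι J.Cotangent →ₗ[R] PP16.grJ R J (Fintype.card ι))
    (hφ : ∀ x : ι → ↥J, φ (SymmetricPower.tprod R (fun i => J.toCotangent (x i))) =
      PP16.zetaJ R J x) : φ = phiJ J ι := by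
  apply SymLift.hom_ext
  intro m
  have : m = fun i => J.toCotangent (sec J (m i)) := by
    funext i
    rw [toCotangent_sec]
  rw [this, hφ, phiJ_tprod]


section Surj

variable {ι}

omit [Fintype ι] in
/-- `J ^ s.card` is spanned by the products over `s` of elements of `J`. -/
lemma mem_span_prod [DecidableEq ι] (s : Finset ι) :
    ∀ z ∈ J ^ s.card, z ∈ Submodule.span R (Set.range fun x : ι → ↥J => ∏ i ∈ s, (x i : R)) := by
  induction s using Finset.induction_on with
  | empty =>
    intro z _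
    have : z = z • (1 : R) := by simp
    rw [this]
    apply Submodule.smul_mem
    apply Submodule.subset_span
    exact ⟨fun _ => 0, by simp⟩
  | insert a s ha ih =>
    intro z hz
    rw [Finset.card_insert_of_notMem ha, pow_succ'] at hz
    refine Submodule.mul_induction_on hz ?_ ?_
    · intro c hc w hw
      have hw' := ih w hw
      clear hw
      induction hw' using Submodule.span_induction with
      | mem w hw =>
        obtain ⟨x, rfl⟩ := hw
        apply Submodule.subset_span
        refine ⟨Function.update x a ⟨c, hc⟩, ?_⟩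
        simp only
        rw [Finset.prod_insert ha, Function.update_self]
        congr 1
        apply Finset.prod_congr rfl
        intro i hi
        have : i ≠ a := fun h => ha (h ▸ hi)
        rw [Function.update_of_ne this]
      | zero => rw [mul_zero]; exact zero_mem _
      | add w₁ w₂ _ _ h₁ h₂ => rw [mul_add]; exact add_mem h₁ h₂
      | smul β w _ hw => rw [mul_smul_comm]; exact Submodule.smul_mem _ β hw
    · intro z₁ z₂ h₁ h₂
      exact add_mem h₁ h₂

variable (ι)

theorem phiJ_surjective : Function.Surjective (phiJ J ι) := by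
  classical
  intro q
  obtain ⟨⟨z, hz⟩, rfl⟩ := Submodule.Quotient.mk_surjective _ q
  have hz' := hz
  rw [← Finset.card_univ] at hz'
  have key := mem_span_prod J (Finset.univ : Finset ι) z hz'
  have : ∀ w ∈ Submodule.span R (Set.range fun x : ι → ↥J => ∏ i, (x i : R)),
      ∃ ξ, ∀ hw : w ∈ J ^ Fintype.card ι, phiJ J ι ξ = Submodule.Quotient.mk ⟨w, hw⟩ := by
    intro w hw
    induction hw using Submodule.span_induction with
    | mem w hw =>
      obtain ⟨x, rfl⟩ := hw
      exact ⟨_, fun _ => phiJ_tprod J ι x⟩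
    | zero => exact ⟨0, fun _ => by rw [map_zero]; rfl⟩
    | add w₁ w₂ hw₁ hw₂ h₁ h₂ =>
      obtain ⟨x₁, hx₁⟩ := h₁
      obtain ⟨x₂, hx₂⟩ := h₂
      have hle : Submodule.span R (Set.range fun x : ι → ↥J => ∏ i, (x i : R)) ≤
          J ^ Fintype.card ι := by
        rw [Submodule.span_le]
        rintro _ ⟨x, rfl⟩
        simpa using PP16.prod_mem_pow J Finset.univ (fun i => (x i : R)) (fun i _ => (x i).2)
      refine ⟨x₁ + x₂, fun _ => ?_⟩
      rw [map_add, hx₁ (hle hw₁), hx₂ (hle hw₂)]
      rfl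
    | smul β w hw h =>
      obtain ⟨x, hx⟩ := h
      have hle : Submodule.span R (Set.range fun x : ι → ↥J => ∏ i, (x i : R)) ≤
          J ^ Fintype.card ι := by
        rw [Submodule.span_le]
        rintro _ ⟨x, rfl⟩
        simpa using PP16.prod_mem_pow J Finset.univ (fun i => (x i : R)) (fun i _ => (x i).2)
      refine ⟨β • x, fun _ => ?_⟩
      rw [map_smul, hx (hle hw)]
      rfl
  obtain ⟨ξ, hξ⟩ := this z key
  exact ⟨ξ, hξ hz⟩

end Surj

section Kill

variable {ι}

/-- Elements of `J` kill the cotangent module. -/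
lemma smul_cotangent_eq_zero {j : R} (hj : j ∈ J) (m : J.Cotangent) : j • m = 0 := by
  obtain ⟨z, rfl⟩ := J.toCotangent_surjective m
  rw [← map_smul, Ideal.toCotangent_eq_zero]
  change j • (z : R) ∈ J ^ 2
  rw [pow_two, smul_eq_mul]
  exact Ideal.mul_mem_mul hj z.2

omit [Fintype ι] in
/-- Elements of `J` kill the positive symmetric powers of the cotangent module. -/
lemma smul_sym_eq_zero [Nonempty ι] {j : R} (hj : j ∈ J) (ξ : SymmetricPower R ι J.Cotangent) :
    j • ξ = 0 := by
  classical
  obtain ⟨T, a, rfl⟩ := SymLift.exists_rep ξ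
  rw [Finset.smul_sum]
  apply Finset.sum_eq_zero
  intro m _
  rw [smul_comm]
  obtain ⟨i₀⟩ := ‹Nonempty ι›
  have h1 : j • SymmetricPower.tprod R m =
      SymmetricPower.tprod R (Function.update m i₀ (j • m i₀)) := by
    rw [MultilinearMap.map_update_smul, Function.update_eq_self]
  rw [h1, smul_cotangent_eq_zero J hj]
  rw [(SymmetricPower.tprod R).map_coord_zero i₀ (Function.update_self ..), smul_zero]

end Kill

section Kappa

/-- The inclusion `J^n/J^(n+1) → R/J^(n+1)`. -/
noncomputable def kappa (n : ℕ) : PP16.grJ R J n →ₗ[R] R ⧸ J ^ (n + 1) :=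
  Submodule.mapQ _ _ (Submodule.subtype (J ^ n)) le_rfl

lemma kappa_mk (n : ℕ) (z : ↥(J ^ n)) :
    kappa J n (Submodule.Quotient.mk z) = Ideal.Quotient.mk (J ^ (n + 1)) (z : R) := rfl

lemma kappa_injective (n : ℕ) : Function.Injective (kappa J n) := by
  rw [← LinearMap.ker_eq_bot, kappa, Submodule.ker_mapQ]  
  simp

lemma kappa_zetaJ (x : ι → ↥J) :
    kappa J (Fintype.card ι) (PP16.zetaJ R J x) =
      Ideal.Quotient.mk (J ^ (Fintype.card ι + 1)) (∏ i, (x i : R)) := rfl

end Kappa


section ThetaA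

variable {ι} {M : Type u} [AddCommGroup M] [Module R M] {A : Type*} [CommRing A] [Algebra R A]

variable (ι) in
/-- The symmetric multilinear map `(m_i) ↦ ∏ ℓ(m_i)` into a commutative algebra, on `Sym`. -/
noncomputable def thetaA (ℓ : M →ₗ[R] A) : SymmetricPower R ι M →ₗ[R] A :=
  SymLift.symLift ((MultilinearMap.mkPiAlgebra R ι A).compLinearMap (fun _ => ℓ))
    (fun σ v => by
      simp only [MultilinearMap.compLinearMap_apply, MultilinearMap.mkPiAlgebra_apply]
      exact Equiv.prod_comp σ (fun i => ℓ (v i)))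

lemma thetaA_tprod (ℓ : M →ₗ[R] A) (v : ι → M) :
    thetaA ι ℓ (SymmetricPower.tprod R v) = ∏ i, ℓ (v i) := by
  rw [thetaA, SymLift.symLift_tprod]
  simp

end ThetaA

section Poly

variable {J} {r : ℕ} (y : Fin r → ↥J)

/-- The standard basis of `Fin r →₀ R`. -/
noncomputable def stdBasis (R : Type u) [CommRing R] (r : ℕ) :
    Module.Basis (Fin r) R (Fin r →₀ R) := Finsupp.basisSingleOne

/-- The map `R^r → J`, `e_a ↦ y_a`. -/
noncomputable def piJ : (Fin r →₀ R) →ₗ[R] ↥J := Finsupp.linearCombination R y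

/-- The map `R^r → J/J²`, `e_a ↦` class of `y_a`. -/
noncomputable def piC : (Fin r →₀ R) →ₗ[R] J.Cotangent := J.toCotangent ∘ₗ piJ y

lemma piJ_single (a : Fin r) : piJ y (Finsupp.single a 1) = y a := by
  simp [piJ]

lemma eval_ell (v : Fin r →₀ R) :
    MvPolynomial.eval (fun a => (y a : R)) (SymPoly.ell (stdBasis R r) v) = (piJ y v : R) := by
  have h : ((MvPolynomial.aeval (fun a => (y a : R))).toLinearMap ∘ₗ SymPoly.ell (stdBasis R r) :
      (Fin r →₀ R) →ₗ[R] R) = (Submodule.subtype J) ∘ₗ piJ y := by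
    apply (stdBasis R r).ext
    intro a
    simp only [LinearMap.coe_comp, Function.comp_apply, SymPoly.ell_basis, AlgHom.toLinearMap_apply,
      MvPolynomial.aeval_X, Submodule.subtype_apply]
    rw [stdBasis, Finsupp.coe_basisSingleOne, piJ_single]
  have := LinearMap.congr_fun h v
  simp only [LinearMap.coe_comp, Function.comp_apply, AlgHom.toLinearMap_apply,
    Submodule.subtype_apply] at this
  rw [← this]
  exact (RingHom.congr_fun (MvPolynomial.coe_aeval_eq_eval (fun a => (y a : R))) _).symm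

/-- Evaluation at `y` of the polynomial attached to a symmetric tensor, modulo `J^(n+1)`. -/
noncomputable def Gmap : SymmetricPower R ι (Fin r →₀ R) →ₗ[R] R ⧸ J ^ (Fintype.card ι + 1) :=
  (Ideal.Quotient.mkₐ R (J ^ (Fintype.card ι + 1))).toLinearMap ∘ₗ
    (MvPolynomial.aeval (fun a => (y a : R))).toLinearMap ∘ₗ
      SymPoly.theta ι (SymPoly.ell (stdBasis R r))

lemma Gmap_apply (ξ : SymmetricPower R ι (Fin r →₀ R)) :
    Gmap ι y ξ = Ideal.Quotient.mk (J ^ (Fintype.card ι + 1))
      (MvPolynomial.eval (fun a => (y a : R)) (SymPoly.theta ι (SymPoly.ell (stdBasis R r)) ξ)) := by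
  have := RingHom.congr_fun (MvPolynomial.coe_aeval_eq_eval (fun a => (y a : R)))
    (SymPoly.theta ι (SymPoly.ell (stdBasis R r)) ξ)
  rw [← this]
  rfl

theorem kappa_phiJ_symMap :
    kappa J (Fintype.card ι) ∘ₗ phiJ J ι ∘ₗ SymPoly.symMap (ι := ι) (piC y) = Gmap ι y := by
  apply SymLift.hom_ext
  intro v
  rw [Gmap_apply]
  simp only [LinearMap.coe_comp, Function.comp_apply, SymPoly.symMap_tprod, SymPoly.theta_tprod,
    map_prod, eval_ell]
  change kappa J (Fintype.card ι) (phiJ J ι (SymmetricPower.tprod R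
    (fun i => J.toCotangent (piJ y (v i))))) = _
  rw [phiJ_tprod, kappa_zetaJ, map_prod]

lemma eval_theta_mem (ξ : SymmetricPower R ι (Fin r →₀ R))
    (h : phiJ J ι (SymPoly.symMap (ι := ι) (piC y) ξ) = 0) :
    MvPolynomial.eval (fun a => (y a : R)) (SymPoly.theta ι (SymPoly.ell (stdBasis R r)) ξ) ∈
      J ^ (Fintype.card ι + 1) := by
  have := LinearMap.congr_fun (kappa_phiJ_symMap ι y) ξ
  simp only [LinearMap.coe_comp, Function.comp_apply] at this
  rw [h, map_zero, Gmap_apply] at this
  exact Ideal.Quotient.eq_zero_iff_mem.1 this.symm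

lemma theta_isHomogeneous (ξ : SymmetricPower R ι (Fin r →₀ R)) :
    (SymPoly.theta ι (SymPoly.ell (stdBasis R r)) ξ).IsHomogeneous (Fintype.card ι) := by
  obtain ⟨T, a, rfl⟩ := SymLift.exists_rep ξ
  simp only [map_sum, map_smul, SymPoly.theta_tprod]
  exact SymPoly.sum_smul_prod_isHomogeneous _ (SymPoly.ell_isHomogeneous _) T a (fun k => k)

/-- Polynomials with coefficients in `J` die in the positive symmetric powers of `J/J²`. -/
lemma symMap_rho_eq_zero [Nonempty ι] (P : MvPolynomial (Fin r) R) (hP : ∀ d, P.coeff d ∈ J) :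
    SymPoly.symMap (ι := ι) (piC y) (SymPoly.rho ι (stdBasis R r) P) = 0 := by
  conv_lhs => rw [MvPolynomial.as_sum P]
  rw [map_sum, map_sum]
  apply Finset.sum_eq_zero
  intro d _
  have : MvPolynomial.monomial d (P.coeff d) =
      P.coeff d • (MvPolynomial.monomial d (1 : R) : MvPolynomial (Fin r) R) := by
    rw [MvPolynomial.smul_monomial, smul_eq_mul, mul_one]
  rw [this, map_smul, map_smul]
  exact smul_sym_eq_zero J (hP d) _

end Poly


section LocalInj

variable {J} {r : ℕ} (y : Fin r → ↥J) (g : R)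
  (hgen : ∀ m ∈ J, ∃ k : ℕ, g ^ k * m ∈ Ideal.span (Set.range fun a => (y a : R)))

include hgen in
lemma exists_piC (m : J.Cotangent) : ∃ (k : ℕ) (v : Fin r →₀ R), g ^ k • m = piC y v := by
  obtain ⟨z, rfl⟩ := J.toCotangent_surjective m
  obtain ⟨k, hk⟩ := hgen z z.2
  rw [Ideal.mem_span_range_iff_exists_fun] at hk
  obtain ⟨c, hc⟩ := hk
  refine ⟨k, Finsupp.equivFunOnFinite.symm c, ?_⟩
  rw [piC, LinearMap.comp_apply, ← map_smul]
  congr 1
  apply Subtype.ext
  rw [piJ, Finsupp.linearCombination_apply, Finsupp.sum_fintype _ _ (by simp)]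
  simp only [Submodule.coe_smul_of_tower, smul_eq_mul,
    AddSubmonoidClass.coe_finsetSum]
  exact hc.symm

include hgen in
lemma exists_symMap (ξ : SymmetricPower R ι J.Cotangent) :
    ∃ (N : ℕ) (ξ' : SymmetricPower R ι (Fin r →₀ R)),
      g ^ N • ξ = SymPoly.symMap (ι := ι) (piC y) ξ' := by
  have hξ : ξ ∈ Submodule.span R
      (Set.range (SymmetricPower.tprod R (ι := ι) (M := J.Cotangent))) := by
    rw [SymmetricPower.span_tprod_eq_top]; trivial
  induction hξ using Submodule.span_induction with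
  | mem ξ h =>
    obtain ⟨m, rfl⟩ := h
    choose k v hkv using fun i => exists_piC y g hgen (m i)
    refine ⟨∑ i, k i, SymmetricPower.tprod R v, ?_⟩
    rw [SymPoly.symMap_tprod, ← Finset.prod_pow_eq_pow_sum, ← MultilinearMap.map_smul_univ]
    congr 1
    funext i
    exact hkv i
  | zero => exact ⟨0, 0, by simp⟩
  | add ξ₁ ξ₂ _ _ h₁ h₂ =>
    obtain ⟨N₁, ξ₁', h₁⟩ := h₁
    obtain ⟨N₂, ξ₂', h₂⟩ := h₂
    refine ⟨N₁ + N₂, g ^ N₂ • ξ₁' + g ^ N₁ • ξ₂', ?_⟩
    rw [map_add, map_smul, map_smul, ← h₁, ← h₂, smul_add, smul_smul, smul_smul, ← pow_add,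
      ← pow_add, add_comm N₂ N₁]
  | smul c ξ _ h =>
    obtain ⟨N, ξ', h⟩ := h
    exact ⟨N, c • ξ', by rw [map_smul, ← h, smul_comm]⟩

include hgen in
theorem exists_pow_smul_eq_zero [Nonempty ι]
    (hqr : ∀ (F : MvPolynomial (Fin r) R), F.IsHomogeneous (Fintype.card ι) →
      MvPolynomial.eval (fun a => (y a : R)) F ∈ J ^ (Fintype.card ι + 1) →
        ∀ d, ∃ k : ℕ, g ^ k * F.coeff d ∈ J)
    (ξ : SymmetricPower R ι J.Cotangent) (hξ : phiJ J ι ξ = 0) : ∃ N : ℕ, g ^ N • ξ = 0 := by
  classical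
  obtain ⟨N, ξ', h⟩ := exists_symMap ι y g hgen ξ
  have h0 : phiJ J ι (SymPoly.symMap (ι := ι) (piC y) ξ') = 0 := by
    rw [← h, map_smul, hξ, smul_zero]
  have h1 := eval_theta_mem ι y ξ' h0
  have h2 := hqr _ (theta_isHomogeneous ι ξ') h1
  choose k hk using h2
  obtain ⟨P, hP⟩ : ∃ P, P = SymPoly.theta ι (SymPoly.ell (stdBasis R r)) ξ' := ⟨_, rfl⟩
  rw [← hP] at hk
  let K := ∑ d ∈ P.support, k d
  have h3 : ∀ d, (g ^ K • P).coeff d ∈ J := by
    intro d
    rw [MvPolynomial.coeff_smul, smul_eq_mul]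
    by_cases hd : d ∈ P.support
    · have hle : k d ≤ K := Finset.single_le_sum (f := k) (fun _ _ => Nat.zero_le _) hd
      have : g ^ K = g ^ (K - k d) * g ^ k d := by
        rw [← pow_add, Nat.sub_add_cancel hle]
      rw [this, mul_assoc]
      exact J.mul_mem_left _ (hk d)
    · rw [MvPolynomial.notMem_support_iff.1 hd, mul_zero]
      exact zero_mem _
  have h4 := symMap_rho_eq_zero ι y (g ^ K • P) h3
  have h5 : SymPoly.rho ι (stdBasis R r) (g ^ K • P) = g ^ K • ξ' := by
    rw [hP, map_smul]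
    congr 1
    exact LinearMap.congr_fun (SymPoly.rho_theta ι (stdBasis R r)) ξ'
  rw [h5, map_smul, ← h, smul_smul, ← pow_add] at h4
  exact ⟨K + N, h4⟩

end LocalInj


section Converse

variable {J} {r : ℕ} (y : Fin r → ↥J) {T : Type u} [CommRing T] [Algebra R T]

/-- A function from `ULift (Fin n)` hitting each index `a` exactly `p a` times. -/
lemma exists_fn (p : Fin r → ℕ) (n : ℕ) (hp : ∑ a, p a = n) :
    ∃ g : ULift.{u} (Fin n) → Fin r,
      ∀ (M : Type u) [CommMonoid M] (f : Fin r → M), ∏ j, f (g j) = ∏ a, f a ^ p a := by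
  have hcard : Fintype.card (ULift.{u} (Fin n)) = Fintype.card (Σ a, Fin (p a)) := by
    simp [hp]
  let e : ULift.{u} (Fin n) ≃ Σ a, Fin (p a) := Fintype.equivOfCardEq hcard
  refine ⟨fun j => (e j).1, fun M _ f => ?_⟩
  rw [Equiv.prod_comp e (fun x => f x.1), Fintype.prod_sigma]
  apply Finset.prod_congr rfl
  intro i _
  show ∏ _y : Fin (p i), f i = _
  rw [Finset.prod_const, Finset.card_univ, Fintype.card_fin]

theorem map_eq_zero_of_injective (n : ℕ)
    (hinj : Function.Injective (phiJ J (ULift.{u} (Fin n))))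
    (ℓ : J.Cotangent →ₗ[R] MvPolynomial (Fin r) T)
    (hℓ : ∀ a, ℓ (J.toCotangent (y a)) = MvPolynomial.X a)
    (F : MvPolynomial (Fin r) R) (hF : F.IsHomogeneous n)
    (hev : MvPolynomial.eval (fun a => (y a : R)) F ∈ J ^ (n + 1)) :
    MvPolynomial.map (algebraMap R T) F = 0 := by
  classical
  by_cases hF0 : F = 0
  · rw [hF0, map_zero]
  have hdeg : ∀ d ∈ F.support, ∑ a, d a = n := by
    intro d hd
    have := hF (MvPolynomial.mem_support_iff.1 hd)
    rw [← this, ← Finsupp.degree_eq_sum, Finsupp.degree_eq_weight_one]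
    rfl
  obtain ⟨d0, hd0⟩ : F.support.Nonempty := by
    rw [Finset.nonempty_iff_ne_empty, Ne, MvPolynomial.support_eq_empty]
    exact hF0
  have hne : Nonempty (ULift.{u} (Fin n) → Fin r) := ⟨(exists_fn d0 n (hdeg d0 hd0)).choose⟩
  choose! gd hgd using fun d (hd : d ∈ F.support) => exists_fn.{u} d n (hdeg d hd)
  have hcard : Fintype.card (ULift.{u} (Fin n)) = n := by simp
  obtain ⟨ξ, hξ⟩ : ∃ ξ : SymmetricPower R (ULift.{u} (Fin n)) J.Cotangent,
      ξ = ∑ d ∈ F.support, F.coeff d •
        SymmetricPower.tprod R (fun j => J.toCotangent (y (gd d j))) := ⟨_, rfl⟩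
  have h1 : kappa J _ (phiJ J _ ξ) = 0 := by
    rw [hξ, map_sum, map_sum]
    simp only [map_smul, phiJ_tprod, kappa_zetaJ]
    have e1 : ∀ d ∈ F.support, F.coeff d •
        (Ideal.Quotient.mk (J ^ (Fintype.card (ULift.{u} (Fin n)) + 1)))
          (∏ j, ((y (gd d j) : ↥J) : R)) =
        (Ideal.Quotient.mk (J ^ (Fintype.card (ULift.{u} (Fin n)) + 1)))
          (F.coeff d * ∏ a, ((y a : ↥J) : R) ^ d a) := by
      intro d hd
      rw [hgd d hd R (fun a => ((y a : ↥J) : R)), map_mul]
      rfl
    rw [Finset.sum_congr rfl e1, ← map_sum, ← MvPolynomial.eval_eq', Ideal.Quotient.eq_zero_iff_mem,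
      hcard]
    exact hev
  have h2 : ξ = 0 := by
    apply hinj
    rw [map_zero]
    apply kappa_injective J
    rw [h1, map_zero]
  have h3 : thetaA _ ℓ ξ = MvPolynomial.map (algebraMap R T) F := by
    rw [hξ, map_sum]
    conv_rhs => rw [MvPolynomial.as_sum F, map_sum]
    apply Finset.sum_congr rfl
    intro d hd
    rw [map_smul, thetaA_tprod]
    simp only [hℓ]
    rw [hgd d hd _ (fun a => (MvPolynomial.X a : MvPolynomial (Fin r) T)),
      MvPolynomial.map_monomial, MvPolynomial.monomial_eq, Finsupp.prod_fintype _ _ (by simp),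
      Algebra.smul_def, MvPolynomial.algebraMap_apply]
  rw [← h3, h2, map_zero]

end Converse

end Groth.Agent.Lib.Helper26.QRSym
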