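import Mathlib
import Groth.Agent.Lib.Helper26.SymLift
import Groth.Agent.Lib.Helper26.QRSym

set_option autoImplicit false
universe u v
open TensorProduct

namespace Groth.Agent.Lib.Helper26.SymQuot

open Groth.Agent.Lib.Helper26

variable {B : Type u} [CommRing B] (𝔍 : Ideal B) {M : Type u} [AddCommGroup M] [Module B M]
  [Module (B ⧸ 𝔍) M] [IsScalarTower B (B ⧸ 𝔍) M] (ι : Type u)

lemma mk_smul (b : B) (m : M) : (Ideal.Quotient.mk 𝔍 b) • m = b • m := by
  rw [← Ideal.Quotient.algebraMap_eq, algebraMap_smul]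

lemma smul_eq_zero_of_mem {j : B} (hj : j ∈ 𝔍) (m : M) : j • m = 0 := by
  rw [← mk_smul 𝔍, Ideal.Quotient.eq_zero_iff_mem.2 hj, zero_smul]

/-- Elements of `𝔍` kill the positive symmetric powers over `B` of a `B/𝔍`-module. -/
lemma smul_sym_eq_zero [Nonempty ι] {j : B} (hj : j ∈ 𝔍) (ξ : SymmetricPower B ι M) :
    j • ξ = 0 := by
  classical
  obtain ⟨T, a, rfl⟩ := SymLift.exists_rep ξ
  rw [Finset.smul_sum]
  apply Finset.sum_eq_zero
  intro m _
  rw [smul_comm]
  obtain ⟨i₀⟩ := ‹Nonempty ι›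
  have h1 : j • SymmetricPower.tprod B m =
      SymmetricPower.tprod B (Function.update m i₀ (j • m i₀)) := by
    rw [MultilinearMap.map_update_smul, Function.update_eq_self]
  rw [h1, smul_eq_zero_of_mem 𝔍 hj]
  rw [(SymmetricPower.tprod B).map_coord_zero i₀ (Function.update_self ..), smul_zero]

/-- `Sym_{B/𝔍}` as a `B`-module. -/
@[reducible] noncomputable def modSymC : Module B (SymmetricPower (B ⧸ 𝔍) ι M) :=
  Module.compHom _ (Ideal.Quotient.mk 𝔍)

attribute [local instance] modSymC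

lemma smul_symC (b : B) (x : SymmetricPower (B ⧸ 𝔍) ι M) :
    b • x = (Ideal.Quotient.mk 𝔍 b) • x := rfl

/-- `tprod` over `B/𝔍` as a `B`-multilinear map. -/
noncomputable def tprodCB : MultilinearMap B (fun _ : ι => M) (SymmetricPower (B ⧸ 𝔍) ι M) where
  toFun m := SymmetricPower.tprod (B ⧸ 𝔍) m
  map_update_add' := by
    intro _ m i a b
    exact (SymmetricPower.tprod (B ⧸ 𝔍) (M := M)).map_update_add m i a b
  map_update_smul' := by
    intro _ m i b a
    rw [← mk_smul 𝔍, smul_symC]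
    exact (SymmetricPower.tprod (B ⧸ 𝔍) (M := M)).map_update_smul m i _ a

lemma tprodCB_perm (σ : Equiv.Perm ι) (m : ι → M) :
    (tprodCB 𝔍 ι) (fun i => m (σ i)) = (tprodCB 𝔍 ι) m :=
  SymmetricPower.tprod_equiv σ m

/-- The comparison map `Sym_B → Sym_{B/𝔍}`. -/
noncomputable def alpha : SymmetricPower B ι M →ₗ[B] SymmetricPower (B ⧸ 𝔍) ι M :=
  SymLift.symLift (tprodCB 𝔍 ι) (tprodCB_perm 𝔍 ι)

lemma alpha_tprod (m : ι → M) :
    alpha 𝔍 ι (SymmetricPower.tprod B m) = SymmetricPower.tprod (B ⧸ 𝔍) m := by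
  rw [alpha, SymLift.symLift_tprod]
  rfl

section Beta

variable [Nonempty ι]

/-- The symmetric power over `B` is `𝔍`-torsion. -/
lemma isTorsionBySet : Module.IsTorsionBySet B (SymmetricPower B ι M) (𝔍 : Set B) := by
  intro x a
  exact smul_sym_eq_zero 𝔍 ι a.2 x

/-- `Sym_B` as a `B/𝔍`-module. -/
@[reducible] noncomputable def modSymB : Module (B ⧸ 𝔍) (SymmetricPower B ι M) :=
  (isTorsionBySet 𝔍 ι).module

attribute [local instance] modSymB

lemma smul_symB (b : B) (x : SymmetricPower B ι M) :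
    (Ideal.Quotient.mk 𝔍 b) • x = b • x := rfl

/-- `tprod` over `B` as a `B/𝔍`-multilinear map. -/
noncomputable def tprodBC : MultilinearMap (B ⧸ 𝔍) (fun _ : ι => M) (SymmetricPower B ι M) where
  toFun m := SymmetricPower.tprod B m
  map_update_add' := by
    intro _ m i a b
    exact (SymmetricPower.tprod B (M := M)).map_update_add m i a b
  map_update_smul' := by
    intro _ m i c a
    obtain ⟨b, rfl⟩ := Ideal.Quotient.mk_surjective c
    rw [mk_smul 𝔍, smul_symB]
    exact (SymmetricPower.tprod B (M := M)).map_update_smul m i _ a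

lemma tprodBC_perm (σ : Equiv.Perm ι) (m : ι → M) :
    (tprodBC 𝔍 ι) (fun i => m (σ i)) = (tprodBC 𝔍 ι) m :=
  SymmetricPower.tprod_equiv σ m

/-- The comparison map `Sym_{B/𝔍} → Sym_B`. -/
noncomputable def beta : SymmetricPower (B ⧸ 𝔍) ι M →ₗ[B ⧸ 𝔍] SymmetricPower B ι M :=
  SymLift.symLift (tprodBC 𝔍 ι) (tprodBC_perm 𝔍 ι)

lemma beta_tprod (m : ι → M) :
    beta 𝔍 ι (SymmetricPower.tprod (B ⧸ 𝔍) m) = SymmetricPower.tprod B m := by
  rw [beta, SymLift.symLift_tprod]
  rfl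

lemma beta_alpha (ξ : SymmetricPower B ι M) : beta 𝔍 ι (alpha 𝔍 ι ξ) = ξ := by
  have hξ : ξ ∈ Submodule.span B (Set.range (SymmetricPower.tprod B (ι := ι) (M := M))) := by
    rw [SymmetricPower.span_tprod_eq_top]; trivial
  induction hξ using Submodule.span_induction with
  | mem ξ h =>
    obtain ⟨m, rfl⟩ := h
    rw [alpha_tprod, beta_tprod]
  | zero => rw [map_zero, map_zero]
  | add ξ₁ ξ₂ _ _ h₁ h₂ => rw [map_add, map_add, h₁, h₂]
  | smul b ξ _ h =>
    rw [map_smul, smul_symC 𝔍 ι b (alpha 𝔍 ι ξ), map_smul, h, smul_symB 𝔍 ι b ξ]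

lemma alpha_injective : Function.Injective (alpha 𝔍 ι (M := M)) := by
  intro x y hxy
  rw [← beta_alpha 𝔍 ι x, ← beta_alpha 𝔍 ι y, hxy]

end Beta

section Theta

variable [Fintype ι] [Nonempty ι] {A' : Type u} [CommRing A'] [Algebra B A'] [Algebra (B ⧸ 𝔍) A']
  [IsScalarTower B (B ⧸ 𝔍) A']

/-- Injectivity of the polynomial comparison map descends from `B/𝔍` to `B`. -/
theorem thetaA_injective (ℓ : M →ₗ[B ⧸ 𝔍] A')
    (h : Function.Injective (QRSym.thetaA ι ℓ)) :
    Function.Injective (QRSym.thetaA ι (ℓ.restrictScalars B)) := by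
  have key : ∀ ξ : SymmetricPower B ι M,
      QRSym.thetaA ι (ℓ.restrictScalars B) ξ = QRSym.thetaA ι ℓ (alpha 𝔍 ι ξ) := by
    intro ξ
    have hξ : ξ ∈ Submodule.span B (Set.range (SymmetricPower.tprod B (ι := ι) (M := M))) := by
      rw [SymmetricPower.span_tprod_eq_top]; trivial
    induction hξ using Submodule.span_induction with
    | mem ξ h =>
      obtain ⟨m, rfl⟩ := h
      rw [alpha_tprod, QRSym.thetaA_tprod, QRSym.thetaA_tprod]
      rfl
    | zero => simp
    | add ξ₁ ξ₂ _ _ h₁ h₂ => rw [map_add, map_add, map_add, h₁, h₂]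
    | smul b ξ _ h =>
      rw [map_smul, map_smul, smul_symC, map_smul, h, ← algebraMap_smul (B ⧸ 𝔍) b]
      rfl
  intro x y hxy
  rw [key, key] at hxy
  exact alpha_injective 𝔍 ι (h hxy)

end Theta

end Groth.Agent.Lib.Helper26.SymQuot
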