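import Mathlib
import Groth.Prelude.Def_PP16
import Groth.Prelude.Def_CAlgX
import Groth.Agent.Lib.Helper26.AFSPoly
import Groth.Agent.Lib.Helper26.AFSDeg1
import Groth.Agent.Lib.Helper26.SymQuot
import Groth.Agent.Lib.Helper26.QRSym
import Groth.Agent.Lib.Helper26.SymPoly2

set_option autoImplicit false
universe u
open MvPolynomial

namespace Groth.Agent.Lib.Helper26.AFS1

open Groth.Agent.Lib.Helper26 Groth.Agent.Lib.Helper26.AFSPoly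

variable {A B : Type u} [CommRing A] [CommRing B] [Algebra A B] (𝔍 : Ideal B)

/-- Flexible form of the adic lifting property. -/
theorem lift_of_surjective (h : CAlgX.IsAdicFormallySmooth A B 𝔍) {E E' : Type u} [CommRing E]
    [CommRing E'] [Algebra A E] [Algebra A E'] (f : E →ₐ[A] E') (hf : Function.Surjective f)
    (hker : RingHom.ker f ^ 2 = ⊥) (ψ : B →ₐ[A] E') (k : ℕ) (hψ : ∀ x ∈ 𝔍 ^ k, ψ x = 0) :
    ∃ χ : B →ₐ[A] E, f.comp χ = ψ := by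
  let e := Ideal.quotientKerAlgEquivOfSurjective hf
  obtain ⟨χ, hχ⟩ := h E (RingHom.ker f) hker (e.symm.toAlgHom.comp ψ)
    ⟨k, fun x hx => by simp [hψ x hx]⟩
  refine ⟨χ, ?_⟩
  ext b
  have h1 := AlgHom.congr_fun hχ b
  have h2 : e (Ideal.Quotient.mk _ (χ b)) = e (e.symm (ψ b)) := congrArg e h1
  rw [AlgEquiv.apply_symm_apply] at h2
  exact h2

section Setup

/-- The quotient map `B/𝔍² → B/𝔍`. -/
noncomputable def q2 : (B ⧸ 𝔍 ^ 2) →ₐ[A] (B ⧸ 𝔍) :=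
  Ideal.Quotient.factorₐ A (Ideal.pow_le_self two_ne_zero)

lemma q2_mk (b : B) : q2 (A := A) 𝔍 (Ideal.Quotient.mk (𝔍 ^ 2) b) = Ideal.Quotient.mk 𝔍 b := rfl

lemma q2_surjective : Function.Surjective (q2 (A := A) 𝔍) :=
  Ideal.Quotient.factor_surjective (Ideal.pow_le_self two_ne_zero)

lemma ker_q2 : RingHom.ker (q2 (A := A) 𝔍 : (B ⧸ 𝔍 ^ 2) →+* (B ⧸ 𝔍)) =
    𝔍.map (Ideal.Quotient.mk (𝔍 ^ 2)) :=
  Ideal.Quotient.factor_ker (Ideal.pow_le_self two_ne_zero)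

lemma map_sq : (𝔍.map (Ideal.Quotient.mk (𝔍 ^ 2))) ^ 2 = ⊥ := by
  rw [← Ideal.map_pow, Ideal.map_quotient_self]

lemma mem_map_of_q2_eq_zero {x : B ⧸ 𝔍 ^ 2} (hx : q2 (A := A) 𝔍 x = 0) :
    x ∈ 𝔍.map (Ideal.Quotient.mk (𝔍 ^ 2)) := by
  rw [← ker_q2 (A := A)]
  exact hx

lemma mul_eq_zero_of_mem {x y : B ⧸ 𝔍 ^ 2} (hx : x ∈ 𝔍.map (Ideal.Quotient.mk (𝔍 ^ 2)))
    (hy : y ∈ 𝔍.map (Ideal.Quotient.mk (𝔍 ^ 2))) : x * y = 0 := by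
  have h := Ideal.mul_mem_mul hx hy
  have h' : 𝔍.map (Ideal.Quotient.mk (𝔍 ^ 2)) * 𝔍.map (Ideal.Quotient.mk (𝔍 ^ 2)) = ⊥ :=
    (pow_two (𝔍.map (Ideal.Quotient.mk (𝔍 ^ 2)))).symm.trans (map_sq 𝔍)
  rw [h'] at h
  exact h

variable [Algebra.FormallySmooth A (B ⧸ 𝔍)]

/-- A section of `B/𝔍² → B/𝔍`. -/
noncomputable def sigma : (B ⧸ 𝔍) →ₐ[A] (B ⧸ 𝔍 ^ 2) :=
  Algebra.FormallySmooth.liftOfSurjective (AlgHom.id A _) (q2 𝔍) (q2_surjective 𝔍)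
    ⟨2, by rw [ker_q2, map_sq]; rfl⟩

lemma q2_sigma (c : B ⧸ 𝔍) : q2 (A := A) 𝔍 (sigma (A := A) 𝔍 c) = c :=
  Algebra.FormallySmooth.liftOfSurjective_apply _ _ _ _ c

lemma sigma_mk_sub_mem (b : B) :
    sigma (A := A) 𝔍 (Ideal.Quotient.mk 𝔍 b) - Ideal.Quotient.mk (𝔍 ^ 2) b ∈
      𝔍.map (Ideal.Quotient.mk (𝔍 ^ 2)) := by
  apply mem_map_of_q2_eq_zero (A := A)
  rw [map_sub, q2_sigma, q2_mk, sub_self]

/-- The map `C[X] → B/𝔍²`, with `X = 𝔍`. -/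
noncomputable def Phi1 : MvPolynomial ↥𝔍 (B ⧸ 𝔍) →ₐ[A] (B ⧸ 𝔍 ^ 2) :=
  { MvPolynomial.eval₂Hom (sigma (A := A) 𝔍 : (B ⧸ 𝔍) →+* (B ⧸ 𝔍 ^ 2))
      (fun x : ↥𝔍 => Ideal.Quotient.mk (𝔍 ^ 2) (x : B)) with
    commutes' := fun a => by
      simp only [RingHom.toMonoidHom_eq_coe, OneHom.toFun_eq_coe, MonoidHom.toOneHom_coe,
        MonoidHom.coe_coe, MvPolynomial.algebraMap_apply, coe_eval₂Hom, eval₂_C, RingHom.coe_coe,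
        AlgHom.commutes] }

lemma Phi1_C (c : B ⧸ 𝔍) : Phi1 (A := A) 𝔍 (C c) = sigma (A := A) 𝔍 c := by
  simp [Phi1]

lemma Phi1_X (x : ↥𝔍) : Phi1 (A := A) 𝔍 (X x) = Ideal.Quotient.mk (𝔍 ^ 2) (x : B) := by
  simp [Phi1]

lemma q2_Phi1 (p : MvPolynomial ↥𝔍 (B ⧸ 𝔍)) :
    q2 (A := A) 𝔍 (Phi1 (A := A) 𝔍 p) = constantCoeff p := by
  induction p using MvPolynomial.induction_on with
  | C a => rw [Phi1_C, q2_sigma, constantCoeff_C]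
  | add p q hp hq => rw [map_add, map_add, map_add, hp, hq]
  | mul_X p i hp =>
    rw [map_mul, map_mul, map_mul, hp, Phi1_X, constantCoeff_X, mul_zero, q2_mk,
      Ideal.Quotient.eq_zero_iff_mem.2 i.2, mul_zero]

lemma Phi1_mem_of_mem {p : MvPolynomial ↥𝔍 (B ⧸ 𝔍)} (hp : p ∈ idealOfVars ↥𝔍 (B ⧸ 𝔍)) :
    Phi1 (A := A) 𝔍 p ∈ 𝔍.map (Ideal.Quotient.mk (𝔍 ^ 2)) := by
  apply mem_map_of_q2_eq_zero (A := A)
  rw [q2_Phi1, (mem_idealOfVars_iff p).1 hp]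

lemma Phi1_eq_zero_of_mem {p : MvPolynomial ↥𝔍 (B ⧸ 𝔍)}
    (hp : p ∈ idealOfVars ↥𝔍 (B ⧸ 𝔍) ^ (1 + 1)) : Phi1 (A := A) 𝔍 p = 0 := by
  have h1 : idealOfVars ↥𝔍 (B ⧸ 𝔍) ≤
      (𝔍.map (Ideal.Quotient.mk (𝔍 ^ 2))).comap (Phi1 (A := A) 𝔍) := fun p hp =>
    Phi1_mem_of_mem 𝔍 hp
  have h2 := Ideal.pow_right_mono h1 (1 + 1)
  have h3 := (h2.trans (Ideal.le_comap_pow _ _)) hp
  rw [Ideal.mem_comap, map_sq] at h3
  exact h3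

/-- The induced map `C[X]/(X)² → B/𝔍²`. -/
noncomputable def f1 : Tr ↥𝔍 (B ⧸ 𝔍) 1 →ₐ[A] (B ⧸ 𝔍 ^ 2) :=
  Ideal.Quotient.liftₐ (idealOfVars ↥𝔍 (B ⧸ 𝔍) ^ (1 + 1)) (Phi1 (A := A) 𝔍)
    (fun p hp => Phi1_eq_zero_of_mem 𝔍 hp)

lemma f1_mk (p : MvPolynomial ↥𝔍 (B ⧸ 𝔍)) :
    f1 (A := A) 𝔍 (Ideal.Quotient.mk _ p) = Phi1 (A := A) 𝔍 p := rfl

lemma f1_surjective : Function.Surjective (f1 (A := A) 𝔍) := by
  intro y
  obtain ⟨b, rfl⟩ := Ideal.Quotient.mk_surjective y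
  have h1 := sigma_mk_sub_mem (A := A) 𝔍 b
  rw [Ideal.mem_map_iff_of_surjective _ Ideal.Quotient.mk_surjective] at h1
  obtain ⟨j, hj, hjb⟩ := h1
  refine ⟨Ideal.Quotient.mk _ (C (Ideal.Quotient.mk 𝔍 b) - X ⟨j, hj⟩), ?_⟩
  rw [f1_mk, map_sub, Phi1_C, Phi1_X, hjb]
  ring

lemma ker_f1_sq : RingHom.ker (f1 (A := A) 𝔍) ^ 2 = ⊥ := by
  have h1 : RingHom.ker (f1 (A := A) 𝔍) ≤
      (idealOfVars ↥𝔍 (B ⧸ 𝔍)).map (Ideal.Quotient.mk (idealOfVars ↥𝔍 (B ⧸ 𝔍) ^ (1 + 1))) := by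
    intro e he
    obtain ⟨p, rfl⟩ := Ideal.Quotient.mk_surjective e
    apply Ideal.mem_map_of_mem
    rw [mem_idealOfVars_iff, ← q2_Phi1 (A := A), ← f1_mk]
    rw [RingHom.mem_ker] at he
    rw [he, map_zero]
  rw [eq_bot_iff]
  refine (Ideal.pow_right_mono h1 2).trans ?_
  have h3 : ((idealOfVars ↥𝔍 (B ⧸ 𝔍)).map
      (Ideal.Quotient.mk (idealOfVars ↥𝔍 (B ⧸ 𝔍) ^ (1 + 1)))) ^ 2 = ⊥ := by
    have h4 := Ideal.map_pow (Ideal.Quotient.mk (idealOfVars ↥𝔍 (B ⧸ 𝔍) ^ (1 + 1)))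
      (idealOfVars ↥𝔍 (B ⧸ 𝔍)) 2
    rw [← h4]
    exact Ideal.map_quotient_self _
  rw [h3]

end Setup

section Trunc

variable (A) (X : Type u) (Q : Type u) [CommRing Q] [Algebra A Q]

/-- The constant coefficient, as an `A`-algebra map. -/
noncomputable def cc0 : MvPolynomial X Q →ₐ[A] Q :=
  (MvPolynomial.aeval (fun _ : X => (0 : Q))).restrictScalars A

lemma cc0_apply (p : MvPolynomial X Q) : cc0 A X Q p = constantCoeff p := by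
  change MvPolynomial.aeval (fun _ : X => (0 : Q)) p = _
  have := MvPolynomial.aeval_zero (S₁ := Q) p
  simpa using this

/-- The constant coefficient on the truncated polynomial ring. -/
noncomputable def cc (n : ℕ) : Tr X Q n →ₐ[A] Q :=
  Ideal.Quotient.liftₐ (idealOfVars X Q ^ (n + 1)) (cc0 A X Q) (fun p hp => by
    rw [cc0_apply, ← mem_idealOfVars_iff]
    exact Ideal.pow_le_self (Nat.succ_ne_zero n) hp)

lemma cc_mk (n : ℕ) (p : MvPolynomial X Q) :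
    cc A X Q n (Ideal.Quotient.mk _ p) = constantCoeff p := by
  change cc0 A X Q p = _
  exact cc0_apply A X Q p

/-- The transition maps between truncations. -/
noncomputable def tr {n m : ℕ} (h : m ≤ n) : Tr X Q n →ₐ[A] Tr X Q m :=
  Ideal.Quotient.factorₐ A (Ideal.pow_le_pow_right (Nat.succ_le_succ h))

lemma tr_mk {n m : ℕ} (h : m ≤ n) (p : MvPolynomial X Q) :
    tr A X Q h (Ideal.Quotient.mk _ p) = Ideal.Quotient.mk _ p := rfl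

lemma tr_surjective {n m : ℕ} (h : m ≤ n) : Function.Surjective (tr A X Q h) :=
  Ideal.Quotient.factor_surjective (Ideal.pow_le_pow_right (Nat.succ_le_succ h))

lemma cc_tr {n m : ℕ} (h : m ≤ n) (e : Tr X Q n) : cc A X Q m (tr A X Q h e) = cc A X Q n e := by
  obtain ⟨p, rfl⟩ := Ideal.Quotient.mk_surjective e
  rw [tr_mk, cc_mk, cc_mk]

lemma tr_tr {n m l : ℕ} (h : m ≤ n) (h' : l ≤ m) (e : Tr X Q n) :
    tr A X Q h' (tr A X Q h e) = tr A X Q (h'.trans h) e := by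
  obtain ⟨p, rfl⟩ := Ideal.Quotient.mk_surjective e
  rfl

lemma tr_refl {n : ℕ} (e : Tr X Q n) : tr A X Q (le_refl n) e = e := by
  obtain ⟨p, rfl⟩ := Ideal.Quotient.mk_surjective e
  rfl

/-- The image of the ideal of variables in a truncation. -/
noncomputable def mI (n : ℕ) : Ideal (Tr X Q n) :=
  (idealOfVars X Q).map (Ideal.Quotient.mk (idealOfVars X Q ^ (n + 1)))

lemma mem_mI_of_cc {n : ℕ} {e : Tr X Q n} (he : cc A X Q n e = 0) : e ∈ mI X Q n := by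
  obtain ⟨p, rfl⟩ := Ideal.Quotient.mk_surjective e
  apply Ideal.mem_map_of_mem
  rw [mem_idealOfVars_iff, ← cc_mk A]
  exact he

lemma mI_pow (n k : ℕ) : mI X Q n ^ k =
    (idealOfVars X Q ^ k).map (Ideal.Quotient.mk (idealOfVars X Q ^ (n + 1))) :=
  (Ideal.map_pow _ _ k).symm

lemma mI_pow_eq_bot (n : ℕ) : mI X Q n ^ (n + 1) = ⊥ := by
  rw [mI_pow]
  exact Ideal.map_quotient_self _

lemma ker_tr_succ_sq (n : ℕ) : RingHom.ker (tr A X Q (Nat.le_succ n)) ^ 2 = ⊥ := by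
  have h1 : RingHom.ker (tr A X Q (Nat.le_succ n)) =
      (idealOfVars X Q ^ (n + 1)).map (Ideal.Quotient.mk (idealOfVars X Q ^ (n + 1 + 1))) :=
    Ideal.Quotient.factor_ker (Ideal.pow_le_pow_right (Nat.succ_le_succ (Nat.le_succ n)))
  rw [h1, sq, ← Ideal.map_mul, ← pow_add, eq_bot_iff]
  refine (Ideal.map_mono (Ideal.pow_le_pow_right (m := n + 1 + 1) (by omega))).trans ?_
  rw [Ideal.map_quotient_self]

/-- Elements of `(𝔪^k)/(𝔪^(n+1))` have representatives in `𝔪^k`, for `k ≤ n + 1`. -/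
lemma exists_rep_of_mem {n k : ℕ} (hk : k ≤ n + 1) {e : Tr X Q n} (he : e ∈ mI X Q n ^ k) :
    ∃ p ∈ idealOfVars X Q ^ k, Ideal.Quotient.mk (idealOfVars X Q ^ (n + 1)) p = e := by
  rw [mI_pow, Ideal.mem_map_iff_of_surjective _ Ideal.Quotient.mk_surjective] at he
  obtain ⟨p, hp, rfl⟩ := he
  exact ⟨p, hp, rfl⟩


lemma lam_zero (n : ℕ) : lam n (0 : Tr X Q n) = 0 := by
  have := lam_mk n (0 : MvPolynomial X Q)
  rwa [map_zero, map_zero] at this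

lemma lam_add (n : ℕ) (e₁ e₂ : Tr X Q n) : lam n (e₁ + e₂) = lam n e₁ + lam n e₂ := by
  obtain ⟨p₁, rfl⟩ := Ideal.Quotient.mk_surjective e₁
  obtain ⟨p₂, rfl⟩ := Ideal.Quotient.mk_surjective e₂
  rw [← map_add, lam_mk, lam_mk, lam_mk, map_add]

lemma lam_mul (n : ℕ) (e' e : Tr X Q n) (he : e ∈ mI X Q n ^ n) :
    lam n (e' * e) = C (cc A X Q n e') * lam n e := by
  obtain ⟨p', rfl⟩ := Ideal.Quotient.mk_surjective e'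
  obtain ⟨p, hp, rfl⟩ := exists_rep_of_mem X Q (Nat.le_succ n) he
  rw [← map_mul, lam_mk, lam_mk, cc_mk, hc_mul _ _ hp]

lemma lam_prod {ι : Type*} [Fintype ι] (h1 : 1 ≤ Fintype.card ι)
    (e : ι → Tr X Q (Fintype.card ι)) (he : ∀ i, e i ∈ mI X Q (Fintype.card ι)) :
    lam (Fintype.card ι) (∏ i, e i) = ∏ i, lam 1 (tr A X Q h1 (e i)) := by
  have hex : ∀ i : ι, ∃ p ∈ idealOfVars X Q ^ 1,
      Ideal.Quotient.mk (idealOfVars X Q ^ (Fintype.card ι + 1)) p = e i := fun i =>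
    exists_rep_of_mem X Q (k := 1) (n := Fintype.card ι) (by omega) (by simpa using he i)
  choose p hp hpe using hex
  have h2 : ∏ i, e i = Ideal.Quotient.mk _ (∏ i, p i) := by
    rw [map_prod]
    exact Finset.prod_congr rfl (fun i _ => (hpe i).symm)
  rw [h2, lam_mk, hc_prod p (fun i => by simpa using hp i)]
  apply Finset.prod_congr rfl
  intro i _
  rw [← hpe i, tr_mk, lam_mk]

end Trunc


section Forward

variable {𝔍}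

section Chi

variable {n : ℕ} (χ : B →ₐ[A] Tr ↥𝔍 (B ⧸ 𝔍) n)
  (hcc : ∀ b, cc A ↥𝔍 (B ⧸ 𝔍) n (χ b) = Ideal.Quotient.mk 𝔍 b)

include hcc

lemma chi_mem_mI {j : B} (hj : j ∈ 𝔍) : χ j ∈ mI ↥𝔍 (B ⧸ 𝔍) n :=
  mem_mI_of_cc A _ _ (by rw [hcc, Ideal.Quotient.eq_zero_iff_mem.2 hj])

lemma chi_mem_pow (i : ℕ) {z : B} (hz : z ∈ 𝔍 ^ i) : χ z ∈ mI ↥𝔍 (B ⧸ 𝔍) n ^ i := by
  have h1 : 𝔍 ≤ (mI ↥𝔍 (B ⧸ 𝔍) n).comap χ := fun j hj => chi_mem_mI χ hcc hj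
  exact (Ideal.pow_right_mono h1 i).trans (Ideal.le_comap_pow _ _) hz

lemma chi_eq_zero {z : B} (hz : z ∈ 𝔍 ^ (n + 1)) : χ z = 0 := by
  have := chi_mem_pow χ hcc (n + 1) hz
  rwa [mI_pow_eq_bot, Ideal.mem_bot] at this

/-- The degree `n` part of `χ`, on an ideal contained in `𝔍^n`. -/
noncomputable def LamMap (K : Ideal B) (hK : K ≤ 𝔍 ^ n) :
    ↥K →ₗ[B] MvPolynomial ↥𝔍 (B ⧸ 𝔍) where
  toFun z := lam n (χ (z : B))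
  map_add' z w := by rw [Submodule.coe_add, map_add, lam_add]
  map_smul' b z := by
    rw [RingHom.id_apply, Submodule.coe_smul, smul_eq_mul, map_mul,
      lam_mul A _ _ n _ _ (chi_mem_pow χ hcc n (hK z.2)), hcc, Algebra.smul_def,
      MvPolynomial.algebraMap_apply]
    rfl

lemma LamMap_apply (K : Ideal B) (hK : K ≤ 𝔍 ^ n) (z : ↥K) :
    LamMap χ hcc K hK z = lam n (χ (z : B)) := rfl

end Chi


section Exists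

variable [Algebra.FormallySmooth A (B ⧸ 𝔍)]

lemma q2_f1 (e : Tr ↥𝔍 (B ⧸ 𝔍) 1) :
    q2 (A := A) 𝔍 (f1 (A := A) 𝔍 e) = cc A ↥𝔍 (B ⧸ 𝔍) 1 e := by
  obtain ⟨p, rfl⟩ := Ideal.Quotient.mk_surjective e
  rw [f1_mk, q2_Phi1, cc_mk]

theorem exists_chi1 (h : CAlgX.IsAdicFormallySmooth A B 𝔍) :
    ∃ χ₁ : B →ₐ[A] Tr ↥𝔍 (B ⧸ 𝔍) 1,
      ∀ b, f1 (A := A) 𝔍 (χ₁ b) = Ideal.Quotient.mk (𝔍 ^ 2) b := by
  obtain ⟨χ₁, h1⟩ := lift_of_surjective 𝔍 h (f1 (A := A) 𝔍) (f1_surjective 𝔍) (ker_f1_sq 𝔍)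
    (Ideal.Quotient.mkₐ A (𝔍 ^ 2)) 2 (fun x hx => Ideal.Quotient.eq_zero_iff_mem.2 hx)
  exact ⟨χ₁, fun b => AlgHom.congr_fun h1 b⟩

lemma cc_chi1 (χ₁ : B →ₐ[A] Tr ↥𝔍 (B ⧸ 𝔍) 1)
    (h1 : ∀ b, f1 (A := A) 𝔍 (χ₁ b) = Ideal.Quotient.mk (𝔍 ^ 2) b) (b : B) :
    cc A ↥𝔍 (B ⧸ 𝔍) 1 (χ₁ b) = Ideal.Quotient.mk 𝔍 b := by
  rw [← q2_f1, h1, q2_mk]

theorem exists_chi (h : CAlgX.IsAdicFormallySmooth A B 𝔍)
    (χ₁ : B →ₐ[A] Tr ↥𝔍 (B ⧸ 𝔍) 1)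
    (h1 : ∀ b, f1 (A := A) 𝔍 (χ₁ b) = Ideal.Quotient.mk (𝔍 ^ 2) b) (n : ℕ) (hn : 1 ≤ n) :
    ∃ χ : B →ₐ[A] Tr ↥𝔍 (B ⧸ 𝔍) n, ∀ b, tr A ↥𝔍 (B ⧸ 𝔍) hn (χ b) = χ₁ b := by
  induction n, hn using Nat.le_induction with
  | base => exact ⟨χ₁, fun b => tr_refl A _ _ _⟩
  | succ n hn ih =>
    obtain ⟨χ, hχ⟩ := ih
    have hcc : ∀ b, cc A ↥𝔍 (B ⧸ 𝔍) n (χ b) = Ideal.Quotient.mk 𝔍 b := by
      intro b
      rw [← cc_tr A _ _ hn, hχ, cc_chi1 χ₁ h1]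
    obtain ⟨χ', hχ'⟩ := lift_of_surjective 𝔍 h (tr A ↥𝔍 (B ⧸ 𝔍) (Nat.le_succ n))
      (tr_surjective A _ _ _) (ker_tr_succ_sq A _ _ n) χ (n + 1)
      (fun x hx => chi_eq_zero χ hcc hx)
    refine ⟨χ', fun b => ?_⟩
    have := AlgHom.congr_fun hχ' b
    rw [AlgHom.comp_apply] at this
    rw [← hχ b, ← this, tr_tr]

end Exists


section Main

open AFSDeg1

variable [Algebra.FormallySmooth A (B ⧸ 𝔍)]
  (χ₁ : B →ₐ[A] Tr ↥𝔍 (B ⧸ 𝔍) 1)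
  (h1 : ∀ b, f1 (A := A) 𝔍 (χ₁ b) = Ideal.Quotient.mk (𝔍 ^ 2) b)

/-- The linear part of `χ₁` on `𝔍`. -/
noncomputable def ell0 : ↥𝔍 →ₗ[B] MvPolynomial ↥𝔍 (B ⧸ 𝔍) :=
  LamMap χ₁ (cc_chi1 χ₁ h1) 𝔍 (by rw [pow_one])

lemma ell0_apply (j : ↥𝔍) : ell0 χ₁ h1 j = lam 1 (χ₁ (j : B)) := rfl

lemma ell0_ker : (𝔍 • ⊤ : Submodule B ↥𝔍) ≤ LinearMap.ker (ell0 χ₁ h1) := by
  intro x hx
  have h2 : 𝔍.toCotangent x = 0 := (Submodule.Quotient.mk_eq_zero _).2 hx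
  rw [Ideal.toCotangent_eq_zero] at h2
  rw [LinearMap.mem_ker, ell0_apply, chi_eq_zero χ₁ (cc_chi1 χ₁ h1) h2, lam_zero]

/-- The linear part of `χ₁` on the cotangent module. -/
noncomputable def ellB : 𝔍.Cotangent →ₗ[B] MvPolynomial ↥𝔍 (B ⧸ 𝔍) :=
  Submodule.liftQ _ (ell0 χ₁ h1) (ell0_ker χ₁ h1)

lemma ellB_toCotangent (j : ↥𝔍) : ellB χ₁ h1 (𝔍.toCotangent j) = lam 1 (χ₁ (j : B)) := rfl

/-- The same, as a `B/𝔍`-linear map. -/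
noncomputable def ellC : 𝔍.Cotangent →ₗ[B ⧸ 𝔍] MvPolynomial ↥𝔍 (B ⧸ 𝔍) :=
  (ellB χ₁ h1).extendScalarsOfSurjective Ideal.Quotient.mk_surjective

lemma ellC_apply (m : 𝔍.Cotangent) : ellC χ₁ h1 m = ellB χ₁ h1 m := rfl

/-- The section of `F → 𝔍/𝔍²`. -/
noncomputable def secC : 𝔍.Cotangent →ₗ[B ⧸ 𝔍] (↥𝔍 →₀ (B ⧸ 𝔍)) :=
  vP ↥𝔍 (B ⧸ 𝔍) ∘ₗ ellC χ₁ h1

/-- The canonical surjection `F → 𝔍/𝔍²`. -/
noncomputable def piC : (↥𝔍 →₀ (B ⧸ 𝔍)) →ₗ[B ⧸ 𝔍] 𝔍.Cotangent :=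
  Finsupp.linearCombination (B ⧸ 𝔍) (fun j : ↥𝔍 => 𝔍.toCotangent j)

omit [Algebra.FormallySmooth A (B ⧸ 𝔍)] in
lemma piC_single (i : ↥𝔍) (c : B ⧸ 𝔍) :
    piC (𝔍 := 𝔍) (Finsupp.single i c) = c • 𝔍.toCotangent i := by
  rw [piC, Finsupp.linearCombination_single]

lemma nu_piC_vP (p : MvPolynomial ↥𝔍 (B ⧸ 𝔍)) :
    𝔍.cotangentToQuotientSquare (piC (vP ↥𝔍 (B ⧸ 𝔍) p)) =
      Phi1 (A := A) 𝔍 p - sigma (A := A) 𝔍 (constantCoeff p) := by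
  induction p using MvPolynomial.induction_on with
  | C a => rw [vP_C, map_zero, map_zero, Phi1_C, constantCoeff_C, sub_self]
  | add p q hp hq =>
    rw [map_add, map_add, map_add, hp, hq, map_add, map_add, map_add]
    ring
  | mul_X p i hp =>
    obtain ⟨b, hb⟩ := Ideal.Quotient.mk_surjective (constantCoeff p)
    have h5 : constantCoeff (p * X i) = 0 := by rw [map_mul, constantCoeff_X, mul_zero]
    rw [vP_mul_X, map_smul, piC_single, one_smul, ← hb, SymQuot.mk_smul, map_smul,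
      Ideal.toCotangent_to_quotient_square, h5, map_zero, sub_zero,
      map_mul, Phi1_X, Algebra.smul_def]
    change Ideal.Quotient.mk (𝔍 ^ 2) b * Ideal.Quotient.mk (𝔍 ^ 2) (i : B) = _
    have h2 : Phi1 (A := A) 𝔍 p - Ideal.Quotient.mk (𝔍 ^ 2) b ∈
        𝔍.map (Ideal.Quotient.mk (𝔍 ^ 2)) := by
      apply mem_map_of_q2_eq_zero (A := A)
      rw [map_sub, q2_Phi1, q2_mk, hb, sub_self]
    have h3 : Ideal.Quotient.mk (𝔍 ^ 2) (i : B) ∈ 𝔍.map (Ideal.Quotient.mk (𝔍 ^ 2)) :=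
      Ideal.mem_map_of_mem _ i.2
    have h4 := mul_eq_zero_of_mem 𝔍 h2 h3
    rw [sub_mul, sub_eq_zero] at h4
    exact h4.symm

include h1 in
lemma piC_secC (m : 𝔍.Cotangent) : piC (secC χ₁ h1 m) = m := by
  obtain ⟨j, rfl⟩ := 𝔍.toCotangent_surjective m
  obtain ⟨p, hp⟩ := Ideal.Quotient.mk_surjective (χ₁ (j : B))
  apply Ideal.cotangentToQuotientSquare_injective
  rw [secC, LinearMap.comp_apply, ellC_apply, ellB_toCotangent, ← hp, lam_mk, vP_hc,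
    nu_piC_vP (A := A), ← f1_mk, hp, h1, ← cc_mk A ↥𝔍 (B ⧸ 𝔍) 1 p, hp, cc_chi1 χ₁ h1,
    Ideal.Quotient.eq_zero_iff_mem.2 j.2, map_zero, sub_zero,
    Ideal.toCotangent_to_quotient_square]
  rfl

lemma ell_secC (m : 𝔍.Cotangent) : AFSDeg1.ell ↥𝔍 (B ⧸ 𝔍) (secC χ₁ h1 m) = ellC χ₁ h1 m := by
  obtain ⟨j, rfl⟩ := 𝔍.toCotangent_surjective m
  obtain ⟨p, hp⟩ := Ideal.Quotient.mk_surjective (χ₁ (j : B))
  rw [secC, LinearMap.comp_apply, ell_vP, ellC_apply, ellB_toCotangent, ← hp, lam_mk,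
    homogeneousComponent_eq_self (homogeneousComponent_isHomogeneous 1 p)]

include h1 in
theorem projective_cotangent : Module.Projective (B ⧸ 𝔍) 𝔍.Cotangent :=
  Module.Projective.of_split (secC χ₁ h1) piC (LinearMap.ext (piC_secC χ₁ h1))

end Main


section Sym

open AFSDeg1

variable [Algebra.FormallySmooth A (B ⧸ 𝔍)]
  (χ₁ : B →ₐ[A] Tr ↥𝔍 (B ⧸ 𝔍) 1)
  (h1 : ∀ b, f1 (A := A) 𝔍 (χ₁ b) = Ideal.Quotient.mk (𝔍 ^ 2) b)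
  (ι : Type u) [Fintype ι]

omit [Algebra.FormallySmooth A (B ⧸ 𝔍)] in
lemma thetaA_eq_theta {R : Type u} [CommRing R] {M : Type u} [AddCommGroup M] [Module R M]
    {J : Type u} (ℓ : M →ₗ[R] MvPolynomial J R) :
    QRSym.thetaA ι ℓ = SymPoly.theta ι ℓ :=
  SymLift.hom_ext (fun v => by rw [QRSym.thetaA_tprod, SymPoly.theta_tprod])

theorem thetaA_ellC_injective : Function.Injective (QRSym.thetaA ι (ellC χ₁ h1)) := by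
  have h2 := SymPoly2.theta_injective_of_section (ι := ι)
    (Finsupp.basisSingleOne : Module.Basis ↥𝔍 (B ⧸ 𝔍) (↥𝔍 →₀ (B ⧸ 𝔍))) (secC χ₁ h1) piC
    (piC_secC χ₁ h1)
  have h3 : SymPoly.ell (Finsupp.basisSingleOne : Module.Basis ↥𝔍 (B ⧸ 𝔍) (↥𝔍 →₀ (B ⧸ 𝔍))) ∘ₗ
      secC χ₁ h1 = ellC χ₁ h1 := by
    rw [SymPoly2.ell_basisSingleOne]
    exact LinearMap.ext (ell_secC χ₁ h1)
  rw [h3, ← thetaA_eq_theta] at h2
  exact h2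

theorem thetaA_ellB_injective [Nonempty ι] :
    Function.Injective (QRSym.thetaA ι (ellB χ₁ h1)) :=
  SymQuot.thetaA_injective 𝔍 ι (ellC χ₁ h1) (thetaA_ellC_injective χ₁ h1 ι)

variable (hn : 1 ≤ Fintype.card ι) (χ : B →ₐ[A] Tr ↥𝔍 (B ⧸ 𝔍) (Fintype.card ι))
  (hχ : ∀ b, tr A ↥𝔍 (B ⧸ 𝔍) hn (χ b) = χ₁ b)

include h1 hχ in
lemma cc_chi (b : B) : cc A ↥𝔍 (B ⧸ 𝔍) (Fintype.card ι) (χ b) = Ideal.Quotient.mk 𝔍 b := by
  rw [← cc_tr A _ _ hn, hχ, cc_chi1 χ₁ h1]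

/-- The top-degree part of `χ` on `𝔍^n`. -/
noncomputable def LamN : ↥(𝔍 ^ Fintype.card ι) →ₗ[B] MvPolynomial ↥𝔍 (B ⧸ 𝔍) :=
  LamMap χ (cc_chi χ₁ h1 ι hn χ hχ) (𝔍 ^ Fintype.card ι) le_rfl

/-- The top-degree part of `χ` on `𝔍^n/𝔍^(n+1)`. -/
noncomputable def LamBar : PP16.grJ B 𝔍 (Fintype.card ι) →ₗ[B] MvPolynomial ↥𝔍 (B ⧸ 𝔍) :=
  Submodule.liftQ _ (LamN χ₁ h1 ι hn χ hχ) (by
    intro z hz
    rw [Submodule.mem_comap] at hz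
    replace hz : (z : B) ∈ 𝔍 ^ (Fintype.card ι + 1) := hz
    rw [LinearMap.mem_ker, LamN, LamMap_apply,
      chi_eq_zero χ (cc_chi χ₁ h1 ι hn χ hχ) hz, lam_zero])

theorem LamBar_phiJ (ξ : SymmetricPower B ι 𝔍.Cotangent) :
    LamBar χ₁ h1 ι hn χ hχ (QRSym.phiJ 𝔍 ι ξ) = QRSym.thetaA ι (ellB χ₁ h1) ξ := by
  have key : LamBar χ₁ h1 ι hn χ hχ ∘ₗ QRSym.phiJ 𝔍 ι = QRSym.thetaA ι (ellB χ₁ h1) := by
    apply SymLift.hom_ext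
    intro m
    have hm : m = fun i => 𝔍.toCotangent (QRSym.sec 𝔍 (m i)) := by
      funext i
      rw [QRSym.toCotangent_sec]
    rw [hm, LinearMap.comp_apply, QRSym.phiJ_tprod, QRSym.thetaA_tprod]
    simp only [ellB_toCotangent]
    change lam _ (χ (∏ i, ((QRSym.sec 𝔍 (m i) : ↥𝔍) : B))) = _
    rw [map_prod, lam_prod A _ _ hn _
      (fun i => chi_mem_mI χ (cc_chi χ₁ h1 ι hn χ hχ) (QRSym.sec 𝔍 (m i)).2)]
    simp only [hχ]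
  exact LinearMap.congr_fun key ξ

end Sym

theorem forward [Algebra.FormallySmooth A (B ⧸ 𝔍)] (h : CAlgX.IsAdicFormallySmooth A B 𝔍) :
    Module.Projective (B ⧸ 𝔍) 𝔍.Cotangent ∧ PP16.SymGrBijective B 𝔍 := by
  obtain ⟨χ₁, h1⟩ := exists_chi1 h
  refine ⟨projective_cotangent χ₁ h1, ?_⟩
  intro ι _ _
  refine ⟨QRSym.phiJ 𝔍 ι, QRSym.phiJ_tprod 𝔍 ι, ?_, QRSym.phiJ_surjective 𝔍 ι⟩
  have hn : 1 ≤ Fintype.card ι := Fintype.card_pos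
  obtain ⟨χ, hχ⟩ := exists_chi h χ₁ h1 (Fintype.card ι) hn
  intro ξ₁ ξ₂ hξ
  apply thetaA_ellB_injective χ₁ h1 ι
  rw [← LamBar_phiJ χ₁ h1 ι hn χ hχ, ← LamBar_phiJ χ₁ h1 ι hn χ hχ, hξ]

end Forward

end Groth.Agent.Lib.Helper26.AFS1
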