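import Mathlib
import Groth.Prelude.Def_PP16
import Groth.Prelude.Def_CAlgX
import Groth.Agent.Lib.Helper26.AFSPoly
import Groth.Agent.Lib.Helper26.AFSDeg1
import Groth.Agent.Lib.Helper26.SymQuot
import Groth.Agent.Lib.Helper26.QRSym
import Groth.Agent.Lib.Helper26.PPGen

set_option autoImplicit false
universe u
open MvPolynomial

namespace Groth.Agent.Lib.Helper26.AFS2

open Groth.Agent.Lib.Helper26 Groth.Agent.Lib.Helper26.AFSPoly

section Fn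

/-- A function from `ULift (Fin n)` hitting each index `a` exactly `d a` times. -/
lemma exists_fn {X : Type u} (d : X →₀ ℕ) (n : ℕ) (hd : d.degree = n) :
    ∃ g : ULift.{u} (Fin n) → X,
      ∀ (M : Type u) [CommMonoid M] (f : X → M), ∏ j, f (g j) = d.prod (fun a e => f a ^ e) := by
  have hcard : Fintype.card (ULift.{u} (Fin n)) = Fintype.card (Σ a : ↥d.support, Fin (d a)) := by
    rw [Fintype.card_sigma, Fintype.card_ulift, Fintype.card_fin, ← hd, Finsupp.degree_apply]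
    simp only [Fintype.card_fin]
    exact (Finset.sum_coe_sort d.support (fun a => d a)).symm
  let e : ULift.{u} (Fin n) ≃ Σ a : ↥d.support, Fin (d a) := Fintype.equivOfCardEq hcard
  refine ⟨fun j => ((e j).1 : X), fun M _ f => ?_⟩
  rw [Equiv.prod_comp e (fun x => f (x.1 : X)), Fintype.prod_sigma]
  have h1 : ∀ a : ↥d.support, ∏ _y : Fin (d a), f (a : X) = f a ^ d a := by
    intro a
    rw [Finset.prod_const, Finset.card_univ, Fintype.card_fin]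
  simp only [h1]
  rw [Finsupp.prod]
  exact Finset.prod_coe_sort d.support (fun a => f a ^ d a)

end Fn

variable {A B : Type u} [CommRing A] [CommRing B] [Algebra A B] (𝔍 : Ideal B) (n : ℕ)

section Setup

variable {n} (hn : n ≠ 0)

/-- The quotient map `B/𝔍^n → B/𝔍`. -/
noncomputable def qn : (B ⧸ 𝔍 ^ n) →ₐ[A] (B ⧸ 𝔍) :=
  Ideal.Quotient.factorₐ A (Ideal.pow_le_self hn)

lemma qn_mk (b : B) : qn (A := A) 𝔍 hn (Ideal.Quotient.mk (𝔍 ^ n) b) = Ideal.Quotient.mk 𝔍 b := rfl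

lemma qn_surjective : Function.Surjective (qn (A := A) 𝔍 hn) :=
  Ideal.Quotient.factor_surjective (Ideal.pow_le_self hn)

lemma ker_qn : RingHom.ker (qn (A := A) 𝔍 hn : (B ⧸ 𝔍 ^ n) →+* (B ⧸ 𝔍)) =
    𝔍.map (Ideal.Quotient.mk (𝔍 ^ n)) :=
  Ideal.Quotient.factor_ker (Ideal.pow_le_self hn)

omit hn in
lemma map_pow_eq_bot : (𝔍.map (Ideal.Quotient.mk (𝔍 ^ n))) ^ n = ⊥ := by
  rw [← Ideal.map_pow, Ideal.map_quotient_self]

lemma mem_map_of_qn_eq_zero {x : B ⧸ 𝔍 ^ n} (hx : qn (A := A) 𝔍 hn x = 0) :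
    x ∈ 𝔍.map (Ideal.Quotient.mk (𝔍 ^ n)) := by
  rw [← ker_qn (A := A) 𝔍 hn]
  exact hx

omit hn in
/-- Membership in the image of `𝔍^i`. -/
lemma mem_map_pow_iff {i : ℕ} (hi : i ≤ n) (z : B) :
    Ideal.Quotient.mk (𝔍 ^ n) z ∈ (𝔍.map (Ideal.Quotient.mk (𝔍 ^ n))) ^ i ↔ z ∈ 𝔍 ^ i := by
  rw [← Ideal.map_pow]
  constructor
  · intro h
    have h2 := Ideal.mem_comap.2 h
    rw [Ideal.comap_map_of_surjective _ Ideal.Quotient.mk_surjective, ← RingHom.ker_eq_comap_bot,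
      Ideal.mk_ker, sup_eq_left.2 (Ideal.pow_le_pow_right hi)] at h2
    exact h2
  · intro h
    exact Ideal.mem_map_of_mem _ h

omit hn in
lemma exists_rep_of_mem_map_pow {i : ℕ} {x : B ⧸ 𝔍 ^ n}
    (hx : x ∈ (𝔍.map (Ideal.Quotient.mk (𝔍 ^ n))) ^ i) :
    ∃ z ∈ 𝔍 ^ i, Ideal.Quotient.mk (𝔍 ^ n) z = x := by
  rw [← Ideal.map_pow, Ideal.mem_map_iff_of_surjective _ Ideal.Quotient.mk_surjective] at hx
  exact hx

variable [Algebra.FormallySmooth A (B ⧸ 𝔍)]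

/-- A section of `B/𝔍^n → B/𝔍`. -/
noncomputable def sigma : (B ⧸ 𝔍) →ₐ[A] (B ⧸ 𝔍 ^ n) :=
  Algebra.FormallySmooth.liftOfSurjective (AlgHom.id A _) (qn 𝔍 hn) (qn_surjective 𝔍 hn)
    ⟨n, by rw [ker_qn, map_pow_eq_bot]; rfl⟩

lemma qn_sigma (c : B ⧸ 𝔍) : qn (A := A) 𝔍 hn (sigma (A := A) 𝔍 hn c) = c :=
  Algebra.FormallySmooth.liftOfSurjective_apply _ _ _ _ c

lemma sigma_mk_sub_mem (b : B) :
    sigma (A := A) 𝔍 hn (Ideal.Quotient.mk 𝔍 b) - Ideal.Quotient.mk (𝔍 ^ n) b ∈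
      𝔍.map (Ideal.Quotient.mk (𝔍 ^ n)) := by
  apply mem_map_of_qn_eq_zero (A := A) 𝔍 hn
  rw [map_sub, qn_sigma, qn_mk, sub_self]

/-- Lifts of the elements of the cotangent module. -/
noncomputable def tau (m : 𝔍.Cotangent) : B ⧸ 𝔍 ^ n :=
  Ideal.Quotient.mk (𝔍 ^ n) ((QRSym.sec 𝔍 m : ↥𝔍) : B)

omit [Algebra.FormallySmooth A (B ⧸ 𝔍)] in
lemma tau_mem (m : 𝔍.Cotangent) : tau 𝔍 (n := n) m ∈ 𝔍.map (Ideal.Quotient.mk (𝔍 ^ n)) :=
  Ideal.mem_map_of_mem _ (QRSym.sec 𝔍 m).2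

/-- The map `C[X_m] → B/𝔍^n`. -/
noncomputable def Phi0 : MvPolynomial 𝔍.Cotangent (B ⧸ 𝔍) →ₐ[A] (B ⧸ 𝔍 ^ n) :=
  { MvPolynomial.eval₂Hom (sigma (A := A) 𝔍 hn : (B ⧸ 𝔍) →+* (B ⧸ 𝔍 ^ n)) (tau 𝔍) with
    commutes' := fun a => by
      simp only [RingHom.toMonoidHom_eq_coe, OneHom.toFun_eq_coe, MonoidHom.toOneHom_coe,
        MonoidHom.coe_coe, MvPolynomial.algebraMap_apply, coe_eval₂Hom, eval₂_C, RingHom.coe_coe,
        AlgHom.commutes] }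

lemma Phi0_C (c : B ⧸ 𝔍) : Phi0 (A := A) 𝔍 hn (C c) = sigma (A := A) 𝔍 hn c := by
  simp [Phi0]

lemma Phi0_X (m : 𝔍.Cotangent) : Phi0 (A := A) 𝔍 hn (X m) = tau 𝔍 m := by
  simp [Phi0]

lemma qn_Phi0 (p : MvPolynomial 𝔍.Cotangent (B ⧸ 𝔍)) :
    qn (A := A) 𝔍 hn (Phi0 (A := A) 𝔍 hn p) = constantCoeff p := by
  induction p using MvPolynomial.induction_on with
  | C a => rw [Phi0_C, qn_sigma, constantCoeff_C]
  | add p q hp hq => rw [map_add, map_add, map_add, hp, hq]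
  | mul_X p i hp =>
    have h0 : qn (A := A) 𝔍 hn (tau 𝔍 i) = 0 := by
      rw [tau, qn_mk, Ideal.Quotient.eq_zero_iff_mem]
      exact (QRSym.sec 𝔍 i).2
    rw [map_mul, map_mul, map_mul, hp, Phi0_X, constantCoeff_X, mul_zero, h0, mul_zero]

lemma Phi0_mem_of_mem {p : MvPolynomial 𝔍.Cotangent (B ⧸ 𝔍)}
    (hp : p ∈ idealOfVars 𝔍.Cotangent (B ⧸ 𝔍)) :
    Phi0 (A := A) 𝔍 hn p ∈ 𝔍.map (Ideal.Quotient.mk (𝔍 ^ n)) := by
  apply mem_map_of_qn_eq_zero (A := A) 𝔍 hn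
  rw [qn_Phi0, (mem_idealOfVars_iff p).1 hp]

lemma Phi0_mem_pow {p : MvPolynomial 𝔍.Cotangent (B ⧸ 𝔍)} (j : ℕ)
    (hp : p ∈ idealOfVars 𝔍.Cotangent (B ⧸ 𝔍) ^ j) :
    Phi0 (A := A) 𝔍 hn p ∈ (𝔍.map (Ideal.Quotient.mk (𝔍 ^ n))) ^ j := by
  have h1 : idealOfVars 𝔍.Cotangent (B ⧸ 𝔍) ≤
      (𝔍.map (Ideal.Quotient.mk (𝔍 ^ n))).comap (Phi0 (A := A) 𝔍 hn) := fun p hp =>
    Phi0_mem_of_mem 𝔍 hn hp
  exact ((Ideal.pow_right_mono h1 j).trans (Ideal.le_comap_pow _ _)) hp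

end Setup


section Rho

variable {Q M : Type u} [CommRing Q] [AddCommGroup M] [Module Q M]
  (s : M →ₗ[Q] (M →₀ Q)) (hs : ∀ m, Finsupp.linearCombination Q id (s m) = m)

/-- The idempotent endomorphism of the polynomial ring induced by `s ∘ π`. -/
noncomputable def rho : MvPolynomial M Q →ₐ[Q] MvPolynomial M Q :=
  MvPolynomial.aeval (fun m => AFSDeg1.ell M Q (s m))

lemma rho_C (c : Q) : rho s (C c) = C c := by
  rw [rho, aeval_C]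
  rfl

lemma rho_X (m : M) : rho s (X m) = AFSDeg1.ell M Q (s m) := aeval_X _ _

lemma constantCoeff_rho (p : MvPolynomial M Q) : constantCoeff (rho s p) = constantCoeff p := by
  induction p using MvPolynomial.induction_on with
  | C a => rw [rho_C]
  | add p q hp hq => rw [map_add, map_add, hp, hq, map_add]
  | mul_X p i hp =>
    rw [map_mul, map_mul, rho_X, AFSDeg1.constantCoeff_ell, mul_zero, map_mul, constantCoeff_X,
      mul_zero]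

lemma rho_mem_pow (j : ℕ) {p : MvPolynomial M Q} (hp : p ∈ idealOfVars M Q ^ j) :
    rho s p ∈ idealOfVars M Q ^ j := by
  have h1 : idealOfVars M Q ≤ (idealOfVars M Q).comap (rho s) := by
    intro p hp
    rw [Ideal.mem_comap, mem_idealOfVars_iff, constantCoeff_rho, ← mem_idealOfVars_iff]
    exact hp
  exact ((Ideal.pow_right_mono h1 j).trans (Ideal.le_comap_pow _ _)) hp

lemma rho_ell (v : M →₀ Q) :
    rho s (AFSDeg1.ell M Q v) = AFSDeg1.ell M Q (s (Finsupp.linearCombination Q id v)) := by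
  induction v using Finsupp.induction_linear with
  | zero => simp
  | add f g hf hg => rw [map_add, map_add, hf, hg, map_add, map_add, map_add]
  | single i c =>
    rw [AFSDeg1.ell_single, map_mul, rho_C, rho_X, Finsupp.linearCombination_single, id, map_smul,
      map_smul, MvPolynomial.smul_eq_C_mul]

include hs in
lemma rho_rho (p : MvPolynomial M Q) : rho s (rho s p) = rho s p := by
  induction p using MvPolynomial.induction_on with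
  | C a => rw [rho_C, rho_C]
  | add p q hp hq => rw [map_add, map_add, hp, hq]
  | mul_X p i hp => rw [map_mul, map_mul, hp, rho_X, rho_ell, hs]

lemma rho_monomial (d : M →₀ ℕ) (c : Q) :
    rho s (monomial d c) = C c * d.prod (fun m e => AFSDeg1.ell M Q (s m) ^ e) := by
  rw [rho, aeval_monomial]
  rfl

end Rho


section Key

variable {n} (hn : n ≠ 0) [Algebra.FormallySmooth A (B ⧸ 𝔍)]
  (s : 𝔍.Cotangent →ₗ[B ⧸ 𝔍] (𝔍.Cotangent →₀ (B ⧸ 𝔍)))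
  (hs : ∀ m, Finsupp.linearCombination (B ⧸ 𝔍) id (s m) = m)
  (hinj : ∀ (ι : Type u) [Fintype ι] [Nonempty ι], Function.Injective (QRSym.phiJ 𝔍 ι))

omit [Algebra.FormallySmooth A (B ⧸ 𝔍)] in
/-- The linear forms attached to `s`, as a `B`-linear map. -/
noncomputable def ellB : 𝔍.Cotangent →ₗ[B] MvPolynomial 𝔍.Cotangent (B ⧸ 𝔍) :=
  ((AFSDeg1.ell 𝔍.Cotangent (B ⧸ 𝔍)) ∘ₗ s).restrictScalars B

omit [Algebra.FormallySmooth A (B ⧸ 𝔍)] in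
lemma ellB_apply (m : 𝔍.Cotangent) : ellB 𝔍 s m = AFSDeg1.ell 𝔍.Cotangent (B ⧸ 𝔍) (s m) := rfl

lemma Phi0_monomial (d : 𝔍.Cotangent →₀ ℕ) (c : B ⧸ 𝔍) :
    Phi0 (A := A) 𝔍 hn (monomial d c) =
      sigma (A := A) 𝔍 hn c * d.prod (fun m e => tau 𝔍 (n := n) m ^ e) := by
  change eval₂ _ _ _ = _
  rw [eval₂_monomial]
  rfl

omit [Algebra.FormallySmooth A (B ⧸ 𝔍)] in
lemma smul_poly (b : B) (p : MvPolynomial 𝔍.Cotangent (B ⧸ 𝔍)) :
    b • p = C (Ideal.Quotient.mk 𝔍 b) * p := by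
  rw [Algebra.smul_def, MvPolynomial.algebraMap_apply]
  rfl

include hinj in
theorem key_K {j : ℕ} (hj1 : 1 ≤ j) (hjn : j + 1 ≤ n)
    (q : MvPolynomial 𝔍.Cotangent (B ⧸ 𝔍)) (hq : q.IsHomogeneous j)
    (hΦ : Phi0 (A := A) 𝔍 hn q ∈ (𝔍.map (Ideal.Quotient.mk (𝔍 ^ n))) ^ (j + 1)) :
    rho s q = 0 := by
  classical
  have hdeg : ∀ d ∈ q.support, d.degree = j := by
    intro d hd
    have := hq (mem_support_iff.1 hd)
    rw [← this, Finsupp.degree_eq_weight_one]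
    rfl
  have hne : Nonempty (ULift.{u} (Fin j) → 𝔍.Cotangent) := ⟨fun _ => 0⟩
  choose! gd hgd using fun d (hd : d ∈ q.support) => exists_fn.{u} d j (hdeg d hd)
  have hcard : Fintype.card (ULift.{u} (Fin j)) = j := by simp
  have : Nonempty (ULift.{u} (Fin j)) := ⟨⟨⟨0, hj1⟩⟩⟩
  let ct : (𝔍.Cotangent →₀ ℕ) → B := fun d =>
    Function.surjInv Ideal.Quotient.mk_surjective (coeff d q)
  have hct : ∀ d, Ideal.Quotient.mk 𝔍 (ct d) = coeff d q := fun d => Function.surjInv_eq _ _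
  obtain ⟨β, hβ⟩ : ∃ β : B, β = ∑ d ∈ q.support,
      ct d * ∏ i, ((QRSym.sec 𝔍 (gd d i) : ↥𝔍) : B) := ⟨_, rfl⟩
  -- Step A
  have hA : Ideal.Quotient.mk (𝔍 ^ n) β - Phi0 (A := A) 𝔍 hn q ∈
      (𝔍.map (Ideal.Quotient.mk (𝔍 ^ n))) ^ (j + 1) := by
    have e1 : Phi0 (A := A) 𝔍 hn q = ∑ d ∈ q.support,
        sigma (A := A) 𝔍 hn (coeff d q) * d.prod (fun m e => tau 𝔍 (n := n) m ^ e) := by
      conv_lhs => rw [MvPolynomial.as_sum q, map_sum]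
      exact Finset.sum_congr rfl (fun d _ => Phi0_monomial 𝔍 hn d _)
    have e2 : Ideal.Quotient.mk (𝔍 ^ n) β = ∑ d ∈ q.support,
        Ideal.Quotient.mk (𝔍 ^ n) (ct d) * d.prod (fun m e => tau 𝔍 (n := n) m ^ e) := by
      rw [hβ, map_sum]
      apply Finset.sum_congr rfl
      intro d hd
      rw [map_mul, map_prod, ← hgd d hd (B ⧸ 𝔍 ^ n) (tau 𝔍)]
      rfl
    rw [e1, e2, ← Finset.sum_sub_distrib]
    apply Ideal.sum_mem
    intro d hd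
    rw [← sub_mul, pow_succ']
    apply Ideal.mul_mem_mul
    · have := sigma_mk_sub_mem (A := A) 𝔍 hn (ct d)
      rw [hct] at this
      have h2 := Ideal.neg_mem_iff _ |>.2 this
      rwa [neg_sub] at h2
    · rw [← hgd d hd (B ⧸ 𝔍 ^ n) (tau 𝔍)]
      have := PP16.prod_mem_pow (𝔍.map (Ideal.Quotient.mk (𝔍 ^ n))) Finset.univ
        (fun i : ULift.{u} (Fin j) => tau 𝔍 (n := n) (gd d i)) (fun i _ => tau_mem 𝔍 _)
      rwa [Finset.card_univ, hcard] at this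
  -- Step B
  have hB : β ∈ 𝔍 ^ (j + 1) := by
    rw [← mem_map_pow_iff 𝔍 hjn]
    have := Ideal.add_mem _ hA hΦ
    rwa [sub_add_cancel] at this
  -- Step C
  obtain ⟨ξ, hξ⟩ : ∃ ξ : SymmetricPower B (ULift.{u} (Fin j)) 𝔍.Cotangent,
      ξ = ∑ d ∈ q.support, ct d •
        SymmetricPower.tprod B (fun i => 𝔍.toCotangent (QRSym.sec 𝔍 (gd d i))) := ⟨_, rfl⟩
  have hC : QRSym.kappa 𝔍 _ (QRSym.phiJ 𝔍 _ ξ) = 0 := by
    rw [hξ, map_sum, map_sum]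
    simp only [map_smul, QRSym.phiJ_tprod, QRSym.kappa_zetaJ]
    have e1 : ∀ d ∈ q.support, ct d •
        (Ideal.Quotient.mk (𝔍 ^ (Fintype.card (ULift.{u} (Fin j)) + 1)))
          (∏ i, ((QRSym.sec 𝔍 (gd d i) : ↥𝔍) : B)) =
        (Ideal.Quotient.mk (𝔍 ^ (Fintype.card (ULift.{u} (Fin j)) + 1)))
          (ct d * ∏ i, ((QRSym.sec 𝔍 (gd d i) : ↥𝔍) : B)) := by
      intro d _
      rw [map_mul]
      rfl
    rw [Finset.sum_congr rfl e1, ← map_sum, ← hβ, Ideal.Quotient.eq_zero_iff_mem, hcard]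
    exact hB
  have hξ0 : ξ = 0 := by
    apply hinj (ULift.{u} (Fin j))
    rw [map_zero]
    apply QRSym.kappa_injective 𝔍
    rw [hC, map_zero]
  -- Step D
  have hD : QRSym.thetaA _ (ellB 𝔍 s) ξ = rho s q := by
    rw [hξ, map_sum]
    conv_rhs => rw [MvPolynomial.as_sum q, map_sum]
    apply Finset.sum_congr rfl
    intro d hd
    rw [map_smul, QRSym.thetaA_tprod]
    simp only [QRSym.toCotangent_sec, ellB_apply]
    rw [hgd d hd _ (fun m => AFSDeg1.ell 𝔍.Cotangent (B ⧸ 𝔍) (s m)), rho_monomial, smul_poly, hct]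
  rw [← hD, hξ0, map_zero]


include hinj in
theorem key_K' {j : ℕ} (hjn : j + 1 ≤ n) (p : MvPolynomial 𝔍.Cotangent (B ⧸ 𝔍))
    (hp : p ∈ idealOfVars 𝔍.Cotangent (B ⧸ 𝔍) ^ j)
    (hΦ : Phi0 (A := A) 𝔍 hn p ∈ (𝔍.map (Ideal.Quotient.mk (𝔍 ^ n))) ^ (j + 1)) :
    rho s p ∈ idealOfVars 𝔍.Cotangent (B ⧸ 𝔍) ^ (j + 1) := by
  rcases Nat.eq_zero_or_pos j with rfl | hj1
  · rw [zero_add, pow_one] at hΦ ⊢
    have h1 : constantCoeff p = 0 := by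
      rw [← qn_Phi0 (A := A) 𝔍 hn]
      rw [← ker_qn (A := A) 𝔍 hn] at hΦ
      exact hΦ
    rw [mem_idealOfVars_iff, constantCoeff_rho, h1]
  · have h1 := sub_hc_mem hp
    have h2 : Phi0 (A := A) 𝔍 hn (homogeneousComponent j p) ∈
        (𝔍.map (Ideal.Quotient.mk (𝔍 ^ n))) ^ (j + 1) := by
      have := Phi0_mem_pow (A := A) 𝔍 hn (j + 1) h1
      rw [map_sub] at this
      have h3 := Ideal.sub_mem _ hΦ this
      rwa [sub_sub_cancel] at h3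
    have h3 := key_K 𝔍 hn s hinj hj1 hjn _ (homogeneousComponent_isHomogeneous j p) h2
    have h4 := rho_mem_pow s (j + 1) h1
    rwa [map_sub, h3, sub_zero] at h4

include hs hinj in
theorem key_K'' (p : MvPolynomial 𝔍.Cotangent (B ⧸ 𝔍))
    (hΦ : Phi0 (A := A) 𝔍 hn (rho s p) = 0) :
    rho s p ∈ idealOfVars 𝔍.Cotangent (B ⧸ 𝔍) ^ n := by
  have : ∀ j ≤ n, rho s p ∈ idealOfVars 𝔍.Cotangent (B ⧸ 𝔍) ^ j := by
    intro j
    induction j with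
    | zero => intro _; simp
    | succ j ih =>
      intro hj
      have h1 := key_K' 𝔍 hn s hinj hj (rho s p) (ih (by omega))
        (by rw [hΦ]; exact zero_mem _)
      rwa [rho_rho s hs] at h1
  exact this n le_rfl

end Key


section Surj

variable {n} (hn : n ≠ 0) [Algebra.FormallySmooth A (B ⧸ 𝔍)]
  (s : 𝔍.Cotangent →ₗ[B ⧸ 𝔍] (𝔍.Cotangent →₀ (B ⧸ 𝔍)))
  (hs : ∀ m, Finsupp.linearCombination (B ⧸ 𝔍) id (s m) = m)

omit [Algebra.FormallySmooth A (B ⧸ 𝔍)] in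
lemma phiJ_tprod' (ι : Type u) [Fintype ι] (m : ι → 𝔍.Cotangent) :
    QRSym.phiJ 𝔍 ι (SymmetricPower.tprod B m) = PP16.zetaJ B 𝔍 (fun i => QRSym.sec 𝔍 (m i)) := by
  have hm : m = fun i => 𝔍.toCotangent (QRSym.sec 𝔍 (m i)) := by
    funext i
    rw [QRSym.toCotangent_sec]
  conv_lhs => rw [hm]
  rw [QRSym.phiJ_tprod]

lemma exists_approx_ell (v : 𝔍.Cotangent →₀ (B ⧸ 𝔍)) :
    ∃ x : ↥𝔍, 𝔍.toCotangent x = Finsupp.linearCombination (B ⧸ 𝔍) id v ∧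
      Phi0 (A := A) 𝔍 hn (AFSDeg1.ell 𝔍.Cotangent (B ⧸ 𝔍) v) - Ideal.Quotient.mk (𝔍 ^ n) (x : B) ∈
        (𝔍.map (Ideal.Quotient.mk (𝔍 ^ n))) ^ 2 := by
  induction v using Finsupp.induction_linear with
  | zero => exact ⟨0, by simp, by simp⟩
  | add f g hf hg =>
    obtain ⟨x, hx1, hx2⟩ := hf
    obtain ⟨y, hy1, hy2⟩ := hg
    refine ⟨x + y, by rw [map_add, map_add, hx1, hy1], ?_⟩
    have := Ideal.add_mem _ hx2 hy2
    convert this using 1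
    rw [map_add, map_add, Submodule.coe_add, map_add]
    ring
  | single m c =>
    obtain ⟨b, rfl⟩ := Ideal.Quotient.mk_surjective c
    refine ⟨b • QRSym.sec 𝔍 m, ?_, ?_⟩
    · rw [map_smul, QRSym.toCotangent_sec, Finsupp.linearCombination_single, id,
        SymQuot.mk_smul]
    · rw [AFSDeg1.ell_single, map_mul, Phi0_C, Phi0_X, Submodule.coe_smul, smul_eq_mul, map_mul]
      change sigma (A := A) 𝔍 hn _ * tau 𝔍 m - Ideal.Quotient.mk (𝔍 ^ n) b * tau 𝔍 m ∈ _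
      rw [← sub_mul, sq]
      exact Ideal.mul_mem_mul (sigma_mk_sub_mem 𝔍 hn b) (tau_mem 𝔍 m)

include hs in
lemma Phi0_rho_X_sub (m : 𝔍.Cotangent) :
    Phi0 (A := A) 𝔍 hn (rho s (X m)) - tau 𝔍 m ∈ (𝔍.map (Ideal.Quotient.mk (𝔍 ^ n))) ^ 2 := by
  obtain ⟨x, hx1, hx2⟩ := exists_approx_ell (A := A) 𝔍 hn (s m)
  rw [hs, ← QRSym.toCotangent_sec 𝔍 m, Ideal.toCotangent_eq] at hx1
  have h1 : Ideal.Quotient.mk (𝔍 ^ n) (x : B) - tau 𝔍 m ∈
      (𝔍.map (Ideal.Quotient.mk (𝔍 ^ n))) ^ 2 := by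
    rw [tau, ← map_sub, ← Ideal.map_pow]
    exact Ideal.mem_map_of_mem _ hx1
  have := Ideal.add_mem _ hx2 h1
  rw [sub_add_sub_cancel] at this
  rw [rho_X]
  exact this

lemma Phi0_rho_X_mem (m : 𝔍.Cotangent) :
    Phi0 (A := A) 𝔍 hn (rho s (X m)) ∈ 𝔍.map (Ideal.Quotient.mk (𝔍 ^ n)) := by
  apply Phi0_mem_of_mem
  rw [mem_idealOfVars_iff, constantCoeff_rho, constantCoeff_X]

include hs in
theorem exists_approx (i : ℕ) (z : B) (hz : z ∈ 𝔍 ^ i) :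
    ∃ p ∈ idealOfVars 𝔍.Cotangent (B ⧸ 𝔍) ^ i,
      Ideal.Quotient.mk (𝔍 ^ n) z - Phi0 (A := A) 𝔍 hn (rho s p) ∈
        (𝔍.map (Ideal.Quotient.mk (𝔍 ^ n))) ^ (i + 1) := by
  classical
  rcases Nat.eq_zero_or_pos i with rfl | hi1
  · refine ⟨C (Ideal.Quotient.mk 𝔍 z), by simp, ?_⟩
    rw [rho_C, Phi0_C, zero_add, pow_one]
    have := sigma_mk_sub_mem (A := A) 𝔍 hn z
    have h2 := Ideal.neg_mem_iff _ |>.2 this
    rwa [neg_sub] at h2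
  · have hcard : Fintype.card (ULift.{u} (Fin i)) = i := by simp
    have hz' : z ∈ 𝔍 ^ Fintype.card (ULift.{u} (Fin i)) := by rwa [hcard]
    obtain ⟨ξ, hξ⟩ := QRSym.phiJ_surjective 𝔍 (ULift.{u} (Fin i))
      (Submodule.Quotient.mk ⟨z, hz'⟩)
    obtain ⟨T, a, rfl⟩ := SymLift.exists_rep ξ
    have h1 := congrArg (QRSym.kappa 𝔍 _) hξ
    rw [QRSym.kappa_mk, map_sum, map_sum] at h1
    simp only [map_smul, phiJ_tprod', QRSym.kappa_zetaJ] at h1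
    have e1 : ∀ m ∈ T, a m •
        (Ideal.Quotient.mk (𝔍 ^ (Fintype.card (ULift.{u} (Fin i)) + 1)))
          (∏ l, ((QRSym.sec 𝔍 (m l) : ↥𝔍) : B)) =
        (Ideal.Quotient.mk (𝔍 ^ (Fintype.card (ULift.{u} (Fin i)) + 1)))
          (a m * ∏ l, ((QRSym.sec 𝔍 (m l) : ↥𝔍) : B)) := by
      intro m _
      rw [map_mul]
      rfl
    rw [Finset.sum_congr rfl e1, ← map_sum, Ideal.Quotient.eq, hcard] at h1
    -- h1 : Σ a m ∏ sec - z ∈ 𝔍^(i+1)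
    refine ⟨∑ m ∈ T, C (Ideal.Quotient.mk 𝔍 (a m)) * ∏ l, X (m l), ?_, ?_⟩
    · apply Ideal.sum_mem
      intro m _
      apply Ideal.mul_mem_left
      have := PP16.prod_mem_pow (idealOfVars 𝔍.Cotangent (B ⧸ 𝔍)) Finset.univ
        (fun l : ULift.{u} (Fin i) => (X (m l) : MvPolynomial 𝔍.Cotangent (B ⧸ 𝔍)))
        (fun l _ => Ideal.subset_span ⟨m l, rfl⟩)
      rwa [Finset.card_univ, hcard] at this
    · have h2 : Ideal.Quotient.mk (𝔍 ^ n) z -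
          Ideal.Quotient.mk (𝔍 ^ n) (∑ m ∈ T, a m * ∏ l, ((QRSym.sec 𝔍 (m l) : ↥𝔍) : B)) ∈
          (𝔍.map (Ideal.Quotient.mk (𝔍 ^ n))) ^ (i + 1) := by
        rw [← map_sub, ← Ideal.map_pow]
        apply Ideal.mem_map_of_mem
        have := Ideal.neg_mem_iff _ |>.2 h1
        rwa [neg_sub] at this
      have h3 : Ideal.Quotient.mk (𝔍 ^ n) (∑ m ∈ T, a m * ∏ l, ((QRSym.sec 𝔍 (m l) : ↥𝔍) : B)) -
          Phi0 (A := A) 𝔍 hn (rho s (∑ m ∈ T, C (Ideal.Quotient.mk 𝔍 (a m)) * ∏ l, X (m l))) ∈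
          (𝔍.map (Ideal.Quotient.mk (𝔍 ^ n))) ^ (i + 1) := by
        rw [map_sum, map_sum, map_sum, ← Finset.sum_sub_distrib]
        apply Ideal.sum_mem
        intro m _
        rw [map_mul, map_mul, map_mul, rho_C, Phi0_C, map_prod, map_prod, map_prod]
        have e2 : Ideal.Quotient.mk (𝔍 ^ n) (a m) *
            ∏ l, Ideal.Quotient.mk (𝔍 ^ n) ((QRSym.sec 𝔍 (m l) : ↥𝔍) : B) -
            sigma (A := A) 𝔍 hn (Ideal.Quotient.mk 𝔍 (a m)) *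
              ∏ l, Phi0 (A := A) 𝔍 hn (rho s (X (m l))) =
            (Ideal.Quotient.mk (𝔍 ^ n) (a m) - sigma (A := A) 𝔍 hn (Ideal.Quotient.mk 𝔍 (a m))) *
              ∏ l, tau 𝔍 (n := n) (m l) +
            sigma (A := A) 𝔍 hn (Ideal.Quotient.mk 𝔍 (a m)) *
              (∏ l, tau 𝔍 (n := n) (m l) - ∏ l, Phi0 (A := A) 𝔍 hn (rho s (X (m l)))) := by
          simp only [tau]
          ring
        rw [e2]
        apply Ideal.add_mem
        · rw [pow_succ']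
          apply Ideal.mul_mem_mul
          · have := sigma_mk_sub_mem (A := A) 𝔍 hn (a m)
            have h2 := Ideal.neg_mem_iff _ |>.2 this
            rwa [neg_sub] at h2
          · have := PP16.prod_mem_pow (𝔍.map (Ideal.Quotient.mk (𝔍 ^ n))) Finset.univ
              (fun l : ULift.{u} (Fin i) => tau 𝔍 (n := n) (m l)) (fun l _ => tau_mem 𝔍 _)
            rwa [Finset.card_univ, hcard] at this
        · apply Ideal.mul_mem_left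
          have := PPGen.prod_sub_prod_mem (𝔍.map (Ideal.Quotient.mk (𝔍 ^ n))) Finset.univ
            (fun l : ULift.{u} (Fin i) => tau 𝔍 (n := n) (m l))
            (fun l => Phi0 (A := A) 𝔍 hn (rho s (X (m l))))
            (fun l _ => tau_mem 𝔍 _) (fun l _ => Phi0_rho_X_mem 𝔍 hn s _)
            (fun l _ => by
              have := Phi0_rho_X_sub (A := A) 𝔍 hn s hs (m l)
              have h2 := Ideal.neg_mem_iff _ |>.2 this
              rwa [neg_sub] at h2)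
          rwa [Finset.card_univ, hcard] at this
      have := Ideal.add_mem _ h2 h3
      rwa [sub_add_sub_cancel] at this


include hs in
theorem Phi_surjective (b' : B ⧸ 𝔍 ^ n) :
    ∃ p : MvPolynomial 𝔍.Cotangent (B ⧸ 𝔍), Phi0 (A := A) 𝔍 hn (rho s p) = b' := by
  have : ∀ i ≤ n, ∃ p : MvPolynomial 𝔍.Cotangent (B ⧸ 𝔍),
      b' - Phi0 (A := A) 𝔍 hn (rho s p) ∈ (𝔍.map (Ideal.Quotient.mk (𝔍 ^ n))) ^ i := by
    intro i
    induction i with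
    | zero => intro _; exact ⟨0, by simp⟩
    | succ i ih =>
      intro hi
      obtain ⟨p, hp⟩ := ih (by omega)
      obtain ⟨z, hz, hzb⟩ := exists_rep_of_mem_map_pow 𝔍 hp
      obtain ⟨p', hp', hp'2⟩ := exists_approx (A := A) 𝔍 hn s hs i z hz
      refine ⟨p + p', ?_⟩
      rw [map_add, map_add, ← sub_sub, ← hzb]
      exact hp'2
  obtain ⟨p, hp⟩ := this n le_rfl
  rw [map_pow_eq_bot, Ideal.mem_bot, sub_eq_zero] at hp
  exact ⟨p, hp.symm⟩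

end Surj


theorem backward [Algebra.FormallySmooth A (B ⧸ 𝔍)]
    (hproj : Module.Projective (B ⧸ 𝔍) 𝔍.Cotangent) (hsym : PP16.SymGrBijective B 𝔍) :
    CAlgX.IsAdicFormallySmooth A B 𝔍 := by
  obtain ⟨s, hs'⟩ := Module.projective_def'.1 hproj
  have hs : ∀ m, Finsupp.linearCombination (B ⧸ 𝔍) id (s m) = m := fun m =>
    LinearMap.congr_fun hs' m
  have hinj : ∀ (ι : Type u) [Fintype ι] [Nonempty ι], Function.Injective (QRSym.phiJ 𝔍 ι) := by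
    intro ι _ _
    obtain ⟨φ, hφ, hbij⟩ := hsym ι
    rw [← QRSym.eq_phiJ 𝔍 ι φ hφ]
    exact hbij.1
  intro E _ _ N hN ψ ⟨k₀, hk₀⟩
  obtain ⟨k, hk1, hk⟩ : ∃ k : ℕ, 1 ≤ k ∧ ∀ x ∈ 𝔍 ^ k, ψ x = 0 :=
    ⟨k₀ + 1, by omega, fun x hx => hk₀ x (Ideal.pow_le_pow_right (Nat.le_succ _) hx)⟩
  have hn : k + k ≠ 0 := by omega
  let ψ' : (B ⧸ 𝔍 ^ (k + k)) →ₐ[A] E ⧸ N := Ideal.Quotient.liftₐ (𝔍 ^ (k + k)) ψ
    (fun x hx => hk x (Ideal.pow_le_pow_right (by omega) hx))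
  have hψ' : ∀ b, ψ' (Ideal.Quotient.mk (𝔍 ^ (k + k)) b) = ψ b := fun b => rfl
  have hfs : Algebra.FormallySmooth A (MvPolynomial 𝔍.Cotangent (B ⧸ 𝔍)) :=
    Algebra.FormallySmooth.comp A (B ⧸ 𝔍) _
  let Ψ₀ : MvPolynomial 𝔍.Cotangent (B ⧸ 𝔍) →ₐ[A] E :=
    Algebra.FormallySmooth.lift N ⟨2, hN⟩ (ψ'.comp (Phi0 𝔍 hn))
  have hΨ₀ : ∀ p, Ideal.Quotient.mk N (Ψ₀ p) = ψ' (Phi0 (A := A) 𝔍 hn p) := fun p =>
    Algebra.FormallySmooth.mk_lift N ⟨2, hN⟩ _ p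
  have h1 : idealOfVars 𝔍.Cotangent (B ⧸ 𝔍) ^ k ≤ N.comap Ψ₀ := by
    intro p hp
    rw [Ideal.mem_comap, ← Ideal.Quotient.eq_zero_iff_mem, hΨ₀]
    obtain ⟨z, hz, hzp⟩ := exists_rep_of_mem_map_pow 𝔍 (Phi0_mem_pow (A := A) 𝔍 hn k hp)
    rw [← hzp, hψ', hk z hz]
  have h2 : ∀ p ∈ idealOfVars 𝔍.Cotangent (B ⧸ 𝔍) ^ (k + k), Ψ₀ p = 0 := by
    intro p hp
    rw [pow_add] at hp
    have := (Ideal.mul_mono h1 h1).trans (Ideal.le_comap_mul _) hp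
    rw [← sq, hN] at this
    exact this
  let ρA : MvPolynomial 𝔍.Cotangent (B ⧸ 𝔍) →ₐ[A] MvPolynomial 𝔍.Cotangent (B ⧸ 𝔍) :=
    (rho s).restrictScalars A
  have hρA : ∀ p, ρA p = rho s p := fun p => rfl
  let Φ : MvPolynomial 𝔍.Cotangent (B ⧸ 𝔍) →ₐ[A] (B ⧸ 𝔍 ^ (k + k)) := (Phi0 𝔍 hn).comp ρA
  let Ψ : MvPolynomial 𝔍.Cotangent (B ⧸ 𝔍) →ₐ[A] E := Ψ₀.comp ρA
  have hΦsurj : Function.Surjective Φ := fun b' => Phi_surjective 𝔍 hn s hs b'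
  have hker : ∀ p ∈ RingHom.ker Φ, Ψ p = 0 := by
    intro p hp
    exact h2 _ (key_K'' 𝔍 hn s hs hinj p hp)
  let e := Ideal.quotientKerAlgEquivOfSurjective hΦsurj
  let χ' : (B ⧸ 𝔍 ^ (k + k)) →ₐ[A] E :=
    (Ideal.Quotient.liftₐ (RingHom.ker Φ) Ψ hker).comp e.symm.toAlgHom
  refine ⟨χ'.comp (Ideal.Quotient.mkₐ A (𝔍 ^ (k + k))), ?_⟩
  ext b
  obtain ⟨p, hp⟩ := hΦsurj (Ideal.Quotient.mk (𝔍 ^ (k + k)) b)
  have h3 : e.symm (Ideal.Quotient.mk (𝔍 ^ (k + k)) b) = Ideal.Quotient.mk (RingHom.ker Φ) p := by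
    rw [AlgEquiv.symm_apply_eq, ← hp]
    rfl
  have h4 : χ' (Ideal.Quotient.mk (𝔍 ^ (k + k)) b) = Ψ₀ (rho s p) := by
    change (Ideal.Quotient.liftₐ (RingHom.ker Φ) Ψ hker) (e.symm _) = _
    rw [h3]
    rfl
  change Ideal.Quotient.mk N (χ' (Ideal.Quotient.mk (𝔍 ^ (k + k)) b)) = ψ b
  rw [h4, hΨ₀, ← hψ', ← hp]
  rfl

end Groth.Agent.Lib.Helper26.AFS2
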