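import Mathlib
import Groth.Prelude.Def_PP16
import Groth.Prelude.Def_CAlgX
import Groth.Agent.Lib.Helper26.AFS1

set_option autoImplicit false
universe u
open TensorProduct

namespace Groth.Agent.Lib.Helper26.AFS3

open Groth.Agent.Lib.Helper26

section Tsze

/-- The module structure over the opposite ring. -/
@[reducible] def opModule (Q M : Type u) [CommRing Q] [AddCommGroup M] [Module Q M] :
    Module Qᵐᵒᵖ M := Module.compHom _ ((RingHom.id Q).fromOpposite mul_comm)

attribute [local instance] opModule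

lemma isCentral (Q M : Type u) [CommRing Q] [AddCommGroup M] [Module Q M] :
    IsCentralScalar Q M := ⟨fun _ _ => rfl⟩

attribute [local instance] isCentral

variable {S Q : Type u} [CommRing S] [CommRing Q] (φ : S →+* Q) {M : Type u} [AddCommGroup M]
  [Module Q M]

/-- The ring map `s ↦ (φ s, D s)` attached to a `φ`-derivation. -/
noncomputable def toTsze (D : S →+ M) (hD : ∀ s t, D (s * t) = φ s • D t + φ t • D s) :
    S →+* TrivSqZeroExt Q M where
  toFun s := TrivSqZeroExt.inl (φ s) + TrivSqZeroExt.inr (D s)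
  map_one' := by
    have h1 : D 1 = 0 := by
      have := hD 1 1
      rw [mul_one, φ.map_one, one_smul] at this
      exact left_eq_add.1 this
    rw [h1, map_one, TrivSqZeroExt.inr_zero, add_zero, TrivSqZeroExt.inl_one]
  map_mul' s t := by
    apply TrivSqZeroExt.ext
    · simp
    · simp only [TrivSqZeroExt.snd_add, TrivSqZeroExt.snd_inl, TrivSqZeroExt.snd_inr, zero_add,
        TrivSqZeroExt.snd_mul, TrivSqZeroExt.fst_add, TrivSqZeroExt.fst_inl,
        TrivSqZeroExt.fst_inr, add_zero, hD]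
      rfl
  map_zero' := by simp
  map_add' s t := by
    simp only [map_add, TrivSqZeroExt.inl_add, TrivSqZeroExt.inr_add]
    abel

lemma fst_toTsze (D : S →+ M) (hD : ∀ s t, D (s * t) = φ s • D t + φ t • D s) (s : S) :
    (toTsze φ D hD s).fst = φ s := by
  simp [toTsze]

lemma snd_toTsze (D : S →+ M) (hD : ∀ s t, D (s * t) = φ s • D t + φ t • D s) (s : S) :
    (toTsze φ D hD s).snd = D s := by
  simp [toTsze]

/-- Elements with vanishing first component multiply to zero. -/
lemma mul_eq_zero_of_fst (x y : TrivSqZeroExt Q M) (hx : x.fst = 0) (hy : y.fst = 0) :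
    x * y = 0 := by
  apply TrivSqZeroExt.ext
  · simp [hx]
  · simp [hx, hy]

lemma sq_eq_bot_of_fst (K : Ideal (TrivSqZeroExt Q M)) (hK : ∀ x ∈ K, x.fst = 0) : K ^ 2 = ⊥ := by
  rw [eq_bot_iff, sq, Ideal.mul_le]
  intro x hx y hy
  rw [Ideal.mem_bot]
  exact mul_eq_zero_of_fst x y (hK x hx) (hK y hy)

end Tsze


section Comp

variable {Λ A B : Type u} [CommRing Λ] [CommRing A] [CommRing B] [Algebra Λ A] [Algebra A B]
  [Algebra Λ B] [IsScalarTower Λ A B] (J : Ideal B)

/-- Adic formal smoothness composes with discrete formal smoothness of the base. -/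
theorem adic_comp [Algebra.FormallySmooth Λ A] (h : CAlgX.IsAdicFormallySmooth A B J) :
    CAlgX.IsAdicFormallySmooth Λ B J := by
  intro E _ _ N hN ψ hψ
  let g : A →ₐ[Λ] E ⧸ N := ψ.comp (IsScalarTower.toAlgHom Λ A B)
  let g' : A →ₐ[Λ] E := Algebra.FormallySmooth.lift N ⟨2, hN⟩ g
  have hg' : ∀ a, Ideal.Quotient.mk N (g' a) = ψ (algebraMap A B a) := fun a =>
    Algebra.FormallySmooth.mk_lift N ⟨2, hN⟩ g a
  let _ : Algebra A E := g'.toRingHom.toAlgebra
  have hAE : ∀ a, algebraMap A E a = g' a := fun a => rfl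
  let ψA : B →ₐ[A] E ⧸ N :=
    { ψ.toRingHom with
      commutes' := fun a => by
        change ψ (algebraMap A B a) = Ideal.Quotient.mk N (algebraMap A E a)
        rw [hAE, hg'] }
  obtain ⟨χ, hχ⟩ := h E N hN ψA hψ
  refine ⟨{ χ.toRingHom with
    commutes' := fun l => ?_ }, ?_⟩
  · change χ (algebraMap Λ B l) = algebraMap Λ E l
    rw [IsScalarTower.algebraMap_apply Λ A B, χ.commutes, hAE, g'.commutes]
  · ext b
    exact AlgHom.congr_fun hχ b

end Comp


section DL

attribute [local instance] opModule isCentral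

variable {A B : Type u} [CommRing A] [CommRing B] [Algebra A B] (J : Ideal B)
  {M M'' : Type u} [AddCommGroup M] [AddCommGroup M'']
  [Module (B ⧸ J) M] [Module B M] [IsScalarTower B (B ⧸ J) M] [Module A M] [IsScalarTower A B M]
  [Module (B ⧸ J) M''] [Module B M''] [IsScalarTower B (B ⧸ J) M''] [Module A M'']
  [IsScalarTower A B M'']

omit [Module A M''] [IsScalarTower A B M''] [Module (B ⧸ J) M] [Module B M]
  [IsScalarTower B (B ⧸ J) M] [Module A M] [IsScalarTower A B M] [AddCommGroup M] [Algebra A B] in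
lemma smul_eq_zero_of_mem {j : B} (hj : j ∈ J) (m : M'') : j • m = 0 :=
  SymQuot.smul_eq_zero_of_mem J hj m

omit [Module (B ⧸ J) M] [Module B M] [IsScalarTower B (B ⧸ J) M] [Module A M]
  [IsScalarTower A B M] [AddCommGroup M] in
/-- A derivation into a `B/J`-module kills `J²`. -/
lemma derivation_sq_eq_zero (D'' : Derivation A B M'') {x : B} (hx : x ∈ J ^ 2) : D'' x = 0 := by
  rw [sq] at hx
  refine Submodule.mul_induction_on hx ?_ ?_
  · intro j hj j' hj'
    rw [D''.leibniz, smul_eq_zero_of_mem J hj, smul_eq_zero_of_mem J hj', add_zero]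
  · intro x y hx hy
    rw [map_add, hx, hy, add_zero]

set_option synthInstance.maxHeartbeats 400000 in
set_option maxHeartbeats 1600000 in
/-- Lifting derivations along surjections of `B/J`-modules. -/
theorem exists_derivation_lift (h : CAlgX.IsAdicFormallySmooth A B J)
    (π : M →ₗ[B ⧸ J] M'') (hπ : Function.Surjective π) (D'' : Derivation A B M'') :
    ∃ D : Derivation A B M, ∀ b, π (D b) = D'' b := by
  let _ : Algebra A (TrivSqZeroExt (B ⧸ J) M) :=
    ((algebraMap (B ⧸ J) (TrivSqZeroExt (B ⧸ J) M)).comp (algebraMap A (B ⧸ J))).toAlgebra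
  let _ : Algebra A (TrivSqZeroExt (B ⧸ J) M'') :=
    ((algebraMap (B ⧸ J) (TrivSqZeroExt (B ⧸ J) M'')).comp (algebraMap A (B ⧸ J))).toAlgebra
  let f : TrivSqZeroExt (B ⧸ J) M →ₐ[A] TrivSqZeroExt (B ⧸ J) M'' :=
    { (TrivSqZeroExt.map π).toRingHom with
      commutes' := fun a => (TrivSqZeroExt.map π).commutes (algebraMap A (B ⧸ J) a) }
  have hf : ∀ x, f x = TrivSqZeroExt.map π x := fun x => rfl
  have hD'' : ∀ s t : B, D'' (s * t) =
      Ideal.Quotient.mk J s • D'' t + Ideal.Quotient.mk J t • D'' s := by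
    intro s t
    rw [D''.leibniz, SymQuot.mk_smul, SymQuot.mk_smul]
  let ψ₀ : B →+* TrivSqZeroExt (B ⧸ J) M'' :=
    toTsze (Ideal.Quotient.mk J) (D'' : B →ₗ[A] M'').toAddMonoidHom hD''
  let ψ : B →ₐ[A] TrivSqZeroExt (B ⧸ J) M'' :=
    { ψ₀ with
      commutes' := fun a => by
        change TrivSqZeroExt.inl (Ideal.Quotient.mk J (algebraMap A B a)) +
          TrivSqZeroExt.inr (D'' (algebraMap A B a)) = TrivSqZeroExt.inl (algebraMap A (B ⧸ J) a)
        rw [D''.map_algebraMap, TrivSqZeroExt.inr_zero, add_zero]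
        rfl }
  have hψfst : ∀ b, (ψ b).fst = Ideal.Quotient.mk J b := fun b => fst_toTsze _ _ hD'' b
  have hψsnd : ∀ b, (ψ b).snd = D'' b := fun b => snd_toTsze _ _ hD'' b
  have hfsurj : Function.Surjective f := by
    intro y
    obtain ⟨m, hm⟩ := hπ y.snd
    refine ⟨TrivSqZeroExt.inl y.fst + TrivSqZeroExt.inr m, ?_⟩
    rw [hf]
    apply TrivSqZeroExt.ext
    · simp
    · simp [hm]
  have hker : RingHom.ker f ^ 2 = ⊥ := by
    apply sq_eq_bot_of_fst
    intro x hx
    rw [RingHom.mem_ker, hf] at hx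
    have := congrArg TrivSqZeroExt.fst hx
    rwa [TrivSqZeroExt.fst_map, TrivSqZeroExt.fst_zero] at this
  have hψ2 : ∀ x ∈ J ^ 2, ψ x = 0 := by
    intro x hx
    apply TrivSqZeroExt.ext
    · rw [hψfst, TrivSqZeroExt.fst_zero, Ideal.Quotient.eq_zero_iff_mem]
      exact Ideal.pow_le_self two_ne_zero hx
    · rw [hψsnd, TrivSqZeroExt.snd_zero, derivation_sq_eq_zero J D'' hx]
  obtain ⟨χ, hχ⟩ := AFS1.lift_of_surjective J h f hfsurj hker ψ 2 hψ2
  have hχ' : ∀ b, TrivSqZeroExt.map π (χ b) = ψ b := fun b => AlgHom.congr_fun hχ b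
  have hχfst : ∀ b, (χ b).fst = Ideal.Quotient.mk J b := by
    intro b
    rw [← hψfst, ← hχ', TrivSqZeroExt.fst_map]
  have hsmul : ∀ (a : A) (m : M), algebraMap A (B ⧸ J) a • m = a • m := by
    intro a m
    rw [← Ideal.Quotient.mk_algebraMap, SymQuot.mk_smul, algebraMap_smul]
  let D₀ : B →ₗ[A] M :=
    { toFun := fun b => (χ b).snd
      map_add' := fun b b' => by rw [map_add, TrivSqZeroExt.snd_add]
      map_smul' := fun a b => by
        rw [RingHom.id_apply, Algebra.smul_def a b, map_mul, AlgHom.commutes]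
        change (TrivSqZeroExt.inl (algebraMap A (B ⧸ J) a) * χ b).snd = _
        rw [TrivSqZeroExt.snd_mul, TrivSqZeroExt.snd_inl, TrivSqZeroExt.fst_inl, smul_zero,
          add_zero, hsmul] }
  refine ⟨Derivation.mk' D₀ ?_, ?_⟩
  · intro b b'
    change (χ (b * b')).snd = b • (χ b').snd + b' • (χ b).snd
    rw [map_mul, TrivSqZeroExt.snd_mul, hχfst, hχfst, SymQuot.mk_smul]
    congr 1
    exact SymQuot.mk_smul J b' _
  · intro b
    change π (χ b).snd = D'' b
    rw [← TrivSqZeroExt.snd_map, hχ', hψsnd]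

end DL


section Ext

attribute [local instance] opModule isCentral

variable {Λ A B : Type u} [CommRing Λ] [CommRing A] [CommRing B] [Algebra Λ A] [Algebra A B]
  [Algebra Λ B] [IsScalarTower Λ A B] (J : Ideal B)
  {L : Type u} [AddCommGroup L] [Module (B ⧸ J) L] [Module B L] [IsScalarTower B (B ⧸ J) L]
  [Module A L] [IsScalarTower A B L] [Module Λ L] [IsScalarTower Λ B L]

set_option synthInstance.maxHeartbeats 400000 in
set_option maxHeartbeats 1600000 in
/-- Extending derivations from `A` to `B`, with values in `B/J`-modules. -/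
theorem exists_derivation_ext (h : CAlgX.IsAdicFormallySmooth A B J) (δ₀ : Derivation Λ A L) :
    ∃ D : Derivation Λ B L, ∀ a, D (algebraMap A B a) = δ₀ a := by
  have hsmul : ∀ (a : A) (m : L), algebraMap A (B ⧸ J) a • m = a • m := by
    intro a m
    rw [← Ideal.Quotient.mk_algebraMap, SymQuot.mk_smul, algebraMap_smul]
  have hδ : ∀ s t : A, δ₀ (s * t) =
      algebraMap A (B ⧸ J) s • δ₀ t + algebraMap A (B ⧸ J) t • δ₀ s := by
    intro s t
    rw [δ₀.leibniz, hsmul, hsmul]
  let twist₀ : A →+* TrivSqZeroExt (B ⧸ J) L :=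
    toTsze (algebraMap A (B ⧸ J)) (δ₀ : A →ₗ[Λ] L).toAddMonoidHom hδ
  let _ : Algebra A (TrivSqZeroExt (B ⧸ J) L) := twist₀.toAlgebra
  have hAE : ∀ a, algebraMap A (TrivSqZeroExt (B ⧸ J) L) a = twist₀ a := fun a => rfl
  let f : TrivSqZeroExt (B ⧸ J) L →ₐ[A] (B ⧸ J) :=
    { (TrivSqZeroExt.fstHom (B ⧸ J) (B ⧸ J) L).toRingHom with
      commutes' := fun a => fst_toTsze _ _ hδ a }
  have hf : ∀ x, f x = x.fst := fun x => rfl
  have hfsurj : Function.Surjective f := fun c => ⟨TrivSqZeroExt.inl c, rfl⟩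
  have hker : RingHom.ker f ^ 2 = ⊥ := by
    apply sq_eq_bot_of_fst
    intro x hx
    exact hx
  obtain ⟨χ, hχ⟩ := AFS1.lift_of_surjective J h f hfsurj hker (Ideal.Quotient.mkₐ A J) 1
    (fun x hx => by
      rw [pow_one] at hx
      exact Ideal.Quotient.eq_zero_iff_mem.2 hx)
  have hχfst : ∀ b, (χ b).fst = Ideal.Quotient.mk J b := fun b => AlgHom.congr_fun hχ b
  have hD1 : ∀ a, (χ (algebraMap A B a)).snd = δ₀ a := by
    intro a
    rw [χ.commutes, hAE]
    exact snd_toTsze _ _ hδ a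
  have hleib : ∀ b b' : B, (χ (b * b')).snd = b • (χ b').snd + b' • (χ b).snd := by
    intro b b'
    rw [map_mul, TrivSqZeroExt.snd_mul, hχfst, hχfst, SymQuot.mk_smul]
    congr 1
    exact SymQuot.mk_smul J b' _
  let D₀ : B →ₗ[Λ] L :=
    { toFun := fun b => (χ b).snd
      map_add' := fun b b' => by rw [map_add, TrivSqZeroExt.snd_add]
      map_smul' := fun l b => by
        rw [RingHom.id_apply, Algebra.smul_def l b, hleib, algebraMap_smul,
          IsScalarTower.algebraMap_apply Λ A B, hD1, δ₀.map_algebraMap, smul_zero, add_zero] }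
  exact ⟨Derivation.mk' D₀ hleib, hD1⟩

end Ext


section Concrete

open KaehlerDifferential

variable {Λ A B : Type u} [CommRing Λ] [CommRing A] [CommRing B] [Algebra Λ A] [Algebra A B]
  [Algebra Λ B] [IsScalarTower Λ A B] (J : Ideal B)

/-- (δ): `Ω_{B/A} ⊗ B/J` is projective when `B` is adically formally smooth over `A`. -/
theorem projective_of_adic (h : CAlgX.IsAdicFormallySmooth A B J) :
    Module.Projective (B ⧸ J) ((B ⧸ J) ⊗[B] Ω[B⁄A]) := by
  let D'' : Derivation A B ((B ⧸ J) ⊗[B] Ω[B⁄A]) :=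
    (TensorProduct.mk B (B ⧸ J) Ω[B⁄A] 1).compDer (KaehlerDifferential.D A B)
  have hD'' : ∀ b, D'' b = (1 : B ⧸ J) ⊗ₜ[B] KaehlerDifferential.D A B b := fun b => rfl
  let π : (((B ⧸ J) ⊗[B] Ω[B⁄A]) →₀ (B ⧸ J)) →ₗ[B ⧸ J] ((B ⧸ J) ⊗[B] Ω[B⁄A]) :=
    Finsupp.linearCombination (B ⧸ J) id
  have hπ : Function.Surjective π := fun y => ⟨Finsupp.single y 1, by simp [π]⟩
  obtain ⟨D, hD⟩ := exists_derivation_lift J h π hπ D''
  let s : ((B ⧸ J) ⊗[B] Ω[B⁄A]) →ₗ[B ⧸ J] (((B ⧸ J) ⊗[B] Ω[B⁄A]) →₀ (B ⧸ J)) :=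
    D.liftKaehlerDifferential.liftBaseChange (B ⧸ J)
  have key : (π.restrictScalars B) ∘ₗ D.liftKaehlerDifferential =
      TensorProduct.mk B (B ⧸ J) Ω[B⁄A] 1 := by
    apply Derivation.liftKaehlerDifferential_unique
    ext b
    change π (D.liftKaehlerDifferential (KaehlerDifferential.D A B b)) =
      (1 : B ⧸ J) ⊗ₜ[B] KaehlerDifferential.D A B b
    rw [Derivation.liftKaehlerDifferential_comp_D, hD, hD'']
  refine Module.Projective.of_split s π ?_
  apply LinearMap.ext
  intro x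
  induction x using TensorProduct.induction_on with
  | zero => simp
  | tmul c ω =>
    have h2 := LinearMap.congr_fun key ω
    simp only [LinearMap.coe_comp, LinearMap.coe_restrictScalars, Function.comp_apply,
      TensorProduct.mk_apply] at h2
    rw [LinearMap.comp_apply, LinearMap.liftBaseChange_tmul, map_smul, h2,
      TensorProduct.smul_tmul', smul_eq_mul, mul_one]
    rfl
  | add x y hx hy => rw [map_add, hx, hy, map_add]


/-- (γ'): `Ω_{A/Λ} ⊗_A B/J → Ω_{B/Λ} ⊗_B B/J` is injective when `B` is adically formally smooth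
over `A`. -/
theorem injective_of_adic (h : CAlgX.IsAdicFormallySmooth A B J) :
    Function.Injective ((mapBaseChange Λ A B).lTensor (B ⧸ J)) := by
  let δ₀ : Derivation Λ A ((B ⧸ J) ⊗[B] (B ⊗[A] Ω[A⁄Λ])) :=
    (((TensorProduct.mk B (B ⧸ J) (B ⊗[A] Ω[A⁄Λ]) 1).restrictScalars A) ∘ₗ
      (TensorProduct.mk A B Ω[A⁄Λ] 1)).compDer (KaehlerDifferential.D Λ A)
  have hδ₀ : ∀ a, δ₀ a = (1 : B ⧸ J) ⊗ₜ[B] ((1 : B) ⊗ₜ[A] KaehlerDifferential.D Λ A a) :=
    fun a => rfl
  obtain ⟨D, hD⟩ := exists_derivation_ext J h δ₀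
  let r : (B ⧸ J) ⊗[B] Ω[B⁄Λ] →ₗ[B ⧸ J] ((B ⧸ J) ⊗[B] (B ⊗[A] Ω[A⁄Λ])) :=
    D.liftKaehlerDifferential.liftBaseChange (B ⧸ J)
  have key : (D.liftKaehlerDifferential.restrictScalars A) ∘ₗ KaehlerDifferential.map Λ Λ A B =
      ((TensorProduct.mk B (B ⧸ J) (B ⊗[A] Ω[A⁄Λ]) 1).restrictScalars A) ∘ₗ
        (TensorProduct.mk A B Ω[A⁄Λ] 1) := by
    apply Derivation.liftKaehlerDifferential_unique
    ext a
    change D.liftKaehlerDifferential (KaehlerDifferential.map Λ Λ A B (KaehlerDifferential.D Λ A a))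
      = (1 : B ⧸ J) ⊗ₜ[B] ((1 : B) ⊗ₜ[A] KaehlerDifferential.D Λ A a)
    rw [KaehlerDifferential.map_D, Derivation.liftKaehlerDifferential_comp_D, hD, hδ₀]
  have hr : ∀ x, r ((mapBaseChange Λ A B).lTensor (B ⧸ J) x) = x := by
    intro x
    induction x using TensorProduct.induction_on with
    | zero => simp
    | tmul c y =>
      rw [LinearMap.lTensor_tmul, LinearMap.liftBaseChange_tmul]
      induction y using TensorProduct.induction_on with
      | zero => simp
      | tmul b ω =>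
        have h2 := LinearMap.congr_fun key ω
        simp only [LinearMap.coe_comp, LinearMap.coe_restrictScalars, Function.comp_apply,
          TensorProduct.mk_apply] at h2
        have e1 : b • ((1 : B ⧸ J) ⊗ₜ[B] ((1 : B) ⊗ₜ[A] ω)) =
            (1 : B ⧸ J) ⊗ₜ[B] (b ⊗ₜ[A] ω) := by
          rw [← TensorProduct.tmul_smul, TensorProduct.smul_tmul', smul_eq_mul, mul_one]
        rw [mapBaseChange_tmul, map_smul, h2, e1, TensorProduct.smul_tmul', smul_eq_mul, mul_one]
      | add y z hy hz => rw [map_add, map_add, smul_add, hy, hz, TensorProduct.tmul_add]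
    | add x y hx hy => rw [map_add, map_add, hx, hy]
  exact Function.LeftInverse.injective hr


/-- Part (ii) of the criterion. -/
theorem part_ii [Algebra.FormallySmooth Λ (B ⧸ J)] (hA : Algebra.FormallySmooth Λ A)
    (h : CAlgX.IsAdicFormallySmooth A B J) :
    Module.Projective (B ⧸ J) J.Cotangent ∧ PP16.SymGrBijective B J ∧
      Function.Injective ((mapBaseChange Λ A B).lTensor (B ⧸ J)) ∧
      Module.Projective (B ⧸ J) ((B ⧸ J) ⊗[B] (Ω[B⁄A])) := by
  have hΛ : CAlgX.IsAdicFormallySmooth Λ B J := adic_comp J h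
  obtain ⟨h1, h2⟩ := AFS1.forward hΛ
  exact ⟨h1, h2, injective_of_adic J h, projective_of_adic J h⟩

end Concrete

end Groth.Agent.Lib.Helper26.AFS3
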