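import Mathlib
import Groth.Prelude.Def_PP16
import Groth.Prelude.Def_CAlgX
import Groth.Agent.Lib.Helper26.AFS1
import Groth.Agent.Lib.Helper26.AFS2
import Groth.Agent.Lib.Helper26.AFS3

set_option autoImplicit false
universe u
open TensorProduct KaehlerDifferential

namespace Groth.Agent.Lib.Helper26.AFS4

open Groth.Agent.Lib.Helper26

variable {Λ A B : Type u} [CommRing Λ] [CommRing A] [CommRing B] [Algebra Λ A] [Algebra A B]
  [Algebra Λ B] [IsScalarTower Λ A B] (J : Ideal B)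

section Retraction

variable (hγ : Function.Injective ((mapBaseChange Λ A B).lTensor (B ⧸ J)))
  (hδ : Module.Projective (B ⧸ J) ((B ⧸ J) ⊗[B] (Ω[B⁄A])))

include hγ hδ in
theorem exists_retraction :
    ∃ r : (B ⧸ J) ⊗[B] Ω[B⁄Λ] →ₗ[B ⧸ J] (B ⧸ J) ⊗[B] (B ⊗[A] Ω[A⁄Λ]),
      ∀ x, r ((mapBaseChange Λ A B).lTensor (B ⧸ J) x) = x := by
  let f : (B ⧸ J) ⊗[B] (B ⊗[A] Ω[A⁄Λ]) →ₗ[B ⧸ J] (B ⧸ J) ⊗[B] Ω[B⁄Λ] :=
    (mapBaseChange Λ A B).baseChange (B ⧸ J)
  let g : (B ⧸ J) ⊗[B] Ω[B⁄Λ] →ₗ[B ⧸ J] (B ⧸ J) ⊗[B] Ω[B⁄A] :=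
    (KaehlerDifferential.map Λ A B B).baseChange (B ⧸ J)
  have hfg : Function.Exact f g :=
    lTensor_exact (B ⧸ J) (KaehlerDifferential.exact_mapBaseChange_map Λ A B)
      (KaehlerDifferential.map_surjective Λ A B)
  have hg : Function.Surjective g :=
    LinearMap.lTensor_surjective (B ⧸ J) (KaehlerDifferential.map_surjective Λ A B)
  obtain ⟨l, hl⟩ := Module.projective_lifting_property g LinearMap.id hg
  obtain ⟨-, r, hr⟩ := (hfg.split_tfae'.out 0 1 rfl rfl).1 ⟨hγ, l, hl⟩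
  exact ⟨r, fun x => LinearMap.congr_fun hr x⟩

variable {N : Type u} [AddCommGroup N] [Module (B ⧸ J) N] [Module B N]
  [IsScalarTower B (B ⧸ J) N] [Module A N] [IsScalarTower A B N] [Module Λ N]
  [IsScalarTower Λ A N] [IsScalarTower Λ B N]

include hγ hδ in
/-- Extension of derivations from `A` to `B` with values in `B/J`-modules. -/
theorem exists_derivation_ext (δ : Derivation Λ A N) :
    ∃ D : Derivation Λ B N, ∀ a, D (algebraMap A B a) = δ a := by
  obtain ⟨r, hr⟩ := exists_retraction J hγ hδ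
  let g₁ : B ⊗[A] Ω[A⁄Λ] →ₗ[B] N := δ.liftKaehlerDifferential.liftBaseChange B
  let g₂ : (B ⧸ J) ⊗[B] (B ⊗[A] Ω[A⁄Λ]) →ₗ[B ⧸ J] N := g₁.liftBaseChange (B ⧸ J)
  let Dlin : Ω[B⁄Λ] →ₗ[B] N :=
    ((g₂ ∘ₗ r).restrictScalars B) ∘ₗ (TensorProduct.mk B (B ⧸ J) Ω[B⁄Λ] 1)
  refine ⟨Dlin.compDer (KaehlerDifferential.D Λ B), fun a => ?_⟩
  have h1 : (1 : B ⧸ J) ⊗ₜ[B] KaehlerDifferential.D Λ B (algebraMap A B a) =
      (mapBaseChange Λ A B).lTensor (B ⧸ J)
        ((1 : B ⧸ J) ⊗ₜ[B] ((1 : B) ⊗ₜ[A] KaehlerDifferential.D Λ A a)) := by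
    rw [LinearMap.lTensor_tmul, mapBaseChange_tmul, one_smul, KaehlerDifferential.map_D]
  change g₂ (r ((1 : B ⧸ J) ⊗ₜ[B] KaehlerDifferential.D Λ B (algebraMap A B a))) = δ a
  rw [h1, hr, LinearMap.liftBaseChange_tmul, one_smul, LinearMap.liftBaseChange_tmul, one_smul,
    Derivation.liftKaehlerDifferential_comp_D]

end Retraction


section Step

variable (hΛ : CAlgX.IsAdicFormallySmooth Λ B J)
  (hγ : Function.Injective ((mapBaseChange Λ A B).lTensor (B ⧸ J)))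
  (hδ : Module.Projective (B ⧸ J) ((B ⧸ J) ⊗[B] (Ω[B⁄A])))

include hΛ hγ hδ in
/-- One lifting step: the kernel is killed by the image of `J`. -/
theorem step {E : Type u} [CommRing E] [Algebra A E] (K : Ideal E) (hK : K ^ 2 = ⊥)
    (ψ : B →ₐ[A] E ⧸ K) (k : ℕ) (hψ : ∀ x ∈ J ^ k, ψ x = 0)
    (hstar : ∀ j ∈ J, ∀ e : E, Ideal.Quotient.mk K e = ψ j → ∀ x ∈ K, e * x = 0) :
    ∃ χ : B →ₐ[A] E, (Ideal.Quotient.mkₐ A K).comp χ = ψ := by
  have hKK : ∀ x ∈ K, ∀ y ∈ K, x * y = 0 := by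
    intro x hx y hy
    have := Ideal.mul_mem_mul hx hy
    rwa [← sq, hK, Ideal.mem_bot] at this
  let _ : Algebra Λ E := Algebra.compHom E (algebraMap Λ A)
  have tΛAE : IsScalarTower Λ A E := IsScalarTower.of_algebraMap_eq (fun _ => rfl)
  let ψΛ : B →ₐ[Λ] E ⧸ K := ψ.restrictScalars Λ
  obtain ⟨χ₀, hχ₀⟩ := hΛ E K hK ψΛ ⟨k, hψ⟩
  have hχ₀' : ∀ b, Ideal.Quotient.mk K (χ₀ b) = ψ b := fun b => AlgHom.congr_fun hχ₀ b
  let _ : Algebra B E := χ₀.toRingHom.toAlgebra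
  have hBE : ∀ b, algebraMap B E b = χ₀ b := fun b => rfl
  have tΛBE : IsScalarTower Λ B E :=
    IsScalarTower.of_algebraMap_eq (fun l => (χ₀.commutes l).symm)
  -- the difference on `A`
  have hdiff : ∀ a : A, χ₀ (algebraMap A B a) - algebraMap A E a ∈ K := by
    intro a
    rw [← Ideal.Quotient.eq, hχ₀', ψ.commutes]
    rfl
  have tABK : IsScalarTower A B ↥K := by
    refine ⟨fun a b x => Subtype.ext ?_⟩
    rw [Submodule.coe_smul_of_tower, Submodule.coe_smul_of_tower, Submodule.coe_smul_of_tower,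
      Algebra.smul_def (a • b) (x : E), Algebra.smul_def a (b • (x : E)), Algebra.smul_def b (x : E),
      hBE, hBE, Algebra.smul_def a b, map_mul, mul_assoc]
    have h1 := hKK _ (hdiff a) _ (K.mul_mem_left (χ₀ b) x.2)
    rw [sub_mul, sub_eq_zero] at h1
    exact h1
  have htors : Module.IsTorsionBySet B ↥K (J : Set B) := by
    intro x j
    apply Subtype.ext
    change algebraMap B E (j : B) * (x : E) = 0
    rw [hBE]
    exact hstar j j.2 (χ₀ j) (hχ₀' j) x x.2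
  let _ : Module (B ⧸ J) ↥K := htors.module
  -- the derivation on `A`
  have e : (Ideal.Quotient.mkₐ Λ K).comp (χ₀.comp (IsScalarTower.toAlgHom Λ A B)) =
      IsScalarTower.toAlgHom Λ A (E ⧸ K) := by
    ext a
    change Ideal.Quotient.mk K (χ₀ (algebraMap A B a)) = algebraMap A (E ⧸ K) a
    rw [hχ₀', ψ.commutes]
  let δ : Derivation Λ A ↥K :=
    derivationToSquareZeroOfLift K hK (χ₀.comp (IsScalarTower.toAlgHom Λ A B)) e
  have hδa : ∀ a, ((δ a : ↥K) : E) = χ₀ (algebraMap A B a) - algebraMap A E a := fun a => rfl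
  obtain ⟨D, hD⟩ := exists_derivation_ext J hγ hδ (N := ↥K) δ
  let χ₁ : B →ₐ[Λ] E := liftOfDerivationToSquareZero K hK (-D)
  have hχ₁ : ∀ b, χ₁ b = -((D b : ↥K) : E) + χ₀ b := fun b => rfl
  refine ⟨{ χ₁.toRingHom with
    commutes' := fun a => ?_ }, ?_⟩
  · change χ₁ (algebraMap A B a) = algebraMap A E a
    rw [hχ₁, hD, hδa]
    ring
  · ext b
    change Ideal.Quotient.mk K (χ₁ b) = ψ b
    rw [hχ₁, map_add, map_neg, Ideal.Quotient.eq_zero_iff_mem.2 (D b).2, neg_zero, zero_add, hχ₀']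


include hΛ hγ hδ in
/-- The lifting step along a surjection with square-zero kernel. -/
theorem step_f {E E' : Type u} [CommRing E] [CommRing E'] [Algebra A E] [Algebra A E']
    (f : E →ₐ[A] E') (hf : Function.Surjective f) (hker : RingHom.ker f ^ 2 = ⊥)
    (ψ : B →ₐ[A] E') (k : ℕ) (hψ : ∀ x ∈ J ^ k, ψ x = 0)
    (hstar : ∀ j ∈ J, ∀ e : E, f e = ψ j → ∀ x ∈ RingHom.ker f, e * x = 0) :
    ∃ χ : B →ₐ[A] E, f.comp χ = ψ := by
  let e := Ideal.quotientKerAlgEquivOfSurjective hf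
  have he : ∀ y : E, e (Ideal.Quotient.mk _ y) = f y := fun y => rfl
  obtain ⟨χ, hχ⟩ := step J hΛ hγ hδ (RingHom.ker f) hker (e.symm.toAlgHom.comp ψ) k
    (fun x hx => by simp [hψ x hx])
    (fun j hj y hy x hx => by
      apply hstar j hj y _ x hx
      have h2 := congrArg e hy
      rw [he] at h2
      rw [h2]
      change e (e.symm (ψ j)) = ψ j
      exact e.apply_symm_apply _)
  refine ⟨χ, ?_⟩
  ext b
  have h1 := AlgHom.congr_fun hχ b
  have h2 : e (Ideal.Quotient.mk _ (χ b)) = e (e.symm (ψ b)) := congrArg e h1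
  rw [AlgEquiv.apply_symm_apply] at h2
  exact h2


include hΛ hγ hδ in
/-- Dévissage: adic formal smoothness over `A`. -/
theorem adic_of_ext : CAlgX.IsAdicFormallySmooth A B J := by
  intro E _ _ N hN ψ ⟨k, hk⟩
  let 𝔞 : Ideal E := Ideal.comap (Ideal.Quotient.mk N) (Ideal.map ψ J)
  let Ni : ℕ → Ideal E := fun i => 𝔞 ^ i * N
  have hNi_le : ∀ i, Ni i ≤ N := fun i => Ideal.mul_le_right
  have hNi_anti : ∀ i, Ni (i + 1) ≤ Ni i := by
    intro i
    change 𝔞 ^ (i + 1) * N ≤ 𝔞 ^ i * N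
    rw [pow_succ, mul_assoc]
    exact Ideal.mul_mono_right Ideal.mul_le_right
  have claim : ∀ i, ∃ ψi : B →ₐ[A] E ⧸ Ni i,
      ∀ b, Ideal.Quotient.factor (hNi_le i) (ψi b) = ψ b := by
    intro i
    induction i with
    | zero =>
      have h0 : N = Ni 0 := by simp [Ni]
      refine ⟨(Ideal.quotientEquivAlgOfEq A h0).toAlgHom.comp ψ, fun b => ?_⟩
      obtain ⟨y, hy⟩ := Ideal.Quotient.mk_surjective (ψ b)
      rw [AlgHom.comp_apply, ← hy]
      rfl
    | succ i ih =>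
      obtain ⟨ψi, hψi⟩ := ih
      let f : (E ⧸ Ni (i + 1)) →ₐ[A] (E ⧸ Ni i) := Ideal.Quotient.factorₐ A (hNi_anti i)
      have hf : Function.Surjective f := Ideal.Quotient.factor_surjective (hNi_anti i)
      have hkerf : RingHom.ker f = (Ni i).map (Ideal.Quotient.mk (Ni (i + 1))) :=
        Ideal.Quotient.factor_ker (hNi_anti i)
      have hker : RingHom.ker f ^ 2 = ⊥ := by
        rw [hkerf, ← Ideal.map_pow, eq_bot_iff]
        refine (Ideal.map_mono (Ideal.pow_right_mono (hNi_le i) 2)).trans ?_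
        rw [hN, Ideal.map_bot]
      -- ψi kills J^(k+k)
      have h1 : J ^ k ≤ (N.map (Ideal.Quotient.mk (Ni i))).comap ψi := by
        intro x hx
        rw [Ideal.mem_comap, ← Ideal.Quotient.factor_ker (hNi_le i), RingHom.mem_ker, hψi]
        exact hk x hx
      have h2 : ∀ x ∈ J ^ (k + k), ψi x = 0 := by
        intro x hx
        rw [pow_add] at hx
        have := (Ideal.mul_mono h1 h1).trans (Ideal.le_comap_mul _) hx
        rw [← Ideal.map_mul, ← sq, hN, Ideal.map_bot] at this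
        exact this
      have hstar : ∀ j ∈ J, ∀ e : E ⧸ Ni (i + 1), f e = ψi j → ∀ x ∈ RingHom.ker f, e * x = 0 := by
        intro j hj e he x hx
        obtain ⟨y, rfl⟩ := Ideal.Quotient.mk_surjective e
        rw [hkerf, Ideal.mem_map_iff_of_surjective _ Ideal.Quotient.mk_surjective] at hx
        obtain ⟨z, hz, rfl⟩ := hx
        have hy : y ∈ 𝔞 := by
          rw [Ideal.mem_comap]
          have h3 : Ideal.Quotient.mk N y = ψ j := by
            rw [← hψi j, ← he]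
            rfl
          rw [h3]
          exact Ideal.mem_map_of_mem _ hj
        rw [← map_mul, Ideal.Quotient.eq_zero_iff_mem]
        change y * z ∈ 𝔞 ^ (i + 1) * N
        rw [pow_succ', mul_assoc]
        exact Ideal.mul_mem_mul hy hz
      obtain ⟨χ, hχ⟩ := step_f J hΛ hγ hδ f hf hker ψi (k + k) h2 hstar
      refine ⟨χ, fun b => ?_⟩
      have h3 := AlgHom.congr_fun hχ b
      rw [← hψi b, ← h3]
      obtain ⟨y, hy⟩ := Ideal.Quotient.mk_surjective (χ b)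
      rw [AlgHom.comp_apply, ← hy]
      rfl
  obtain ⟨ψk, hψk⟩ := claim k
  have hbot : Ni k = ⊥ := by
    have h1 : 𝔞 ^ k ≤ N := by
      refine (Ideal.le_comap_pow _ _).trans ?_
      rw [← Ideal.map_pow]
      have h2 : Ideal.map ψ (J ^ k) = ⊥ := by
        rw [Ideal.map_eq_bot_iff_le_ker]
        intro x hx
        exact hk x hx
      rw [h2, ← RingHom.ker_eq_comap_bot, Ideal.mk_ker]
    rw [eq_bot_iff, ← hN, sq]
    exact Ideal.mul_mono_left h1
  let e : (E ⧸ Ni k) ≃ₐ[A] E := (Ideal.quotientEquivAlgOfEq A hbot).trans (AlgEquiv.quotientBot A E)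
  refine ⟨e.toAlgHom.comp ψk, ?_⟩
  ext b
  obtain ⟨y, hy⟩ := Ideal.Quotient.mk_surjective (ψk b)
  have h1 : e (ψk b) = y := by
    rw [← hy]
    rfl
  change Ideal.Quotient.mk N (e (ψk b)) = ψ b
  rw [h1, ← hψk b, ← hy]
  rfl

end Step


/-- The criterion: parts (i) and (ii). -/
theorem main [Algebra.FormallySmooth Λ (B ⧸ J)] :
    ((Module.Projective (B ⧸ J) J.Cotangent ∧ PP16.SymGrBijective B J ∧
        Function.Injective ((mapBaseChange Λ A B).lTensor (B ⧸ J)) ∧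
        Module.Projective (B ⧸ J) ((B ⧸ J) ⊗[B] (Ω[B⁄A]))) →
      CAlgX.IsAdicFormallySmooth A B J) ∧
    (Algebra.FormallySmooth Λ A → CAlgX.IsAdicFormallySmooth A B J →
      (Module.Projective (B ⧸ J) J.Cotangent ∧ PP16.SymGrBijective B J ∧
        Function.Injective ((mapBaseChange Λ A B).lTensor (B ⧸ J)) ∧
        Module.Projective (B ⧸ J) ((B ⧸ J) ⊗[B] (Ω[B⁄A])))) := by
  refine ⟨fun ⟨hα, hβ, hγ, hδ⟩ => ?_, fun hA h => AFS3.part_ii J hA h⟩
  have hΛ : CAlgX.IsAdicFormallySmooth Λ B J := AFS2.backward J hα hβ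
  exact adic_of_ext J hΛ hγ hδ

end Groth.Agent.Lib.Helper26.AFS4
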