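import Mathlib
import Groth.Prelude.Def_CAlgX
import Groth.Prelude.Def_PP16
import Groth.Agent.Lib.Helper9.PFiltered2

/-!
# Differentials of a field relative to a decreasing family of subfields (EGA 0_IV 22.2.6 support)
-/

set_option autoImplicit false
universe u
open TensorProduct KaehlerDifferential

namespace Groth.Agent.Lib.Helper26.AFSField

section KerMap

variable (R A B : Type*) [CommRing R] [CommRing A] [CommRing B] [Algebra R A] [Algebra A B]
  [Algebra R B] [IsScalarTower R A B]

theorem ker_map_le_span :
    LinearMap.ker (KaehlerDifferential.map R A B B) ≤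
      Submodule.span B (Set.range fun a : A => D R B (algebraMap A B a)) := by
  rw [← KaehlerDifferential.range_mapBaseChange]
  rintro _ ⟨x, rfl⟩
  induction x with
  | zero => simp
  | add x y hx hy => rw [map_add]; exact add_mem hx hy
  | tmul b ω =>
    rw [mapBaseChange_tmul]
    apply Submodule.smul_mem
    have hω : ω ∈ Submodule.span A (Set.range (D R A)) := by
      rw [span_range_derivation]; trivial
    induction hω using Submodule.span_induction with
    | mem x hx =>
      obtain ⟨a, rfl⟩ := hx
      rw [map_D]
      exact Submodule.subset_span ⟨a, rfl⟩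
    | zero => simp
    | add x y _ _ hx hy => rw [map_add]; exact add_mem hx hy
    | smul a x _ hx =>
      rw [map_smul, ← algebraMap_smul B a]
      exact Submodule.smul_mem _ _ hx

end KerMap

section Bot

variable {k : Type*} [Field k]

theorem D_eq_zero_of_mem_bot {M : Type*} [AddCommGroup M] [Module k M] (D : Derivation ℤ k M)
    {a : k} (ha : a ∈ (⊥ : Subfield k)) : D a = 0 := by
  rw [← Subfield.closure_empty] at ha
  induction ha using Subfield.closure_induction with
  | mem x hx => exact absurd hx (Set.notMem_empty x)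
  | one => exact D.map_one_eq_zero
  | add x y _ _ hx hy => rw [map_add, hx, hy, add_zero]
  | neg x _ hx => rw [map_neg, hx, neg_zero]
  | inv x _ hx => rw [Derivation.leibniz_inv, hx, smul_zero]
  | mul x y _ _ hx hy => rw [Derivation.leibniz, hx, hy, smul_zero, smul_zero, add_zero]

theorem map_bot_injective :
    Function.Injective (KaehlerDifferential.map ℤ (⊥ : Subfield k) k k) := by
  rw [← LinearMap.ker_eq_bot, eq_bot_iff]
  refine (ker_map_le_span ℤ (⊥ : Subfield k) k).trans ?_
  rw [Submodule.span_le]
  rintro _ ⟨a, rfl⟩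
  exact D_eq_zero_of_mem_bot _ a.2

end Bot

section Field

variable {k : Type u} [Field k] (p : ℕ) [Fact p.Prime] [CharP k p]
  {ι : Type u} [Preorder ι] [IsDirected ι (fun a b => a ≤ b)] [Nonempty ι] (kα : ι → Subfield k)

/-- the intermediate field (over the prime subfield) attached to a subfield -/
def toIF (S : Subfield k) : IntermediateField (⊥ : Subfield k) k :=
  S.toIntermediateField (fun x => (bot_le : (⊥ : Subfield k) ≤ S) x.2)

theorem toIF_toSubfield (S : Subfield k) : (toIF S).toSubfield = S := rfl

theorem mem_toIF {S : Subfield k} {x : k} : x ∈ toIF S ↔ x ∈ S := Iff.rfl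

theorem adjoin_pow_toSubfield :
    (IntermediateField.adjoin (⊥ : Subfield k) (Set.range fun y : k => y ^ p)).toSubfield =
      (frobenius k p).fieldRange := by
  rw [IntermediateField.adjoin_toSubfield]
  apply le_antisymm
  · rw [Subfield.closure_le]
    rintro x (⟨a, rfl⟩ | ⟨y, rfl⟩)
    · exact (bot_le : (⊥ : Subfield k) ≤ _) a.2
    · exact ⟨y, rfl⟩
  · rintro x ⟨y, rfl⟩
    exact Subfield.subset_closure (Or.inr ⟨y, rfl⟩)

omit [IsDirected ι fun a b => a ≤ b] [Nonempty ι] in
theorem hint_convert
    (hint : ⨅ α, (kα α ⊔ (frobenius k p).fieldRange) = (frobenius k p).fieldRange) :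
    (⨅ i, toIF (kα i) ⊔ IntermediateField.adjoin (⊥ : Subfield k) (Set.range fun y : k => y ^ p)) =
      IntermediateField.adjoin (⊥ : Subfield k) (Set.range fun y : k => y ^ p) := by
  apply IntermediateField.toSubfield_injective
  rw [IntermediateField.iInf_toSubfield]
  simp_rw [IntermediateField.sup_toSubfield, adjoin_pow_toSubfield, toIF_toSubfield]
  exact hint

theorem joint_kernel (hanti : Antitone kα)
    (hint : ⨅ α, (kα α ⊔ (frobenius k p).fieldRange) = (frobenius k p).fieldRange) (α₀ : ι)
    (m : Ω[k⁄ℤ]) (hm : ∀ α, α₀ ≤ α → KaehlerDifferential.map ℤ (kα α) k k m = 0) : m = 0 := by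
  apply map_bot_injective
  rw [map_zero]
  have hanti' : Antitone (fun i => toIF (kα i)) := fun i j hij x hx => hanti hij hx
  have H := (Groth.Agent.Helper9.PFiltered.iInf_eq_iff_forall (p := p)
    (fun i => toIF (kα i)) hanti').1 (hint_convert p kα hint)
  apply H
  intro i
  obtain ⟨j, hij, hj0⟩ := exists_ge_ge i α₀
  have hmem := ker_map_le_span ℤ (kα j) k (LinearMap.mem_ker.2 (hm j hj0))
  clear hm
  induction hmem using Submodule.span_induction with
  | mem x hx =>
    obtain ⟨a, rfl⟩ := hx
    rw [map_D, map_D]
    have : (algebraMap k k) ((algebraMap k k) ((algebraMap (↥(kα j)) k) a)) =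
        algebraMap (toIF (kα i)) k ⟨a.1, hanti hij a.2⟩ := rfl
    rw [this, Derivation.map_algebraMap]
  | zero => simp
  | add x y _ _ hx hy => rw [map_add, map_add, hx, hy, add_zero]
  | smul a x _ hx => rw [map_smul, map_smul, hx, smul_zero]

end Field

section Tensor

variable {k A : Type u} [Field k] [CommRing A] [Algebra k A]
  (K : Type u) [AddCommGroup K] [Module k K] [Module A K] [IsScalarTower k A K]
  {M : Type u} [AddCommGroup M] [Module k M]

open scoped Classical

/-- the coordinate description of `K ⊗[A] (A ⊗[k] M)` for a `k`-basis of `K` -/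
noncomputable def coords {J : Type*} (b : Module.Basis J k K) (M : Type u) [AddCommGroup M]
    [Module k M] : K ⊗[A] (A ⊗[k] M) →ₗ[k] (J →₀ M) :=
  (TensorProduct.equivFinsuppOfBasisLeft b).toLinearMap ∘ₗ
    ((TensorProduct.AlgebraTensorModule.cancelBaseChange k A A K M).restrictScalars k).toLinearMap

theorem coords_injective {J : Type*} (b : Module.Basis J k K) :
    Function.Injective (coords (A := A) K b M) := by
  intro x y hxy
  simp only [coords, LinearMap.coe_comp, LinearEquiv.coe_coe, Function.comp_apply] at hxy
  exact (TensorProduct.AlgebraTensorModule.cancelBaseChange k A A K M).injective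
    ((TensorProduct.equivFinsuppOfBasisLeft b).injective hxy)

theorem coords_tmul {J : Type*} (b : Module.Basis J k K) (c : K) (a : A) (m : M) (j : J) :
    coords (A := A) K b M (c ⊗ₜ[A] (a ⊗ₜ[k] m)) j = b.repr (a • c) j • m := by
  have h1 : coords (A := A) K b M (c ⊗ₜ[A] (a ⊗ₜ[k] m)) =
      TensorProduct.equivFinsuppOfBasisLeft b ((a • c) ⊗ₜ[k] m) := rfl
  rw [h1, TensorProduct.equivFinsuppOfBasisLeft_apply_tmul_apply]

theorem coords_natural {J : Type*} (b : Module.Basis J k K) {N : Type u} [AddCommGroup N]
    [Module k N] (g : M →ₗ[k] N) (x : K ⊗[A] (A ⊗[k] M)) (j : J) :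
    coords (A := A) K b N ((g.baseChange A).lTensor K x) j = g (coords (A := A) K b M x j) := by
  induction x using TensorProduct.induction_on with
  | zero => simp
  | add x y hx hy => simp only [map_add, Finsupp.add_apply, hx, hy]
  | tmul c y =>
    induction y using TensorProduct.induction_on with
    | zero => simp
    | add x y hx hy => simp only [tmul_add, map_add, Finsupp.add_apply, hx, hy]
    | tmul a m =>
      rw [LinearMap.lTensor_tmul, LinearMap.baseChange_tmul, coords_tmul, coords_tmul,
        LinearMap.map_smul]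

theorem eq_zero_of_forall_lTensor {S : Type*} {N : S → Type u} [∀ s, AddCommGroup (N s)]
    [∀ s, Module k (N s)] (g : ∀ s, M →ₗ[k] N s) (hg : ∀ m : M, (∀ s, g s m = 0) → m = 0)
    (x : K ⊗[A] (A ⊗[k] M)) (hx : ∀ s, ((g s).baseChange A).lTensor K x = 0) : x = 0 := by
  let b := Module.Basis.ofVectorSpace k K
  apply coords_injective K b
  rw [map_zero]
  ext j
  rw [Finsupp.zero_apply]
  apply hg
  intro s
  rw [← coords_natural, hx s, map_zero, Finsupp.zero_apply]

end Tensor

section Square

variable (R k A : Type u) [CommRing R] [CommRing k] [CommRing A] [Algebra R k] [Algebra k A]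
  [Algebra R A] [IsScalarTower R k A] (K : Type u) [AddCommGroup K] [Module A K]

theorem square_aux (ω : Ω[k⁄ℤ]) :
    KaehlerDifferential.map ℤ R A A (KaehlerDifferential.map ℤ ℤ k A ω) =
      KaehlerDifferential.map R R k A (KaehlerDifferential.map ℤ R k k ω) := by
  have hω : ω ∈ Submodule.span k (Set.range (D ℤ k)) := by
    rw [span_range_derivation]; trivial
  induction hω using Submodule.span_induction with
  | mem x hx =>
    obtain ⟨a, rfl⟩ := hx
    simp only [map_D, Algebra.algebraMap_self, RingHom.id_apply]
  | zero => simp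
  | add x y _ _ hx hy => simp only [map_add, hx, hy]
  | smul a x _ hx =>
    have h1 : KaehlerDifferential.map ℤ ℤ k A (a • x) =
        algebraMap k A a • KaehlerDifferential.map ℤ ℤ k A x := by
      rw [LinearMap.map_smul, algebraMap_smul]
    have h2 : KaehlerDifferential.map ℤ R k k (a • x) = a • KaehlerDifferential.map ℤ R k k x :=
      LinearMap.map_smul _ _ _
    rw [h1, h2, LinearMap.map_smul, hx, LinearMap.map_smul, algebraMap_smul]

theorem square (x : K ⊗[A] (A ⊗[k] Ω[k⁄ℤ])) :
    (KaehlerDifferential.map ℤ R A A).lTensor K ((mapBaseChange ℤ k A).lTensor K x) =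
      (mapBaseChange R k A).lTensor K
        (((KaehlerDifferential.map ℤ R k k).baseChange A).lTensor K x) := by
  induction x using TensorProduct.induction_on with
  | zero => simp
  | add x y hx hy => simp only [map_add, hx, hy]
  | tmul c y =>
    rw [LinearMap.lTensor_tmul, LinearMap.lTensor_tmul, LinearMap.lTensor_tmul,
      LinearMap.lTensor_tmul]
    congr 1
    induction y using TensorProduct.induction_on with
    | zero => simp
    | add x y hx hy => simp only [map_add, hx, hy]
    | tmul a ω =>
      rw [mapBaseChange_tmul, LinearMap.baseChange_tmul, mapBaseChange_tmul, map_smul,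
        square_aux]

end Square

section Main

open IsLocalRing

variable {k A : Type u} [Field k] (p : ℕ) [Fact p.Prime] [CharP k p] [CommRing A] [IsLocalRing A]
  [Algebra k A] {ι : Type u} [Preorder ι] [IsDirected ι (fun a b => a ≤ b)] [Nonempty ι]
  (kα : ι → Subfield k)

theorem injective_of_eventually (hanti : Antitone kα)
    (hint : ⨅ α, (kα α ⊔ (frobenius k p).fieldRange) = (frobenius k p).fieldRange) (α₀ : ι)
    (h : ∀ α : ι, α₀ ≤ α →
      Function.Injective ((mapBaseChange (kα α) k A).lTensor (ResidueField A))) :
    Function.Injective ((mapBaseChange ℤ k A).lTensor (ResidueField A)) := by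
  rw [injective_iff_map_eq_zero]
  intro x hx
  apply eq_zero_of_forall_lTensor (ResidueField A) (S := {α // α₀ ≤ α})
    (N := fun s => Ω[k⁄kα s.1]) (fun s => KaehlerDifferential.map ℤ (kα s.1) k k)
  · intro m hm
    exact joint_kernel p kα hanti hint α₀ m (fun α hα => hm ⟨α, hα⟩)
  · intro s
    apply h s.1 s.2
    rw [map_zero, ← square, hx, map_zero]

end Main

end Groth.Agent.Lib.Helper26.AFSField
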