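import Mathlib
import Groth.Agent.Lib.Helper26.AFS1
import Groth.Agent.Lib.Helper26.AFS2

set_option autoImplicit false
universe u

namespace Groth.Agent.Lib.Helper26.AFSMain

theorem main {A B : Type u} [CommRing A] [CommRing B]
    [Algebra A B] (𝔍 : Ideal B) [Algebra.FormallySmooth A (B ⧸ 𝔍)] :
    CAlgX.IsAdicFormallySmooth A B 𝔍 ↔
      (Module.Projective (B ⧸ 𝔍) 𝔍.Cotangent ∧ PP16.SymGrBijective B 𝔍) :=
  ⟨fun h => AFS1.forward h, fun h => AFS2.backward 𝔍 h.1 h.2⟩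

end Groth.Agent.Lib.Helper26.AFSMain
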