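import Mathlib

set_option linter.style.haveILetI false
set_option linter.unusedVariables false

open CategoryTheory CategoryTheory.Limits ZeroObject

universe u v u' v'

namespace Groth.Agent.Helper26.Adapted

variable {A : Type u} [Category.{v} A] [Abelian A]

section Contr

/-- the contractible complex built from a sequence of objects -/
noncomputable def contr (W : ℕ → A) : CochainComplex A ℕ :=
  CochainComplex.of (fun j => W j ⊞ W (j + 1)) (fun j => biprod.snd ≫ biprod.inl)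
    (by intro j; simp)

lemma contr_d (W : ℕ → A) (j : ℕ) :
    (contr W).d j (j + 1) = biprod.snd ≫ biprod.inl := by
  simp [contr]

lemma exact_of_epi_mono_factor {X₁ X₂ X₃ Y₁ Y₃ : A} (p : X₁ ⟶ Y₁) (f' : Y₁ ⟶ X₂) (g' : X₂ ⟶ Y₃)
    (m : Y₃ ⟶ X₃) [Epi p] [Mono m] (w : f' ≫ g' = 0)
    (h : (ShortComplex.mk f' g' w).Exact) :
    (ShortComplex.mk (p ≫ f') (g' ≫ m) (by simp [reassoc_of% w])).Exact := by
  let S₁ : ShortComplex A := ShortComplex.mk (p ≫ f') (g' ≫ m) (by simp [reassoc_of% w])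
  let S' : ShortComplex A := ShortComplex.mk f' (g' ≫ m) (by simp [reassoc_of% w])
  let S'' : ShortComplex A := ShortComplex.mk f' g' w
  let φ₁ : S₁ ⟶ S' := { τ₁ := p, τ₂ := 𝟙 _, τ₃ := 𝟙 _ }
  let φ₂ : S'' ⟶ S' := { τ₁ := 𝟙 _, τ₂ := 𝟙 _, τ₃ := m }
  haveI : Epi φ₁.τ₁ := by dsimp [φ₁]; infer_instance
  haveI : IsIso φ₁.τ₂ := by dsimp [φ₁]; infer_instance
  haveI : Mono φ₁.τ₃ := by dsimp [φ₁]; infer_instance
  haveI : Epi φ₂.τ₁ := by dsimp [φ₂]; infer_instance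
  haveI : IsIso φ₂.τ₂ := by dsimp [φ₂]; infer_instance
  haveI : Mono φ₂.τ₃ := by dsimp [φ₂]; infer_instance
  have h' : S'.Exact := (ShortComplex.exact_iff_of_epi_of_isIso_of_mono φ₂).1 h
  exact (ShortComplex.exact_iff_of_epi_of_isIso_of_mono φ₁).2 h'

lemma isIso_snd_of_isZero {X Y : A} (h : IsZero X) : IsIso (biprod.snd : X ⊞ Y ⟶ Y) := by
  refine ⟨biprod.inr, ?_, by simp⟩
  apply biprod.hom_ext'
  · exact h.eq_of_src _ _
  · simp

lemma contr_acyclic (W : ℕ → A) (hW : IsZero (W 0)) : (contr W).Acyclic := by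
  intro j
  cases j with
  | zero =>
    rw [HomologicalComplex.exactAt_iff' _ 0 0 1 (by simp) (by simp)]
    have hf : ((contr W).sc' 0 0 1).f = 0 := (contr W).shape 0 0 (by simp)
    rw [ShortComplex.exact_iff_mono _ hf]
    change Mono ((contr W).d 0 1)
    rw [contr_d]
    haveI : IsIso (biprod.snd : W 0 ⊞ W 1 ⟶ W 1) := isIso_snd_of_isZero hW
    have hm : Mono (biprod.snd ≫ biprod.inl : W 0 ⊞ W 1 ⟶ W 1 ⊞ W 2) := mono_comp _ _
    exact hm
  | succ j =>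
    rw [HomologicalComplex.exactAt_iff' _ j (j + 1) (j + 2) (by simp) (by simp)]
    have h := (ShortComplex.Splitting.ofHasBinaryBiproduct (W (j + 1)) (W (j + 2))).exact
    have h2 := exact_of_epi_mono_factor (biprod.snd : W j ⊞ W (j + 1) ⟶ W (j + 1))
      (biprod.inl : W (j + 1) ⟶ W (j + 1) ⊞ W (j + 2)) biprod.snd
      (biprod.inl : W (j + 2) ⟶ W (j + 2) ⊞ W (j + 3)) (by simp) h
    have e1 : (contr W).d j (j + 1) = biprod.snd ≫ biprod.inl := contr_d W j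
    have e2 : (contr W).d (j + 1) (j + 2) = biprod.snd ≫ biprod.inl := contr_d W (j + 1)
    have key : ∀ (f : (contr W).X j ⟶ (contr W).X (j + 1))
        (g : (contr W).X (j + 1) ⟶ (contr W).X (j + 2)) (w : f ≫ g = 0),
        f = (contr W).d j (j + 1) → g = (contr W).d (j + 1) (j + 2) →
        (ShortComplex.mk f g w).Exact → ((contr W).sc' j (j + 1) (j + 2)).Exact := by
      intro f g w hf hg h
      subst hf hg
      exact h
    exact key _ _ _ e1.symm e2.symm h2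

end Contr

section Retract

variable {B : Type u'} [Category.{v'} B] [Abelian B]

lemma exactAt_of_retract {K L : CochainComplex B ℕ} (ι : L ⟶ K) (π : K ⟶ L) (h : ι ≫ π = 𝟙 L)
    (i : ℕ) (hK : K.ExactAt i) : L.ExactAt i := by
  rw [HomologicalComplex.exactAt_iff_isZero_homology] at hK ⊢
  rw [IsZero.iff_id_eq_zero]
  have h1 : HomologicalComplex.homologyMap ι i ≫ HomologicalComplex.homologyMap π i =
      𝟙 (L.homology i) := by
    rw [← HomologicalComplex.homologyMap_comp, h, HomologicalComplex.homologyMap_id]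
  rw [← h1, hK.eq_of_tgt (HomologicalComplex.homologyMap ι i) 0, zero_comp]

lemma acyclic_of_iso {K L : CochainComplex B ℕ} (e : K ≅ L) (hK : K.Acyclic) : L.Acyclic :=
  fun i => exactAt_of_retract e.inv e.hom e.inv_hom_id i (hK i)

lemma acyclic_biprod {K L : CochainComplex B ℕ} (hK : K.Acyclic) (hL : L.Acyclic) :
    (K ⊞ L).Acyclic := by
  intro i
  have hK' := (HomologicalComplex.exactAt_iff_isZero_homology _ _).1 (hK i)
  have hL' := (HomologicalComplex.exactAt_iff_isZero_homology _ _).1 (hL i)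
  rw [HomologicalComplex.exactAt_iff_isZero_homology, IsZero.iff_id_eq_zero]
  have h1 : 𝟙 (K ⊞ L) = biprod.fst ≫ biprod.inl + biprod.snd ≫ biprod.inr := biprod.total.symm
  rw [← HomologicalComplex.homologyMap_id, h1, HomologicalComplex.homologyMap_add,
    HomologicalComplex.homologyMap_comp, HomologicalComplex.homologyMap_comp,
    hK'.eq_of_tgt (HomologicalComplex.homologyMap (biprod.fst : K ⊞ L ⟶ K) i) 0,
    hL'.eq_of_tgt (HomologicalComplex.homologyMap (biprod.snd : K ⊞ L ⟶ L) i) 0,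
    zero_comp, zero_comp, add_zero]

end Retract

section Transport

variable {B : Type u'} [Category.{v'} B] [Abelian B] (f : A ⥤ B) [f.Additive]

/-- closure under isomorphisms -/
def Cl (𝒪 : ObjectProperty A) : ObjectProperty A := fun Z => ∃ Y, 𝒪 Y ∧ Nonempty (Z ≅ Y)

lemma cl_of_mem {𝒪 : ObjectProperty A} {Y : A} (h : 𝒪 Y) : Cl 𝒪 Y := ⟨Y, h, ⟨Iso.refl _⟩⟩

lemma cl_of_iso {𝒪 : ObjectProperty A} {Z Z' : A} (e : Z ≅ Z') (h : Cl 𝒪 Z') : Cl 𝒪 Z := by
  obtain ⟨Y, hY, ⟨a⟩⟩ := h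
  exact ⟨Y, hY, ⟨e ≪≫ a⟩⟩

lemma cl_biprod {𝒪 : ObjectProperty A} (h0 : ∀ X Y : A, 𝒪 X → 𝒪 Y → 𝒪 (X ⊞ Y)) {Z Z' : A}
    (h : Cl 𝒪 Z) (h' : Cl 𝒪 Z') : Cl 𝒪 (Z ⊞ Z') := by
  obtain ⟨Y, hY, ⟨a⟩⟩ := h
  obtain ⟨Y', hY', ⟨a'⟩⟩ := h'
  exact ⟨Y ⊞ Y', h0 _ _ hY hY', ⟨biprod.mapIso a a'⟩⟩

lemma h1_cl (𝒪 : ObjectProperty A)
    (h1 : ∀ K : CochainComplex A ℕ, (∀ i, 𝒪 (K.X i)) → K.Acyclic →
      ((f.mapHomologicalComplex (ComplexShape.up ℕ)).obj K).Acyclic)
    (K' : CochainComplex A ℕ) (hK' : ∀ i, Cl 𝒪 (K'.X i)) (hac : K'.Acyclic) :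
    ((f.mapHomologicalComplex (ComplexShape.up ℕ)).obj K').Acyclic := by
  choose Y hY α using hK'
  let α' : ∀ i, K'.X i ≅ Y i := fun i => (α i).some
  let K : CochainComplex A ℕ := CochainComplex.of Y
    (fun i => (α' i).inv ≫ K'.d i (i + 1) ≫ (α' (i + 1)).hom) (by intro i; simp)
  let e : K' ≅ K := HomologicalComplex.Hom.isoOfComponents (fun i => α' i) (by
    intro i j hij
    have : i + 1 = j := hij
    subst this
    simp [K])
  have hK : K.Acyclic := acyclic_of_iso e hac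
  have h2 := h1 K hY hK
  exact acyclic_of_iso ((f.mapHomologicalComplex (ComplexShape.up ℕ)).mapIso e.symm) h2

end Transport

section Main

variable {B : Type u'} [Category.{v'} B] [Abelian B] (f : A ⥤ B) [f.Additive]

/-- rearrangement of four summands -/
noncomputable def shuffle4 (a b c d : A) : (a ⊞ b) ⊞ (c ⊞ d) ≅ (c ⊞ a) ⊞ (d ⊞ b) where
  hom := biprod.lift (biprod.lift (biprod.snd ≫ biprod.fst) (biprod.fst ≫ biprod.fst))
    (biprod.lift (biprod.snd ≫ biprod.snd) (biprod.fst ≫ biprod.snd))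
  inv := biprod.lift (biprod.lift (biprod.fst ≫ biprod.snd) (biprod.snd ≫ biprod.snd))
    (biprod.lift (biprod.fst ≫ biprod.fst) (biprod.snd ≫ biprod.fst))
  hom_inv_id := by
    apply biprod.hom_ext <;> apply biprod.hom_ext <;> simp
  inv_hom_id := by
    apply biprod.hom_ext <;> apply biprod.hom_ext <;> simp

/-- rearrangement `e ⊞ (w ⊞ (q ⊞ s)) ≅ (e ⊞ q) ⊞ (w ⊞ s)` -/
noncomputable def shuffle3 (e w q s : A) : e ⊞ (w ⊞ (q ⊞ s)) ≅ (e ⊞ q) ⊞ (w ⊞ s) where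
  hom := biprod.lift (biprod.lift biprod.fst (biprod.snd ≫ biprod.snd ≫ biprod.fst))
    (biprod.lift (biprod.snd ≫ biprod.fst) (biprod.snd ≫ biprod.snd ≫ biprod.snd))
  inv := biprod.lift (biprod.fst ≫ biprod.fst)
    (biprod.lift (biprod.snd ≫ biprod.fst)
      (biprod.lift (biprod.fst ≫ biprod.snd) (biprod.snd ≫ biprod.snd)))
  hom_inv_id := by
    apply biprod.hom_ext
    · simp
    · apply biprod.hom_ext
      · simp
      · apply biprod.hom_ext <;> simp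
  inv_hom_id := by
    apply biprod.hom_ext <;> apply biprod.hom_ext <;> simp

/-- recursion data -/
structure Dat (𝒪 : ObjectProperty A) where
  W : A
  S : A
  h : Cl 𝒪 (W ⊞ S)

noncomputable def zeroBiprodIso (X : A) : (0 : A) ⊞ X ≅ X where
  hom := biprod.snd
  inv := biprod.inr
  hom_inv_id := by
    apply biprod.hom_ext'
    · exact (isZero_zero A).eq_of_src _ _
    · simp
  inv_hom_id := by simp

noncomputable def dat (𝒪 : ObjectProperty A) (h0 : ∀ X Y : A, 𝒪 X → 𝒪 Y → 𝒪 (X ⊞ Y))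
    (E Q : ℕ → A) (X₀ : A) (hX₀ : 𝒪 X₀) (hQ : ∀ j, Cl 𝒪 (E j ⊞ Q j)) : ℕ → Dat 𝒪
  | 0 => ⟨0, X₀, cl_of_iso (zeroBiprodIso X₀) (cl_of_mem hX₀)⟩
  | (j + 1) => ⟨Q j ⊞ (dat 𝒪 h0 E Q X₀ hX₀ hQ j).S, E j ⊞ (dat 𝒪 h0 E Q X₀ hX₀ hQ j).W,
      cl_of_iso (shuffle4 _ _ _ _) (cl_biprod h0 (hQ j) (dat 𝒪 h0 E Q X₀ hX₀ hQ j).h)⟩

theorem map_acyclic (𝒪 : ObjectProperty A) (h0 : ∀ X Y : A, 𝒪 X → 𝒪 Y → 𝒪 (X ⊞ Y))
    (h1 : ∀ K : CochainComplex A ℕ, (∀ i, 𝒪 (K.X i)) → K.Acyclic →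
      ((f.mapHomologicalComplex (ComplexShape.up ℕ)).obj K).Acyclic)
    (E : CochainComplex A ℕ) (hE : E.Acyclic) (X₀ : A) (hX₀ : 𝒪 X₀)
    (hsum : ∀ j, ∃ Q, Cl 𝒪 (E.X j ⊞ Q)) :
    ((f.mapHomologicalComplex (ComplexShape.up ℕ)).obj E).Acyclic := by
  choose Q hQ using hsum
  let D := dat 𝒪 h0 E.X Q X₀ hX₀ hQ
  let W : ℕ → A := fun j => (D j).W
  have hW0 : IsZero (W 0) := isZero_zero A
  let K := E ⊞ contr W
  have hK : K.Acyclic := acyclic_biprod hE (contr_acyclic W hW0)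
  have hKO : ∀ j, Cl 𝒪 (K.X j) := by
    intro j
    refine cl_of_iso (HomologicalComplex.biprodXIso E (contr W) j) ?_
    exact cl_of_iso (shuffle3 (E.X j) (W j) (Q j) (D j).S) (cl_biprod h0 (hQ j) (D j).h)
  have hfK := h1_cl f 𝒪 h1 K hKO hK
  intro i
  exact exactAt_of_retract ((f.mapHomologicalComplex (ComplexShape.up ℕ)).map biprod.inl)
    ((f.mapHomologicalComplex (ComplexShape.up ℕ)).map biprod.fst)
    (by rw [← Functor.map_comp, biprod.inl_fst, CategoryTheory.Functor.map_id]) i (hfK i)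

noncomputable def biprodZeroIso (X : A) : X ⊞ (0 : A) ≅ X where
  hom := biprod.fst
  inv := biprod.inl
  hom_inv_id := by
    apply biprod.hom_ext'
    · simp
    · exact (isZero_zero A).eq_of_src _ _
  inv_hom_id := by simp

theorem main [EnoughInjectives A] (𝒪 : ObjectProperty A)
    (h0 : ∀ X Y : A, 𝒪 X → 𝒪 Y → 𝒪 (X ⊞ Y))
    (h1 : ∀ K : CochainComplex A ℕ, (∀ i, 𝒪 (K.X i)) → K.Acyclic →
      ((f.mapHomologicalComplex (ComplexShape.up ℕ)).obj K).Acyclic)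
    (h2 : ∀ X : A, ∃ (Y : A) (i : X ⟶ Y), 𝒪 Y ∧ Mono i)
    (X : A) (hX : 𝒪 X) (n : ℕ) (hn : 0 < n) :
    IsZero ((f.rightDerived n).obj X) := by
  let I := injectiveResolution X
  let E := CochainComplex.augment I.cocomplex (I.ι.f 0) I.ι_f_zero_comp_complex_d
  have hE : E.Acyclic := by
    intro j
    rcases j with (_ | _ | j)
    · rw [HomologicalComplex.exactAt_iff' _ 0 0 1 (by simp) (by simp)]
      have hf : (E.sc' 0 0 1).f = 0 := E.shape 0 0 (by simp)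
      rw [ShortComplex.exact_iff_mono _ hf]
      change Mono (I.ι.f 0)
      infer_instance
    · rw [HomologicalComplex.exactAt_iff' _ 0 1 2 (by simp) (by simp)]
      exact I.exact₀
    · rw [HomologicalComplex.exactAt_iff' _ (j + 1) (j + 2) (j + 3) (by simp) (by simp)]
      exact I.exact_succ j
  have hsum : ∀ j, ∃ Q, Cl 𝒪 (E.X j ⊞ Q) := by
    intro j
    cases j with
    | zero => exact ⟨0, cl_of_iso (biprodZeroIso X) (cl_of_mem hX)⟩
    | succ j =>
      obtain ⟨Y, i, hY, hi⟩ := h2 (I.cocomplex.X j)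
      haveI : IsSplitMono i :=
        IsSplitMono.mk' ⟨Injective.factorThru (𝟙 _) i, Injective.comp_factorThru _ _⟩
      have hb := isBilimitBinaryBiconeOfIsSplitMonoOfCokernel (cokernelIsCokernel i)
      let e : Y ≅ I.cocomplex.X j ⊞ cokernel i := biprod.uniqueUpToIso _ _ hb
      exact ⟨cokernel i, cl_of_iso e.symm (cl_of_mem hY)⟩
  have hfE := map_acyclic f 𝒪 h0 h1 E hE X hX hsum
  obtain ⟨m, rfl⟩ : ∃ m, n = m + 1 := ⟨n - 1, by omega⟩
  refine IsZero.of_iso ?_ (I.isoRightDerivedObj f (m + 1))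
  change IsZero (((f.mapHomologicalComplex (ComplexShape.up ℕ)).obj I.cocomplex).homology (m + 1))
  rw [← HomologicalComplex.exactAt_iff_isZero_homology,
    HomologicalComplex.exactAt_iff' _ m (m + 1) (m + 2) (by simp) (by simp)]
  have h3 := (HomologicalComplex.exactAt_iff' _ (m + 1) (m + 2) (m + 3) (by simp) (by simp)).1
    (hfE (m + 2))
  exact h3

end Main

end Groth.Agent.Helper26.Adapted
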