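import Groth.Prelude.Def_W4c5adicflatcomplDec
import Mathlib

set_option autoImplicit false
universe u v w

namespace Groth.Agent.Helper26.AdicGen

open W4c5adicflatcompl

variable {A : Type u} [CommRing A] (I : Ideal A)
  {M : Type v} [AddCommGroup M] [Module A M] {Z : Type w} (m : Z → M)

lemma smul_top_A (n : ℕ) : (I ^ n • ⊤ : Submodule A A) = I ^ n := by
  rw [smul_eq_mul, Ideal.mul_top]

lemma approx_step (h : Submodule.span A (Set.range m) ⊔ I • ⊤ = ⊤) (n : ℕ) (x : M)
    (hx : x ∈ (I ^ n • ⊤ : Submodule A M)) :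
    ∃ c : Z →₀ A, (∀ z, c z ∈ I ^ n) ∧
      x - (c.sum fun z a => a • m z) ∈ (I ^ (n + 1) • ⊤ : Submodule A M) := by
  have h1 : (I ^ n • ⊤ : Submodule A M) =
      I ^ n • Submodule.span A (Set.range m) ⊔ I ^ (n + 1) • ⊤ := by
    conv_lhs => rw [← h]
    rw [Submodule.smul_sup, ← Submodule.smul_assoc, smul_eq_mul, ← pow_succ]
  rw [h1, Submodule.mem_sup] at hx
  obtain ⟨y, hy, z, hz, hyz⟩ := hx
  rw [Submodule.mem_ideal_smul_span_iff_exists_sum] at hy
  obtain ⟨c, hc, hcy⟩ := hy
  refine ⟨c, hc, ?_⟩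
  rw [hcy, ← hyz, add_sub_cancel_left]
  exact hz

end Groth.Agent.Helper26.AdicGen

namespace Groth.Agent.Helper26.AdicGen

open W4c5adicflatcompl

variable {A : Type u} [CommRing A] (I : Ideal A)
  {M : Type v} [AddCommGroup M] [Module A M] {Z : Type w} (m : Z → M)

theorem forward [IsPrecomplete I A] (h : Submodule.span A (Set.range m) ⊔ I • ⊤ = ⊤) (x : M) :
    ∃ g : Z → A, g ∈ decaying I Z A ∧
        ∀ n : ℕ, ∃ S : Finset Z,
          (∀ z, z ∉ S → g z • m z ∈ (I ^ n • ⊤ : Submodule A M)) ∧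
          x - (∑ z ∈ S, g z • m z) ∈ (I ^ n • ⊤ : Submodule A M) := by
  classical
  -- one step, made total
  have step : ∀ (k : ℕ) (y : M), ∃ c : Z →₀ A, y ∈ (I ^ k • ⊤ : Submodule A M) →
      ((∀ z, c z ∈ I ^ k) ∧ y - (c.sum fun z a => a • m z) ∈ (I ^ (k + 1) • ⊤ : Submodule A M)) := by
    intro k y
    by_cases hy : y ∈ (I ^ k • ⊤ : Submodule A M)
    · obtain ⟨c, hc1, hc2⟩ := approx_step I m h k y hy
      exact ⟨c, fun _ => ⟨hc1, hc2⟩⟩
    · exact ⟨0, fun hy' => absurd hy' hy⟩
  choose C hC using step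
  let X : ℕ → M := fun k => Nat.rec x (fun k xk => xk - ((C k xk).sum fun z a => a • m z)) k
  have hX0 : X 0 = x := rfl
  have hXs : ∀ k, X (k + 1) = X k - ((C k (X k)).sum fun z a => a • m z) := fun k => rfl
  have hXmem : ∀ k, X k ∈ (I ^ k • ⊤ : Submodule A M) := by
    intro k
    induction k with
    | zero => rw [pow_zero, Ideal.one_eq_top, Submodule.top_smul]; exact Submodule.mem_top
    | succ k ih => rw [hXs]; exact (hC k (X k) ih).2
  let c : ℕ → Z →₀ A := fun k => C k (X k)
  have hc : ∀ k z, c k z ∈ I ^ k := fun k z => (hC k (X k) (hXmem k)).1 z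
  have htel : ∀ n, x - ∑ k ∈ Finset.range n, ((c k).sum fun z a => a • m z) = X n := by
    intro n
    induction n with
    | zero => simp [hX0]
    | succ n ih => rw [Finset.sum_range_succ, ← sub_sub, ih, hXs]
  let s : ℕ → Z → A := fun n z => ∑ k ∈ Finset.range n, c k z
  have hs_succ : ∀ n z, s (n + 1) z = s n z + c n z := fun n z => Finset.sum_range_succ _ _
  have hcauchy : ∀ z {a b : ℕ}, a ≤ b → s a z ≡ s b z [SMOD (I ^ a • ⊤ : Submodule A A)] := by
    intro z a b hab
    induction b, hab using Nat.le_induction with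
    | base => exact SModEq.refl _
    | succ b hab ih =>
      refine ih.trans ?_
      rw [SModEq.sub_mem, hs_succ, sub_add_cancel_left, smul_top_A]
      exact (Ideal.neg_mem_iff _).2 (Ideal.pow_le_pow_right hab (hc b z))
  have hlim : ∀ z, ∃ L : A, ∀ n, s n z ≡ L [SMOD (I ^ n • ⊤ : Submodule A A)] :=
    fun z => IsPrecomplete.prec' (fun n => s n z) (fun hab => hcauchy z hab)
  choose g hg using hlim
  -- the finite sets
  let S : ℕ → Finset Z := fun n => (Finset.range n).biUnion fun k => (c k).support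
  have hS : ∀ n z, z ∉ S n → s n z = 0 := by
    intro n z hz
    apply Finset.sum_eq_zero
    intro k hk
    by_contra hne
    exact hz (Finset.mem_biUnion.2 ⟨k, hk, Finsupp.mem_support_iff.2 hne⟩)
  have hgmem : ∀ n z, z ∉ S n → g z ∈ (I ^ n • ⊤ : Submodule A A) := by
    intro n z hz
    have := hg z n
    rw [hS n z hz, SModEq.sub_mem, zero_sub] at this
    exact (Submodule.neg_mem_iff _).1 this
  refine ⟨g, ?_, ?_⟩
  · rw [mem_decaying_iff]
    intro n
    refine (S n).finite_toSet.subset ?_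
    intro z hz
    by_contra hzS
    exact hz (hgmem n z hzS)
  · intro n
    refine ⟨S n, ?_, ?_⟩
    · intro z hz
      have := hgmem n z hz
      rw [smul_top_A] at this
      exact Submodule.smul_mem_smul this Submodule.mem_top
    · have e1 : ∀ k ∈ Finset.range n, ((c k).sum fun z a => a • m z) = ∑ z ∈ S n, c k z • m z := by
        intro k hk
        rw [Finsupp.sum]
        apply Finset.sum_subset
        · intro z hz
          exact Finset.mem_biUnion.2 ⟨k, hk, hz⟩
        · intro z _ hz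
          rw [Finsupp.notMem_support_iff.1 hz, zero_smul]
      have e2 : ∑ z ∈ S n, s n z • m z = ∑ k ∈ Finset.range n, ((c k).sum fun z a => a • m z) := by
        rw [Finset.sum_congr rfl e1, Finset.sum_comm]
        apply Finset.sum_congr rfl
        intro z _
        rw [Finset.sum_smul]
      have e3 : x - ∑ z ∈ S n, g z • m z =
          X n - ∑ z ∈ S n, (g z - s n z) • m z := by
        rw [← htel n, ← e2, sub_sub, ← Finset.sum_add_distrib]
        congr 1
        apply Finset.sum_congr rfl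
        intro z _
        rw [← add_smul, add_sub_cancel]
      rw [e3]
      apply Submodule.sub_mem _ (hXmem n)
      apply Submodule.sum_mem
      intro z _
      have := hg z n
      rw [SModEq.sub_mem, smul_top_A] at this
      have h2 : g z - s n z ∈ I ^ n := by
        rw [← neg_sub]; exact (Ideal.neg_mem_iff _).2 this
      exact Submodule.smul_mem_smul h2 Submodule.mem_top

theorem backward
    (h : ∀ x : M, ∃ g : Z → A, g ∈ decaying I Z A ∧
        ∀ n : ℕ, ∃ S : Finset Z,
          (∀ z, z ∉ S → g z • m z ∈ (I ^ n • ⊤ : Submodule A M)) ∧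
          x - (∑ z ∈ S, g z • m z) ∈ (I ^ n • ⊤ : Submodule A M)) :
    Submodule.span A (Set.range m) ⊔ I • ⊤ = ⊤ := by
  rw [eq_top_iff]
  intro x _
  obtain ⟨g, _, hg⟩ := h x
  obtain ⟨S, _, hS⟩ := hg 1
  rw [pow_one] at hS
  have : x = (∑ z ∈ S, g z • m z) + (x - ∑ z ∈ S, g z • m z) := by abel
  rw [this]
  apply Submodule.add_mem_sup _ hS
  apply Submodule.sum_mem
  intro z _
  exact Submodule.smul_mem _ _ (Submodule.subset_span ⟨z, rfl⟩)

end Groth.Agent.Helper26.AdicGen
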