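import Groth.Prelude.Def_W4c5adicflatcomplDec
import Mathlib
import Groth.Agent.Lib.Helper26.AdicGen

set_option autoImplicit false
universe u v w

namespace Groth.Agent.Helper26.DecRed

open W4c5adicflatcompl Groth.Agent.Helper26.AdicGen

variable {A : Type u} [CommRing A] (I : Ideal A) (Z : Type v)

lemma lift_finsupp (n : ℕ) (g : Z →₀ A ⧸ I ^ n) :
    ∃ f : decaying I Z A, ∀ z, Ideal.Quotient.mk (I ^ n) ((f : Z → A) z) = g z := by
  classical
  have hsurj : ∀ q : A ⧸ I ^ n, ∃ a : A, Ideal.Quotient.mk (I ^ n) a = q :=
    Ideal.Quotient.mk_surjective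
  choose lift hlift using hsurj
  let f : Z → A := fun z => if z ∈ g.support then lift (g z) else 0
  have hf : f ∈ decaying I Z A := by
    rw [mem_decaying_iff]
    intro k
    refine g.support.finite_toSet.subset ?_
    intro z hz
    by_contra hzs
    apply hz
    have : f z = 0 := if_neg hzs
    rw [this]
    exact Submodule.zero_mem _
  refine ⟨⟨f, hf⟩, fun z => ?_⟩
  change Ideal.Quotient.mk (I ^ n) (f z) = g z
  by_cases hz : z ∈ g.support
  · simp only [f, if_pos hz, hlift]
  · simp only [f, if_neg hz, map_zero]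
    exact (Finsupp.notMem_support_iff.1 hz).symm

lemma mem_of_mem_smul (n : ℕ) (f : decaying I Z A)
    (hf : f ∈ (I ^ n • ⊤ : Submodule A (decaying I Z A))) (z : Z) : (f : Z → A) z ∈ I ^ n := by
  let ev : decaying I Z A →ₗ[A] A := (LinearMap.proj z).comp (decaying I Z A).subtype
  have h1 : ev f ∈ Submodule.map ev (I ^ n • ⊤ : Submodule A (decaying I Z A)) :=
    Submodule.mem_map_of_mem hf
  rw [Submodule.map_smul''] at h1
  have h2 : ev f ∈ (I ^ n • ⊤ : Submodule A A) := Submodule.smul_mono le_rfl le_top h1
  rw [smul_top_A] at h2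
  exact h2

theorem mem_smul_of_mem [IsNoetherianRing A] [IsHausdorff I A] (n : ℕ) (f : decaying I Z A)
    (hf : ∀ z, (f : Z → A) z ∈ I ^ n) : f ∈ (I ^ n • ⊤ : Submodule A (decaying I Z A)) := by
  classical
  obtain ⟨s, hs⟩ := (isNoetherianRing_iff_ideal_fg A).1 inferInstance (I ^ n)
  have hspan : Submodule.span A (Set.range (Subtype.val : s → A)) = I ^ n := by
    rw [Subtype.range_coe]; exact hs
  -- pointwise decomposition
  have key : ∀ z : Z, ∃ h : s →₀ A, (h.sum fun i c => c • (i : A)) = (f : Z → A) z ∧
      ∀ N : ℕ, (f : Z → A) z ∈ I ^ (n + N) → ∀ i, h i ∈ I ^ N := by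
    intro z
    by_cases hall : ∀ N : ℕ, (f : Z → A) z ∈ I ^ (n + N)
    · have h0 : (f : Z → A) z = 0 := by
        apply IsHausdorff.haus (inferInstance : IsHausdorff I A)
        intro k
        rw [SModEq.zero, smul_top_A]
        exact Ideal.pow_le_pow_right (Nat.le_add_left k n) (hall k)
      exact ⟨0, by simp [h0], fun N _ i => by simp⟩
    · push Not at hall
      have hspec := Nat.find_spec hall
      have hmin := fun {k : ℕ} (hk : k < Nat.find hall) => Nat.find_min hall hk
      set N0 := Nat.find hall with hN0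
      have hN0pos : N0 ≠ 0 := by
        intro h
        rw [h, add_zero] at hspec
        exact hspec (hf z)
      have hmem : (f : Z → A) z ∈ I ^ (n + (N0 - 1)) := by
        have := hmin (k := N0 - 1) (by omega)
        simpa using this
      rw [pow_add, mul_comm, ← smul_eq_mul, ← hspan] at hmem
      have hmem' : (f : Z → A) z ∈ I ^ (N0 - 1) • Submodule.span A (Set.range (Subtype.val : s → A)) :=
        hmem
      rw [Submodule.mem_ideal_smul_span_iff_exists_sum] at hmem'
      obtain ⟨c, hc, hcz⟩ := hmem'
      refine ⟨c, hcz, ?_⟩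
      intro N hN i
      have hlt : N < N0 := by
        by_contra hge
        push Not at hge
        exact hspec (Ideal.pow_le_pow_right (by omega) hN)
      exact Ideal.pow_le_pow_right (by omega) (hc i)
  choose h hh1 hh2 using key
  -- the coefficient functions are decaying
  have hdec : ∀ i : s, (fun z => h z i) ∈ decaying I Z A := by
    intro i
    rw [mem_decaying_iff]
    intro N
    refine (f.2 (n + N)).subset ?_
    intro z hz hz'
    apply hz
    rw [smul_top_A] at hz' ⊢
    exact hh2 z N hz' i
  have hfeq : f = ∑ i : s, (i : A) • (⟨fun z => h z i, hdec i⟩ : decaying I Z A) := by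
    apply Subtype.ext
    funext z
    rw [← hh1 z]
    simp only [Submodule.coe_sum, Submodule.coe_smul, Finset.sum_apply, Pi.smul_apply,
      smul_eq_mul]
    rw [Finsupp.sum_fintype _ _ (fun i => by simp)]
    apply Finset.sum_congr rfl
    intro i _
    rw [mul_comm]
  rw [hfeq]
  apply Submodule.sum_mem
  intro i _
  apply Submodule.smul_mem_smul _ Submodule.mem_top
  rw [← hs]
  exact Submodule.subset_span i.2

end Groth.Agent.Helper26.DecRed
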