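import Groth.Prelude.Def_W4c5adicflatcomplDec
import Mathlib
import Groth.Agent.Lib.Helper26.DecRed

set_option autoImplicit false
universe u v w

namespace Groth.Agent.Helper26.DecRed

open W4c5adicflatcompl Groth.Agent.Helper26.AdicGen

variable {A : Type u} [CommRing A] (I : Ideal A) (Z : Type v)

theorem isHausdorff_dec [IsHausdorff I A] : IsHausdorff I (decaying I Z A) := by
  refine ⟨fun f hf => ?_⟩
  apply Subtype.ext
  funext z
  apply IsHausdorff.haus (inferInstance : IsHausdorff I A)
  intro n
  rw [SModEq.zero, smul_top_A]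
  exact mem_of_mem_smul I Z n f (SModEq.zero.mp (hf n)) z

theorem isPrecomplete_dec [IsNoetherianRing A] [IsAdicComplete I A] :
    IsPrecomplete I (decaying I Z A) := by
  refine ⟨fun F hF => ?_⟩
  have hpt : ∀ z {a b : ℕ}, a ≤ b →
      ((F a : decaying I Z A) : Z → A) z ≡ ((F b : decaying I Z A) : Z → A) z
        [SMOD (I ^ a • ⊤ : Submodule A A)] := by
    intro z a b hab
    have h1 := hF hab
    rw [SModEq.sub_mem] at h1 ⊢
    rw [smul_top_A]
    exact mem_of_mem_smul I Z a _ h1 z
  have hlim : ∀ z, ∃ L : A, ∀ n, ((F n : decaying I Z A) : Z → A) z ≡ L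
      [SMOD (I ^ n • ⊤ : Submodule A A)] :=
    fun z => IsPrecomplete.prec' (fun n => ((F n : decaying I Z A) : Z → A) z)
      (fun hab => hpt z hab)
  choose L hL using hlim
  have hLdec : L ∈ decaying I Z A := by
    rw [mem_decaying_iff]
    intro N
    refine ((F N).2 N).subset ?_
    intro z hz hz'
    apply hz
    have := hL z N
    rw [SModEq.sub_mem] at this
    have h2 := Submodule.sub_mem _ hz' this
    rwa [sub_sub_cancel] at h2
  refine ⟨⟨L, hLdec⟩, fun n => ?_⟩
  rw [SModEq.sub_mem]
  apply mem_smul_of_mem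
  intro z
  have := hL z n
  rw [SModEq.sub_mem, smul_top_A] at this
  exact this

end Groth.Agent.Helper26.DecRed
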