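import Mathlib

set_option autoImplicit false
universe u v w

namespace Groth.Agent.Helper26.FlatKer

variable {A : Type u} [CommRing A] {D : Type v} [AddCommGroup D] [Module A D]
  {M : Type w} [AddCommGroup M] [Module A M]

/-- if `D/K = M` is flat then `K ∩ J D = J K`. -/
theorem ker_inf_smul_le (φ : D →ₗ[A] M) (hφ : Function.Surjective φ) [Module.Flat A M]
    (J : Ideal A) :
    LinearMap.ker φ ⊓ J • (⊤ : Submodule A D) ≤ J • LinearMap.ker φ := by
  classical
  rintro x ⟨hxK, hxJ⟩
  have htop : (⊤ : Submodule A D) = Submodule.span A (Set.range (id : D → D)) := by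
    rw [Set.range_id, Submodule.span_univ]
  rw [SetLike.mem_coe, htop, Submodule.mem_ideal_smul_span_iff_exists_sum] at hxJ
  obtain ⟨c, hc, hcx⟩ := hxJ
  -- relation in M
  have hrel : ∑ i : c.support, c i • φ (i : D) = 0 := by
    have h1 : φ x = 0 := hxK
    rw [← hcx, Finsupp.sum, map_sum] at h1
    rw [← h1, ← Finset.sum_coe_sort c.support (fun i => φ (c i • id i))]
    apply Finset.sum_congr rfl
    intro i _
    rw [map_smul]
    rfl
  obtain ⟨k, a, y, hy1, hy2⟩ := Module.Flat.isTrivialRelation_of_sum_smul_eq_zero hrel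
  replace hy1 : ∀ i : c.support, φ (i : D) = ∑ j, a i j • y j := hy1
  replace hy2 : ∀ j : Fin k, ∑ i : c.support, c i * a i j = 0 := hy2
  choose yt hyt using fun j => hφ (y j)
  let κ : c.support → D := fun i => (i : D) - ∑ j, a i j • yt j
  have hκ : ∀ i, κ i ∈ LinearMap.ker φ := by
    intro i
    rw [LinearMap.mem_ker, map_sub, map_sum, hy1 i, sub_eq_zero]
    apply Finset.sum_congr rfl
    intro j _
    rw [map_smul, hyt]
  have hx : x = ∑ i : c.support, c i • κ i := by
    have e1 : ∑ i : c.support, c i • κ i =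
        ∑ i : c.support, c i • (i : D) - ∑ j, (∑ i : c.support, c i * a i j) • yt j := by
      simp only [κ, smul_sub, Finset.sum_sub_distrib, Finset.smul_sum, Finset.sum_smul, smul_smul]
      rw [Finset.sum_comm]
    rw [e1]
    simp only [hy2, zero_smul, Finset.sum_const_zero, sub_zero]
    rw [← hcx, Finsupp.sum, ← Finset.sum_coe_sort c.support (fun i => c i • id i)]
    rfl
  rw [hx]
  exact Submodule.sum_mem _ fun i _ => Submodule.smul_mem_smul (hc i) (hκ i)

end Groth.Agent.Helper26.FlatKer
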