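import Groth.Prelude.Def_W4c5adicflatcomplDec
import Mathlib
import Groth.Agent.Lib.Helper26.FlatKer
import Groth.Agent.Lib.Helper26.DecSum
import Groth.Agent.Lib.Helper26.AdicGen
import Groth.Agent.Lib.Helper26.DecRed2

set_option autoImplicit false
universe u v w

namespace Groth.Agent.Helper26.AdicFree

open W4c5adicflatcompl Groth.Agent.Helper26.DecSum

/-- transport of decaying functions along a linear equivalence of the value module. -/
noncomputable def decCongr {A : Type u} [CommRing A] (I : Ideal A) (Z : Type v)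
    {N : Type w} [AddCommGroup N] [Module A N] {N' : Type*} [AddCommGroup N'] [Module A N']
    (e : N ≃ₗ[A] N') : decaying I Z N ≃ₗ[A] decaying I Z N' where
  toFun g := ⟨fun z => e ((g : Z → N) z), fun n => (g.2 n).subset fun z hz hz' =>
    hz (map_mem I e.toLinearMap n hz')⟩
  invFun g := ⟨fun z => e.symm ((g : Z → N') z), fun n => (g.2 n).subset fun z hz hz' =>
    hz (map_mem I e.symm.toLinearMap n hz')⟩
  map_add' g h := by
    apply Subtype.ext
    funext z
    simp
  map_smul' a g := by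
    apply Subtype.ext
    funext z
    simp
  left_inv g := by
    apply Subtype.ext
    funext z
    simp
  right_inv g := by
    apply Subtype.ext
    funext z
    simp

end Groth.Agent.Helper26.AdicFree

namespace Groth.Agent.Helper26.AdicFree

open W4c5adicflatcompl Groth.Agent.Helper26.DecSum

variable {A : Type u} [CommRing A] [IsNoetherianRing A] (𝔪 : Ideal A) [𝔪.IsMaximal]
  [IsAdicComplete 𝔪 A] (M : Type v) [AddCommGroup M] [Module A M]

theorem free_of_flat_complete [Module.Flat A M] [IsAdicComplete 𝔪 M] :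
    ∃ Z : Type v, Nonempty (decaying 𝔪 Z A ≃ₗ[A] M) := by
  classical
  let _ : Field (A ⧸ 𝔪) := Ideal.Quotient.field 𝔪
  let V := M ⧸ (𝔪 • ⊤ : Submodule A M)
  let Z := Module.Free.ChooseBasisIndex (A ⧸ 𝔪) V
  let b : Module.Basis Z (A ⧸ 𝔪) V := Module.Free.chooseBasis (A ⧸ 𝔪) V
  choose m hm using fun z : Z => Submodule.Quotient.mk_surjective (𝔪 • ⊤ : Submodule A M) (b z)
  -- generation modulo 𝔪
  have hgen : Submodule.span A (Set.range m) ⊔ 𝔪 • ⊤ = ⊤ := by
    rw [eq_top_iff]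
    intro x _
    obtain ⟨c, h1⟩ : ∃ c : Z →₀ A ⧸ 𝔪, (Submodule.Quotient.mk x : V) =
        ∑ z ∈ c.support, c z • b z := by
      refine ⟨b.repr (Submodule.Quotient.mk x), ?_⟩
      conv_lhs => rw [← b.linearCombination_repr (Submodule.Quotient.mk x)]
      rw [Finsupp.linearCombination_apply, Finsupp.sum]
    choose a ha using fun q : A ⧸ 𝔪 => Ideal.Quotient.mk_surjective q
    have h2 : (Submodule.Quotient.mk x : V) = Submodule.Quotient.mk
        (∑ z ∈ c.support, a (c z) • m z) := by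
      rw [h1, ← Submodule.mkQ_apply (p := (𝔪 • ⊤ : Submodule A M)), map_sum]
      apply Finset.sum_congr rfl
      intro z _
      rw [Submodule.mkQ_apply, ← Module.Quotient.mk_smul_mk, ha, hm]
    rw [Submodule.Quotient.eq] at h2
    have h3 : x = (∑ z ∈ c.support, a (c z) • m z) + (x - ∑ z ∈ c.support, a (c z) • m z) := by
      abel
    rw [h3]
    apply Submodule.add_mem_sup _ h2
    exact Submodule.sum_mem _ fun z _ =>
      Submodule.smul_mem _ _ (Submodule.subset_span ⟨z, rfl⟩)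
  let ψ : Z → A →ₗ[A] M := fun z => LinearMap.toSpanSingleton A M (m z)
  let φ : decaying 𝔪 Z A →ₗ[A] M := dsum 𝔪 ψ
  -- surjectivity
  have hsurj : Function.Surjective φ := by
    intro x
    obtain ⟨g, hg, hgx⟩ := Groth.Agent.Helper26.AdicGen.forward 𝔪 m hgen x
    refine ⟨⟨g, hg⟩, ?_⟩
    rw [← sub_eq_zero]
    apply IsHausdorff.haus (inferInstance : IsHausdorff 𝔪 M)
    intro n
    rw [SModEq.zero]
    obtain ⟨S, hS1, hS2⟩ := hgx n
    obtain ⟨S', hS'1, hS'2⟩ := dsum_spec 𝔪 ψ ⟨g, hg⟩ n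
    have hS'1' : ∀ z, z ∉ S' → g z • m z ∈ (𝔪 ^ n • ⊤ : Submodule A M) := by
      intro z hz
      have := map_mem 𝔪 (ψ z) n (hS'1 z hz)
      simpa [ψ] using this
    have e1 : ∑ z ∈ S ∪ S', g z • m z - ∑ z ∈ S, g z • m z ∈ (𝔪 ^ n • ⊤ : Submodule A M) := by
      rw [← Finset.sum_sdiff (Finset.subset_union_left (s₁ := S) (s₂ := S')), add_sub_cancel_right]
      apply Submodule.sum_mem
      intro z hz
      exact hS1 z (Finset.mem_sdiff.1 hz).2
    have e2 : ∑ z ∈ S ∪ S', g z • m z - ∑ z ∈ S', g z • m z ∈ (𝔪 ^ n • ⊤ : Submodule A M) := by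
      rw [← Finset.sum_sdiff (Finset.subset_union_right (s₁ := S) (s₂ := S')), add_sub_cancel_right]
      apply Submodule.sum_mem
      intro z hz
      exact hS'1' z (Finset.mem_sdiff.1 hz).2
    have hS'2' : φ ⟨g, hg⟩ - ∑ z ∈ S', g z • m z ∈ (𝔪 ^ n • ⊤ : Submodule A M) := by
      simpa [ψ] using hS'2
    have : φ ⟨g, hg⟩ - x = (φ ⟨g, hg⟩ - ∑ z ∈ S', g z • m z) - (x - ∑ z ∈ S, g z • m z)
        - (∑ z ∈ S ∪ S', g z • m z - ∑ z ∈ S', g z • m z)
        + (∑ z ∈ S ∪ S', g z • m z - ∑ z ∈ S, g z • m z) := by abel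
    rw [this]
    exact Submodule.add_mem _ (Submodule.sub_mem _ (Submodule.sub_mem _ hS'2' hS2) e2) e1
  -- kernel is contained in 𝔪 D
  have hker1 : LinearMap.ker φ ≤ (𝔪 • ⊤ : Submodule A (decaying 𝔪 Z A)) := by
    intro g hg
    rw [LinearMap.mem_ker] at hg
    obtain ⟨S, hS1, hS2⟩ := dsum_spec 𝔪 ψ g 1
    have hS2' : ∑ z ∈ S, (g : Z → A) z • m z ∈ (𝔪 • ⊤ : Submodule A M) := by
      have : dsum 𝔪 ψ g = 0 := hg
      rw [this, zero_sub, pow_one] at hS2
      have := (Submodule.neg_mem_iff _).1 hS2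
      simpa [ψ] using this
    have h0 : ∑ z ∈ S, (Ideal.Quotient.mk 𝔪 ((g : Z → A) z)) • b z = 0 := by
      rw [← Submodule.Quotient.mk_eq_zero, ← Submodule.mkQ_apply, map_sum] at hS2'
      rw [← hS2']
      apply Finset.sum_congr rfl
      intro z _
      rw [Submodule.mkQ_apply, ← Module.Quotient.mk_smul_mk, hm]
    have hli := linearIndependent_iff'.1 b.linearIndependent S
      (fun z => Ideal.Quotient.mk 𝔪 ((g : Z → A) z)) h0
    have hall : ∀ z, (g : Z → A) z ∈ 𝔪 ^ 1 := by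
      intro z
      rw [pow_one]
      by_cases hz : z ∈ S
      · exact Ideal.Quotient.eq_zero_iff_mem.1 (hli z hz)
      · have := hS1 z hz
        rwa [Groth.Agent.Helper26.AdicGen.smul_top_A, pow_one] at this
    have := Groth.Agent.Helper26.DecRed.mem_smul_of_mem 𝔪 Z 1 g hall
    rwa [pow_one] at this
  -- kernel = 𝔪 • kernel
  have hker2 : LinearMap.ker φ ≤ 𝔪 • LinearMap.ker φ := by
    intro g hg
    exact Groth.Agent.Helper26.FlatKer.ker_inf_smul_le φ hsurj 𝔪 ⟨hg, hker1 hg⟩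
  have hker3 : ∀ n : ℕ, LinearMap.ker φ ≤ (𝔪 ^ n • ⊤ : Submodule A (decaying 𝔪 Z A)) := by
    intro n
    induction n with
    | zero => rw [pow_zero, Ideal.one_eq_top, Submodule.top_smul]; exact le_top
    | succ n ih =>
      refine hker2.trans ?_
      rw [pow_succ', Submodule.mul_smul]
      exact Submodule.smul_mono le_rfl ih
  have hD : IsHausdorff 𝔪 (decaying 𝔪 Z A) := Groth.Agent.Helper26.DecRed.isHausdorff_dec 𝔪 Z
  have hinj : Function.Injective φ := by
    rw [← LinearMap.ker_eq_bot, eq_bot_iff]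
    intro g hg
    rw [Submodule.mem_bot]
    apply hD.haus
    intro n
    rw [SModEq.zero]
    exact hker3 n hg
  exact ⟨Z, ⟨LinearEquiv.ofBijective φ ⟨hinj, hsurj⟩⟩⟩

end Groth.Agent.Helper26.AdicFree
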