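import Mathlib
import Groth.Agent.Lib.Helper26.AdicPi

namespace Groth.Agent.Helper26.AdicHom

universe u

theorem main (A : Type u) [CommRing A] (I : Ideal A)
    [IsAdicComplete I A] (P Q : Type u) [AddCommGroup P] [Module A P] [Module.Finite A P]
    [Module.Projective A P] [AddCommGroup Q] [Module A Q] [Module.Finite A Q] [Module.Projective A Q] :
    (∀ f f' : P →ₗ[A] Q, (∀ n : ℕ, f.reduceModIdeal (I ^ n) = f'.reduceModIdeal (I ^ n)) → f = f') ∧
    (∀ g : ∀ n : ℕ, P ⧸ (I ^ n • ⊤ : Submodule A P) →ₗ[A] Q ⧸ (I ^ n • ⊤ : Submodule A Q),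
      (∀ n : ℕ, AdicCompletion.transitionMap I Q (Nat.le_succ n) ∘ₗ g (n + 1) =
        g n ∘ₗ AdicCompletion.transitionMap I P (Nat.le_succ n)) →
      ∃ f : P →ₗ[A] Q, ∀ n : ℕ, f.reduceModIdeal (I ^ n) = g n) := by
  have hQ : IsAdicComplete I Q := Groth.Agent.Helper26.AdicPi.isAdicComplete_of_finite_projective I Q
  constructor
  · intro f f' h
    ext p
    rw [← sub_eq_zero]
    apply IsHausdorff.haus (inferInstance : IsHausdorff I Q)
    intro n
    rw [SModEq.zero, ← Submodule.Quotient.mk_eq_zero, Submodule.Quotient.mk_sub, sub_eq_zero]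
    have := congrArg (fun φ => φ (Submodule.Quotient.mk p)) (h n)
    simpa using this
  · intro g hg
    let h : ∀ n, P →ₗ[A] Q ⧸ (I ^ n • ⊤ : Submodule A Q) := fun n => g n ∘ₗ Submodule.mkQ _
    have hsucc : ∀ {m : ℕ}, Submodule.factorPow I Q (strictMono_id.monotone m.le_succ) ∘ₗ h (m + 1) = h m := by
      intro m
      ext p
      have := congrArg (fun φ => φ (Submodule.Quotient.mk p)) (hg m)
      simpa [h] using this
    have hcompat : ∀ {m n : ℕ} (hle : m ≤ n), Submodule.factorPow I Q hle ∘ₗ h n = h m := by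
      intro m n hle
      exact IsAdicComplete.StrictMono.factorPow_comp_eq_of_factorPow_comp_succ_eq strictMono_id h hsucc hle
    refine ⟨IsAdicComplete.lift I h hcompat, fun n => ?_⟩
    ext x
    simp only [LinearMap.coe_comp, Function.comp_apply, Submodule.mkQ_apply,
      LinearMap.coe_restrictScalars, LinearMap.reduceModIdeal_apply]
    rw [IsAdicComplete.mk_lift]
    rfl

end Groth.Agent.Helper26.AdicHom
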