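import Mathlib

set_option autoImplicit false
universe u v w

namespace Groth.Agent.Helper26.AdicIso

variable {B : Type u} [CommRing B] (J : Ideal B) {F : Type v} {Q : Type w}
  [AddCommGroup F] [Module B F] [AddCommGroup Q] [Module B Q]

lemma map_val (α : F →ₗ[B] Q) (ξ : AdicCompletion J F) (n : ℕ) (u : F)
    (hu : Submodule.Quotient.mk u = ξ.val n) :
    (AdicCompletion.map J α ξ).val n = Submodule.Quotient.mk (α u) := by
  rw [AdicCompletion.map_val_apply, ← hu]
  rfl

theorem map_bijective (α : F →ₗ[B] Q)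
    (hinj : ∀ (n : ℕ) (u : F), α u ∈ (J ^ n • ⊤ : Submodule B Q) →
      u ∈ (J ^ n • ⊤ : Submodule B F))
    (hsurj : ∀ (n : ℕ) (q : Q), ∃ u : F, q - α u ∈ (J ^ n • ⊤ : Submodule B Q)) :
    Function.Bijective (AdicCompletion.map J α) := by
  constructor
  · rw [← LinearMap.ker_eq_bot, LinearMap.ker_eq_bot']
    intro ξ hξ
    apply AdicCompletion.ext
    intro n
    obtain ⟨u, hu⟩ := Submodule.Quotient.mk_surjective _ (ξ.val n)
    have h1 := map_val J α ξ n u hu
    rw [hξ, AdicCompletion.val_zero_apply] at h1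
    rw [← hu, AdicCompletion.val_zero_apply, Submodule.Quotient.mk_eq_zero]
    apply hinj
    rw [← Submodule.Quotient.mk_eq_zero]
    exact h1.symm
  · intro η
    choose q hq using fun n => Submodule.Quotient.mk_surjective _ (η.val n)
    choose u hu using fun n => hsurj n (q n)
    have hqcompat : ∀ {m n : ℕ}, m ≤ n → q n - q m ∈ (J ^ m • ⊤ : Submodule B Q) := by
      intro m n hmn
      rw [← Submodule.Quotient.eq, hq m]
      have h1 := η.2 hmn
      rw [← hq n] at h1
      rw [← h1]
      rfl
    let ξ : AdicCompletion J F :=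
      ⟨fun n => Submodule.Quotient.mk (u n), by
        intro m n hmn
        change (Submodule.Quotient.mk (u n) : F ⧸ (J ^ m • ⊤ : Submodule B F)) =
          Submodule.Quotient.mk (u m)
        rw [Submodule.Quotient.eq]
        apply hinj
        have h1 : (J ^ n • ⊤ : Submodule B Q) ≤ J ^ m • ⊤ :=
          Submodule.smul_mono (Ideal.pow_le_pow_right hmn) le_rfl
        have e : α (u n - u m) = (q n - q m) - (q n - α (u n)) + (q m - α (u m)) := by
          rw [map_sub]; abel
        rw [e]
        exact Submodule.add_mem _ (Submodule.sub_mem _ (hqcompat hmn) (h1 (hu n))) (hu m)⟩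
    refine ⟨ξ, ?_⟩
    apply AdicCompletion.ext
    intro n
    rw [map_val J α ξ n (u n) rfl, ← hq n, eq_comm, Submodule.Quotient.eq]
    exact hu n

end Groth.Agent.Helper26.AdicIso
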