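import Mathlib

namespace Groth.Agent.Helper26.ArithRank

universe u
variable {R : Type u} [CommRing R] [IsNoetherianRing R]

/-- Key inductive construction: `j` elements of `I` such that any prime containing them but not
`I` has height at least `j`. -/
theorem key (I : Ideal R) (j : ℕ) :
    ∃ f : Fin j → R, (∀ i, f i ∈ I) ∧ ∀ (p : Ideal R) [p.IsPrime],
      Ideal.span (Set.range f) ≤ p → ¬ I ≤ p → (j : ℕ∞) ≤ p.height := by
  induction j with
  | zero => exact ⟨Fin.elim0, fun i => i.elim0, fun p _ _ _ => by simp⟩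
  | succ j ih =>
    obtain ⟨f, hf, hfp⟩ := ih
    set J : Ideal R := Ideal.span (Set.range f) with hJ
    let S := { K | K ∈ J.minimalPrimes ∧ ¬ I ≤ K }
    have hS : Set.Finite S := Set.Finite.subset J.finite_minimalPrimes_of_isNoetherianRing
      (fun _ h => h.1)
    have : ¬(I : Set R) ⊆ ⋃ K ∈ hS.toFinset, (K : Set R) := by
      refine (Ideal.subset_union_prime ⊥ ⊥ ?_).not.mpr ?_
      · rintro K hK - -
        rw [Set.Finite.mem_toFinset] at hK
        exact hK.1.isPrime
      · push Not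
        intro K hK e
        rw [Set.Finite.mem_toFinset] at hK
        exact hK.2 e
    simp_rw [Set.not_subset, Set.mem_iUnion, not_exists, Set.Finite.mem_toFinset] at this
    obtain ⟨x, hx₁, hx₂⟩ := this
    refine ⟨Fin.snoc f x, ?_, ?_⟩
    · intro i
      refine Fin.lastCases ?_ (fun i => ?_) i
      · simpa using hx₁
      · simpa using hf i
    · intro p _ hp hIp
      have hJp : J ≤ p := by
        refine le_trans (Ideal.span_mono ?_) hp
        rintro _ ⟨i, rfl⟩
        exact ⟨Fin.castSucc i, by simp⟩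
      have hxp : x ∈ p := by
        apply hp
        apply Ideal.subset_span
        exact ⟨Fin.last j, by simp⟩
      obtain ⟨q, hq, hqp⟩ := Ideal.exists_minimalPrimes_le hJp
      have hqprime := hq.isPrime
      have hIq : ¬ I ≤ q := fun h => hIp (h.trans hqp)
      have hxq : x ∉ q := hx₂ q ⟨hq, hIq⟩
      have hlt : q < p := lt_of_le_of_ne hqp (fun e => hxq (e ▸ hxp))
      have h1 := hfp q hq.1.2 hIq
      have h2 := Ideal.height_add_one_le_of_lt_of_isPrime hlt
      push_cast
      exact (add_le_add h1 le_rfl).trans h2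

theorem main (I : Ideal R) (r : ℕ) :
    ∃ f : Fin r → R, (∀ i, f i ∈ I) ∧ ∀ (p : Ideal R) [p.IsPrime], p.height < r →
      (I ≤ p ↔ Ideal.span (Set.range f) ≤ p) := by
  obtain ⟨f, hf, hfp⟩ := key I r
  refine ⟨f, hf, fun p _ hp => ⟨fun h => ?_, fun h => ?_⟩⟩
  · refine le_trans (Ideal.span_le.2 ?_) h
    rintro _ ⟨i, rfl⟩
    exact hf i
  · by_contra hI
    exact absurd (hfp p h hI) (not_le.2 hp)

omit [IsNoetherianRing R] in
/-- Same radical given agreement on all primes. -/
theorem radical_eq_of_forall_prime {I J : Ideal R}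
    (h : ∀ (p : Ideal R) [p.IsPrime], (I ≤ p ↔ J ≤ p)) : I.radical = J.radical := by
  rw [Ideal.radical_eq_sInf, Ideal.radical_eq_sInf]
  congr 1
  ext p
  constructor
  · rintro ⟨h1, h2⟩
    exact ⟨(@h p h2).1 h1, h2⟩
  · rintro ⟨h1, h2⟩
    exact ⟨(@h p h2).2 h1, h2⟩

theorem dim_succ (d : ℕ) (hd : ringKrullDim R = d) (I : Ideal R) :
    ∃ f : Fin (d + 1) → R, (∀ i, f i ∈ I) ∧
      I.radical = (Ideal.span (Set.range f)).radical := by
  obtain ⟨f, hf, hfp⟩ := main I (d + 1)
  refine ⟨f, hf, radical_eq_of_forall_prime fun p _ => hfp p ?_⟩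
  have h1 : (p.height : WithBot ℕ∞) ≤ ringKrullDim R := Ideal.height_le_ringKrullDim_of_isPrime
  rw [hd] at h1
  have h2 : p.height ≤ (d : ℕ∞) := by exact_mod_cast h1
  refine lt_of_le_of_lt h2 ?_
  exact_mod_cast Nat.lt_succ_self d

theorem dim_local [IsLocalRing R] (d : ℕ) (hd : ringKrullDim R = d) (I : Ideal R) (hI : I ≠ ⊤) :
    ∃ f : Fin d → R, (∀ i, f i ∈ I) ∧
      I.radical = (Ideal.span (Set.range f)).radical := by
  obtain ⟨f, hf, hfp⟩ := main I d
  have hfI : Ideal.span (Set.range f) ≤ I := by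
    refine Ideal.span_le.2 ?_
    rintro _ ⟨i, rfl⟩
    exact hf i
  refine ⟨f, hf, radical_eq_of_forall_prime fun p _ => ?_⟩
  by_cases hp : p.height < d
  · exact hfp p hp
  · have h1 : (p.height : WithBot ℕ∞) ≤ ringKrullDim R := Ideal.height_le_ringKrullDim_of_isPrime
    rw [hd] at h1
    have h2 : p.height ≤ (d : ℕ∞) := by exact_mod_cast h1
    have h3 : p.height = (d : ℕ∞) := le_antisymm h2 (not_lt.1 hp)
    have h4 : (p.height : WithBot ℕ∞) = ringKrullDim R := by
      rw [hd, h3]; rfl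
    have : FiniteRingKrullDim R := by
      rw [finiteRingKrullDim_iff_ne_bot_and_top, hd]
      refine ⟨by simp, ?_⟩
      intro h
      have h' : ((d : ℕ∞) : WithBot ℕ∞) = ((⊤ : ℕ∞) : WithBot ℕ∞) := h
      exact ENat.natCast_ne_top d (WithBot.coe_injective h')
    have hmax : p.IsMaximal := Ideal.isMaximal_of_height_eq_ringKrullDim h4
    have hpm : p = IsLocalRing.maximalIdeal R := IsLocalRing.eq_maximalIdeal hmax
    have hIp : I ≤ p := hpm ▸ IsLocalRing.le_maximalIdeal hI
    exact ⟨fun _ => hfI.trans hIp, fun _ => hIp⟩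

end Groth.Agent.Helper26.ArithRank
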