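import Mathlib

namespace Groth.Agent.Helper26.AttrFin

open DirectSum

universe u v w
variable (R : Type u) [CommRing R] (A : Type v) [CommRing A]
    [Algebra R A] (M : Type w) [AddCommMonoid M] [DecidableEq M]
    (𝒜 : M → Submodule R A) [GradedAlgebra 𝒜]

/-- a finite generating set of homogeneous elements -/
theorem exists_homog_gen [Algebra.FiniteType R A] :
    ∃ s' : Finset A, (∀ x ∈ s', ∃ m, x ∈ 𝒜 m) ∧ Algebra.adjoin R (s' : Set A) = ⊤ := by
  classical
  obtain ⟨s, hs⟩ := (Algebra.FiniteType.out : (⊤ : Subalgebra R A).FG)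
  refine ⟨s.biUnion (fun a => (decompose 𝒜 a).support.image (fun m => (decompose 𝒜 a m : A))), ?_, ?_⟩
  · intro x hx
    obtain ⟨a, _, hx⟩ := Finset.mem_biUnion.1 hx
    obtain ⟨m, _, rfl⟩ := Finset.mem_image.1 hx
    exact ⟨m, (decompose 𝒜 a m).2⟩
  · rw [eq_top_iff, ← hs]
    refine Algebra.adjoin_le ?_
    intro a ha
    rw [← DirectSum.sum_support_decompose 𝒜 a]
    refine Subalgebra.sum_mem _ fun m hm => Algebra.subset_adjoin ?_
    simp only [Finset.coe_biUnion, Finset.coe_image, Set.mem_iUnion, Set.mem_image, Finset.mem_coe]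
    exact ⟨a, ha, m, hm, rfl⟩

/-- the attractor ideal is generated by the generators of degree outside `N` -/
theorem ideal_eq (s' : Finset A) (hs' : ∀ x ∈ s', ∃ m, x ∈ 𝒜 m)
    (hgen : Algebra.adjoin R (s' : Set A) = ⊤) (N : AddSubmonoid M) :
    Ideal.span {a : A | ∃ m : M, m ∉ N ∧ a ∈ 𝒜 m} =
      Ideal.span ((s' : Set A) ∩ {a : A | ∃ m : M, m ∉ N ∧ a ∈ 𝒜 m}) := by
  classical
  refine le_antisymm ?_ (Ideal.span_mono Set.inter_subset_right)
  set I := Ideal.span ((s' : Set A) ∩ {a : A | ∃ m : M, m ∉ N ∧ a ∈ 𝒜 m}) with hI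
  have key : ∀ a : A, ∀ m, m ∉ N → (decompose 𝒜 a m : A) ∈ I := by
    intro a
    have ha : a ∈ Algebra.adjoin R (s' : Set A) := hgen ▸ Algebra.mem_top
    induction ha using Algebra.adjoin_induction with
    | mem x hx =>
      intro m hm
      obtain ⟨d, hd⟩ := hs' x hx
      by_cases hdm : d = m
      · subst hdm
        rw [DirectSum.decompose_of_mem_same 𝒜 hd]
        exact Ideal.subset_span ⟨hx, d, hm, hd⟩
      · rw [DirectSum.decompose_of_mem_ne 𝒜 hd hdm]
        exact zero_mem _
    | algebraMap r =>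
      intro m hm
      have h0 : algebraMap R A r ∈ 𝒜 0 := SetLike.algebraMap_mem_graded 𝒜 r
      have : (0 : M) ≠ m := by
        rintro rfl
        exact hm (zero_mem N)
      rw [DirectSum.decompose_of_mem_ne 𝒜 h0 this]
      exact zero_mem _
    | add x y _ _ hx hy =>
      intro m hm
      rw [DirectSum.decompose_add, DirectSum.add_apply, Submodule.coe_add]
      exact add_mem (hx m hm) (hy m hm)
    | mul x y _ _ hx hy =>
      intro m hm
      rw [DirectSum.decompose_mul, DirectSum.coe_mul_apply]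
      refine Ideal.sum_mem _ fun ij hij => ?_
      rw [Finset.mem_filter] at hij
      by_cases h1 : ij.1 ∈ N
      · have h2 : ij.2 ∉ N := by
          intro h2
          apply hm
          rw [← hij.2]
          exact add_mem h1 h2
        exact Ideal.mul_mem_left _ _ (hy _ h2)
      · exact Ideal.mul_mem_right _ _ (hx _ h1)
  refine Ideal.span_le.2 ?_
  rintro a ⟨m, hm, ha⟩
  have := key a m hm
  rwa [DirectSum.decompose_of_mem_same 𝒜 ha] at this

theorem main [Algebra.FiniteType R A] :
    (Set.range fun N : AddSubmonoid M => Ideal.span {a : A | ∃ m : M, m ∉ N ∧ a ∈ 𝒜 m}).Finite := by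
  classical
  obtain ⟨s', hs', hgen⟩ := exists_homog_gen R A M 𝒜
  refine Set.Finite.subset ((Finset.finite_toSet s'.powerset).image
    (fun t : Finset A => Ideal.span (t : Set A))) ?_
  rintro _ ⟨N, rfl⟩
  refine ⟨s'.filter (fun a => ∃ m : M, m ∉ N ∧ a ∈ 𝒜 m), ?_, ?_⟩
  · exact Finset.mem_coe.2 (Finset.mem_powerset.2 (Finset.filter_subset _ _))
  · simp only
    rw [ideal_eq R A M 𝒜 s' hs' hgen N]
    congr 1
    ext a
    simp

end Groth.Agent.Helper26.AttrFin
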