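import Groth.Prelude.Def_W4c5adicflatcomplDec
import Mathlib
import Groth.Agent.Lib.Helper26.AdicCC
import Groth.Agent.Lib.Helper26.DecSum

set_option autoImplicit false
universe u v w

namespace Groth.Agent.Helper26.DecFin

open W4c5adicflatcompl

variable {A : Type u} [CommRing A] (I : Ideal A) (Z : Type v)
  (M : Type w) [AddCommGroup M] [Module A M]

/-- pointwise criterion for membership in `I^n • (Z →₀ M)`. -/
lemma finsupp_mem_smul (n : ℕ) (u : Z →₀ M) (hu : ∀ z, u z ∈ (I ^ n • ⊤ : Submodule A M)) :
    u ∈ (I ^ n • ⊤ : Submodule A (Z →₀ M)) := by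
  classical
  rw [← Finsupp.sum_single u]
  apply Submodule.sum_mem
  intro z _
  exact Groth.Agent.Helper26.DecSum.map_mem I (Finsupp.lsingle z : M →ₗ[A] (Z →₀ M)) n (hu z)

/-- the comparison map. -/
noncomputable abbrev Phi : AdicCompletion I (Z →₀ M) →ₗ[A] (Z → AdicCompletion I M) :=
  LinearMap.pi fun z : Z =>
    (AdicCompletion.map I (Finsupp.lapply (M := M) (R := A) z)).restrictScalars A

lemma Phi_val (ξ : AdicCompletion I (Z →₀ M)) (z : Z) (n : ℕ) (u : Z →₀ M)
    (hu : Submodule.Quotient.mk u = ξ.val n) :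
    (Phi I Z M ξ z).val n = Submodule.Quotient.mk (u z) := by
  change (AdicCompletion.map I (Finsupp.lapply (M := M) (R := A) z) ξ).val n = _
  rw [AdicCompletion.map_val_apply, ← hu]
  rfl

theorem Phi_injective : Function.Injective (Phi I Z M) := by
  rw [← LinearMap.ker_eq_bot, LinearMap.ker_eq_bot']
  intro ξ hξ
  apply AdicCompletion.ext
  intro n
  obtain ⟨u, hu⟩ := Submodule.Quotient.mk_surjective _ (ξ.val n)
  rw [← hu, AdicCompletion.val_zero_apply, Submodule.Quotient.mk_eq_zero]
  apply finsupp_mem_smul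
  intro z
  have h1 := Phi_val I Z M ξ z n u hu
  rw [hξ] at h1
  rw [← Submodule.Quotient.mk_eq_zero, ← h1]
  rfl

end Groth.Agent.Helper26.DecFin

namespace Groth.Agent.Helper26.DecFin

open W4c5adicflatcompl

variable {A : Type u} [CommRing A] (I : Ideal A) (Z : Type v)
  (M : Type w) [AddCommGroup M] [Module A M]

lemma ker_eval_eq [IsAdicComplete I (AdicCompletion I M)] (n : ℕ) :
    LinearMap.ker (AdicCompletion.eval I M n) = (I ^ n • ⊤ : Submodule A (AdicCompletion I M)) :=
  le_antisymm
    (Groth.Agent.Helper26.AdicCC.ker_le_of_approx I M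
      (fun n x => Groth.Agent.Helper26.AdicCC.approx_of_precomplete I M n x) n)
    (AdicCompletion.pow_smul_top_le_ker_eval I n)

theorem range_le [IsAdicComplete I (AdicCompletion I M)] :
    LinearMap.range (Phi I Z M) ≤ decaying I Z (AdicCompletion I M) := by
  rintro _ ⟨ξ, rfl⟩
  rw [mem_decaying_iff]
  intro n
  obtain ⟨u, hu⟩ := Submodule.Quotient.mk_surjective _ (ξ.val n)
  refine u.support.finite_toSet.subset ?_
  intro z hz
  by_contra hzs
  apply hz
  rw [← ker_eval_eq, LinearMap.mem_ker, AdicCompletion.eval_apply, Phi_val I Z M ξ z n u hu]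
  have : u z = 0 := Finsupp.notMem_support_iff.1 hzs
  rw [this]
  rfl

theorem le_range [IsAdicComplete I (AdicCompletion I M)] :
    decaying I Z (AdicCompletion I M) ≤ LinearMap.range (Phi I Z M) := by
  classical
  intro h hh
  rw [mem_decaying_iff] at hh
  -- chosen lifts
  have hsurj : ∀ (n : ℕ) (x : AdicCompletion I M), ∃ y : M, Submodule.Quotient.mk y = x.val n :=
    fun n x => Submodule.Quotient.mk_surjective _ _
  choose rep hrep using hsurj
  let S : ℕ → Finset Z := fun n => (hh n).toFinset
  let u : ℕ → Z →₀ M := fun n =>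
    Finsupp.onFinset (S n) (fun z => if z ∈ S n then rep n (h z) else 0)
      (fun z hz => by
        by_contra hzs
        exact hz (if_neg hzs))
  have hu_apply : ∀ n z, u n z = if z ∈ S n then rep n (h z) else 0 := fun n z => rfl
  -- key pointwise claim
  have key : ∀ {m n : ℕ}, m ≤ n → ∀ z,
      (Submodule.Quotient.mk (u n z) : M ⧸ (I ^ m • ⊤ : Submodule A M)) = (h z).val m := by
    intro m n hmn z
    rw [hu_apply]
    by_cases hz : z ∈ S n
    · rw [if_pos hz]
      have h1 := (h z).2 hmn
      rw [← hrep n (h z)] at h1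
      rw [← h1]
      rfl
    · rw [if_neg hz]
      have hmem : h z ∈ (I ^ n • ⊤ : Submodule A (AdicCompletion I M)) := by
        by_contra hc
        exact hz ((hh n).mem_toFinset.2 hc)
      have hmem' : h z ∈ (I ^ m • ⊤ : Submodule A (AdicCompletion I M)) :=
        Submodule.smul_mono (Ideal.pow_le_pow_right hmn) le_rfl hmem
      have := AdicCompletion.pow_smul_top_le_ker_eval I m hmem'
      rw [LinearMap.mem_ker, AdicCompletion.eval_apply] at this
      rw [this]
      rfl
  let ξ : AdicCompletion I (Z →₀ M) :=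
    ⟨fun n => Submodule.Quotient.mk (u n), by
      intro m n hmn
      change (Submodule.Quotient.mk (u n) : (Z →₀ M) ⧸ (I ^ m • ⊤ : Submodule A (Z →₀ M))) =
        Submodule.Quotient.mk (u m)
      rw [Submodule.Quotient.eq]
      apply finsupp_mem_smul
      intro z
      rw [Finsupp.sub_apply, ← Submodule.Quotient.eq, key hmn z, key le_rfl z]⟩
  refine ⟨ξ, ?_⟩
  funext z
  apply AdicCompletion.ext
  intro n
  rw [Phi_val I Z M ξ z n (u n) rfl, key le_rfl z]

end Groth.Agent.Helper26.DecFin
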