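import Groth.Prelude.Def_W4c5adicflatcomplDec
import Mathlib
import Groth.Agent.Lib.Helper26.AdicIso
import Groth.Agent.Lib.Helper26.DecUniv
import Groth.Agent.Lib.Helper26.DecFin
import Groth.Agent.Lib.Helper26.AdicGen

set_option autoImplicit false
universe u

namespace Groth.Agent.Helper26.BaseCh

open W4c5adicflatcompl TensorProduct Groth.Agent.Helper26.DecSum Groth.Agent.Helper26.DecUniv

variable {A B : Type u} [CommRing A] [CommRing B] [Algebra A B]
  (I : Ideal A) (J : Ideal B) (Z : Type u)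

/-- `I^n`-multiples (over `A`) are `J^n`-multiples (over `B`). -/
lemma smul_top_le (hIJ : I.map (algebraMap A B) ≤ J) {Q : Type u} [AddCommGroup Q] [Module A Q]
    [Module B Q] [IsScalarTower A B Q] (n : ℕ) (q : Q)
    (hq : q ∈ (I ^ n • ⊤ : Submodule A Q)) : q ∈ (J ^ n • ⊤ : Submodule B Q) := by
  have hpow : ∀ a ∈ I ^ n, algebraMap A B a ∈ J ^ n := by
    intro a ha
    have h1 : algebraMap A B a ∈ (I ^ n).map (algebraMap A B) := Ideal.mem_map_of_mem _ ha
    rw [Ideal.map_pow] at h1
    exact Ideal.pow_right_mono hIJ n h1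
  refine Submodule.smul_induction_on hq ?_ ?_
  · intro a ha x _
    rw [← algebraMap_smul B a x]
    exact Submodule.smul_mem_smul (hpow a ha) Submodule.mem_top
  · intro x y hx hy
    exact Submodule.add_mem _ hx hy

/-- the comparison map `(Z →₀ B) → B ⊗ D`. -/
noncomputable def alpha [DecidableEq Z] :
    (Z →₀ B) →ₗ[B] B ⊗[A] (decaying I Z (AdicCompletion I A)) :=
  Finsupp.linearCombination B
    (fun z => (1 : B) ⊗ₜ[A] single I z (1 : AdicCompletion I A))

lemma alpha_single [DecidableEq Z] (z : Z) (b : B) :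
    alpha I Z (Finsupp.single z b) = b ⊗ₜ[A] single I z (1 : AdicCompletion I A) := by
  rw [alpha, Finsupp.linearCombination_single, TensorProduct.smul_tmul', smul_eq_mul, mul_one]

end Groth.Agent.Helper26.BaseCh

namespace Groth.Agent.Helper26.BaseCh

open W4c5adicflatcompl TensorProduct Groth.Agent.Helper26.DecSum Groth.Agent.Helper26.DecUniv

variable {A B : Type u} [CommRing A] [CommRing B] [Algebra A B] [IsNoetherianRing A]
  (I : Ideal A) (J : Ideal B) (Z : Type u) [DecidableEq Z]

omit [IsNoetherianRing A] [DecidableEq Z] in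
lemma tmul_mem (hIJ : I.map (algebraMap A B) ≤ J) (n : ℕ) (b : B)
    (g : decaying I Z (AdicCompletion I A))
    (hg : g ∈ (I ^ n • ⊤ : Submodule A (decaying I Z (AdicCompletion I A)))) :
    b ⊗ₜ[A] g ∈ (J ^ n • ⊤ : Submodule B (B ⊗[A] (decaying I Z (AdicCompletion I A)))) := by
  apply smul_top_le I J hIJ n
  exact map_mem I ((TensorProduct.mk A B (decaying I Z (AdicCompletion I A))) b) n hg

theorem alpha_surj (hIJ : I.map (algebraMap A B) ≤ J) (n : ℕ)
    (q : B ⊗[A] (decaying I Z (AdicCompletion I A))) :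
    ∃ u : Z →₀ B, q - alpha I Z u ∈
      (J ^ n • ⊤ : Submodule B (B ⊗[A] (decaying I Z (AdicCompletion I A)))) := by
  have hfg : I.FG := (isNoetherianRing_iff_ideal_fg A).1 inferInstance I
  have hc : IsAdicComplete I (AdicCompletion I A) := AdicCompletion.isAdicComplete hfg
  induction q using TensorProduct.induction_on with
  | zero => exact ⟨0, by simp⟩
  | add q1 q2 h1 h2 =>
    obtain ⟨u1, hu1⟩ := h1
    obtain ⟨u2, hu2⟩ := h2
    refine ⟨u1 + u2, ?_⟩
    have : q1 + q2 - alpha I Z (u1 + u2) = (q1 - alpha I Z u1) + (q2 - alpha I Z u2) := by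
      rw [map_add]; abel
    rw [this]
    exact Submodule.add_mem _ hu1 hu2
  | tmul b g =>
    obtain ⟨S, hS⟩ := sub_sum_single_mem I Z (AdicCompletion I A) n g
    choose a ha using fun z : Z => Groth.Agent.Helper26.AdicCC.approx_of_precomplete I A n
      ((g : Z → AdicCompletion I A) z)
    refine ⟨∑ z ∈ S, Finsupp.single z (algebraMap A B (a z) * b), ?_⟩
    have e1 : alpha I Z (∑ z ∈ S, Finsupp.single z (algebraMap A B (a z) * b)) =
        ∑ z ∈ S, b ⊗ₜ[A] (a z • single I z (1 : AdicCompletion I A)) := by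
      rw [map_sum]
      apply Finset.sum_congr rfl
      intro z _
      rw [alpha_single, ← Algebra.smul_def, TensorProduct.smul_tmul]
    have e2 : b ⊗ₜ[A] g - ∑ z ∈ S, b ⊗ₜ[A] (a z • single I z (1 : AdicCompletion I A)) =
        b ⊗ₜ[A] (g - ∑ z ∈ S, single I z ((g : Z → AdicCompletion I A) z)) +
        ∑ z ∈ S, b ⊗ₜ[A] (single I z ((g : Z → AdicCompletion I A) z -
          AdicCompletion.of I A (a z))) := by
      have hsub : ∀ (z : Z) (p q : AdicCompletion I A),
          single I z (p - q) = single I z p - single I z q := by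
        intro z p q
        apply Subtype.ext
        simp [Pi.single_sub]
      have hV : ∀ z, b ⊗ₜ[A] (single I z ((g : Z → AdicCompletion I A) z -
          AdicCompletion.of I A (a z))) =
          b ⊗ₜ[A] single I z ((g : Z → AdicCompletion I A) z) -
            b ⊗ₜ[A] (a z • single I z (1 : AdicCompletion I A)) := by
        intro z
        rw [hsub, TensorProduct.tmul_sub, of_eq_smul_one, single_smul]
      rw [Finset.sum_congr rfl (fun z _ => hV z), Finset.sum_sub_distrib, TensorProduct.tmul_sub,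
        TensorProduct.tmul_sum]
      abel
    rw [e1, e2]
    refine Submodule.add_mem _ (tmul_mem I J Z hIJ n b _ hS) (Submodule.sum_mem _ fun z _ => ?_)
    exact tmul_mem I J Z hIJ n b _ (single_mem I Z _ n z _ (ha z))

end Groth.Agent.Helper26.BaseCh

namespace Groth.Agent.Helper26.BaseCh

open W4c5adicflatcompl TensorProduct Groth.Agent.Helper26.DecSum Groth.Agent.Helper26.DecUniv

variable {A B : Type u} [CommRing A] [CommRing B] [Algebra A B]
  (I : Ideal A) (J : Ideal B) (Z : Type u) [DecidableEq Z]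

/-- the map `A/I^n → B/J^n`. -/
noncomputable def kappa (hIJ : I.map (algebraMap A B) ≤ J) (n : ℕ) :
    (A ⧸ (I ^ n • ⊤ : Submodule A A)) →ₗ[A] B ⧸ J ^ n :=
  Submodule.liftQ _ ((Ideal.Quotient.mkₐ A (J ^ n)).toLinearMap ∘ₗ (Algebra.linearMap A B)) (by
    intro a ha
    rw [Groth.Agent.Helper26.AdicGen.smul_top_A] at ha
    rw [LinearMap.mem_ker, LinearMap.comp_apply, Algebra.linearMap_apply, AlgHom.toLinearMap_apply,
      Ideal.Quotient.mkₐ_eq_mk, Ideal.Quotient.eq_zero_iff_mem]
    have h1 : algebraMap A B a ∈ (I ^ n).map (algebraMap A B) := Ideal.mem_map_of_mem _ ha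
    rw [Ideal.map_pow] at h1
    exact Ideal.pow_right_mono hIJ n h1)

lemma kappa_mk (hIJ : I.map (algebraMap A B) ≤ J) (n : ℕ) (a : A) :
    kappa I J hIJ n (Submodule.Quotient.mk a) = Ideal.Quotient.mk (J ^ n) (algebraMap A B a) := rfl

/-- the coordinate functional. -/
noncomputable def rz (hIJ : I.map (algebraMap A B) ≤ J) (n : ℕ) (z : Z) :
    decaying I Z (AdicCompletion I A) →ₗ[A] B ⧸ J ^ n :=
  kappa I J hIJ n ∘ₗ AdicCompletion.eval I A n ∘ₗ LinearMap.proj z ∘ₗ
    (decaying I Z (AdicCompletion I A)).subtype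

lemma rz_single (hIJ : I.map (algebraMap A B) ≤ J) (n : ℕ) (z z' : Z) :
    rz I J Z hIJ n z (single I z' (1 : AdicCompletion I A)) = if z' = z then 1 else 0 := by
  simp only [rz, LinearMap.comp_apply, Submodule.subtype_apply, LinearMap.proj_apply, coe_single]
  split_ifs with h
  · rw [h, Pi.single_eq_same, one_eq_of, AdicCompletion.eval_of, Submodule.mkQ_apply, kappa_mk,
      map_one, map_one]
  · rw [Pi.single_eq_of_ne (Ne.symm h), map_zero, map_zero]

noncomputable def piz (hIJ : I.map (algebraMap A B) ≤ J) (n : ℕ) (z : Z) :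
    B ⊗[A] (decaying I Z (AdicCompletion I A)) →ₗ[B] B ⧸ J ^ n :=
  TensorProduct.AlgebraTensorModule.lift
    ((LinearMap.lsmul B ((decaying I Z (AdicCompletion I A)) →ₗ[A] B ⧸ J ^ n)).flip
      (rz I J Z hIJ n z))

omit [DecidableEq Z] in
lemma piz_tmul (hIJ : I.map (algebraMap A B) ≤ J) (n : ℕ) (z : Z) (b : B)
    (g : decaying I Z (AdicCompletion I A)) :
    piz I J Z hIJ n z (b ⊗ₜ g) = b • rz I J Z hIJ n z g := rfl

lemma piz_alpha (hIJ : I.map (algebraMap A B) ≤ J) (n : ℕ) (z : Z) (u : Z →₀ B) :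
    piz I J Z hIJ n z (alpha I Z u) = Ideal.Quotient.mk (J ^ n) (u z) := by
  rw [alpha, Finsupp.linearCombination_apply, Finsupp.sum, map_sum]
  simp only [map_smul, piz_tmul, rz_single, one_smul]
  rw [Finset.sum_eq_single z]
  · rw [if_pos rfl, Algebra.smul_def, mul_one]
    rfl
  · intro z' _ hz'
    rw [if_neg hz', smul_zero]
  · intro hz
    rw [Finsupp.notMem_support_iff.1 hz, zero_smul]

theorem alpha_inj (hIJ : I.map (algebraMap A B) ≤ J) (n : ℕ) (u : Z →₀ B)
    (hu : alpha I Z u ∈ (J ^ n • ⊤ : Submodule B (B ⊗[A] (decaying I Z (AdicCompletion I A))))) :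
    u ∈ (J ^ n • ⊤ : Submodule B (Z →₀ B)) := by
  apply Groth.Agent.Helper26.DecFin.finsupp_mem_smul
  intro z
  have h1 := map_mem J (piz I J Z hIJ n z) n hu
  rw [piz_alpha] at h1
  have hbot : (J ^ n • ⊤ : Submodule B (B ⧸ J ^ n)) = ⊥ := by
    rw [eq_bot_iff, Submodule.smul_le]
    intro j hj x _
    rw [Submodule.mem_bot, ← Ideal.Quotient.algebraMap_eq] at *
    rw [Algebra.smul_def, Ideal.Quotient.algebraMap_eq, Ideal.Quotient.eq_zero_iff_mem.2 hj, zero_mul]
  rw [hbot, Submodule.mem_bot, Ideal.Quotient.eq_zero_iff_mem] at h1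
  rw [Groth.Agent.Helper26.AdicGen.smul_top_A]
  exact h1

end Groth.Agent.Helper26.BaseCh

namespace Groth.Agent.Helper26.BaseCh

open W4c5adicflatcompl TensorProduct Groth.Agent.Helper26.DecSum Groth.Agent.Helper26.DecUniv

theorem main {A B : Type u} [CommRing A] [CommRing B] [Algebra A B]
    [IsNoetherianRing A] [IsNoetherianRing B] (I : Ideal A) (J : Ideal B)
    (hIJ : I.map (algebraMap A B) ≤ J) (P : Type u) [AddCommGroup P] [Module A P]
    (hP : IsAdicFree I P) :
    IsAdicFree J (AdicCompletion J (B ⊗[A] P)) := by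
  classical
  obtain ⟨Z, ⟨e⟩⟩ := hP
  have hfgJ : J.FG := (isNoetherianRing_iff_ideal_fg B).1 inferInstance J
  have hcB : IsAdicComplete J (AdicCompletion J B) := AdicCompletion.isAdicComplete hfgJ
  let D := decaying I Z (AdicCompletion I A)
  let eB : B ⊗[A] P ≃ₗ[B] B ⊗[A] D :=
    TensorProduct.AlgebraTensorModule.congr (LinearEquiv.refl B B) e
  have bij1 : Function.Bijective (AdicCompletion.map J eB.toLinearMap) := by
    apply Groth.Agent.Helper26.AdicIso.map_bijective
    · intro n u hu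
      have := map_mem J eB.symm.toLinearMap n hu
      simpa using this
    · intro n q
      exact ⟨eB.symm q, by simp⟩
  have bij2 : Function.Bijective (AdicCompletion.map J (alpha I Z (B := B))) :=
    Groth.Agent.Helper26.AdicIso.map_bijective J _ (alpha_inj I J Z hIJ) (alpha_surj I J Z hIJ)
  let E1 : AdicCompletion J (B ⊗[A] P) ≃ₗ[B] AdicCompletion J (B ⊗[A] D) :=
    LinearEquiv.ofBijective ((AdicCompletion.map J eB.toLinearMap).restrictScalars B) bij1
  let E2 : AdicCompletion J (Z →₀ B) ≃ₗ[B] AdicCompletion J (B ⊗[A] D) :=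
    LinearEquiv.ofBijective ((AdicCompletion.map J (alpha I Z (B := B))).restrictScalars B) bij2
  let Φ : AdicCompletion J (Z →₀ B) →ₗ[B] decaying J Z (AdicCompletion J B) :=
    LinearMap.codRestrict (decaying J Z (AdicCompletion J B))
      (Groth.Agent.Helper26.DecFin.Phi J Z B)
      (fun ξ => Groth.Agent.Helper26.DecFin.range_le J Z B ⟨ξ, rfl⟩)
  have bij3 : Function.Bijective Φ := by
    constructor
    · intro ξ η h
      apply Groth.Agent.Helper26.DecFin.Phi_injective J Z B
      exact congrArg Subtype.val h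
    · intro g
      obtain ⟨ξ, hξ⟩ := Groth.Agent.Helper26.DecFin.le_range J Z B g.2
      exact ⟨ξ, Subtype.ext hξ⟩
  let E3 : AdicCompletion J (Z →₀ B) ≃ₗ[B] decaying J Z (AdicCompletion J B) :=
    LinearEquiv.ofBijective Φ bij3
  exact ⟨Z, ⟨E1.trans (E2.symm.trans E3)⟩⟩

end Groth.Agent.Helper26.BaseCh
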