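import Mathlib

set_option autoImplicit false
open PowerSeries

namespace Groth.Agent.Helper26.Bern

lemma c0_mul (f g : PowerSeries ℚ) : coeff 0 (f * g) = coeff 0 f * coeff 0 g := by
  simp [PowerSeries.coeff_mul]

lemma c1_mul (f g : PowerSeries ℚ) :
    coeff 1 (f * g) = coeff 0 f * coeff 1 g + coeff 1 f * coeff 0 g := by
  simp [PowerSeries.coeff_mul, Finset.Nat.antidiagonal_succ]

lemma c2_mul (f g : PowerSeries ℚ) :
    coeff 2 (f * g) = coeff 0 f * coeff 2 g + coeff 1 f * coeff 1 g + coeff 2 f * coeff 0 g := by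
  simp [PowerSeries.coeff_mul, Finset.Nat.antidiagonal_succ]
  ring

lemma c3_mul (f g : PowerSeries ℚ) :
    coeff 3 (f * g) = coeff 0 f * coeff 3 g + coeff 1 f * coeff 2 g + coeff 2 f * coeff 1 g
      + coeff 3 f * coeff 0 g := by
  simp [PowerSeries.coeff_mul, Finset.Nat.antidiagonal_succ]
  ring

lemma inv_coeffs (f : PowerSeries ℚ) (h0 : coeff 0 f = 1) :
    coeff 0 f⁻¹ = 1 ∧ coeff 1 f⁻¹ = -coeff 1 f ∧ coeff 2 f⁻¹ = (coeff 1 f)^2 - coeff 2 f ∧
    coeff 3 f⁻¹ = -(coeff 1 f)^3 + 2 * coeff 1 f * coeff 2 f - coeff 3 f := by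
  have hne : constantCoeff f ≠ 0 := by
    rw [← PowerSeries.coeff_zero_eq_constantCoeff_apply, h0]; exact one_ne_zero
  have hmul : f * f⁻¹ = 1 := PowerSeries.mul_inv_cancel f hne
  have e0 : coeff 0 (f * f⁻¹) = 1 := by rw [hmul]; simp
  have e1 : coeff 1 (f * f⁻¹) = 0 := by rw [hmul]; simp
  have e2 : coeff 2 (f * f⁻¹) = 0 := by rw [hmul]; simp
  have e3 : coeff 3 (f * f⁻¹) = 0 := by rw [hmul]; simp
  rw [c0_mul, h0, one_mul] at e0
  rw [c1_mul, h0, e0] at e1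
  rw [c2_mul, h0, e0] at e2
  rw [c3_mul, h0, e0] at e3
  have i1 : coeff 1 f⁻¹ = -coeff 1 f := by linarith
  rw [i1] at e2 e3
  have i2 : coeff 2 f⁻¹ = (coeff 1 f)^2 - coeff 2 f := by linear_combination e2
  rw [i2] at e3
  refine ⟨e0, i1, i2, ?_⟩
  linear_combination e3

lemma bern_coeffs : coeff 0 (bernoulli'PowerSeries ℚ) = 1 ∧ coeff 1 (bernoulli'PowerSeries ℚ) = 1/2 ∧
    coeff 2 (bernoulli'PowerSeries ℚ) = 1/12 ∧ coeff 3 (bernoulli'PowerSeries ℚ) = 0 := by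
  refine ⟨?_, ?_, ?_, ?_⟩ <;>
  simp [bernoulli'PowerSeries, PowerSeries.coeff_mk, bernoulli'_zero, bernoulli'_one, bernoulli'_two,
    bernoulli'_three, Nat.factorial] <;> norm_num

end Groth.Agent.Helper26.Bern

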