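import Mathlib
import Groth.Agent.Lib.Helper26.Bern

set_option autoImplicit false
open PowerSeries

namespace Groth.Agent.Helper26.Bern2

/-- `B' = B * exp`. -/
lemma bern'_eq : bernoulli'PowerSeries ℚ = bernoulliPowerSeries ℚ * exp ℚ := by
  have h1 := bernoulli'PowerSeries_mul_exp_sub_one ℚ
  have h2 := bernoulliPowerSeries_mul_exp_sub_one ℚ
  have hne : (exp ℚ - 1 : PowerSeries ℚ) ≠ 0 := by
    intro h
    have := congrArg (coeff 1) h
    simp [coeff_exp] at this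
  have : bernoulli'PowerSeries ℚ * (exp ℚ - 1) = (bernoulliPowerSeries ℚ * exp ℚ) * (exp ℚ - 1) := by
    rw [h1, mul_right_comm, h2]
  exact mul_right_cancel₀ hne this

lemma rescale_neg_one_bern' : rescale (-1 : ℚ) (bernoulli'PowerSeries ℚ) = bernoulliPowerSeries ℚ := by
  ext n
  rw [coeff_rescale, bernoulli'PowerSeries, bernoulliPowerSeries, coeff_mk, coeff_mk,
    bernoulli'_eq_bernoulli]
  simp only [Algebra.algebraMap_self, RingHom.id_apply]
  rw [← mul_div_assoc, ← mul_assoc, ← pow_add, Even.neg_one_pow ⟨n, rfl⟩, one_mul]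

lemma key (a : ℚ) : rescale (-a) (bernoulli'PowerSeries ℚ) * rescale a (exp ℚ) =
    rescale a (bernoulli'PowerSeries ℚ) := by
  have h1 : rescale (-a) (bernoulli'PowerSeries ℚ) = rescale a (bernoulliPowerSeries ℚ) := by
    rw [← rescale_neg_one_bern', rescale_rescale]
    congr 2
    ring
  rw [h1, ← map_mul, ← bern'_eq]

open Groth.Agent.Helper26.Bern in
lemma pow_coeffs (f : PowerSeries ℚ) (h0 : coeff 0 f = 1) (m : ℕ) :
    coeff 0 (f ^ m) = 1 ∧ coeff 1 (f ^ m) = m * coeff 1 f := by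
  induction m with
  | zero => simp
  | succ m ih =>
    rw [pow_succ, c0_mul, c1_mul, ih.1, ih.2, h0]
    constructor
    · ring
    · push_cast; ring

/-- The `p`-independent factor. -/
noncomputable def H (n d : ℕ) (s : ℤ) : PowerSeries ℚ :=
  (rescale (-(d : ℚ)) (bernoulli'PowerSeries ℚ))⁻¹ * bernoulli'PowerSeries ℚ ^ (n + 1) *
    rescale (-(d : ℚ) - n - 1 + s) (exp ℚ)

open Groth.Agent.Helper26.Bern in
lemma H_coeffs (n d : ℕ) (s : ℤ) :
    coeff 0 (H n d s) = 1 ∧ coeff 1 (H n d s) = (2 * (s : ℚ) - d - n - 1) / 2 := by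
  obtain ⟨b0, b1, b2, b3⟩ := bern_coeffs
  have hA0 : coeff 0 (rescale (-(d : ℚ)) (bernoulli'PowerSeries ℚ)) = 1 := by
    rw [coeff_rescale, b0]; simp
  obtain ⟨i0, i1, i2, i3⟩ := inv_coeffs _ hA0
  obtain ⟨q0, q1⟩ := pow_coeffs _ b0 (n + 1)
  unfold H
  simp only [c1_mul, c0_mul, i0, i1, q0, q1, coeff_rescale, b1, coeff_exp]
  constructor
  · simp
  · simp
    ring

lemma prod_eq (n d : ℕ) (s : ℤ) (p : ℕ) :
    (rescale (-(d : ℚ)) (bernoulli'PowerSeries ℚ))⁻¹ * rescale (-((d : ℚ) * p)) (bernoulli'PowerSeries ℚ) *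
      bernoulli'PowerSeries ℚ ^ (n + 1) * rescale ((d : ℚ) * p - d - n - 1 + s) (exp ℚ) =
    rescale ((d : ℚ) * p) (bernoulli'PowerSeries ℚ) * H n d s := by
  have h1 : (d : ℚ) * p - d - n - 1 + s = (d : ℚ) * p + (-(d : ℚ) - n - 1 + s) := by ring
  rw [h1, ← exp_mul_exp_eq_exp_add, ← key ((d : ℚ) * p)]
  unfold H
  ring

lemma coeff_eq (m d : ℕ) (s : ℤ) (p : ℕ) :
    coeff (m + 2) ((rescale (-(d : ℚ)) (bernoulli'PowerSeries ℚ))⁻¹ * rescale (-((d : ℚ) * p)) (bernoulli'PowerSeries ℚ) *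
      bernoulli'PowerSeries ℚ ^ (m + 2 + 1) * rescale ((d : ℚ) * p - d - (m + 2 : ℕ) - 1 + s) (exp ℚ)) =
    bernoulli' (m + 2) * ((d : ℚ) * p) ^ (m + 2) / ((m + 2).factorial : ℚ) +
      (2 * (s : ℚ) - d - (m + 2 : ℕ) - 1) / 2 * bernoulli' (m + 1) * ((d : ℚ) * p) ^ (m + 1) / ((m + 1).factorial : ℚ) +
      ∑ k ∈ Finset.range (m + 1), (bernoulli' k / (k.factorial : ℚ) * (d : ℚ) ^ k * coeff (m + 2 - k) (H (m + 2) d s)) * (p : ℚ) ^ k := by
  rw [prod_eq (m + 2) d s p, coeff_mul,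
    Finset.Nat.sum_antidiagonal_eq_sum_range_succ (fun i j => coeff i (rescale ((d : ℚ) * p) (bernoulli'PowerSeries ℚ)) * coeff j (H (m + 2) d s))]
  rw [Finset.sum_range_succ, Finset.sum_range_succ]
  obtain ⟨h0, h1⟩ := H_coeffs (m + 2) d s
  have e1 : m + 2 - (m + 1) = 1 := by omega
  have e2 : m + 2 - (m + 2) = 0 := by omega
  rw [e1, e2, h0, h1]
  simp only [coeff_rescale, bernoulli'PowerSeries, coeff_mk, Algebra.algebraMap_self, RingHom.id_apply]
  have hsum : ∀ k ∈ Finset.range (m + 1), ((d : ℚ) * p) ^ k * (bernoulli' k / (k.factorial : ℚ)) * coeff (m + 2 - k) (H (m + 2) d s)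
      = (bernoulli' k / (k.factorial : ℚ) * (d : ℚ) ^ k * coeff (m + 2 - k) (H (m + 2) d s)) * (p : ℚ) ^ k := by
    intro k _
    rw [mul_pow]; ring
  rw [Finset.sum_congr rfl hsum]
  ring

end Groth.Agent.Helper26.Bern2
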