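import Mathlib
import Groth.Agent.S17713

set_option autoImplicit false

namespace Groth.Agent.Helper26.BernSign

open Real in
lemma sign_bernoulli {k : ℕ} (hk : k ≠ 0) : 0 < (-1 : ℚ) ^ (k + 1) * bernoulli (2 * k) := by
  have h := hasSum_zeta_nat hk
  have h1 : (1 : ℝ) ≤ (-1 : ℝ) ^ (k + 1) * (2 : ℝ) ^ (2 * k - 1) * π ^ (2 * k) *
        bernoulli (2 * k) / (2 * k).factorial := by
    have := le_hasSum h 1 (fun j _ => by positivity)
    simpa using this
  have hpos : (0 : ℝ) < (2 : ℝ) ^ (2 * k - 1) * π ^ (2 * k) / (2 * k).factorial := by positivity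
  have h2 : (0 : ℝ) < (-1 : ℝ) ^ (k + 1) * (bernoulli (2 * k) : ℝ) := by
    by_contra hcon
    push Not at hcon
    have : (-1 : ℝ) ^ (k + 1) * (2 : ℝ) ^ (2 * k - 1) * π ^ (2 * k) *
        bernoulli (2 * k) / (2 * k).factorial =
        ((-1 : ℝ) ^ (k + 1) * (bernoulli (2 * k) : ℝ)) * ((2 : ℝ) ^ (2 * k - 1) * π ^ (2 * k) / (2 * k).factorial) := by
      ring
    rw [this] at h1
    have := mul_nonpos_of_nonpos_of_nonneg hcon hpos.le
    linarith
  have h3 : ((( -1 : ℚ) ^ (k + 1) * bernoulli (2 * k) : ℚ) : ℝ) = (-1 : ℝ) ^ (k + 1) * (bernoulli (2 * k) : ℝ) := by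
    push_cast; ring
  rw [← h3] at h2
  exact_mod_cast h2

/-- `B'_{4j} < 0` for `j ≥ 1`. -/
lemma bernoulli'_neg {n : ℕ} (hn : n % 4 = 0) (h0 : n ≠ 0) : bernoulli' n < 0 := by
  obtain ⟨j, rfl⟩ : ∃ j, n = 2 * (2 * j) := ⟨n / 4, by omega⟩
  have hj : 2 * j ≠ 0 := by omega
  have h := sign_bernoulli hj
  rw [← bernoulli_eq_bernoulli'_of_ne_one (by omega)]
  have : (-1 : ℚ) ^ (2 * j + 1) = -1 := by
    rw [pow_succ, pow_mul]; norm_num
  rw [this] at h
  linarith

/-- `B'_{4j+2} > 0`. -/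
lemma bernoulli'_pos {n : ℕ} (hn : n % 4 = 2) : 0 < bernoulli' n := by
  obtain ⟨j, rfl⟩ : ∃ j, n = 2 * (2 * j + 1) := ⟨n / 4, by omega⟩
  have hj : 2 * j + 1 ≠ 0 := by omega
  have h := sign_bernoulli hj
  rw [← bernoulli_eq_bernoulli'_of_ne_one (by omega)]
  have : (-1 : ℚ) ^ (2 * j + 1 + 1) = 1 := by
    rw [pow_succ, pow_succ, pow_mul]; norm_num
  rw [this] at h
  linarith

end Groth.Agent.Helper26.BernSign

open Polynomial

namespace Groth.Agent.Helper26.Bern4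

lemma eventually_neg (a : ℚ) (ha : a < 0) (m : ℕ) (hm : 0 < m) (P : ℚ[X]) (hP : P.natDegree < m) :
    ∃ N : ℕ, ∀ p : ℕ, N ≤ p → a * (p : ℚ) ^ m + P.eval (p : ℚ) < 0 := by
  set Q : ℚ[X] := C a * X ^ m + P with hQ
  have hdegP : P.degree < (C a * X ^ m : ℚ[X]).degree := by
    rw [degree_C_mul_X_pow m ha.ne]
    exact lt_of_le_of_lt degree_le_natDegree (by exact_mod_cast hP)
  have hdegQ : Q.degree = m := by
    rw [hQ, degree_add_eq_left_of_degree_lt hdegP, degree_C_mul_X_pow m ha.ne]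
  have hlead : Q.leadingCoeff = a := by
    rw [hQ, leadingCoeff_add_of_degree_lt' hdegP, leadingCoeff_mul, leadingCoeff_C,
      leadingCoeff_X_pow, mul_one]
  have htend := Q.tendsto_atBot_of_leadingCoeff_nonpos (by rw [hdegQ]; exact_mod_cast hm)
    (by rw [hlead]; exact ha.le)
  have h2 := (htend.comp (tendsto_natCast_atTop_atTop (R := ℚ))).eventually (Filter.eventually_lt_atBot 0)
  obtain ⟨N, hN⟩ := Filter.eventually_atTop.1 h2
  refine ⟨N, fun p hp => ?_⟩
  have := hN p hp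
  simpa [hQ] using this

end Groth.Agent.Helper26.Bern4

namespace Groth.Agent.Helper26.Bern4

lemma todd_neg_eventually (n d : ℕ) (s : ℤ) (hn : 2 ≤ n) (hd : 1 ≤ d)
    (h : bernoulli' n < 0 ∨
      (bernoulli' n = 0 ∧ (2 * (s : ℚ) - d - n - 1) / 2 * bernoulli' (n - 1) < 0)) :
    ∃ N : ℕ, ∀ p : ℕ, N ≤ p →
      PowerSeries.coeff n ((PowerSeries.rescale (-(d : ℚ)) (bernoulli'PowerSeries ℚ))⁻¹ * PowerSeries.rescale (-((d : ℚ) * p)) (bernoulli'PowerSeries ℚ) * bernoulli'PowerSeries ℚ ^ (n + 1) * PowerSeries.rescale ((d : ℚ) * p - d - n - 1 + s) (PowerSeries.exp ℚ)) < 0 := by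
  obtain ⟨P, hPdeg, hP⟩ := Groth.Agent.S17713.result n d s hn hd
  have hdpos : (0 : ℚ) < d := by exact_mod_cast hd
  rcases h with h | ⟨h0, h1⟩
  · set a : ℚ := bernoulli' n * (d : ℚ) ^ n / (n.factorial : ℚ) with ha
    set b : ℚ := (2 * (s : ℚ) - d - n - 1) / 2 * bernoulli' (n - 1) * (d : ℚ) ^ (n - 1) / ((n - 1).factorial : ℚ) with hb
    have haneg : a < 0 := by
      rw [ha]
      apply div_neg_of_neg_of_pos
      · exact mul_neg_of_neg_of_pos h (by positivity)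
      · positivity
    have hdeg : (C b * X ^ (n - 1) + P).natDegree < n := by
      refine lt_of_le_of_lt (natDegree_add_le _ _) ?_
      rw [max_lt_iff]
      constructor
      · exact lt_of_le_of_lt (natDegree_C_mul_X_pow_le _ _) (by omega)
      · omega
    obtain ⟨N, hN⟩ := eventually_neg a haneg n (by omega) (C b * X ^ (n - 1) + P) hdeg
    refine ⟨N, fun p hp => ?_⟩
    rw [hP p]
    have := hN p hp
    simp only [eval_add, eval_mul, eval_C, eval_pow, eval_X] at this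
    have e : bernoulli' n * ((d : ℚ) * p) ^ n / (n.factorial : ℚ) +
        (2 * (s : ℚ) - d - n - 1) / 2 * bernoulli' (n - 1) * ((d : ℚ) * p) ^ (n - 1) / ((n - 1).factorial : ℚ) +
        P.eval (p : ℚ) = a * (p : ℚ) ^ n + (b * (p : ℚ) ^ (n - 1) + P.eval (p : ℚ)) := by
      rw [ha, hb, mul_pow, mul_pow]; ring
    rw [e]
    exact this
  · set b : ℚ := (2 * (s : ℚ) - d - n - 1) / 2 * bernoulli' (n - 1) * (d : ℚ) ^ (n - 1) / ((n - 1).factorial : ℚ) with hb
    have hbneg : b < 0 := by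
      rw [hb]
      apply div_neg_of_neg_of_pos
      · exact mul_neg_of_neg_of_pos h1 (by positivity)
      · positivity
    obtain ⟨N, hN⟩ := eventually_neg b hbneg (n - 1) (by omega) P (by omega)
    refine ⟨N, fun p hp => ?_⟩
    rw [hP p, h0]
    have := hN p hp
    have e : 0 * ((d : ℚ) * p) ^ n / (n.factorial : ℚ) +
        (2 * (s : ℚ) - d - n - 1) / 2 * bernoulli' (n - 1) * ((d : ℚ) * p) ^ (n - 1) / ((n - 1).factorial : ℚ) +
        P.eval (p : ℚ) = b * (p : ℚ) ^ (n - 1) + P.eval (p : ℚ) := by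
      rw [hb, mul_pow]; ring
    rw [e]
    exact this

end Groth.Agent.Helper26.Bern4
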