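import Mathlib

namespace Groth.Agent.Helper26.BinGcd

/-- `d / gcd d k` divides `C(d, k)` for `k ≥ 1`. -/
theorem div_gcd_dvd_choose (d k : ℕ) (hd : 1 ≤ d) (hk : 1 ≤ k) : d / Nat.gcd d k ∣ d.choose k := by
  obtain ⟨d', rfl⟩ : ∃ d', d = d' + 1 := ⟨d - 1, by omega⟩
  obtain ⟨k', rfl⟩ : ∃ k', k = k' + 1 := ⟨k - 1, by omega⟩
  set g := Nat.gcd (d' + 1) (k' + 1) with hg
  have hgpos : 0 < g := Nat.gcd_pos_of_pos_left _ (by omega)
  have h1 := Nat.add_one_mul_choose_eq d' k'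
  -- (d'+1) * C(d',k') = C(d'+1,k'+1) * (k'+1)
  obtain ⟨a, ha⟩ : g ∣ d' + 1 := Nat.gcd_dvd_left _ _
  obtain ⟨b, hb⟩ : g ∣ k' + 1 := Nat.gcd_dvd_right _ _
  have hcop : Nat.Coprime a b := by
    have := Nat.coprime_div_gcd_div_gcd (m := d' + 1) (n := k' + 1) hgpos
    rw [← hg] at this
    have e1 : (d' + 1) / g = a := by rw [ha]; exact Nat.mul_div_cancel_left a hgpos
    have e2 : (k' + 1) / g = b := by rw [hb]; exact Nat.mul_div_cancel_left b hgpos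
    rwa [e1, e2] at this
  have hdiv : (d' + 1) / g = a := by rw [ha]; exact Nat.mul_div_cancel_left a hgpos
  rw [hdiv]
  have h2 : a * d'.choose k' = (d' + 1).choose (k' + 1) * b := by
    have : g * (a * d'.choose k') = g * ((d' + 1).choose (k' + 1) * b) := by
      calc g * (a * d'.choose k') = g * a * d'.choose k' := by ring
        _ = (d' + 1) * d'.choose k' := by rw [← ha]
        _ = (d' + 1).choose (k' + 1) * (k' + 1) := h1
        _ = (d' + 1).choose (k' + 1) * (g * b) := by rw [← hb]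
        _ = g * ((d' + 1).choose (k' + 1) * b) := by ring
    exact Nat.eq_of_mul_eq_mul_left hgpos this
  have h3 : a ∣ (d' + 1).choose (k' + 1) * b := ⟨_, h2.symm⟩
  exact hcop.dvd_of_dvd_mul_right h3

/-- `p ∣ C(d, i)` for `0 < i < p ^ j`, `p ^ j ∣ d`. -/
theorem prime_dvd_choose (p j d i : ℕ) (hp : p.Prime) (hd : 1 ≤ d) (hpd : p ^ j ∣ d)
    (hi0 : 0 < i) (hi : i < p ^ j) : p ∣ d.choose i := by
  refine dvd_trans ?_ (div_gcd_dvd_choose d i hd hi0)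
  set g := Nat.gcd d i with hg
  have hgpos : 0 < g := Nat.gcd_pos_of_pos_left _ (by omega)
  by_contra hnot
  have hcop : Nat.Coprime (p ^ j) (d / g) := Nat.Coprime.pow_left j ((Nat.Prime.coprime_iff_not_dvd hp).2 hnot)
  have hdg : d = g * (d / g) := (Nat.mul_div_cancel' (Nat.gcd_dvd_left d i)).symm
  have h1 : p ^ j ∣ g * (d / g) := hdg ▸ hpd
  have h2 : p ^ j ∣ g := hcop.dvd_of_dvd_mul_right h1
  have h3 : p ^ j ∣ i := h2.trans (Nat.gcd_dvd_right d i)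
  have := Nat.le_of_dvd hi0 h3
  omega

/-- `C(d - 1, i) ≡ (-1)^i mod p` for `i < p ^ j`, `p ^ j ∣ d`. -/
theorem choose_pred_mod (p j d' i : ℕ) (hp : p.Prime) (hpd : p ^ j ∣ d' + 1) (hi : i < p ^ j) :
    ((d'.choose i : ℕ) : ZMod p) = (-1) ^ i := by
  induction i with
  | zero => simp
  | succ i ih =>
    have h1 : p ∣ (d' + 1).choose (i + 1) :=
      prime_dvd_choose p j (d' + 1) (i + 1) hp (by omega) hpd (by omega) hi
    have h2 : (((d' + 1).choose (i + 1) : ℕ) : ZMod p) = 0 := (ZMod.natCast_eq_zero_iff _ _).2 h1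
    rw [Nat.choose_succ_succ', Nat.cast_add, ih (by omega)] at h2
    rw [pow_succ]
    linear_combination h2

/-- `gcd(d, C(d, p^j)) ∣ d / p^j`. -/
theorem dvd_div_of_dvd (p j d G : ℕ) (hp : p.Prime) (hd : 1 ≤ d) (hpd : p ^ j ∣ d)
    (hG1 : G ∣ d) (hG2 : G ∣ d.choose (p ^ j)) : G ∣ d / p ^ j := by
  obtain ⟨d', rfl⟩ : ∃ d', d = d' + 1 := ⟨d - 1, by omega⟩
  have hpj : 0 < p ^ j := pow_pos hp.pos j
  obtain ⟨k', hk'⟩ : ∃ k', p ^ j = k' + 1 := ⟨p ^ j - 1, by omega⟩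
  have h1 := Nat.add_one_mul_choose_eq d' k'
  rw [← hk'] at h1
  -- (d'+1) * C(d',k') = C(d'+1,p^j) * p^j
  obtain ⟨m, hm⟩ := hpd
  have hm' : (d' + 1) / p ^ j = m := by rw [hm]; exact Nat.mul_div_cancel_left m hpj
  rw [hm']
  have h2 : (d' + 1).choose (p ^ j) = m * d'.choose k' := by
    have : p ^ j * (d' + 1).choose (p ^ j) = p ^ j * (m * d'.choose k') := by
      calc p ^ j * (d' + 1).choose (p ^ j) = (d' + 1).choose (p ^ j) * p ^ j := by ring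
        _ = (d' + 1) * d'.choose k' := h1.symm
        _ = p ^ j * m * d'.choose k' := by rw [hm]
        _ = p ^ j * (m * d'.choose k') := by ring
    exact Nat.eq_of_mul_eq_mul_left hpj this
  -- p ∤ C(d', k')
  have hu : ¬ p ∣ d'.choose k' := by
    intro hdiv
    have h3 : ((d'.choose k' : ℕ) : ZMod p) = 0 := (ZMod.natCast_eq_zero_iff _ _).2 hdiv
    have hpd' : p ^ j ∣ d' + 1 := ⟨m, hm⟩
    rw [choose_pred_mod p j d' k' hp hpd' (by omega)] at h3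
    have : Fact p.Prime := ⟨hp⟩
    exact pow_ne_zero k' (neg_ne_zero.2 one_ne_zero) h3
  have hcop : Nat.Coprime (p ^ j) (d'.choose k') :=
    Nat.Coprime.pow_left j ((Nat.Prime.coprime_iff_not_dvd hp).2 hu)
  have h4 : G ∣ Nat.gcd (m * p ^ j) (m * d'.choose k') := by
    refine Nat.dvd_gcd ?_ (h2 ▸ hG2)
    rw [mul_comm m, ← hm]; exact hG1
  rw [Nat.gcd_mul_left, hcop.gcd_eq_one, mul_one] at h4
  exact h4

/-- The binomial gcd statement over `ℕ`, in divisibility form. -/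
theorem dvd_div (d N G : ℕ) (hd : 1 ≤ d) (hN : 1 ≤ N) (hG : ∀ k, 1 ≤ k → k ≤ N → G ∣ d.choose k)
    (δ : ℕ) (hδd : δ ∣ d) (hδN : δ ≤ N) : G ∣ d / δ := by
  have hG1 : G ∣ d := by simpa using hG 1 le_rfl hN
  have hGpos : 0 < G := Nat.pos_of_dvd_of_pos hG1 (by omega)
  have hδpos : 0 < δ := Nat.pos_of_dvd_of_pos hδd (by omega)
  obtain ⟨H, hH⟩ := hG1
  -- δ ∣ H
  have hδH : δ ∣ H := by
    rw [Nat.dvd_iff_prime_pow_dvd_dvd]
    intro p k hp hpk
    have hpkd : p ^ k ∣ d := hpk.trans hδd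
    have hpkN : p ^ k ≤ N := (Nat.le_of_dvd hδpos hpk).trans hδN
    have h1 : G ∣ d / p ^ k :=
      dvd_div_of_dvd p k d G hp hd hpkd ⟨H, hH⟩ (hG _ (pow_pos hp.pos k) hpkN)
    obtain ⟨c, hc⟩ := h1
    have h2 : d = p ^ k * (d / p ^ k) := (Nat.mul_div_cancel' hpkd).symm
    rw [hc, hH] at h2
    have h3 : G * H = G * (p ^ k * c) := by rw [h2]; ring
    have h4 : H = p ^ k * c := Nat.eq_of_mul_eq_mul_left hGpos h3
    exact ⟨c, h4⟩
  obtain ⟨c, hc⟩ := hδH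
  refine ⟨c, ?_⟩
  rw [hH, hc]
  rw [show G * (δ * c) = δ * (G * c) by ring]
  exact Nat.mul_div_cancel_left _ hδpos

end Groth.Agent.Helper26.BinGcd
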