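import Mathlib
import Groth.Agent.Lib.Helper26.BinGcd

namespace Groth.Agent.Helper26.BinGcd

/-- The Euler characteristic numbers -/
def chi (d n : ℕ) : ℤ := 1 - (-1 : ℤ) ^ n * ((d - 1).choose n : ℤ)

theorem chi_zero (d : ℕ) : chi d 0 = 0 := by simp [chi]

theorem chi_succ (d n : ℕ) (hd : 1 ≤ d) :
    chi d (n + 1) = chi d n + (-1 : ℤ) ^ n * (d.choose (n + 1) : ℤ) := by
  obtain ⟨d', rfl⟩ : ∃ d', d = d' + 1 := ⟨d - 1, by omega⟩
  unfold chi
  simp only [Nat.add_sub_cancel]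
  rw [Nat.choose_succ_succ']
  push_cast
  ring

theorem dvd_chi_iff (d N : ℕ) (hd : 1 ≤ d) (g : ℤ) :
    (∀ n ∈ Finset.Icc 1 N, g ∣ chi d n) ↔ (∀ n ∈ Finset.Icc 1 N, g ∣ (d.choose n : ℤ)) := by
  constructor
  · intro h n hn
    rw [Finset.mem_Icc] at hn
    obtain ⟨m, rfl⟩ : ∃ m, n = m + 1 := ⟨n - 1, by omega⟩
    have h1 : g ∣ chi d (m + 1) := h _ (Finset.mem_Icc.2 hn)
    have h2 : g ∣ chi d m := by
      rcases Nat.eq_zero_or_pos m with rfl | hm
      · rw [chi_zero]; exact dvd_zero _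
      · exact h _ (Finset.mem_Icc.2 ⟨hm, by omega⟩)
    rw [chi_succ d m hd] at h1
    have h3 : g ∣ (-1 : ℤ) ^ m * (d.choose (m + 1) : ℤ) := (dvd_add_right h2).1 h1
    have h4 : (d.choose (m + 1) : ℤ) = (-1 : ℤ) ^ m * ((-1 : ℤ) ^ m * (d.choose (m + 1) : ℤ)) := by
      rw [← mul_assoc, ← pow_add, ← two_mul, pow_mul]; simp
    rw [h4]
    exact Dvd.dvd.mul_left h3 _
  · intro h
    have key : ∀ n, n ≤ N → g ∣ chi d n := by
      intro n
      induction n with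
      | zero => intro _; rw [chi_zero]; exact dvd_zero _
      | succ m ih =>
        intro hm
        rw [chi_succ d m hd]
        exact dvd_add (ih (by omega)) (Dvd.dvd.mul_left (h _ (Finset.mem_Icc.2 ⟨by omega, hm⟩)) _)
    intro n hn
    exact key n (Finset.mem_Icc.1 hn).2

theorem main (d N : ℕ) (hd : 1 ≤ d) (hN : 1 ≤ N) :
    (Finset.Icc 1 N).gcd (fun n => 1 - (-1 : ℤ) ^ n * ((d - 1).choose n : ℤ)) =
      ((Finset.Icc 1 N).filter (fun δ => δ ∣ d)).gcd (fun δ => ((d / δ : ℕ) : ℤ)) := by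
  have hL1 : (Finset.Icc 1 N).gcd (fun n => 1 - (-1 : ℤ) ^ n * ((d - 1).choose n : ℤ)) =
      (Finset.Icc 1 N).gcd (fun n => (d.choose n : ℤ)) := by
    apply dvd_antisymm_of_normalize_eq Finset.normalize_gcd Finset.normalize_gcd
    · rw [Finset.dvd_gcd_iff]
      exact (dvd_chi_iff d N hd _).1 fun n hn => Finset.gcd_dvd (f := fun n => chi d n) hn
    · rw [Finset.dvd_gcd_iff]
      exact (dvd_chi_iff d N hd _).2 fun n hn => Finset.gcd_dvd (f := fun n => (d.choose n : ℤ)) hn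
  rw [hL1]
  apply dvd_antisymm_of_normalize_eq Finset.normalize_gcd Finset.normalize_gcd
  · rw [Finset.dvd_gcd_iff]
    intro δ hδ
    rw [Finset.mem_filter, Finset.mem_Icc] at hδ
    set L := (Finset.Icc 1 N).gcd (fun n => (d.choose n : ℤ)) with hL
    have hG : ∀ k, 1 ≤ k → k ≤ N → L.natAbs ∣ d.choose k := by
      intro k hk1 hkN
      have : L ∣ (d.choose k : ℤ) :=
        Finset.gcd_dvd (f := fun n => (d.choose n : ℤ)) (Finset.mem_Icc.2 ⟨hk1, hkN⟩)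
      exact Int.natAbs_dvd_natAbs.2 this
    have := dvd_div d N L.natAbs hd hN hG δ hδ.2 hδ.1.2
    exact Int.natAbs_dvd.1 (Int.natCast_dvd_natCast.2 this)
  · rw [Finset.dvd_gcd_iff]
    intro k hk
    rw [Finset.mem_Icc] at hk
    have hgpos : 0 < Nat.gcd d k := Nat.gcd_pos_of_pos_left _ (by omega)
    have hmem : Nat.gcd d k ∈ (Finset.Icc 1 N).filter (fun δ => δ ∣ d) := by
      rw [Finset.mem_filter, Finset.mem_Icc]
      exact ⟨⟨hgpos, (Nat.le_of_dvd (by omega) (Nat.gcd_dvd_right d k)).trans hk.2⟩,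
        Nat.gcd_dvd_left d k⟩
    refine dvd_trans (Finset.gcd_dvd (f := fun δ => ((d / δ : ℕ) : ℤ)) hmem) ?_
    exact Int.natCast_dvd_natCast.2 (div_gcd_dvd_choose d k hd hk.1)

end Groth.Agent.Helper26.BinGcd
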