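import Mathlib

namespace Groth.Agent.Helper26.CBinet

open Set.powersetCard
open Matrix

universe u
variable {R : Type u} [CommRing R]

/-- Cauchy–Binet, in exterior-power index conventions. -/
theorem cauchy_binet' (e r : ℕ) (A : Matrix (Fin e) (Fin r) R) (B : Matrix (Fin r) (Fin e) R) :
    (A * B).det = ∑ S : Set.powersetCard (Fin r) e,
      (A.submatrix id (ofFinEmbEquiv.symm S)).det * (B.submatrix (ofFinEmbEquiv.symm S) id).det := by
  classical
  let V := Fin r → R
  let b : Module.Basis (Fin r) R V := Pi.basisFun R (Fin r)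
  let φ : V →ₗ[R] (Fin e → R) := Matrix.vecMulLinear B
  let g : V [⋀^Fin e]→ₗ[R] R := (Matrix.detRowAlternating (R := R) (n := Fin e)).compLinearMap φ
  let ψ : (⋀[R]^e V) →ₗ[R] R := exteriorPower.alternatingMapLinearEquiv g
  have hψ : ∀ a : Fin e → V, ψ (exteriorPower.ιMulti R e a) = (Matrix.of fun i => (a i) ᵥ* B).det := by
    intro a
    simp only [ψ, exteriorPower.alternatingMapLinearEquiv_apply_ιMulti]
    rfl
  let x : ⋀[R]^e V := exteriorPower.ιMulti R e (fun i => A i)
  have hx : ψ x = (A * B).det := by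
    rw [hψ]
    congr 1
  have hrepr : ∀ S : Set.powersetCard (Fin r) e, (b.exteriorPower e).repr x S =
      (A.submatrix id (ofFinEmbEquiv.symm S)).det := by
    intro S
    rw [exteriorPower.basis_repr_apply, exteriorPower.ιMultiDual_apply_ιMulti]
    congr 1
  have hbasis : ∀ S : Set.powersetCard (Fin r) e, ψ ((b.exteriorPower e) S) =
      (B.submatrix (ofFinEmbEquiv.symm S) id).det := by
    intro S
    rw [exteriorPower.basis_apply, exteriorPower.ιMulti_family, hψ]
    congr 1
    ext i j
    simp only [Function.comp_apply, of_apply, submatrix_apply, id_eq, b]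
    have h1 : (Pi.basisFun R (Fin r)) ((ofFinEmbEquiv.symm S) i) =
        Pi.single ((ofFinEmbEquiv.symm S) i) (1 : R) := Pi.basisFun_apply R (Fin r) _
    rw [h1, Matrix.single_one_vecMul]
    rfl
  rw [← hx, ← (b.exteriorPower e).sum_repr x, map_sum]
  refine Finset.sum_congr rfl fun S _ => ?_
  rw [map_smul, smul_eq_mul, hrepr, hbasis]

end Groth.Agent.Helper26.CBinet
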