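import Mathlib
import Groth.Agent.Lib.Helper26.CBinet

namespace Groth.Agent.Helper26.CBinet

open Matrix

universe u
variable {R : Type u} [CommRing R]

/-- Cauchy–Binet with subtype indices. -/
theorem cauchy_binet (e r : ℕ) (A : Matrix (Fin e) (Fin r) R) (B : Matrix (Fin r) (Fin e) R) :
    (A * B).det = ∑ S : {s : Finset (Fin r) // s.card = e},
      (A.submatrix id (S.1.orderEmbOfFin S.2)).det * (B.submatrix (S.1.orderEmbOfFin S.2) id).det := by
  rw [cauchy_binet']
  refine Fintype.sum_equiv (Equiv.subtypeEquivRight (fun s => Set.powersetCard.mem_iff)) _ _ ?_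
  intro S
  rfl

theorem main (e r n : ℕ)
    (M : Matrix (Fin r) (Fin n) R)
    (A : {s : Finset (Fin r) // s.card = e} → Matrix (Fin e) (Fin r) R)
    (hA : IsUnit (Matrix.det (Matrix.of fun i j : {s : Finset (Fin r) // s.card = e} =>
      ((A i).submatrix id (j.1.orderEmbOfFin j.2)).det))) :
    (⨆ i, Ideal.span (Set.range fun t : {s : Finset (Fin n) // s.card = e} =>
        ((A i * M).submatrix id (t.1.orderEmbOfFin t.2)).det)) =
      Ideal.span (Set.range fun p : {s : Finset (Fin r) // s.card = e} × {s : Finset (Fin n) // s.card = e} =>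
        (M.submatrix (p.1.1.orderEmbOfFin p.1.2) (p.2.1.orderEmbOfFin p.2.2)).det) := by
  classical
  set D : Matrix {s : Finset (Fin r) // s.card = e} {s : Finset (Fin r) // s.card = e} R :=
    Matrix.of fun i j : {s : Finset (Fin r) // s.card = e} =>
      ((A i).submatrix id (j.1.orderEmbOfFin j.2)).det with hD
  have hcb : ∀ (L : {s : Finset (Fin r) // s.card = e}) (t : {s : Finset (Fin n) // s.card = e}),
      ((A L * M).submatrix id (t.1.orderEmbOfFin t.2)).det =
        ∑ L' : {s : Finset (Fin r) // s.card = e},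
          D L L' * (M.submatrix (L'.1.orderEmbOfFin L'.2) (t.1.orderEmbOfFin t.2)).det := by
    intro L t
    have h1 : (A L * M).submatrix id (t.1.orderEmbOfFin t.2) =
        A L * M.submatrix id (t.1.orderEmbOfFin t.2) := by
      ext i j
      simp [Matrix.mul_apply]
    rw [h1, cauchy_binet]
    refine Finset.sum_congr rfl fun L' _ => ?_
    rfl
  refine le_antisymm ?_ ?_
  · refine iSup_le fun L => Ideal.span_le.2 ?_
    rintro _ ⟨t, rfl⟩
    simp only [SetLike.mem_coe]
    rw [hcb]
    refine Ideal.sum_mem _ fun L' _ => Ideal.mul_mem_left _ _ (Ideal.subset_span ⟨(L', t), rfl⟩)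
  · refine Ideal.span_le.2 ?_
    rintro _ ⟨⟨L', t⟩, rfl⟩
    simp only [SetLike.mem_coe]
    have hinv : D⁻¹ * D = 1 := Matrix.nonsing_inv_mul D hA
    have key : (M.submatrix (L'.1.orderEmbOfFin L'.2) (t.1.orderEmbOfFin t.2)).det =
        ∑ L : {s : Finset (Fin r) // s.card = e},
          D⁻¹ L' L * ((A L * M).submatrix id (t.1.orderEmbOfFin t.2)).det := by
      simp_rw [hcb, Finset.mul_sum]
      rw [Finset.sum_comm]
      simp_rw [← mul_assoc, ← Finset.sum_mul]
      have : ∀ L'' : {s : Finset (Fin r) // s.card = e},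
          ∑ i, D⁻¹ L' i * D i L'' = (1 : Matrix _ _ R) L' L'' := by
        intro L''
        rw [← hinv, Matrix.mul_apply]
      simp_rw [this, Matrix.one_apply]
      simp
    rw [key]
    refine Ideal.sum_mem _ fun L _ => Ideal.mul_mem_left _ _ ?_
    exact (le_iSup (fun i => Ideal.span (Set.range fun t : {s : Finset (Fin n) // s.card = e} =>
        ((A i * M).submatrix id (t.1.orderEmbOfFin t.2)).det)) L) (Ideal.subset_span ⟨t, rfl⟩)

end Groth.Agent.Helper26.CBinet
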