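import Mathlib

set_option autoImplicit false
universe u

namespace Groth.Agent.Helper26.CDivRel

open AlgebraicGeometry CategoryTheory TopologicalSpace Scheme

variable {X : Scheme.{u}}

/-- two ideal sheaves agree on some affine open neighbourhood of `x` -/
def Loc (I J : X.IdealSheafData) (x : X) : Prop :=
  ∃ U : X.affineOpens, x ∈ U.1 ∧ I.ideal U = J.ideal U

theorem eq_of_loc {I J : X.IdealSheafData} (h : ∀ x, Loc I J x) : I = J := by
  choose U hxU hU using h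
  refine IdealSheafData.ext_of_iSup_eq_top U ?_ hU
  rw [eq_top_iff]
  intro x _
  exact Opens.mem_iSup.2 ⟨x, hxU x⟩

theorem ideal_eq_of_le {I J : X.IdealSheafData} {U V : X.affineOpens} (h : V ≤ U)
    (e : I.ideal U = J.ideal U) : I.ideal V = J.ideal V := by
  rw [← I.map_ideal h, ← J.map_ideal h, e]

theorem exists_affine_le (U U' : X.affineOpens) (x : X) (hx : x ∈ U.1) (hx' : x ∈ U'.1) :
    ∃ V : X.affineOpens, x ∈ V.1 ∧ V ≤ U ∧ V ≤ U' := by
  obtain ⟨f, g, hfg, hxf⟩ := exists_basicOpen_le_affine_inter U.2 U'.2 x ⟨hx, hx'⟩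
  refine ⟨X.affineBasicOpen f, hxf, X.affineBasicOpen_le f, ?_⟩
  show X.basicOpen f ≤ U'.1
  rw [hfg]
  exact X.basicOpen_le g

theorem Loc.and {I J I' J' : X.IdealSheafData} {x : X} (h : Loc I J x) (h' : Loc I' J' x) :
    ∃ V : X.affineOpens, x ∈ V.1 ∧ I.ideal V = J.ideal V ∧ I'.ideal V = J'.ideal V := by
  obtain ⟨U, hxU, hU⟩ := h
  obtain ⟨U', hxU', hU'⟩ := h'
  obtain ⟨V, hxV, hVU, hVU'⟩ := exists_affine_le U U' x hxU hxU'
  exact ⟨V, hxV, ideal_eq_of_le hVU hU, ideal_eq_of_le hVU' hU'⟩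

theorem Loc.symm {I J : X.IdealSheafData} {x : X} (h : Loc I J x) : Loc J I x := by
  obtain ⟨U, hxU, hU⟩ := h
  exact ⟨U, hxU, hU.symm⟩

theorem Loc.trans {I J K : X.IdealSheafData} {x : X} (h : Loc I J x) (h' : Loc J K x) :
    Loc I K x := by
  obtain ⟨V, hxV, h1, h2⟩ := h.and h'
  exact ⟨V, hxV, h1.trans h2⟩

theorem Loc.pow {I J : X.IdealSheafData} {x : X} (h : Loc I J x) (k : ℕ) :
    Loc (I ^ k) (J ^ k) x := by
  obtain ⟨U, hxU, hU⟩ := h
  refine ⟨U, hxU, ?_⟩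
  show I.ideal U ^ k = J.ideal U ^ k
  rw [hU]

theorem Loc.refl (I : X.IdealSheafData) (x : X) : Loc I I x := by
  obtain ⟨_, ⟨U, hU, rfl⟩, hxU, -⟩ :=
    X.isBasis_affineOpens.exists_subset_of_mem_open (Set.mem_univ x) isOpen_univ
  exact ⟨⟨U, hU⟩, hxU, rfl⟩

theorem Loc.of_eq {I J : X.IdealSheafData} (h : I = J) (x : X) : Loc I J x := h ▸ Loc.refl I x

theorem isOpen_setOf_loc (I J : X.IdealSheafData) : IsOpen {x | Loc I J x} := by
  rw [isOpen_iff_forall_mem_open]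
  rintro x ⟨U, hxU, hU⟩
  exact ⟨U.1, fun y hy => ⟨U, hy, hU⟩, U.1.2, hxU⟩

/-- away from the support the ideal sheaf is locally trivial -/
theorem loc_top_of_notMem_support (I : X.IdealSheafData) {x : X} (hx : x ∉ I.support) :
    Loc I ⊤ x := by
  have hopen : IsOpen ((I.support : Set X)ᶜ) := I.support.isClosed.isOpen_compl
  obtain ⟨_, ⟨U, hU, rfl⟩, hxU, hUs⟩ :=
    X.isBasis_affineOpens.exists_subset_of_mem_open (show x ∈ (I.support : Set X)ᶜ from hx) hopen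
  have hU' : IsAffineOpen U := hU
  refine ⟨⟨U, hU⟩, hxU, ?_⟩
  have h2 : X.zeroLocus (U := U) (I.ideal ⟨U, hU⟩) ∩ U = ∅ := by
    rw [← I.coe_support_inter ⟨U, hU⟩]
    rw [Set.eq_empty_iff_forall_notMem]
    rintro y ⟨hy1, hy2⟩
    exact hUs hy2 hy1
  have h1 : hU'.fromSpec '' PrimeSpectrum.zeroLocus (I.ideal ⟨U, hU⟩ : Set Γ(X, U)) = ∅ :=
    (hU'.fromSpec_image_zeroLocus (I.ideal ⟨U, hU⟩)).trans h2
  have h3 : PrimeSpectrum.zeroLocus (I.ideal ⟨U, hU⟩ : Set Γ(X, U)) = ∅ :=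
    Set.image_eq_empty.1 h1
  show I.ideal ⟨U, hU⟩ = ⊤
  exact PrimeSpectrum.zeroLocus_empty_iff_eq_top.mp h3

end Groth.Agent.Helper26.CDivRel
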