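import Mathlib
import Groth.Agent.Lib.Helper26.CDivRel1

set_option autoImplicit false
universe u

namespace Groth.Agent.Helper26.CDivRel

open AlgebraicGeometry CategoryTheory TopologicalSpace Scheme

theorem pow_unique_alg_aux {R : Type*} [CommRing R] (g : R) (hg : g ∈ nonZeroDivisors R)
    (hu : ¬ IsUnit g) {a b : ℕ} (hab : a < b)
    (h : Ideal.span {g} ^ a = Ideal.span {g} ^ b) : False := by
  rw [Ideal.span_singleton_pow, Ideal.span_singleton_pow] at h
  have h1 : g ^ a ∈ Ideal.span {g ^ b} := by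
    rw [← h]; exact Ideal.mem_span_singleton_self _
  obtain ⟨c, hc⟩ := Ideal.mem_span_singleton.1 h1
  obtain ⟨d, rfl⟩ := Nat.exists_eq_add_of_lt hab
  have h2 : g ^ a * 1 = g ^ a * (g ^ (d + 1) * c) := by
    rw [mul_one, ← mul_assoc, ← pow_add, ← add_assoc]; exact hc
  have h3 : (1 : R) = g ^ (d + 1) * c :=
    (mul_cancel_left_mem_nonZeroDivisors (pow_mem hg a)).1 h2
  apply hu
  refine IsUnit.of_mul_eq_one (g ^ d * c) ?_
  rw [h3]; ring

theorem pow_unique_alg {R : Type*} [CommRing R] (g : R) (hg : g ∈ nonZeroDivisors R)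
    (hu : ¬ IsUnit g) {a b : ℕ}
    (h : Ideal.span {g} ^ a = Ideal.span {g} ^ b) : a = b := by
  rcases lt_trichotomy a b with hab | hab | hab
  · exact (pow_unique_alg_aux g hg hu hab h).elim
  · exact hab
  · exact (pow_unique_alg_aux g hg hu hab h.symm).elim

variable {X : Scheme.{u}}

/-- locally principal, generated by a non-zero-divisor -/
def LocPrin (D : X.IdealSheafData) : Prop :=
  ∀ x : X, ∃ U : X.affineOpens, x ∈ (U : X.Opens) ∧
    ∃ g : Γ(X, U), g ∈ nonZeroDivisors Γ(X, U) ∧ D.ideal U = Ideal.span {g}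

theorem pow_unique (D : X.IdealSheafData) (hD : LocPrin D) {x : X} (hx : x ∈ D.support)
    {a b : ℕ} (h : Loc (D ^ a) (D ^ b) x) : a = b := by
  obtain ⟨U₁, hxU₁, g, hg, hDg⟩ := hD x
  obtain ⟨U, hxU, hU⟩ := h
  obtain ⟨f, hfV, hxf⟩ := U₁.2.exists_basicOpen_le (V := U.1) ⟨x, hxU⟩ hxU₁
  have hVU : X.affineBasicOpen f ≤ U := hfV
  have inst := U₁.2.isLocalization_basicOpen f
  set g' : Γ(X, X.basicOpen f) := algebraMap Γ(X, U₁) Γ(X, X.basicOpen f) g with hg'
  have hDV : D.ideal (X.affineBasicOpen f) = Ideal.span {g'} := by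
    rw [← D.map_ideal_basicOpen U₁ f, hDg, Ideal.map_span, Set.image_singleton]
    rfl
  have hg'nzd : g' ∈ nonZeroDivisors Γ(X, X.basicOpen f) :=
    IsLocalization.map_nonZeroDivisors_le (Submonoid.powers f) Γ(X, X.basicOpen f)
      ⟨g, hg, rfl⟩
  have hg'u : ¬ IsUnit g' := by
    intro hu
    have h1 := (IdealSheafData.mem_support_iff_of_mem (I := D) (U := X.affineBasicOpen f) hxf).1 hx
    rw [Scheme.mem_zeroLocus_iff] at h1
    have h2 := h1 g' (by rw [hDV]; exact Ideal.mem_span_singleton_self _)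
    have h5 : X.basicOpen g' = X.basicOpen f := X.basicOpen_of_isUnit hu
    exact h2 (h5.ge hxf)
  have h3 := ideal_eq_of_le hVU hU
  have h4 : D.ideal (X.affineBasicOpen f) ^ a = D.ideal (X.affineBasicOpen f) ^ b := h3
  rw [hDV] at h4
  exact pow_unique_alg g' hg'nzd hg'u h4

end Groth.Agent.Helper26.CDivRel
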