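import Mathlib
import Groth.Agent.Lib.Helper26.CDivRel1
import Groth.Agent.Lib.Helper26.CDivRel2

set_option autoImplicit false
universe u

namespace Groth.Agent.Helper26.CDivRel

open AlgebraicGeometry CategoryTheory TopologicalSpace Scheme

variable {X : Scheme.{u}}

theorem ratio_unique (D E : X.IdealSheafData) (hD : LocPrin D) (hE : LocPrin E) {x : X}
    (hx : x ∈ (D.support : Set X) ∪ (E.support : Set X)) {m n m' n' : ℕ}
    (h : Loc (D ^ m) (E ^ n) x) (h' : Loc (D ^ m') (E ^ n') x) : m * n' = m' * n := by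
  rcases hx with hx | hx
  · have h1 : Loc (D ^ (m * n')) (D ^ (m' * n)) x := by
      have e1 : D ^ (m * n') = (D ^ m) ^ n' := pow_mul D m n'
      have e2 : D ^ (m' * n) = (D ^ m') ^ n := pow_mul D m' n
      have e3 : (E ^ n) ^ n' = (E ^ n') ^ n := by rw [← pow_mul, ← pow_mul, mul_comm]
      rw [e1, e2]
      exact (h.pow n').trans ((Loc.of_eq e3 x).trans (h'.pow n).symm)
    exact pow_unique D hD hx h1
  · have h1 : Loc (E ^ (n * m')) (E ^ (n' * m)) x := by
      have e1 : E ^ (n * m') = (E ^ n) ^ m' := pow_mul E n m'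
      have e2 : E ^ (n' * m) = (E ^ n') ^ m := pow_mul E n' m
      have e3 : (D ^ m) ^ m' = (D ^ m') ^ m := by rw [← pow_mul, ← pow_mul, mul_comm]
      rw [e1, e2]
      exact (h.pow m').symm.trans ((Loc.of_eq e3 x).trans (h'.pow m))
    have := pow_unique E hE hx h1
    rw [mul_comm m n', mul_comm m' n]; exact this.symm

theorem rel_trans {m n m₀ n₀ m' n' : ℕ} (hmn : (m, n) ≠ (0, 0)) (h1 : m * n₀ = m₀ * n)
    (h2 : m * n' = m' * n) : m' * n₀ = m₀ * n' := by
  by_cases hn : n = 0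
  · subst hn
    have hm : m ≠ 0 := fun h => hmn (by rw [h])
    simp only [mul_zero, mul_eq_zero, hm, false_or] at h1 h2
    rw [h1, h2]; ring
  · have : n * (m' * n₀) = n * (m₀ * n') := by
      calc n * (m' * n₀) = (m' * n) * n₀ := by ring
        _ = (m * n') * n₀ := by rw [h2]
        _ = (m * n₀) * n' := by ring
        _ = (m₀ * n) * n' := by rw [h1]
        _ = n * (m₀ * n') := by ring
    exact Nat.eq_of_mul_eq_mul_left (Nat.pos_of_ne_zero hn) this

theorem main [IsNoetherian X] (D E : X.IdealSheafData) (hD : LocPrin D) (hE : LocPrin E)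
    (hconn : IsPreconnected ((D.support : Set X) ∪ (E.support : Set X)))
    (hloc : ∀ x : X, ∃ m n : ℕ, (m, n) ≠ (0, 0) ∧ Loc (D ^ m) (E ^ n) x) :
    ∃ m n : ℕ, (m, n) ≠ (0, 0) ∧ D ^ m = E ^ n := by
  classical
  by_cases hS : ((D.support : Set X) ∪ (E.support : Set X)) = ∅
  · rw [Set.union_empty_iff] at hS
    have hD0 : D.support = ⊥ := SetLike.coe_injective hS.1
    have hE0 : E.support = ⊥ := SetLike.coe_injective hS.2
    rw [IdealSheafData.support_eq_bot_iff] at hD0 hE0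
    exact ⟨1, 1, by simp, by rw [hD0, hE0]⟩
  obtain ⟨x₀, hx₀⟩ := Set.nonempty_iff_ne_empty.2 hS
  obtain ⟨m₀, n₀, hmn₀, hloc₀⟩ := hloc x₀
  have key : ∀ x : X, ∃ m n : ℕ, (m, n) ≠ (0, 0) ∧ Loc (D ^ m) (E ^ n) x ∧
      m * n₀ = m₀ * n := by
    intro x
    by_cases hxS : x ∈ (D.support : Set X) ∪ (E.support : Set X)
    · let W : Set X := ⋃ (p : ℕ × ℕ) (_ : p ≠ (0, 0) ∧ p.1 * n₀ = m₀ * p.2),
        {y | Loc (D ^ p.1) (E ^ p.2) y}
      let W' : Set X := ⋃ (p : ℕ × ℕ) (_ : p ≠ (0, 0) ∧ p.1 * n₀ ≠ m₀ * p.2),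
        {y | Loc (D ^ p.1) (E ^ p.2) y}
      have hW : IsOpen W := isOpen_iUnion fun p => isOpen_iUnion fun _ => isOpen_setOf_loc _ _
      have hW' : IsOpen W' := isOpen_iUnion fun p => isOpen_iUnion fun _ => isOpen_setOf_loc _ _
      have hcover : (D.support : Set X) ∪ (E.support : Set X) ⊆ W ∪ W' := by
        intro y _
        obtain ⟨a, b, hab, hy⟩ := hloc y
        by_cases hr : a * n₀ = m₀ * b
        · exact Or.inl (Set.mem_iUnion₂.2 ⟨(a, b), ⟨hab, hr⟩, hy⟩)
        · exact Or.inr (Set.mem_iUnion₂.2 ⟨(a, b), ⟨hab, hr⟩, hy⟩)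
      have hx₀W : (((D.support : Set X) ∪ (E.support : Set X)) ∩ W).Nonempty :=
        ⟨x₀, hx₀, Set.mem_iUnion₂.2 ⟨(m₀, n₀), ⟨hmn₀, rfl⟩, hloc₀⟩⟩
      by_contra hcon
      have hxW' : x ∈ W' := by
        rcases hcover hxS with h | h
        · exfalso
          obtain ⟨p, ⟨hp0, hpr⟩, hp⟩ := Set.mem_iUnion₂.1 h
          exact hcon ⟨p.1, p.2, hp0, hp, hpr⟩
        · exact h
      obtain ⟨z, hzS, hzW, hzW'⟩ := hconn W W' hW hW' hcover hx₀W ⟨x, hxS, hxW'⟩
      obtain ⟨p, ⟨hp0, hpr⟩, hp⟩ := Set.mem_iUnion₂.1 hzW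
      obtain ⟨q, ⟨hq0, hqr⟩, hq⟩ := Set.mem_iUnion₂.1 hzW'
      have h1 := ratio_unique D E hD hE hzS hp hq
      exact hqr (rel_trans hp0 hpr h1)
    · have hxD : x ∉ D.support := fun h => hxS (Or.inl h)
      have hxE : x ∉ E.support := fun h => hxS (Or.inr h)
      refine ⟨m₀, n₀, hmn₀, ?_, rfl⟩
      have h1 := (loc_top_of_notMem_support D hxD).pow m₀
      have h2 := (loc_top_of_notMem_support E hxE).pow n₀
      have ht : ∀ k : ℕ, (⊤ : X.IdealSheafData) ^ k = ⊤ := fun k => one_pow k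
      rw [ht] at h1 h2
      exact h1.trans h2.symm
  choose m n hmn hL hR using key
  have hcov : (Set.univ : Set X) ⊆ ⋃ x : X, {y | Loc (D ^ m x) (E ^ n x) y} := by
    intro y _
    exact Set.mem_iUnion.2 ⟨y, hL y⟩
  obtain ⟨t, ht⟩ := isCompact_univ.elim_finite_subcover
    (fun x : X => {y | Loc (D ^ m x) (E ^ n x) y}) (fun x => isOpen_setOf_loc _ _) hcov
  set s := ∏ i ∈ t, (m i + n i) with hs
  have hpos : ∀ i, 0 < m i + n i := by
    intro i
    rcases Nat.eq_zero_or_pos (m i + n i) with h | h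
    · exfalso
      apply hmn i
      have h1 : m i = 0 := by omega
      have h2 : n i = 0 := by omega
      rw [h1, h2]
    · exact h
  have hspos : 0 < s := Finset.prod_pos (fun i _ => hpos i)
  refine ⟨s * m₀, s * n₀, ?_, ?_⟩
  · intro h
    rw [Prod.mk.injEq] at h
    apply hmn₀
    have h1 : m₀ = 0 := by
      rcases Nat.mul_eq_zero.1 h.1 with h | h
      · omega
      · exact h
    have h2 : n₀ = 0 := by
      rcases Nat.mul_eq_zero.1 h.2 with h | h
      · omega
      · exact h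
    rw [h1, h2]
  · apply eq_of_loc
    intro y
    obtain ⟨i, hi, hy⟩ : ∃ i ∈ t, Loc (D ^ m i) (E ^ n i) y := by
      simpa using ht (Set.mem_univ y)
    set P := ∏ j ∈ t.erase i, (m j + n j) with hP
    have hsP : s = (m i + n i) * P := (Finset.mul_prod_erase t _ hi).symm
    have hRi := hR i
    have h1 : m i * (P * (m₀ + n₀)) = s * m₀ := by
      rw [hsP]
      calc m i * (P * (m₀ + n₀)) = P * (m i * m₀ + m i * n₀) := by ring
        _ = P * (m i * m₀ + m₀ * n i) := by rw [hRi]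
        _ = (m i + n i) * P * m₀ := by ring
    have h2 : n i * (P * (m₀ + n₀)) = s * n₀ := by
      rw [hsP]
      calc n i * (P * (m₀ + n₀)) = P * (m₀ * n i + n i * n₀) := by ring
        _ = P * (m i * n₀ + n i * n₀) := by rw [hRi]
        _ = (m i + n i) * P * n₀ := by ring
    have h3 := hy.pow (P * (m₀ + n₀))
    rwa [← pow_mul, ← pow_mul, h1, h2] at h3

end Groth.Agent.Helper26.CDivRel
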