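import Mathlib
import Groth.Agent.Lib.Helper1.LocalCriterion

set_option autoImplicit false
universe u
open TensorProduct Function

namespace Groth.Agent.Lib.Helper26.CP1

open Groth.Agent.Helper1

/-- regular element criterion for flatness. -/
theorem flat_of_regular_element {R S : Type u} [CommRing R] [IsNoetherianRing R] [CommRing S]
    [IsNoetherianRing S] [Algebra R S] (x : R)
    (hxS : ∀ s : S, algebraMap R S x * s = 0 → s = 0)
    (hjac : algebraMap R S x ∈ Ideal.jacobson (⊥ : Ideal S))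
    [Module.Flat (R ⧸ Ideal.span {x}) ((R ⧸ Ideal.span {x}) ⊗[R] S)] : Module.Flat R S := by
  set I : Ideal R := Ideal.span {x} with hI
  have hxI : x ∈ I := Ideal.subset_span rfl
  have H1 : Injective (I.subtype.rTensor S) := by
    rw [injective_iff_map_eq_zero]
    intro z hz
    -- every element is a pure tensor ⟨x⟩ ⊗ s
    have hpure : ∀ z : I ⊗[R] S, ∃ s : S, z = (⟨x, hxI⟩ : I) ⊗ₜ[R] s := by
      intro z
      induction z using TensorProduct.induction_on with
      | zero => exact ⟨0, by rw [tmul_zero]⟩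
      | tmul a s =>
        obtain ⟨a, ha⟩ := a
        obtain ⟨c, rfl⟩ := Ideal.mem_span_singleton'.mp ha
        refine ⟨c • s, ?_⟩
        rw [← smul_tmul]
        congr 1
      | add z₁ z₂ h₁ h₂ =>
        obtain ⟨s₁, rfl⟩ := h₁
        obtain ⟨s₂, rfl⟩ := h₂
        exact ⟨s₁ + s₂, by rw [tmul_add]⟩
    obtain ⟨s, rfl⟩ := hpure z
    rw [LinearMap.rTensor_tmul] at hz
    have h2 := congrArg (TensorProduct.lid R S) hz
    rw [map_zero] at h2
    change x • s = 0 at h2
    rw [Algebra.smul_def] at h2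
    rw [hxS s h2, tmul_zero]
  have hImap : I.map (algebraMap R S) ≤ Ideal.jacobson ⊥ := by
    rw [hI, Ideal.map_span, Set.image_singleton, Ideal.span_le, Set.singleton_subset_iff]
    exact hjac
  exact flat_of_flat_quotient_pow (M := S) I hImap (fun n _ => flat_quotient_pow I H1 n)

end Groth.Agent.Lib.Helper26.CP1

namespace Groth.Agent.Lib.Helper26.CP1

open PowerSeries


theorem flat_of_semilinear {A B N N' : Type u} [CommRing A] [CommRing B] (e : A →+* B)
    (he : Function.Bijective e)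
    [AddCommGroup N] [Module A N] [AddCommGroup N'] [Module B N']
    (φ : N →+ N') (hφb : Function.Bijective φ) (hφ : ∀ a n, φ (a • n) = e a • φ n)
    [Module.Flat B N'] : Module.Flat A N := by
  let _ : Algebra A B := e.toAlgebra
  let _ : Module A N' := Module.compHom N' e
  have : IsScalarTower A B N' := IsScalarTower.of_algebraMap_smul (fun a n => rfl)
  have : Module.Flat A B := RingHom.Flat.of_bijective he
  have : Module.Flat A N' := Module.Flat.trans A B N'
  let φl : N →ₗ[A] N' :=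
    { toFun := φ, map_add' := map_add φ, map_smul' := fun a n => hφ a n }
  let ψ : N ≃ₗ[A] N' := LinearEquiv.ofBijective φl hφb
  exact Module.Flat.of_linearEquiv ψ

section ClaimF

variable {R T : Type u} [CommRing R] [CommRing T] (f : R →+* T)

/-- `R⟦X⟧ ⧸ (X) → R`. -/
noncomputable def ι₁ : (R⟦X⟧ ⧸ Ideal.span {(X : R⟦X⟧)}) →+* R :=
  Ideal.Quotient.lift _ (constantCoeff : R⟦X⟧ →+* R) (by
    intro a ha
    obtain ⟨c, rfl⟩ := Ideal.mem_span_singleton'.mp ha
    simp)

theorem ι₁_mk (p : R⟦X⟧) : ι₁ (Ideal.Quotient.mk _ p) = constantCoeff p := rfl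

theorem ι₁_bijective : Function.Bijective (ι₁ (R := R)) := by
  constructor
  · rw [injective_iff_map_eq_zero]
    intro a ha
    obtain ⟨p, rfl⟩ := Ideal.Quotient.mk_surjective a
    rw [ι₁_mk] at ha
    rw [Ideal.Quotient.eq_zero_iff_mem, Ideal.mem_span_singleton]
    exact X_dvd_iff.mpr ha
  · intro a
    exact ⟨Ideal.Quotient.mk _ (C a), by rw [ι₁_mk, constantCoeff_C]⟩

variable [Algebra R⟦X⟧ T⟦X⟧] (halg : algebraMap R⟦X⟧ T⟦X⟧ = map f)

local notation "P" => R⟦X⟧
local notation "Q" => T⟦X⟧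
local notation "Pbar" => (R⟦X⟧ ⧸ Ideal.span {(X : R⟦X⟧)})

/-- `T → P̄ ⊗[P] Q`. -/
noncomputable def ι₂ : T →+* Pbar ⊗[P] Q :=
  (Algebra.TensorProduct.includeRight : Q →ₐ[P] Pbar ⊗[P] Q).toRingHom.comp (C : T →+* Q)

theorem ι₂_apply (t : T) : ι₂ (R := R) t = (1 : Pbar) ⊗ₜ[P] (C t : Q) := rfl

include halg in
theorem smul_eq (p : P) (q : Q) : p • q = map f p * q := by
  rw [Algebra.smul_def, halg]

include halg in
theorem one_tmul_X_mul (q : Q) : (1 : Pbar) ⊗ₜ[P] ((X : Q) * q) = 0 := by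
  have : (X : Q) * q = (X : P) • q := by rw [smul_eq f halg, map_X]
  rw [this, ← smul_tmul]
  have h0 : (X : P) • (1 : Pbar) = 0 := by
    have h00 : (X : P) • (1 : Pbar) = Ideal.Quotient.mk _ ((X : P) * 1) := rfl
    rw [h00, mul_one]
    exact Ideal.Quotient.eq_zero_iff_mem.mpr (Ideal.subset_span rfl)
  rw [h0, zero_tmul]

include halg in
theorem one_tmul_eq (q : Q) : (1 : Pbar) ⊗ₜ[P] q = ι₂ (R := R) (constantCoeff q) := by
  have h1 : (X : Q) ∣ q - C (constantCoeff q) := by
    rw [X_dvd_iff, map_sub, constantCoeff_C, sub_self]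
  obtain ⟨q', hq'⟩ := h1
  have h2 : q = C (constantCoeff q) + X * q' := by rw [← hq']; ring
  rw [ι₂_apply]
  conv_lhs => rw [h2]
  rw [tmul_add, one_tmul_X_mul f halg, add_zero]

include halg in
theorem ι₂_surjective : Function.Surjective (ι₂ (R := R) (T := T)) := by
  intro z
  induction z using TensorProduct.induction_on with
  | zero => exact ⟨0, map_zero _⟩
  | tmul a q =>
    obtain ⟨p, rfl⟩ := Ideal.Quotient.mk_surjective a
    have : (Ideal.Quotient.mk _ p : Pbar) ⊗ₜ[P] q = (1 : Pbar) ⊗ₜ[P] (p • q) := by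
      rw [← smul_tmul]
      congr 1
      have h00 : p • (1 : Pbar) = Ideal.Quotient.mk _ (p * 1) := rfl
      rw [h00, mul_one]
    rw [this, one_tmul_eq f halg]
    exact ⟨_, rfl⟩
  | add z₁ z₂ h₁ h₂ =>
    obtain ⟨t₁, rfl⟩ := h₁
    obtain ⟨t₂, rfl⟩ := h₂
    exact ⟨t₁ + t₂, map_add _ _ _⟩

omit [Algebra R⟦X⟧ T⟦X⟧] in
theorem constantCoeff_map' (p : P) : constantCoeff (map f p) = f (constantCoeff p) := by
  rw [← coeff_zero_eq_constantCoeff_apply, ← coeff_zero_eq_constantCoeff_apply]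
  exact coeff_map f 0 p

include halg in
/-- left inverse of `ι₂` (additive). -/
noncomputable def κ : Pbar ⊗[P] Q →+ T :=
  TensorProduct.liftAddHom
    (AddMonoidHom.mk' (fun a : Pbar => AddMonoidHom.mk' (fun q : Q => f (ι₁ a) * constantCoeff q)
      (by intro q₁ q₂; rw [map_add, mul_add]))
      (by intro a₁ a₂; ext q; simp [add_mul]))
    (by
      intro p a q
      obtain ⟨p', rfl⟩ := Ideal.Quotient.mk_surjective a
      have h00 : p • (Ideal.Quotient.mk _ p' : Pbar) = Ideal.Quotient.mk _ (p * p') := rfl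
      simp only [AddMonoidHom.mk'_apply, h00, ι₁_mk, map_mul, smul_eq f halg, constantCoeff_map']
      ring)

include halg in
theorem κ_ι₂ (t : T) : κ f halg (ι₂ (R := R) t) = t := by
  rw [ι₂_apply, κ, TensorProduct.liftAddHom_tmul]
  simp only [AddMonoidHom.mk'_apply]
  have : (1 : Pbar) = Ideal.Quotient.mk _ 1 := rfl
  rw [this, ι₁_mk, map_one, map_one, one_mul, constantCoeff_C]

include halg in
theorem ι₂_bijective : Function.Bijective (ι₂ (R := R) (T := T)) := by
  refine ⟨?_, ι₂_surjective f halg⟩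
  intro t₁ t₂ h
  rw [← κ_ι₂ f halg t₁, ← κ_ι₂ f halg t₂, h]

include halg in
theorem κ_bijective : Function.Bijective (κ (R := R) (T := T) f halg) := by
  constructor
  · intro z₁ z₂ h
    obtain ⟨t₁, rfl⟩ := ι₂_surjective f halg z₁
    obtain ⟨t₂, rfl⟩ := ι₂_surjective f halg z₂
    rw [κ_ι₂, κ_ι₂] at h
    rw [h]
  · intro t
    exact ⟨_, κ_ι₂ f halg t⟩

include halg in
theorem κ_tmul (a : Pbar) (q : Q) : κ f halg (a ⊗ₜ[P] q) = f (ι₁ a) * constantCoeff q := by
  rw [κ, TensorProduct.liftAddHom_tmul]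
  rfl

include halg in
theorem κ_smul (a : Pbar) (z : Pbar ⊗[P] Q) : κ f halg (a • z) = f (ι₁ a) * κ f halg z := by
  induction z using TensorProduct.induction_on with
  | zero => rw [smul_zero, map_zero, mul_zero]
  | add z₁ z₂ h₁ h₂ => rw [smul_add, map_add, map_add, mul_add, h₁, h₂]
  | tmul x y =>
    rw [TensorProduct.smul_tmul', κ_tmul, κ_tmul, smul_eq_mul, map_mul, map_mul, mul_assoc]

end ClaimF

/-- **Claim F**: `R⟦X⟧ → T⟦X⟧` is flat when `R → T` is flat (Noetherian rings). -/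
theorem flat_powerSeries_map {R T : Type u} [CommRing R] [CommRing T] [IsNoetherianRing R]
    [IsNoetherianRing T] (f : R →+* T) (hf : f.Flat) : (PowerSeries.map f).Flat := by
  let _ : Algebra R⟦X⟧ T⟦X⟧ := (PowerSeries.map f).toAlgebra
  have halg : algebraMap R⟦X⟧ T⟦X⟧ = PowerSeries.map f := rfl
  have hq : Module.Flat (R⟦X⟧ ⧸ Ideal.span {(X : R⟦X⟧)})
      ((R⟦X⟧ ⧸ Ideal.span {(X : R⟦X⟧)}) ⊗[R⟦X⟧] T⟦X⟧) := by
    let _ : Algebra R T := f.toAlgebra
    have : Module.Flat R T := hf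
    exact flat_of_semilinear (ι₁ (R := R)) ι₁_bijective (κ f halg) (κ_bijective f halg)
      (fun a z => κ_smul f halg a z)
  show Module.Flat R⟦X⟧ T⟦X⟧
  apply flat_of_regular_element (X : R⟦X⟧)
  · intro s hs
    rw [halg, map_X] at hs
    exact X_mul_cancel (hs.trans (mul_zero _).symm)
  · rw [halg, map_X, Ideal.mem_jacobson_bot]
    intro y
    rw [isUnit_iff_constantCoeff]
    simp

end Groth.Agent.Lib.Helper26.CP1
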