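import Mathlib
import Groth.Agent.Lib.Helper26.CP1
import Groth.Agent.Lib.Helper14.PowerSeriesComplete
import Groth.Agent.Lib.Helper5.RegPS

set_option autoImplicit false
set_option linter.unusedSectionVars false
universe u
open Function

namespace Groth.Agent.Lib.Helper26.CP2


open Groth.Agent.Lib.Helper26.CP1

/-! ### Part A: flatness of `MvPowerSeries.map` -/

theorem map_eq_zero_case {R T : Type u} [CommRing R] [CommRing T] (f : R →+* T) :
    (MvPowerSeries.map (σ := Fin 0) f) =
      ((MvPowerSeries.isEmptyEquiv (Fin 0) T).symm.toRingEquiv.toRingHom).comp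
        (f.comp (MvPowerSeries.isEmptyEquiv (Fin 0) R).toRingEquiv.toRingHom) := by
  ext p : 1
  apply (MvPowerSeries.isEmptyEquiv (Fin 0) T).injective
  simp only [RingHom.comp_apply]
  change _ = (MvPowerSeries.isEmptyEquiv (Fin 0) T)
    ((MvPowerSeries.isEmptyEquiv (Fin 0) T).symm (f ((MvPowerSeries.isEmptyEquiv (Fin 0) R) p)))
  rw [AlgEquiv.apply_symm_apply]
  simp only [MvPowerSeries.isEmptyEquiv_apply]
  rw [← MvPowerSeries.coeff_zero_eq_constantCoeff_apply, MvPowerSeries.coeff_map,
    MvPowerSeries.coeff_zero_eq_constantCoeff_apply]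

theorem map_eq_succ_case {R T : Type u} [CommRing R] [CommRing T] (f : R →+* T) (n : ℕ) :
    (MvPowerSeries.map (σ := Fin (n + 1)) f) =
      ((MvPowerSeries.finSuccEquiv T n).symm.toRingEquiv.toRingHom).comp
        ((PowerSeries.map (MvPowerSeries.map (σ := Fin n) f)).comp
          (MvPowerSeries.finSuccEquiv R n).toRingEquiv.toRingHom) := by
  ext p : 1
  apply (MvPowerSeries.finSuccEquiv T n).injective
  simp only [RingHom.comp_apply]
  change _ = (MvPowerSeries.finSuccEquiv T n)
    ((MvPowerSeries.finSuccEquiv T n).symm (PowerSeries.map (MvPowerSeries.map f)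
      ((MvPowerSeries.finSuccEquiv R n) p)))
  rw [AlgEquiv.apply_symm_apply]
  ext k x
  rw [MvPowerSeries.coeff_coeff_finSuccEquiv, PowerSeries.coeff_map, MvPowerSeries.coeff_map,
    MvPowerSeries.coeff_map, MvPowerSeries.coeff_coeff_finSuccEquiv]

theorem flat_mvPowerSeries_map {R T : Type u} [CommRing R] [CommRing T] [IsNoetherianRing R]
    [IsNoetherianRing T] (f : R →+* T) (hf : f.Flat) (n : ℕ) :
    (MvPowerSeries.map (σ := Fin n) f).Flat := by
  induction n with
  | zero =>
    rw [map_eq_zero_case]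
    exact RingHom.Flat.comp (RingHom.Flat.comp (RingHom.Flat.of_bijective
      (MvPowerSeries.isEmptyEquiv (Fin 0) R).toRingEquiv.bijective) hf)
      (RingHom.Flat.of_bijective (MvPowerSeries.isEmptyEquiv (Fin 0) T).symm.toRingEquiv.bijective)
  | succ n ih =>
    rw [map_eq_succ_case]
    exact RingHom.Flat.comp (RingHom.Flat.comp (RingHom.Flat.of_bijective
      (MvPowerSeries.finSuccEquiv R n).toRingEquiv.bijective)
      (flat_powerSeries_map _ ih)) (RingHom.Flat.of_bijective
        (MvPowerSeries.finSuccEquiv T n).symm.toRingEquiv.bijective)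



/-- `PowerSeries.map` of a ring equivalence. -/
noncomputable def psMapEquiv {R T : Type u} [CommRing R] [CommRing T] (e : R ≃+* T) :
    PowerSeries R ≃+* PowerSeries T :=
  RingEquiv.ofRingHom (PowerSeries.map (e : R →+* T)) (PowerSeries.map (e.symm : T →+* R))
    (by
      rw [← PowerSeries.map_comp]
      have : (e : R →+* T).comp (e.symm : T →+* R) = RingHom.id T := by
        ext x; simp
      rw [this]
      ext p : 1
      rw [PowerSeries.map_id]; rfl)
    (by
      rw [← PowerSeries.map_comp]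
      have : (e.symm : T →+* R).comp (e : R →+* T) = RingHom.id R := by
        ext x; simp
      rw [this]
      ext p : 1
      rw [PowerSeries.map_id]; rfl)

/-- `L⟦y₁..y_r⟧⟦x₁..x_n⟧ ≃ L⟦z₁..z_{r+n}⟧`. -/
noncomputable def iterEquiv (L : Type u) [CommRing L] (r : ℕ) : (n : ℕ) →
    MvPowerSeries (Fin n) (MvPowerSeries (Fin r) L) ≃+* MvPowerSeries (Fin (r + n)) L
  | 0 => (MvPowerSeries.isEmptyEquiv (Fin 0) (MvPowerSeries (Fin r) L)).toRingEquiv
  | n + 1 => ((MvPowerSeries.finSuccEquiv (MvPowerSeries (Fin r) L) n).toRingEquiv.trans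
      (psMapEquiv (iterEquiv L r n))).trans (MvPowerSeries.finSuccEquiv L (r + n)).symm.toRingEquiv



open IsLocalRing

section PartC

variable {L : Type u} [CommRing L] [IsLocalRing L] (c : ℕ)
  (hc : maximalIdeal L = Ideal.span {(c : L)}) (r n : ℕ)

local notation "T" => MvPowerSeries (Fin r) L
local notation "U" => MvPowerSeries (Fin n) (MvPowerSeries (Fin r) L)
local notation "Ω" => MvPowerSeries (Fin r) (ResidueField L)

/-- reduction of the constant coefficient. -/
noncomputable def ψ₀ : U →+* Ω :=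
  (MvPowerSeries.map (residue L)).comp (MvPowerSeries.constantCoeff : U →+* T)

theorem ψ₀_surjective : Surjective (ψ₀ (L := L) r n) := by
  intro ω
  choose a ha using fun m => residue_surjective (R := L) (MvPowerSeries.coeff m ω)
  let t : T := fun m => a m
  refine ⟨MvPowerSeries.C t, ?_⟩
  rw [ψ₀, RingHom.comp_apply, MvPowerSeries.constantCoeff_C]
  ext m
  rw [MvPowerSeries.coeff_map]
  exact ha m

include hc in
theorem mem_span_of_map_eq_zero (t : T) (h : MvPowerSeries.map (residue L) t = 0) :
    t ∈ Ideal.span {(c : T)} := by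
  have h1 : ∀ m, ∃ a : L, a * (c : L) = MvPowerSeries.coeff m t := by
    intro m
    have h2 : residue L (MvPowerSeries.coeff m t) = 0 := by
      rw [← MvPowerSeries.coeff_map, h, map_zero]
    rw [residue_eq_zero_iff, hc] at h2
    exact Ideal.mem_span_singleton'.mp h2
  choose a ha using h1
  let t' : T := fun m => a m
  rw [Ideal.mem_span_singleton']
  refine ⟨t', ?_⟩
  ext m
  rw [← map_natCast (MvPowerSeries.C : L →+* T), MvPowerSeries.coeff_mul_C]
  exact ha m

include hc in
theorem ker_ψ₀ : RingHom.ker (ψ₀ (L := L) r n) =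
    Ideal.span {(c : U)} ⊔ Ideal.span (Set.range (MvPowerSeries.X : Fin n → U)) := by
  apply le_antisymm
  · intro s hs
    rw [RingHom.mem_ker, ψ₀, RingHom.comp_apply] at hs
    have h1 := mem_span_of_map_eq_zero c hc r _ hs
    obtain ⟨t', ht'⟩ := Ideal.mem_span_singleton'.mp h1
    have h2 : s = MvPowerSeries.C t' * (c : U) + (s - MvPowerSeries.C (MvPowerSeries.constantCoeff s)) := by
      rw [← ht', map_mul, map_natCast]
      ring
    rw [h2]
    refine Ideal.add_mem _ (Ideal.mem_sup_left (Ideal.mul_mem_left _ _ (Ideal.subset_span rfl)))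
      (Ideal.mem_sup_right ?_)
    rw [← Groth.Agent.Helper14.PowerSeriesAdic.ker_constantCoeff_eq, RingHom.mem_ker, map_sub,
      MvPowerSeries.constantCoeff_C, sub_self]
  · apply sup_le
    · rw [Ideal.span_le, Set.singleton_subset_iff, SetLike.mem_coe, RingHom.mem_ker, map_natCast]
      rw [← map_natCast (MvPowerSeries.C : ResidueField L →+* Ω), ← map_natCast (residue L)]
      rw [(residue_eq_zero_iff _).mpr, map_zero]
      rw [hc]
      exact Ideal.subset_span rfl
    · rw [Ideal.span_le]
      rintro _ ⟨i, rfl⟩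
      rw [SetLike.mem_coe, RingHom.mem_ker, ψ₀, RingHom.comp_apply, MvPowerSeries.constantCoeff_X,
        map_zero]

variable {Λ : Type u} [CommRing Λ] [IsLocalRing Λ] (hcΛ : maximalIdeal Λ = Ideal.span {(c : Λ)})

include hcΛ in
theorem map_maximalIdeal (v₀ : Λ →+* T) :
    (maximalIdeal (MvPowerSeries (Fin n) Λ)).map (MvPowerSeries.map (σ := Fin n) v₀) =
      Ideal.span {(c : U)} ⊔ Ideal.span (Set.range (MvPowerSeries.X : Fin n → U)) := by
  rw [Groth.Agent.Helper14.PowerSeriesComplete.maximalIdeal_eq, Ideal.map_sup, Ideal.map_map, hcΛ,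
    Ideal.map_span, Ideal.map_span, Set.image_singleton, ← Set.range_comp]
  congr 2
  · rw [map_natCast]
  · congr 1
    ext i
    rw [Function.comp_apply, MvPowerSeries.map_X]

include hc hcΛ in
theorem isRegularRing_quot (v₀ : Λ →+* T) :
    IsRegularRing (U ⧸ (maximalIdeal (MvPowerSeries (Fin n) Λ)).map
      (MvPowerSeries.map (σ := Fin n) v₀)) := by
  have : IsRegularRing Ω :=
    Groth.Agent.Helper5.RegPS.isRegularRing_mvPowerSeries_fin (ResidueField L) r
  have heq : (maximalIdeal (MvPowerSeries (Fin n) Λ)).map (MvPowerSeries.map (σ := Fin n) v₀) =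
      RingHom.ker (ψ₀ (L := L) r n) := by
    rw [map_maximalIdeal c r n hcΛ v₀, ker_ψ₀ c hc r n]
  exact IsRegularRing.of_ringEquiv ((Ideal.quotEquivOfEq heq).trans
    (RingHom.quotientKerEquivOfSurjective (ψ₀_surjective r n))).symm

end PartC


end Groth.Agent.Lib.Helper26.CP2
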