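import Mathlib
import Groth.Agent.Lib.Helper26.CP2
import Groth.Agent.Lib.Helper14.CohenCoeff

set_option autoImplicit false
set_option linter.unusedSectionVars false
set_option linter.style.haveILetI false
set_option linter.overlappingInstances false
universe u
open Function

namespace Groth.Agent.Lib.Helper26.CP3

open IsLocalRing Groth.Agent.Lib.Helper26.CP2 Groth.Agent.Helper14.CohenLift
  Groth.Agent.Helper14.PowerSeriesComplete Groth.Agent.Helper14.PowerSeriesAdic

/-- uniqueness of continuous algebra maps out of power series rings. -/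
theorem algHom_ext_hausdorff {σ : Type} [Finite σ] {Λ R : Type u} [CommRing Λ] [CommRing R]
    [Algebra Λ R] (𝔪 : Ideal R) [IsHausdorff 𝔪 R] (g g' : MvPowerSeries σ Λ →ₐ[Λ] R)
    (hg : ∀ i, g (MvPowerSeries.X i) ∈ 𝔪)
    (h : ∀ i, g (MvPowerSeries.X i) = g' (MvPowerSeries.X i)) : g = g' := by
  have key : ∀ k : ℕ, (Ideal.Quotient.mkₐ Λ (𝔪 ^ k)).comp g =
      (Ideal.Quotient.mkₐ Λ (𝔪 ^ k)).comp g' := by
    intro k
    have hk : ∀ (f : MvPowerSeries σ Λ →ₐ[Λ] R), (∀ i, f (MvPowerSeries.X i) ∈ 𝔪) →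
        ∀ x ∈ (Ideal.span (Set.range (MvPowerSeries.X : σ → MvPowerSeries σ Λ))) ^ k,
          (Ideal.Quotient.mkₐ Λ (𝔪 ^ k)).comp f x = 0 := by
      intro f hf x hx
      rw [AlgHom.comp_apply, Ideal.Quotient.mkₐ_eq_mk, Ideal.Quotient.eq_zero_iff_mem]
      have h1 : (Ideal.span (Set.range (MvPowerSeries.X : σ → MvPowerSeries σ Λ))).map
          (f : MvPowerSeries σ Λ →+* R) ≤ 𝔪 := by
        rw [Ideal.map_span, Ideal.span_le]
        rintro _ ⟨_, ⟨i, rfl⟩, rfl⟩
        exact hf i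
      have h2 : ((Ideal.span (Set.range (MvPowerSeries.X : σ → MvPowerSeries σ Λ))) ^ k).map
          (f : MvPowerSeries σ Λ →+* R) ≤ 𝔪 ^ k := by
        rw [Ideal.map_pow]
        exact Ideal.pow_right_mono h1 k
      exact h2 (Ideal.mem_map_of_mem _ hx)
    apply algHom_ext_of_adic _ _ _ k (hk g hg) (hk g' (fun i => h i ▸ hg i))
    intro i
    rw [AlgHom.comp_apply, AlgHom.comp_apply, h]
  refine AlgHom.ext fun x => ?_
  rw [← sub_eq_zero]
  refine IsHausdorff.haus' (I := 𝔪) _ fun k => ?_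
  rw [SModEq.zero, smul_eq_mul, Ideal.mul_top, ← Ideal.Quotient.eq_zero_iff_mem, map_sub,
    sub_eq_zero]
  exact DFunLike.congr_fun (key k) x


/-- lifting the coefficient ring map through a surjection from a power series ring. -/
theorem exists_v₀ {A B : Type u} [CommRing A] [CommRing B]
    [IsLocalRing A] [IsLocalRing B] [IsNoetherianRing B]
    [Algebra A B] [IsLocalHom (algebraMap A B)]
    {Λ Λ' : Type u} [CommRing Λ] [CommRing Λ'] [IsLocalRing Λ] [IsLocalRing Λ']
    [IsNoetherianRing Λ'] [IsAdicComplete (maximalIdeal Λ') Λ']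
    (c : Λ →+* A) [IsLocalHom c] (hFS : IsRingFS (maximalIdeal Λ)) (r : ℕ)
    (π : MvPowerSeries (Fin r) Λ' →+* B) (hπs : Surjective π) :
    ∃ v₀ : Λ →+* MvPowerSeries (Fin r) Λ', IsLocalHom v₀ ∧
      π.comp v₀ = (algebraMap A B).comp c := by
  have : IsAdicComplete (maximalIdeal (MvPowerSeries (Fin r) Λ')) (MvPowerSeries (Fin r) Λ') :=
    isAdicComplete_maximalIdeal (Fin r) Λ'
  let J := RingHom.ker π
  have hJ : J ≠ ⊤ := RingHom.ker_ne_top π
  let E : (MvPowerSeries (Fin r) Λ' ⧸ J) ≃+* B := RingHom.quotientKerEquivOfSurjective hπs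
  have : IsLocalRing (MvPowerSeries (Fin r) Λ' ⧸ J) := E.symm.isLocalRing
  have : IsLocalHom (Ideal.Quotient.mk J) :=
    IsLocalHom.of_surjective _ Ideal.Quotient.mk_surjective
  have : IsHausdorff ((maximalIdeal (MvPowerSeries (Fin r) Λ')).map (Ideal.Quotient.mk J))
      (MvPowerSeries (Fin r) Λ' ⧸ J) :=
    IsHausdorff.of_isLocalRing _ _ (map_maximalIdeal_lt_top (Ideal.Quotient.mk J)).ne
  let u : Λ →+* MvPowerSeries (Fin r) Λ' ⧸ J :=
    (E.symm : B →+* MvPowerSeries (Fin r) Λ' ⧸ J).comp ((algebraMap A B).comp c)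
  have : IsLocalHom u := ⟨fun x hx => by
    have h1 : IsUnit (E (u x)) := hx.map E
    have h2 : E (u x) = algebraMap A B (c x) := E.apply_symm_apply _
    rw [h2] at h1
    exact IsUnit.of_map c x (IsUnit.of_map (algebraMap A B) _ h1)⟩
  obtain ⟨v, hvloc, hv⟩ := exists_local_lift hFS J hJ u
  refine ⟨v, hvloc, ?_⟩
  ext x
  have h1 := DFunLike.congr_fun hv x
  have h2 : E (Ideal.Quotient.mk J (v x)) = π (v x) :=
    RingHom.quotientKerEquivOfSurjective_apply_mk hπs (v x)
  have h3 : E (u x) = algebraMap A B (c x) := E.apply_symm_apply _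
  rw [RingHom.comp_apply, RingHom.comp_apply, ← h2, ← h3]
  exact congrArg E h1


/-- a surjection from a power series ring onto a complete local ring with prescribed
coefficient ring map and variables going to generators of the maximal ideal. -/
theorem exists_ρ {A : Type u} [CommRing A] [IsLocalRing A]
    [IsAdicComplete (maximalIdeal A) A] {Λ : Type u} [CommRing Λ] (c : Λ →+* A)
    (hcs : Surjective ((residue A).comp c)) (n : ℕ) (g : Fin n → A)
    (hg : Ideal.span (Set.range g) = maximalIdeal A) :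
    ∃ ρ : MvPowerSeries (Fin n) Λ →+* A, (∀ i, ρ (MvPowerSeries.X i) = g i) ∧ Surjective ρ ∧
      ρ.comp MvPowerSeries.C = c := by
  have hgm : ∀ i, g i ∈ maximalIdeal A := fun i => by
    rw [← hg]
    exact Submodule.subset_span ⟨i, rfl⟩
  let _ : Algebra Λ A := c.toAlgebra
  obtain ⟨ρ, hρ⟩ := exists_algHom_complete (Λ := Λ) (maximalIdeal A) g hgm
  refine ⟨ρ, hρ, surjective_of_residue g hg hcs ρ hρ, ?_⟩
  ext a
  have h1 : (MvPowerSeries.C a : MvPowerSeries (Fin n) Λ) =
      algebraMap Λ (MvPowerSeries (Fin n) Λ) a := by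
    rw [MvPowerSeries.algebraMap_apply]; simp
  rw [RingHom.comp_apply, h1]
  exact ρ.commutes a

/-- a map from a power series ring to a complete local ring, with prescribed coefficient map and
sending the variables to prescribed elements of the maximal ideal. -/
theorem exists_σ₀ {B : Type u} [CommRing B] [IsLocalRing B]
    [IsAdicComplete (maximalIdeal B) B] {T : Type u} [CommRing T] (π : T →+* B)
    (n : ℕ) (h : Fin n → B) (hh : ∀ i, h i ∈ maximalIdeal B) :
    ∃ σ₀ : MvPowerSeries (Fin n) T →+* B, (∀ i, σ₀ (MvPowerSeries.X i) = h i) ∧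
      σ₀.comp MvPowerSeries.C = π := by
  let _ : Algebra T B := π.toAlgebra
  obtain ⟨ρ, hρ⟩ := exists_algHom_complete (Λ := T) (maximalIdeal B) h hh
  refine ⟨ρ, hρ, ?_⟩
  ext a
  have h1 : (MvPowerSeries.C a : MvPowerSeries (Fin n) T) =
      algebraMap T (MvPowerSeries (Fin n) T) a := by
    rw [MvPowerSeries.algebraMap_apply]; simp
  rw [RingHom.comp_apply, h1]
  exact ρ.commutes a

/-- uniqueness for ring maps. -/
theorem ringHom_ext_hausdorff {Λ B : Type u} [CommRing Λ] [CommRing B] (𝔪 : Ideal B)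
    [IsHausdorff 𝔪 B] (n : ℕ) (G₁ G₂ : MvPowerSeries (Fin n) Λ →+* B)
    (hC : G₁.comp MvPowerSeries.C = G₂.comp MvPowerSeries.C)
    (hX : ∀ i, G₁ (MvPowerSeries.X i) = G₂ (MvPowerSeries.X i))
    (hm : ∀ i, G₁ (MvPowerSeries.X i) ∈ 𝔪) : G₁ = G₂ := by
  let _ : Algebra Λ B := (G₁.comp MvPowerSeries.C).toAlgebra
  have hcm : ∀ (G : MvPowerSeries (Fin n) Λ →+* B), G.comp MvPowerSeries.C = G₁.comp MvPowerSeries.C →
      ∀ a : Λ, G (algebraMap Λ (MvPowerSeries (Fin n) Λ) a) = algebraMap Λ B a := by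
    intro G hG a
    have h1 : (algebraMap Λ (MvPowerSeries (Fin n) Λ) a) = MvPowerSeries.C a := by
      rw [MvPowerSeries.algebraMap_apply]; simp
    rw [h1]
    exact DFunLike.congr_fun hG a
  let F₁ : MvPowerSeries (Fin n) Λ →ₐ[Λ] B := { G₁ with commutes' := hcm G₁ rfl }
  let F₂ : MvPowerSeries (Fin n) Λ →ₐ[Λ] B := { G₂ with commutes' := hcm G₂ hC.symm }
  have := algHom_ext_hausdorff 𝔪 F₁ F₂ hm hX
  ext x : 1
  exact DFunLike.congr_fun this x

theorem isRegularRing_quot_of_equiv {R U S : Type u} [CommRing R] [CommRing U] [CommRing S]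
    (I : Ideal R) (f : R →+* U) (e : U ≃+* S) [IsRegularRing (U ⧸ I.map f)] :
    IsRegularRing (S ⧸ I.map ((e : U →+* S).comp f)) := by
  refine IsRegularRing.of_ringEquiv (Ideal.quotientEquiv (I.map f)
    (I.map ((e : U →+* S).comp f)) e ?_)
  rw [Ideal.map_map]

theorem core {A B : Type u} [CommRing A] [CommRing B]
    [IsLocalRing A] [IsLocalRing B] [IsNoetherianRing A] [IsNoetherianRing B]
    [IsAdicComplete (maximalIdeal A) A] [IsAdicComplete (maximalIdeal B) B]
    [Algebra A B] [IsLocalHom (algebraMap A B)]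
    {Λ Λ' : Type u} [CommRing Λ] [CommRing Λ'] [IsLocalRing Λ] [IsLocalRing Λ']
    [IsNoetherianRing Λ] [IsNoetherianRing Λ'] [IsAdicComplete (maximalIdeal Λ') Λ']
    (c : Λ →+* A) [IsLocalHom c] (c' : Λ' →+* B)
    (hcs : Surjective ((residue A).comp c)) (hcs' : Surjective ((residue B).comp c'))
    (hFS : IsRingFS (maximalIdeal Λ)) (q : ℕ) (hq : maximalIdeal Λ = Ideal.span {(q : Λ)})
    (hq' : maximalIdeal Λ' = Ideal.span {(q : Λ')})
    (hflat : ∀ (r : ℕ) (v : Λ →+* MvPowerSeries (Fin r) Λ'), IsLocalHom v → v.Flat) :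
    ∃ (n m : ℕ) (ρ : MvPowerSeries (Fin n) Λ →+* A) (σ : MvPowerSeries (Fin m) Λ' →+* B)
      (τ : MvPowerSeries (Fin n) Λ →+* MvPowerSeries (Fin m) Λ'),
        Surjective ρ ∧ Surjective σ ∧ σ.comp τ = (algebraMap A B).comp ρ ∧
        τ.Flat ∧ IsRegularRing (MvPowerSeries (Fin m) Λ' ⧸
          (maximalIdeal (MvPowerSeries (Fin n) Λ)).map τ) := by
  obtain ⟨n, g, hg⟩ := Submodule.fg_iff_exists_fin_generating_family.mp
    (IsNoetherian.noetherian (maximalIdeal A))
  obtain ⟨r, g', hg'⟩ := Submodule.fg_iff_exists_fin_generating_family.mp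
    (IsNoetherian.noetherian (maximalIdeal B))
  have hgm : ∀ i, g i ∈ maximalIdeal A := fun i => by
    rw [← hg]
    exact Submodule.subset_span ⟨i, rfl⟩
  obtain ⟨ρ, hρX, hρs, hρC⟩ := exists_ρ c hcs n g hg
  obtain ⟨π, hπX, hπs, hπC⟩ := exists_ρ c' hcs' r g' hg'
  obtain ⟨v₀, hv₀loc, hv₀⟩ := exists_v₀ c hFS r π hπs
  have hβm : ∀ i, algebraMap A B (g i) ∈ maximalIdeal B := fun i =>
    map_nonunit (algebraMap A B) _ (hgm i)
  obtain ⟨σ₀, hσ₀X, hσ₀C⟩ := exists_σ₀ π n (fun i => algebraMap A B (g i)) hβm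
  have hσ₀s : Surjective σ₀ := fun b => by
    obtain ⟨t, rfl⟩ := hπs b
    exact ⟨MvPowerSeries.C t, DFunLike.congr_fun hσ₀C t⟩
  have hcomm : σ₀.comp (MvPowerSeries.map v₀) = (algebraMap A B).comp ρ := by
    apply ringHom_ext_hausdorff (maximalIdeal B) n
    · ext a
      simp only [RingHom.comp_apply, MvPowerSeries.map_C]
      have h1 : σ₀ (MvPowerSeries.C (v₀ a)) = π (v₀ a) := DFunLike.congr_fun hσ₀C (v₀ a)
      have h2 : π (v₀ a) = algebraMap A B (c a) := DFunLike.congr_fun hv₀ a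
      have h3 : ρ (MvPowerSeries.C a) = c a := DFunLike.congr_fun hρC a
      rw [h1, h2, h3]
    · intro i
      simp only [RingHom.comp_apply, MvPowerSeries.map_X, hσ₀X, hρX]
    · intro i
      simp only [RingHom.comp_apply, MvPowerSeries.map_X, hσ₀X]
      exact hβm i
  obtain ⟨e⟩ : Nonempty (MvPowerSeries (Fin n) (MvPowerSeries (Fin r) Λ') ≃+*
      MvPowerSeries (Fin (r + n)) Λ') := ⟨iterEquiv Λ' r n⟩
  refine ⟨n, r + n, ρ, σ₀.comp (e.symm : MvPowerSeries (Fin (r + n)) Λ' →+* _),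
    (e : _ →+* MvPowerSeries (Fin (r + n)) Λ').comp (MvPowerSeries.map v₀), hρs, ?_, ?_, ?_, ?_⟩
  · exact hσ₀s.comp e.symm.surjective
  · rw [← hcomm]
    ext x : 1
    simp only [RingHom.comp_apply, RingHom.coe_coe, RingEquiv.symm_apply_apply]
  · exact RingHom.Flat.comp (flat_mvPowerSeries_map v₀ (hflat r v₀ hv₀loc) n)
      (RingHom.Flat.of_bijective e.bijective)
  · have hreg := isRegularRing_quot q hq' r n hq v₀
    exact isRegularRing_quot_of_equiv _ _ e


theorem flat_of_isField {Λ T : Type u} [CommRing Λ] [CommRing T] (hf : IsField Λ) (v : Λ →+* T) :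
    v.Flat := by
  letI := hf.toField
  letI : Algebra Λ T := v.toAlgebra
  show Module.Flat Λ T
  infer_instance

theorem isRingFS_of_isField {Λ K : Type u} [CommRing Λ] [IsLocalRing Λ] [Field K] [CharZero K] (hf : IsField Λ)
    (w : Λ →+* K) : IsRingFS (maximalIdeal Λ) := by
  letI := hf.toField
  haveI : CharZero Λ := (RingHom.charZero_iff w.injective).mpr inferInstance
  haveI := formallySmooth_int_of_field Λ
  exact isRingFS_of_formallySmooth_int _

theorem isNoetherianRing_of_isField {Λ : Type u} [CommRing Λ] (hf : IsField Λ) :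
    IsNoetherianRing Λ := by
  letI := hf.toField
  infer_instance

theorem maximalIdeal_of_isField {Λ : Type u} [CommRing Λ] [IsLocalRing Λ] (hf : IsField Λ) :
    maximalIdeal Λ = Ideal.span {((0 : ℕ) : Λ)} := by
  rw [Nat.cast_zero, Ideal.span_singleton_eq_bot.mpr rfl]
  exact IsLocalRing.isField_iff_maximalIdeal_eq.mp hf

theorem flat_of_cohen {Λ Λ' : Type u} [CommRing Λ] [CommRing Λ'] [IsLocalRing Λ] [IsLocalRing Λ']
    [IsNoetherianRing Λ] [IsNoetherianRing Λ'] [IsDomain Λ'] [IsDiscreteValuationRing Λ']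
    (p : ℕ) (hm : maximalIdeal Λ = Ideal.span {(p : Λ)})
    (hm' : maximalIdeal Λ' = Ideal.span {(p : Λ')}) (r : ℕ)
    (v : Λ →+* MvPowerSeries (Fin r) Λ') (hv : IsLocalHom v) : v.Flat := by
  letI : Algebra Λ (MvPowerSeries (Fin r) Λ') := v.toAlgebra
  show Module.Flat Λ (MvPowerSeries (Fin r) Λ')
  haveI : (Ideal.span {(p : Λ)}).IsMaximal := hm ▸ maximalIdeal.isMaximal Λ
  letI : Field (Λ ⧸ Ideal.span {(p : Λ)}) := Ideal.Quotient.field _
  apply Groth.Agent.Lib.Helper26.CP1.flat_of_regular_element (p : Λ)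
  · intro s hs
    rw [RingHom.algebraMap_toAlgebra, map_natCast] at hs
    rcases mul_eq_zero.mp hs with h | h
    · exfalso
      have h2 := congrArg (MvPowerSeries.constantCoeff (σ := Fin r) (R := Λ')) h
      rw [map_natCast, map_zero] at h2
      exact natCast_ne_zero_of_dvr p hm' h2
    · exact h
  · rw [IsLocalRing.jacobson_eq_maximalIdeal ⊥ bot_ne_top, RingHom.algebraMap_toAlgebra]
    exact map_nonunit v _ (hm ▸ Ideal.subset_span rfl)

theorem main {A B : Type u} [CommRing A] [CommRing B]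
    [IsLocalRing A] [IsLocalRing B] [IsNoetherianRing A] [IsNoetherianRing B]
    [IsAdicComplete (maximalIdeal A) A] [IsAdicComplete (maximalIdeal B) B]
    [Algebra A B] [IsLocalHom (algebraMap A B)] :
    ∃ (Λ Λ' : Type u) (_ : CommRing Λ) (_ : CommRing Λ') (_ : IsLocalRing Λ) (n m : ℕ)
      (ρ : MvPowerSeries (Fin n) Λ →+* A) (σ : MvPowerSeries (Fin m) Λ' →+* B)
      (τ : MvPowerSeries (Fin n) Λ →+* MvPowerSeries (Fin m) Λ'),
      ((CharZero (ResidueField A) ∧ IsField Λ ∧ IsField Λ') ∨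
        (¬ CharZero (ResidueField A) ∧ CAlg.IsCohenRing Λ ∧ CAlg.IsCohenRing Λ')) ∧
        Surjective ρ ∧ Surjective σ ∧ σ.comp τ = (algebraMap A B).comp ρ ∧
        τ.Flat ∧ IsRegularRing (MvPowerSeries (Fin m) Λ' ⧸
          (maximalIdeal (MvPowerSeries (Fin n) Λ)).map τ) := by
  obtain ⟨Λ, _, _, c, hcloc, hcs, hΛ⟩ :=
    Groth.Agent.Helper14.CohenCoeff.exists_coefficient_ring A
  obtain ⟨Λ', _, _, c', hc'loc, hcs', hΛ'⟩ :=
    Groth.Agent.Helper14.CohenCoeff.exists_coefficient_ring B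
  have hchar : CharZero (ResidueField A) ↔ CharZero (ResidueField B) :=
    RingHom.charZero_iff (ResidueField.map (algebraMap A B)).injective
  rcases hΛ with ⟨hz, hf⟩ | ⟨hnz, hC⟩
  · -- field case
    have hf' : IsField Λ' := by
      rcases hΛ' with ⟨-, h⟩ | ⟨h, -⟩
      · exact h
      · exact absurd (hchar.mp hz) h
    have hN := isNoetherianRing_of_isField hf
    have hN' := isNoetherianRing_of_isField hf'
    have hq := maximalIdeal_of_isField hf
    have hq' := maximalIdeal_of_isField hf'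
    have hcomp : IsAdicComplete (maximalIdeal Λ') Λ' := by
      rw [IsLocalRing.isField_iff_maximalIdeal_eq.mp hf']
      infer_instance
    have hFS : IsRingFS (maximalIdeal Λ) := isRingFS_of_isField hf ((residue A).comp c)
    obtain ⟨n, m, ρ, σ, τ, h1, h2, h3, h4, h5⟩ := core c c' hcs hcs' hFS 0 hq hq'
      (fun r v _ => flat_of_isField hf v)
    exact ⟨Λ, Λ', inferInstance, inferInstance, inferInstance, n, m, ρ, σ, τ,
      Or.inl ⟨hz, hf, hf'⟩, h1, h2, h3, h4, h5⟩
  · -- Cohen case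
    have hC' : CAlg.IsCohenRing Λ' := by
      rcases hΛ' with ⟨h, -⟩ | ⟨-, h⟩
      · exact absurd (hchar.mpr h) hnz
      · exact h
    obtain ⟨hdom, hdvr, hcomp, p, hp, hm⟩ := hC
    obtain ⟨hdom', hdvr', hcomp', p', hp', hm'⟩ := hC'
    have hpp : p = p' := by
      by_contra hne
      have h2 : (p : B) ∈ maximalIdeal B := by
        have h0 : (p : Λ) ∈ maximalIdeal Λ := hm ▸ Ideal.subset_span rfl
        have h1 := map_nonunit (algebraMap A B) _ (map_nonunit c _ h0)
        rwa [map_natCast, map_natCast] at h1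
      have h3 : (p' : B) ∈ maximalIdeal B := by
        have h0 : (p' : Λ') ∈ maximalIdeal Λ' := hm' ▸ Ideal.subset_span rfl
        have h1 := map_nonunit c' _ h0
        rwa [map_natCast] at h1
      have hcop : Nat.Coprime p p' := (Nat.coprime_primes hp hp').mpr hne
      obtain ⟨a, b, hab⟩ := Nat.isCoprime_iff_coprime.mpr hcop
      have h4 : ((a * p + b * p' : ℤ) : B) = 1 := by rw [hab]; simp
      push_cast at h4
      have h5 : (1 : B) ∈ maximalIdeal B := by
        rw [← h4]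
        exact Ideal.add_mem _ (Ideal.mul_mem_left _ _ h2) (Ideal.mul_mem_left _ _ h3)
      exact (maximalIdeal.isMaximal B).ne_top ((Ideal.eq_top_iff_one _).mpr h5)
    subst hpp
    have hFS : IsRingFS (maximalIdeal Λ) := isRingFS_cohen Λ p hp hm
    obtain ⟨n, m, ρ, σ, τ, h1, h2, h3, h4, h5⟩ := core c c' hcs hcs' hFS p hm hm'
      (fun r v hv => flat_of_cohen p hm hm' r v hv)
    exact ⟨Λ, Λ', inferInstance, inferInstance, inferInstance, n, m, ρ, σ, τ,
      Or.inr ⟨hnz, ⟨hdom, hdvr, hcomp, p, hp, hm⟩, ⟨hdom', hdvr', hcomp', p, hp', hm'⟩⟩,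
      h1, h2, h3, h4, h5⟩

end Groth.Agent.Lib.Helper26.CP3
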