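import Mathlib
import Groth.Agent.Lib.Helper26.CBinet2

universe u

namespace Groth.Agent.Lib.Helper26.CharCoef

open Polynomial Matrix

section matrix

variable {A K : Type u} [CommRing A] [CommRing K] [Algebra A K]
variable {r n : ℕ}

/-- index type of `r`-subsets of `Fin n` -/
abbrev Sub (n r : ℕ) : Type := {s : Finset (Fin n) // s.card = r}

/-- the order embedding of an `r`-subset -/
abbrev emb (S : Sub n r) : Fin r ↪o Fin n := S.1.orderEmbOfFin S.2

/-- maximal minors -/
noncomputable def minor (X : Matrix (Fin r) (Fin n) K) (S : Sub n r) : K :=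
  (X.submatrix id (emb S)).det

/-- the `A`-span of the maximal minors -/
noncomputable def minorSpan (A : Type u) [CommRing A] [Algebra A K] (X : Matrix (Fin r) (Fin n) K) :
    Submodule A K :=
  Submodule.span A (Set.range (minor X))

theorem charmatrix_mul_eq (X : Matrix (Fin r) (Fin n) K) (V : Matrix (Fin r) (Fin r) K)
    (aK : Matrix (Fin n) (Fin n) K) (h : V * X = X * aK) :
    charmatrix V * X.map C = X.map C * charmatrix aK := by
  have h1 : (V * X).map (C : K →+* K[X]) = (X * aK).map (C : K →+* K[X]) := by rw [h]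
  rw [Matrix.map_mul, Matrix.map_mul] at h1
  unfold charmatrix
  rw [Matrix.sub_mul, Matrix.mul_sub]
  congr 1
  · ext i j
    rw [Matrix.scalar_apply, Matrix.scalar_apply, Matrix.diagonal_mul, Matrix.mul_diagonal,
      mul_comm]

theorem charpoly_mul_minor (X : Matrix (Fin r) (Fin n) K) (V : Matrix (Fin r) (Fin r) K)
    (a : Matrix (Fin n) (Fin n) A) (h : V * X = X * a.map (algebraMap A K)) (S : Sub n r) :
    V.charpoly * C (minor X S) = ∑ S' : Sub n r, C (minor X S') *
      (((charmatrix a).submatrix (emb S') (emb S)).det).map (algebraMap A K) := by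
  have h1 := charmatrix_mul_eq X V _ h
  have h2 : charmatrix V * (X.map C).submatrix id (emb S) =
      X.map C * (charmatrix (a.map (algebraMap A K))).submatrix id (emb S) := by
    have e1 : ∀ (M : Matrix (Fin r) (Fin r) K[X]) (N : Matrix (Fin r) (Fin n) K[X]),
        (M * N).submatrix id (emb S) = M * N.submatrix id (emb S) := by
      intro M N; ext i j; simp [Matrix.mul_apply]
    have e2 : ∀ (M : Matrix (Fin r) (Fin n) K[X]) (N : Matrix (Fin n) (Fin n) K[X]),
        (M * N).submatrix id (emb S) = M * N.submatrix id (emb S) := by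
      intro M N; ext i j; simp [Matrix.mul_apply]
    have := congrArg (fun M => M.submatrix id (emb S)) h1
    simp only [e1, e2] at this
    exact this
  have h3 := congrArg Matrix.det h2
  rw [Matrix.det_mul, Groth.Agent.Helper26.CBinet.cauchy_binet] at h3
  have h4 : ∀ S' : Sub n r, ((X.map C).submatrix id (emb S')).det = C (minor X S') := by
    intro S'
    rw [minor, RingHom.map_det]
    rfl
  rw [h4 S] at h3
  rw [Matrix.charpoly, h3]
  refine Finset.sum_congr rfl fun S' _ => ?_
  congr 1
  · exact h4 S'
  · rw [Matrix.charmatrix_map, ← Polynomial.coe_mapRingHom, RingHom.map_det]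
    rfl

theorem coeff_charpoly_mul_minor_mem (X : Matrix (Fin r) (Fin n) K) (V : Matrix (Fin r) (Fin r) K)
    (a : Matrix (Fin n) (Fin n) A) (h : V * X = X * a.map (algebraMap A K)) (S : Sub n r) (j : ℕ) :
    V.charpoly.coeff j * minor X S ∈ minorSpan A X := by
  have h1 := congrArg (fun p => p.coeff j) (charpoly_mul_minor X V a h S)
  simp only [Polynomial.coeff_mul_C, Polynomial.finsetSum_coeff, Polynomial.coeff_C_mul,
    Polynomial.coeff_map] at h1
  rw [h1]
  refine Submodule.sum_mem _ fun S' _ => ?_
  rw [mul_comm, ← Algebra.smul_def]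
  exact Submodule.smul_mem _ _ (Submodule.subset_span ⟨S', rfl⟩)

theorem sum_minor_mul_eq_one (X : Matrix (Fin r) (Fin n) K) (Y : Matrix (Fin n) (Fin r) K)
    (h : X * Y = 1) :
    ∑ S : Sub n r, minor X S * (Y.submatrix (emb S) id).det = 1 := by
  have := congrArg Matrix.det h
  rw [Groth.Agent.Helper26.CBinet.cauchy_binet, Matrix.det_one] at this
  exact this

/-- The multiplier subalgebra of the span of minors. -/
noncomputable def mulRing (A : Type u) [CommRing A] [Algebra A K] (X : Matrix (Fin r) (Fin n) K) :
    Subalgebra A K where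
  carrier := {y | ∀ z ∈ minorSpan A X, y * z ∈ minorSpan A X}
  mul_mem' := fun {a b} ha hb z hz => by
    rw [mul_assoc]; exact ha _ (hb z hz)
  one_mem' := fun z hz => by rw [one_mul]; exact hz
  add_mem' := fun {a b} ha hb z hz => by
    rw [add_mul]; exact Submodule.add_mem _ (ha z hz) (hb z hz)
  zero_mem' := fun z _ => by rw [zero_mul]; exact Submodule.zero_mem _
  algebraMap_mem' := fun a z hz => by
    rw [← Algebra.smul_def]; exact Submodule.smul_mem _ a hz

theorem mem_mulRing_of_forall_minor (X : Matrix (Fin r) (Fin n) K) {y : K}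
    (h : ∀ S : Sub n r, y * minor X S ∈ minorSpan A X) : y ∈ mulRing A X := by
  intro z hz
  induction hz using Submodule.span_induction with
  | mem z hz =>
    obtain ⟨S, rfl⟩ := hz
    exact h S
  | zero => rw [mul_zero]; exact Submodule.zero_mem _
  | add z w _ _ hz hw => rw [mul_add]; exact Submodule.add_mem _ hz hw
  | smul a z _ hz => rw [mul_smul_comm]; exact Submodule.smul_mem _ a hz

theorem isNoetherian_mulRing [IsNoetherianRing A] (X : Matrix (Fin r) (Fin n) K)
    (Y : Matrix (Fin n) (Fin r) K) (h : X * Y = 1) :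
    IsNoetherian A (Subalgebra.toSubmodule (mulRing A X)) := by
  have hfg : (minorSpan A X).FG := Submodule.fg_span (Set.finite_range _)
  have : Module.Finite A (minorSpan A X) := Module.Finite.of_fg hfg
  have : IsNoetherian A (minorSpan A X →ₗ[A] minorSpan A X) := inferInstance
  let Φ : Subalgebra.toSubmodule (mulRing A X) →ₗ[A] (minorSpan A X →ₗ[A] minorSpan A X) :=
    { toFun := fun y =>
        { toFun := fun z => ⟨y.1 * z.1, y.2 z.1 z.2⟩
          map_add' := fun z w => Subtype.ext (mul_add _ _ _)
          map_smul' := fun a z => Subtype.ext (mul_smul_comm _ _ _) }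
      map_add' := fun y y' => LinearMap.ext fun z => Subtype.ext (add_mul _ _ _)
      map_smul' := fun a y => LinearMap.ext fun z => Subtype.ext (smul_mul_assoc _ _ _) }
  refine isNoetherian_of_injective Φ ?_
  refine (injective_iff_map_eq_zero Φ).mpr ?_
  intro y hy
  apply Subtype.ext
  have h1 := sum_minor_mul_eq_one X Y h
  have h2 : ∀ S : Sub n r, y.1 * minor X S = 0 := by
    intro S
    have := congrArg (fun f => (f ⟨minor X S, Submodule.subset_span ⟨S, rfl⟩⟩ : minorSpan A X).1) hy
    exact this
  calc y.1 = y.1 * 1 := (mul_one _).symm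
    _ = y.1 * ∑ S : Sub n r, minor X S * (Y.submatrix (emb S) id).det := by rw [h1]
    _ = ∑ S : Sub n r, (y.1 * minor X S) * (Y.submatrix (emb S) id).det := by
        rw [Finset.mul_sum]; exact Finset.sum_congr rfl fun S _ => (mul_assoc _ _ _).symm
    _ = 0 := Finset.sum_eq_zero fun S _ => by rw [h2 S, zero_mul]

end matrix

end Groth.Agent.Lib.Helper26.CharCoef
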