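import Mathlib
import Groth.Agent.Lib.Helper26.CharCoef1

universe u

namespace Groth.Agent.Lib.Helper26.CharCoef

open Polynomial Matrix TensorProduct

theorem main (A : Type u) [CommRing A] [IsNoetherianRing A] [IsReduced A]
    (E : Type u) [AddCommGroup E] [Module A E] [Module.Finite A E]
    [Module.Free (FractionRing A) (TensorProduct A (FractionRing A) E)] :
    (Algebra.adjoin A {c : FractionRing A | ∃ (v : E →ₗ[A] E) (j : ℕ),
        c = ((v.baseChange (FractionRing A)).charpoly).coeff j}).toSubmodule.FG := by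
  classical
  set K := FractionRing A with hK
  let ι := Module.Free.ChooseBasisIndex K (K ⊗[A] E)
  let r := Fintype.card ι
  let b : Module.Basis (Fin r) K (K ⊗[A] E) :=
    (Module.Free.chooseBasis K (K ⊗[A] E)).reindex (Fintype.equivFin ι)
  obtain ⟨n, x, hx⟩ := Module.Finite.exists_fin (R := A) (M := E)
  let X : Matrix (Fin r) (Fin n) K := fun i j => b.repr ((1 : K) ⊗ₜ[A] x j) i
  -- spanning over K
  have hspan : Submodule.span K (Set.range fun j => (1 : K) ⊗ₜ[A] x j) = ⊤ := by
    have h1 := Submodule.baseChange_span (R := A) (A := K) (Set.range x)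
    rw [hx, Submodule.baseChange_top, ← Set.range_comp] at h1
    exact h1.symm
  have hY : ∀ l : Fin r, ∃ c : Fin n → K, ∑ j, c j • ((1 : K) ⊗ₜ[A] x j) = b l := by
    intro l
    have : b l ∈ Submodule.span K (Set.range fun j => (1 : K) ⊗ₜ[A] x j) := by
      rw [hspan]; trivial
    exact (Submodule.mem_span_range_iff_exists_fun K).mp this
  choose c hc using hY
  let Y : Matrix (Fin n) (Fin r) K := fun j l => c l j
  have hXY : X * Y = 1 := by
    ext i l
    rw [Matrix.mul_apply]
    have h1 : ∑ j, X i j * Y j l = b.repr (∑ j, c l j • ((1 : K) ⊗ₜ[A] x j)) i := by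
      rw [map_sum, Finsupp.coe_finsetSum, Finset.sum_apply]
      refine Finset.sum_congr rfl fun j _ => ?_
      rw [map_smul, Finsupp.smul_apply, smul_eq_mul, mul_comm]
    rw [h1, hc l, Module.Basis.repr_self, Finsupp.single_apply, Matrix.one_apply]
    by_cases hil : i = l
    · rw [if_pos hil, if_pos hil.symm]
    · rw [if_neg hil, if_neg (Ne.symm hil)]
  have hN := isNoetherian_mulRing (A := A) X Y hXY
  rw [isNoetherian_submodule] at hN
  apply hN
  rw [OrderEmbedding.le_iff_le]
  apply Algebra.adjoin_le
  rintro _ ⟨v, j, rfl⟩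
  -- the matrix of v on generators
  have ha : ∀ j' : Fin n, ∃ d : Fin n → A, ∑ l, d l • x l = v (x j') := by
    intro j'
    have : v (x j') ∈ Submodule.span A (Set.range x) := by rw [hx]; trivial
    exact (Submodule.mem_span_range_iff_exists_fun A).mp this
  choose d hd using ha
  let a : Matrix (Fin n) (Fin n) A := fun l j' => d j' l
  let V : Matrix (Fin r) (Fin r) K := LinearMap.toMatrix b b (v.baseChange K)
  have hVX : V * X = X * a.map (algebraMap A K) := by
    ext i j'
    have h1 : (V * X) i j' = (V *ᵥ (b.repr ((1 : K) ⊗ₜ[A] x j'))) i := by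
      rw [Matrix.mul_apply, Matrix.mulVec, dotProduct]
    rw [h1, LinearMap.toMatrix_mulVec_repr, LinearMap.baseChange_tmul, ← hd j', tmul_sum,
      map_sum, Finsupp.coe_finsetSum, Finset.sum_apply, Matrix.mul_apply]
    refine Finset.sum_congr rfl fun l _ => ?_
    rw [tmul_smul, ← algebraMap_smul K (d j' l), map_smul, Finsupp.smul_apply, smul_eq_mul,
      mul_comm]
    rfl
  have hchar : (v.baseChange K).charpoly = V.charpoly := (LinearMap.charpoly_toMatrix _ b).symm
  rw [hchar]
  exact mem_mulRing_of_forall_minor X (fun S => coeff_charpoly_mul_minor_mem X V a hVX S j)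

end Groth.Agent.Lib.Helper26.CharCoef
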