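import Mathlib

/-!
# Elementary generation of `GL` : definitions and functoriality

`H ι B` is the subgroup of `GL ι B` generated by transvections and invertible diagonal matrices.
-/

namespace Groth.Agent.Helper26.GLGen

open Matrix

variable {ι κ : Type*} [Fintype ι] [DecidableEq ι] [Fintype κ] [DecidableEq κ]
variable {B B' : Type*} [CommRing B] [CommRing B']

/-- The generators: transvections and diagonal matrices with unit entries. -/
def gens (ι : Type*) [Fintype ι] [DecidableEq ι] (B : Type*) [CommRing B] : Set (GL ι B) :=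
  {g | (∃ (i j : ι) (c : B), i ≠ j ∧ (g : Matrix ι ι B) = transvection i j c) ∨
       (∃ d : ι → Bˣ, (g : Matrix ι ι B) = diagonal (fun i => (d i : B)))}

/-- The subgroup generated by transvections and invertible diagonal matrices. -/
def H (ι : Type*) [Fintype ι] [DecidableEq ι] (B : Type*) [CommRing B] : Subgroup (GL ι B) :=
  Subgroup.closure (gens ι B)

lemma mem_H_of_transvection {g : GL ι B} {i j : ι} (hij : i ≠ j) {c : B}
    (h : (g : Matrix ι ι B) = transvection i j c) : g ∈ H ι B :=
  Subgroup.subset_closure (Or.inl ⟨i, j, c, hij, h⟩)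

lemma mem_H_of_diagonal {g : GL ι B} (d : ι → Bˣ)
    (h : (g : Matrix ι ι B) = diagonal (fun i => (d i : B))) : g ∈ H ι B :=
  Subgroup.subset_closure (Or.inr ⟨d, h⟩)

lemma coe_map (φ : B →+* B') (g : GL ι B) :
    ((GeneralLinearGroup.map φ g : GL ι B') : Matrix ι ι B') = (g : Matrix ι ι B).map φ := rfl

lemma map_mem_H (φ : B →+* B') {g : GL ι B} (hg : g ∈ H ι B) :
    GeneralLinearGroup.map φ g ∈ H ι B' := by
  have : H ι B ≤ (H ι B').comap (GeneralLinearGroup.map φ) := by
    refine (Subgroup.closure_le _).2 ?_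
    rintro g (⟨i, j, c, hij, h⟩ | ⟨d, h⟩)
    · refine mem_H_of_transvection hij (c := φ c) ?_
      rw [coe_map, h]
      simp [transvection, Matrix.map_add, Matrix.map_one, Matrix.map_single]
    · refine mem_H_of_diagonal (fun i => Units.map (φ : B →* B') (d i)) ?_
      rw [coe_map, h]
      simp [Matrix.diagonal_map]
  exact this hg

/-- Block embedding `GL ι B → GL (ι ⊕ Unit) B`. -/
def blockMonoidHom (ι : Type*) [Fintype ι] [DecidableEq ι] (B : Type*) [CommRing B] :
    Matrix ι ι B →* Matrix (ι ⊕ Unit) (ι ⊕ Unit) B where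
  toFun M := fromBlocks M 0 0 1
  map_one' := fromBlocks_one
  map_mul' M N := by simp [fromBlocks_multiply]

/-- Block embedding `GL ι B → GL (ι ⊕ Unit) B`. -/
def blockHom (ι : Type*) [Fintype ι] [DecidableEq ι] (B : Type*) [CommRing B] :
    GL ι B →* GL (ι ⊕ Unit) B := Units.map (blockMonoidHom ι B)

lemma coe_blockHom (g : GL ι B) :
    ((blockHom ι B g : GL (ι ⊕ Unit) B) : Matrix (ι ⊕ Unit) (ι ⊕ Unit) B) =
      fromBlocks (g : Matrix ι ι B) 0 0 1 := rfl

lemma blockHom_mem_H {g : GL ι B} (hg : g ∈ H ι B) : blockHom ι B g ∈ H (ι ⊕ Unit) B := by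
  have : H ι B ≤ (H (ι ⊕ Unit) B).comap (blockHom ι B) := by
    refine (Subgroup.closure_le _).2 ?_
    rintro g (⟨i, j, c, hij, h⟩ | ⟨d, h⟩)
    · refine mem_H_of_transvection (i := Sum.inl i) (j := Sum.inl j) (by simpa using hij)
        (c := c) ?_
      rw [coe_blockHom, h]
      have := TransvectionStruct.toMatrix_sumInl (R := B) Unit ⟨i, j, hij, c⟩
      simpa [TransvectionStruct.sumInl, TransvectionStruct.toMatrix] using this.symm
    · refine mem_H_of_diagonal (Sum.elim d (fun _ => 1)) ?_
      rw [coe_blockHom, h]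
      rw [← Matrix.diagonal_one, Matrix.fromBlocks_diagonal]
      congr 1
      ext (i | i) <;> simp
  exact this hg

lemma map_blockHom (φ : B →+* B') (g : GL ι B) :
    GeneralLinearGroup.map φ (blockHom ι B g) = blockHom ι B' (GeneralLinearGroup.map φ g) := by
  apply Units.ext
  rw [coe_map, coe_blockHom, coe_blockHom, coe_map, Matrix.fromBlocks_map]
  simp

/-- Reindexing of `GL`. -/
def reindexGL (B : Type*) [CommRing B] (e : ι ≃ κ) : GL ι B ≃* GL κ B :=
  Units.mapEquiv (reindexAlgEquiv B B e).toMulEquiv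

lemma coe_reindexGL (e : ι ≃ κ) (g : GL ι B) :
    ((reindexGL B e g : GL κ B) : Matrix κ κ B) = reindexAlgEquiv B B e (g : Matrix ι ι B) := rfl

lemma reindexGL_mem_H (e : ι ≃ κ) {g : GL ι B} (hg : g ∈ H ι B) : reindexGL B e g ∈ H κ B := by
  have : H ι B ≤ (H κ B).comap (reindexGL B e).toMonoidHom := by
    refine (Subgroup.closure_le _).2 ?_
    rintro g (⟨i, j, c, hij, h⟩ | ⟨d, h⟩)
    · refine mem_H_of_transvection (i := e i) (j := e j) (by simpa using hij) (c := c) ?_
      show ((reindexGL B e g : GL κ B) : Matrix κ κ B) = _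
      rw [coe_reindexGL, h]
      have := TransvectionStruct.toMatrix_reindexEquiv (R := B) e ⟨i, j, hij, c⟩
      simpa [TransvectionStruct.reindexEquiv, TransvectionStruct.toMatrix] using this.symm
    · refine mem_H_of_diagonal (d ∘ e.symm) ?_
      show ((reindexGL B e g : GL κ B) : Matrix κ κ B) = _
      rw [coe_reindexGL, h]
      simp [coe_reindexAlgEquiv, reindex_apply, Function.comp_def]
  exact this hg

lemma map_reindexGL (φ : B →+* B') (e : ι ≃ κ) (g : GL ι B) :
    GeneralLinearGroup.map φ (reindexGL B e g) = reindexGL B' e (GeneralLinearGroup.map φ g) := by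
  apply Units.ext
  rw [coe_map, coe_reindexGL, coe_reindexGL, coe_map]
  simp only [coe_reindexAlgEquiv, reindex_apply]
  rfl

end Groth.Agent.Helper26.GLGen
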