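import Mathlib
import Groth.Agent.Lib.Helper26.GLGen1

/-!
# Elimination with a unit pivot
-/

namespace Groth.Agent.Helper26.GLGen

open Matrix

variable {ι : Type*} [Fintype ι] [DecidableEq ι]
variable {B : Type*} [CommRing B]

/-- upper block unitriangular matrix -/
def upperM (x : Matrix ι Unit B) : Matrix (ι ⊕ Unit) (ι ⊕ Unit) B := fromBlocks 1 x 0 1

lemma upperM_mul (x y : Matrix ι Unit B) : upperM x * upperM y = upperM (x + y) := by
  simp [upperM, fromBlocks_multiply, add_comm]

omit [Fintype ι] in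
lemma upperM_zero : upperM (0 : Matrix ι Unit B) = 1 := by
  simp [upperM, fromBlocks_one]

/-- upper block unitriangular matrix in `GL` -/
def upperGL (x : Matrix ι Unit B) : GL (ι ⊕ Unit) B where
  val := upperM x
  inv := upperM (-x)
  val_inv := by rw [upperM_mul, add_neg_cancel, upperM_zero]
  inv_val := by rw [upperM_mul, neg_add_cancel, upperM_zero]

lemma upperGL_add (x y : Matrix ι Unit B) : upperGL (x + y) = upperGL x * upperGL y := by
  apply Units.ext
  exact (upperM_mul x y).symm

lemma upperGL_zero : upperGL (0 : Matrix ι Unit B) = 1 := by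
  apply Units.ext
  exact upperM_zero

lemma upperGL_single_mem (i : ι) (c : B) : upperGL (Matrix.single i () c) ∈ H (ι ⊕ Unit) B := by
  refine mem_H_of_transvection (i := Sum.inl i) (j := Sum.inr ()) (by simp) (c := c) ?_
  show upperM _ = _
  ext (a | a) (b | b) <;> simp [upperM, transvection, Matrix.single_apply, Matrix.one_apply]

lemma upperGL_mem (x : Matrix ι Unit B) : upperGL x ∈ H (ι ⊕ Unit) B := by
  have hx : x = ∑ i, Matrix.single i () (x i ()) := by
    ext a b
    rw [Matrix.sum_apply]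
    simp [Matrix.single_apply]
  rw [hx]
  refine Finset.sum_induction _ (fun y => upperGL y ∈ H (ι ⊕ Unit) B) ?_ ?_ ?_
  · intro a b ha hb
    rw [upperGL_add]
    exact mul_mem ha hb
  · rw [upperGL_zero]
    exact one_mem _
  · intro i _
    exact upperGL_single_mem i _

/-- lower block unitriangular matrix -/
def lowerM (y : Matrix Unit ι B) : Matrix (ι ⊕ Unit) (ι ⊕ Unit) B := fromBlocks 1 0 y 1

lemma lowerM_mul (x y : Matrix Unit ι B) : lowerM x * lowerM y = lowerM (x + y) := by
  simp [lowerM, fromBlocks_multiply]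

omit [Fintype ι] in
lemma lowerM_zero : lowerM (0 : Matrix Unit ι B) = 1 := by
  simp [lowerM, fromBlocks_one]

/-- lower block unitriangular matrix in `GL` -/
def lowerGL (x : Matrix Unit ι B) : GL (ι ⊕ Unit) B where
  val := lowerM x
  inv := lowerM (-x)
  val_inv := by rw [lowerM_mul, add_neg_cancel, lowerM_zero]
  inv_val := by rw [lowerM_mul, neg_add_cancel, lowerM_zero]

lemma lowerGL_add (x y : Matrix Unit ι B) : lowerGL (x + y) = lowerGL x * lowerGL y := by
  apply Units.ext
  exact (lowerM_mul x y).symm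

lemma lowerGL_zero : lowerGL (0 : Matrix Unit ι B) = 1 := by
  apply Units.ext
  exact lowerM_zero

lemma lowerGL_single_mem (i : ι) (c : B) : lowerGL (Matrix.single () i c) ∈ H (ι ⊕ Unit) B := by
  refine mem_H_of_transvection (i := Sum.inr ()) (j := Sum.inl i) (by simp) (c := c) ?_
  show lowerM _ = _
  ext (a | a) (b | b) <;> simp [lowerM, transvection, Matrix.single_apply, Matrix.one_apply]

lemma lowerGL_mem (x : Matrix Unit ι B) : lowerGL x ∈ H (ι ⊕ Unit) B := by
  have hx : x = ∑ i, Matrix.single () i (x () i) := by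
    ext a b
    rw [Matrix.sum_apply]
    simp [Matrix.single_apply]
  rw [hx]
  refine Finset.sum_induction _ (fun y => lowerGL y ∈ H (ι ⊕ Unit) B) ?_ ?_ ?_
  · intro a b ha hb
    rw [lowerGL_add]
    exact mul_mem ha hb
  · rw [lowerGL_zero]
    exact one_mem _
  · intro i _
    exact lowerGL_single_mem i _

/-- diagonal matrix `diag(1,…,1,δ)` in `GL` -/
def lastDiagGL (ι : Type*) [Fintype ι] [DecidableEq ι] {B : Type*} [CommRing B] (δ : Bˣ) :
    GL (ι ⊕ Unit) B where
  val := fromBlocks 1 0 0 (diagonal fun _ => (δ : B))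
  inv := fromBlocks 1 0 0 (diagonal fun _ => ((δ⁻¹ : Bˣ) : B))
  val_inv := by simp [fromBlocks_multiply, fromBlocks_one]
  inv_val := by simp [fromBlocks_multiply, fromBlocks_one]

lemma lastDiagGL_mem (δ : Bˣ) : lastDiagGL ι δ ∈ H (ι ⊕ Unit) B := by
  refine mem_H_of_diagonal (Sum.elim (fun _ => 1) (fun _ => δ)) ?_
  show fromBlocks 1 0 0 (diagonal fun _ => (δ : B)) = _
  rw [← Matrix.diagonal_one, Matrix.fromBlocks_diagonal]
  congr 1
  ext (i | i) <;> simp

/-- Elimination: an invertible matrix with unit pivot is, up to `H`, a block matrix. -/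
theorem exists_block_of_isUnit_pivot (g : GL (ι ⊕ Unit) B)
    (hδ : IsUnit ((g : Matrix (ι ⊕ Unit) (ι ⊕ Unit) B) (Sum.inr ()) (Sum.inr ()))) :
    ∃ (g'' : GL ι B) (h₁ h₂ : GL (ι ⊕ Unit) B), h₁ ∈ H (ι ⊕ Unit) B ∧ h₂ ∈ H (ι ⊕ Unit) B ∧
      g = h₁ * blockHom ι B g'' * h₂ := by
  obtain ⟨δ, hδ'⟩ := hδ
  set M : Matrix (ι ⊕ Unit) (ι ⊕ Unit) B := (g : Matrix (ι ⊕ Unit) (ι ⊕ Unit) B) with hM
  set A := M.toBlocks₁₁ with hA
  set b := M.toBlocks₁₂ with hb
  set c := M.toBlocks₂₁ with hc
  set d := M.toBlocks₂₂ with hd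
  have hMb : M = fromBlocks A b c d := (fromBlocks_toBlocks M).symm
  have hdδ : d = diagonal fun _ => (δ : B) := by
    ext i j
    simp [hd, toBlocks₂₂, hδ', hM]
  let x : Matrix ι Unit B := ((δ⁻¹ : Bˣ) : B) • b
  let y : Matrix Unit ι B := ((δ⁻¹ : Bˣ) : B) • c
  let S : Matrix ι ι B := A - x * c
  have key : M = upperM x * (fromBlocks S 0 0 d) * lowerM y := by
    rw [hMb]
    simp only [upperM, lowerM, fromBlocks_multiply]
    have h1 : x * d = b := by
      rw [hdδ]
      ext i j
      simp [x, Matrix.mul_apply, Matrix.diagonal, mul_comm, ← mul_assoc]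
    have h2 : d * y = c := by
      rw [hdδ]
      ext i j
      simp [y, Matrix.mul_apply, Matrix.diagonal, ← mul_assoc]
    have h3 : x * d * y = x * c := by rw [Matrix.mul_assoc, h2]
    simp only [Matrix.one_mul, Matrix.mul_one, Matrix.mul_zero, Matrix.zero_mul, add_zero,
      zero_add]
    rw [h3, h1, h2]
    congr 1
    simp [S]
  -- `S` is invertible
  have hdet : IsUnit M.det := by
    have := (Matrix.isUnit_iff_isUnit_det M).1 g.isUnit
    exact this
  have hdetS : IsUnit S.det := by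
    rw [key] at hdet
    simp only [upperM, lowerM, Matrix.det_mul, Matrix.det_fromBlocks_zero₂₁,
      Matrix.det_fromBlocks_zero₁₂, Matrix.det_one, one_mul, mul_one] at hdet
    exact isUnit_of_mul_isUnit_left hdet
  let g'' : GL ι B := Matrix.GeneralLinearGroup.mk'' S hdetS
  refine ⟨g'', upperGL x, lastDiagGL ι δ * lowerGL y, upperGL_mem x,
    mul_mem (lastDiagGL_mem δ) (lowerGL_mem y), ?_⟩
  apply Units.ext
  show M = upperM x * fromBlocks S 0 0 1 * (fromBlocks 1 0 0 (diagonal fun _ => (δ : B)) * lowerM y)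
  have e : fromBlocks S 0 0 d = fromBlocks S 0 0 1 * fromBlocks 1 0 0 d := by
    simp [fromBlocks_multiply]
  rw [key, e, ← hdδ]
  simp only [Matrix.mul_assoc]

end Groth.Agent.Helper26.GLGen
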