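import Mathlib
import Groth.Agent.Lib.Helper26.GLGen2

/-!
# Zariski-local elementary generation of `GL`
-/

universe u

namespace Groth.Agent.Helper26.GLGen

open Matrix

/-- the local statement: after an étale extension hitting `p`, `g` is in `H`. -/
def LocGen (ι : Type) [Fintype ι] [DecidableEq ι] : Prop :=
  ∀ (A : Type u) [CommRing A] (p : PrimeSpectrum A) (g : GL ι A),
    ∃ (A' : Type u) (_ : CommRing A') (_ : Algebra A A'), Algebra.Etale A A' ∧
      (∃ q : PrimeSpectrum A', q.asIdeal.comap (algebraMap A A') = p.asIdeal) ∧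
      GeneralLinearGroup.map (algebraMap A A') g ∈ H ι A'

lemma exists_prime_away {A : Type u} [CommRing A] (p : PrimeSpectrum A) {f : A}
    (hf : f ∉ p.asIdeal) :
    ∃ q : PrimeSpectrum (Localization.Away f),
      q.asIdeal.comap (algebraMap A (Localization.Away f)) = p.asIdeal := by
  have hd : Disjoint (Submonoid.powers f : Set A) (p.asIdeal : Set A) := by
    rw [Ideal.disjoint_powers_iff_notMem _ p.2.isRadical]
    exact hf
  refine ⟨⟨Ideal.map (algebraMap A (Localization.Away f)) p.asIdeal,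
    IsLocalization.isPrime_of_isPrime_disjoint (Submonoid.powers f) _ _ p.2 hd⟩, ?_⟩
  exact IsLocalization.under_map_of_isPrime_disjoint (Submonoid.powers f) _ p.2 hd

variable {ι : Type} [Fintype ι] [DecidableEq ι]

/-- some entry of the last column is not in `p` -/
lemma exists_entry_notMem {A : Type u} [CommRing A] (p : PrimeSpectrum A) (g : GL (ι ⊕ Unit) A) :
    ∃ k : ι ⊕ Unit, (g : Matrix (ι ⊕ Unit) (ι ⊕ Unit) A) k (Sum.inr ()) ∉ p.asIdeal := by
  by_contra hcon
  push Not at hcon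
  have hdet : IsUnit (g : Matrix (ι ⊕ Unit) (ι ⊕ Unit) A).det :=
    (Matrix.isUnit_iff_isUnit_det _).1 g.isUnit
  have h0 : ((g : Matrix (ι ⊕ Unit) (ι ⊕ Unit) A).map (Ideal.Quotient.mk p.asIdeal)).det = 0 := by
    refine Matrix.det_eq_zero_of_column_eq_zero (Sum.inr ()) ?_
    intro k
    simp only [Matrix.map_apply]
    exact Ideal.Quotient.eq_zero_iff_mem.2 (hcon k)
  have h1 : (Ideal.Quotient.mk p.asIdeal) (g : Matrix (ι ⊕ Unit) (ι ⊕ Unit) A).det = 0 := by
    rw [RingHom.map_det]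
    exact h0
  have h2 : (g : Matrix (ι ⊕ Unit) (ι ⊕ Unit) A).det ∈ p.asIdeal :=
    Ideal.Quotient.eq_zero_iff_mem.1 h1
  exact p.2.ne_top (Ideal.eq_top_of_isUnit_mem _ h2 hdet)

/-- after multiplying by an element of `H`, the pivot is not in `p` -/
lemma exists_pivot_notMem {A : Type u} [CommRing A] (p : PrimeSpectrum A) (g : GL (ι ⊕ Unit) A) :
    ∃ t : GL (ι ⊕ Unit) A, t ∈ H (ι ⊕ Unit) A ∧
      ((t * g : GL (ι ⊕ Unit) A) : Matrix (ι ⊕ Unit) (ι ⊕ Unit) A) (Sum.inr ()) (Sum.inr ()) ∉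
        p.asIdeal := by
  obtain ⟨k, hk⟩ := exists_entry_notMem p g
  by_cases h : (g : Matrix (ι ⊕ Unit) (ι ⊕ Unit) A) (Sum.inr ()) (Sum.inr ()) ∈ p.asIdeal
  · rcases k with i | ⟨⟩
    · refine ⟨lowerGL (Matrix.single () i 1), lowerGL_single_mem i 1, ?_⟩
      have hval : ((lowerGL (Matrix.single () i (1 : A)) * g : GL (ι ⊕ Unit) A) :
          Matrix (ι ⊕ Unit) (ι ⊕ Unit) A) (Sum.inr ()) (Sum.inr ()) =
          (g : Matrix (ι ⊕ Unit) (ι ⊕ Unit) A) (Sum.inr ()) (Sum.inr ()) +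
            (g : Matrix (ι ⊕ Unit) (ι ⊕ Unit) A) (Sum.inl i) (Sum.inr ()) := by
        have e : ((lowerGL (Matrix.single () i (1 : A)) : GL (ι ⊕ Unit) A) :
            Matrix (ι ⊕ Unit) (ι ⊕ Unit) A) = transvection (Sum.inr ()) (Sum.inl i) 1 := by
          show lowerM _ = _
          ext (a | a) (b | b) <;>
            simp [lowerM, transvection, Matrix.single_apply, Matrix.one_apply]
        rw [Units.val_mul, e, transvection_mul_apply_same, one_mul]
      rw [hval]
      intro hmem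
      exact hk ((Ideal.add_mem_iff_right _ h).1 hmem)
    · exact absurd h hk
  · exact ⟨1, one_mem _, by simpa using h⟩

/-- Induction step. -/
theorem locGen_sum (IH : LocGen.{u} ι) : LocGen.{u} (ι ⊕ Unit) := by
  intro A _ p g
  obtain ⟨t, ht, hpiv⟩ := exists_pivot_notMem p g
  set f : A := ((t * g : GL (ι ⊕ Unit) A) : Matrix (ι ⊕ Unit) (ι ⊕ Unit) A) (Sum.inr ()) (Sum.inr ())
    with hf
  let A₁ := Localization.Away f
  obtain ⟨p₁, hp₁⟩ := exists_prime_away p hpiv
  let g₁ : GL (ι ⊕ Unit) A₁ := GeneralLinearGroup.map (algebraMap A A₁) (t * g)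
  have hunit : IsUnit ((g₁ : Matrix (ι ⊕ Unit) (ι ⊕ Unit) A₁) (Sum.inr ()) (Sum.inr ())) := by
    show IsUnit (algebraMap A A₁ f)
    exact IsLocalization.Away.algebraMap_isUnit f
  obtain ⟨g'', h₁, h₂, hh₁, hh₂, hg₁⟩ := exists_block_of_isUnit_pivot g₁ hunit
  obtain ⟨A₂, _, _, hE, ⟨q, hq⟩, hmem⟩ := IH A₁ p₁ g''
  let _ : Algebra A A₂ := ((algebraMap A₁ A₂).comp (algebraMap A A₁)).toAlgebra
  have : IsScalarTower A A₁ A₂ := IsScalarTower.of_algebraMap_eq (fun _ => rfl)
  refine ⟨A₂, inferInstance, inferInstance, Algebra.Etale.comp A A₁ A₂, ⟨q, ?_⟩, ?_⟩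
  · rw [IsScalarTower.algebraMap_eq A A₁ A₂, ← Ideal.comap_comap, hq, hp₁]
  · have e1 : GeneralLinearGroup.map (algebraMap A A₂) g =
        GeneralLinearGroup.map (algebraMap A₁ A₂) (GeneralLinearGroup.map (algebraMap A A₁) g) := by
      rw [IsScalarTower.algebraMap_eq A A₁ A₂]
      rfl
    have e2 : GeneralLinearGroup.map (algebraMap A A₁) g =
        (GeneralLinearGroup.map (algebraMap A A₁) t)⁻¹ * g₁ := by
      simp only [g₁, map_mul]
      group
    rw [e1, e2, hg₁]
    simp only [map_mul, map_inv]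
    refine mul_mem (inv_mem (map_mem_H _ (map_mem_H _ ht))) ?_
    refine mul_mem (mul_mem (map_mem_H _ hh₁) ?_) (map_mem_H _ hh₂)
    rw [map_blockHom]
    exact blockHom_mem_H hmem

/-- Base case. -/
theorem locGen_fin_zero : LocGen.{u} (Fin 0) := by
  intro A _ p g
  refine ⟨A, inferInstance, inferInstance, inferInstance, ⟨p, ?_⟩, ?_⟩
  · simp
  · have : GeneralLinearGroup.map (algebraMap A A) g = 1 := by
      apply Units.ext
      exact Subsingleton.elim _ _
    rw [this]
    exact one_mem _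

/-- Reindexing. -/
theorem locGen_of_equiv {κ : Type} [Fintype κ] [DecidableEq κ] (e : ι ≃ κ) (IH : LocGen.{u} ι) :
    LocGen.{u} κ := by
  intro A _ p g
  obtain ⟨A', _, _, hE, hq, hmem⟩ := IH A p (reindexGL A e.symm g)
  refine ⟨A', inferInstance, inferInstance, hE, hq, ?_⟩
  have := reindexGL_mem_H e hmem
  rw [← map_reindexGL] at this
  convert this using 2
  apply Units.ext
  simp [coe_reindexGL]

theorem locGen_fin (n : ℕ) : LocGen.{u} (Fin n) := by
  induction n with
  | zero => exact locGen_fin_zero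
  | succ r ih =>
    have e : Fin r ⊕ Unit ≃ Fin (r + 1) := Fintype.equivOfCardEq (by simp)
    exact locGen_of_equiv e (locGen_sum ih)

end Groth.Agent.Helper26.GLGen
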