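import Mathlib

/-!
# An étale extension with a unit `u` such that `u - 1` is a unit
-/

universe u

namespace Groth.Agent.Helper26.GLGen

open Polynomial

lemma degree_X_add_one_lt (A : Type*) [CommRing A] : degree (X + 1 : A[X]) < ((3 : ℕ) : WithBot ℕ) := by
  refine (degree_add_le _ _).trans_lt (max_lt ?_ ?_)
  · exact degree_X_le.trans_lt (by norm_num)
  · exact degree_one_le.trans_lt (by norm_num)

/-- the standard étale pair `(X^3 - X - 1, derivative)` -/
noncomputable def unitPair (A : Type u) [CommRing A] : StandardEtalePair A where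
  f := X ^ 3 - (X + 1)
  monic_f := monic_X_pow_sub (degree_X_add_one_lt A)
  g := derivative (X ^ 3 - (X + 1))
  cond := ⟨1, 0, 1, by simp⟩

lemma unitPair_X_eq (A : Type u) [CommRing A] :
    (unitPair A).X ^ 3 - ((unitPair A).X + 1) = 0 := by
  have h : aeval (unitPair A).X (X ^ 3 - (X + 1) : A[X]) = 0 := (unitPair A).hasMap_X.1
  simpa using h

/-- a simple root of `X^3 - X - 1` in an algebraically closed field -/
lemma exists_simple_root (K : Type*) [Field K] [IsAlgClosed K] :
    ∃ x : K, x ^ 3 - (x + 1) = 0 ∧ 3 * x ^ 2 - 1 ≠ 0 := by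
  by_cases h23 : (23 : K) = 0
  · refine ⟨3, by linear_combination h23, ?_⟩
    intro h26
    have h3 : (3 : K) = 0 := by linear_combination h26 - h23
    have : (1 : K) = 0 := by linear_combination 8 * h3 - h23
    exact one_ne_zero this
  · have hdeg : (X ^ 3 - (X + 1) : K[X]).degree ≠ 0 := by
      rw [degree_sub_eq_left_of_degree_lt (by rw [degree_X_pow]; exact degree_X_add_one_lt K),
        degree_X_pow]
      norm_num
    obtain ⟨x, hx⟩ := IsAlgClosed.exists_root (X ^ 3 - (X + 1) : K[X]) hdeg
    have hf : x ^ 3 - (x + 1) = 0 := by simpa [IsRoot] using hx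
    refine ⟨x, hf, ?_⟩
    intro hf'
    apply h23
    linear_combination (9 * (2 * x - 3)) * hf + (4 - 6 * x ^ 2 + 9 * x) * hf'

theorem exists_etale_unit (A : Type u) [CommRing A] (p : PrimeSpectrum A) :
    ∃ (A' : Type u) (_ : CommRing A') (_ : Algebra A A'), Algebra.Etale A A' ∧
      (∃ q : PrimeSpectrum A', q.asIdeal.comap (algebraMap A A') = p.asIdeal) ∧
      ∃ u : A', IsUnit u ∧ IsUnit (u - 1) := by
  let P := unitPair A
  refine ⟨P.Ring, inferInstance, inferInstance, inferInstance, ?_, P.X, ?_, ?_⟩
  · let K := AlgebraicClosure p.asIdeal.ResidueField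
    obtain ⟨x, hx, hx'⟩ := exists_simple_root K
    have hmap : P.HasMap x := by
      refine ⟨?_, ?_⟩
      · show aeval x (X ^ 3 - (X + 1) : A[X]) = 0
        simpa using hx
      · rw [isUnit_iff_ne_zero]
        show aeval x (derivative (X ^ 3 - (X + 1) : A[X])) ≠ 0
        have hder : aeval x (derivative (X ^ 3 - (X + 1) : A[X])) = 3 * x ^ 2 - 1 := by
          simp only [derivative_add, derivative_X_pow, derivative_X,
            derivative_one, add_zero, map_sub, map_mul, map_pow, aeval_X, map_one,
            map_natCast]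
          norm_num
        rw [hder]
        exact hx'
    let φ : P.Ring →ₐ[A] K := P.lift x hmap
    refine ⟨⟨RingHom.ker φ.toRingHom, RingHom.ker_isPrime _⟩, ?_⟩
    ext a
    simp only [Ideal.mem_comap, RingHom.mem_ker, AlgHom.toRingHom_eq_coe, RingHom.coe_coe,
      AlgHom.commutes]
    rw [IsScalarTower.algebraMap_apply A p.asIdeal.ResidueField K, map_eq_zero_iff _
      (algebraMap p.asIdeal.ResidueField K).injective, Ideal.algebraMap_residueField_eq_zero]
  · refine IsUnit.of_mul_eq_one (P.X ^ 2 - 1) ?_
    linear_combination unitPair_X_eq A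
  · refine IsUnit.of_mul_eq_one (P.X * (P.X + 1)) ?_
    linear_combination unitPair_X_eq A

end Groth.Agent.Helper26.GLGen
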