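import Mathlib
import Groth.Agent.Lib.Helper26.GLGen3
import Groth.Agent.Lib.Helper26.GLGen4

/-!
# `SL_n` is étale locally contained in the commutator subgroup of `GL_n`
-/

universe u

namespace Groth.Agent.Helper26.GLGen

open Matrix
open scoped commutatorElement

variable {ι : Type*} [Fintype ι] [DecidableEq ι] {B : Type*} [CommRing B]

/-- diagonal matrices as a group hom -/
def diagHom (ι : Type*) [Fintype ι] [DecidableEq ι] (B : Type*) [CommRing B] :
    (ι → Bˣ) →* GL ι B where
  toFun d :=
    { val := diagonal (fun i => (d i : B))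
      inv := diagonal (fun i => ((d i)⁻¹ : Bˣ))
      val_inv := by simp [diagonal_mul_diagonal]
      inv_val := by simp [diagonal_mul_diagonal] }
  map_one' := Units.ext (by simp)
  map_mul' d e := Units.ext (by simp [diagonal_mul_diagonal])

lemma coe_diagHom (d : ι → Bˣ) :
    ((diagHom ι B d : GL ι B) : Matrix ι ι B) = diagonal (fun i => (d i : B)) := rfl

lemma det_diagHom (d : ι → Bˣ) : GeneralLinearGroup.det (diagHom ι B d) = ∏ i, d i := by
  apply Units.ext
  rw [GeneralLinearGroup.val_det_apply, coe_diagHom, det_diagonal, Units.coe_prod]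

/-- transvections in `GL` -/
def transGL (i j : ι) (hij : i ≠ j) (c : B) : GL ι B where
  val := transvection i j c
  inv := transvection i j (-c)
  val_inv := by rw [transvection_mul_transvection_same _ _ hij, add_neg_cancel, transvection_zero]
  inv_val := by rw [transvection_mul_transvection_same _ _ hij, neg_add_cancel, transvection_zero]

lemma transGL_mem_commutator (u w : Bˣ) (hw : (w : B) = u - 1) (i j : ι) (hij : i ≠ j) (c : B) :
    transGL i j hij c ∈ commutator (GL ι B) := by
  set x : B := c * ((w⁻¹ : Bˣ) : B) with hx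
  have h1 : (w : B) * x = c := by rw [hx, mul_left_comm, Units.mul_inv, mul_one]
  have hux : (u : B) * x = c + x := by linear_combination h1 - x * hw
  set a : GL ι B := diagHom ι B (Pi.mulSingle i u) with ha
  set b : GL ι B := transGL i j hij x with hb
  have key : a * b = transGL i j hij c * b * a := by
    apply Units.ext
    show diagonal (fun k => ((Pi.mulSingle i u : ι → Bˣ) k : B)) * transvection i j x =
      transvection i j c * transvection i j x *
        diagonal (fun k => ((Pi.mulSingle i u : ι → Bˣ) k : B))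
    rw [transvection_mul_transvection_same _ _ hij]
    simp only [transvection, Matrix.mul_add, Matrix.add_mul, Matrix.mul_one, Matrix.one_mul]
    congr 1
    ext k l
    simp only [Matrix.diagonal_mul, Matrix.mul_diagonal, Matrix.single_apply]
    by_cases hkl : i = k ∧ j = l
    · obtain ⟨rfl, rfl⟩ := hkl
      simp [Pi.mulSingle_eq_of_ne hij.symm, hux]
    · simp [hkl]
  have : transGL i j hij c = ⁅a, b⁆ := by
    rw [commutatorElement_def, key]
    group
  rw [this, commutator_def]
  exact Subgroup.commutator_mem_commutator (Subgroup.mem_top a) (Subgroup.mem_top b)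

lemma swap_conj (i j : ι) (w : Bˣ) :
    GeneralLinearGroup.swap B i j * diagHom ι B (Pi.mulSingle i w) * GeneralLinearGroup.swap B i j =
      diagHom ι B (Pi.mulSingle j w) := by
  apply Units.ext
  show Matrix.swap B i j * diagonal (fun k => ((Pi.mulSingle i w : ι → Bˣ) k : B)) *
      Matrix.swap B i j = diagonal (fun k => ((Pi.mulSingle j w : ι → Bˣ) k : B))
  unfold Matrix.swap Equiv.Perm.permMatrix
  rw [PEquiv.toMatrix_toPEquiv_mul, PEquiv.mul_toMatrix_toPEquiv, Matrix.submatrix_submatrix,
    Equiv.symm_swap]
  simp only [Function.comp_id, Function.id_comp]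
  rw [Matrix.submatrix_diagonal_equiv]
  congr 1
  ext k
  simp only [Function.comp_apply]
  congr 1
  by_cases hk : k = j
  · subst hk
    simp
  · by_cases hk' : k = i
    · subst hk'
      rw [Equiv.swap_apply_left, Pi.mulSingle_eq_of_ne hk, Pi.mulSingle_eq_of_ne (Ne.symm hk)]
    · rw [Equiv.swap_apply_of_ne_of_ne hk' hk, Pi.mulSingle_eq_of_ne hk', Pi.mulSingle_eq_of_ne hk]

/-- in the abelianization, `d_i(w)` does not depend on `i` -/
lemma ab_diag_eq (i j : ι) (w : Bˣ) :
    Abelianization.of (diagHom ι B (Pi.mulSingle j w)) =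
      Abelianization.of (diagHom ι B (Pi.mulSingle i w)) := by
  rw [← swap_conj i j w, map_mul, map_mul, mul_comm, ← mul_assoc, ← map_mul]
  have : GeneralLinearGroup.swap B i j * GeneralLinearGroup.swap B i j = 1 := by
    apply Units.ext
    exact Matrix.swap_mul_self i j
  rw [this, map_one, one_mul]

/-- the abelianization map on diagonal matrices -/
lemma ab_diagHom (i₀ : ι) (d : ι → Bˣ) :
    Abelianization.of (diagHom ι B d) =
      Abelianization.of (diagHom ι B (Pi.mulSingle i₀ (∏ i, d i))) := by
  let ψ : (ι → Bˣ) →* Abelianization (GL ι B) := (Abelianization.of).comp (diagHom ι B)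
  show ψ d = ψ (Pi.mulSingle i₀ (∏ i, d i))
  have h1 : d = ∏ i, Pi.mulSingle i (d i) := (Finset.univ_prod_mulSingle d).symm
  have h2 : (Pi.mulSingle i₀ (∏ i, d i) : ι → Bˣ) = ∏ i, Pi.mulSingle i₀ (d i) := by
    rw [← MonoidHom.mulSingle_apply, map_prod]
    rfl
  conv_lhs => rw [h1]
  rw [h2, map_prod, map_prod]
  refine Finset.prod_congr rfl fun i _ => ?_
  exact ab_diag_eq i₀ i (d i)

/-- elements of `H` of determinant one lie in the commutator subgroup, provided there is a unit
`u` such that `u - 1` is a unit. -/
theorem mem_commutator_of_mem_H (u w : Bˣ) (hw : (w : B) = u - 1) (i₀ : ι) (g : GL ι B)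
    (hg : g ∈ H ι B) (hdet : GeneralLinearGroup.det g = 1) : g ∈ commutator (GL ι B) := by
  let π : GL ι B →* Abelianization (GL ι B) := Abelianization.of
  let ρ : GL ι B →* Abelianization (GL ι B) :=
    (π.comp (diagHom ι B)).comp ((MonoidHom.mulSingle (fun _ : ι => Bˣ) i₀).comp
      GeneralLinearGroup.det)
  have hEq : Set.EqOn π ρ (gens ι B) := by
    rintro g (⟨i, j, c, hij, h⟩ | ⟨d, h⟩)
    · have hg : g = transGL i j hij c := Units.ext h
      have h1 : π g = 1 := by
        have := transGL_mem_commutator u w hw i j hij c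
        rw [← Abelianization.ker_of, MonoidHom.mem_ker] at this
        rw [hg]
        exact this
      have h2 : GeneralLinearGroup.det g = 1 := by
        apply Units.ext
        rw [GeneralLinearGroup.val_det_apply, h, det_transvection_of_ne _ _ hij]
        rfl
      show π g = π (diagHom ι B (Pi.mulSingle i₀ (GeneralLinearGroup.det g)))
      rw [h1, h2, Pi.mulSingle_one, map_one, map_one]
    · have hg : g = diagHom ι B d := Units.ext h
      show π g = π (diagHom ι B (Pi.mulSingle i₀ (GeneralLinearGroup.det g)))
      rw [hg, det_diagHom]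
      exact ab_diagHom i₀ d
  have := MonoidHom.eqOn_closure hEq hg
  have h1 : π g = 1 := by
    rw [this]
    show π (diagHom ι B (Pi.mulSingle i₀ (GeneralLinearGroup.det g))) = 1
    rw [hdet, Pi.mulSingle_one, map_one, map_one]
  rw [← Abelianization.ker_of, MonoidHom.mem_ker]
  exact h1

/-- S5658 -/
theorem S5658 (A : Type u) [CommRing A] (n : ℕ)
    (s : Matrix.SpecialLinearGroup (Fin n) A) (p : PrimeSpectrum A) :
    ∃ (A' : Type u) (_ : CommRing A') (_ : Algebra A A'), Algebra.Etale A A' ∧
      (∃ q : PrimeSpectrum A', q.asIdeal.comap (algebraMap A A') = p.asIdeal) ∧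
      (Matrix.GeneralLinearGroup.map (algebraMap A A')) (Matrix.SpecialLinearGroup.toGL s) ∈
        commutator (Matrix.GeneralLinearGroup (Fin n) A') := by
  rcases Nat.eq_zero_or_pos n with rfl | hn
  · refine ⟨A, inferInstance, inferInstance, inferInstance, ⟨p, by simp⟩, ?_⟩
    have : GeneralLinearGroup.map (algebraMap A A) (Matrix.SpecialLinearGroup.toGL s) = 1 := by
      apply Units.ext
      exact Subsingleton.elim _ _
    rw [this]
    exact one_mem _
  · obtain ⟨A₀, _, _, hE₀, ⟨p₀, hp₀⟩, u, hu, hu1⟩ := exists_etale_unit A p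
    obtain ⟨A', _, _, hE, ⟨q, hq⟩, hmem⟩ := locGen_fin.{u} n A₀ p₀
      (GeneralLinearGroup.map (algebraMap A A₀) (Matrix.SpecialLinearGroup.toGL s))
    let _ : Algebra A A' := ((algebraMap A₀ A').comp (algebraMap A A₀)).toAlgebra
    have : IsScalarTower A A₀ A' := IsScalarTower.of_algebraMap_eq (fun _ => rfl)
    refine ⟨A', inferInstance, inferInstance, Algebra.Etale.comp A A₀ A', ⟨q, ?_⟩, ?_⟩
    · rw [IsScalarTower.algebraMap_eq A A₀ A', ← Ideal.comap_comap, hq, hp₀]
    · have e1 : GeneralLinearGroup.map (algebraMap A A') (Matrix.SpecialLinearGroup.toGL s) =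
          GeneralLinearGroup.map (algebraMap A₀ A')
            (GeneralLinearGroup.map (algebraMap A A₀) (Matrix.SpecialLinearGroup.toGL s)) := by
        rw [IsScalarTower.algebraMap_eq A A₀ A']
        rfl
      rw [e1]
      have hu' : IsUnit (algebraMap A₀ A' u) := hu.map _
      have hu1' : IsUnit (algebraMap A₀ A' u - 1) := by
        have := hu1.map (algebraMap A₀ A')
        simpa using this
      refine mem_commutator_of_mem_H hu'.unit hu1'.unit (by simp) ⟨0, hn⟩ _ hmem ?_
      apply Units.ext
      rw [GeneralLinearGroup.val_det_apply]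
      show (((s : Matrix (Fin n) (Fin n) A).map (algebraMap A A₀)).map (algebraMap A₀ A')).det = 1
      rw [← RingHom.mapMatrix_apply, ← RingHom.map_det, ← RingHom.mapMatrix_apply,
        ← RingHom.map_det, s.2, map_one, map_one]

end Groth.Agent.Helper26.GLGen
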