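import Mathlib
import Groth.Agent.Lib.Helper26.GLGen5

/-!
# Characters of products of `GL` kill `SL`
-/

universe u

namespace Groth.Agent.Helper26.CharGL

open Matrix

/-- an element vanishing étale locally vanishes -/
theorem eq_zero_of_flat_locally {B : Type u} [CommRing B] (a : B)
    (h : ∀ p : PrimeSpectrum B, ∃ (B' : Type u) (_ : CommRing B') (_ : Algebra B B'),
      Module.Flat B B' ∧ (∃ q : PrimeSpectrum B', q.asIdeal.comap (algebraMap B B') = p.asIdeal) ∧
      algebraMap B B' a = 0) : a = 0 := by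
  by_contra ha
  let I : Ideal B := LinearMap.ker (LinearMap.toSpanSingleton B B a)
  have hI : ∀ b, b ∈ I ↔ b * a = 0 := by
    intro b
    simp [I, LinearMap.mem_ker, LinearMap.toSpanSingleton_apply]
  have hI1 : I ≠ ⊤ := by
    intro htop
    have : (1 : B) ∈ I := htop ▸ Submodule.mem_top
    rw [hI, one_mul] at this
    exact ha this
  obtain ⟨m, hm, hIm⟩ := Ideal.exists_le_maximal I hI1
  obtain ⟨B', _, _, hflat, ⟨q, hq⟩, ha'⟩ := h ⟨m, hm.isPrime⟩
  obtain ⟨k, c, y, hy, hc⟩ := Module.Flat.isTrivialRelation_of_sum_smul_eq_zero (R := B) (M := B')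
    (f := fun _ : Unit => a) (x := fun _ : Unit => (1 : B')) (by simp [Algebra.smul_def, ha'])
  have h1 : (1 : B') ∈ q.asIdeal := by
    have hy1 : (1 : B') = ∑ j, c () j • y j := hy ()
    rw [hy1]
    refine Ideal.sum_mem _ fun j _ => ?_
    rw [Algebra.smul_def]
    refine Ideal.mul_mem_right _ _ ?_
    have hcj : c () j ∈ I := by
      rw [hI, mul_comm]
      simpa using hc j
    have : c () j ∈ q.asIdeal.comap (algebraMap B B') := by
      rw [hq]
      exact hIm hcj
    exact this
  exact q.2.ne_top ((Ideal.eq_top_iff_one _).2 h1)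

section

variable {R : Type u} [CommRing R] {r : ℕ} {n : Fin r → ℕ}
  (α : ∀ (B : Type u) [CommRing B] [Algebra R B],
    (∀ i, Matrix.GeneralLinearGroup (Fin (n i)) B) →* Bˣ)
  (hα : ∀ (B C : Type u) [CommRing B] [Algebra R B] [CommRing C] [Algebra R C] (φ : B →ₐ[R] C)
      (s : ∀ i, Matrix.GeneralLinearGroup (Fin (n i)) B),
      α C (fun i => Matrix.GeneralLinearGroup.map φ.toRingHom (s i)) =
        Units.map (φ.toRingHom : B →* C) (α B s))

include hα in
theorem alpha_mulSingle_eq_one (B : Type u) [CommRing B] [Algebra R B] (i : Fin r)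
    (y : GL (Fin (n i)) B) (hy : GeneralLinearGroup.det y = 1) :
    α B (Pi.mulSingle i y) = 1 := by
  have hdet : (y : Matrix (Fin (n i)) (Fin (n i)) B).det = 1 := by
    have := congrArg Units.val hy
    simpa [GeneralLinearGroup.val_det_apply] using this
  let s : SpecialLinearGroup (Fin (n i)) B := ⟨(y : Matrix (Fin (n i)) (Fin (n i)) B), hdet⟩
  have hs : SpecialLinearGroup.toGL s = y := Units.ext rfl
  suffices h0 : ((α B (Pi.mulSingle i y) : Bˣ) : B) - 1 = 0 by
    apply Units.ext
    rw [Units.val_one]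
    exact sub_eq_zero.1 h0
  apply eq_zero_of_flat_locally
  intro p
  obtain ⟨B', _, _, hE, hq, hmem⟩ := GLGen.S5658 B (n i) s p
  have := hE
  refine ⟨B', inferInstance, inferInstance, inferInstance, hq, ?_⟩
  let _ : Algebra R B' := ((algebraMap B B').comp (algebraMap R B)).toAlgebra
  have : IsScalarTower R B B' := IsScalarTower.of_algebraMap_eq (fun _ => rfl)
  let φ : B →ₐ[R] B' := IsScalarTower.toAlgHom R B B'
  have hnat := hα B B' φ (Pi.mulSingle i y)
  have hsingle : (fun j => GeneralLinearGroup.map φ.toRingHom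
      ((Pi.mulSingle i y : ∀ j, GL (Fin (n j)) B) j)) =
      Pi.mulSingle i (GeneralLinearGroup.map (algebraMap B B') y) := by
    funext j
    by_cases hj : j = i
    · subst hj
      rw [Pi.mulSingle_eq_same, Pi.mulSingle_eq_same]
      rfl
    · rw [Pi.mulSingle_eq_of_ne hj, Pi.mulSingle_eq_of_ne hj, map_one]
  rw [hsingle] at hnat
  let γ : GL (Fin (n i)) B' →* B'ˣ :=
    (α B').comp (MonoidHom.mulSingle (fun j => GL (Fin (n j)) B') i)
  have hker : GeneralLinearGroup.map (algebraMap B B') y ∈ γ.ker :=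
    Abelianization.commutator_subset_ker γ (hs ▸ hmem)
  rw [MonoidHom.mem_ker] at hker
  have h1 : α B' (Pi.mulSingle i (GeneralLinearGroup.map (algebraMap B B') y)) = 1 := hker
  rw [h1] at hnat
  have h2 := congrArg Units.val hnat
  rw [map_sub, map_one, sub_eq_zero]
  exact h2.symm

end

end Groth.Agent.Helper26.CharGL
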