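import Mathlib

/-!
# Group-like elements of group algebras
-/

universe u

namespace Groth.Agent.Helper26.CharGL

open AddMonoidAlgebra

lemma eq_zero_or_eq_one_of_isIdempotentElem {R : Type*} [CommRing R]
    [PreconnectedSpace (PrimeSpectrum R)] {e : R} (he : IsIdempotentElem e) : e = 0 ∨ e = 1 := by
  have hcl : IsClopen (PrimeSpectrum.basicOpen e : Set (PrimeSpectrum R)) :=
    PrimeSpectrum.isClopen_iff.2 ⟨e, he, rfl⟩
  rcases isClopen_iff.1 hcl with h | h
  · left
    refine PrimeSpectrum.basicOpen_injOn_isIdempotentElem he IsIdempotentElem.zero ?_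
    apply TopologicalSpace.Opens.ext
    rw [h]
    simp
  · right
    refine PrimeSpectrum.basicOpen_injOn_isIdempotentElem he IsIdempotentElem.one ?_
    apply TopologicalSpace.Opens.ext
    rw [h]
    simp

variable {R : Type*} [CommRing R] {G : Type*} [AddCommGroup G] [DecidableEq G]

lemma coeff_diag (w : G →₀ R) (g h : G) :
    (w.sum fun m c => c • (single (m, m) (1 : R) : AddMonoidAlgebra R (G × G))).coeff (g, h) =
      if g = h then w g else 0 := by
  rw [coeff_finsuppSum, Finsupp.sum_apply]
  simp only [coeff_smul, coeff_single, Finsupp.smul_apply, Finsupp.single_apply, smul_eq_mul,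
    mul_ite, mul_one, mul_zero, Prod.mk.injEq]
  by_cases hgh : g = h
  · subst hgh
    simp only [and_self, if_true]
    rw [Finsupp.sum_eq_single g]
    · simp
    · intro b _ hb
      simp [hb]
    · simp
  · rw [if_neg hgh]
    apply Finset.sum_eq_zero
    intro m _
    show (if m = g ∧ m = h then w m else 0) = 0
    rw [if_neg]
    rintro ⟨rfl, rfl⟩
    exact hgh rfl

lemma coeff_prod (w : G →₀ R) (g h : G) :
    ((w.sum fun m c => c • (single (m, 0) (1 : R) : AddMonoidAlgebra R (G × G))) *
      (w.sum fun m c => c • (single (0, m) (1 : R) : AddMonoidAlgebra R (G × G)))).coeff (g, h) =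
      w g * w h := by
  simp only [Finsupp.sum, Finset.sum_mul_sum, smul_single, smul_eq_mul, mul_one,
    single_mul_single, Prod.mk_add_mk, add_zero, zero_add, coeff_sum, coeff_single,
    Finsupp.finsetSum_apply, Finsupp.single_apply, Prod.mk.injEq]
  by_cases hg : g ∈ w.support
  · rw [Finset.sum_eq_single g]
    · by_cases hh : h ∈ w.support
      · rw [Finset.sum_eq_single h]
        · simp
        · intro b _ hb
          simp [hb]
        · intro hh'
          exact absurd hh hh'
      · rw [Finsupp.notMem_support_iff.1 hh, mul_zero]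
        apply Finset.sum_eq_zero
        intro b hb
        rw [if_neg]
        rintro ⟨-, rfl⟩
        exact hh hb
    · intro a _ ha
      apply Finset.sum_eq_zero
      intro b _
      rw [if_neg]
      rintro ⟨rfl, -⟩
      exact ha rfl
    · intro hg'
      exact absurd hg hg'
  · rw [Finsupp.notMem_support_iff.1 hg, zero_mul]
    apply Finset.sum_eq_zero
    intro a ha
    apply Finset.sum_eq_zero
    intro b _
    rw [if_neg]
    rintro ⟨rfl, -⟩
    exact hg ha

end Groth.Agent.Helper26.CharGL
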