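import Mathlib
import Groth.Agent.Lib.Helper26.CharGL2

/-!
# Characters of split tori
-/

universe u

namespace Groth.Agent.Helper26.CharGL

open AddMonoidAlgebra

section defs

variable (R : Type*) [CommRing R]

/-- monomials as units of the group algebra -/
noncomputable def mon (G : Type*) [AddCommGroup G] : Multiplicative G →* (AddMonoidAlgebra R G)ˣ :=
  (AddMonoidAlgebra.of R G).toHomUnits

lemma coe_mon (G : Type*) [AddCommGroup G] (g : Multiplicative G) :
    ((mon R G g : (AddMonoidAlgebra R G)ˣ) : AddMonoidAlgebra R G) =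
      single (Multiplicative.toAdd g) 1 := by
  rw [mon, MonoidHom.coe_toHomUnits, of_apply]

variable {R}

/-- character associated to a point of the torus -/
def chi {r : ℕ} {B : Type*} [CommRing B] (v : Fin r → Bˣ) : Multiplicative (Fin r → ℤ) →* Bˣ where
  toFun m := ∏ i, v i ^ (Multiplicative.toAdd m i)
  map_one' := by simp
  map_mul' a b := by simp [zpow_add, Finset.prod_mul_distrib]

lemma chi_apply {r : ℕ} {B : Type*} [CommRing B] (v : Fin r → Bˣ) (m : Multiplicative (Fin r → ℤ)) :
    chi v m = ∏ i, v i ^ (Multiplicative.toAdd m i) := rfl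

lemma chi_mul {r : ℕ} {B : Type*} [CommRing B] (v v' : Fin r → Bˣ)
    (m : Multiplicative (Fin r → ℤ)) : chi (v * v') m = chi v m * chi v' m := by
  simp [chi_apply, mul_zpow, Finset.prod_mul_distrib]

lemma chi_one {r : ℕ} {B : Type*} [CommRing B] (m : Multiplicative (Fin r → ℤ)) :
    chi (1 : Fin r → Bˣ) m = 1 := by
  simp [chi_apply]

lemma chi_single {r : ℕ} {B : Type*} [CommRing B] (v : Fin r → Bˣ) (i : Fin r) :
    chi v (Multiplicative.ofAdd (Pi.single i 1)) = v i := by
  rw [chi_apply, Finset.prod_eq_single i]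
  · simp
  · intro j _ hj
    simp [Pi.single_eq_of_ne hj]
  · simp

variable (R)

lemma chi_mon {r : ℕ} {G' : Type*} [AddCommGroup G'] (ψ : (Fin r → ℤ) →+ G')
    (m : Multiplicative (Fin r → ℤ)) :
    chi (fun i => mon R G' (Multiplicative.ofAdd (ψ (Pi.single i 1)))) m =
      mon R G' (Multiplicative.ofAdd (ψ (Multiplicative.toAdd m))) := by
  rw [chi_apply]
  simp only [← map_zpow, ← map_prod]
  congr 1
  apply Multiplicative.toAdd.injective
  rw [toAdd_prod]
  simp only [toAdd_zpow, toAdd_ofAdd]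
  simp only [← map_zsmul, ← map_sum]
  congr 1
  conv_rhs => rw [← Finset.univ_sum_single (Multiplicative.toAdd m)]
  refine Finset.sum_congr rfl fun i _ => ?_
  ext j
  simp [Pi.single_apply]

/-- evaluation at a point of the torus -/
noncomputable def evalHom {r : ℕ} {B : Type*} [CommRing B] [Algebra R B] (v : Fin r → Bˣ) :
    AddMonoidAlgebra R (Fin r → ℤ) →ₐ[R] B :=
  AddMonoidAlgebra.lift R B (Fin r → ℤ) ((Units.coeHom B).comp (chi v))

lemma evalHom_apply {r : ℕ} {B : Type*} [CommRing B] [Algebra R B] (v : Fin r → Bˣ)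
    (f : AddMonoidAlgebra R (Fin r → ℤ)) :
    evalHom R v f = f.coeff.sum fun m c => c • ((chi v (Multiplicative.ofAdd m) : Bˣ) : B) := by
  rw [evalHom, lift_apply]
  rfl

end defs

section torus

variable {R : Type u} [CommRing R] {r : ℕ}
  (β : ∀ (B : Type u) [CommRing B] [Algebra R B], (Fin r → Bˣ) →* Bˣ)
  (hβ : ∀ (B C : Type u) [CommRing B] [Algebra R B] [CommRing C] [Algebra R C] (φ : B →ₐ[R] C)
      (v : Fin r → Bˣ),
      β C (fun i => Units.map (φ.toRingHom : B →* C) (v i)) =
        Units.map (φ.toRingHom : B →* C) (β B v))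

/-- the universal point -/
noncomputable def univPt (R : Type u) [CommRing R] (r : ℕ) :
    Fin r → (AddMonoidAlgebra R (Fin r → ℤ))ˣ :=
  fun i => mon R (Fin r → ℤ) (Multiplicative.ofAdd (Pi.single i 1))

include hβ in
lemma beta_eq_map (B : Type u) [CommRing B] [Algebra R B] (v : Fin r → Bˣ) :
    β B v = Units.map ((evalHom R v).toRingHom : AddMonoidAlgebra R (Fin r → ℤ) →* B)
      (β (AddMonoidAlgebra R (Fin r → ℤ)) (univPt R r)) := by
  rw [← hβ]
  congr 1
  funext i
  apply Units.ext
  show (v i : B) = evalHom R v (mon R (Fin r → ℤ) (Multiplicative.ofAdd (Pi.single i 1)) : _)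
  rw [coe_mon, evalHom, lift_single, one_smul]
  show (v i : B) = ((chi v (Multiplicative.ofAdd (Pi.single i 1)) : Bˣ) : B)
  rw [chi_single]

include hβ in
lemma coe_beta (B : Type u) [CommRing B] [Algebra R B] (v : Fin r → Bˣ) :
    ((β B v : Bˣ) : B) =
      ((β (AddMonoidAlgebra R (Fin r → ℤ)) (univPt R r) : _ˣ) :
        AddMonoidAlgebra R (Fin r → ℤ)).coeff.sum
        fun m c => c • ((chi v (Multiplicative.ofAdd m) : Bˣ) : B) := by
  rw [beta_eq_map β hβ B v, ← evalHom_apply]
  rfl

include hβ in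
lemma coeff_mul_coeff (g h : Fin r → ℤ) :
    (if g = h then
      ((β (AddMonoidAlgebra R (Fin r → ℤ)) (univPt R r) : _ˣ) :
        AddMonoidAlgebra R (Fin r → ℤ)).coeff g else 0) =
      ((β (AddMonoidAlgebra R (Fin r → ℤ)) (univPt R r) : _ˣ) :
        AddMonoidAlgebra R (Fin r → ℤ)).coeff g *
      ((β (AddMonoidAlgebra R (Fin r → ℤ)) (univPt R r) : _ˣ) :
        AddMonoidAlgebra R (Fin r → ℤ)).coeff h := by
  let G := Fin r → ℤ
  let L₂ := AddMonoidAlgebra R (G × G)
  let v₁ : Fin r → L₂ˣ := fun i =>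
    mon R (G × G) (Multiplicative.ofAdd ((AddMonoidHom.inl G G) (Pi.single i 1)))
  let v₂ : Fin r → L₂ˣ := fun i =>
    mon R (G × G) (Multiplicative.ofAdd ((AddMonoidHom.inr G G) (Pi.single i 1)))
  have h1 : ∀ m : G, ((chi v₁ (Multiplicative.ofAdd m) : L₂ˣ) : L₂) = single (m, 0) 1 := by
    intro m
    rw [chi_mon R (AddMonoidHom.inl G G), coe_mon]
    rfl
  have h2 : ∀ m : G, ((chi v₂ (Multiplicative.ofAdd m) : L₂ˣ) : L₂) = single (0, m) 1 := by
    intro m
    rw [chi_mon R (AddMonoidHom.inr G G), coe_mon]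
    rfl
  have h12 : ∀ m : G, ((chi (v₁ * v₂) (Multiplicative.ofAdd m) : L₂ˣ) : L₂) =
      single (m, m) 1 := by
    intro m
    rw [chi_mul, Units.val_mul, h1, h2, single_mul_single]
    simp
  have hmul := congrArg (fun x : L₂ˣ => (x : L₂)) (map_mul (β L₂) v₁ v₂)
  simp only [Units.val_mul] at hmul
  rw [coe_beta β hβ L₂ (v₁ * v₂), coe_beta β hβ L₂ v₁, coe_beta β hβ L₂ v₂] at hmul
  simp only [h1, h2, h12] at hmul
  have hc := congrArg (fun x : L₂ => x.coeff (g, h)) hmul
  beta_reduce at hc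
  rw [coeff_diag, coeff_prod] at hc
  exact hc

include hβ in
lemma sum_coeff :
    (((β (AddMonoidAlgebra R (Fin r → ℤ)) (univPt R r) : _ˣ) :
        AddMonoidAlgebra R (Fin r → ℤ)).coeff.sum fun _ c => c) = 1 := by
  have h := congrArg Units.val (map_one (β R))
  rw [coe_beta β hβ R 1] at h
  simpa [chi_one] using h

include hβ in
/-- characters of a split torus over a ring with connected spectrum are monomials -/
theorem torus_char [ConnectedSpace (PrimeSpectrum R)] :
    ∃ m₀ : Fin r → ℤ, ∀ (B : Type u) [CommRing B] [Algebra R B] (v : Fin r → Bˣ),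
      β B v = ∏ i, v i ^ m₀ i := by
  have hnt : Nontrivial R := by
    obtain ⟨x⟩ := (inferInstance : Nonempty (PrimeSpectrum R))
    exact x.nontrivial
  set e := ((β (AddMonoidAlgebra R (Fin r → ℤ)) (univPt R r) : _ˣ) :
        AddMonoidAlgebra R (Fin r → ℤ)).coeff with he
  have hidem : ∀ g, e g = 0 ∨ e g = 1 := by
    intro g
    apply eq_zero_or_eq_one_of_isIdempotentElem
    have := coeff_mul_coeff β hβ g g
    rw [if_pos rfl] at this
    exact this.symm
  have hsum : (e.sum fun _ c => c) = 1 := sum_coeff β hβ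
  obtain ⟨m₀, hm₀⟩ : ∃ m₀, e m₀ = 1 := by
    by_contra hcon
    push Not at hcon
    have : ∀ g, e g = 0 := fun g => (hidem g).resolve_right (hcon g)
    have he0 : e = 0 := Finsupp.ext this
    rw [he0, Finsupp.sum_zero_index] at hsum
    exact zero_ne_one hsum
  have hother : ∀ g, g ≠ m₀ → e g = 0 := by
    intro g hg
    have := coeff_mul_coeff β hβ g m₀
    rw [if_neg hg, ← he, hm₀, mul_one] at this
    exact this.symm
  have hsingle : e = Finsupp.single m₀ 1 := by
    ext g
    by_cases hg : g = m₀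
    · subst hg
      simp [hm₀]
    · rw [hother g hg, Finsupp.single_eq_of_ne hg]
  refine ⟨m₀, fun B _ _ v => ?_⟩
  apply Units.ext
  rw [coe_beta β hβ B v, ← he, hsingle, Finsupp.sum_single_index (by simp), one_smul, chi_apply]
  rfl

end torus

end Groth.Agent.Helper26.CharGL
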