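import Mathlib
import Groth.Agent.Lib.Helper26.CharGL1
import Groth.Agent.Lib.Helper26.CharGL3

/-!
# Characters of products of general linear groups
-/

universe u

namespace Groth.Agent.Helper26.CharGL

open Matrix

section

variable {r : ℕ} {n : Fin r → ℕ} (hn : ∀ i, 0 < n i)

/-- the diagonal torus -/
def torusHom (B : Type u) [CommRing B] : (Fin r → Bˣ) →* ∀ i, GL (Fin (n i)) B where
  toFun v i := GLGen.diagHom (Fin (n i)) B (Pi.mulSingle ⟨0, hn i⟩ (v i))
  map_one' := by
    funext i
    simp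
  map_mul' v w := by
    funext i
    simp [Pi.mulSingle_mul]

lemma torusHom_apply (B : Type u) [CommRing B] (v : Fin r → Bˣ) (i : Fin r) :
    torusHom hn B v i = GLGen.diagHom (Fin (n i)) B (Pi.mulSingle ⟨0, hn i⟩ (v i)) := rfl

lemma det_torusHom (B : Type u) [CommRing B] (v : Fin r → Bˣ) (i : Fin r) :
    GeneralLinearGroup.det (torusHom hn B v i) = v i := by
  rw [torusHom_apply, GLGen.det_diagHom, Finset.prod_eq_single (⟨0, hn i⟩ : Fin (n i))]
  · simp
  · intro j _ hj
    exact Pi.mulSingle_eq_of_ne hj _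
  · simp

lemma map_torusHom (B C : Type u) [CommRing B] [CommRing C] (φ : B →+* C) (v : Fin r → Bˣ) :
    (fun i => GeneralLinearGroup.map φ (torusHom hn B v i)) =
      torusHom hn C (fun i => Units.map (φ : B →* C) (v i)) := by
  funext i
  apply Units.ext
  rw [GLGen.coe_map, torusHom_apply, torusHom_apply, GLGen.coe_diagHom, GLGen.coe_diagHom,
    Matrix.diagonal_map (map_zero φ)]
  congr 1
  funext j
  by_cases hj : j = ⟨0, hn i⟩
  · subst hj
    simp
  · simp [Pi.mulSingle_eq_of_ne hj]

end

section main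

variable {R : Type u} [CommRing R] {r : ℕ} {n : Fin r → ℕ}
  (α : ∀ (B : Type u) [CommRing B] [Algebra R B],
    (∀ i, Matrix.GeneralLinearGroup (Fin (n i)) B) →* Bˣ)
  (hα : ∀ (B C : Type u) [CommRing B] [Algebra R B] [CommRing C] [Algebra R C] (φ : B →ₐ[R] C)
      (s : ∀ i, Matrix.GeneralLinearGroup (Fin (n i)) B),
      α C (fun i => Matrix.GeneralLinearGroup.map φ.toRingHom (s i)) =
        Units.map (φ.toRingHom : B →* C) (α B s))

set_option backward.isDefEq.respectTransparency false in
include hα in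
theorem alpha_eq_one_of_det (B : Type u) [CommRing B] [Algebra R B]
    (y : ∀ i, GL (Fin (n i)) B) (hy : ∀ i, GeneralLinearGroup.det (y i) = 1) : α B y = 1 := by
  rw [← Finset.noncommProd_mulSingle y, Finset.map_noncommProd,
    Finset.noncommProd_eq_pow_card _ _ _ 1
      (fun i _ => alpha_mulSingle_eq_one α hα B i (y i) (hy i)), one_pow]

include hα in
theorem alpha_eq_torus (hn : ∀ i, 0 < n i) (B : Type u) [CommRing B] [Algebra R B]
    (s : ∀ i, GL (Fin (n i)) B) :
    α B s = α B (torusHom hn B (fun i => GeneralLinearGroup.det (s i))) := by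
  set t := torusHom hn B (fun i => GeneralLinearGroup.det (s i)) with ht
  have hs : s = (s * t⁻¹) * t := by group
  have h1 : α B (s * t⁻¹) = 1 := by
    apply alpha_eq_one_of_det α hα
    intro i
    rw [Pi.mul_apply, Pi.inv_apply, map_mul, map_inv, ht, det_torusHom, mul_inv_cancel]
  conv_lhs => rw [hs]
  rw [map_mul, h1, one_mul]

include hα in
/-- S5659 -/
theorem S5659 [ConnectedSpace (PrimeSpectrum R)] (hn : ∀ i, 0 < n i) :
    ∃! m : Fin r → ℤ, ∀ (B : Type u) [CommRing B] [Algebra R B]
      (s : ∀ i, Matrix.GeneralLinearGroup (Fin (n i)) B),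
      α B s = ∏ i, Matrix.GeneralLinearGroup.det (s i) ^ (m i) := by
  have hnt : Nontrivial R := by
    obtain ⟨x⟩ := (inferInstance : Nonempty (PrimeSpectrum R))
    exact x.nontrivial
  let β : ∀ (B : Type u) [CommRing B] [Algebra R B], (Fin r → Bˣ) →* Bˣ :=
    fun B _ _ => (α B).comp (torusHom hn B)
  have hβ : ∀ (B C : Type u) [CommRing B] [Algebra R B] [CommRing C] [Algebra R C]
      (φ : B →ₐ[R] C) (v : Fin r → Bˣ),
      β C (fun i => Units.map (φ.toRingHom : B →* C) (v i)) =
        Units.map (φ.toRingHom : B →* C) (β B v) := by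
    intro B C _ _ _ _ φ v
    show α C (torusHom hn C _) = Units.map _ (α B (torusHom hn B v))
    rw [← hα B C φ, map_torusHom]
  obtain ⟨m₀, hm₀⟩ := torus_char β hβ
  have hex : ∀ (B : Type u) [CommRing B] [Algebra R B]
      (s : ∀ i, Matrix.GeneralLinearGroup (Fin (n i)) B),
      α B s = ∏ i, Matrix.GeneralLinearGroup.det (s i) ^ (m₀ i) := by
    intro B _ _ s
    rw [alpha_eq_torus α hα hn B s]
    exact hm₀ B _
  refine ⟨m₀, hex, fun m hm => ?_⟩
  -- uniqueness
  let L := AddMonoidAlgebra R (Fin r → ℤ)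
  have h1 := hm L (torusHom hn L (univPt R r))
  have h2 := hex L (torusHom hn L (univPt R r))
  rw [h1] at h2
  simp only [det_torusHom] at h2
  have e1 : ∀ k : Fin r → ℤ, ∏ i, univPt R r i ^ k i =
      mon R (Fin r → ℤ) (Multiplicative.ofAdd k) := by
    intro k
    have := chi_mon R (AddMonoidHom.id (Fin r → ℤ)) (Multiplicative.ofAdd k)
    rw [chi_apply] at this
    exact this
  rw [e1, e1] at h2
  have h3 := congrArg Units.val h2
  rw [coe_mon, coe_mon] at h3
  exact (AddMonoidAlgebra.single_left_inj one_ne_zero).1 h3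

end main

end Groth.Agent.Helper26.CharGL
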