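import Mathlib
import Groth.Prelude.Def_QuadGrp

/-!
# The Clifford algebra of the split form `x₀² + x₁x₂`
-/

set_option autoImplicit false
universe u

namespace Groth.Agent.Lib.Helper26.Cl3

open CliffordAlgebra Matrix
open scoped Pointwise

variable (k : Type u) [Field k]

/-- the split form of rank three -/
noncomputable abbrev Q : QuadraticForm k (Fin 3 → k) := QuadGrp.splitForm k 3

theorem Q_apply (v : Fin 3 → k) : Q k v = v 0 * v 0 + v 1 * v 2 := by
  unfold Q QuadGrp.splitForm
  have h3 : (3 : ℕ) / 2 = 1 := rfl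
  rw [dif_pos (by norm_num : 3 % 2 = 1)]
  simp only [_root_.add_apply, _root_.sum_apply, QuadraticMap.linMulLin_apply,
    LinearMap.proj_apply, QuadraticMap.comp_apply, QuadraticMap.sq_apply]
  rw [add_comm]
  congr 1
  exact (Fin.sum_univ_succ (n := 0) _).trans (by simp)

end Groth.Agent.Lib.Helper26.Cl3
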