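import Mathlib
import Groth.Prelude.Def_QuadGrp
import Groth.Agent.Lib.Helper26.Cl3a

set_option autoImplicit false
universe u

namespace Groth.Agent.Lib.Helper26.Cl3

open CliffordAlgebra Matrix
open scoped Pointwise

variable (k : Type u) [Field k]

/-- the matrix representation on vectors -/
noncomputable def f : (Fin 3 → k) →ₗ[k] Matrix (Fin 2) (Fin 2) k where
  toFun v := !![v 0, v 1; v 2, -v 0]
  map_add' v w := by
    ext i j; fin_cases i <;> fin_cases j <;> simp [add_comm]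
  map_smul' c v := by
    ext i j; fin_cases i <;> fin_cases j <;> simp

theorem f_apply (v : Fin 3 → k) : f k v = !![v 0, v 1; v 2, -v 0] := rfl

theorem f_sq (v : Fin 3 → k) : f k v * f k v = algebraMap k _ (Q k v) := by
  rw [Q_apply, f_apply]
  ext i j
  fin_cases i <;> fin_cases j <;> simp [Matrix.algebraMap_matrix_apply] <;> ring

/-- the two-dimensional representation of the Clifford algebra -/
noncomputable def ρ : CliffordAlgebra (Q k) →ₐ[k] Matrix (Fin 2) (Fin 2) k :=
  CliffordAlgebra.lift (Q k) ⟨f k, f_sq k⟩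

theorem ρ_ι (v : Fin 3 → k) : ρ k (ι (Q k) v) = f k v := lift_ι_apply _ _ _

/-- basis vectors in the Clifford algebra -/
noncomputable def e (i : Fin 3) : CliffordAlgebra (Q k) := ι (Q k) (Pi.single i 1)

theorem Q_single (i : Fin 3) : Q k (Pi.single i 1) = if i = 0 then 1 else 0 := by
  rw [Q_apply]
  fin_cases i <;> simp

theorem polar_single (i j : Fin 3) (hij : i ≠ j) :
    QuadraticMap.polar (Q k) (Pi.single i 1) (Pi.single j 1) =
      if (i = 1 ∧ j = 2) ∨ (i = 2 ∧ j = 1) then 1 else 0 := by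
  unfold QuadraticMap.polar
  simp only [Q_apply]
  fin_cases i <;> fin_cases j <;> simp at hij ⊢

theorem e0_sq : e k 0 * e k 0 = 1 := by
  unfold e; rw [ι_sq_scalar, Q_single]; simp

theorem e1_sq : e k 1 * e k 1 = 0 := by
  unfold e; rw [ι_sq_scalar, Q_single]; simp

theorem e2_sq : e k 2 * e k 2 = 0 := by
  unfold e; rw [ι_sq_scalar, Q_single]; simp

theorem e1_e0 : e k 1 * e k 0 = -(e k 0 * e k 1) := by
  have := ι_mul_ι_add_swap (Q := Q k) (Pi.single 1 1) (Pi.single 0 1)
  rw [polar_single k 1 0 (by decide)] at this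
  have h : ¬ (((1 : Fin 3) = 1 ∧ (0 : Fin 3) = 2) ∨ ((1 : Fin 3) = 2 ∧ (0 : Fin 3) = 1)) := by decide
  rw [if_neg h, map_zero] at this
  exact eq_neg_of_add_eq_zero_left this

theorem e2_e0 : e k 2 * e k 0 = -(e k 0 * e k 2) := by
  have := ι_mul_ι_add_swap (Q := Q k) (Pi.single 2 1) (Pi.single 0 1)
  rw [polar_single k 2 0 (by decide)] at this
  have h : ¬ (((2 : Fin 3) = 1 ∧ (0 : Fin 3) = 2) ∨ ((2 : Fin 3) = 2 ∧ (0 : Fin 3) = 1)) := by decide
  rw [if_neg h, map_zero] at this
  exact eq_neg_of_add_eq_zero_left this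

theorem e2_e1 : e k 2 * e k 1 = 1 - e k 1 * e k 2 := by
  have := ι_mul_ι_add_swap (Q := Q k) (Pi.single 2 1) (Pi.single 1 1)
  rw [polar_single k 2 1 (by decide)] at this
  have h : (((2 : Fin 3) = 1 ∧ (1 : Fin 3) = 2) ∨ ((2 : Fin 3) = 2 ∧ (1 : Fin 3) = 1)) := by decide
  rw [if_pos h, map_one] at this
  exact eq_sub_of_add_eq this

end Groth.Agent.Lib.Helper26.Cl3
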