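import Mathlib
import Groth.Prelude.Def_QuadGrp
import Groth.Agent.Lib.Helper26.Cl3b

set_option autoImplicit false
universe u

namespace Groth.Agent.Lib.Helper26.Cl3

open CliffordAlgebra Matrix
open scoped Pointwise

variable (k : Type u) [Field k]

theorem e0_e0' (y : CliffordAlgebra (Q k)) : e k 0 * (e k 0 * y) = y := by
  rw [← mul_assoc, e0_sq, one_mul]
theorem e1_e1' (y : CliffordAlgebra (Q k)) : e k 1 * (e k 1 * y) = 0 := by
  rw [← mul_assoc, e1_sq, zero_mul]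
theorem e2_e2' (y : CliffordAlgebra (Q k)) : e k 2 * (e k 2 * y) = 0 := by
  rw [← mul_assoc, e2_sq, zero_mul]
theorem e1_e0' (y : CliffordAlgebra (Q k)) : e k 1 * (e k 0 * y) = -(e k 0 * (e k 1 * y)) := by
  rw [← mul_assoc, e1_e0, neg_mul, mul_assoc]
theorem e2_e0' (y : CliffordAlgebra (Q k)) : e k 2 * (e k 0 * y) = -(e k 0 * (e k 2 * y)) := by
  rw [← mul_assoc, e2_e0, neg_mul, mul_assoc]
theorem e2_e1' (y : CliffordAlgebra (Q k)) : e k 2 * (e k 1 * y) = y - e k 1 * (e k 2 * y) := by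
  rw [← mul_assoc, e2_e1, sub_mul, one_mul, mul_assoc]

/-- normalisation of words in the `e i` -/
macro "cl3_norm" : tactic => `(tactic|
  (simp only [mul_assoc, e0_sq, e1_sq, e2_sq, e1_e0, e2_e0, e2_e1, e0_e0', e1_e1', e2_e2', e1_e0',
    e2_e0', e2_e1', mul_neg, neg_mul, mul_zero, zero_mul, mul_one, one_mul, neg_neg, neg_zero,
    mul_sub, sub_mul, sub_zero, zero_sub, mul_add, add_mul, add_zero, zero_add, sub_self]))

/-- the four-dimensional subspace spanned by `1, e₀e₁, e₀e₂, e₁e₂` -/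
def InB (x : CliffordAlgebra (Q k)) : Prop :=
  ∃ α β γ δ : k, x = α • (1 : CliffordAlgebra (Q k)) + β • (e k 0 * e k 1) + γ • (e k 0 * e k 2) +
    δ • (e k 1 * e k 2)

theorem ι_eq (m : Fin 3 → k) : ι (Q k) m = m 0 • e k 0 + m 1 • e k 1 + m 2 • e k 2 := by
  have hm : m = m 0 • Pi.single 0 1 + m 1 • Pi.single 1 1 + m 2 • Pi.single 2 1 := by
    ext i; fin_cases i <;> simp
  conv_lhs => rw [hm]
  simp only [map_add, map_smul, e]

theorem inB_add {x y : CliffordAlgebra (Q k)} (hx : InB k x) (hy : InB k y) : InB k (x + y) := by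
  obtain ⟨α, β, γ, δ, rfl⟩ := hx
  obtain ⟨α', β', γ', δ', rfl⟩ := hy
  exact ⟨α + α', β + β', γ + γ', δ + δ', by module⟩

theorem inB_algebraMap (r : k) : InB k (algebraMap k _ r) :=
  ⟨r, 0, 0, 0, by rw [Algebra.algebraMap_eq_smul_one]; module⟩

theorem inB_mul {x y : CliffordAlgebra (Q k)} (hx : InB k x) (hy : InB k y) : InB k (x * y) := by
  obtain ⟨α, β, γ, δ, rfl⟩ := hx
  obtain ⟨α', β', γ', δ', rfl⟩ := hy
  refine ⟨α * α' - γ * β', α * β' + β * α' + δ * β', α * γ' + γ * α' + γ * δ',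
    α * δ' - β * γ' + γ * β' + δ * α' + δ * δ', ?_⟩
  simp only [add_mul, mul_add, smul_mul_assoc, mul_smul_comm]
  cl3_norm
  module

theorem inB_ι_mul_ι (m₁ m₂ : Fin 3 → k) : InB k (ι (Q k) m₁ * ι (Q k) m₂) := by
  refine ⟨m₁ 0 * m₂ 0 + m₁ 2 * m₂ 1, m₁ 0 * m₂ 1 - m₁ 1 * m₂ 0, m₁ 0 * m₂ 2 - m₁ 2 * m₂ 0,
    m₁ 1 * m₂ 2 - m₁ 2 * m₂ 1, ?_⟩
  rw [ι_eq, ι_eq]
  simp only [add_mul, mul_add, smul_mul_assoc, mul_smul_comm]
  cl3_norm
  module

theorem inB_of_mem_even {x : CliffordAlgebra (Q k)} (hx : x ∈ evenOdd (Q k) 0) : InB k x := by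
  refine even_induction (Q k) (motive := fun x _ => InB k x) (fun r => inB_algebraMap k r)
    (fun _ _ _ _ hx hy => inB_add k hx hy)
    (fun m₁ m₂ _ _ hx => inB_mul k (inB_ι_mul_ι k m₁ m₂) hx) x hx

theorem ρ_e0 : ρ k (e k 0) = !![1, 0; 0, -1] := by
  unfold e; rw [ρ_ι, f_apply]; simp
theorem ρ_e1 : ρ k (e k 1) = !![0, 1; 0, 0] := by
  unfold e; rw [ρ_ι, f_apply]; simp
theorem ρ_e2 : ρ k (e k 2) = !![0, 0; 1, 0] := by
  unfold e; rw [ρ_ι, f_apply]; simp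

theorem eq_zero_of_inB {x : CliffordAlgebra (Q k)} (hx : InB k x) (h : ρ k x = 0) : x = 0 := by
  obtain ⟨α, β, γ, δ, rfl⟩ := hx
  simp only [map_add, map_smul, map_one, map_mul, ρ_e0, ρ_e1, ρ_e2] at h
  have h00 := congrFun (congrFun h 0) 0
  have h01 := congrFun (congrFun h 0) 1
  have h10 := congrFun (congrFun h 1) 0
  have h11 := congrFun (congrFun h 1) 1
  simp at h00 h01 h10 h11
  subst h11 h01
  have hδ : δ = 0 := by simpa using h00
  have hγ : γ = 0 := by simpa using h10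
  subst hδ hγ
  simp

theorem eq_zero_of_mem_odd {x : CliffordAlgebra (Q k)} (hx : x ∈ evenOdd (Q k) 1) (h : ρ k x = 0) :
    x = 0 := by
  have h1 : x * e k 0 ∈ evenOdd (Q k) 0 := by
    have : x * e k 0 ∈ evenOdd (Q k) (1 + 1) :=
      SetLike.mul_mem_graded hx (ι_mem_evenOdd_one (Q k) (Pi.single 0 1))
    exact this
  have h2 : x * e k 0 = 0 := eq_zero_of_inB k (inB_of_mem_even k h1) (by rw [map_mul, h, zero_mul])
  calc x = x * e k 0 * e k 0 := by rw [mul_assoc, e0_sq, mul_one]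
    _ = 0 := by rw [h2, zero_mul]

end Groth.Agent.Lib.Helper26.Cl3
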