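import Mathlib
import Groth.Prelude.Def_QuadGrp
import Groth.Agent.Lib.Helper26.Cl3c

set_option autoImplicit false
universe u

namespace Groth.Agent.Lib.Helper26.Cl3

open CliffordAlgebra Matrix
open scoped Pointwise

variable (k : Type u) [Field k]

theorem trace_f (m : Fin 3 → k) : (f k m).trace = 0 := by
  rw [f_apply, Matrix.trace_fin_two]
  simp

theorem f_of_trace_zero (N : Matrix (Fin 2) (Fin 2) k) (hN : N.trace = 0) :
    f k ![N 0 0, N 0 1, N 1 0] = N := by
  rw [Matrix.trace_fin_two] at hN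
  have h11 : N 1 1 = - N 0 0 := by linear_combination hN
  rw [f_apply]
  ext i j
  fin_cases i <;> fin_cases j <;> simp [h11]

/-- conjugation by an even unit preserves the space of vectors -/
theorem conj_mem_range (u : (CliffordAlgebra (Q k))ˣ) (hu : u ∈ QuadGrp.evenUnits (Q k))
    (x : CliffordAlgebra (Q k)) (hx : x ∈ LinearMap.range (ι (Q k))) :
    (u : CliffordAlgebra (Q k)) * x * ↑u⁻¹ ∈ LinearMap.range (ι (Q k)) := by
  obtain ⟨m, rfl⟩ := hx
  have hu0 : (u : CliffordAlgebra (Q k)) ∈ evenOdd (Q k) 0 := hu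
  have hu0' : (↑u⁻¹ : CliffordAlgebra (Q k)) ∈ evenOdd (Q k) 0 := (QuadGrp.evenUnits (Q k)).inv_mem hu
  set y := (u : CliffordAlgebra (Q k)) * ι (Q k) m * ↑u⁻¹ with hy
  have hy1 : y ∈ evenOdd (Q k) 1 := by
    have : y ∈ evenOdd (Q k) (0 + 1 + 0) :=
      SetLike.mul_mem_graded (SetLike.mul_mem_graded hu0 (ι_mem_evenOdd_one (Q k) m)) hu0'
    exact this
  have htr : (ρ k y).trace = 0 := by
    rw [hy, map_mul, map_mul, Matrix.trace_mul_comm, ← mul_assoc, ← map_mul, Units.inv_mul, map_one,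
      one_mul, ρ_ι, trace_f]
  set N := ρ k y with hN
  set m' : Fin 3 → k := ![N 0 0, N 0 1, N 1 0] with hm'
  refine ⟨m', ?_⟩
  have h0 : y - ι (Q k) m' = 0 := by
    refine eq_zero_of_mem_odd k (Submodule.sub_mem _ hy1 (ι_mem_evenOdd_one (Q k) m')) ?_
    rw [map_sub, ρ_ι, hm', f_of_trace_zero k N htr, sub_self]
  exact (sub_eq_zero.mp h0).symm

theorem main : QuadGrp.evenUnits (QuadGrp.splitForm k 3) ≤ QuadGrp.GPin' (QuadGrp.splitForm k 3) := by
  intro u hu
  rw [QuadGrp.mem_GPin']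
  have key : ∀ (w : (CliffordAlgebra (Q k))ˣ), w ∈ QuadGrp.evenUnits (Q k) →
      ∀ x ∈ LinearMap.range (ι (Q k)), ConjAct.toConjAct w • x ∈ LinearMap.range (ι (Q k)) := by
    intro w hw x hx
    rw [ConjAct.units_smul_def, ConjAct.ofConjAct_toConjAct]
    exact conj_mem_range k w hw x hx
  apply le_antisymm
  · intro x hx
    rw [Submodule.mem_smul_pointwise_iff_exists] at hx
    obtain ⟨b, hb, rfl⟩ := hx
    exact key u hu b hb
  · intro x hx
    rw [Submodule.mem_smul_pointwise_iff_exists]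
    refine ⟨ConjAct.toConjAct u⁻¹ • x, key u⁻¹ ((QuadGrp.evenUnits (Q k)).inv_mem hu) x hx, ?_⟩
    rw [map_inv, smul_inv_smul]

end Groth.Agent.Lib.Helper26.Cl3
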