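import Mathlib

/-!
# Lifting clopen subsets from a closed subset of a prime spectrum vs lifting idempotents (helper26)
-/

set_option autoImplicit false

namespace Groth.Agent.Helper26.ClopLift1

open PrimeSpectrum

universe u v

variable {B : Type u} [CommRing B] (J : Ideal B) {P : Type v} [TopologicalSpace P]
  (p : P → PrimeSpectrum B)

theorem isClosedEmbedding_comap_mk :
    Topology.IsClosedEmbedding (comap (Ideal.Quotient.mk J)) :=
  isClosedEmbedding_comap_of_surjective (B ⧸ J) (Ideal.Quotient.mk J) Ideal.Quotient.mk_surjective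

theorem range_comap_mk :
    Set.range (comap (Ideal.Quotient.mk J)) = zeroLocus (J : Set B) := by
  have := range_comap_of_surjective (B ⧸ J) (Ideal.Quotient.mk J) Ideal.Quotient.mk_surjective
  rw [Ideal.mk_ker] at this
  exact this

/-- the homeomorphism between two closed embeddings with the same range -/
noncomputable def homeo (hp : Topology.IsClosedEmbedding p)
    (hrange : Set.range p = zeroLocus (J : Set B)) : P ≃ₜ PrimeSpectrum (B ⧸ J) :=
  hp.isEmbedding.toHomeomorph.trans
    ((Homeomorph.setCongr (hrange.trans (range_comap_mk J).symm)).trans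
      (isClosedEmbedding_comap_mk J).isEmbedding.toHomeomorph.symm)

theorem comap_homeo (hp : Topology.IsClosedEmbedding p)
    (hrange : Set.range p = zeroLocus (J : Set B)) (x : P) :
    comap (Ideal.Quotient.mk J) (homeo J p hp hrange x) = p x := by
  have h := (isClosedEmbedding_comap_mk J).isEmbedding.toHomeomorph.apply_symm_apply
    ((Homeomorph.setCongr (hrange.trans (range_comap_mk J).symm)) (hp.isEmbedding.toHomeomorph x))
  have h2 := congrArg Subtype.val h
  exact h2

theorem preimage_basicOpen (hp : Topology.IsClosedEmbedding p)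
    (hrange : Set.range p = zeroLocus (J : Set B)) (e : B) :
    p ⁻¹' (basicOpen e : Set (PrimeSpectrum B)) =
      (homeo J p hp hrange) ⁻¹' (basicOpen (Ideal.Quotient.mk J e) : Set (PrimeSpectrum (B ⧸ J))) := by
  ext x
  simp only [Set.mem_preimage, SetLike.mem_coe, mem_basicOpen]
  rw [← comap_homeo J p hp hrange x]
  rfl

theorem lift_iff (hp : Topology.IsClosedEmbedding p)
    (hrange : Set.range p = zeroLocus (J : Set B)) :
    (∀ V : Set P, IsClopen V → ∃! U : Set (PrimeSpectrum B), IsClopen U ∧ p ⁻¹' U = V) ↔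
      Set.BijOn (Ideal.Quotient.mk J) {e : B | IsIdempotentElem e} {e | IsIdempotentElem e} := by
  set h := homeo J p hp hrange with hh
  constructor
  · intro H
    refine ⟨fun e he => he.map _, ?_, ?_⟩
    · intro e he e' he' hee
      have h1 : IsClopen ((basicOpen e : Set (PrimeSpectrum B))) :=
        PrimeSpectrum.isClopen_iff.2 ⟨e, he, rfl⟩
      have h2 : IsClopen ((basicOpen e' : Set (PrimeSpectrum B))) :=
        PrimeSpectrum.isClopen_iff.2 ⟨e', he', rfl⟩
      have hV : IsClopen (p ⁻¹' (basicOpen e : Set (PrimeSpectrum B))) :=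
        h1.preimage hp.continuous
      obtain ⟨U, -, hU⟩ := H _ hV
      have e1 := hU _ ⟨h1, rfl⟩
      have e2 := hU _ ⟨h2, by
        rw [preimage_basicOpen J p hp hrange, preimage_basicOpen J p hp hrange, hee]⟩
      have : (basicOpen e : Set (PrimeSpectrum B)) = basicOpen e' := e1.trans e2.symm
      exact basicOpen_injOn_isIdempotentElem he he' (SetLike.coe_injective this)
    · intro w hw
      have hD : IsClopen ((basicOpen w : Set (PrimeSpectrum (B ⧸ J)))) :=
        PrimeSpectrum.isClopen_iff.2 ⟨w, hw, rfl⟩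
      have hV : IsClopen (h ⁻¹' (basicOpen w : Set (PrimeSpectrum (B ⧸ J)))) :=
        hD.preimage h.continuous
      obtain ⟨U, ⟨hUc, hUV⟩, -⟩ := H _ hV
      obtain ⟨e, he, rfl⟩ := PrimeSpectrum.isClopen_iff.1 hUc
      refine ⟨e, he, ?_⟩
      rw [preimage_basicOpen J p hp hrange] at hUV
      have h3 := h.surjective.preimage_injective hUV
      exact basicOpen_injOn_isIdempotentElem (he.map _) hw (SetLike.coe_injective h3)
  · intro H V hV
    have hV' : IsClopen (h.symm ⁻¹' V) := hV.preimage h.symm.continuous
    obtain ⟨w, hw, hVw⟩ := PrimeSpectrum.isClopen_iff.1 hV'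
    obtain ⟨e, he, rfl⟩ := H.surjOn hw
    refine ⟨basicOpen e, ⟨PrimeSpectrum.isClopen_iff.2 ⟨e, he, rfl⟩, ?_⟩, ?_⟩
    · rw [preimage_basicOpen J p hp hrange, ← hVw, ← Set.preimage_comp, ← hh]
      simp
    · rintro U' ⟨hU'c, hU'V⟩
      obtain ⟨e', he', rfl⟩ := PrimeSpectrum.isClopen_iff.1 hU'c
      rw [preimage_basicOpen J p hp hrange] at hU'V
      have h4 : (basicOpen (Ideal.Quotient.mk J e') : Set (PrimeSpectrum (B ⧸ J))) =
          basicOpen (Ideal.Quotient.mk J e) := by
        apply h.surjective.preimage_injective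
        rw [← hh] at hU'V
        rw [hU'V, ← hVw, ← Set.preimage_comp]
        simp
      have h5 := basicOpen_injOn_isIdempotentElem (he'.map _) (he.map _)
        (SetLike.coe_injective h4)
      rw [H.injOn he' he h5]

end Groth.Agent.Helper26.ClopLift1
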