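import Mathlib
import Groth.Agent.Lib.Helper26.ClopLift1
import Groth.Agent.Lib.Helper1.HPIdem

/-!
# Henselian pairs and lifting of clopen subsets along finite morphisms (helper26)
-/

set_option autoImplicit false

open CategoryTheory CategoryTheory.Limits AlgebraicGeometry PrimeSpectrum

namespace Groth.Agent.Helper26.ClopLift2

universe u

variable (A : Type u) [CommRing A] (I : Ideal A)

/-- transport of the unique-lifting property along a homeomorphism of the target -/
theorem existsUnique_clopen_homeo {P Y Y' : Type*} [TopologicalSpace P] [TopologicalSpace Y]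
    [TopologicalSpace Y'] (θ : Y ≃ₜ Y') (q : P → Y) (V : Set P) :
    (∃! U : Set Y, IsClopen U ∧ q ⁻¹' U = V) ↔
      (∃! U' : Set Y', IsClopen U' ∧ (θ ∘ q) ⁻¹' U' = V) := by
  constructor
  · rintro ⟨U, ⟨hU, hUV⟩, huniq⟩
    refine ⟨θ.symm ⁻¹' U, ⟨hU.preimage θ.symm.continuous, ?_⟩, ?_⟩
    · rw [Set.preimage_comp, ← Set.preimage_comp (g := θ.symm)]
      simpa using hUV
    · rintro U' ⟨hU', hU'V⟩
      have := huniq (θ ⁻¹' U') ⟨hU'.preimage θ.continuous, by rw [← Set.preimage_comp]; exact hU'V⟩
      rw [← this, ← Set.preimage_comp]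
      simp
  · rintro ⟨U', ⟨hU', hU'V⟩, huniq⟩
    refine ⟨θ ⁻¹' U', ⟨hU'.preimage θ.continuous, by rw [← Set.preimage_comp]; exact hU'V⟩, ?_⟩
    rintro U ⟨hU, hUV⟩
    have := huniq (θ.symm ⁻¹' U) ⟨hU.preimage θ.symm.continuous, by
      rw [Set.preimage_comp, ← Set.preimage_comp (g := θ.symm)]
      simpa using hUV⟩
    rw [← this, ← Set.preimage_comp]
    simp

theorem lift_iff_bijOn {Y : Scheme.{u}} (g : Y ⟶ Spec (CommRingCat.of A))
    (B : Type u) [CommRing B] (φ : A →+* B) (θ : Y ≃ₜ PrimeSpectrum B)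
    (hθ : ∀ y : Y, g.base y = comap φ (θ y)) :
    (∀ V : Set ↥(pullback g (Spec.map (CommRingCat.ofHom (Ideal.Quotient.mk I)))), IsClopen V →
        ∃! U : Set ↥Y, IsClopen U ∧
          (pullback.fst g (Spec.map (CommRingCat.ofHom (Ideal.Quotient.mk I)))).base ⁻¹' U = V) ↔
      Set.BijOn (Ideal.Quotient.mk (I.map φ)) {e : B | IsIdempotentElem e}
        {e | IsIdempotentElem e} := by
  have hi : IsClosedImmersion (Spec.map (CommRingCat.ofHom (Ideal.Quotient.mk I))) :=
    IsClosedImmersion.spec_of_surjective _ Ideal.Quotient.mk_surjective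
  have hp1 : IsClosedImmersion
      (pullback.fst g (Spec.map (CommRingCat.ofHom (Ideal.Quotient.mk I)))) := inferInstance
  have hce : Topology.IsClosedEmbedding
      (pullback.fst g (Spec.map (CommRingCat.ofHom (Ideal.Quotient.mk I)))).base :=
    Scheme.Hom.isClosedEmbedding _
  have hce2 : Topology.IsClosedEmbedding
      (θ ∘ (pullback.fst g (Spec.map (CommRingCat.ofHom (Ideal.Quotient.mk I)))).base) :=
    θ.isClosedEmbedding.comp hce
  have hrange_i : Set.range (Spec.map (CommRingCat.ofHom (Ideal.Quotient.mk I))).base =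
      zeroLocus (I : Set A) := by
    have := range_comap_of_surjective (A ⧸ I) (Ideal.Quotient.mk I) Ideal.Quotient.mk_surjective
    rw [Ideal.mk_ker] at this
    exact this
  have hrange : Set.range
      (θ ∘ (pullback.fst g (Spec.map (CommRingCat.ofHom (Ideal.Quotient.mk I)))).base) =
      zeroLocus ((I.map φ : Ideal B) : Set B) := by
    rw [Set.range_comp, Scheme.Pullback.range_fst, hrange_i]
    ext q
    constructor
    · rintro ⟨y, hy, rfl⟩
      have hy' : comap φ (θ y) ∈ zeroLocus (I : Set A) := by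
        rw [← hθ y]; exact hy
      rw [mem_zeroLocus] at hy'
      rw [mem_zeroLocus, SetLike.coe_subset_coe, Ideal.map_le_iff_le_comap]
      exact hy'
    · intro hq
      refine ⟨θ.symm q, ?_, θ.apply_symm_apply q⟩
      have h1 : comap φ (θ (θ.symm q)) ∈ zeroLocus (I : Set A) := by
        rw [θ.apply_symm_apply, mem_zeroLocus]
        rw [mem_zeroLocus, SetLike.coe_subset_coe, Ideal.map_le_iff_le_comap] at hq
        exact hq
      rw [← hθ] at h1
      exact h1
  rw [← Groth.Agent.Helper26.ClopLift1.lift_iff (I.map φ) _ hce2 hrange]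
  constructor
  · intro H V hV
    exact (existsUnique_clopen_homeo θ _ V).1 (H V hV)
  · intro H V hV
    exact (existsUnique_clopen_homeo θ _ V).2 (H V hV)

theorem main :
    HenselianRing A I ↔
    ∀ (Y : Scheme.{u}) (g : Y ⟶ Spec (CommRingCat.of A)), IsFinite g →
      ∀ V : Set ↥(pullback g (Spec.map (CommRingCat.ofHom (Ideal.Quotient.mk I)))), IsClopen V →
        ∃! U : Set ↥Y, IsClopen U ∧
          (pullback.fst g (Spec.map (CommRingCat.ofHom (Ideal.Quotient.mk I)))).base ⁻¹' U = V := by
  constructor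
  · intro hH Y g hfin
    have haff : IsAffine Y := isAffine_of_isAffineHom g
    obtain ⟨φ, hφ⟩ := Spec.map_surjective (Y.isoSpec.inv ≫ g)
    have hg : g = Y.isoSpec.hom ≫ Spec.map φ := by
      rw [hφ, Iso.hom_inv_id_assoc]
    have hfin2 : IsFinite (Spec.map φ) := by
      rw [hφ]; infer_instance
    have hφfin : φ.hom.Finite := (IsFinite.SpecMap_iff φ).1 hfin2
    let θ : Y ≃ₜ PrimeSpectrum Γ(Y, ⊤) := Scheme.homeoOfIso Y.isoSpec
    have hθ : ∀ y : Y, g.base y = comap φ.hom (θ y) := by
      intro y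
      rw [hg]
      rfl
    algebraize [φ.hom]
    have hint : Algebra.IsIntegral A Γ(Y, ⊤) := Algebra.IsIntegral.of_finite A _
    have hG : Groth.Agent.Helper1.GabberProp A I := Groth.Agent.Helper1.gabberProp_of_henselianRing
    have hbij := Groth.Agent.Helper1.bijOn_isIdempotentElem_of_isIntegral hG Γ(Y, ⊤)
    exact (lift_iff_bijOn A I g Γ(Y, ⊤) φ.hom θ hθ).2 hbij
  · intro H
    apply Groth.Agent.Helper1.henselianRing_of_bijOn_finite
    intro B _ _ hfin
    have hgfin : IsFinite (Spec.map (CommRingCat.ofHom (algebraMap A B))) := by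
      rw [IsFinite.SpecMap_iff]
      exact RingHom.finite_algebraMap.2 hfin
    exact (lift_iff_bijOn A I (Spec.map (CommRingCat.ofHom (algebraMap A B))) B (algebraMap A B)
      (Homeomorph.refl _) (fun y => rfl)).1
      (H (Spec (CommRingCat.of B)) (Spec.map (CommRingCat.ofHom (algebraMap A B))) hgfin)

end Groth.Agent.Helper26.ClopLift2
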