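import Mathlib

/-!
# Equivariant sections of a surjection onto a permutation module (helper26)
-/

set_option autoImplicit false

open scoped MonoidAlgebra

namespace Groth.Agent.Helper26.Cofl1

open Representation

variable {k : Type*} [CommRing k] {G : Type*} [Group G] {X : Type*} [MulAction G X]
  {E : Type*} [AddCommGroup E] [Module k E] (ρE : Representation k G E)

/-- the linear map `k[X] → E` with `single x 1 ↦ σ x`. -/
noncomputable def liftLin (σ : X → E) : k[X] →ₗ[k] E :=
  Finsupp.lift E k X σ ∘ₗ (MonoidAlgebra.coeffLinearEquiv k).toLinearMap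

@[simp] theorem liftLin_single (σ : X → E) (x : X) (r : k) :
    liftLin (k := k) σ (MonoidAlgebra.single x r) = r • σ x := by
  simp [liftLin]

theorem linearMap_ext {M : Type*} [AddCommGroup M] [Module k M] {f g : k[X] →ₗ[k] M}
    (h : ∀ x : X, f (MonoidAlgebra.single x 1) = g (MonoidAlgebra.single x 1)) : f = g := by
  ext x
  simpa using h x

/-- the intertwining map `k[X] → E` attached to an equivariant family. -/
noncomputable def liftInter (σ : X → E) (hσ : ∀ (g : G) (x : X), σ (g • x) = ρE g (σ x)) :
    IntertwiningMap (ofMulAction k G X) ρE :=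
  ⟨liftLin σ, fun g => by
    apply linearMap_ext
    intro x
    simp [hσ]⟩

@[simp] theorem liftInter_single (σ : X → E) (hσ : ∀ (g : G) (x : X), σ (g • x) = ρE g (σ x))
    (x : X) (r : k) : liftInter ρE σ hσ (MonoidAlgebra.single x r) = r • σ x :=
  liftLin_single σ x r

/-- An equivariant section exists as soon as every basis vector has a lift invariant under its
stabiliser. -/
theorem exists_section (π : IntertwiningMap ρE (ofMulAction k G X))
    (h : ∀ x : X, ∃ e : E, π e = MonoidAlgebra.single x 1 ∧ ∀ g : G, g • x = x → ρE g e = e) :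
    ∃ s : IntertwiningMap (ofMulAction k G X) ρE, ∀ ξ, π (s ξ) = ξ := by
  classical
  choose e he1 he2 using h
  -- orbit representatives
  let rep : X → X := fun x => Quotient.out (Quotient.mk (MulAction.orbitRel G X) x)
  have hrep : ∀ x, ∃ g : G, g • rep x = x := by
    intro x
    have h1 : (MulAction.orbitRel G X).r (rep x) x := Quotient.exact (Quotient.out_eq _)
    have h2 : rep x ∈ MulAction.orbit G x := h1
    obtain ⟨g, hg⟩ := h2
    exact ⟨g⁻¹, by rw [← hg, inv_smul_smul]⟩
  choose γ hγ using hrep
  have hrep_smul : ∀ (g : G) (x : X), rep (g • x) = rep x := by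
    intro g x
    have : Quotient.mk (MulAction.orbitRel G X) (g • x) = Quotient.mk (MulAction.orbitRel G X) x :=
      Quotient.sound ⟨g, rfl⟩
    simp only [rep, this]
  let σ : X → E := fun x => ρE (γ x) (e (rep x))
  have hσ : ∀ (g : G) (x : X), σ (g • x) = ρE g (σ x) := by
    intro g x
    simp only [σ, hrep_smul]
    have h1 : ((g * γ x)⁻¹ * γ (g • x)) • rep x = rep x := by
      have e1 : γ (g • x) • rep x = g • x := by
        have := hγ (g • x); rwa [hrep_smul] at this
      have e2 : g • x = (g * γ x) • rep x := by rw [mul_smul, hγ x]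
      rw [mul_smul, e1, e2, inv_smul_smul]
    have h2 := he2 (rep x) _ h1
    have h3 : ρE (γ (g • x)) (e (rep x)) = ρE (g * γ x) (ρE ((g * γ x)⁻¹ * γ (g • x)) (e (rep x))) := by
      rw [← Module.End.mul_apply, ← map_mul]
      simp
    rw [h3, h2, map_mul, Module.End.mul_apply]
  refine ⟨liftInter ρE σ hσ, ?_⟩
  have hlin : (π.toLinearMap ∘ₗ (liftInter ρE σ hσ).toLinearMap) = LinearMap.id := by
    apply linearMap_ext
    intro x
    have h1 : π (σ x) = MonoidAlgebra.single x 1 := by
      simp only [σ]
      rw [π.isIntertwining, he1, ofMulAction_single, hγ]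
    simpa using h1
  intro ξ
  exact congrArg (fun F => F ξ) hlin

end Groth.Agent.Helper26.Cofl1
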