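import Mathlib
import Groth.Agent.Lib.Helper26.Cofl1

/-!
# H¹ vanishing and invariant lifts (helper26)
-/

set_option autoImplicit false

open scoped MonoidAlgebra
open CategoryTheory

namespace Groth.Agent.Helper26.Cofl2

open Representation groupCohomology

universe u

variable {k G : Type u} [CommRing k] [Group G]

/-- `H¹` vanishes iff every 1-cocycle is a 1-coboundary. -/
theorem isZero_H1_iff (A : Rep.{u} k G) :
    Limits.IsZero (groupCohomology A 1) ↔ ∀ c : cocycles₁ A, ⇑c ∈ coboundaries₁ A := by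
  constructor
  · intro h c
    have := ModuleCat.subsingleton_of_isZero h
    rw [← H1π_eq_zero_iff]
    exact Subsingleton.elim _ _
  · intro h
    have : Subsingleton (groupCohomology A 1) := by
      refine ⟨fun a b => ?_⟩
      have h0 : ∀ a : H1 A, a = 0 := by
        intro a
        induction a using H1_induction_on with
        | h x => exact (H1π_eq_zero_iff x).2 (h x)
      rw [h0 a, h0 b]
    exact ModuleCat.isZero_of_subsingleton _

theorem mem_coboundaries₁_iff (A : Rep.{u} k G) (f : G → A) :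
    f ∈ coboundaries₁ A ↔ ∃ x : A, ∀ g : G, A.ρ g x - x = f g := by
  constructor
  · rintro ⟨x, hx⟩
    exact ⟨x, fun g => congrFun hx g⟩
  · rintro ⟨x, hx⟩
    exact ⟨x, funext hx⟩

/-- An invariant element of the quotient lifts to an invariant element when `H¹` of the kernel
vanishes (for the subgroup `Γ'`). -/
theorem exists_invariant_lift (S : ShortComplex (Rep.{u} k G)) (hS : S.ShortExact)
    (Γ' : Subgroup G) (Λ : Rep.{u} k G) (i : S.X₁ ≅ Λ)
    (hH : Limits.IsZero (groupCohomology (Rep.res Γ'.subtype Λ) 1))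
    (z : S.X₃) (hz : ∀ g ∈ Γ', S.X₃.ρ g z = z) :
    ∃ e : S.X₂, S.g.hom e = z ∧ ∀ g ∈ Γ', S.X₂.ρ g e = e := by
  have hsurj : Function.Surjective S.g.hom := (Rep.epi_iff_surjective _).1 hS.epi_g
  have hinj : Function.Injective S.f.hom := (Rep.mono_iff_injective _).1 hS.mono_f
  have hex : LinearMap.range S.f.hom.toLinearMap = LinearMap.ker S.g.hom.toLinearMap :=
    (hS.exact.map (forget₂ (Rep k G) (ModuleCat k))).moduleCat_range_eq_ker
  obtain ⟨e₀, he₀⟩ := hsurj z
  have hker : ∀ g ∈ Γ', ∃ a : S.X₁, S.f.hom a = S.X₂.ρ g e₀ - e₀ := by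
    intro g hg
    have h1 : S.X₂.ρ g e₀ - e₀ ∈ LinearMap.ker S.g.hom.toLinearMap := by
      rw [LinearMap.mem_ker]
      change S.g.hom (S.X₂.ρ g e₀ - e₀) = 0
      rw [map_sub, Rep.hom_comm_apply, he₀, hz g hg, sub_self]
    rw [← hex] at h1
    obtain ⟨a, ha⟩ := h1
    exact ⟨a, ha⟩
  choose a ha using hker
  -- the cocycle
  let c : Γ' → Λ := fun g => i.hom.hom (a g.1 g.2)
  have hc : c ∈ cocycles₁ (Rep.res Γ'.subtype Λ) := by
    rw [mem_cocycles₁_iff]
    intro g h
    change i.hom.hom (a (g * h : Γ').1 (g * h).2) = Λ.ρ g.1 (i.hom.hom (a h.1 h.2)) + i.hom.hom (a g.1 g.2)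
    rw [← Rep.hom_comm_apply, ← map_add]
    congr 1
    apply hinj
    rw [map_add, Rep.hom_comm_apply, ha, ha, ha]
    simp only [Subgroup.coe_mul, map_mul, Module.End.mul_apply, map_sub]
    abel
  obtain ⟨μ, hμ⟩ := (mem_coboundaries₁_iff _ _).1 ((isZero_H1_iff _).1 hH ⟨c, hc⟩)
  refine ⟨e₀ - S.f.hom (i.inv.hom μ), ?_, ?_⟩
  · rw [map_sub, he₀]
    have : S.g.hom (S.f.hom (i.inv.hom μ)) = 0 := by
      have h1 : S.f.hom (i.inv.hom μ) ∈ LinearMap.ker S.g.hom.toLinearMap := by
        rw [← hex]; exact ⟨_, rfl⟩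
      exact h1
    rw [this, sub_zero]
  · intro g hg
    have h1 := hμ ⟨g, hg⟩
    change Λ.ρ g μ - μ = i.hom.hom (a g hg) at h1
    have h2 : a g hg = i.inv.hom (Λ.ρ g μ - μ) := by
      rw [h1]; simp
    rw [map_sub, ← Rep.hom_comm_apply, ← Rep.hom_comm_apply]
    have h3 : S.X₂.ρ g e₀ = e₀ + S.f.hom (a g hg) := by rw [ha]; abel
    rw [h3, h2, map_sub, map_sub, Rep.hom_comm_apply]
    abel

end Groth.Agent.Helper26.Cofl2
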