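import Mathlib
import Groth.Agent.Lib.Helper26.Cofl2

/-!
# Coflasque lattices: `H¹` vanishing implies that extensions of permutation lattices split
(helper26)
-/

set_option autoImplicit false

open scoped MonoidAlgebra
open CategoryTheory

namespace Groth.Agent.Helper26.Cofl3

open Representation groupCohomology Groth.Agent.Helper26.Cofl1 Groth.Agent.Helper26.Cofl2

universe u

variable {k G : Type u} [CommRing k] [Group G]

theorem forward (Λ : Rep.{u} k G)
    (h : ∀ Γ' : Subgroup G, Limits.IsZero (groupCohomology (Rep.res Γ'.subtype Λ) 1))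
    (X : Type u) [MulAction G X] (E : ShortComplex (Rep.{u} k G)) (hE : E.ShortExact)
    (i₁ : E.X₁ ≅ Λ) (i₃ : E.X₃ ≅ Rep.ofMulAction k G X) : Nonempty E.Splitting := by
  let π : IntertwiningMap E.X₂.ρ (ofMulAction k G X) := (E.g ≫ i₃.hom).hom
  have hlift : ∀ x : X, ∃ e : E.X₂, π e = MonoidAlgebra.single x 1 ∧
      ∀ g : G, g • x = x → E.X₂.ρ g e = e := by
    intro x
    obtain ⟨e, he1, he2⟩ := exists_invariant_lift E hE (MulAction.stabilizer G x) Λ i₁
      (h _) (i₃.inv.hom (MonoidAlgebra.single x 1)) (by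
        intro g hg
        rw [← Rep.hom_comm_apply]
        congr 1
        change ofMulAction k G X g (MonoidAlgebra.single x 1) = _
        rw [ofMulAction_single, MulAction.mem_stabilizer_iff.1 hg])
    refine ⟨e, ?_, fun g hg => he2 g (MulAction.mem_stabilizer_iff.2 hg)⟩
    change i₃.hom.hom (E.g.hom e) = _
    rw [he1]
    exact Rep.hom_inv_apply _ _ i₃ _
  obtain ⟨s, hs⟩ := exists_section E.X₂.ρ π hlift
  obtain ⟨s', hs'⟩ := Rep.hom_surjective (A := Rep.ofMulAction k G X) (B := E.X₂) s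
  have h1 : s' ≫ E.g ≫ i₃.hom = 𝟙 (Rep.ofMulAction k G X) := by
    apply Rep.hom_ext
    apply IntertwiningMap.ext
    apply LinearMap.ext
    intro ξ
    change π (s'.hom ξ) = ξ
    rw [hs']
    exact hs ξ
  have h2 : (i₃.hom ≫ s') ≫ E.g = 𝟙 E.X₃ := by
    have : (i₃.hom ≫ s') ≫ E.g = i₃.hom ≫ (s' ≫ E.g ≫ i₃.hom) ≫ i₃.inv := by
      simp only [Category.assoc, Iso.hom_inv_id, Category.comp_id]
    rw [this, h1, Category.id_comp, Iso.hom_inv_id]
  exact ⟨ShortComplex.Splitting.ofExactOfSection E hE.exact (i₃.hom ≫ s') h2 hE.mono_f⟩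

end Groth.Agent.Helper26.Cofl3
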