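import Mathlib
import Groth.Agent.Lib.Helper26.Cofl2

/-!
# The extension of a permutation lattice attached to a 1-cocycle of a subgroup (helper26)
-/

set_option autoImplicit false

open scoped MonoidAlgebra
open CategoryTheory

namespace Groth.Agent.Helper26.Cofl4

open Representation groupCohomology Groth.Agent.Helper26.Cofl1 Groth.Agent.Helper26.Cofl2

universe u

variable {k G : Type u} [CommRing k] [Group G] (Γ' : Subgroup G) (Λ : Rep.{u} k G)
  (c : cocycles₁ (Rep.res Γ'.subtype Λ))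
  (r : G ⧸ Γ' → G) (hr : ∀ q : G ⧸ Γ', (QuotientGroup.mk (r q) : G ⧸ Γ') = q)

include hr in
theorem t_mem (g : G) (x : G ⧸ Γ') : (r (g • x))⁻¹ * g * r x ∈ Γ' := by
  have h1 : (QuotientGroup.mk (r (g • x)) : G ⧸ Γ') = QuotientGroup.mk (g * r x) := by
    rw [hr]
    conv_lhs => rw [← hr x]
    rfl
  have h2 := QuotientGroup.eq.1 h1
  rwa [← mul_assoc] at h2

/-- the element of the subgroup comparing `g · r x` with `r (g x)` -/
def t (g : G) (x : G ⧸ Γ') : Γ' := ⟨(r (g • x))⁻¹ * g * r x, t_mem Γ' r hr g x⟩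

theorem r_mul_t (g : G) (x : G ⧸ Γ') : r (g • x) * (t Γ' r hr g x : G) = g * r x := by
  simp [t, mul_assoc]

theorem t_mul (g h : G) (x : G ⧸ Γ') :
    t Γ' r hr (g * h) x = t Γ' r hr g (h • x) * t Γ' r hr h x := by
  apply Subtype.ext
  simp only [t, Subgroup.coe_mul, mul_smul]
  group

theorem t_one (x : G ⧸ Γ') : t Γ' r hr 1 x = 1 := by
  apply Subtype.ext
  simp [t]

/-- the twisting cochain -/
def D (g : G) (x : G ⧸ Γ') : Λ := Λ.ρ (r (g • x)) (c (t Γ' r hr g x))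

theorem c_mul (a b : Γ') : c (a * b) = Λ.ρ (a : G) (c b) + c a :=
  (mem_cocycles₁_iff (A := Rep.res Γ'.subtype Λ) c).1 c.2 a b

theorem D_one (x : G ⧸ Γ') : D Γ' Λ c r hr 1 x = 0 := by
  simp only [D, t_one]
  have : c (1 : Γ') = 0 := cocycles₁_map_one c
  rw [this, map_zero]

theorem D_mul (g h : G) (x : G ⧸ Γ') :
    D Γ' Λ c r hr (g * h) x = Λ.ρ g (D Γ' Λ c r hr h x) + D Γ' Λ c r hr g (h • x) := by
  simp only [D]
  rw [t_mul, c_mul, map_add, mul_smul]
  congr 1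
  rw [← Module.End.mul_apply, ← map_mul, r_mul_t, map_mul, Module.End.mul_apply]

/-- the linearised twisting cochain -/
noncomputable def DD (g : G) : k[G ⧸ Γ'] →ₗ[k] Λ := liftLin (D Γ' Λ c r hr g)

theorem DD_one : DD Γ' Λ c r hr 1 = 0 := by
  apply linearMap_ext
  intro x
  simp [DD, D_one]

theorem DD_mul (g h : G) : DD Γ' Λ c r hr (g * h) =
    Λ.ρ g ∘ₗ DD Γ' Λ c r hr h + DD Γ' Λ c r hr g ∘ₗ ofMulAction k G (G ⧸ Γ') h := by
  apply linearMap_ext
  intro x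
  simp [DD, D_mul]

/-- the twisted representation on `Λ × k[G/Γ']` -/
noncomputable def twist : Representation k G (Λ × k[G ⧸ Γ']) where
  toFun g := ((Λ.ρ g ∘ₗ LinearMap.fst k Λ k[G ⧸ Γ']) +
      (DD Γ' Λ c r hr g ∘ₗ LinearMap.snd k Λ k[G ⧸ Γ'])).prod
    (ofMulAction k G (G ⧸ Γ') g ∘ₗ LinearMap.snd k Λ k[G ⧸ Γ'])
  map_one' := by
    apply LinearMap.ext
    rintro ⟨a, ξ⟩
    simp [DD_one]
  map_mul' g h := by
    apply LinearMap.ext
    rintro ⟨a, ξ⟩
    simp [DD_mul, add_assoc]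

theorem twist_apply (g : G) (a : Λ) (ξ : k[G ⧸ Γ']) :
    twist Γ' Λ c r hr g (a, ξ) =
      (Λ.ρ g a + DD Γ' Λ c r hr g ξ, ofMulAction k G (G ⧸ Γ') g ξ) := rfl

/-- the extension -/
noncomputable def ext : ShortComplex (Rep.{u} k G) where
  X₁ := Λ
  X₂ := Rep.of (twist Γ' Λ c r hr)
  X₃ := Rep.ofMulAction k G (G ⧸ Γ')
  f := Rep.ofHom (σ := twist Γ' Λ c r hr) (ρ := Λ.ρ) ⟨LinearMap.inl k Λ k[G ⧸ Γ'], fun g => by
    apply LinearMap.ext
    intro a
    simp [twist_apply]⟩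
  g := Rep.ofHom (ρ := twist Γ' Λ c r hr) ⟨LinearMap.snd k Λ k[G ⧸ Γ'], fun g => by
    apply LinearMap.ext
    rintro ⟨a, ξ⟩
    simp [twist_apply]⟩
  zero := by
    apply Rep.hom_ext
    apply IntertwiningMap.ext
    apply LinearMap.ext
    intro a
    rfl

theorem ext_shortExact : (ext Γ' Λ c r hr).ShortExact where
  exact := (forget₂ (Rep.{u} k G) (ModuleCat k)).reflects_exact_of_faithful _ <|
    (ShortComplex.moduleCat_exact_iff _).2 fun x hx => by
      obtain ⟨a, ξ⟩ := x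
      have hξ : ξ = 0 := hx
      subst hξ
      exact ⟨a, rfl⟩
  mono_f := (Rep.mono_iff_injective _).2 fun a b h => congrArg Prod.fst h
  epi_g := (Rep.epi_iff_surjective _).2 fun ξ => ⟨(0, ξ), rfl⟩

end Groth.Agent.Helper26.Cofl4
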