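import Mathlib
import Groth.Agent.Lib.Helper26.Cofl3
import Groth.Agent.Lib.Helper26.Cofl4

/-!
# Coflasque lattices: the equivalence (helper26)
-/

set_option autoImplicit false

open scoped MonoidAlgebra
open CategoryTheory

namespace Groth.Agent.Helper26.Cofl5

open Representation groupCohomology Groth.Agent.Helper26.Cofl1 Groth.Agent.Helper26.Cofl2
  Groth.Agent.Helper26.Cofl4

universe u

variable {k G : Type u} [CommRing k] [Group G]

theorem backward [Finite G] (Λ : Rep.{u} k G)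
    (hsplit : ∀ (X : Type u) [MulAction G X] [Finite X] (E : ShortComplex (Rep.{u} k G)),
      E.ShortExact → Nonempty (E.X₁ ≅ Λ) → Nonempty (E.X₃ ≅ Rep.ofMulAction k G X) →
        Nonempty E.Splitting) (Γ' : Subgroup G) :
    Limits.IsZero (groupCohomology (Rep.res Γ'.subtype Λ) 1) := by
  classical
  rw [isZero_H1_iff]
  intro c
  let x₀ : G ⧸ Γ' := QuotientGroup.mk 1
  let r : G ⧸ Γ' → G := fun q => if q = x₀ then 1 else Quotient.out q
  have hr : ∀ q : G ⧸ Γ', (QuotientGroup.mk (r q) : G ⧸ Γ') = q := by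
    intro q
    by_cases hq : q = x₀
    · simp only [r, if_pos hq]; exact hq.symm
    · simp only [r, if_neg hq]; exact QuotientGroup.out_eq' q
  have hr₀ : r x₀ = 1 := by simp [r]
  obtain ⟨spl⟩ := hsplit (G ⧸ Γ') (ext Γ' Λ c r hr) (ext_shortExact Γ' Λ c r hr)
    ⟨Iso.refl _⟩ ⟨Iso.refl _⟩
  let s : Rep.ofMulAction k G (G ⧸ Γ') ⟶ Rep.of (twist Γ' Λ c r hr) := spl.s
  let v : Λ × k[G ⧸ Γ'] := s.hom (MonoidAlgebra.single x₀ 1)
  have hv2 : v.2 = MonoidAlgebra.single x₀ 1 := by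
    have h1 := spl.s_g
    have h2 := congrArg (fun f : Rep.ofMulAction k G (G ⧸ Γ') ⟶ Rep.ofMulAction k G (G ⧸ Γ') =>
      f.hom (MonoidAlgebra.single x₀ 1)) h1
    exact h2
  have hfix : ∀ h : Γ', ((h : G) • x₀ : G ⧸ Γ') = x₀ := by
    intro h
    change (QuotientGroup.mk ((h : G) * 1) : G ⧸ Γ') = QuotientGroup.mk 1
    rw [QuotientGroup.eq]
    simp
  have hD : ∀ h : Γ', D Γ' Λ c r hr (h : G) x₀ = c h := by
    intro h
    have ht : t Γ' r hr (h : G) x₀ = h := by
      apply Subtype.ext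
      simp only [t]
      rw [hfix h, hr₀]
      simp
    simp only [D]
    rw [ht, hfix h, hr₀, map_one, Module.End.one_apply]
  rw [mem_coboundaries₁_iff]
  refine ⟨-v.1, ?_⟩
  intro h
  have h1 : s.hom (ofMulAction k G (G ⧸ Γ') (h : G) (MonoidAlgebra.single x₀ 1)) =
      twist Γ' Λ c r hr (h : G) v := Rep.hom_comm_apply s (h : G) _
  rw [ofMulAction_single, hfix h] at h1
  have h2 : v.1 = Λ.ρ (h : G) v.1 + DD Γ' Λ c r hr (h : G) v.2 := by
    have := congrArg Prod.fst h1
    rw [show twist Γ' Λ c r hr (h : G) v = twist Γ' Λ c r hr (h : G) (v.1, v.2) from rfl,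
      twist_apply] at this
    exact this
  rw [hv2] at h2
  have h3 : DD Γ' Λ c r hr (h : G) (MonoidAlgebra.single x₀ 1) = c h := by
    simp only [DD, liftLin_single, one_smul]
    exact hD h
  rw [h3] at h2
  change Λ.ρ (h : G) (-v.1) - -v.1 = c h
  rw [map_neg]
  have h4 : c h = v.1 - Λ.ρ (h : G) v.1 := by
    rw [eq_sub_iff_add_eq, add_comm]
    exact h2.symm
  rw [h4]
  abel

/-- The equivalence: `H¹` of all subgroups vanishes iff all extensions of permutation lattices by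
`Λ` split. -/
theorem main [Finite G] (Λ : Rep.{u} k G) :
    (∀ Γ' : Subgroup G, Limits.IsZero (groupCohomology (Rep.res Γ'.subtype Λ) 1)) ↔
      ∀ (X : Type u) [MulAction G X] [Finite X] (E : ShortComplex (Rep.{u} k G)),
        E.ShortExact → Nonempty (E.X₁ ≅ Λ) → Nonempty (E.X₃ ≅ Rep.ofMulAction k G X) →
          Nonempty E.Splitting := by
  constructor
  · intro h X _ _ E hE ⟨i₁⟩ ⟨i₃⟩
    exact Cofl3.forward Λ h X E hE i₁ i₃
  · intro h Γ'
    exact backward Λ h Γ'

end Groth.Agent.Helper26.Cofl5
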