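import Mathlib

/-!
# Conductor power for a finite extension which is an isomorphism away from `f`
-/

universe u

namespace Groth.Agent.Helper26.Cond

theorem exists_pow_mul_mem_range (A' A : Type*) [CommRing A'] [CommRing A] [Algebra A' A] (f : A')
    (hf : algebraMap A' A f ∈ nonZeroDivisors A)
    (hsurj : Function.Surjective (IsLocalization.Away.map (Localization.Away f)
      (Localization.Away (algebraMap A' A f)) (algebraMap A' A) f)) (a : A) :
    ∃ (k : ℕ) (a' : A'), algebraMap A' A a' = (algebraMap A' A f) ^ k * a := by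
  obtain ⟨x, hx⟩ := hsurj (algebraMap A (Localization.Away (algebraMap A' A f)) a)
  obtain ⟨⟨a'', s⟩, hs⟩ := IsLocalization.surj (Submonoid.powers f) x
  obtain ⟨k, hk⟩ := s.2
  have h1 := congrArg (IsLocalization.Away.map (Localization.Away f)
      (Localization.Away (algebraMap A' A f)) (algebraMap A' A) f) hs
  rw [map_mul, hx] at h1
  simp only [IsLocalization.Away.map, IsLocalization.map_eq] at h1
  rw [← map_mul, IsLocalization.eq_iff_exists (Submonoid.powers (algebraMap A' A f))] at h1
  obtain ⟨⟨m, j, hj⟩, hm⟩ := h1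
  have hmnzd : m ∈ nonZeroDivisors A := by
    rw [← hj]
    exact pow_mem hf j
  have h2 : a * algebraMap A' A (s : A') = algebraMap A' A a'' :=
    (mul_cancel_left_mem_nonZeroDivisors hmnzd).1 hm
  refine ⟨k, a'', ?_⟩
  rw [← h2, ← hk, map_pow, mul_comm]

theorem exists_conductor_pow (A' A : Type*) [CommRing A'] [CommRing A] [Algebra A' A]
    [Module.Finite A' A] (f : A')
    (hf : algebraMap A' A f ∈ nonZeroDivisors A)
    (hsurj : Function.Surjective (IsLocalization.Away.map (Localization.Away f)
      (Localization.Away (algebraMap A' A f)) (algebraMap A' A) f)) :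
    ∃ c : ℕ, 0 < c ∧ ∀ a : A, ∃ a' : A', algebraMap A' A a' = (algebraMap A' A f) ^ c * a := by
  obtain ⟨n, s, hs⟩ := Module.Finite.exists_fin (R := A') (M := A)
  choose k a' hk using fun i => exists_pow_mul_mem_range A' A f hf hsurj (s i)
  let c := Finset.univ.sup k + 1
  refine ⟨c, Nat.succ_pos _, ?_⟩
  let S : Submodule A' A :=
    { carrier := {a | ∃ a' : A', algebraMap A' A a' = (algebraMap A' A f) ^ c * a}
      add_mem' := by
        rintro x y ⟨x', hx⟩ ⟨y', hy⟩
        exact ⟨x' + y', by rw [map_add, hx, hy, mul_add]⟩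
      zero_mem' := ⟨0, by simp⟩
      smul_mem' := by
        rintro r x ⟨x', hx⟩
        refine ⟨r * x', ?_⟩
        rw [map_mul, hx, Algebra.smul_def]
        ring }
  have hS : S = ⊤ := by
    rw [eq_top_iff, ← hs, Submodule.span_le]
    rintro _ ⟨i, rfl⟩
    have hki : k i ≤ c := (Finset.le_sup (Finset.mem_univ i)).trans (Nat.le_succ _)
    refine ⟨f ^ (c - k i) * a' i, ?_⟩
    rw [map_mul, hk i, map_pow, ← mul_assoc, ← pow_add, Nat.sub_add_cancel hki]
  intro a
  have : a ∈ S := hS ▸ Submodule.mem_top
  exact this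

end Groth.Agent.Helper26.Cond
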