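import Mathlib
import Groth.Agent.Lib.Helper26.Cond1

/-!
# The ideal `N` and the ring `B` of the conductor square construction
-/

universe u

namespace Groth.Agent.Helper26.Cond

section construction

variable {A' A : Type u} [CommRing A'] [CommRing A] [Algebra A' A]
  (f : A') (c n : ℕ) {B' : Type u} [CommRing B'] (g : B')
  (φ' : (A' ⧸ Ideal.span {f ^ n}) ≃+* (B' ⧸ Ideal.span {g ^ n}))

/-- `a'` lies in `f^c A` -/
def InM (A : Type u) [CommRing A] [Algebra A' A] (f : A') (c : ℕ) (a' : A') : Prop :=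
  ∃ a : A, algebraMap A' A a' = (algebraMap A' A f) ^ c * a

lemma exists_preimage (b' : B') :
    ∃ a'' : A', φ' (Ideal.Quotient.mk _ a'') = Ideal.Quotient.mk _ b' := by
  obtain ⟨y, hy⟩ := φ'.surjective (Ideal.Quotient.mk _ b')
  obtain ⟨a'', rfl⟩ := Ideal.Quotient.mk_surjective y
  exact ⟨a'', hy⟩

lemma exists_image (a' : A') :
    ∃ ν : B', φ' (Ideal.Quotient.mk _ a') = Ideal.Quotient.mk _ ν := by
  obtain ⟨ν, hν⟩ := Ideal.Quotient.mk_surjective (φ' (Ideal.Quotient.mk _ a'))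
  exact ⟨ν, hν.symm⟩

/-- the ideal `N` of `B'` corresponding to `f^c A` -/
def N (A : Type u) [CommRing A] [Algebra A' A] : Ideal B' where
  carrier := {ν | ∃ a' : A', InM A f c a' ∧ φ' (Ideal.Quotient.mk _ a') = Ideal.Quotient.mk _ ν}
  add_mem' := by
    rintro x y ⟨x', ⟨ax, hax⟩, hx⟩ ⟨y', ⟨ay, hay⟩, hy⟩
    refine ⟨x' + y', ⟨ax + ay, by rw [map_add, hax, hay, mul_add]⟩, ?_⟩
    rw [map_add, map_add, map_add, hx, hy]
  zero_mem' := ⟨0, ⟨0, by simp⟩, by simp⟩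
  smul_mem' := by
    rintro b' x ⟨x', ⟨ax, hax⟩, hx⟩
    obtain ⟨a'', ha''⟩ := exists_preimage f n g φ' b'
    refine ⟨a'' * x', ⟨algebraMap A' A a'' * ax, by rw [map_mul, hax]; ring⟩, ?_⟩
    rw [map_mul, map_mul, ha'', hx, smul_eq_mul, map_mul]

lemma mem_N {ν : B'} : ν ∈ N f c n g φ' A ↔
    ∃ a' : A', InM A f c a' ∧ φ' (Ideal.Quotient.mk _ a') = Ideal.Quotient.mk _ ν := Iff.rfl

variable (hφ' : φ' (Ideal.Quotient.mk _ f) = Ideal.Quotient.mk _ g)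

include hφ' in
lemma phi_pow_mul (k : ℕ) (a' : A') :
    φ' (Ideal.Quotient.mk _ (f ^ k * a')) =
      Ideal.Quotient.mk _ (g ^ k) * φ' (Ideal.Quotient.mk _ a') := by
  rw [map_mul, map_mul, map_pow, map_pow, hφ', map_pow]

include hφ' in
lemma pow_mul_mem_N {k : ℕ} (hk : c ≤ k) (β : B') : g ^ k * β ∈ N f c n g φ' A := by
  obtain ⟨a'', ha''⟩ := exists_preimage f n g φ' β
  refine ⟨f ^ k * a'', ⟨algebraMap A' A (f ^ (k - c) * a''), ?_⟩, ?_⟩
  · rw [map_mul, map_mul, map_pow, map_pow, ← mul_assoc, ← pow_add, Nat.add_sub_cancel' hk]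
  · rw [phi_pow_mul f n g φ' hφ', ha'', map_mul]

variable (hinj : Function.Injective (algebraMap A' A))

include hφ' hinj in
/-- the key multiplicativity property -/
lemma key_mul {a₁ a₂ : A} {a'₁ a'₂ a'₃ : A'} {ν₁ ν₂ ν₃ : B'}
    (h1 : algebraMap A' A a'₁ = (algebraMap A' A f) ^ c * a₁)
    (h2 : algebraMap A' A a'₂ = (algebraMap A' A f) ^ c * a₂)
    (h3 : algebraMap A' A a'₃ = (algebraMap A' A f) ^ c * (a₁ * a₂))
    (e1 : φ' (Ideal.Quotient.mk _ a'₁) = Ideal.Quotient.mk _ ν₁)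
    (e2 : φ' (Ideal.Quotient.mk _ a'₂) = Ideal.Quotient.mk _ ν₂)
    (e3 : φ' (Ideal.Quotient.mk _ a'₃) = Ideal.Quotient.mk _ ν₃) :
    ∃ β : B', ν₁ * ν₂ = g ^ c * ν₃ + g ^ n * β := by
  have h12 : a'₁ * a'₂ = f ^ c * a'₃ := by
    apply hinj
    rw [map_mul, map_mul, map_pow, h1, h2, h3]
    ring
  have h : Ideal.Quotient.mk (Ideal.span {g ^ n}) (ν₁ * ν₂) =
      Ideal.Quotient.mk (Ideal.span {g ^ n}) (g ^ c * ν₃) := by
    rw [map_mul, ← e1, ← e2, ← map_mul, ← map_mul, h12, phi_pow_mul f n g φ' hφ', e3, map_mul]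
  rw [Ideal.Quotient.eq, Ideal.mem_span_singleton'] at h
  obtain ⟨β, hβ⟩ := h
  exact ⟨β, by linear_combination -hβ⟩

end construction

end Groth.Agent.Helper26.Cond
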