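import Mathlib
import Groth.Agent.Lib.Helper26.Cond2

/-!
# The ring `B` and the correspondence `Rel`
-/

universe u

namespace Groth.Agent.Helper26.Cond

section construction

variable {A' A : Type u} [CommRing A'] [CommRing A] [Algebra A' A]
  (f : A') (c n : ℕ) {B' : Type u} [CommRing B'] (g : B')
  (φ' : (A' ⧸ Ideal.span {f ^ n}) ≃+* (B' ⧸ Ideal.span {g ^ n}))
  (hφ' : φ' (Ideal.Quotient.mk _ f) = Ideal.Quotient.mk _ g)
  (hinj : Function.Injective (algebraMap A' A))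
  (hc : ∀ a : A, ∃ a' : A', algebraMap A' A a' = (algebraMap A' A f) ^ c * a)
  (hn : 2 * c + 1 ≤ n)

local notation "Lg" => Localization.Away g
local notation "ι" => algebraMap B' (Localization.Away g)

lemma isUnit_gamma : IsUnit (algebraMap B' (Localization.Away g) g) :=
  IsLocalization.Away.algebraMap_isUnit g

include hφ' hinj hc hn in
lemma exists_mul_eq_pow_mul {ν₁ ν₂ : B'} (h1 : ν₁ ∈ N f c n g φ' A) (h2 : ν₂ ∈ N f c n g φ' A) :
    ∃ ν₃ ∈ N f c n g φ' A, ν₁ * ν₂ = g ^ c * ν₃ := by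
  obtain ⟨a'₁, ⟨a₁, ha₁⟩, e1⟩ := h1
  obtain ⟨a'₂, ⟨a₂, ha₂⟩, e2⟩ := h2
  obtain ⟨a'₃, ha₃⟩ := hc (a₁ * a₂)
  obtain ⟨ν₃, e3⟩ := exists_image f n g φ' a'₃
  obtain ⟨β, hβ⟩ := key_mul f c n g φ' hφ' hinj ha₁ ha₂ ha₃ e1 e2 e3
  refine ⟨ν₃ + g ^ (n - c) * β, Ideal.add_mem _ ⟨a'₃, ⟨_, ha₃⟩, e3⟩
    (pow_mul_mem_N f c n g φ' hφ' (by omega) β), ?_⟩
  rw [hβ, mul_add, ← mul_assoc, ← pow_add, Nat.add_sub_cancel' (by omega)]

/-- the ring `B ⊆ B'_g` -/
def Bsub : Subalgebra B' (Localization.Away g) where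
  carrier := {x | ∃ ν ∈ N f c n g φ' A, x * (ι g) ^ c = ι ν}
  mul_mem' := by
    rintro x₁ x₂ ⟨ν₁, h1, e1⟩ ⟨ν₂, h2, e2⟩
    obtain ⟨ν₃, h3, e3⟩ := exists_mul_eq_pow_mul f c n g φ' hφ' hinj hc hn h1 h2
    refine ⟨ν₃, h3, ?_⟩
    apply ((isUnit_gamma g).pow c).mul_right_cancel
    calc x₁ * x₂ * (ι g) ^ c * (ι g) ^ c = (x₁ * (ι g) ^ c) * (x₂ * (ι g) ^ c) := by ring
      _ = ι (ν₁ * ν₂) := by rw [e1, e2, map_mul]
      _ = ι ν₃ * (ι g) ^ c := by rw [e3, map_mul, map_pow, mul_comm]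
  add_mem' := by
    rintro x₁ x₂ ⟨ν₁, h1, e1⟩ ⟨ν₂, h2, e2⟩
    exact ⟨ν₁ + ν₂, Ideal.add_mem _ h1 h2, by rw [add_mul, e1, e2, map_add]⟩
  algebraMap_mem' := by
    intro b'
    refine ⟨g ^ c * b', pow_mul_mem_N f c n g φ' hφ' le_rfl b', ?_⟩
    rw [map_mul, map_pow, mul_comm]

lemma mem_Bsub {x : Localization.Away g} :
    x ∈ Bsub f c n g φ' hφ' hinj hc hn ↔
      ∃ ν ∈ N f c n g φ' A, x * (ι g) ^ c = ι ν := Iff.rfl

/-- the correspondence between `A` and `B` -/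
def Rel (a : A) (x : Localization.Away g) : Prop :=
  ∃ (a' : A') (ν : B'), algebraMap A' A a' = (algebraMap A' A f) ^ c * a ∧
    x * (ι g) ^ c = ι ν ∧ φ' (Ideal.Quotient.mk _ a') = Ideal.Quotient.mk _ ν

lemma Rel.mem {a : A} {x : Localization.Away g} (h : Rel f c n g φ' a x) :
    x ∈ Bsub f c n g φ' hφ' hinj hc hn := by
  obtain ⟨a', ν, h1, h2, h3⟩ := h
  exact ⟨ν, ⟨a', ⟨a, h1⟩, h3⟩, h2⟩

include hc in
lemma exists_rel (a : A) : ∃ x : Localization.Away g, Rel f c n g φ' a x := by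
  obtain ⟨a', ha'⟩ := hc a
  obtain ⟨ν, hν⟩ := exists_image f n g φ' a'
  refine ⟨ι ν * (IsLocalization.Away.invSelf g) ^ c, a', ν, ha', ?_, hν⟩
  rw [mul_assoc, ← mul_pow, mul_comm (IsLocalization.Away.invSelf g),
    IsLocalization.Away.mul_invSelf, one_pow, mul_one]

include hφ' in
/-- elements divisible by `g` in `B` -/
lemma exists_eq_gamma_mul {x : Localization.Away g} {ν' : B'} (hν' : ν' ∈ N f c n g φ' A)
    (hx : x * (ι g) ^ c = ι (g * ν')) :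
    ∃ y ∈ Bsub f c n g φ' hφ' hinj hc hn, x = ι g * y := by
  refine ⟨x * IsLocalization.Away.invSelf g, ⟨ν', hν', ?_⟩, ?_⟩
  · calc x * IsLocalization.Away.invSelf g * (ι g) ^ c
        = (x * (ι g) ^ c) * IsLocalization.Away.invSelf g := by ring
      _ = ι ν' * (ι g * IsLocalization.Away.invSelf g) := by rw [hx, map_mul]; ring
      _ = ι ν' := by rw [IsLocalization.Away.mul_invSelf, mul_one]
  · calc x = x * (ι g * IsLocalization.Away.invSelf g) := by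
          rw [IsLocalization.Away.mul_invSelf, mul_one]
      _ = ι g * (x * IsLocalization.Away.invSelf g) := by ring

end construction

end Groth.Agent.Helper26.Cond
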