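import Mathlib
import Groth.Agent.Lib.Helper26.Cond3

/-!
# Properties of the correspondence `Rel`
-/

universe u

namespace Groth.Agent.Helper26.Cond

section construction

variable {A' A : Type u} [CommRing A'] [CommRing A] [Algebra A' A]
  (f : A') (c n : ℕ) {B' : Type u} [CommRing B'] (g : B')
  (φ' : (A' ⧸ Ideal.span {f ^ n}) ≃+* (B' ⧸ Ideal.span {g ^ n}))
  (hφ' : φ' (Ideal.Quotient.mk _ f) = Ideal.Quotient.mk _ g)
  (hinj : Function.Injective (algebraMap A' A))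
  (hc : ∀ a : A, ∃ a' : A', algebraMap A' A a' = (algebraMap A' A f) ^ c * a)
  (hn : 2 * c + 1 ≤ n) (hc0 : 0 < c)
  (hf : algebraMap A' A f ∈ nonZeroDivisors A) (hg : g ∈ nonZeroDivisors B')

local notation "ι" => algebraMap B' (Localization.Away g)

include hg in
lemma iota_injective : Function.Injective (algebraMap B' (Localization.Away g)) :=
  IsLocalization.injective (Localization.Away g) (Submonoid.powers_le.2 hg)

lemma rel_zero : Rel f c n g φ' (0 : A) 0 :=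
  ⟨0, 0, by simp, by simp, by simp⟩

include hφ' in
lemma rel_one : Rel f c n g φ' (1 : A) 1 := by
  refine ⟨f ^ c, g ^ c, by simp, by simp, ?_⟩
  rw [map_pow, map_pow, hφ', map_pow]

lemma rel_add {a₁ a₂ : A} {x₁ x₂ : Localization.Away g} (h1 : Rel f c n g φ' a₁ x₁)
    (h2 : Rel f c n g φ' a₂ x₂) : Rel f c n g φ' (a₁ + a₂) (x₁ + x₂) := by
  obtain ⟨a'₁, ν₁, p1, q1, r1⟩ := h1
  obtain ⟨a'₂, ν₂, p2, q2, r2⟩ := h2
  refine ⟨a'₁ + a'₂, ν₁ + ν₂, by rw [map_add, p1, p2, mul_add], by rw [add_mul, q1, q2, map_add],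
    ?_⟩
  rw [map_add, map_add, map_add, r1, r2]

include hφ' in
/-- compatibility with `φ'` -/
lemma rel_algebraMap {a' : A'} {b' : B'}
    (h : φ' (Ideal.Quotient.mk _ a') = Ideal.Quotient.mk _ b') :
    Rel f c n g φ' (algebraMap A' A a') (ι b') := by
  refine ⟨f ^ c * a', g ^ c * b', by rw [map_mul, map_pow], by rw [map_mul, map_pow, mul_comm], ?_⟩
  rw [phi_pow_mul f n g φ' hφ', h, map_mul]

include hφ' hinj hn hc0 in
/-- uniqueness modulo `g` -/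
lemma rel_unique {a : A} {x₁ x₂ : Localization.Away g} (h1 : Rel f c n g φ' a x₁)
    (h2 : Rel f c n g φ' a x₂) :
    ∃ y ∈ Bsub f c n g φ' hφ' hinj hc hn, x₁ - x₂ = ι g * y := by
  obtain ⟨a'₁, ν₁, p1, q1, r1⟩ := h1
  obtain ⟨a'₂, ν₂, p2, q2, r2⟩ := h2
  have ha : a'₁ = a'₂ := hinj (p1.trans p2.symm)
  subst ha
  have h : Ideal.Quotient.mk (Ideal.span {g ^ n}) ν₁ = Ideal.Quotient.mk (Ideal.span {g ^ n}) ν₂ :=
    r1.symm.trans r2
  rw [Ideal.Quotient.eq, Ideal.mem_span_singleton'] at h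
  obtain ⟨β, hβ⟩ := h
  refine exists_eq_gamma_mul f c n g φ' hφ' hinj hc hn
    (ν' := g ^ (n - 1) * β) (pow_mul_mem_N f c n g φ' hφ' (by omega) β) ?_
  rw [sub_mul, q1, q2, ← map_sub, ← hβ, ← mul_assoc, ← pow_succ', Nat.sub_add_cancel (by omega),
    mul_comm]

include hφ' hinj hc hn in
/-- multiplicativity modulo `g` -/
lemma rel_mul {a₁ a₂ : A} {x₁ x₂ : Localization.Away g} (h1 : Rel f c n g φ' a₁ x₁)
    (h2 : Rel f c n g φ' a₂ x₂) :
    ∃ x₃, Rel f c n g φ' (a₁ * a₂) x₃ ∧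
      ∃ y ∈ Bsub f c n g φ' hφ' hinj hc hn, x₁ * x₂ - x₃ = ι g * y := by
  obtain ⟨a'₁, ν₁, p1, q1, r1⟩ := h1
  obtain ⟨a'₂, ν₂, p2, q2, r2⟩ := h2
  obtain ⟨a'₃, p3⟩ := hc (a₁ * a₂)
  obtain ⟨ν₃, r3⟩ := exists_image f n g φ' a'₃
  obtain ⟨β, hβ⟩ := key_mul f c n g φ' hφ' hinj p1 p2 p3 r1 r2 r3
  let x₃ : Localization.Away g := ι ν₃ * (IsLocalization.Away.invSelf g) ^ c
  have q3 : x₃ * (ι g) ^ c = ι ν₃ := by
    show ι ν₃ * (IsLocalization.Away.invSelf g) ^ c * (ι g) ^ c = ι ν₃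
    rw [mul_assoc, ← mul_pow, mul_comm (IsLocalization.Away.invSelf g),
      IsLocalization.Away.mul_invSelf, one_pow, mul_one]
  refine ⟨x₃, ⟨a'₃, ν₃, p3, q3, r3⟩, ?_⟩
  refine exists_eq_gamma_mul f c n g φ' hφ' hinj hc hn
    (ν' := g ^ (n - c - 1) * β) (pow_mul_mem_N f c n g φ' hφ' (by omega) β) ?_
  apply ((isUnit_gamma g).pow c).mul_right_cancel
  have e : g * (g ^ (n - c - 1) * β) * g ^ c = g ^ n * β := by
    have : n = (n - c - 1) + 1 + c := by omega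
    conv_rhs => rw [this]
    ring
  calc (x₁ * x₂ - x₃) * (ι g) ^ c * (ι g) ^ c
      = (x₁ * (ι g) ^ c) * (x₂ * (ι g) ^ c) - (x₃ * (ι g) ^ c) * (ι g) ^ c := by ring
    _ = ι (ν₁ * ν₂) - ι ν₃ * (ι g) ^ c := by rw [q1, q2, q3, map_mul]
    _ = ι (g ^ n * β) := by rw [hβ, map_add, map_mul, map_pow]; ring
    _ = ι (g * (g ^ (n - c - 1) * β)) * (ι g) ^ c := by rw [← e, map_mul _ _ (g ^ c), map_pow]

include hinj in
/-- surjectivity -/
lemma exists_rel_of_mem {x : Localization.Away g}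
    (hx : x ∈ Bsub f c n g φ' hφ' hinj hc hn) : ∃ a : A, Rel f c n g φ' a x := by
  obtain ⟨ν, ⟨a', ⟨a, ha⟩, r⟩, q⟩ := hx
  exact ⟨a, a', ν, ha, q, r⟩

include hφ' hinj hf hg hn in
/-- the kernel -/
lemma rel_ker {a : A} {x y : Localization.Away g} (h : Rel f c n g φ' a x)
    (hy : y ∈ Bsub f c n g φ' hφ' hinj hc hn) (hxy : x = ι g * y) :
    ∃ a₂ : A, a = algebraMap A' A f * a₂ := by
  obtain ⟨a', ν, p, q, r⟩ := h
  obtain ⟨ν', ⟨a'', ⟨a₂, p2⟩, r2⟩, q2⟩ := hy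
  have hν : ν = g * ν' := by
    apply iota_injective g hg
    rw [← q, hxy, mul_assoc, q2, map_mul]
  have h1 : Ideal.Quotient.mk (Ideal.span {f ^ n}) a' =
      Ideal.Quotient.mk (Ideal.span {f ^ n}) (f * a'') := by
    apply φ'.injective
    rw [r, hν, map_mul (Ideal.Quotient.mk _) f a'', map_mul φ', hφ', r2, map_mul]
  rw [Ideal.Quotient.eq, Ideal.mem_span_singleton'] at h1
  obtain ⟨α, hα⟩ := h1
  refine ⟨a₂ + (algebraMap A' A f) ^ (n - c - 1) * algebraMap A' A α, ?_⟩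
  apply (mul_cancel_left_mem_nonZeroDivisors (pow_mem hf c)).1
  have e1 : a' = f * a'' + α * f ^ n := by linear_combination -hα
  have hpow : (algebraMap A' A f) ^ n =
      (algebraMap A' A f) ^ c * (algebraMap A' A f * (algebraMap A' A f) ^ (n - c - 1)) := by
    rw [← pow_succ', ← pow_add]
    congr 1
    omega
  rw [← p, e1, map_add, map_mul, map_mul, p2, map_pow, hpow]
  ring

end construction

end Groth.Agent.Helper26.Cond
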