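import Mathlib
import Groth.Agent.Lib.Helper26.Cond4

/-!
# Finiteness of `B`
-/

universe u

namespace Groth.Agent.Helper26.Cond

section construction

variable {A' A : Type u} [CommRing A'] [CommRing A] [Algebra A' A]
  (f : A') (c n : ℕ) {B' : Type u} [CommRing B'] (g : B')
  (φ' : (A' ⧸ Ideal.span {f ^ n}) ≃+* (B' ⧸ Ideal.span {g ^ n}))
  (hφ' : φ' (Ideal.Quotient.mk _ f) = Ideal.Quotient.mk _ g)
  (hinj : Function.Injective (algebraMap A' A))
  (hc : ∀ a : A, ∃ a' : A', algebraMap A' A a' = (algebraMap A' A f) ^ c * a)
  (hn : 2 * c + 1 ≤ n)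

local notation "ι" => algebraMap B' (Localization.Away g)

include hinj in
lemma Bsub_fg [Module.Finite A' A] :
    (Subalgebra.toSubmodule (Bsub f c n g φ' hφ' hinj hc hn)).FG := by
  obtain ⟨k, s, hs⟩ := Module.Finite.exists_fin (R := A') (M := A)
  choose x hx using fun i => exists_rel f c n g φ' hc (s i)
  have hspan : Subalgebra.toSubmodule (Bsub f c n g φ' hφ' hinj hc hn) =
      Submodule.span B' (insert 1 (Set.range x)) := by
    apply le_antisymm
    · intro z hz
      obtain ⟨a, a', ν, p, q, r⟩ := exists_rel_of_mem f c n g φ' hφ' hinj hc hn hz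
      have ha : a ∈ Submodule.span A' (Set.range s) := hs ▸ Submodule.mem_top
      obtain ⟨α, hα⟩ := (Submodule.mem_span_range_iff_exists_fun A').1 ha
      choose β hβ using fun i => exists_image f n g φ' (α i)
      choose a'' ν'' p'' q'' r'' using hx
      have e1 : a' = ∑ i, α i * a'' i := by
        apply hinj
        rw [p, ← hα, map_sum, Finset.mul_sum]
        refine Finset.sum_congr rfl fun i _ => ?_
        rw [map_mul, p'' i, Algebra.smul_def]
        ring
      have e2 : Ideal.Quotient.mk (Ideal.span {g ^ n}) ν =
          Ideal.Quotient.mk (Ideal.span {g ^ n}) (∑ i, β i * ν'' i) := by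
        rw [← r, e1, map_sum, map_sum, map_sum]
        refine Finset.sum_congr rfl fun i _ => ?_
        rw [map_mul, map_mul, hβ i, r'' i, map_mul]
      rw [Ideal.Quotient.eq, Ideal.mem_span_singleton'] at e2
      obtain ⟨β₀, hβ₀⟩ := e2
      have hν : ν = ∑ i, β i * ν'' i + β₀ * g ^ n := by linear_combination -hβ₀
      have hz' : z = ∑ i, β i • x i + (g ^ (n - c) * β₀) • (1 : Localization.Away g) := by
        apply ((isUnit_gamma g).pow c).mul_right_cancel
        rw [q, add_mul, Finset.sum_mul, hν, map_add, map_sum]
        congr 1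
        · refine Finset.sum_congr rfl fun i _ => ?_
          rw [Algebra.smul_def, mul_assoc, q'' i, map_mul]
        · rw [Algebra.smul_def, mul_one, ← map_pow, ← map_mul]
          congr 1
          have : n = (n - c) + c := by omega
          conv_lhs => rw [this]
          ring
      rw [hz']
      refine Submodule.add_mem _ (Submodule.sum_mem _ fun i _ => Submodule.smul_mem _ _
        (Submodule.subset_span (Or.inr ⟨i, rfl⟩))) (Submodule.smul_mem _ _
        (Submodule.subset_span (Or.inl rfl)))
    · rw [Submodule.span_le]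
      rintro z (rfl | ⟨i, rfl⟩)
      · exact (Bsub f c n g φ' hφ' hinj hc hn).one_mem
      · exact (hx i).mem f c n g φ' hφ' hinj hc hn
  rw [hspan]
  exact Submodule.fg_span ((Set.finite_range x).insert 1)

end construction

end Groth.Agent.Helper26.Cond
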