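import Mathlib
import Groth.Agent.Lib.Helper26.Cond5

/-!
# The conductor square
-/

universe u

namespace Groth.Agent.Helper26.Cond

theorem S7152 (A' A : Type u) [CommRing A'] [CommRing A] [Algebra A' A]
    (hinj : Function.Injective (algebraMap A' A)) [Module.Finite A' A] (f : A')
    (hf : algebraMap A' A f ∈ nonZeroDivisors A)
    (hloc : Function.Bijective (IsLocalization.Away.map (Localization.Away f)
      (Localization.Away (algebraMap A' A f)) (algebraMap A' A) f)) :
    ∃ n₀ : ℕ, 0 < n₀ ∧ ∀ n : ℕ, n₀ ≤ n →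
      ∀ (B' : Type u) [CommRing B'] (g : B'), g ∈ nonZeroDivisors B' →
        ∀ φ' : (A' ⧸ Ideal.span {f ^ n}) ≃+* (B' ⧸ Ideal.span {g ^ n}),
        φ' (Ideal.Quotient.mk (Ideal.span {f ^ n}) f) = Ideal.Quotient.mk (Ideal.span {g ^ n}) g →
        ∃ (B : Type u) (_ : CommRing B) (_ : Algebra B' B),
          Function.Injective (algebraMap B' B) ∧ Module.Finite B' B ∧
          ∃ φ : (A ⧸ Ideal.span {algebraMap A' A f}) ≃+* (B ⧸ Ideal.span {algebraMap B' B g}),
            ∀ (a' : A') (b' : B'),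
              φ' (Ideal.Quotient.mk (Ideal.span {f ^ n}) a') = Ideal.Quotient.mk (Ideal.span {g ^ n}) b' →
              φ (Ideal.Quotient.mk (Ideal.span {algebraMap A' A f}) (algebraMap A' A a')) =
                Ideal.Quotient.mk (Ideal.span {algebraMap B' B g}) (algebraMap B' B b') := by
  classical
  obtain ⟨c, hc0, hc⟩ := exists_conductor_pow A' A f hf hloc.2
  refine ⟨2 * c + 1, by omega, ?_⟩
  intro n hn B' _ g hg φ' hφ'
  let Bs : Subalgebra B' (Localization.Away g) := Bsub f c n g φ' hφ' hinj hc hn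
  refine ⟨Bs, inferInstance, inferInstance, ?_, ?_, ?_⟩
  · intro b₁ b₂ h
    have := congrArg Subtype.val h
    exact iota_injective g hg this
  · exact Module.Finite.iff_fg.2 (Bsub_fg f c n g φ' hφ' hinj hc hn)
  · let γB : Bs := algebraMap B' Bs g
    have hγB : (γB : Localization.Away g) = algebraMap B' (Localization.Away g) g := rfl
    -- divisibility by `g` in `B`
    have hdiv : ∀ (z : Bs) (y : Localization.Away g), y ∈ Bs →
        (z : Localization.Away g) = algebraMap B' (Localization.Away g) g * y →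
        z ∈ Ideal.span {γB} := by
      intro z y hy hz
      refine Ideal.mem_span_singleton'.2 ⟨⟨y, hy⟩, Subtype.ext ?_⟩
      rw [Subalgebra.coe_mul, hγB, hz]
      exact mul_comm _ _
    have hdiv' : ∀ z : Bs, z ∈ Ideal.span {γB} → ∃ y ∈ Bs,
        (z : Localization.Away g) = algebraMap B' (Localization.Away g) g * y := by
      intro z hz
      obtain ⟨y, hy⟩ := Ideal.mem_span_singleton'.1 hz
      refine ⟨y, y.2, ?_⟩
      rw [← hy, Subalgebra.coe_mul, hγB]
      exact mul_comm _ _
    -- the map `ψ`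
    have hex : ∀ a : A, ∃ z : Bs, Rel f c n g φ' a (z : Localization.Away g) := by
      intro a
      obtain ⟨x, hx⟩ := exists_rel f c n g φ' hc a
      exact ⟨⟨x, hx.mem f c n g φ' hφ' hinj hc hn⟩, hx⟩
    choose ψ₀ hψ₀ using hex
    let ψf : A → Bs ⧸ Ideal.span {γB} := fun a => Ideal.Quotient.mk _ (ψ₀ a)
    have hψf : ∀ (a : A) (z : Bs), Rel f c n g φ' a (z : Localization.Away g) →
        ψf a = Ideal.Quotient.mk _ z := by
      intro a z hz
      show Ideal.Quotient.mk _ (ψ₀ a) = Ideal.Quotient.mk _ z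
      rw [Ideal.Quotient.eq]
      obtain ⟨y, hy, e⟩ := rel_unique f c n g φ' hφ' hinj hc hn hc0 (hψ₀ a) hz
      exact hdiv _ y hy (by rw [← e]; rfl)
    let ψ : A →+* Bs ⧸ Ideal.span {γB} :=
      { toFun := ψf
        map_one' := by
          rw [hψf 1 1 (rel_one f c n g φ' hφ')]
          rfl
        map_mul' := by
          intro a₁ a₂
          obtain ⟨x₃, h3, y, hy, e⟩ := rel_mul f c n g φ' hφ' hinj hc hn (hψ₀ a₁) (hψ₀ a₂)
          rw [hψf (a₁ * a₂) ⟨x₃, h3.mem f c n g φ' hφ' hinj hc hn⟩ h3]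
          show _ = Ideal.Quotient.mk _ (ψ₀ a₁) * Ideal.Quotient.mk _ (ψ₀ a₂)
          rw [← map_mul, eq_comm, Ideal.Quotient.eq]
          exact hdiv _ y hy (by rw [← e]; rfl)
        map_zero' := by
          rw [hψf 0 0 (rel_zero f c n g φ')]
          rfl
        map_add' := by
          intro a₁ a₂
          rw [hψf (a₁ + a₂) (ψ₀ a₁ + ψ₀ a₂) (rel_add f c n g φ' (hψ₀ a₁) (hψ₀ a₂))]
          rfl }
    have hψ : ∀ (a : A) (z : Bs), Rel f c n g φ' a (z : Localization.Away g) →
        ψ a = Ideal.Quotient.mk _ z := hψf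
    have hsurj : Function.Surjective ψ := by
      intro q
      obtain ⟨z, rfl⟩ := Ideal.Quotient.mk_surjective q
      obtain ⟨a, ha⟩ := exists_rel_of_mem f c n g φ' hφ' hinj hc hn z.2
      exact ⟨a, hψ a z ha⟩
    have hcompat : ∀ (a' : A') (b' : B'),
        φ' (Ideal.Quotient.mk (Ideal.span {f ^ n}) a') = Ideal.Quotient.mk (Ideal.span {g ^ n}) b' →
        ψ (algebraMap A' A a') = Ideal.Quotient.mk _ (algebraMap B' Bs b') := by
      intro a' b' h
      exact hψ _ (algebraMap B' Bs b') (rel_algebraMap f c n g φ' hφ' h)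
    have hker : RingHom.ker ψ = Ideal.span {algebraMap A' A f} := by
      apply le_antisymm
      · intro a ha
        rw [RingHom.mem_ker] at ha
        have h1 : ψ a = Ideal.Quotient.mk _ (ψ₀ a) := rfl
        rw [h1, Ideal.Quotient.eq_zero_iff_mem] at ha
        obtain ⟨y, hy, e⟩ := hdiv' _ ha
        obtain ⟨a₂, ha₂⟩ := rel_ker f c n g φ' hφ' hinj hc hn hf hg (hψ₀ a) hy e
        rw [ha₂]
        exact Ideal.mul_mem_right _ _ (Ideal.subset_span rfl)
      · rw [Ideal.span_le, Set.singleton_subset_iff, SetLike.mem_coe, RingHom.mem_ker,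
          hcompat f g hφ']
        exact Ideal.Quotient.eq_zero_iff_mem.2 (Ideal.subset_span rfl)
    let φ : (A ⧸ Ideal.span {algebraMap A' A f}) ≃+* (Bs ⧸ Ideal.span {γB}) :=
      (Ideal.quotEquivOfEq hker.symm).trans (RingHom.quotientKerEquivOfSurjective hsurj)
    refine ⟨φ, fun a' b' h => ?_⟩
    show RingHom.quotientKerEquivOfSurjective hsurj
      (Ideal.quotEquivOfEq hker.symm (Ideal.Quotient.mk _ (algebraMap A' A a'))) = _
    rw [Ideal.quotEquivOfEq_mk]
    exact (hcompat a' b' h)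

end Groth.Agent.Helper26.Cond
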