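import Mathlib

/-!
# Homogeneous connected Noetherian Jacobson rings: Krull intersection (helper26)
-/

set_option autoImplicit false

namespace Groth.Agent.Helper26.ConnHopf2

universe u

variable {A : Type u} [CommRing A]

/-- comap along a ring automorphism permutes minimal primes -/
theorem comap_mem_minimalPrimes (σ : A ≃+* A) {P : Ideal A} (hP : P ∈ minimalPrimes A) :
    Ideal.comap (σ : A →+* A) P ∈ minimalPrimes A := by
  have h := Ideal.comap_minimalPrimes_eq_of_surjective (f := (σ : A →+* A)) σ.surjective ⊥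
  have h2 : Ideal.comap (σ : A →+* A) ⊥ = ⊥ := by
    rw [← RingHom.ker_eq_comap_bot]
    exact (RingHom.injective_iff_ker_eq_bot _).1 σ.injective
  rw [h2] at h
  change _ ∈ (⊥ : Ideal A).minimalPrimes
  rw [h]
  exact ⟨P, hP, rfl⟩

theorem comap_injective (σ : A ≃+* A) {P Q : Ideal A}
    (h : Ideal.comap (σ : A →+* A) P = Ideal.comap (σ : A →+* A) Q) : P = Q :=
  Ideal.comap_injective_of_surjective (σ : A →+* A) σ.surjective h

theorem minimalPrimes_subsingleton [IsNoetherianRing A] [IsJacobsonRing A]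
    (hconn : ∀ e : A, IsIdempotentElem e → e = 0 ∨ e = 1)
    (htr : ∀ m m' : Ideal A, m.IsMaximal → m'.IsMaximal →
      ∃ σ : A ≃+* A, Ideal.comap (σ : A →+* A) m = m')
    {P Q : Ideal A} (hP : P ∈ minimalPrimes A) (hQ : Q ∈ minimalPrimes A) : P = Q := by
  by_contra hne
  have hfin : (minimalPrimes A).Finite := minimalPrimes.finite_of_isNoetherianRing A
  have hSfin : (minimalPrimes A \ {P}).Finite := hfin.subset Set.sdiff_subset
  have hPprime : P.IsPrime := hP.1.1
  have hQS : Q ∈ minimalPrimes A \ {P} := ⟨hQ, fun h => hne h.symm⟩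
  have hbQ : sInf (minimalPrimes A \ {P}) ≤ Q := sInf_le hQS
  -- a prime containing 𝔟 contains some member of S
  have hprime_le : ∀ m : Ideal A, m.IsPrime → sInf (minimalPrimes A \ {P}) ≤ m →
      ∃ Q' ∈ minimalPrimes A \ {P}, Q' ≤ m := by
    intro m hm hle
    have h1 : hSfin.toFinset.inf id ≤ m := by
      rw [Finset.inf_id_eq_sInf, Set.Finite.coe_toFinset]
      exact hle
    obtain ⟨Q', hQ', hle'⟩ := (Ideal.IsPrime.inf_le' hm).1 h1
    exact ⟨Q', by simpa using hQ', hle'⟩
  have hinf : P ⊓ sInf (minimalPrimes A \ {P}) = nilradical A := by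
    have h1 : sInf (minimalPrimes A) = nilradical A := by
      have := Ideal.sInf_minimalPrimes (I := (⊥ : Ideal A))
      exact this
    rw [← h1]
    apply le_antisymm
    · apply le_sInf
      intro Q' hQ'
      by_cases hQP : Q' = P
      · rw [hQP]; exact inf_le_left
      · exact inf_le_right.trans (sInf_le ⟨hQ', hQP⟩)
    · exact le_inf (sInf_le hP) (sInf_le_sInf Set.sdiff_subset)
  by_cases htop : P ⊔ sInf (minimalPrimes A \ {P}) = ⊤
  · -- idempotent
    obtain ⟨n, hn⟩ := IsNoetherianRing.isNilpotent_nilradical A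
    have hn1 : (nilradical A) ^ (n + 1) = ⊥ := by
      rw [pow_succ, hn]; simp
    have hsup : P ^ (n + 1) ⊔ (sInf (minimalPrimes A \ {P})) ^ (n + 1) = ⊤ :=
      Ideal.pow_sup_pow_eq_top htop
    have hmul : P ^ (n + 1) * (sInf (minimalPrimes A \ {P})) ^ (n + 1) = ⊥ := by
      rw [← mul_pow, eq_bot_iff, ← hn1]
      exact Ideal.pow_right_mono (Ideal.mul_le_inf.trans hinf.le) _
    obtain ⟨i, hi, j, hj, hij⟩ := Submodule.mem_sup.1 ((Ideal.eq_top_iff_one _).1 hsup)
    have hij0 : i * j = 0 := by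
      have : i * j ∈ P ^ (n + 1) * (sInf (minimalPrimes A \ {P})) ^ (n + 1) :=
        Ideal.mul_mem_mul hi hj
      rw [hmul] at this
      exact this
    have hidem : IsIdempotentElem i := by
      change i * i = i
      have : i * i = i * (i + j) - i * j := by ring
      rw [this, hij, hij0]; ring
    rcases hconn i hidem with h0 | h1
    · rw [h0, zero_add] at hij
      have : (1 : A) ∈ Q := hbQ (Ideal.pow_le_self (Nat.succ_ne_zero n) (hij ▸ hj))
      exact hQ.1.1.ne_top ((Ideal.eq_top_iff_one _).2 this)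
    · have : (1 : A) ∈ P := Ideal.pow_le_self (Nat.succ_ne_zero n) (h1 ▸ hi)
      exact hPprime.ne_top ((Ideal.eq_top_iff_one _).2 this)
  · obtain ⟨mx, hmx, hle⟩ := Ideal.exists_le_maximal _ htop
    obtain ⟨Q', hQ', hQ'le⟩ := hprime_le mx hmx.isPrime (le_sup_right.trans hle)
    have hPle : P ≤ mx := le_sup_left.trans hle
    -- a ∈ 𝔟 \ P
    have hnotle : ¬ sInf (minimalPrimes A \ {P}) ≤ P := by
      intro hle'
      obtain ⟨Q'', hQ'', hQ''le⟩ := hprime_le P hPprime hle'
      have : Q'' = P := le_antisymm hQ''le (hP.2 hQ''.1.1 hQ''le)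
      exact hQ''.2 this
    obtain ⟨a, ha, haP⟩ := Set.not_subset.1 hnotle
    have hjac : P.jacobson = P := IsJacobsonRing.out inferInstance (hPprime.isRadical)
    have haj : a ∉ P.jacobson := by rw [hjac]; exact haP
    rw [Ideal.jacobson, Submodule.mem_sInf] at haj
    push Not at haj
    obtain ⟨my, ⟨hPmy, hmy⟩, hamy⟩ := haj
    have honly : ∀ Q'' ∈ minimalPrimes A, Q'' ≤ my → Q'' = P := by
      intro Q'' hQ'' hle''
      by_contra hne''
      have hmem : Q'' ∈ minimalPrimes A \ {P} := ⟨hQ'', hne''⟩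
      have hle3 : sInf (minimalPrimes A \ {P}) ≤ Q'' := sInf_le hmem
      exact hamy (hle'' (hle3 ha))
    obtain ⟨σ, hσ⟩ := htr mx my hmx hmy
    have e1 : Ideal.comap (σ : A →+* A) P = P :=
      honly _ (comap_mem_minimalPrimes σ hP) (hσ ▸ Ideal.comap_mono hPle)
    have e2 : Ideal.comap (σ : A →+* A) Q' = P :=
      honly _ (comap_mem_minimalPrimes σ hQ'.1) (hσ ▸ Ideal.comap_mono hQ'le)
    exact hQ'.2 (comap_injective σ (e2.trans e1.symm))

theorem nilradical_isPrime [IsNoetherianRing A] [IsJacobsonRing A] [Nontrivial A]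
    (hconn : ∀ e : A, IsIdempotentElem e → e = 0 ∨ e = 1)
    (htr : ∀ m m' : Ideal A, m.IsMaximal → m'.IsMaximal →
      ∃ σ : A ≃+* A, Ideal.comap (σ : A →+* A) m = m') : (nilradical A).IsPrime := by
  obtain ⟨⟨P, hP⟩⟩ := Ideal.nonempty_minimalPrimes (I := (⊥ : Ideal A)) bot_ne_top
  have hP' : P ∈ minimalPrimes A := hP
  have h1 : sInf (minimalPrimes A) = nilradical A := Ideal.sInf_minimalPrimes (I := (⊥ : Ideal A))
  have : nilradical A = P := by
    rw [← h1]
    apply le_antisymm (sInf_le hP')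
    apply le_sInf
    intro Q hQ
    rw [minimalPrimes_subsingleton hconn htr hP' hQ]
  rw [this]
  exact hP.1.1

theorem eq_zero_of_mul_eq_zero [IsNoetherianRing A] [IsJacobsonRing A]
    (hN : (nilradical A).IsPrime)
    (htr : ∀ m m' : Ideal A, m.IsMaximal → m'.IsMaximal →
      ∃ σ : A ≃+* A, Ideal.comap (σ : A →+* A) m = m')
    {u x : A} (hu : u ∉ nilradical A) (hux : u * x = 0) : x = 0 := by
  let J : Ideal A :=
    { carrier := {x | ∃ u, u ∉ nilradical A ∧ u * x = 0}
      add_mem' := by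
        rintro x y ⟨u, hu, hux⟩ ⟨v, hv, hvy⟩
        refine ⟨u * v, fun h => (hN.mem_or_mem h).elim hu hv, ?_⟩
        have : u * v * (x + y) = v * (u * x) + u * (v * y) := by ring
        rw [this, hux, hvy]; simp
      zero_mem' := ⟨1, fun h => hN.ne_top ((Ideal.eq_top_iff_one _).2 h), by simp⟩
      smul_mem' := by
        rintro c x ⟨u, hu, hux⟩
        exact ⟨u, hu, by rw [smul_eq_mul, mul_left_comm, hux, mul_zero]⟩ }
  have hJ : ∀ x, x ∈ J ↔ ∃ u, u ∉ nilradical A ∧ u * x = 0 := fun x => Iff.rfl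
  have hxJ : x ∈ J := ⟨u, hu, hux⟩
  -- a single killer
  have hfin : ∀ s : Finset A, (∀ x ∈ s, x ∈ J) → ∃ v, v ∉ nilradical A ∧ ∀ x ∈ s, v * x = 0 := by
    intro s
    classical
    induction s using Finset.induction_on with
    | empty =>
      intro _
      exact ⟨1, fun h => hN.ne_top ((Ideal.eq_top_iff_one _).2 h), by simp⟩
    | insert a s ha ih =>
      intro h
      obtain ⟨v, hv, hvs⟩ := ih (fun x hx => h x (Finset.mem_insert_of_mem hx))
      obtain ⟨w, hw, hwa⟩ := (hJ a).1 (h a (Finset.mem_insert_self a s))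
      refine ⟨w * v, fun h => (hN.mem_or_mem h).elim hw hv, ?_⟩
      intro x hx
      rcases Finset.mem_insert.1 hx with rfl | hx
      · rw [mul_right_comm, hwa, zero_mul]
      · rw [mul_assoc, hvs x hx, mul_zero]
  obtain ⟨s, hs⟩ := (IsNoetherian.noetherian J : J.FG)
  obtain ⟨v, hv, hvs⟩ := hfin s (fun x hx => hs ▸ Submodule.subset_span hx)
  have hvJ : ∀ x ∈ J, v * x = 0 := by
    intro x hx
    rw [← hs] at hx
    induction hx using Submodule.span_induction with
    | mem x hx => exact hvs x hx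
    | zero => simp
    | add x y _ _ hx hy => rw [mul_add, hx, hy, add_zero]
    | smul c x _ hx => rw [smul_eq_mul, mul_left_comm, hx, mul_zero]
  -- the annihilator
  have hvann : v ∈ Submodule.annihilator J := by
    rw [Submodule.mem_annihilator]
    intro x hx
    exact hvJ x hx
  have hinv : ∀ (σ : A ≃+* A) (a : A), a ∈ Submodule.annihilator J →
      σ a ∈ Submodule.annihilator J := by
    intro σ a ha
    rw [Submodule.mem_annihilator] at ha ⊢
    intro y hy
    obtain ⟨w, hw, hwy⟩ := (hJ y).1 hy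
    have hy' : σ.symm y ∈ J := by
      refine ⟨σ.symm w, ?_, by rw [← map_mul, hwy, map_zero]⟩
      intro h
      apply hw
      obtain ⟨n, hn⟩ := h
      refine ⟨n, ?_⟩
      have := congrArg σ hn
      simpa using this
    have h2 := ha _ hy'
    have := congrArg σ h2
    simpa using this
  by_contra hx0
  have hne : Submodule.annihilator J ≠ ⊤ := by
    intro h
    have h1 : (1 : A) ∈ Submodule.annihilator J := h ▸ Submodule.mem_top
    rw [Submodule.mem_annihilator] at h1
    exact hx0 (by simpa using h1 x hxJ)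
  obtain ⟨m, hm, hle⟩ := Ideal.exists_le_maximal _ hne
  have hjac : Submodule.annihilator J ≤ Ideal.jacobson (⊥ : Ideal A) := by
    intro a ha
    rw [Ideal.jacobson, Submodule.mem_sInf]
    rintro m' ⟨-, hm'⟩
    obtain ⟨σ, hσ⟩ := htr m m' hm hm'
    rw [← hσ]
    exact hle (hinv σ a ha)
  have hrad : Ideal.jacobson (⊥ : Ideal A) = nilradical A := by
    rw [← Ideal.radical_eq_jacobson]
    rfl
  exact hv (hrad ▸ hjac hvann)

theorem iInf_pow_eq_bot [IsNoetherianRing A] [IsJacobsonRing A] [Nontrivial A]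
    (hconn : ∀ e : A, IsIdempotentElem e → e = 0 ∨ e = 1)
    (htr : ∀ m m' : Ideal A, m.IsMaximal → m'.IsMaximal →
      ∃ σ : A ≃+* A, Ideal.comap (σ : A →+* A) m = m')
    (m : Ideal A) (hm : m ≠ ⊤) : (⨅ n : ℕ, m ^ n) = ⊥ := by
  have hN := nilradical_isPrime hconn htr
  rw [eq_bot_iff]
  intro x hx
  have hx' : x ∈ (⨅ i : ℕ, m ^ i • ⊤ : Submodule A A) := by
    simpa using hx
  obtain ⟨r, hr⟩ := (m.mem_iInf_smul_pow_eq_bot_iff x).1 hx'
  have h1 : (1 - (r : A)) * x = 0 := by
    rw [sub_mul, one_mul, ← smul_eq_mul (r : A), hr, sub_self]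
  have h2 : (1 - (r : A)) ∉ nilradical A := by
    intro h
    obtain ⟨m', hm', hle⟩ := Ideal.exists_le_maximal m hm
    have h3 : (1 - (r : A)) ∈ m' := nilradical_le_prime m' h
    have h4 : (1 : A) ∈ m' := by
      have := m'.add_mem h3 (hle r.2)
      simpa using this
    exact hm'.ne_top ((Ideal.eq_top_iff_one _).2 h4)
  exact (Submodule.mem_bot A).2 (eq_zero_of_mul_eq_zero hN htr h2 h1)

end Groth.Agent.Helper26.ConnHopf2
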