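import Mathlib

/-!
# Subspaces of monomial spans determined by leading monomials (helper26)
-/

set_option autoImplicit false

namespace Groth.Agent.Helper26.CoxMono1

open MvPolynomial

universe u

variable {k : Type u} [Field k] {σ : Type*} (mo : MonomialOrder σ)

/-- span of the monomials with exponent satisfying `P` -/
noncomputable def monoSpan (P : (σ →₀ ℕ) → Prop) : Submodule k (MvPolynomial σ k) :=
  Submodule.span k {f | ∃ e : σ →₀ ℕ, P e ∧ f = monomial e 1}

theorem support_subset_of_mem {P : (σ →₀ ℕ) → Prop} {f : MvPolynomial σ k}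
    (hf : f ∈ monoSpan (k := k) P) : ∀ e ∈ f.support, P e := by
  classical
  induction hf using Submodule.span_induction with
  | mem x hx =>
    obtain ⟨e, he, rfl⟩ := hx
    intro e' he'
    rw [support_monomial, if_neg one_ne_zero, Finset.mem_singleton] at he'
    rw [he']; exact he
  | zero => simp
  | add x y _ _ hx hy =>
    intro e he
    rcases Finset.mem_union.1 (support_add he) with h | h
    · exact hx e h
    · exact hy e h
  | smul c x _ hx =>
    intro e he
    exact hx e (support_smul he)

theorem monomial_mem {P : (σ →₀ ℕ) → Prop} {e : σ →₀ ℕ} (he : P e) :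
    (monomial e (1 : k)) ∈ monoSpan (k := k) P :=
  Submodule.subset_span ⟨e, he, rfl⟩

theorem eq_of_leading {P : (σ →₀ ℕ) → Prop} (V : Submodule k (MvPolynomial σ k))
    (hV : V ≤ monoSpan (k := k) P)
    (hlead : ∀ e, P e → ∃ v ∈ V, v ≠ 0 ∧ mo.degree v = e) : V = monoSpan (k := k) P := by
  refine le_antisymm hV ?_
  have key : ∀ (s : mo.syn) (f : MvPolynomial σ k), mo.toSyn (mo.degree f) = s →
      f ∈ monoSpan (k := k) P → f ∈ V := by
    intro s
    induction s using WellFoundedLT.induction with
    | ind s ih =>
      intro f hs hf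
      by_cases hf0 : f = 0
      · rw [hf0]; exact V.zero_mem
      have hP : P (mo.degree f) := support_subset_of_mem hf _ (mo.degree_mem_support hf0)
      obtain ⟨v, hvV, hv0, hdeg⟩ := hlead _ hP
      have hlcv : mo.leadingCoeff v ≠ 0 := mo.leadingCoeff_ne_zero_iff.2 hv0
      set r : k := mo.leadingCoeff f / mo.leadingCoeff v with hr
      set g : MvPolynomial σ k := f - r • v with hg
      have hgS : g ∈ monoSpan (k := k) P := Submodule.sub_mem _ hf (Submodule.smul_mem _ _ (hV hvV))
      have hfg : f = g + r • v := by rw [hg]; ring
      rw [hfg]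
      refine V.add_mem ?_ (V.smul_mem _ hvV)
      by_cases hg0 : g = 0
      · rw [hg0]; exact V.zero_mem
      have hle : mo.toSyn (mo.degree g) ≤ mo.toSyn (mo.degree f) := by
        refine le_trans mo.degree_sub_le ?_
        rw [sup_le_iff]
        refine ⟨le_refl _, ?_⟩
        refine le_trans mo.degree_smul_le ?_
        rw [hdeg]
      have hcoeff : g.coeff (mo.degree f) = 0 := by
        rw [hg, coeff_sub, coeff_smul, smul_eq_mul]
        have h1 : v.coeff (mo.degree f) = mo.leadingCoeff v := by
          rw [← hdeg]; rfl
        have h2 : f.coeff (mo.degree f) = mo.leadingCoeff f := rfl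
        rw [h1, h2, hr, div_mul_cancel₀ _ hlcv, sub_self]
      have hne : mo.degree g ≠ mo.degree f := by
        intro h
        have := mo.degree_mem_support hg0
        rw [h, mem_support_iff] at this
        exact this hcoeff
      have hlt : mo.toSyn (mo.degree g) < s := by
        rw [← hs]
        exact lt_of_le_of_ne hle (fun h => hne (mo.toSyn.injective h))
      exact ih _ hlt g rfl hgS
  intro f hf
  exact key _ f rfl hf

end Groth.Agent.Helper26.CoxMono1
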