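import Mathlib
import Groth.Agent.Lib.Helper26.CoxMono1

/-!
# c-generating subspaces of the Cox ring of F₁ via leading monomials (helper26)
-/

set_option autoImplicit false

namespace Groth.Agent.Helper26.CoxMono2

open MvPolynomial Groth.Agent.Helper26.CoxMono1

universe u

variable {k : Type u} [Field k]

theorem main (mo : MonomialOrder (Fin 4)) (a b c : ℕ) (W : Submodule k (MvPolynomial (Fin 4) k))
    (hW : W ≤ monoSpan (k := k) (fun e : Fin 4 →₀ ℕ => e 2 + e 3 = a ∧ e 0 + e 1 = b + e 2))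
    (h₁ : ∀ i j : ℕ, i ≤ a → j * (c + 1) < b + i → ∃ w ∈ W, w ≠ 0 ∧
      mo.degree w = Finsupp.single 0 (b + i - j * (c + 1)) + Finsupp.single 1 (j * (c + 1)) +
        Finsupp.single 2 i + Finsupp.single 3 (a - i))
    (h₂ : ∀ i : ℕ, i ≤ a → ∃ w ∈ W, w ≠ 0 ∧
      mo.degree w = Finsupp.single 1 (b + i) + Finsupp.single 2 i + Finsupp.single 3 (a - i)) :
    W * monoSpan (k := k) (fun e : Fin 4 →₀ ℕ => e 2 + e 3 = 0 ∧ e 0 + e 1 = c + e 2) =
      monoSpan (k := k) (fun e : Fin 4 →₀ ℕ => e 2 + e 3 = a ∧ e 0 + e 1 = (b + c) + e 2) := by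
  classical
  apply eq_of_leading mo
  · refine le_trans (mul_le_mul' hW le_rfl) ?_
    rw [monoSpan, monoSpan, Submodule.span_mul_span, Submodule.span_le]
    rintro _ ⟨x, ⟨e, he, rfl⟩, y, ⟨e', he', rfl⟩, rfl⟩
    change (monomial e (1 : k)) * (monomial e' 1) ∈ _
    rw [monomial_mul, one_mul]
    refine monomial_mem ?_
    simp only [Finsupp.coe_add, Pi.add_apply]
    omega
  · intro e he
    obtain ⟨he1, he2⟩ := he
    have hi : e 2 ≤ a := by omega
    by_cases ht : b + e 2 ≤ e 1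
    · obtain ⟨w, hwW, hw0, hwdeg⟩ := h₂ (e 2) hi
      have hmon0 : (monomial (Finsupp.single (0 : Fin 4) (e 0) + Finsupp.single 1 (e 1 - (b + e 2))) (1 : k))
          ≠ 0 := by
        rw [Ne, monomial_eq_zero]; exact one_ne_zero
      refine ⟨w * monomial (Finsupp.single (0 : Fin 4) (e 0) + Finsupp.single 1 (e 1 - (b + e 2))) (1 : k),
        Submodule.mul_mem_mul hwW (monomial_mem ?_), mul_ne_zero hw0 hmon0, ?_⟩
      · simp
        omega
      · rw [mo.degree_mul hw0 hmon0, hwdeg, mo.degree_monomial, if_neg one_ne_zero]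
        ext x
        fin_cases x <;> simp <;> omega
    · push Not at ht
      have hc1 : 0 < c + 1 := Nat.succ_pos c
      have hj : e 1 / (c + 1) * (c + 1) < b + e 2 :=
        lt_of_le_of_lt (Nat.div_mul_le_self _ _) ht
      obtain ⟨w, hwW, hw0, hwdeg⟩ := h₁ (e 2) (e 1 / (c + 1)) hi hj
      have hmod : e 1 - e 1 / (c + 1) * (c + 1) ≤ c := by
        have h1 := Nat.mod_add_div (e 1) (c + 1)
        have h2 := Nat.mod_lt (e 1) hc1
        rw [mul_comm] at h1
        omega
      have hle1 : e 1 / (c + 1) * (c + 1) ≤ e 1 := Nat.div_mul_le_self _ _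
      have hmon0 : (monomial (Finsupp.single (0 : Fin 4) (e 0 - (b + e 2 - e 1 / (c + 1) * (c + 1))) +
          Finsupp.single 1 (e 1 - e 1 / (c + 1) * (c + 1))) (1 : k)) ≠ 0 := by
        rw [Ne, monomial_eq_zero]; exact one_ne_zero
      refine ⟨w * monomial (Finsupp.single (0 : Fin 4) (e 0 - (b + e 2 - e 1 / (c + 1) * (c + 1))) +
          Finsupp.single 1 (e 1 - e 1 / (c + 1) * (c + 1))) (1 : k),
        Submodule.mul_mem_mul hwW (monomial_mem ?_), mul_ne_zero hw0 hmon0, ?_⟩
      · simp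
        omega
      · rw [mo.degree_mul hw0 hmon0, hwdeg, mo.degree_monomial, if_neg one_ne_zero]
        ext x
        fin_cases x <;> simp <;> omega

end Groth.Agent.Helper26.CoxMono2
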