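import Mathlib
import Groth.Prelude.Def_CycDet
import Groth.Agent.Lib.Helper3.CycDetRank

set_option autoImplicit false
universe u v
open CycDet IsLocalRing
open Groth.Agent.Helper3.CycDetRank

namespace Groth.Agent.Lib.Helper26.CycNZ1

variable {R : Type u} [CommRing R] [IsLocalRing R]

/-- A functional on tuples compatible with the admissible relations and nonzero on generating
admissible tuples. -/
structure Good (M : Type v) [AddCommGroup M] [Module R M] (n : ℕ)
    (Ψ : (Fin n → M) → ResidueField R) : Prop where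
  relA : ∀ e : Fin n → M, IsAdmissible R M e → ∀ a : Fin n, e a ∈ spanBefore R M e a → Ψ e = 0
  relB : ∀ e e' : Fin n → M, IsAdmissible R M e → IsAdmissible R M e' →
    ∀ (a : Fin n) (c : Rˣ), (∀ j, j ≠ a → e j = e' j) →
    e a - (c : R) • e' a ∈ spanBefore R M e a → Ψ e = residue R (c : R) * Ψ e'
  relC : ∀ (e : Fin n → M) (a b : Fin n), IsAdmissible R M e →
    IsAdmissible R M (e ∘ Equiv.swap a b) → (b : ℕ) + 1 = (a : ℕ) →
    (∀ r ∈ maximalIdeal R, r • e a ∈ spanBefore R M e b) →
    Ψ e + Ψ (e ∘ Equiv.swap a b) = 0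
  nonzero : ∀ e : Fin n → M, IsAdmissible R M e → Submodule.span R (Set.range e) = ⊤ → Ψ e ≠ 0

lemma sa_val {n : ℕ} (i : Fin (n+1)) (j : Fin n) :
    ((i.succAbove j : Fin (n+1)) : ℕ) = if (j:ℕ) < i then (j:ℕ) else j + 1 := by
  unfold Fin.succAbove
  by_cases h : (j:ℕ) < i
  · have : j.castSucc < i := by rw [Fin.lt_def]; simpa using h
    rw [if_pos this, if_pos h]; simp
  · have : ¬ j.castSucc < i := by rw [Fin.lt_def]; simpa using h
    rw [if_neg this, if_neg h]; simp

lemma spanBefore_le_range {M : Type v} [AddCommGroup M] [Module R M] {l : ℕ} (e : Fin l → M)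
    (k : ℕ) : spanBefore R M e k ≤ Submodule.span R (Set.range e) :=
  Submodule.span_mono (Set.image_subset_range _ _)

section Step

variable {M : Type v} [AddCommGroup M] [Module R M] {n : ℕ}

/-- `i` is the first position at which `s` enters the span of `e`, with coefficient `α`. -/
def IsPivot (s : M) (e : Fin (n+1) → M) (i : Fin (n+1)) (α : R) : Prop :=
  s ∉ spanBefore R M e i ∧ s - α • e i ∈ spanBefore R M e i

variable {s : M} {e : Fin (n+1) → M} {i : Fin (n+1)} {α : R}

lemma IsPivot.mem_succ (hp : IsPivot s e i α) : s ∈ spanBefore R M e ((i:ℕ)+1) := by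
  have h1 : s = (s - α • e i) + α • e i := by abel
  rw [h1]
  exact Submodule.add_mem _ (spanBefore_mono e (Nat.le_succ _) hp.2)
    (Submodule.smul_mem _ _ (mem_spanBefore_self e i (Nat.lt_succ_self _)))

lemma IsPivot.index_unique {j : Fin (n+1)} {β : R} (hp : IsPivot s e i α)
    (hq : IsPivot s e j β) : i = j := by
  rcases lt_trichotomy (i:ℕ) (j:ℕ) with h | h | h
  · exact absurd (spanBefore_mono e (Nat.succ_le_of_lt h) hp.mem_succ) hq.1
  · exact Fin.ext h
  · exact absurd (spanBefore_mono e (Nat.succ_le_of_lt h) hq.mem_succ) hp.1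

lemma IsPivot.not_mem_entry (hp : IsPivot s e i α) : e i ∉ spanBefore R M e i := by
  intro h
  apply hp.1
  have h1 : s = (s - α • e i) + α • e i := by abel
  rw [h1]
  exact Submodule.add_mem _ hp.2 (Submodule.smul_mem _ _ h)

lemma IsPivot.isUnit (he : IsAdmissible R M e) (hp : IsPivot s e i α) : IsUnit α := by
  by_contra hα
  have hm : α ∈ maximalIdeal R := (IsLocalRing.mem_maximalIdeal α).mpr hα
  apply hp.1
  have h1 : s = (s - α • e i) + α • e i := by abel
  rw [h1]
  exact Submodule.add_mem _ hp.2 (he i α hm)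

lemma IsPivot.res_unique {β : R} (hp : IsPivot s e i α)
    (hq : IsPivot s e i β) : residue R α = residue R β := by
  rw [← sub_eq_zero, ← map_sub, IsLocalRing.residue_eq_zero_iff]
  by_contra hm
  have hu : IsUnit (α - β) := by
    by_contra h; exact hm ((IsLocalRing.mem_maximalIdeal _).mpr h)
  obtain ⟨u, hu⟩ := hu
  have h1 : (α - β) • e i ∈ spanBefore R M e i := by
    have : (α - β) • e i = (s - β • e i) - (s - α • e i) := by rw [sub_smul]; abel
    rw [this]; exact Submodule.sub_mem _ hq.2 hp.2
  have h2 : e i ∈ spanBefore R M e i := by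
    have : e i = ((u⁻¹ : Rˣ) : R) • ((α - β) • e i) := by
      rw [smul_smul, ← hu, Units.inv_mul, one_smul]
    rw [this]; exact Submodule.smul_mem _ _ h1
  exact hp.not_mem_entry h2

lemma exists_pivot (hs0 : s ≠ 0) (hs : s ∈ Submodule.span R (Set.range e)) :
    ∃ (i : Fin (n+1)) (α : R), IsPivot s e i α := by
  classical
  have hex : ∃ k : ℕ, s ∈ spanBefore R M e k :=
    ⟨n+1, by rw [spanBefore_top e le_rfl]; exact hs⟩
  have hfind := Nat.find_spec hex
  have hmin := fun m => Nat.find_min (H := hex) (m := m)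
  have hle : Nat.find hex ≤ n + 1 :=
    Nat.find_min' hex (by rw [spanBefore_top e le_rfl]; exact hs)
  have hpos : 0 < Nat.find hex := by
    rcases Nat.eq_zero_or_pos (Nat.find hex) with h | h
    · exfalso; rw [h, spanBefore_zero] at hfind; exact hs0 ((Submodule.mem_bot R).mp hfind)
    · exact h
  let i : Fin (n+1) := ⟨Nat.find hex - 1, by omega⟩
  have hival : (i:ℕ) + 1 = Nat.find hex := by simp [i]; omega
  have h1 : s ∉ spanBefore R M e i := hmin i (by omega)
  have h2 : s ∈ spanBefore R M e i ⊔ Submodule.span R {e i} := by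
    rw [← spanBefore_succ, hival]; exact hfind
  obtain ⟨y, hy, z, hz, hyz⟩ := Submodule.mem_sup.mp h2
  obtain ⟨a, rfl⟩ := Submodule.mem_span_singleton.mp hz
  refine ⟨i, a, h1, ?_⟩
  have : s - a • e i = y := by rw [← hyz]; abel
  rw [this]; exact hy

lemma not_exists_pivot (hs : s ∉ Submodule.span R (Set.range e)) :
    ¬ ∃ (i : Fin (n+1)) (α : R), IsPivot s e i α := by
  rintro ⟨i, α, hp⟩
  exact hs (spanBefore_le_range e _ hp.mem_succ)

lemma exists_pivot_iff (hs0 : s ≠ 0) :
    (∃ (i : Fin (n+1)) (α : R), IsPivot s e i α) ↔ s ∈ Submodule.span R (Set.range e) :=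
  ⟨fun h => by by_contra h'; exact not_exists_pivot h' h, exists_pivot hs0⟩

/-- The quotient by the line spanned by `s`. -/
abbrev Q (R : Type u) [CommRing R] {M : Type v} [AddCommGroup M] [Module R M] (s : M) : Type v :=
  M ⧸ Submodule.span R ({s} : Set M)

variable (R) in
/-- Delete the `i`-th entry and pass to the quotient. -/
def del (s : M) (e : Fin (n+1) → M) (i : Fin (n+1)) : Fin n → Q R s :=
  fun j => Submodule.Quotient.mk (e (i.succAbove j))

lemma mk_s : (Submodule.Quotient.mk s : Q R s) = 0 :=
  (Submodule.Quotient.mk_eq_zero _).2 (Submodule.mem_span_singleton_self s)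

variable (s e i) in
lemma mk_mem_of_lt (j : Fin (n+1)) (k : ℕ) (hji : (j:ℕ) < i) (hjk : (j:ℕ) < k) :
    (Submodule.Quotient.mk (e j) : Q R s) ∈ spanBefore R (Q R s) (del R s e i) k := by
  have hjn : (j:ℕ) < n := by have := i.2; omega
  have h1 : i.succAbove ⟨j, hjn⟩ = j := by
    apply Fin.ext; rw [sa_val]; simp [hji]
  have : del R s e i ⟨j, hjn⟩ = Submodule.Quotient.mk (e j) := by
    unfold del; rw [h1]
  rw [← this]
  exact mem_spanBefore_self _ _ hjk

variable (s e i) in
lemma mk_mem_of_gt (j : Fin (n+1)) (k : ℕ) (hij : (i:ℕ) < j) (hjk : (j:ℕ) ≤ k) :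
    (Submodule.Quotient.mk (e j) : Q R s) ∈ spanBefore R (Q R s) (del R s e i) k := by
  have hjn : (j:ℕ) - 1 < n := by have := j.2; omega
  have h1 : i.succAbove ⟨(j:ℕ) - 1, hjn⟩ = j := by
    apply Fin.ext; rw [sa_val]
    have : ¬ ((j:ℕ) - 1 < i) := by omega
    simp only [this, if_false]; omega
  have : del R s e i ⟨(j:ℕ) - 1, hjn⟩ = Submodule.Quotient.mk (e j) := by
    unfold del; rw [h1]
  rw [← this]
  exact mem_spanBefore_self _ _ (by simp; omega)

lemma mk_mem_pivot (hp : IsPivot s e i α) (hα : IsUnit α) (k : ℕ) (hik : (i:ℕ) ≤ k) :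
    (Submodule.Quotient.mk (e i) : Q R s) ∈ spanBefore R (Q R s) (del R s e i) k := by
  obtain ⟨u, rfl⟩ := hα
  have hle : spanBefore R M e i ≤
      (spanBefore R (Q R s) (del R s e i) k).comap (Submodule.mkQ (Submodule.span R {s})) := by
    rw [spanBefore_le_iff]
    intro j hj
    rw [Submodule.mem_comap, Submodule.mkQ_apply]
    exact mk_mem_of_lt s e i j k hj (by omega)
  have h1 := hle hp.2
  rw [Submodule.mem_comap, Submodule.mkQ_apply, Submodule.Quotient.mk_sub, mk_s, zero_sub,
    Submodule.Quotient.mk_smul] at h1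
  have h2 : (Submodule.Quotient.mk (e i) : Q R s) =
      -(((u⁻¹ : Rˣ) : R) • (-((u : R) • (Submodule.Quotient.mk (e i) : Q R s)))) := by
    rw [smul_neg, neg_neg, smul_smul, Units.inv_mul, one_smul]
  rw [h2]
  exact Submodule.neg_mem _ (Submodule.smul_mem _ _ h1)

lemma map_le_del (hp : IsPivot s e i α) (hα : IsUnit α) (m k : ℕ)
    (H : ∀ j : Fin (n+1), (j:ℕ) < m → ((j:ℕ) < i → (j:ℕ) < k) ∧ ((i:ℕ) ≤ j → (j:ℕ) ≤ k)) :
    spanBefore R M e m ≤
      (spanBefore R (Q R s) (del R s e i) k).comap (Submodule.mkQ (Submodule.span R {s})) := by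
  rw [spanBefore_le_iff]
  intro j hj
  obtain ⟨H1, H2⟩ := H j hj
  rw [Submodule.mem_comap, Submodule.mkQ_apply]
  rcases lt_trichotomy (j:ℕ) (i:ℕ) with h | h | h
  · exact mk_mem_of_lt s e i j k h (H1 h)
  · have : j = i := Fin.ext h
    subst this
    exact mk_mem_pivot hp hα k (H2 le_rfl)
  · exact mk_mem_of_gt s e i j k h (H2 h.le)

lemma mk_mem_del (hp : IsPivot s e i α) (hα : IsUnit α) (j' : Fin n) {x : M}
    (hx : x ∈ spanBefore R M e (i.succAbove j')) :
    (Submodule.Quotient.mk x : Q R s) ∈ spanBefore R (Q R s) (del R s e i) j' := by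
  have := map_le_del hp hα (i.succAbove j') j' (by
    intro j hj
    rw [sa_val] at hj
    constructor
    · intro h; split_ifs at hj <;> omega
    · intro h; split_ifs at hj <;> omega) hx
  rwa [Submodule.mem_comap, Submodule.mkQ_apply] at this

lemma del_admissible (he : IsAdmissible R M e) (hp : IsPivot s e i α) :
    IsAdmissible R (Q R s) (del R s e i) := by
  intro j' r hr
  have h1 : r • del R s e i j' = Submodule.Quotient.mk (r • e (i.succAbove j')) := by
    unfold del; rw [Submodule.Quotient.mk_smul]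
  rw [h1]
  exact mk_mem_del hp (hp.isUnit he) j' (he (i.succAbove j') r hr)

lemma del_span_top (he : IsAdmissible R M e) (hp : IsPivot s e i α)
    (htop : Submodule.span R (Set.range e) = ⊤) :
    Submodule.span R (Set.range (del R s e i)) = ⊤ := by
  rw [← spanBefore_top (del R s e i) (le_refl n)]
  have h1 := map_le_del hp (hp.isUnit he) (n+1) n (by
    intro j hj
    have := i.2
    constructor <;> intro h <;> omega)
  rw [spanBefore_top e le_rfl, htop] at h1
  rw [eq_top_iff]
  intro x _
  obtain ⟨y, rfl⟩ := Submodule.Quotient.mk_surjective _ x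
  have := h1 (Submodule.mem_top (x := y))
  rwa [Submodule.mem_comap, Submodule.mkQ_apply] at this

open Classical in
/-- The functional on `M` built from the one on `M ⧸ R s`. -/
noncomputable def Psi (s : M) (Ψ'' : (Fin n → Q R s) → ResidueField R) (e : Fin (n+1) → M) :
    ResidueField R :=
  if h : ∃ (i : Fin (n+1)) (α : R), IsPivot s e i α then
    (-1) ^ ((h.choose : Fin (n+1)) : ℕ) * (residue R h.choose_spec.choose)⁻¹ *
      Ψ'' (del R s e h.choose)
  else 0

variable (Ψ'' : (Fin n → Q R s) → ResidueField R)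

lemma Psi_eq (hp : IsPivot s e i α) :
    Psi s Ψ'' e = (-1) ^ (i : ℕ) * (residue R α)⁻¹ * Ψ'' (del R s e i) := by
  have h : ∃ (i : Fin (n+1)) (α : R), IsPivot s e i α := ⟨i, α, hp⟩
  have key : ∀ (i' : Fin (n+1)) (α' : R), IsPivot s e i' α' →
      (-1 : ResidueField R) ^ (i' : ℕ) * (residue R α')⁻¹ * Ψ'' (del R s e i') =
      (-1) ^ (i : ℕ) * (residue R α)⁻¹ * Ψ'' (del R s e i) := by
    intro i' α' hp'
    obtain rfl := hp'.index_unique hp
    rw [hp'.res_unique hp]
  unfold Psi
  rw [dif_pos h]
  exact key _ _ h.choose_spec.choose_spec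

lemma Psi_zero (h : ¬ ∃ (i : Fin (n+1)) (α : R), IsPivot s e i α) : Psi s Ψ'' e = 0 := by
  unfold Psi
  rw [dif_neg h]

variable {Ψ''} (hΨ : Good (Q R s) n Ψ'')

include hΨ in
lemma relA_step (he : IsAdmissible R M e) (a : Fin (n+1)) (ha : e a ∈ spanBefore R M e a) :
    Psi s Ψ'' e = 0 := by
  by_cases h : ∃ (i : Fin (n+1)) (α : R), IsPivot s e i α
  · obtain ⟨i, α, hp⟩ := h
    have hne : a ≠ i := by
      rintro rfl
      exact hp.not_mem_entry ha
    obtain ⟨a', ha'⟩ := Fin.exists_succAbove_eq hne
    rw [Psi_eq Ψ'' hp]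
    have : Ψ'' (del R s e i) = 0 := by
      apply hΨ.relA _ (del_admissible he hp) a'
      have h1 : del R s e i a' = Submodule.Quotient.mk (e a) := by unfold del; rw [ha']
      rw [h1]
      apply mk_mem_del hp (hp.isUnit he) a'
      rw [ha']; exact ha
    rw [this, mul_zero]
  · exact Psi_zero Ψ'' h

lemma spanBefore_eq_of_relB {l : ℕ} (e e' : Fin l → M) (a : Fin l) (c : Rˣ)
    (h1 : ∀ j, j ≠ a → e j = e' j) (h2 : e a - (c : R) • e' a ∈ spanBefore R M e a) (k : ℕ) :
    spanBefore R M e k = spanBefore R M e' k := by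
  by_cases hk : k ≤ a
  · apply spanBefore_congr
    intro j hj
    exact h1 j (fun h => by rw [h] at hj; omega)
  · push Not at hk
    have hlow : spanBefore R M e a = spanBefore R M e' a := by
      apply spanBefore_congr
      intro j hj
      exact h1 j (fun h => by rw [h] at hj; omega)
    apply le_antisymm
    · rw [spanBefore_le_iff]
      intro j hj
      by_cases hja : j = a
      · rw [hja]
        have : e a = (e a - (c : R) • e' a) + (c : R) • e' a := by abel
        rw [this]
        refine Submodule.add_mem _ ?_ (Submodule.smul_mem _ _ (mem_spanBefore_self e' a hk))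
        rw [hlow] at h2
        exact spanBefore_mono e' hk.le h2
      · rw [h1 j hja]; exact mem_spanBefore_self e' j hj
    · rw [spanBefore_le_iff]
      intro j hj
      by_cases hja : j = a
      · rw [hja]
        have : e' a = ((c⁻¹ : Rˣ) : R) • (e a - (e a - (c : R) • e' a)) := by
          rw [sub_sub_cancel, smul_smul, Units.inv_mul, one_smul]
        rw [this]
        refine Submodule.smul_mem _ _ (Submodule.sub_mem _ (mem_spanBefore_self e a hk) ?_)
        exact spanBefore_mono e hk.le h2
      · rw [← h1 j hja]; exact mem_spanBefore_self e j hj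

include hΨ in
lemma relB_step (hs0 : s ≠ 0) (e e' : Fin (n+1) → M) (he : IsAdmissible R M e)
    (he' : IsAdmissible R M e') (a : Fin (n+1)) (c : Rˣ) (h1 : ∀ j, j ≠ a → e j = e' j)
    (h2 : e a - (c : R) • e' a ∈ spanBefore R M e a) :
    Psi s Ψ'' e = residue R (c : R) * Psi s Ψ'' e' := by
  have hsp := spanBefore_eq_of_relB e e' a c h1 h2
  have hrange : Submodule.span R (Set.range e) = Submodule.span R (Set.range e') := by
    rw [← spanBefore_top e (le_refl (n+1)), ← spanBefore_top e' (le_refl (n+1))]
    exact hsp _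
  have hcu : residue R (c : R) ≠ 0 := by
    have : IsUnit (residue R (c : R)) := c.isUnit.map _
    exact this.ne_zero
  by_cases h : ∃ (i : Fin (n+1)) (α : R), IsPivot s e i α
  · obtain ⟨i, α, hp⟩ := h
    have hαu := hp.isUnit he
    have hα0 : residue R α ≠ 0 := (hαu.map (residue R)).ne_zero
    by_cases hia : i = a
    · subst hia
      have hp' : IsPivot s e' i (α * c) := by
        refine ⟨by rw [← hsp]; exact hp.1, ?_⟩
        rw [← hsp]
        have : s - (α * (c : R)) • e' i = (s - α • e i) + α • (e i - (c : R) • e' i) := by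
          rw [smul_sub, smul_smul]; abel
        rw [this]
        exact Submodule.add_mem _ hp.2 (Submodule.smul_mem _ _ h2)
      have hdel : del R s e i = del R s e' i := by
        funext j
        unfold del
        rw [h1 _ (Fin.succAbove_ne i j)]
      rw [Psi_eq Ψ'' hp, Psi_eq Ψ'' hp', hdel, map_mul]
      field_simp
    · have hp' : IsPivot s e' i α := by
        refine ⟨by rw [← hsp]; exact hp.1, ?_⟩
        rw [← hsp, ← h1 i hia]
        exact hp.2
      obtain ⟨a', ha'⟩ := Fin.exists_succAbove_eq (Ne.symm hia)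
      have hB : Ψ'' (del R s e i) = residue R (c : R) * Ψ'' (del R s e' i) := by
        apply hΨ.relB _ _ (del_admissible he hp) (del_admissible he' hp') a' c
        · intro j hj
          unfold del
          rw [h1]
          intro h
          rw [← ha'] at h
          exact hj (Fin.succAbove_right_injective h)
        · have : del R s e i a' - (c : R) • del R s e' i a' =
              Submodule.Quotient.mk (e a - (c : R) • e' a) := by
            unfold del
            rw [ha', Submodule.Quotient.mk_sub, Submodule.Quotient.mk_smul]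
          rw [this]
          apply mk_mem_del hp hαu a'
          rw [ha']; exact h2
      rw [Psi_eq Ψ'' hp, Psi_eq Ψ'' hp', hB]
      ring
  · have h' : ¬ ∃ (i : Fin (n+1)) (α : R), IsPivot s e' i α := by
      rw [exists_pivot_iff hs0] at h ⊢
      rw [← hrange]; exact h
    rw [Psi_zero Ψ'' h, Psi_zero Ψ'' h', mul_zero]

variable (R) in
/-- The (symmetric) situation of relation (c). -/
structure CPair (e e' : Fin (n+1) → M) (a b : Fin (n+1)) : Prop where
  adm : IsAdmissible R M e
  adm' : IsAdmissible R M e'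
  eq' : e' = e ∘ Equiv.swap a b
  hab : (b : ℕ) + 1 = (a : ℕ)
  hm : ∀ r ∈ maximalIdeal R, r • e a ∈ spanBefore R M e b

namespace CPair

variable {e' : Fin (n+1) → M} {a b : Fin (n+1)}

lemma apply_a (hc : CPair R e e' a b) : e' a = e b := by
  rw [hc.eq']; simp

lemma apply_b (hc : CPair R e e' a b) : e' b = e a := by
  rw [hc.eq']; simp

lemma apply_ne (hc : CPair R e e' a b) (j : Fin (n+1)) (hja : j ≠ a) (hjb : j ≠ b) :
    e' j = e j := by
  rw [hc.eq']; simp [Equiv.swap_apply_of_ne_of_ne hja hjb]

lemma span_low (hc : CPair R e e' a b) (k : ℕ) (hk : k ≤ b) :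
    spanBefore R M e' k = spanBefore R M e k := by
  apply spanBefore_congr
  intro j hj
  have hab := hc.hab
  exact hc.apply_ne j (fun h => by rw [h] at hj; omega) (fun h => by rw [h] at hj; omega)

lemma span_high_le (hc : CPair R e e' a b) (k : ℕ) (hk : (a : ℕ) < k) :
    spanBefore R M e' k ≤ spanBefore R M e k := by
  have hab := hc.hab
  rw [spanBefore_le_iff]
  intro j hj
  by_cases hja : j = a
  · rw [hja, hc.apply_a]; exact mem_spanBefore_self e b (by omega)
  · by_cases hjb : j = b
    · rw [hjb, hc.apply_b]; exact mem_spanBefore_self e a hk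
    · rw [hc.apply_ne j hja hjb]; exact mem_spanBefore_self e j hj

protected lemma symm (hc : CPair R e e' a b) : CPair R e' e a b where
  adm := hc.adm'
  adm' := hc.adm
  eq' := by
    rw [hc.eq']; funext j; simp
  hab := hc.hab
  hm := by
    intro r hr
    rw [hc.apply_a, hc.span_low b le_rfl]
    exact hc.adm b r hr

lemma span_high (hc : CPair R e e' a b) (k : ℕ) (hk : (a : ℕ) < k) :
    spanBefore R M e' k = spanBefore R M e k :=
  le_antisymm (hc.span_high_le k hk) (hc.symm.span_high_le k hk)

lemma span_range (hc : CPair R e e' a b) :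
    Submodule.span R (Set.range e') = Submodule.span R (Set.range e) := by
  rw [← spanBefore_top e (le_refl (n+1)), ← spanBefore_top e' (le_refl (n+1))]
  exact hc.span_high _ a.2

lemma span_a (hc : CPair R e e' a b) :
    spanBefore R M e a = spanBefore R M e b ⊔ Submodule.span R {e b} := by
  rw [← hc.hab, spanBefore_succ]

lemma span_a' (hc : CPair R e e' a b) :
    spanBefore R M e' a = spanBefore R M e b ⊔ Submodule.span R {e a} := by
  rw [hc.symm.span_a, hc.apply_b, hc.span_low b le_rfl]

end CPair

variable {e' : Fin (n+1) → M} {a b : Fin (n+1)}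

include hΨ in
lemma C_off (hc : CPair R e e' a b) (hp : IsPivot s e i α) (hia : i ≠ a) (hib : i ≠ b) :
    Psi s Ψ'' e + Psi s Ψ'' e' = 0 := by
  have hab := hc.hab
  have hαu := hp.isUnit hc.adm
  have hsp : spanBefore R M e' i = spanBefore R M e i := by
    rcases lt_or_gt_of_ne (fun h => hib (Fin.ext h) : (i:ℕ) ≠ b) with h | h
    · exact hc.span_low i h.le
    · exact hc.span_high i (by
        have : (i:ℕ) ≠ a := fun h => hia (Fin.ext h)
        omega)
  have hp' : IsPivot s e' i α := by
    refine ⟨by rw [hsp]; exact hp.1, ?_⟩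
    rw [hsp, hc.apply_ne i hia hib]; exact hp.2
  obtain ⟨a'', ha''⟩ := Fin.exists_succAbove_eq (Ne.symm hia)
  obtain ⟨b'', hb''⟩ := Fin.exists_succAbove_eq (Ne.symm hib)
  have hval : (b'' : ℕ) + 1 = a'' := by
    have h1 := sa_val i a''
    have h2 := sa_val i b''
    rw [ha''] at h1
    rw [hb''] at h2
    have h3 : (i:ℕ) ≠ a := fun h => hia (Fin.ext h)
    have h4 : (i:ℕ) ≠ b := fun h => hib (Fin.ext h)
    split_ifs at h1 h2 <;> omega
  have hdel : del R s e' i = del R s e i ∘ Equiv.swap a'' b'' := by
    funext j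
    unfold del
    rw [hc.eq']
    simp only [Function.comp]
    rw [← ha'', ← hb'', ← (Fin.succAbove_right_injective (p := i)).swap_apply]
  have hC := hΨ.relC (del R s e i) a'' b'' (del_admissible hc.adm hp)
    (by rw [← hdel]; exact del_admissible hc.adm' hp') hval (by
      intro r hr
      have h1 : r • del R s e i a'' = Submodule.Quotient.mk (r • e a) := by
        unfold del; rw [ha'', Submodule.Quotient.mk_smul]
      rw [h1]
      apply mk_mem_del hp hαu b''
      rw [hb'']
      exact hc.hm r hr)
  rw [Psi_eq Ψ'' hp, Psi_eq Ψ'' hp', hdel, ← mul_add, hC, mul_zero]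

include hΨ in
lemma C_bb {β : R} (hc : CPair R e e' a b) (hp : IsPivot s e b α) (hp' : IsPivot s e' b β) :
    Psi s Ψ'' e = 0 := by
  have hab := hc.hab
  have hαu := hp.isUnit hc.adm
  have hβu := hp'.isUnit hc.adm'
  have hne : a ≠ b := fun h => by rw [h] at hab; omega
  obtain ⟨b'', hb''⟩ := Fin.exists_succAbove_eq hne
  have hmem : e a ∈ spanBefore R M e a := by
    have h1 : α • e b - β • e a ∈ spanBefore R M e b := by
      have h2 := hp'.2
      rw [hc.apply_b, hc.span_low b le_rfl] at h2
      have : α • e b - β • e a = (s - β • e a) - (s - α • e b) := by abel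
      rw [this]
      exact Submodule.sub_mem _ h2 hp.2
    obtain ⟨u, rfl⟩ := hβu
    have h3 : e a = ((u⁻¹ : Rˣ) : R) • (α • e b - (α • e b - (u : R) • e a)) := by
      rw [sub_sub_cancel, smul_smul, Units.inv_mul, one_smul]
    rw [h3]
    refine Submodule.smul_mem _ _ (Submodule.sub_mem _ ?_ ?_)
    · exact Submodule.smul_mem _ _ (mem_spanBefore_self e b (by omega))
    · exact spanBefore_mono e (by omega) h1
  rw [Psi_eq Ψ'' hp]
  have : Ψ'' (del R s e b) = 0 := by
    apply hΨ.relA _ (del_admissible hc.adm hp) b''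
    have h1 : del R s e b b'' = Submodule.Quotient.mk (e a) := by unfold del; rw [hb'']
    rw [h1]
    apply mk_mem_del hp hαu b''
    rw [hb'']; exact hmem
  rw [this, mul_zero]

lemma C_ba (hc : CPair R e e' a b) (hp : IsPivot s e b α) (hs : s ∉ spanBefore R M e' a) :
    Psi s Ψ'' e + Psi s Ψ'' e' = 0 := by
  have hab := hc.hab
  have hp' : IsPivot s e' a α := by
    refine ⟨hs, ?_⟩
    rw [hc.apply_a]
    have h1 := hp.2
    rw [← hc.span_low b le_rfl] at h1
    exact spanBefore_mono e' (by omega) h1
  have hdel : del R s e b = del R s e' a := by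
    funext j
    unfold del
    rw [hc.eq']
    simp only [Function.comp]
    congr 2
    apply Fin.ext
    have h1 := sa_val b j
    have h2 := sa_val a j
    rw [Equiv.swap_apply_def]
    split_ifs with h3 h4
    · rw [h3] at h2
      split_ifs at h1 h2 <;> omega
    · rw [h4] at h2
      split_ifs at h1 h2 <;> omega
    · have h5 : ((a.succAbove j : Fin (n+1)) : ℕ) ≠ a := fun h => h3 (Fin.ext h)
      have h6 : ((a.succAbove j : Fin (n+1)) : ℕ) ≠ b := fun h => h4 (Fin.ext h)
      split_ifs at h1 h2 <;> omega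
  rw [Psi_eq Ψ'' hp, Psi_eq Ψ'' hp', hdel, ← hab, pow_succ]
  ring

include hΨ in
lemma C_aa {β : R} (hc : CPair R e e' a b) (hp : IsPivot s e a α) (hq : IsPivot s e' a β) :
    Psi s Ψ'' e + Psi s Ψ'' e' = 0 := by
  have hab := hc.hab
  have hαu := hp.isUnit hc.adm
  have hne : b ≠ a := fun h => by rw [h] at hab; omega
  obtain ⟨b'', hb''⟩ := Fin.exists_succAbove_eq hne
  have h1 := hp.2
  rw [hc.span_a] at h1
  obtain ⟨y, hy, z, hz, hyz⟩ := Submodule.mem_sup.mp h1
  obtain ⟨β', rfl⟩ := Submodule.mem_span_singleton.mp hz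
  have hp' : IsPivot s e' a β' := by
    refine ⟨hq.1, ?_⟩
    rw [hc.apply_a, hc.span_a']
    have : s - β' • e b = y + α • e a := by
      have : s = y + β' • e b + α • e a := by rw [hyz]; abel
      nth_rewrite 1 [this]; abel
    rw [this]
    exact Submodule.add_mem _ (Submodule.mem_sup_left hy)
      (Submodule.mem_sup_right (Submodule.smul_mem _ _ (Submodule.mem_span_singleton_self _)))
  have hβu := hp'.isUnit hc.adm'
  obtain ⟨u, rfl⟩ := hαu
  obtain ⟨w, rfl⟩ := hβu
  have hB : Ψ'' (del R s e' a) = residue R ((-(u⁻¹ * w) : Rˣ) : R) * Ψ'' (del R s e a) := by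
    apply hΨ.relB _ _ (del_admissible hc.adm' hp') (del_admissible hc.adm hp) b'' (-(u⁻¹ * w))
    · intro j hj
      unfold del
      rw [hc.apply_ne _ (Fin.succAbove_ne a j)]
      intro h
      rw [← hb''] at h
      exact hj (Fin.succAbove_right_injective h)
    · have h2 : del R s e' a b'' - ((-(u⁻¹ * w) : Rˣ) : R) • del R s e a b'' =
          Submodule.Quotient.mk (-(((u⁻¹ : Rˣ) : R) • y)) := by
        unfold del
        rw [hb'', hc.apply_b]
        rw [← Submodule.Quotient.mk_smul, ← Submodule.Quotient.mk_sub, ← sub_eq_zero,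
          ← Submodule.Quotient.mk_sub, Submodule.Quotient.mk_eq_zero]
        have : e a - ((-(u⁻¹ * w) : Rˣ) : R) • e b - -(((u⁻¹ : Rˣ) : R) • y) =
            ((u⁻¹ : Rˣ) : R) • s := by
          have hs : s = y + (w : R) • e b + (u : R) • e a := by
            rw [hyz]; abel
          rw [hs]
          simp only [Units.val_neg, Units.val_mul, smul_add, smul_smul, Units.inv_mul, one_smul,
            neg_smul]
          abel
        rw [this]
        exact Submodule.smul_mem _ _ (Submodule.mem_span_singleton_self s)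
      rw [h2]
      apply mk_mem_del hp' w.isUnit b''
      rw [hb'', hc.span_low b le_rfl]
      exact Submodule.neg_mem _ (Submodule.smul_mem _ _ hy)
  rw [Psi_eq Ψ'' hp, Psi_eq Ψ'' hp', hB]
  have hu0 : residue R (u : R) ≠ 0 := ((u.isUnit).map (residue R)).ne_zero
  have hw0 : residue R (w : R) ≠ 0 := ((w.isUnit).map (residue R)).ne_zero
  have hres : residue R ((-(u⁻¹ * w) : Rˣ) : R) = -((residue R (u : R))⁻¹ * residue R (w : R)) := by
    rw [Units.val_neg, Units.val_mul, map_neg, map_mul]
    rw [map_units_inv]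
  rw [hres]
  field_simp
  ring

include hΨ in
lemma relC_pair (hs0 : s ≠ 0) (hc : CPair R e e' a b) :
    Psi s Ψ'' e + Psi s Ψ'' e' = 0 := by
  have hab := hc.hab
  by_cases h : ∃ (i : Fin (n+1)) (α : R), IsPivot s e i α
  · obtain ⟨i, α, hp⟩ := h
    by_cases hib : i = b
    · subst hib
      by_cases hs : s ∈ spanBefore R M e' a
      · -- pivot of e' at b as well
        have hsb : s ∉ spanBefore R M e' i := by rw [hc.span_low i le_rfl]; exact hp.1
        rw [← hab, spanBefore_succ] at hs
        obtain ⟨y, hy, z, hz, hyz⟩ := Submodule.mem_sup.mp hs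
        obtain ⟨β, rfl⟩ := Submodule.mem_span_singleton.mp hz
        have hp' : IsPivot s e' i β := by
          refine ⟨hsb, ?_⟩
          have : s - β • e' i = y := by rw [← hyz]; abel
          rw [this]; exact hy
        rw [C_bb hΨ hc hp hp', C_bb hΨ hc.symm hp' hp, add_zero]
      · exact C_ba (Ψ'' := Ψ'') hc hp hs
    · by_cases hia : i = a
      · subst hia
        have hsF : s ∉ spanBefore R M e' b := by
          rw [hc.span_low b le_rfl]
          intro h
          exact hp.1 (spanBefore_mono e (by omega) h)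
        by_cases hs : s ∈ spanBefore R M e' i
        · rw [← hab, spanBefore_succ] at hs
          obtain ⟨y, hy, z, hz, hyz⟩ := Submodule.mem_sup.mp hs
          obtain ⟨β, rfl⟩ := Submodule.mem_span_singleton.mp hz
          have hp' : IsPivot s e' b β := by
            refine ⟨hsF, ?_⟩
            have : s - β • e' b = y := by rw [← hyz]; abel
            rw [this]; exact hy
          have := C_ba (Ψ'' := Ψ'') hc.symm hp' hp.1
          rw [add_comm]; exact this
        · have hmem : s ∈ spanBefore R M e' ((i:ℕ)+1) := by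
            rw [hc.span_high _ (Nat.lt_succ_self _)]; exact hp.mem_succ
          rw [spanBefore_succ] at hmem
          obtain ⟨y, hy, z, hz, hyz⟩ := Submodule.mem_sup.mp hmem
          obtain ⟨β, rfl⟩ := Submodule.mem_span_singleton.mp hz
          have hp' : IsPivot s e' i β := by
            refine ⟨hs, ?_⟩
            have : s - β • e' i = y := by rw [← hyz]; abel
            rw [this]; exact hy
          exact C_aa hΨ hc hp hp'
      · exact C_off hΨ hc hp hia hib
  · have h' : ¬ ∃ (i : Fin (n+1)) (α : R), IsPivot s e' i α := by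
      rw [exists_pivot_iff hs0] at h ⊢
      rw [hc.span_range]; exact h
    rw [Psi_zero Ψ'' h, Psi_zero Ψ'' h', add_zero]

include hΨ in
lemma good_step (hs0 : s ≠ 0) : Good M (n+1) (Psi s Ψ'') where
  relA := fun e he a ha => relA_step hΨ he a ha
  relB := fun e e' he he' a c h1 h2 => relB_step hΨ hs0 e e' he he' a c h1 h2
  relC := fun e a b he he' hab hm => relC_pair hΨ hs0 ⟨he, he', rfl, hab, hm⟩
  nonzero := by
    intro e he htop
    obtain ⟨i, α, hp⟩ := exists_pivot (e := e) hs0 (by rw [htop]; trivial)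
    rw [Psi_eq Ψ'' hp]
    have h1 := hΨ.nonzero _ (del_admissible he hp) (del_span_top he hp htop)
    have h2 : residue R α ≠ 0 := ((hp.isUnit he).map (residue R)).ne_zero
    have h3 : ((-1 : ResidueField R)) ^ (i:ℕ) ≠ 0 := pow_ne_zero _ (neg_ne_zero.mpr one_ne_zero)
    exact mul_ne_zero (mul_ne_zero h3 (inv_ne_zero h2)) h1

end Step

lemma good_zero (M : Type v) [AddCommGroup M] [Module R M] :
    Good M 0 (fun _ => (1 : ResidueField R)) where
  relA := fun _ _ a _ => a.elim0
  relB := fun _ _ _ _ a => a.elim0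
  relC := fun _ a => a.elim0
  nonzero := fun _ _ _ => one_ne_zero

lemma exists_socle (M : Type v) [AddCommGroup M] [Module R M] [IsArtinian R M] [Nontrivial M] :
    ∃ s : M, s ≠ 0 ∧ Module.length R (Submodule.span R ({s} : Set M)) = 1 := by
  obtain ⟨K, hK⟩ := IsAtomic.exists_atom (Submodule R M)
  obtain ⟨s, hsK, hs0⟩ := Submodule.exists_mem_ne_zero_of_ne_bot hK.1
  refine ⟨s, hs0, ?_⟩
  have hle : Submodule.span R {s} ≤ K := by
    rw [Submodule.span_singleton_le_iff_mem]; exact hsK
  have heq : Submodule.span R {s} = K := by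
    rcases eq_or_lt_of_le hle with h | h
    · exact h
    · exfalso
      have := hK.2 _ h
      rw [Submodule.span_singleton_eq_bot] at this
      exact hs0 this
  rw [heq, Module.length_eq_one_iff, isSimpleModule_iff_isAtom]
  exact hK

theorem exists_good : ∀ (n : ℕ) (M : Type v) [AddCommGroup M] [Module R M],
    Module.length R M = n → ∃ Ψ : (Fin n → M) → ResidueField R, Good M n Ψ := by
  intro n
  induction n with
  | zero => intro M _ _ _; exact ⟨_, good_zero M⟩
  | succ n ih =>
    intro M _ _ hlen
    have hfl : IsFiniteLength R M := by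
      rw [← Module.length_ne_top_iff, hlen]; exact ENat.natCast_ne_top _
    obtain ⟨hN, hA⟩ := isFiniteLength_iff_isNoetherian_isArtinian.mp hfl
    have hnt : Nontrivial M := by
      rw [← Module.length_pos_iff (R := R), hlen]
      exact_mod_cast Nat.succ_pos n
    obtain ⟨s, hs0, hs1⟩ := exists_socle (R := R) M
    have hadd := Module.length_eq_add_of_exact (Submodule.span R ({s} : Set M)).subtype
      (Submodule.span R ({s} : Set M)).mkQ (Submodule.subtype_injective _)
      (Submodule.mkQ_surjective _) (LinearMap.exact_subtype_mkQ _)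
    rw [hlen, hs1] at hadd
    have hq : Module.length R (Q R s) = n := by
      have h1 : Module.length R (Q R s) ≠ ⊤ := by
        intro h; rw [h] at hadd; simp at hadd
      lift Module.length R (Q R s) to ℕ using h1 with m hm
      have : (n + 1 : ℕ) = 1 + m := by exact_mod_cast hadd
      have : m = n := by omega
      rw [this]
    obtain ⟨Ψ'', hΨ⟩ := ih (Q R s) hq
    exact ⟨_, good_step hΨ hs0⟩

/-- The nonvanishing of the symbol of a generating admissible tuple. -/
theorem main (R : Type u) [CommRing R] [IsLocalRing R] (M : Type v) [AddCommGroup M] [Module R M]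
    (hM : IsFiniteLength R M) (e : CycDet.Adm R M (Module.length R M).toNat)
    (he : Submodule.span R (Set.range e.1) = ⊤) : CycDet.symbol R M e ≠ 0 := by
  classical
  have hl : Module.length R M = ((Module.length R M).toNat : ℕ) :=
    (ENat.natCast_toNat (Module.length_ne_top_iff.mpr hM)).symm
  obtain ⟨Ψ, hΨ⟩ := exists_good (R := R) (Module.length R M).toNat M hl
  let L : Free R M (Module.length R M).toNat →ₗ[ResidueField R] ResidueField R :=
    Finsupp.linearCombination (ResidueField R) (fun x : Adm R M (Module.length R M).toNat => Ψ x.1)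
  have hL : ∀ x : Adm R M (Module.length R M).toNat, L (sym R M x) = Ψ x.1 := by
    intro x
    simp [L, sym, Finsupp.linearCombination_single]
  have hker : Submodule.span (ResidueField R) (relSet R M (Module.length R M).toNat) ≤
      LinearMap.ker L := by
    rw [Submodule.span_le]
    rintro x ((⟨x, a, ha, rfl⟩ | ⟨x, x', a, c, h1, h2, rfl⟩) | ⟨x, x', a, b, hab, hm, hx', rfl⟩)
    · rw [SetLike.mem_coe, LinearMap.mem_ker, hL]
      exact hΨ.relA x.1 x.2 a ha
    · rw [SetLike.mem_coe, LinearMap.mem_ker, map_sub, map_smul, hL, hL, smul_eq_mul, sub_eq_zero]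
      exact hΨ.relB x.1 x'.1 x.2 x'.2 a c h1 h2
    · rw [SetLike.mem_coe, LinearMap.mem_ker, map_add, hL, hL, hx']
      exact hΨ.relC x.1 a b x.2 (by rw [← hx']; exact x'.2) hab hm
  intro h0
  unfold symbol at h0
  rw [Submodule.Quotient.mk_eq_zero] at h0
  have := hker h0
  rw [LinearMap.mem_ker, hL] at this
  exact hΨ.nonzero e.1 e.2 he this

end Groth.Agent.Lib.Helper26.CycNZ1
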