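import Mathlib
import Groth.Prelude.Def_CycDet
import Groth.Agent.Lib.Helper3.CycDetRank
import Groth.Agent.Lib.Helper26.CycNZ1

set_option autoImplicit false
universe u v
open CycDet IsLocalRing
open Groth.Agent.Helper3.CycDetRank

namespace Groth.Agent.Lib.Helper26.CycNZ2

open Groth.Agent.Lib.Helper26.CycNZ1

variable {R : Type u} [CommRing R] [IsLocalRing R]

lemma socle_smul {M : Type v} [AddCommGroup M] [Module R M] {s : M} (hs0 : s ≠ 0)
    (hs1 : Module.length R (Submodule.span R ({s} : Set M)) = 1) :
    ∀ r ∈ maximalIdeal R, r • s = 0 := by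
  intro r hr
  rw [Module.length_eq_one_iff, isSimpleModule_iff_isAtom] at hs1
  by_contra hrs
  have hle : Submodule.span R {r • s} ≤ Submodule.span R {s} := by
    rw [Submodule.span_singleton_le_iff_mem]
    exact Submodule.smul_mem _ _ (Submodule.mem_span_singleton_self s)
  have heq : Submodule.span R {r • s} = Submodule.span R {s} := by
    rcases eq_or_lt_of_le hle with h | h
    · exact h
    · exfalso
      have := hs1.2 _ h
      rw [Submodule.span_singleton_eq_bot] at this
      exact hrs this
  have hmem : s ∈ Submodule.span R {r • s} := by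
    rw [heq]; exact Submodule.mem_span_singleton_self s
  obtain ⟨t, ht⟩ := Submodule.mem_span_singleton.mp hmem
  have hu : IsUnit (1 - t * r) := by
    apply IsLocalRing.isUnit_one_sub_self_of_mem_nonunits
    exact Ideal.mul_mem_left _ t hr
  have h0 : (1 - t * r) • s = 0 := by
    rw [sub_smul, one_smul, mul_smul, ht, sub_self]
  obtain ⟨w, hw⟩ := hu
  apply hs0
  have : s = ((w⁻¹ : Rˣ) : R) • ((1 - t * r) • s) := by
    rw [smul_smul, ← hw, Units.inv_mul, one_smul]
  rw [this, h0, smul_zero]

lemma length_quot_socle {M : Type v} [AddCommGroup M] [Module R M] {s : M} {n : ℕ}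
    (hlen : Module.length R M = (n + 1 : ℕ))
    (hs1 : Module.length R (Submodule.span R ({s} : Set M)) = 1) :
    Module.length R (Q R s) = n := by
  have hadd := Module.length_eq_add_of_exact (Submodule.span R ({s} : Set M)).subtype
    (Submodule.span R ({s} : Set M)).mkQ (Submodule.subtype_injective _)
    (Submodule.mkQ_surjective _) (LinearMap.exact_subtype_mkQ _)
  rw [hlen, hs1] at hadd
  have h1 : Module.length R (Q R s) ≠ ⊤ := by
    intro h; rw [h] at hadd; simp at hadd
  lift Module.length R (Q R s) to ℕ using h1 with m hm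
  have : (n + 1 : ℕ) = 1 + m := by exact_mod_cast hadd
  have : m = n := by omega
  rw [this]

/-- Existence of a generating admissible tuple of the right length. -/
theorem exists_gen : ∀ (n : ℕ) (M : Type v) [AddCommGroup M] [Module R M],
    Module.length R M = n → ∃ e : Fin n → M, IsAdmissible R M e ∧
      Submodule.span R (Set.range e) = ⊤ := by
  intro n
  induction n with
  | zero =>
    intro M _ _ hlen
    have hsub : Subsingleton M := by
      rw [← Module.length_eq_zero_iff (R := R)]; exact_mod_cast hlen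
    refine ⟨fun i => i.elim0, fun i => i.elim0, ?_⟩
    rw [eq_top_iff]
    intro x _
    rw [Subsingleton.elim x 0]; exact Submodule.zero_mem _
  | succ n ih =>
    intro M _ _ hlen
    have hfl : IsFiniteLength R M := by
      rw [← Module.length_ne_top_iff, hlen]; exact ENat.natCast_ne_top _
    obtain ⟨hN, hA⟩ := isFiniteLength_iff_isNoetherian_isArtinian.mp hfl
    have hnt : Nontrivial M := by
      rw [← Module.length_pos_iff (R := R), hlen]
      exact_mod_cast Nat.succ_pos n
    obtain ⟨s, hs0, hs1⟩ := exists_socle (R := R) M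
    have hsm := socle_smul hs0 hs1
    obtain ⟨e', hadm', hgen'⟩ := ih (Q R s) (length_quot_socle hlen hs1)
    choose ℓ hℓ using fun j => Submodule.Quotient.mk_surjective _ (e' j)
    let e : Fin (n+1) → M := Fin.cons s ℓ
    have he0 : e 0 = s := Fin.cons_zero _ _
    have hesucc : ∀ j : Fin n, e j.succ = ℓ j := fun j => Fin.cons_succ _ _ _
    -- the key transfer
    have key : ∀ (t : ℕ) (x : M), (Submodule.Quotient.mk x : Q R s) ∈ spanBefore R (Q R s) e' t →
        x ∈ spanBefore R M e (t+1) := by
      intro t x hx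
      have hle : spanBefore R (Q R s) e' t ≤
          (spanBefore R M e (t+1)).map (Submodule.mkQ (Submodule.span R {s})) := by
        rw [spanBefore_le_iff]
        intro i hi
        refine ⟨e i.succ, mem_spanBefore_self e i.succ (by simp; omega), ?_⟩
        rw [hesucc, Submodule.mkQ_apply, hℓ]
      obtain ⟨y, hy, hyx⟩ := hle hx
      rw [Submodule.mkQ_apply, Submodule.Quotient.eq] at hyx
      have hs_mem : s ∈ spanBefore R M e (t+1) := by
        rw [← he0]; exact mem_spanBefore_self e 0 (by simp)
      have h2 : y - x ∈ spanBefore R M e (t+1) := by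
        obtain ⟨c, hc⟩ := Submodule.mem_span_singleton.mp hyx
        rw [← hc]; exact Submodule.smul_mem _ _ hs_mem
      have : x = y - (y - x) := by abel
      rw [this]; exact Submodule.sub_mem _ hy h2
    refine ⟨e, ?_, ?_⟩
    · intro i r hr
      refine Fin.cases ?_ (fun j => ?_) i
      · rw [he0, hsm r hr]; exact Submodule.zero_mem _
      · rw [hesucc]
        have h1 := hadm' j r hr
        rw [← hℓ j, ← Submodule.Quotient.mk_smul] at h1
        have := key j _ h1
        simpa using this
    · rw [eq_top_iff]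
      intro x _
      have h1 : (Submodule.Quotient.mk x : Q R s) ∈ spanBefore R (Q R s) e' n := by
        rw [spanBefore_top e' le_rfl, hgen']; trivial
      exact spanBefore_le_range e _ (key n x h1)

/-- Pull back a good functional along a surjective linear map. -/
lemma Good.comap {L : Type v} {M : Type v} [AddCommGroup L] [Module R L] [AddCommGroup M]
    [Module R M] {n : ℕ} {Ψ : (Fin n → M) → ResidueField R} (hΨ : Good M n Ψ)
    (φ : L →ₗ[R] M) (hφ : Function.Surjective φ) : Good L n (fun e => Ψ (φ ∘ e)) := by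
  have hsp : ∀ (e : Fin n → L) (k : ℕ) (x : L), x ∈ spanBefore R L e k →
      φ x ∈ spanBefore R M (φ ∘ e) k := by
    intro e k x hx
    have hle : spanBefore R L e k ≤ (spanBefore R M (φ ∘ e) k).comap φ := by
      rw [spanBefore_le_iff]
      intro j hj
      exact mem_spanBefore_self (φ ∘ e) j hj
    exact hle hx
  have hadm : ∀ e : Fin n → L, IsAdmissible R L e → IsAdmissible R M (φ ∘ e) := by
    intro e he i r hr
    have := hsp e i _ (he i r hr)
    rwa [map_smul] at this
  refine ⟨?_, ?_, ?_, ?_⟩
  · intro e he a ha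
    exact hΨ.relA _ (hadm e he) a (hsp e a _ ha)
  · intro e e' he he' a c h1 h2
    apply hΨ.relB _ _ (hadm e he) (hadm e' he') a c
    · intro j hj; simp only [Function.comp]; rw [h1 j hj]
    · have := hsp e a _ h2
      rwa [map_sub, map_smul] at this
  · intro e a b he he' hab hm
    apply hΨ.relC (φ ∘ e) a b (hadm e he) (hadm _ he') hab
    intro r hr
    have := hsp e b _ (hm r hr)
    rwa [map_smul] at this
  · intro e he htop
    apply hΨ.nonzero _ (hadm e he)
    rw [Set.range_comp, ← Submodule.map_span, htop, Submodule.map_top, LinearMap.range_eq_top]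
    exact hφ

section Mult

variable {M : Type v} [AddCommGroup M] [Module R M] {m : ℕ}

/-- `eL` consists of the images of `eK` followed by lifts of `eM`. -/
def Compat {K L : Type v} [AddCommGroup K] [Module R K] [AddCommGroup L] [Module R L]
    (f : K →ₗ[R] L) (g : L →ₗ[R] M) {k n : ℕ} (eK : Fin k → K) (eM : Fin m → M)
    (eL : Fin n → L) : Prop :=
  (∀ (i : Fin k) (h : (i:ℕ) < n), eL ⟨i, h⟩ = f (eK i)) ∧
  (∀ (j : Fin m) (h : k + (j:ℕ) < n), g (eL ⟨k + j, h⟩) = eM j)

lemma Compat.spanBefore_low {K L : Type v} [AddCommGroup K] [Module R K] [AddCommGroup L]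
    [Module R L] {f : K →ₗ[R] L} {g : L →ₗ[R] M} {k n : ℕ} {eK : Fin k → K} {eM : Fin m → M}
    {eL : Fin n → L} (hc : Compat f g eK eM eL) (hkn : k ≤ n) (t : ℕ) (ht : t ≤ k) :
    spanBefore R L eL t = (spanBefore R K eK t).map f := by
  apply le_antisymm
  · rw [spanBefore_le_iff]
    intro j hj
    have h1 := hc.1 ⟨j, by omega⟩ j.2
    have h2 : (⟨((⟨j, by omega⟩ : Fin k) : ℕ), j.2⟩ : Fin n) = j := Fin.ext rfl
    rw [h2] at h1
    rw [h1]
    exact Submodule.mem_map_of_mem (mem_spanBefore_self eK _ hj)
  · rw [Submodule.map_le_iff_le_comap, spanBefore_le_iff]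
    intro j hj
    rw [Submodule.mem_comap, ← hc.1 j (by have := j.2; omega)]
    exact mem_spanBefore_self eL _ hj

theorem mult (ΨM : (Fin m → M) → ResidueField R) :
    ∀ (k n : ℕ), k + m = n → ∀ (K L : Type v) [AddCommGroup K] [Module R K] [AddCommGroup L]
      [Module R L] (f : K →ₗ[R] L) (g : L →ₗ[R] M), Good M m ΨM → Function.Injective f →
      Function.Surjective g → LinearMap.range f = LinearMap.ker g → Module.length R K = k →
      ∃ (ΨK : (Fin k → K) → ResidueField R) (ΨL : (Fin n → L) → ResidueField R),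
        Good K k ΨK ∧ Good L n ΨL ∧
        ∀ (eK : Fin k → K) (eM : Fin m → M) (eL : Fin n → L), IsAdmissible R K eK →
          Submodule.span R (Set.range eK) = ⊤ → Compat f g eK eM eL →
          ΨL eL = ΨK eK * ΨM eM := by
  intro k
  induction k with
  | zero =>
    intro n hn K L _ _ _ _ f g hΨM hf hg hfg hlen
    have hnm : n = m := by omega
    subst hnm
    refine ⟨fun _ => 1, fun eL => ΨM (g ∘ eL), good_zero K, Good.comap hΨM g hg, ?_⟩
    intro eK eM eL _ _ hc
    have : g ∘ eL = eM := by
      funext j
      have := hc.2 j (by have := j.2; omega)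
      simp only [Function.comp]
      rw [← this]
      congr 2
      apply Fin.ext; simp
    show ΨM (g ∘ eL) = 1 * ΨM eM
    rw [this, one_mul]
  | succ k ih =>
    intro n hn K L _ _ _ _ f g hΨM hf hg hfg hlen
    obtain ⟨n', rfl⟩ : ∃ n', n = n' + 1 := ⟨k + m, by omega⟩
    have hn' : k + m = n' := by omega
    have hfl : IsFiniteLength R K := by
      rw [← Module.length_ne_top_iff, hlen]; exact ENat.natCast_ne_top _
    obtain ⟨hN, hA⟩ := isFiniteLength_iff_isNoetherian_isArtinian.mp hfl
    have hnt : Nontrivial K := by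
      rw [← Module.length_pos_iff (R := R), hlen]
      exact_mod_cast Nat.succ_pos k
    obtain ⟨s, hs0, hs1⟩ := exists_socle (R := R) K
    have hfs0 : f s ≠ 0 := fun h => hs0 (hf (by rw [h, map_zero]))
    have hgf : ∀ x, g (f x) = 0 := by
      intro x
      have : f x ∈ LinearMap.ker g := by rw [← hfg]; exact LinearMap.mem_range_self f x
      exact this
    let f' : Q R s →ₗ[R] Q R (f s) :=
      Submodule.mapQ (Submodule.span R {s}) (Submodule.span R {f s}) f (by
        rw [Submodule.span_singleton_le_iff_mem, Submodule.mem_comap]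
        exact Submodule.mem_span_singleton_self _)
    let g' : Q R (f s) →ₗ[R] M :=
      Submodule.liftQ (Submodule.span R {f s}) g (by
        rw [Submodule.span_singleton_le_iff_mem, LinearMap.mem_ker]; exact hgf s)
    have hf'mk : ∀ x : K, f' (Submodule.Quotient.mk x) = Submodule.Quotient.mk (f x) :=
      fun x => Submodule.mapQ_apply _ _ _ x
    have hg'mk : ∀ y : L, g' (Submodule.Quotient.mk y) = g y :=
      fun y => Submodule.liftQ_apply _ _ y
    have hf' : Function.Injective f' := by
      rw [injective_iff_map_eq_zero]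
      intro x hx
      obtain ⟨x₀, rfl⟩ := Submodule.Quotient.mk_surjective _ x
      rw [hf'mk, Submodule.Quotient.mk_eq_zero] at hx
      obtain ⟨r, hr⟩ := Submodule.mem_span_singleton.mp hx
      rw [← map_smul] at hr
      have := hf hr
      rw [Submodule.Quotient.mk_eq_zero, ← this]
      exact Submodule.smul_mem _ _ (Submodule.mem_span_singleton_self s)
    have hg' : Function.Surjective g' := by
      intro y
      obtain ⟨l, rfl⟩ := hg y
      exact ⟨Submodule.Quotient.mk l, hg'mk l⟩
    have hfg' : LinearMap.range f' = LinearMap.ker g' := by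
      ext y
      obtain ⟨l, rfl⟩ := Submodule.Quotient.mk_surjective _ y
      rw [LinearMap.mem_ker, hg'mk]
      constructor
      · rintro ⟨x, hx⟩
        obtain ⟨x₀, rfl⟩ := Submodule.Quotient.mk_surjective _ x
        rw [hf'mk] at hx
        have h1 : g' (Submodule.Quotient.mk (f x₀)) = g' (Submodule.Quotient.mk l) := by rw [hx]
        rw [hg'mk, hg'mk, hgf] at h1
        exact h1.symm
      · intro hl
        have : l ∈ LinearMap.range f := by rw [hfg]; exact hl
        obtain ⟨x, rfl⟩ := this
        exact ⟨Submodule.Quotient.mk x, hf'mk x⟩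
    obtain ⟨ΨK', ΨL', hK', hL', hmult'⟩ := ih n' hn' (Q R s) (Q R (f s)) f' g' hΨM hf' hg' hfg'
      (length_quot_socle hlen hs1)
    refine ⟨Psi s ΨK', Psi (f s) ΨL', good_step hK' hs0, good_step hL' hfs0, ?_⟩
    intro eK eM eL hadm hgen hc
    obtain ⟨i, α, hp⟩ := exists_pivot (e := eK) hs0 (by rw [hgen]; trivial)
    have hiL : (i:ℕ) < n' + 1 := by have := i.2; omega
    have hsp := hc.spanBefore_low (by omega) i (by have := i.2; omega)
    have hpL : IsPivot (f s) eL ⟨i, hiL⟩ α := by
      constructor
      · show f s ∉ spanBefore R L eL i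
        rw [hsp]
        rintro ⟨y, hy, hys⟩
        exact hp.1 (by rw [← hf hys]; exact hy)
      · show f s - α • eL ⟨i, hiL⟩ ∈ spanBefore R L eL i
        rw [hsp, hc.1 i hiL, ← map_smul, ← map_sub]
        exact Submodule.mem_map_of_mem hp.2
    have hc' : Compat f' g' (del R s eK i) eM (del R (f s) eL ⟨i, hiL⟩) := by
      constructor
      · intro j hj
        unfold del
        rw [hf'mk]
        congr 1
        have hv : ((i.succAbove j : Fin (k+1)) : ℕ) < n' + 1 := by
          have := (i.succAbove j).2; omega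
        rw [← hc.1 (i.succAbove j) hv]
        congr 1
        apply Fin.ext
        rw [sa_val, sa_val]
      · intro j hj
        unfold del
        rw [hg'mk]
        have hv : k + 1 + (j:ℕ) < n' + 1 := by omega
        rw [← hc.2 j hv]
        congr 2
        apply Fin.ext
        rw [sa_val]
        have : ¬ (k + (j:ℕ) < i) := by have := i.2; omega
        simp only [this, if_false]
        omega
    have h1 := hmult' (del R s eK i) eM (del R (f s) eL ⟨i, hiL⟩) (del_admissible hadm hp)
      (del_span_top hadm hp hgen) hc'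
    rw [Psi_eq ΨK' hp, Psi_eq ΨL' hpL, h1]
    ring

end Mult

section Iso

variable {X : Type v} [AddCommGroup X] [Module R X] {n : ℕ} {Ψ : (Fin n → X) → ResidueField R}

/-- The functional on the free space of symbols. -/
noncomputable def freeFun (Ψ : (Fin n → X) → ResidueField R) :
    Free R X n →ₗ[ResidueField R] ResidueField R :=
  Finsupp.linearCombination (ResidueField R) (fun x : Adm R X n => Ψ x.1)

lemma freeFun_sym (x : Adm R X n) : freeFun Ψ (sym R X x) = Ψ x.1 := by
  simp [freeFun, sym, Finsupp.linearCombination_single]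

lemma relSet_le_ker (hΨ : Good X n Ψ) :
    Submodule.span (ResidueField R) (relSet R X n) ≤ LinearMap.ker (freeFun Ψ) := by
  rw [Submodule.span_le]
  rintro x ((⟨x, a, ha, rfl⟩ | ⟨x, x', a, c, h1, h2, rfl⟩) | ⟨x, x', a, b, hab, hm, hx', rfl⟩)
  · rw [SetLike.mem_coe, LinearMap.mem_ker, freeFun_sym]
    exact hΨ.relA x.1 x.2 a ha
  · rw [SetLike.mem_coe, LinearMap.mem_ker, map_sub, map_smul, freeFun_sym, freeFun_sym,
      smul_eq_mul, sub_eq_zero]
    exact hΨ.relB x.1 x'.1 x.2 x'.2 a c h1 h2
  · rw [SetLike.mem_coe, LinearMap.mem_ker, map_add, freeFun_sym, freeFun_sym, hx']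
    exact hΨ.relC x.1 a b x.2 (by rw [← hx']; exact x'.2) hab hm

/-- The induced functional on the determinant. -/
noncomputable def detFun (hΨ : Good X n Ψ) : DetOfLen R X n →ₗ[ResidueField R] ResidueField R :=
  Submodule.liftQ _ (freeFun Ψ) (relSet_le_ker hΨ)

lemma detFun_cls (hΨ : Good X n Ψ) (x : Adm R X n) : detFun hΨ (cls x) = Ψ x.1 := by
  unfold detFun cls
  rw [Submodule.liftQ_apply, freeFun_sym]

theorem detFun_bijective (hΨ : Good X n Ψ) (hlen : Module.length R X = n) :
    Function.Bijective (detFun hΨ) := by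
  classical
  have hfl : IsFiniteLength R X := by
    rw [← Module.length_ne_top_iff, hlen]; exact ENat.natCast_ne_top _
  obtain ⟨hN, hA⟩ := isFiniteLength_iff_isNoetherian_isArtinian.mp hfl
  obtain ⟨e₀, hadm, hgen⟩ := exists_gen (R := R) n X hlen
  have hne := hΨ.nonzero e₀ hadm hgen
  have hnr : ∀ i : Fin n, e₀ i ∉ spanBefore R X e₀ i := by
    intro i hi
    exact hne (hΨ.relA e₀ hadm i hi)
  obtain ⟨a₀, ha₀⟩ : ∃ a₀ : Adm R X n, a₀.1 = e₀ := ⟨⟨e₀, hadm⟩, rfl⟩
  have hall : ∀ v : DetOfLen R X n, ∃ r : ResidueField R, v = r • cls a₀ := by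
    intro v
    obtain ⟨x, rfl⟩ := Submodule.Quotient.mk_surjective _ v
    induction x using Finsupp.induction_linear with
    | zero => exact ⟨0, by simp⟩
    | add x y hx hy =>
      obtain ⟨r₁, h₁⟩ := hx
      obtain ⟨r₂, h₂⟩ := hy
      exact ⟨r₁ + r₂, by rw [add_smul, ← h₁, ← h₂, Submodule.Quotient.mk_add]⟩
    | single e c =>
      obtain ⟨s, hs⟩ := cls_mem_span hlen a₀ (by rw [ha₀]; exact hnr) n e
        (fun j hj => absurd hj (by omega))
      refine ⟨c * s, ?_⟩
      have : (Finsupp.single e c : Free R X n) = c • sym R X e := by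
        unfold sym; rw [Finsupp.smul_single, smul_eq_mul, mul_one]
      rw [this, Submodule.Quotient.mk_smul]
      change c • cls e = _
      rw [hs, smul_smul]
  constructor
  · rw [injective_iff_map_eq_zero]
    intro v hv
    obtain ⟨r, rfl⟩ := hall v
    rw [map_smul, detFun_cls, smul_eq_mul, ha₀] at hv
    rcases mul_eq_zero.mp hv with h | h
    · rw [h, zero_smul]
    · exact absurd h hne
  · intro c
    refine ⟨(c * (Ψ e₀)⁻¹) • cls a₀, ?_⟩
    rw [map_smul, detFun_cls, smul_eq_mul, ha₀, mul_assoc, inv_mul_cancel₀ hne, mul_one]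

/-- The determinant is identified with the residue field by a good functional. -/
noncomputable def detEquiv (hΨ : Good X n Ψ) (hlen : Module.length R X = n) :
    DetOfLen R X n ≃ₗ[ResidueField R] ResidueField R :=
  LinearEquiv.ofBijective (detFun hΨ) (detFun_bijective hΨ hlen)

lemma detEquiv_cls (hΨ : Good X n Ψ) (hlen : Module.length R X = n) (x : Adm R X n) :
    detEquiv hΨ hlen (cls x) = Ψ x.1 := detFun_cls hΨ x

end Iso

open TensorProduct in
theorem main (R : Type u) [CommRing R] [IsLocalRing R] (K L M : Type u) [AddCommGroup K]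
    [Module R K] [AddCommGroup L] [Module R L] [AddCommGroup M] [Module R M]
    (hK : IsFiniteLength R K) (hM : IsFiniteLength R M) (f : K →ₗ[R] L) (g : L →ₗ[R] M)
    (hf : Function.Injective f) (hg : Function.Surjective g)
    (hfg : LinearMap.range f = LinearMap.ker g)
    (hlen : (Module.length R K).toNat + (Module.length R M).toNat = (Module.length R L).toNat) :
    ∃ γ : (CycDet.Det R K ⊗[IsLocalRing.ResidueField R] CycDet.Det R M) ≃ₗ[IsLocalRing.ResidueField R]
        CycDet.Det R L,
      ∀ (eK : CycDet.Adm R K (Module.length R K).toNat)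
        (eM : CycDet.Adm R M (Module.length R M).toNat)
        (eL : CycDet.Adm R L (Module.length R L).toNat), CycDet.symbol R K eK ≠ 0 →
        (∀ i : Fin (Module.length R K).toNat,
          eL.1 (Fin.cast hlen (Fin.castAdd (Module.length R M).toNat i)) = f (eK.1 i)) →
        (∀ j : Fin (Module.length R M).toNat,
          g (eL.1 (Fin.cast hlen (Fin.natAdd (Module.length R K).toNat j))) = eM.1 j) →
        γ (CycDet.symbol R K eK ⊗ₜ CycDet.symbol R M eM) = CycDet.symbol R L eL := by
  classical
  have hk : Module.length R K = ((Module.length R K).toNat : ℕ) :=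
    (ENat.natCast_toNat (Module.length_ne_top_iff.mpr hK)).symm
  have hm : Module.length R M = ((Module.length R M).toNat : ℕ) :=
    (ENat.natCast_toNat (Module.length_ne_top_iff.mpr hM)).symm
  have hadd := Module.length_eq_add_of_exact f g hf hg (LinearMap.exact_iff.mpr hfg.symm)
  have hL : IsFiniteLength R L := by
    rw [← Module.length_ne_top_iff, hadd, hk, hm]
    exact WithTop.add_ne_top.mpr ⟨ENat.natCast_ne_top _, ENat.natCast_ne_top _⟩
  have hl : Module.length R L = ((Module.length R L).toNat : ℕ) :=
    (ENat.natCast_toNat (Module.length_ne_top_iff.mpr hL)).symm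
  obtain ⟨hNK, hAK⟩ := isFiniteLength_iff_isNoetherian_isArtinian.mp hK
  obtain ⟨ΨM, hΨM⟩ := exists_good (R := R) (Module.length R M).toNat M hm
  obtain ⟨ΨK, ΨL, hΨK, hΨL, hmult⟩ := mult ΨM (Module.length R K).toNat (Module.length R L).toNat
    hlen K L f g hΨM hf hg hfg hk
  let ψK := detEquiv hΨK hk
  let ψM := detEquiv hΨM hm
  let ψL := detEquiv hΨL hl
  refine ⟨(TensorProduct.congr ψK ψM) ≪≫ₗ
    (TensorProduct.lid (ResidueField R) (ResidueField R)) ≪≫ₗ ψL.symm, ?_⟩
  intro eK eM eL hsym h1 h2
  have hnr : ∀ i : Fin (Module.length R K).toNat, eK.1 i ∉ spanBefore R K eK.1 i := by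
    intro i hi
    exact hsym (cls_eq_zero_of_redundant eK i hi)
  have hgen : Submodule.span R (Set.range eK.1) = ⊤ := by
    rw [← spanBefore_top eK.1 (le_refl _)]
    exact span_eq_top_of_nonredundant eK.1 hk hnr
  have hc : Compat f g eK.1 eM.1 eL.1 := by
    constructor
    · intro i h
      rw [← h1 i]
      congr 1
    · intro j h
      rw [← h2 j]
      congr 2
  have key := hmult eK.1 eM.1 eL.1 eK.2 hgen hc
  rw [LinearEquiv.trans_apply, LinearEquiv.trans_apply, TensorProduct.congr_tmul,
    TensorProduct.lid_tmul, LinearEquiv.symm_apply_eq]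
  show ψK (cls eK) • ψM (cls eM) = ψL (cls eL)
  rw [detEquiv_cls, detEquiv_cls, detEquiv_cls, smul_eq_mul, key]

end Groth.Agent.Lib.Helper26.CycNZ2
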