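import Mathlib
import Groth.Prelude.Def_CycDet
import Groth.Agent.Lib.Helper26.CycSeq1

universe u

namespace Groth.Agent.Lib.Helper26.CycSeq2

open Groth.Agent.Lib.Helper26.CycSeq1

variable (R : Type u) [CommRing R] [IsLocalRing R] (M : Type u) [AddCommGroup M] [Module R M]

set_option linter.unusedSectionVars false

theorem spanBefore_mono {l : ℕ} (x : Fin l → M) {i j : ℕ} (h : i ≤ j) :
    CycDet.spanBefore R M x i ≤ CycDet.spanBefore R M x j := by
  unfold CycDet.spanBefore
  apply Submodule.span_mono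
  apply Set.image_mono
  intro k hk
  exact lt_of_lt_of_le hk h

theorem spanBefore_zero {l : ℕ} (x : Fin l → M) : CycDet.spanBefore R M x 0 = ⊥ := by
  unfold CycDet.spanBefore
  have : {j : Fin l | (j : ℕ) < 0} = ∅ := by
    ext j; simp
  rw [this, Set.image_empty, Submodule.span_empty]

theorem spanBefore_self {l : ℕ} (x : Fin l → M) :
    CycDet.spanBefore R M x l = Submodule.span R (Set.range x) := by
  unfold CycDet.spanBefore
  have : {j : Fin l | (j : ℕ) < l} = Set.univ := by
    ext j; simp
  rw [this, Set.image_univ]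

theorem spanBefore_snoc_of_le {l : ℕ} (x : Fin l → M) (y : M) {i : ℕ} (hi : i ≤ l) :
    CycDet.spanBefore R M (Fin.snoc x y : Fin (l + 1) → M) i = CycDet.spanBefore R M x i := by
  unfold CycDet.spanBefore
  congr 1
  ext m
  constructor
  · rintro ⟨j, hj, rfl⟩
    have hjl : (j : ℕ) < l := lt_of_lt_of_le hj hi
    refine ⟨⟨j, hjl⟩, hj, ?_⟩
    have : j = Fin.castSucc ⟨j, hjl⟩ := by ext; rfl
    rw [show (Fin.snoc x y : Fin (l + 1) → M) j
      = (Fin.snoc x y : Fin (l + 1) → M) (Fin.castSucc ⟨j, hjl⟩) from congrArg _ this,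
      Fin.snoc_castSucc]
  · rintro ⟨j, hj, rfl⟩
    refine ⟨Fin.castSucc j, hj, ?_⟩
    rw [Fin.snoc_castSucc]

theorem spanBefore_snoc_succ {l : ℕ} (x : Fin l → M) (y : M) :
    CycDet.spanBefore R M (Fin.snoc x y : Fin (l + 1) → M) (l + 1)
      = Submodule.span R (Set.range x) ⊔ Submodule.span R {y} := by
  rw [spanBefore_self, Fin.range_snoc, Set.insert_eq, Submodule.span_union, sup_comm]

/-- The successive quotients are `R/q`. -/
def Good (q : Ideal R) {l : ℕ} (x : Fin l → M) : Prop :=
  ∀ i : Fin l, Nonempty ((↥(CycDet.spanBefore R M x (i + 1)) ⧸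
    (CycDet.spanBefore R M x i).submoduleOf (CycDet.spanBefore R M x (i + 1))) ≃ₗ[R] (R ⧸ q))

variable {R M}

theorem ell_spanBefore (q : Ideal R) [q.IsPrime] {l : ℕ} (x : Fin l → M) (hx : Good R M q x)
    (i : ℕ) (hi : i ≤ l) : ell q (CycDet.spanBefore R M x i) = i := by
  induction i with
  | zero =>
    rw [spanBefore_zero]
    have : Subsingleton (LocalizedModule q.primeCompl (⊥ : Submodule R M)) := by
      refine ⟨fun a b => ?_⟩
      induction a using LocalizedModule.induction_on with
      | h m s =>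
      induction b using LocalizedModule.induction_on with
      | h m' t =>
        rw [Subsingleton.elim m 0, Subsingleton.elim m' 0, LocalizedModule.zero_mk,
          LocalizedModule.zero_mk]
    rw [ell_eq_zero_of_subsingleton]
    rfl
  | succ k ih =>
    have hk : k < l := hi
    obtain ⟨e⟩ := hx ⟨k, hk⟩
    rw [ell_submoduleOf' q M (CycDet.spanBefore R M x k) (CycDet.spanBefore R M x (k + 1))
      (spanBefore_mono R M x (Nat.le_succ k)), ih (le_of_lt hk), ell_congr q e, ell_quot_self]
    push_cast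
    rfl

theorem length_eq (q : PrimeSpectrum R) {l : ℕ} (x : Fin l → M)
    (hsupp : q ∉ Module.support R (M ⧸ Submodule.span R (Set.range x)))
    (hx : Good R M q.asIdeal x) :
    (l : ℕ∞) = Module.length (Localization.AtPrime q.asIdeal)
      (LocalizedModule q.asIdeal.primeCompl M) := by
  have h1 := ell_quotient q.asIdeal M (Submodule.span R (Set.range x))
  have h2 : ell q.asIdeal (Submodule.span R (Set.range x)) = l := by
    rw [← spanBefore_self R M x]
    exact ell_spanBefore q.asIdeal x hx l le_rfl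
  have h3 : ell q.asIdeal (M ⧸ Submodule.span R (Set.range x)) = 0 := by
    have := Module.notMem_support_iff.mp hsupp
    exact ell_eq_zero_of_subsingleton q.asIdeal _
  rw [h2, h3, add_zero] at h1
  exact h1.symm

/-- The quotient `(N + Ry)/N` when the colon ideal is `q`. -/
theorem nonempty_equiv_quot (q : Ideal R) (N : Submodule R M) (y : M)
    (hy : ∀ r : R, r ∈ q ↔ r • y ∈ N) :
    Nonempty ((↥(N ⊔ Submodule.span R {y}) ⧸ N.submoduleOf (N ⊔ Submodule.span R {y}))
      ≃ₗ[R] (R ⧸ q)) := by
  have hymem : y ∈ N ⊔ Submodule.span R {y} :=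
    Submodule.mem_sup_right (Submodule.mem_span_singleton_self y)
  let φ : R →ₗ[R] (↥(N ⊔ Submodule.span R {y}) ⧸ N.submoduleOf (N ⊔ Submodule.span R {y})) :=
    (Submodule.mkQ _).comp (LinearMap.toSpanSingleton R _ ⟨y, hymem⟩)
  have hφ : ∀ r : R, φ r = Submodule.Quotient.mk ⟨r • y, Submodule.smul_mem _ r hymem⟩ := by
    intro r
    rfl
  have hker : LinearMap.ker φ = q := by
    ext r
    rw [LinearMap.mem_ker, hφ, Submodule.Quotient.mk_eq_zero]
    change r • y ∈ N ↔ r ∈ q
    exact (hy r).symm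
  have hsurj : Function.Surjective φ := by
    intro z
    obtain ⟨⟨m, hm⟩, rfl⟩ := Submodule.Quotient.mk_surjective _ z
    obtain ⟨n, hn, w, hw, rfl⟩ := Submodule.mem_sup.mp hm
    obtain ⟨r, rfl⟩ := Submodule.mem_span_singleton.mp hw
    refine ⟨r, ?_⟩
    rw [hφ, Submodule.Quotient.eq]
    change r • y - (n + r • y) ∈ N
    have : r • y - (n + r • y) = -n := by abel
    rw [this]
    exact N.neg_mem hn
  exact ⟨((LinearMap.quotKerEquivOfSurjective φ hsurj).symm.trans
    (Submodule.quotEquivOfEq _ _ hker))⟩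

end Groth.Agent.Lib.Helper26.CycSeq2
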