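import Mathlib
import Groth.Prelude.Def_CycDet
import Groth.Agent.Lib.Helper26.CycSeq2

universe u

namespace Groth.Agent.Lib.Helper26.CycSeq3

open Groth.Agent.Lib.Helper26.CycSeq1 Groth.Agent.Lib.Helper26.CycSeq2

variable {R : Type u} [CommRing R] [IsNoetherianRing R] [IsLocalRing R] {M : Type u}
  [AddCommGroup M] [Module R M] [Module.Finite R M]

omit [IsNoetherianRing R] [Module.Finite R M] in
theorem good_snoc (q : Ideal R) {l : ℕ} (x : Fin l → M) (hx : Good R M q x) (y : M)
    (hy : ∀ r : R, r ∈ q ↔ r • y ∈ Submodule.span R (Set.range x)) :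
    Good R M q (Fin.snoc x y : Fin (l + 1) → M) := by
  intro i
  by_cases hi : (i : ℕ) < l
  · rw [spanBefore_snoc_of_le R M x y (Nat.succ_le_of_lt hi),
      spanBefore_snoc_of_le R M x y (le_of_lt hi)]
    exact hx ⟨i, hi⟩
  · have hil : (i : ℕ) = l := by
      have := i.2
      omega
    rw [hil, spanBefore_snoc_succ, spanBefore_snoc_of_le R M x y le_rfl, spanBefore_self]
    exact nonempty_equiv_quot q _ y hy

theorem exists_good (q : PrimeSpectrum R)
    (hq : Minimal (fun p : PrimeSpectrum R => p ∈ Module.support R M) q) :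
    ∃ (l : ℕ) (x : Fin l → M), q ∉ Module.support R (M ⧸ Submodule.span R (Set.range x)) ∧
      Good R M q.asIdeal x := by
  classical
  let 𝒮 : Set (Submodule R M) :=
    {N | ∃ (l : ℕ) (x : Fin l → M), N = Submodule.span R (Set.range x) ∧ Good R M q.asIdeal x}
  have hne : 𝒮.Nonempty := by
    refine ⟨⊥, 0, Fin.elim0, ?_, fun i => i.elim0⟩
    rw [Set.range_eq_empty, Submodule.span_empty]
  have hnoeth : IsNoetherian R M := inferInstance
  obtain ⟨N₀, ⟨l, x, hN₀, hx⟩, hmax⟩ := (set_has_maximal_iff_noetherian.mpr hnoeth) 𝒮 hne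
  refine ⟨l, x, ?_, hx⟩
  intro hsupp
  rw [← hN₀] at hsupp
  -- q is a minimal prime over the annihilator of M / N₀
  have hsub : Module.support R (M ⧸ N₀) ⊆ Module.support R M :=
    Module.support_subset_of_surjective N₀.mkQ N₀.mkQ_surjective
  have hmin : q.asIdeal ∈ (Module.annihilator R (M ⧸ N₀)).minimalPrimes := by
    rw [Module.support_eq_zeroLocus, PrimeSpectrum.mem_zeroLocus] at hsupp
    refine ⟨⟨q.2, hsupp⟩, ?_⟩
    rintro p' ⟨hp'prime, hp'ann⟩ hp'q
    have hp'supp : (⟨p', hp'prime⟩ : PrimeSpectrum R) ∈ Module.support R (M ⧸ N₀) := by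
      rw [Module.support_eq_zeroLocus, PrimeSpectrum.mem_zeroLocus]
      exact hp'ann
    have := hq.le_of_le (hsub hp'supp) (show (⟨p', hp'prime⟩ : PrimeSpectrum R) ≤ q from hp'q)
    exact this
  have hass := Module.associatedPrimes.minimalPrimes_annihilator_subset_associatedPrimes R
    (M ⧸ N₀) hmin
  obtain ⟨_, ybar, hybar⟩ := (isAssociatedPrime_iff).mp hass
  obtain ⟨y, rfl⟩ := N₀.mkQ_surjective ybar
  have hy : ∀ r : R, r ∈ q.asIdeal ↔ r • y ∈ N₀ := by
    intro r
    rw [hybar, Submodule.mem_colon_singleton, Submodule.mem_bot, ← map_smul, Submodule.mkQ_apply,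
      Submodule.Quotient.mk_eq_zero]
  have hyN : y ∉ N₀ := by
    intro h
    have : (1 : R) ∈ q.asIdeal := (hy 1).mpr (by rw [one_smul]; exact h)
    exact q.2.ne_top ((Ideal.eq_top_iff_one _).mpr this)
  -- extend
  have hgood' : Good R M q.asIdeal (Fin.snoc x y : Fin (l + 1) → M) :=
    good_snoc q.asIdeal x hx y (by rw [← hN₀]; exact hy)
  have hmem : Submodule.span R (Set.range (Fin.snoc x y : Fin (l + 1) → M)) ∈ 𝒮 :=
    ⟨l + 1, Fin.snoc x y, rfl, hgood'⟩
  apply hmax _ hmem
  rw [Fin.range_snoc, hN₀]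
  refine lt_of_le_of_ne (Submodule.span_mono (Set.subset_insert _ _)) ?_
  intro heq
  apply hyN
  rw [hN₀, heq]
  exact Submodule.subset_span (Set.mem_insert _ _)

theorem main (R : Type u) [CommRing R] [IsNoetherianRing R] [IsLocalRing R] (M : Type u)
    [AddCommGroup M] [Module R M] [Module.Finite R M] (q : PrimeSpectrum R)
    (hq : Minimal (fun p : PrimeSpectrum R => p ∈ Module.support R M) q) :
    (∃ (l : ℕ) (x : Fin l → M), q ∉ Module.support R (M ⧸ Submodule.span R (Set.range x)) ∧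
      ∀ i : Fin l, Nonempty ((↥(CycDet.spanBefore R M x (i + 1)) ⧸
        (CycDet.spanBefore R M x i).submoduleOf (CycDet.spanBefore R M x (i + 1))) ≃ₗ[R]
          (R ⧸ q.asIdeal))) ∧
    ∀ (l : ℕ) (x : Fin l → M), q ∉ Module.support R (M ⧸ Submodule.span R (Set.range x)) →
      (∀ i : Fin l, Nonempty ((↥(CycDet.spanBefore R M x (i + 1)) ⧸
        (CycDet.spanBefore R M x i).submoduleOf (CycDet.spanBefore R M x (i + 1))) ≃ₗ[R]
          (R ⧸ q.asIdeal))) →
      (l : ℕ∞) = Module.length (Localization.AtPrime q.asIdeal)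
        (LocalizedModule q.asIdeal.primeCompl M) := by
  refine ⟨?_, ?_⟩
  · obtain ⟨l, x, h1, h2⟩ := exists_good q hq
    exact ⟨l, x, h1, h2⟩
  · intro l x h1 h2
    exact length_eq q x h1 h2

end Groth.Agent.Lib.Helper26.CycSeq3
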