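import Mathlib

universe u

namespace Groth.Agent.Lib.Helper26.DPEnv

/-- Formal terms built from elements of `B`, ring operations and divided powers. -/
inductive Term (B : Type u) : Type u
  | const : B → Term B
  | add : Term B → Term B → Term B
  | mul : Term B → Term B → Term B
  | neg : Term B → Term B
  | dp : ℕ → Term B → Term B

section

variable {A B : Type u} [CommRing A] [CommRing B] [Algebra A B] {I : Ideal A}

/-- The objects of the category in which the divided power envelope is initial. -/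
structure Obj (γ : DividedPowers I) (J : Ideal B) : Type (u + 1) where
  C : Type u
  [ring : CommRing C]
  [alg : Algebra A C]
  K : Ideal C
  δ : DividedPowers K
  hδ : γ.IsDPMorphism δ (algebraMap A C)
  ψ : B →ₐ[A] C
  hψ : J.map ψ ≤ K

attribute [instance] Obj.ring Obj.alg

variable (γ : DividedPowers I) (J : Ideal B)

open Classical in
/-- Evaluation of terms in an object. Divided powers of terms which are not universally in the
ideal are evaluated to `0`. -/
noncomputable def ev : Term B → (X : Obj γ J) → X.C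
  | .const b, X => X.ψ b
  | .add s t, X => ev s X + ev t X
  | .mul s t, X => ev s X * ev t X
  | .neg s, X => - ev s X
  | .dp n s, X => if (∀ Y : Obj γ J, ev s Y ∈ Y.K) then X.δ.dpow n (ev s X) else 0

theorem ev_dp_pos (n : ℕ) (t : Term B) (X : Obj γ J) (h : ∀ Y : Obj γ J, ev γ J t Y ∈ Y.K) :
    ev γ J (Term.dp n t) X = X.δ.dpow n (ev γ J t X) := by
  classical
  change (if (∀ Y : Obj γ J, ev γ J t Y ∈ Y.K) then X.δ.dpow n (ev γ J t X) else 0) = _
  rw [if_pos h]

theorem ev_dp_neg (n : ℕ) (t : Term B) (X : Obj γ J) (h : ¬ ∀ Y : Obj γ J, ev γ J t Y ∈ Y.K) :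
    ev γ J (Term.dp n t) X = 0 := by
  classical
  change (if (∀ Y : Obj γ J, ev γ J t Y ∈ Y.K) then X.δ.dpow n (ev γ J t X) else 0) = _
  rw [if_neg h]

/-- Semantic equivalence of terms. -/
def rel : Setoid (Term B) where
  r s t := ∀ X : Obj γ J, ev γ J s X = ev γ J t X
  iseqv := ⟨fun _ _ => rfl, fun h X => (h X).symm, fun h1 h2 X => (h1 X).trans (h2 X)⟩

/-- The divided power envelope, as a type. -/
def D : Type u := Quotient (rel γ J)

/-- The class of a term. -/
def mk (t : Term B) : D γ J := Quotient.mk (rel γ J) t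

theorem mk_eq_iff {s t : Term B} : mk γ J s = mk γ J t ↔ ∀ X : Obj γ J, ev γ J s X = ev γ J t X :=
  ⟨fun h => Quotient.exact h, fun h => Quotient.sound h⟩

theorem ind {p : D γ J → Prop} (h : ∀ t, p (mk γ J t)) (d : D γ J) : p d :=
  Quotient.inductionOn d h

/-- Evaluation on the quotient. -/
noncomputable def evD (X : Obj γ J) : D γ J → X.C :=
  Quotient.lift (fun t => ev γ J t X) (fun _ _ h => h X)

@[simp] theorem evD_mk (X : Obj γ J) (t : Term B) : evD γ J X (mk γ J t) = ev γ J t X := rfl

theorem ext_ev {d d' : D γ J} (h : ∀ X : Obj γ J, evD γ J X d = evD γ J X d') : d = d' := by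
  induction d using ind with | h s => ?_
  induction d' using ind with | h t => ?_
  exact (mk_eq_iff γ J).mpr h

noncomputable instance : Zero (D γ J) := ⟨mk γ J (Term.const 0)⟩
noncomputable instance : One (D γ J) := ⟨mk γ J (Term.const 1)⟩
noncomputable instance : Add (D γ J) :=
  ⟨Quotient.map₂ Term.add (fun a a' ha b b' hb X => by
    change ev γ J a X + ev γ J b X = ev γ J a' X + ev γ J b' X
    rw [ha X, hb X])⟩
noncomputable instance : Mul (D γ J) :=
  ⟨Quotient.map₂ Term.mul (fun a a' ha b b' hb X => by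
    change ev γ J a X * ev γ J b X = ev γ J a' X * ev γ J b' X
    rw [ha X, hb X])⟩
noncomputable instance : Neg (D γ J) :=
  ⟨Quotient.map Term.neg (fun a a' ha X => by
    change - ev γ J a X = - ev γ J a' X
    rw [ha X])⟩

@[simp] theorem evD_zero (X : Obj γ J) : evD γ J X 0 = 0 := map_zero X.ψ
@[simp] theorem evD_one (X : Obj γ J) : evD γ J X 1 = 1 := map_one X.ψ
@[simp] theorem evD_add (X : Obj γ J) (a b : D γ J) :
    evD γ J X (a + b) = evD γ J X a + evD γ J X b := by
  induction a using ind with | h s => ?_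
  induction b using ind with | h t => ?_
  rfl
@[simp] theorem evD_mul (X : Obj γ J) (a b : D γ J) :
    evD γ J X (a * b) = evD γ J X a * evD γ J X b := by
  induction a using ind with | h s => ?_
  induction b using ind with | h t => ?_
  rfl
@[simp] theorem evD_neg (X : Obj γ J) (a : D γ J) :
    evD γ J X (-a) = - evD γ J X a := by
  induction a using ind with | h s => ?_
  rfl

noncomputable instance : CommRing (D γ J) :=
  CommRing.ofMinimalAxioms
    (fun a b c => ext_ev γ J fun X => by simp only [evD_add]; ring)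
    (fun a => ext_ev γ J fun X => by simp only [evD_add, evD_zero]; ring)
    (fun a => ext_ev γ J fun X => by simp only [evD_add, evD_neg, evD_zero]; ring)
    (fun a b c => ext_ev γ J fun X => by simp only [evD_mul]; ring)
    (fun a b => ext_ev γ J fun X => by simp only [evD_mul]; ring)
    (fun a => ext_ev γ J fun X => by simp only [evD_mul, evD_one]; ring)
    (fun a b c => ext_ev γ J fun X => by simp only [evD_mul, evD_add]; ring)

/-- Evaluation as a ring homomorphism. -/
noncomputable def evHom (X : Obj γ J) : D γ J →+* X.C where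
  toFun := evD γ J X
  map_one' := evD_one γ J X
  map_mul' := evD_mul γ J X
  map_zero' := evD_zero γ J X
  map_add' := evD_add γ J X

theorem evHom_apply (X : Obj γ J) (d : D γ J) : evHom γ J X d = evD γ J X d := rfl

/-- The structure map `B → D`. -/
noncomputable def ι : B →+* D γ J where
  toFun b := mk γ J (Term.const b)
  map_one' := rfl
  map_mul' a b := ext_ev γ J fun X => by
    rw [evD_mul]; exact map_mul X.ψ a b
  map_zero' := rfl
  map_add' a b := ext_ev γ J fun X => by
    rw [evD_add]; exact map_add X.ψ a b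

@[simp] theorem evD_ι (X : Obj γ J) (b : B) : evD γ J X (ι γ J b) = X.ψ b := rfl

noncomputable instance : Algebra B (D γ J) := (ι γ J).toAlgebra

theorem algebraMap_eq : algebraMap B (D γ J) = ι γ J := rfl

/-- The divided power ideal. -/
def KD : Ideal (D γ J) where
  carrier := {d | ∀ X : Obj γ J, evD γ J X d ∈ X.K}
  add_mem' := fun {a b} ha hb X => by rw [evD_add]; exact X.K.add_mem (ha X) (hb X)
  zero_mem' := fun X => by rw [evD_zero]; exact X.K.zero_mem
  smul_mem' := fun c {a} ha X => by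
    rw [smul_eq_mul, evD_mul]; exact X.K.mul_mem_left _ (ha X)

theorem mem_KD {d : D γ J} : d ∈ KD γ J ↔ ∀ X : Obj γ J, evD γ J X d ∈ X.K := Iff.rfl

open Classical in
/-- Divided powers on `D`. -/
noncomputable def dpowD (n : ℕ) : D γ J → D γ J :=
  Quotient.map (Term.dp n) (fun a a' ha X => by
    change (if (∀ Y : Obj γ J, ev γ J a Y ∈ Y.K) then X.δ.dpow n (ev γ J a X) else 0) =
      (if (∀ Y : Obj γ J, ev γ J a' Y ∈ Y.K) then X.δ.dpow n (ev γ J a' X) else 0)
    have : (∀ Y : Obj γ J, ev γ J a Y ∈ Y.K) ↔ (∀ Y : Obj γ J, ev γ J a' Y ∈ Y.K) := by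
      constructor
      · intro h Y; rw [← ha Y]; exact h Y
      · intro h Y; rw [ha Y]; exact h Y
    simp only [this, ha X])

theorem dpowD_mk (n : ℕ) (t : Term B) : dpowD γ J n (mk γ J t) = mk γ J (Term.dp n t) := rfl

theorem evD_dpowD_of_mem (X : Obj γ J) (n : ℕ) {d : D γ J} (hd : d ∈ KD γ J) :
    evD γ J X (dpowD γ J n d) = X.δ.dpow n (evD γ J X d) := by
  induction d using ind with | h t => ?_
  rw [dpowD_mk, evD_mk, evD_mk]
  exact ev_dp_pos γ J n t X hd

theorem dpowD_of_notMem (n : ℕ) {d : D γ J} (hd : d ∉ KD γ J) : dpowD γ J n d = 0 := by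
  induction d using ind with | h t => ?_
  apply ext_ev
  intro X
  rw [dpowD_mk, evD_mk, evD_zero]
  exact ev_dp_neg γ J n t X hd

theorem evD_natCast (X : Obj γ J) (n : ℕ) : evD γ J X (n : D γ J) = (n : X.C) :=
  map_natCast (evHom γ J X) n

theorem evD_pow (X : Obj γ J) (d : D γ J) (n : ℕ) : evD γ J X (d ^ n) = evD γ J X d ^ n :=
  map_pow (evHom γ J X) d n

theorem evD_sum {κ : Type*} (X : Obj γ J) (s : Finset κ) (f : κ → D γ J) :
    evD γ J X (∑ i ∈ s, f i) = ∑ i ∈ s, evD γ J X (f i) :=
  map_sum (evHom γ J X) f s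

/-- The divided power structure on `KD`. -/
noncomputable def γD : DividedPowers (KD γ J) where
  dpow := dpowD γ J
  dpow_null := fun {n x} hx => dpowD_of_notMem γ J n hx
  dpow_zero := fun {x} hx => ext_ev γ J fun X => by
    rw [evD_dpowD_of_mem γ J X 0 hx, evD_one]
    exact X.δ.dpow_zero (hx X)
  dpow_one := fun {x} hx => ext_ev γ J fun X => by
    rw [evD_dpowD_of_mem γ J X 1 hx]
    exact X.δ.dpow_one (hx X)
  dpow_mem := fun {n x} hn hx X => by
    rw [evD_dpowD_of_mem γ J X n hx]
    exact X.δ.dpow_mem hn (hx X)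
  dpow_add := fun {n x y} hx hy => ext_ev γ J fun X => by
    rw [evD_dpowD_of_mem γ J X n ((KD γ J).add_mem hx hy), evD_add, evD_sum,
      X.δ.dpow_add (hx X) (hy X)]
    refine Finset.sum_congr rfl fun k _ => ?_
    rw [evD_mul, evD_dpowD_of_mem γ J X _ hx, evD_dpowD_of_mem γ J X _ hy]
  dpow_mul := fun {n a x} hx => ext_ev γ J fun X => by
    rw [evD_dpowD_of_mem γ J X n ((KD γ J).mul_mem_left a hx), evD_mul, evD_mul, evD_pow,
      evD_dpowD_of_mem γ J X n hx]
    exact X.δ.dpow_mul (hx X)
  mul_dpow := fun {m n x} hx => ext_ev γ J fun X => by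
    rw [evD_mul, evD_mul, evD_natCast, evD_dpowD_of_mem γ J X _ hx, evD_dpowD_of_mem γ J X _ hx,
      evD_dpowD_of_mem γ J X _ hx]
    exact X.δ.mul_dpow (hx X)
  dpow_comp := fun {m n x} hn hx => ext_ev γ J fun X => by
    have h1 : dpowD γ J n x ∈ KD γ J := fun Y => by
      rw [evD_dpowD_of_mem γ J Y n hx]
      exact Y.δ.dpow_mem hn (hx Y)
    rw [evD_dpowD_of_mem γ J X m h1, evD_dpowD_of_mem γ J X n hx, evD_mul, evD_natCast,
      evD_dpowD_of_mem γ J X _ hx]
    exact X.δ.dpow_comp hn (hx X)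

theorem γD_dpow (n : ℕ) (d : D γ J) : (γD γ J).dpow n d = dpowD γ J n d := rfl

theorem map_le_KD : J.map (algebraMap B (D γ J)) ≤ KD γ J := by
  rw [Ideal.map_le_iff_le_comap]
  intro j hj X
  rw [algebraMap_eq, evD_ι]
  exact X.hψ (Ideal.mem_map_of_mem _ hj)

theorem isDPMorphism_base :
    γ.IsDPMorphism (γD γ J) ((algebraMap B (D γ J)).comp (algebraMap A B)) := by
  have hmem : ∀ a ∈ I, (algebraMap B (D γ J)) (algebraMap A B a) ∈ KD γ J := by
    intro a ha X
    rw [algebraMap_eq, evD_ι, AlgHom.commutes]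
    exact X.hδ.ideal_comp (Ideal.mem_map_of_mem _ ha)
  refine ⟨?_, ?_⟩
  · rw [Ideal.map_le_iff_le_comap]
    intro a ha
    exact hmem a ha
  · intro n a ha
    apply ext_ev
    intro X
    rw [γD_dpow, RingHom.comp_apply, evD_dpowD_of_mem γ J X n (hmem a ha), RingHom.comp_apply,
      algebraMap_eq, evD_ι, evD_ι, AlgHom.commutes, AlgHom.commutes]
    exact X.hδ.dpow_comp a ha

theorem universal (C : Type u) [CommRing C] [Algebra A C] (K : Ideal C) (δ : DividedPowers K)
    (hδ : γ.IsDPMorphism δ (algebraMap A C)) (ψ : B →ₐ[A] C) (hψ : J.map ψ ≤ K) :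
    ∃! χ : D γ J →+* C, χ.comp (algebraMap B (D γ J)) = ψ ∧ (γD γ J).IsDPMorphism δ χ := by
  let X : Obj γ J := ⟨C, K, δ, hδ, ψ, hψ⟩
  refine ⟨evHom γ J X, ⟨?_, ?_, ?_⟩, ?_⟩
  · exact RingHom.ext fun b => rfl
  · rw [Ideal.map_le_iff_le_comap]
    intro d hd
    exact hd X
  · intro n d hd
    exact (evD_dpowD_of_mem γ J X n hd).symm
  · rintro χ ⟨hχ1, hχ2⟩
    apply RingHom.ext
    intro d
    induction d using ind with | h t => ?_
    rw [evHom_apply, evD_mk]
    induction t with
    | const b =>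
      have := RingHom.congr_fun hχ1 b
      exact this
    | add s t ihs iht =>
      have : mk γ J (Term.add s t) = mk γ J s + mk γ J t := rfl
      rw [this, map_add, ihs, iht]
      rfl
    | mul s t ihs iht =>
      have : mk γ J (Term.mul s t) = mk γ J s * mk γ J t := rfl
      rw [this, map_mul, ihs, iht]
      rfl
    | neg s ihs =>
      have : mk γ J (Term.neg s) = - mk γ J s := rfl
      rw [this, map_neg, ihs]
      rfl
    | dp n s ihs =>
      by_cases hs : ∀ Y : Obj γ J, ev γ J s Y ∈ Y.K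
      · have h1 : mk γ J s ∈ KD γ J := hs
        have h2 : mk γ J (Term.dp n s) = (γD γ J).dpow n (mk γ J s) := rfl
        rw [h2, ← hχ2.dpow_comp _ h1, ihs, ev_dp_pos γ J n s X hs]
      · have h1 : mk γ J s ∉ KD γ J := hs
        have h2 : mk γ J (Term.dp n s) = dpowD γ J n (mk γ J s) := rfl
        rw [h2, dpowD_of_notMem γ J n h1, map_zero, ev_dp_neg γ J n s X hs]

theorem main {A B : Type u} [CommRing A] [CommRing B] [Algebra A B] {I : Ideal A}
    (γ : DividedPowers I) (J : Ideal B) (hIJ : I.map (algebraMap A B) ≤ J) :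
    ∃ (D : Type u) (_ : CommRing D) (_ : Algebra B D) (JD : Ideal D) (γD : DividedPowers JD),
      J.map (algebraMap B D) ≤ JD ∧
      γ.IsDPMorphism γD ((algebraMap B D).comp (algebraMap A B)) ∧
      ∀ (C : Type u) [CommRing C] [Algebra A C] (K : Ideal C) (δ : DividedPowers K),
        γ.IsDPMorphism δ (algebraMap A C) →
        ∀ ψ : B →ₐ[A] C, J.map ψ ≤ K →
          ∃! χ : D →+* C, χ.comp (algebraMap B D) = ψ ∧ γD.IsDPMorphism δ χ :=
  ⟨DPEnv.D γ J, inferInstance, inferInstance, KD γ J, DPEnv.γD γ J, map_le_KD γ J,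
    isDPMorphism_base γ J, fun C _ _ K δ hδ ψ hψ => universal γ J C K δ hδ ψ hψ⟩

end

end Groth.Agent.Lib.Helper26.DPEnv
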