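import Mathlib.RingTheory.DividedPowers.RatAlgebra
import Mathlib.Data.Nat.Choose.Vandermonde
import Mathlib.Combinatorics.Enumerative.Bell
import Mathlib.Tactic

namespace Groth.Agent.Lib.Helper26.DPGen1

open Finset Nat

variable {A : Type*} [CommRing A]

/-- A "pre-divided-power structure": all axioms except the product and composition rules. -/
structure PreDP (I : Ideal A) (d : ℕ → A → A) : Prop where
  null : ∀ (n : ℕ) (x : A), x ∉ I → d n x = 0
  zero : ∀ x ∈ I, d 0 x = 1
  one : ∀ x ∈ I, d 1 x = x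
  mem : ∀ (n : ℕ) (x : A), n ≠ 0 → x ∈ I → d n x ∈ I
  add : ∀ (n : ℕ) (x y : A), x ∈ I → y ∈ I →
      d n (x + y) = ∑ k ∈ antidiagonal n, d k.1 x * d k.2 y
  mul : ∀ (n : ℕ) (a x : A), x ∈ I → d n (a * x) = a ^ n * d n x

def MulOK (d : ℕ → A → A) (x : A) : Prop :=
  ∀ m n : ℕ, d m x * d n x = ((m + n).choose m : A) * d (m + n) x

def CompOK (d : ℕ → A → A) (x : A) : Prop :=
  ∀ m n : ℕ, n ≠ 0 → d m (d n x) = (Nat.uniformBell m n : A) * d (m * n) x

variable {I : Ideal A} {d : ℕ → A → A}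

theorem PreDP.eval_zero (h : PreDP I d) {n : ℕ} (hn : n ≠ 0) : d n 0 = 0 := by
  have := h.mul n 0 0 I.zero_mem
  rw [zero_mul, zero_pow hn, zero_mul] at this
  exact this

theorem vandermonde_aux {m n p q : ℕ} (hpq : p + q = m + n) :
    ∑ ab ∈ (antidiagonal m ×ˢ antidiagonal n) with
        (ab.1.1 + ab.2.1, ab.1.2 + ab.2.2) = (p, q), p.choose ab.1.1 * q.choose ab.1.2
      = (m + n).choose m := by
  rw [← hpq, Nat.add_choose_eq]
  refine Finset.sum_bij_ne_zero (fun ab _ _ => ab.1) ?_ ?_ ?_ ?_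
  · intro ab hab _
    simp only [mem_filter, mem_product] at hab
    exact hab.1.1
  · intro ab hab _ ab' hab' _ heq
    simp only [mem_filter, mem_product, HasAntidiagonal.mem_antidiagonal, Prod.mk.injEq] at hab hab'
    have h1 : ab.1.1 = ab'.1.1 := by rw [heq]
    have h2 : ab.1.2 = ab'.1.2 := by rw [heq]
    refine Prod.ext heq (Prod.ext ?_ ?_) <;> omega
  · intro a ha hne
    simp only [HasAntidiagonal.mem_antidiagonal] at ha
    have h1 : a.1 ≤ p := by
      by_contra hlt
      exact hne (by rw [Nat.choose_eq_zero_of_lt (not_le.mp hlt), zero_mul])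
    have h2 : a.2 ≤ q := by
      by_contra hlt
      exact hne (by rw [Nat.choose_eq_zero_of_lt (not_le.mp hlt), mul_zero])
    refine ⟨(a, (p - a.1, q - a.2)), ?_, hne, rfl⟩
    simp only [mem_filter, mem_product, HasAntidiagonal.mem_antidiagonal, Prod.mk.injEq]
    omega
  · intro ab _ _
    rfl

theorem mulOK_add (h : PreDP I d) {x y : A} (hx : x ∈ I) (hy : y ∈ I)
    (mx : MulOK d x) (my : MulOK d y) : MulOK d (x + y) := by
  intro m n
  rw [h.add m x y hx hy, h.add n x y hx hy, h.add (m + n) x y hx hy, Finset.sum_mul_sum,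
    ← Finset.sum_product', Finset.mul_sum]
  have hmaps : ∀ ab ∈ antidiagonal m ×ˢ antidiagonal n,
      (ab.1.1 + ab.2.1, ab.1.2 + ab.2.2) ∈ antidiagonal (m + n) := by
    intro ab hab
    simp only [mem_product, HasAntidiagonal.mem_antidiagonal] at hab ⊢
    omega
  rw [← Finset.sum_fiberwise_of_maps_to hmaps]
  refine Finset.sum_congr rfl ?_
  intro c hc
  simp only [HasAntidiagonal.mem_antidiagonal] at hc
  have key : ∀ ab ∈ (antidiagonal m ×ˢ antidiagonal n).filter
      (fun ab => (ab.1.1 + ab.2.1, ab.1.2 + ab.2.2) = c),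
      d ab.1.1 x * d ab.1.2 y * (d ab.2.1 x * d ab.2.2 y)
        = ((c.1.choose ab.1.1 * c.2.choose ab.1.2 : ℕ) : A) * (d c.1 x * d c.2 y) := by
    intro ab hab
    simp only [mem_filter] at hab
    have e1 : ab.1.1 + ab.2.1 = c.1 := by rw [← hab.2]
    have e2 : ab.1.2 + ab.2.2 = c.2 := by rw [← hab.2]
    have t1 := mx ab.1.1 ab.2.1
    have t2 := my ab.1.2 ab.2.2
    rw [e1] at t1
    rw [e2] at t2
    calc d ab.1.1 x * d ab.1.2 y * (d ab.2.1 x * d ab.2.2 y)
        = (d ab.1.1 x * d ab.2.1 x) * (d ab.1.2 y * d ab.2.2 y) := by ring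
      _ = _ := by rw [t1, t2]; push_cast; ring
  rw [Finset.sum_congr rfl key, ← Finset.sum_mul, ← Nat.cast_sum]
  have hv := vandermonde_aux (m := m) (n := n) (p := c.1) (q := c.2) hc
  have hc' : c = (c.1, c.2) := rfl
  rw [hc'] 
  simp only at hv ⊢
  rw [hv]

theorem mulOK_smul (h : PreDP I d) {x : A} (hx : x ∈ I) (a : A) (mx : MulOK d x) :
    MulOK d (a * x) := by
  intro m n
  rw [h.mul m a x hx, h.mul n a x hx, h.mul (m + n) a x hx]
  calc a ^ m * d m x * (a ^ n * d n x) = a ^ (m + n) * (d m x * d n x) := by ring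
    _ = _ := by rw [mx m n]; ring

theorem mulOK_zero (h : PreDP I d) : MulOK d 0 := by
  intro m n
  by_cases hm : m = 0
  · subst hm
    simp [h.zero 0 I.zero_mem]
  · rw [h.eval_zero hm, h.eval_zero (by omega : m + n ≠ 0)]
    simp

theorem mulOK_all (h : PreDP I d) {S : Set A} (hS : Ideal.span S = I)
    (hmul : ∀ x ∈ S, MulOK d x) : ∀ x ∈ I, MulOK d x := by
  intro x hx
  rw [← hS] at hx
  have hSI : ∀ y, y ∈ Ideal.span S → y ∈ I := fun y hy => hS ▸ hy
  induction hx using Submodule.span_induction with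
  | mem y hy => exact hmul y hy
  | zero => exact mulOK_zero h
  | add y z hy hz iy iz => exact mulOK_add h (hSI y hy) (hSI z hz) iy iz
  | smul a y hy iy => exact mulOK_smul h (hSI y hy) a iy

theorem pow_eq (h : PreDP I d) (hM : ∀ x ∈ I, MulOK d x) {x : A} (hx : x ∈ I) (n : ℕ) :
    x ^ n = (n ! : A) * d n x := by
  induction n with
  | zero => simp [h.zero x hx]
  | succ n ih =>
    have := hM x hx n 1
    rw [h.one x hx] at this
    rw [pow_succ, ih, mul_assoc, this, Nat.choose_symm_add, Nat.choose_one_right,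
      Nat.factorial_succ]
    push_cast
    ring

theorem prod_d (h : PreDP I d) (hM : ∀ x ∈ I, MulOK d x) {x : A} (hx : x ∈ I)
    {ι : Type*} (s : Finset ι) (n : ι → ℕ) :
    ∏ i ∈ s, d (n i) x = (Nat.multinomial s n : A) * d (∑ i ∈ s, n i) x := by
  classical
  induction s using Finset.induction with
  | empty => simp [h.zero x hx]
  | insert i s hi ih =>
    rw [prod_insert hi, ih, ← mul_assoc, mul_comm (d (n _) x), mul_assoc, hM x hx, ← sum_insert hi,
      ← mul_assoc]
    congr 1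
    rw [Nat.multinomial_insert hi, mul_comm, Nat.cast_mul, sum_insert hi]

end Groth.Agent.Lib.Helper26.DPGen1
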