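import Mathlib.RingTheory.DividedPowers.RatAlgebra
import Mathlib.Data.Nat.Choose.Vandermonde
import Mathlib.Combinatorics.Enumerative.Bell
import Mathlib.Tactic
import Groth.Agent.Lib.Helper26.DPGen1

namespace Groth.Agent.Lib.Helper26.DPGen2

open Finset Nat
open Groth.Agent.Lib.Helper26.DPGen1

variable {A : Type*} [CommRing A]
variable {I : Ideal A} {d : ℕ → A → A}

/-- The coefficient arising from `d k (d i x * d j y)`. -/
def coef (k i j : ℕ) : ℕ :=
  if i = 0 then Nat.uniformBell k j else if j = 0 then Nat.uniformBell k i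
  else k ! * Nat.uniformBell k i * Nat.uniformBell k j

def Pexp (n : ℕ) {m : ℕ} (k : Sym (ℕ × ℕ) m) : ℕ :=
  ∑ c ∈ antidiagonal n, Multiset.count c (k : Multiset (ℕ × ℕ)) * c.1

def Qexp (n : ℕ) {m : ℕ} (k : Sym (ℕ × ℕ) m) : ℕ :=
  ∑ c ∈ antidiagonal n, Multiset.count c (k : Multiset (ℕ × ℕ)) * c.2

def Ncoef (n : ℕ) {m : ℕ} (k : Sym (ℕ × ℕ) m) : ℕ :=
  (∏ c ∈ antidiagonal n, coef (Multiset.count c (k : Multiset (ℕ × ℕ))) c.1 c.2) *
    Nat.multinomial (antidiagonal n) (fun c => Multiset.count c (k : Multiset (ℕ × ℕ)) * c.1) *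
    Nat.multinomial (antidiagonal n) (fun c => Multiset.count c (k : Multiset (ℕ × ℕ)) * c.2)

theorem Pexp_add_Qexp (n : ℕ) {m : ℕ} (k : Sym (ℕ × ℕ) m) (hk : k ∈ (antidiagonal n).sym m) :
    (Pexp n k, Qexp n k) ∈ antidiagonal (m * n) := by
  rw [HasAntidiagonal.mem_antidiagonal]
  simp only [Pexp, Qexp]
  rw [← Finset.sum_add_distrib]
  have : ∀ c ∈ antidiagonal n, Multiset.count c (k : Multiset (ℕ × ℕ)) * c.1 +
      Multiset.count c (k : Multiset (ℕ × ℕ)) * c.2
      = Multiset.count c (k : Multiset (ℕ × ℕ)) * n := by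
    intro c hc
    rw [HasAntidiagonal.mem_antidiagonal] at hc
    rw [← mul_add, hc]
  rw [Finset.sum_congr rfl this, ← Finset.sum_mul]
  have e : ∑ c ∈ antidiagonal n, Multiset.count c (k : Multiset (ℕ × ℕ)) = m := by
    have := Multiset.sum_count_eq_card (s := antidiagonal n) (m := (k : Multiset (ℕ × ℕ)))
      (Finset.mem_sym_iff.mp hk)
    rw [Sym.card_coe] at this
    convert this
  rw [e]

theorem key_term (h : PreDP I d) (hM : ∀ x ∈ I, MulOK d x) {x y : A} (hx : x ∈ I) (hy : y ∈ I)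
    (cx : CompOK d x) (cy : CompOK d y) {n : ℕ} (hn : n ≠ 0) (κ : ℕ) (c : ℕ × ℕ)
    (hc : c ∈ antidiagonal n) :
    d κ (d c.1 x * d c.2 y) = (coef κ c.1 c.2 : A) * (d (κ * c.1) x * d (κ * c.2) y) := by
  rw [HasAntidiagonal.mem_antidiagonal] at hc
  obtain ⟨i, j⟩ := c
  simp only at hc ⊢
  by_cases hi : i = 0
  · subst hi
    have hj : j ≠ 0 := by omega
    rw [h.zero x hx, one_mul, cy κ j hj, mul_zero, h.zero x hx, one_mul]
    simp [coef]
  · by_cases hj : j = 0
    · subst hj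
      rw [h.zero y hy, mul_one, cx κ i hi, mul_zero, h.zero y hy, mul_one]
      simp [coef, hi]
    · rw [h.mul κ _ _ (h.mem j y hj hy), pow_eq h hM (h.mem i x hi hx), cx κ i hi, cy κ j hj]
      simp only [coef, hi, hj, if_false]
      push_cast
      ring

theorem mem_of_antidiagonal (h : PreDP I d) {x y : A} (hx : x ∈ I) (hy : y ∈ I) {n : ℕ}
    (hn : n ≠ 0) (c : ℕ × ℕ) (hc : c ∈ antidiagonal n) : d c.1 x * d c.2 y ∈ I := by
  rw [HasAntidiagonal.mem_antidiagonal] at hc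
  by_cases hi : c.1 = 0
  · exact I.mul_mem_left _ (h.mem _ y (by omega) hy)
  · exact I.mul_mem_right _ (h.mem _ x hi hx)

/-- Lemma A: the expansion of `d m (d n (x + y))`. -/
theorem expansion (h : PreDP I d) (hM : ∀ x ∈ I, MulOK d x) {x y : A} (hx : x ∈ I) (hy : y ∈ I)
    (cx : CompOK d x) (cy : CompOK d y) (m : ℕ) {n : ℕ} (hn : n ≠ 0) :
    d m (d n (x + y)) = ∑ k ∈ (antidiagonal n).sym m,
      (Ncoef n k : A) * (d (Pexp n k) x * d (Qexp n k) y) := by
  classical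
  rw [h.add n x y hx hy]
  have hz : ∀ c ∈ antidiagonal n, d c.1 x * d c.2 y ∈ I.toAddSubmonoid :=
    fun c hc => mem_of_antidiagonal h hx hy hn c hc
  rw [DividedPowers.dpow_sum' (I := I.toAddSubmonoid) d (fun {x} hx => h.zero x hx)
    (fun {n x y} hx hy => h.add n x y hx hy) (fun {n} hn => h.eval_zero hn) hz]
  refine Finset.sum_congr rfl ?_
  intro k hk
  rw [Finset.prod_congr rfl (fun c hc => key_term h hM hx hy cx cy hn
    (Multiset.count c (k : Multiset (ℕ × ℕ))) c hc), Finset.prod_mul_distrib,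
    Finset.prod_mul_distrib, prod_d h hM hx, prod_d h hM hy]
  simp only [Ncoef, Pexp, Qexp]
  push_cast
  ring

/-- The regrouped expansion. -/
theorem expansion' (h : PreDP I d) (hM : ∀ x ∈ I, MulOK d x) {x y : A} (hx : x ∈ I) (hy : y ∈ I)
    (cx : CompOK d x) (cy : CompOK d y) (m : ℕ) {n : ℕ} (hn : n ≠ 0) :
    d m (d n (x + y)) = ∑ c ∈ antidiagonal (m * n),
      ((∑ k ∈ (antidiagonal n).sym m with (Pexp n k, Qexp n k) = c, Ncoef n k : ℕ) : A) *
        (d c.1 x * d c.2 y) := by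
  classical
  rw [expansion h hM hx hy cx cy m hn,
    ← Finset.sum_fiberwise_of_maps_to (fun k hk => Pexp_add_Qexp n k hk)]
  refine Finset.sum_congr rfl ?_
  intro c hc
  rw [Nat.cast_sum, Finset.sum_mul]
  refine Finset.sum_congr rfl ?_
  intro k hk
  rw [mem_filter] at hk
  rw [← hk.2]

end Groth.Agent.Lib.Helper26.DPGen2
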