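import Mathlib.RingTheory.DividedPowers.RatAlgebra
import Mathlib.Data.Nat.Choose.Vandermonde
import Mathlib.Combinatorics.Enumerative.Bell
import Mathlib.Tactic
import Groth.Agent.Lib.Helper26.DPGen2

namespace Groth.Agent.Lib.Helper26.DPGen3

open Finset Nat
open Groth.Agent.Lib.Helper26.DPGen1 Groth.Agent.Lib.Helper26.DPGen2

variable {A : Type*} [CommRing A]

theorem preDP_of_dividedPowers {I : Ideal A} (γ : DividedPowers I) : PreDP I γ.dpow where
  null := fun _ _ hx => γ.dpow_null hx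
  zero := fun _ hx => γ.dpow_zero hx
  one := fun _ hx => γ.dpow_one hx
  mem := fun _ _ hn hx => γ.dpow_mem hn hx
  add := fun _ _ _ hx hy => γ.dpow_add hx hy
  mul := fun _ _ _ hx => γ.dpow_mul hx

theorem mulOK_of_dividedPowers {I : Ideal A} (γ : DividedPowers I) {x : A} (hx : x ∈ I) :
    MulOK γ.dpow x := fun _ _ => γ.mul_dpow hx

theorem compOK_of_dividedPowers {I : Ideal A} (γ : DividedPowers I) {x : A} (hx : x ∈ I) :
    CompOK γ.dpow x := fun _ _ hn => γ.dpow_comp hn hx

open Polynomial in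
theorem term_eq (γ : DividedPowers (⊤ : Ideal ℚ[X])) (a : ℕ) (p q : ℕ) :
    (a : ℚ[X]) * (γ.dpow p X * γ.dpow q 1) =
      C ((a : ℚ) * ((p ! : ℚ)⁻¹ * (q ! : ℚ)⁻¹)) * X ^ p := by
  rw [DividedPowers.RatAlgebra.dpow_eq_inv_fact_smul ⊤ γ (Submodule.mem_top),
    DividedPowers.RatAlgebra.dpow_eq_inv_fact_smul ⊤ γ (Submodule.mem_top),
    Ring.inverse_eq_inv', one_pow, Polynomial.smul_eq_C_mul,
    Polynomial.smul_eq_C_mul, C_mul, C_mul, ← map_natCast C a]
  ring

open Polynomial in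
theorem coeff_aux (γ : DividedPowers (⊤ : Ideal ℚ[X])) (a : ℕ × ℕ → ℕ) (N : ℕ) (c0 : ℕ × ℕ)
    (hc0 : c0 ∈ antidiagonal N) :
    (∑ c ∈ antidiagonal N, (a c : ℚ[X]) * (γ.dpow c.1 X * γ.dpow c.2 1)).coeff c0.1 =
      (a c0 : ℚ) * ((c0.1 ! : ℚ)⁻¹ * (c0.2 ! : ℚ)⁻¹) := by
  rw [Polynomial.finsetSum_coeff, Finset.sum_eq_single c0]
  · rw [term_eq, Polynomial.coeff_C_mul_X_pow, if_pos rfl]
  · intro c hc hne
    rw [term_eq, Polynomial.coeff_C_mul_X_pow, if_neg]
    intro h1
    apply hne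
    rw [HasAntidiagonal.mem_antidiagonal] at hc hc0
    refine Prod.ext h1.symm ?_
    omega
  · intro h; exact absurd hc0 h

/-- Lemma B: the combinatorial identity, proved via the universal example `ℚ[X]`. -/
theorem sum_Ncoef_eq (m : ℕ) {n : ℕ} (hn : n ≠ 0) (c0 : ℕ × ℕ) (hc0 : c0 ∈ antidiagonal (m * n)) :
    ∑ k ∈ (antidiagonal n).sym m with (Pexp n k, Qexp n k) = c0, Ncoef n k =
      Nat.uniformBell m n := by
  classical
  let γ : DividedPowers (⊤ : Ideal (Polynomial ℚ)) := DividedPowers.RatAlgebra.dividedPowers ⊤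
  have hP := preDP_of_dividedPowers γ
  have hM : ∀ x ∈ (⊤ : Ideal (Polynomial ℚ)), MulOK γ.dpow x :=
    fun x hx => mulOK_of_dividedPowers γ hx
  have hX : (Polynomial.X : Polynomial ℚ) ∈ (⊤ : Ideal (Polynomial ℚ)) := Submodule.mem_top
  have h1 : (1 : Polynomial ℚ) ∈ (⊤ : Ideal (Polynomial ℚ)) := Submodule.mem_top
  have e1 := expansion' hP hM hX h1 (compOK_of_dividedPowers γ hX) (compOK_of_dividedPowers γ h1)
    m hn
  rw [γ.dpow_comp hn Submodule.mem_top, γ.dpow_add hX h1, Finset.mul_sum] at e1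
  have e2 := congrArg (fun f => Polynomial.coeff f c0.1) e1
  rw [coeff_aux γ (fun _ => Nat.uniformBell m n) (m * n) c0 hc0,
    coeff_aux γ (fun c => ∑ k ∈ (antidiagonal n).sym m with (Pexp n k, Qexp n k) = c, Ncoef n k)
      (m * n) c0 hc0] at e2
  have hne : ((c0.1 ! : ℚ)⁻¹ * (c0.2 ! : ℚ)⁻¹) ≠ 0 := by positivity
  have e3 := mul_right_cancel₀ hne e2
  exact_mod_cast e3.symm

variable {I : Ideal A} {d : ℕ → A → A}

theorem compOK_add (h : PreDP I d) (hM : ∀ x ∈ I, MulOK d x) {x y : A} (hx : x ∈ I) (hy : y ∈ I)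
    (cx : CompOK d x) (cy : CompOK d y) : CompOK d (x + y) := by
  intro m n hn
  rw [expansion' h hM hx hy cx cy m hn, h.add (m * n) x y hx hy, Finset.mul_sum]
  refine Finset.sum_congr rfl ?_
  intro c hc
  rw [sum_Ncoef_eq m hn c hc]

theorem compOK_smul (h : PreDP I d) {x : A} (hx : x ∈ I) (a : A) (cx : CompOK d x) :
    CompOK d (a * x) := by
  intro m n hn
  rw [h.mul n a x hx, h.mul m _ _ (h.mem n x hn hx), cx m n hn, h.mul (m * n) a x hx]
  ring

theorem compOK_zero (h : PreDP I d) : CompOK d 0 := by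
  intro m n hn
  rw [h.eval_zero hn]
  by_cases hm : m = 0
  · subst hm
    simp [h.zero 0 I.zero_mem, Nat.uniformBell_zero_left]
  · rw [h.eval_zero hm, h.eval_zero (Nat.mul_ne_zero hm hn), mul_zero]

theorem compOK_all (h : PreDP I d) (hM : ∀ x ∈ I, MulOK d x) {S : Set A} (hS : Ideal.span S = I)
    (hcomp : ∀ x ∈ S, CompOK d x) : ∀ x ∈ I, CompOK d x := by
  intro x hx
  rw [← hS] at hx
  have hSI : ∀ y, y ∈ Ideal.span S → y ∈ I := fun y hy => hS ▸ hy
  induction hx using Submodule.span_induction with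
  | mem y hy => exact hcomp y hy
  | zero => exact compOK_zero h
  | add y z hy hz iy iz => exact compOK_add h hM (hSI y hy) (hSI z hz) iy iz
  | smul a y hy iy => exact compOK_smul h (hSI y hy) a iy

/-- Divided powers from a pre-structure satisfying the product and composition rule on
generators. -/
theorem exists_dividedPowers (h : PreDP I d) {S : Set A} (hS : Ideal.span S = I)
    (hmul : ∀ x ∈ S, MulOK d x) (hcomp : ∀ x ∈ S, CompOK d x) :
    ∃ γ : DividedPowers I, γ.dpow = d := by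
  have hM := mulOK_all h hS hmul
  have hC := compOK_all h hM hS hcomp
  exact ⟨{ dpow := d
           dpow_null := fun {n x} hx => h.null n x hx
           dpow_zero := fun {x} hx => h.zero x hx
           dpow_one := fun {x} hx => h.one x hx
           dpow_mem := fun {n x} hn hx => h.mem n x hn hx
           dpow_add := fun {n x y} hx hy => h.add n x y hx hy
           dpow_mul := fun {n a x} hx => h.mul n a x hx
           mul_dpow := fun {m n x} hx => hM x hx m n
           dpow_comp := fun {m n x} hn hx => hC x hx m n hn }, rfl⟩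

end Groth.Agent.Lib.Helper26.DPGen3
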