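import Mathlib.RingTheory.DividedPowers.RatAlgebra
import Mathlib.RingTheory.DividedPowers.DPMorphism
import Mathlib.RingTheory.Flat.EquationalCriterion
import Mathlib.Data.Nat.Choose.Vandermonde
import Mathlib.Combinatorics.Enumerative.Bell
import Mathlib.Tactic
import Groth.Agent.Lib.Helper26.DPGen3

namespace Groth.Agent.Lib.Helper26.DPFlat1

open Finset Nat
open Groth.Agent.Lib.Helper26.DPGen1 Groth.Agent.Lib.Helper26.DPGen3

variable {A : Type*} {B : Type*} [CommRing A] [CommRing B] [Algebra A B] {I : Ideal A}
  (γ : DividedPowers I)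

/-- The image in `B⟦T⟧` of the exponential series of `x`. -/
noncomputable def G (x : A) : PowerSeries B := PowerSeries.map (algebraMap A B) (γ.exp x)

@[simp] theorem coeff_G (x : A) (n : ℕ) :
    PowerSeries.coeff n (G (B := B) γ x) = algebraMap A B (γ.dpow n x) := by
  simp [G, DividedPowers.exp]

theorem G_zero : G (B := B) γ 0 = 1 := by
  ext n
  rw [coeff_G, PowerSeries.coeff_one]
  split_ifs with hn
  · subst hn; rw [γ.dpow_zero I.zero_mem, map_one]
  · rw [γ.dpow_eval_zero hn, map_zero]

theorem G_add {x y : A} (hx : x ∈ I) (hy : y ∈ I) :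
    G (B := B) γ (x + y) = G γ x * G γ y := by
  rw [G, γ.exp_add hx hy, map_mul]; rfl

theorem G_sum {κ : Type*} (s : Finset κ) (x : κ → A) (hx : ∀ j ∈ s, x j ∈ I) :
    G (B := B) γ (∑ j ∈ s, x j) = ∏ j ∈ s, G γ (x j) := by
  classical
  induction s using Finset.induction with
  | empty => simp [G_zero]
  | insert j s hj ih =>
    rw [Finset.sum_insert hj, Finset.prod_insert hj,
      G_add γ (hx j (Finset.mem_insert_self j s))
        (I.sum_mem fun i hi => hx i (Finset.mem_insert_of_mem hi)),
      ih fun i hi => hx i (Finset.mem_insert_of_mem hi)]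

theorem rescale_G (a : A) {x : A} (hx : x ∈ I) :
    PowerSeries.rescale (algebraMap A B a) (G γ x) = G γ (a * x) := by
  ext n
  rw [PowerSeries.coeff_rescale, coeff_G, coeff_G, γ.dpow_mul hx, map_mul, map_pow]

theorem rescale_add_of_binomial (g : PowerSeries B)
    (hg : ∀ i j : ℕ, PowerSeries.coeff i g * PowerSeries.coeff j g =
      ((i + j).choose i : B) * PowerSeries.coeff (i + j) g) (b b' : B) :
    PowerSeries.rescale (b + b') g = PowerSeries.rescale b g * PowerSeries.rescale b' g := by
  ext n
  rw [PowerSeries.coeff_rescale, PowerSeries.coeff_mul, (Commute.all b b').add_pow',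
    Finset.sum_mul]
  refine Finset.sum_congr rfl ?_
  intro k hk
  rw [HasAntidiagonal.mem_antidiagonal] at hk
  rw [PowerSeries.coeff_rescale, PowerSeries.coeff_rescale]
  calc (n.choose k.1 • (b ^ k.1 * b' ^ k.2)) * PowerSeries.coeff n g
      = b ^ k.1 * b' ^ k.2 * (((k.1 + k.2).choose k.1 : B) * PowerSeries.coeff (k.1 + k.2) g) := by
        rw [hk, nsmul_eq_mul]; ring
    _ = b ^ k.1 * PowerSeries.coeff k.1 g * (b' ^ k.2 * PowerSeries.coeff k.2 g) := by
        rw [← hg]; ring

theorem G_binomial {x : A} (hx : x ∈ I) (i j : ℕ) :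
    PowerSeries.coeff i (G (B := B) γ x) * PowerSeries.coeff j (G γ x) =
      ((i + j).choose i : B) * PowerSeries.coeff (i + j) (G γ x) := by
  rw [coeff_G, coeff_G, coeff_G, ← map_mul, γ.mul_dpow hx, map_mul, map_natCast]

theorem rescale_zero_G {x : A} (hx : x ∈ I) : PowerSeries.rescale (0 : B) (G γ x) = 1 := by
  rw [PowerSeries.rescale_zero_apply, ← PowerSeries.coeff_zero_eq_constantCoeff_apply, coeff_G,
    γ.dpow_zero hx, map_one, map_one]

/-- The multiplicative "exponential" on formal combinations. -/
noncomputable def Efun (l : I →₀ B) : PowerSeries B :=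
  l.prod (fun x b => PowerSeries.rescale b (G γ (x : A)))

theorem Efun_zero : Efun (B := B) γ 0 = 1 := Finsupp.prod_zero_index

theorem Efun_add (l l' : I →₀ B) : Efun γ (l + l') = Efun γ l * Efun γ l' := by
  refine Finsupp.prod_add_index' (fun x => rescale_zero_G γ x.2) ?_
  intro x b b'
  exact rescale_add_of_binomial _ (G_binomial γ x.2) b b'

theorem Efun_single (x : I) (b : B) :
    Efun γ (Finsupp.single x b) = PowerSeries.rescale b (G γ (x : A)) :=
  Finsupp.prod_single_index (rescale_zero_G γ x.2)

theorem Efun_sum {κ : Type*} (s : Finset κ) (g : κ → I →₀ B) :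
    Efun γ (∑ j ∈ s, g j) = ∏ j ∈ s, Efun γ (g j) := by
  classical
  induction s using Finset.induction with
  | empty => simp [Efun_zero]
  | insert j s hj ih => rw [Finset.sum_insert hj, Finset.prod_insert hj, Efun_add, ih]

theorem Efun_smul (b : B) (l : I →₀ B) : Efun γ (b • l) = PowerSeries.rescale b (Efun γ l) := by
  induction l using Finsupp.induction_linear with
  | zero => rw [smul_zero, Efun_zero, map_one]
  | add l l' ih ih' => rw [smul_add, Efun_add, Efun_add, ih, ih', map_mul]
  | single x c =>
    rw [Finsupp.smul_single, Efun_single, Efun_single, smul_eq_mul, PowerSeries.rescale_rescale,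
      mul_comm]

/-- The linear combination map `(I →₀ B) → B`. -/
noncomputable def piB (l : I →₀ B) : B := l.sum (fun x b => b * algebraMap A B (x : A))

theorem piB_zero : piB (B := B) (I := I) 0 = 0 := Finsupp.sum_zero_index

theorem piB_add (l l' : I →₀ B) : piB (l + l') = piB l + piB l' := by
  refine Finsupp.sum_add_index' (fun x => zero_mul _) ?_
  intro x b b'
  exact add_mul _ _ _

theorem piB_single (x : I) (b : B) : piB (Finsupp.single x b) = b * algebraMap A B (x : A) :=
  Finsupp.sum_single_index (zero_mul _)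

theorem piB_smul (b : B) (l : I →₀ B) : piB (b • l) = b * piB l := by
  induction l using Finsupp.induction_linear with
  | zero => rw [smul_zero, piB_zero, mul_zero]
  | add l l' ih ih' => rw [smul_add, piB_add, piB_add, ih, ih', mul_add]
  | single x c => rw [Finsupp.smul_single, piB_single, piB_single, smul_eq_mul, mul_assoc]

theorem piB_neg (l : I →₀ B) : piB (-l) = - piB l := by
  have := piB_smul (-1 : B) l
  rwa [neg_one_smul, neg_one_mul] at this

theorem coeff_zero_Efun (l : I →₀ B) : PowerSeries.coeff 0 (Efun γ l) = 1 := by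
  induction l using Finsupp.induction_linear with
  | zero => rw [Efun_zero, PowerSeries.coeff_zero_one]
  | add l l' ih ih' =>
    rw [Efun_add, PowerSeries.coeff_mul, Finset.Nat.antidiagonal_zero, Finset.sum_singleton, ih,
      ih', one_mul]
  | single x c =>
    rw [Efun_single, PowerSeries.coeff_rescale, pow_zero, one_mul, coeff_G, γ.dpow_zero x.2,
      map_one]

theorem coeff_one_Efun (l : I →₀ B) : PowerSeries.coeff 1 (Efun γ l) = piB l := by
  induction l using Finsupp.induction_linear with
  | zero => rw [Efun_zero, piB_zero, PowerSeries.coeff_one, if_neg one_ne_zero]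
  | add l l' ih ih' =>
    rw [Efun_add, piB_add, PowerSeries.coeff_mul, Finset.Nat.sum_antidiagonal_succ,
      Finset.Nat.antidiagonal_zero, Finset.sum_singleton]
    simp only [zero_add]
    rw [ih, ih', coeff_zero_Efun, coeff_zero_Efun]
    ring
  | single x c =>
    rw [Efun_single, PowerSeries.coeff_rescale, pow_one, coeff_G, γ.dpow_one x.2, piB_single]

theorem coeff_Efun_mem (l : I →₀ B) {n : ℕ} (hn : n ≠ 0) :
    PowerSeries.coeff n (Efun γ l) ∈ I.map (algebraMap A B) := by
  induction l using Finsupp.induction_linear generalizing n with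
  | zero => rw [Efun_zero, PowerSeries.coeff_one, if_neg hn]; exact Ideal.zero_mem _
  | add l l' ih ih' =>
    rw [Efun_add, PowerSeries.coeff_mul]
    refine Ideal.sum_mem _ ?_
    intro k hk
    rw [HasAntidiagonal.mem_antidiagonal] at hk
    by_cases h1 : k.1 = 0
    · exact Ideal.mul_mem_left _ _ (ih' (by omega))
    · exact Ideal.mul_mem_right _ _ (ih h1)
  | single x c =>
    rw [Efun_single, PowerSeries.coeff_rescale, coeff_G]
    exact Ideal.mul_mem_left _ _ (Ideal.mem_map_of_mem _ (γ.dpow_mem hn x.2))

theorem piB_mem (l : I →₀ B) : piB l ∈ I.map (algebraMap A B) := by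
  induction l using Finsupp.induction_linear with
  | zero => rw [piB_zero]; exact Ideal.zero_mem _
  | add l l' ih ih' => rw [piB_add]; exact Ideal.add_mem _ ih ih'
  | single x c =>
    rw [piB_single]
    exact Ideal.mul_mem_left _ _ (Ideal.mem_map_of_mem _ x.2)

theorem exists_piB_eq {z : B} (hz : z ∈ I.map (algebraMap A B)) : ∃ l : I →₀ B, piB l = z := by
  rw [Ideal.map, ] at hz
  induction hz using Submodule.span_induction with
  | mem y hy =>
    obtain ⟨x, hx, rfl⟩ := hy
    exact ⟨Finsupp.single ⟨x, hx⟩ 1, by rw [piB_single, one_mul]⟩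
  | zero => exact ⟨0, piB_zero⟩
  | add y z _ _ iy iz =>
    obtain ⟨l, rfl⟩ := iy
    obtain ⟨l', rfl⟩ := iz
    exact ⟨l + l', piB_add l l'⟩
  | smul b y _ iy =>
    obtain ⟨l, rfl⟩ := iy
    exact ⟨b • l, by rw [piB_smul, smul_eq_mul]⟩

end Groth.Agent.Lib.Helper26.DPFlat1
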