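import Mathlib.RingTheory.DividedPowers.RatAlgebra
import Mathlib.RingTheory.DividedPowers.DPMorphism
import Mathlib.RingTheory.Flat.EquationalCriterion
import Mathlib.Data.Nat.Choose.Vandermonde
import Mathlib.Combinatorics.Enumerative.Bell
import Mathlib.Tactic
import Groth.Agent.Lib.Helper26.DPFlat1

namespace Groth.Agent.Lib.Helper26.DPFlat2

open Finset Nat
open Groth.Agent.Lib.Helper26.DPGen1 Groth.Agent.Lib.Helper26.DPGen3
  Groth.Agent.Lib.Helper26.DPFlat1

variable {A : Type*} {B : Type*} [CommRing A] [CommRing B] [Algebra A B] {I : Ideal A}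
  (γ : DividedPowers I)

theorem Efun_eq_one_of_piB_eq_zero [Module.Flat A B] (l : I →₀ B) (hl : piB l = 0) :
    Efun γ l = 1 := by
  classical
  have hrel : ∑ i : l.support, ((i : I) : A) • l (i : I) = 0 := by
    rw [← hl, piB, Finsupp.sum, ← Finset.sum_coe_sort l.support]
    refine Finset.sum_congr rfl ?_
    intro i _
    rw [Algebra.smul_def, mul_comm]
  obtain ⟨k, a, y, hxy, hz⟩ := Module.Flat.isTrivialRelation_of_sum_smul_eq_zero (R := A) (M := B)
    (f := fun i : l.support => (((i : I) : I) : A)) (x := fun i : l.support => l (i : I)) hrel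
  simp only at hxy hz
  have e1 : l = ∑ j : Fin k, y j • ∑ i : l.support,
      Finsupp.single (i : I) (algebraMap A B (a i j)) := by
    conv_lhs => rw [← Finsupp.sum_single l, Finsupp.sum, ← Finset.sum_coe_sort l.support]
    simp only [Finset.smul_sum]
    rw [Finset.sum_comm]
    refine Finset.sum_congr rfl ?_
    intro i _
    rw [hxy i, Finsupp.single_finsetSum]
    refine Finset.sum_congr rfl ?_
    intro j _
    rw [Finsupp.smul_single, Algebra.smul_def, smul_eq_mul, mul_comm]
  rw [e1, Efun_sum]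
  refine Finset.prod_eq_one ?_
  intro j _
  rw [Efun_smul, Efun_sum]
  have e2 : ∀ i ∈ (Finset.univ : Finset l.support),
      Efun γ (Finsupp.single (i : I) (algebraMap A B (a i j))) = G γ (a i j * ((i : I) : A)) := by
    intro i _
    rw [Efun_single, rescale_G γ _ (i : I).2]
  rw [Finset.prod_congr rfl e2, ← G_sum γ Finset.univ (fun i : l.support => a i j * ((i : I) : A))
    (fun i _ => I.mul_mem_left _ (i : I).2)]
  have e3 : ∑ i : l.support, a i j * ((i : I) : A) = 0 := by
    rw [← hz j]
    refine Finset.sum_congr rfl ?_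
    intro i _
    rw [mul_comm]
  rw [e3, G_zero, map_one]

theorem Efun_eq_of_piB_eq [Module.Flat A B] {l l' : I →₀ B} (h : piB l = piB l') :
    Efun γ l = Efun γ l' := by
  have e : l = l' + (l + -l') := by abel
  have h0 : piB (l + -l') = 0 := by rw [piB_add, piB_neg, h, add_neg_cancel]
  rw [e, Efun_add, Efun_eq_one_of_piB_eq_zero γ _ h0, mul_one]

open Classical in
/-- The extended divided power maps. -/
noncomputable def del (n : ℕ) (z : B) : B :=
  if hz : z ∈ I.map (algebraMap A B) then
    PowerSeries.coeff n (Efun γ (exists_piB_eq hz).choose)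
  else 0

variable [Module.Flat A B]

theorem del_eq (l : I →₀ B) (n : ℕ) : del γ n (piB l) = PowerSeries.coeff n (Efun γ l) := by
  rw [del, dif_pos (piB_mem l), Efun_eq_of_piB_eq γ (exists_piB_eq (piB_mem l)).choose_spec]

theorem del_algebraMap {x : A} (hx : x ∈ I) (n : ℕ) :
    del γ n (algebraMap A B x) = algebraMap A B (γ.dpow n x) := by
  have : algebraMap A B x = piB (Finsupp.single (⟨x, hx⟩ : I) (1 : B)) := by
    rw [piB_single, one_mul]
  rw [this, del_eq, Efun_single, PowerSeries.coeff_rescale, one_pow, one_mul, coeff_G]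

theorem preDP_del : PreDP (I.map (algebraMap A B)) (del γ) where
  null := fun n x hx => by rw [del, dif_neg hx]
  zero := fun x hx => by
    obtain ⟨l, rfl⟩ := exists_piB_eq hx
    rw [del_eq, coeff_zero_Efun]
  one := fun x hx => by
    obtain ⟨l, rfl⟩ := exists_piB_eq hx
    rw [del_eq, coeff_one_Efun]
  mem := fun n x hn hx => by
    obtain ⟨l, rfl⟩ := exists_piB_eq hx
    rw [del_eq]
    exact coeff_Efun_mem γ l hn
  add := fun n x y hx hy => by
    obtain ⟨l, rfl⟩ := exists_piB_eq hx
    obtain ⟨l', rfl⟩ := exists_piB_eq hy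
    rw [← piB_add, del_eq, Efun_add, PowerSeries.coeff_mul]
    refine Finset.sum_congr rfl ?_
    intro k _
    rw [del_eq, del_eq]
  mul := fun n b x hx => by
    obtain ⟨l, rfl⟩ := exists_piB_eq hx
    rw [← piB_smul, del_eq, del_eq, Efun_smul, PowerSeries.coeff_rescale]

theorem exists_extension : ∃ δ : DividedPowers (I.map (algebraMap A B)),
    γ.IsDPMorphism δ (algebraMap A B) := by
  have hP := preDP_del (B := B) γ
  have hS : Ideal.span ((algebraMap A B) '' (I : Set A)) = I.map (algebraMap A B) := rfl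
  obtain ⟨δ, hδ⟩ := exists_dividedPowers hP hS
    (by
      rintro _ ⟨x, hx, rfl⟩ m n
      rw [del_algebraMap γ hx, del_algebraMap γ hx, del_algebraMap γ hx, ← map_mul,
        γ.mul_dpow hx, map_mul, map_natCast])
    (by
      rintro _ ⟨x, hx, rfl⟩ m n hn
      rw [del_algebraMap γ hx, del_algebraMap γ (γ.dpow_mem hn hx), del_algebraMap γ hx,
        γ.dpow_comp hn hx, map_mul, map_natCast])
  refine ⟨δ, le_refl _, ?_⟩
  intro n a ha
  rw [hδ]
  exact del_algebraMap γ ha n

omit [Module.Flat A B] in
theorem extension_unique (δ δ' : DividedPowers (I.map (algebraMap A B)))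
    (h : γ.IsDPMorphism δ (algebraMap A B)) (h' : γ.IsDPMorphism δ' (algebraMap A B)) :
    δ = δ' := by
  refine DividedPowers.ext _ _ ?_
  intro n z hz
  have hS : ∀ y, y ∈ Ideal.span ((algebraMap A B) '' (I : Set A)) →
      y ∈ I.map (algebraMap A B) := fun y hy => hy
  change z ∈ Ideal.span ((algebraMap A B) '' (I : Set A)) at hz
  induction hz using Submodule.span_induction generalizing n with
  | mem y hy =>
    obtain ⟨x, hx, rfl⟩ := hy
    rw [h.dpow_comp x hx, h'.dpow_comp x hx]
  | zero =>
    by_cases hn : n = 0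
    · subst hn; rw [δ.dpow_zero (Ideal.zero_mem _), δ'.dpow_zero (Ideal.zero_mem _)]
    · rw [δ.dpow_eval_zero hn, δ'.dpow_eval_zero hn]
  | add y z hy hz iy iz =>
    rw [δ.dpow_add (hS y hy) (hS z hz), δ'.dpow_add (hS y hy) (hS z hz)]
    refine Finset.sum_congr rfl ?_
    intro k _
    rw [iy, iz]
  | smul b y hy iy =>
    rw [smul_eq_mul, δ.dpow_mul (hS y hy), δ'.dpow_mul (hS y hy), iy]

end Groth.Agent.Lib.Helper26.DPFlat2
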