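import Mathlib.RingTheory.DividedPowers.RatAlgebra
import Mathlib.Data.Nat.Choose.Vandermonde
import Mathlib.Combinatorics.Enumerative.Bell
import Mathlib.Tactic
import Groth.Agent.Lib.Helper26.DPGen3

namespace Groth.Agent.Lib.Helper26.DPSup

open Finset Nat
open Groth.Agent.Lib.Helper26.DPGen1 Groth.Agent.Lib.Helper26.DPGen3

variable {A : Type*} [CommRing A] {I J : Ideal A} (γ : DividedPowers I) (δ : DividedPowers J)

theorem exp_zero : γ.exp 0 = 1 := by
  ext n
  rw [DividedPowers.exp, PowerSeries.coeff_mk, PowerSeries.coeff_one]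
  split_ifs with hn
  · subst hn; exact γ.dpow_zero I.zero_mem
  · exact γ.dpow_eval_zero hn

theorem exp_smul (c : A) {a : A} (ha : a ∈ I) (n : ℕ) :
    PowerSeries.coeff n (γ.exp (c * a)) = c ^ n * PowerSeries.coeff n (γ.exp a) := by
  simp only [DividedPowers.exp, PowerSeries.coeff_mk]
  exact γ.dpow_mul ha

section
variable (h : ∀ (n : ℕ) (x : A), x ∈ I ⊓ J → γ.dpow n x = δ.dpow n x)
include h

theorem welldef {a a' b b' : A} (ha : a ∈ I) (ha' : a' ∈ I) (hb : b ∈ J) (hb' : b' ∈ J)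
    (heq : a + b = a' + b') : γ.exp a * δ.exp b = γ.exp a' * δ.exp b' := by
  have hcI : a - a' ∈ I := I.sub_mem ha ha'
  have hc : a - a' = b' - b := by
    have : a - a' + (a' + b) = b' - b + (a' + b) := by
      calc a - a' + (a' + b) = a + b := by ring
        _ = a' + b' := heq
        _ = b' - b + (a' + b) := by ring
    exact add_right_cancel this
  have hcJ : a - a' ∈ J := hc ▸ J.sub_mem hb' hb
  have e1 : γ.exp (a - a') = δ.exp (a - a') := by
    ext n
    simp only [DividedPowers.exp, PowerSeries.coeff_mk]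
    exact h n _ ⟨hcI, hcJ⟩
  have e2 : γ.exp a = γ.exp a' * γ.exp (a - a') := by
    rw [← γ.exp_add ha' hcI]; congr 1; ring
  have e3 : δ.exp b' = δ.exp b * δ.exp (a - a') := by
    rw [← δ.exp_add hb hcJ]; congr 1; rw [hc]; ring
  rw [e2, e3, e1]; ring

end

open Classical in
/-- The candidate divided power maps on `I ⊔ J`. -/
noncomputable def eps (n : ℕ) (z : A) : A :=
  if hz : z ∈ I ⊔ J then
    PowerSeries.coeff n (γ.exp (Submodule.mem_sup.mp hz).choose *
      δ.exp (Submodule.mem_sup.mp hz).choose_spec.2.choose)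
  else 0

section
variable (h : ∀ (n : ℕ) (x : A), x ∈ I ⊓ J → γ.dpow n x = δ.dpow n x)
include h

theorem eps_eq {a b : A} (ha : a ∈ I) (hb : b ∈ J) (n : ℕ) :
    eps γ δ n (a + b) = PowerSeries.coeff n (γ.exp a * δ.exp b) := by
  have hz : a + b ∈ I ⊔ J := Submodule.add_mem_sup ha hb
  rw [eps, dif_pos hz]
  have s1 := (Submodule.mem_sup.mp hz).choose_spec.1
  have s2 := (Submodule.mem_sup.mp hz).choose_spec.2.choose_spec.1
  have s3 := (Submodule.mem_sup.mp hz).choose_spec.2.choose_spec.2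
  rw [welldef γ δ h s1 ha s2 hb s3]

theorem eps_eq_sum {a b : A} (ha : a ∈ I) (hb : b ∈ J) (n : ℕ) :
    eps γ δ n (a + b) = ∑ k ∈ antidiagonal n, γ.dpow k.1 a * δ.dpow k.2 b := by
  rw [eps_eq γ δ h ha hb, PowerSeries.coeff_mul]
  simp only [DividedPowers.exp, PowerSeries.coeff_mk]

theorem eps_left {a : A} (ha : a ∈ I) (n : ℕ) : eps γ δ n a = γ.dpow n a := by
  have := eps_eq γ δ h ha J.zero_mem n
  rw [add_zero, exp_zero, mul_one] at this
  rw [this, DividedPowers.exp, PowerSeries.coeff_mk]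

theorem eps_right {b : A} (hb : b ∈ J) (n : ℕ) : eps γ δ n b = δ.dpow n b := by
  have := eps_eq γ δ h I.zero_mem hb n
  rw [zero_add, exp_zero, one_mul] at this
  rw [this, DividedPowers.exp, PowerSeries.coeff_mk]

theorem preDP_eps : PreDP (I ⊔ J) (eps γ δ) where
  null := fun n x hx => by rw [eps, dif_neg hx]
  zero := fun x hx => by
    obtain ⟨a, ha, b, hb, rfl⟩ := Submodule.mem_sup.mp hx
    rw [eps_eq_sum γ δ h ha hb]
    simp [γ.dpow_zero ha, δ.dpow_zero hb]
  one := fun x hx => by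
    obtain ⟨a, ha, b, hb, rfl⟩ := Submodule.mem_sup.mp hx
    rw [eps_eq_sum γ δ h ha hb, Finset.Nat.antidiagonal_succ]
    simp [γ.dpow_zero ha, δ.dpow_zero hb, γ.dpow_one ha, δ.dpow_one hb, add_comm]
  mem := fun n x hn hx => by
    obtain ⟨a, ha, b, hb, rfl⟩ := Submodule.mem_sup.mp hx
    rw [eps_eq_sum γ δ h ha hb]
    refine Ideal.sum_mem _ ?_
    intro k hk
    rw [HasAntidiagonal.mem_antidiagonal] at hk
    by_cases h1 : k.1 = 0
    · exact Ideal.mul_mem_left _ _ (Ideal.mem_sup_right (δ.dpow_mem (by omega) hb))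
    · exact Ideal.mul_mem_right _ _ (Ideal.mem_sup_left (γ.dpow_mem h1 ha))
  add := fun n x y hx hy => by
    obtain ⟨a, ha, b, hb, rfl⟩ := Submodule.mem_sup.mp hx
    obtain ⟨a', ha', b', hb', rfl⟩ := Submodule.mem_sup.mp hy
    have e : a + b + (a' + b') = (a + a') + (b + b') := by ring
    rw [e, eps_eq γ δ h (I.add_mem ha ha') (J.add_mem hb hb'), γ.exp_add ha ha',
      δ.exp_add hb hb']
    have e' : γ.exp a * γ.exp a' * (δ.exp b * δ.exp b') =
        (γ.exp a * δ.exp b) * (γ.exp a' * δ.exp b') := by ring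
    rw [e', PowerSeries.coeff_mul]
    refine Finset.sum_congr rfl ?_
    intro k _
    rw [eps_eq γ δ h ha hb, eps_eq γ δ h ha' hb']
  mul := fun n c x hx => by
    obtain ⟨a, ha, b, hb, rfl⟩ := Submodule.mem_sup.mp hx
    rw [mul_add, eps_eq_sum γ δ h (I.mul_mem_left c ha) (J.mul_mem_left c hb),
      eps_eq_sum γ δ h ha hb, Finset.mul_sum]
    refine Finset.sum_congr rfl ?_
    intro k hk
    rw [HasAntidiagonal.mem_antidiagonal] at hk
    rw [γ.dpow_mul ha, δ.dpow_mul hb, ← hk, pow_add]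
    ring

theorem exists_sup : ∃ ε : DividedPowers (I ⊔ J),
    (∀ (n : ℕ) (x : A), x ∈ I → ε.dpow n x = γ.dpow n x) ∧
      (∀ (n : ℕ) (x : A), x ∈ J → ε.dpow n x = δ.dpow n x) := by
  have hP := preDP_eps γ δ h
  have hS : Ideal.span ((I : Set A) ∪ (J : Set A)) = I ⊔ J := by
    rw [Ideal.span_union, Ideal.span_eq, Ideal.span_eq]
  obtain ⟨ε, hε⟩ := exists_dividedPowers hP hS
    (by
      rintro x (hx | hx) m n
      · rw [eps_left γ δ h hx, eps_left γ δ h hx, eps_left γ δ h hx]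
        exact γ.mul_dpow hx
      · rw [eps_right γ δ h hx, eps_right γ δ h hx, eps_right γ δ h hx]
        exact δ.mul_dpow hx)
    (by
      rintro x (hx | hx) m n hn
      · rw [eps_left γ δ h hx, eps_left γ δ h hx, eps_left γ δ h (γ.dpow_mem hn hx)]
        exact γ.dpow_comp hn hx
      · rw [eps_right γ δ h hx, eps_right γ δ h hx, eps_right γ δ h (δ.dpow_mem hn hx)]
        exact δ.dpow_comp hn hx)
  refine ⟨ε, ?_, ?_⟩
  · intro n x hx; rw [hε]; exact eps_left γ δ h hx n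
  · intro n x hx; rw [hε]; exact eps_right γ δ h hx n

theorem existsUnique_sup : ∃! ε : DividedPowers (I ⊔ J),
    (∀ (n : ℕ) (x : A), x ∈ I → ε.dpow n x = γ.dpow n x) ∧
      (∀ (n : ℕ) (x : A), x ∈ J → ε.dpow n x = δ.dpow n x) := by
  obtain ⟨ε, h1, h2⟩ := exists_sup γ δ h
  refine ⟨ε, ⟨h1, h2⟩, ?_⟩
  rintro ε' ⟨h1', h2'⟩
  refine DividedPowers.ext _ _ ?_
  intro n x hx
  obtain ⟨a, ha, b, hb, rfl⟩ := Submodule.mem_sup.mp hx
  rw [ε'.dpow_add (Ideal.mem_sup_left ha) (Ideal.mem_sup_right hb),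
    ε.dpow_add (Ideal.mem_sup_left ha) (Ideal.mem_sup_right hb)]
  refine Finset.sum_congr rfl ?_
  intro k _
  rw [h1' _ _ ha, h2' _ _ hb, h1 _ _ ha, h2 _ _ hb]

end

end Groth.Agent.Lib.Helper26.DPSup
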