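import Mathlib.RingTheory.DividedPowers.RatAlgebra
import Mathlib.RingTheory.DividedPowers.DPMorphism
import Mathlib.RingTheory.Flat.EquationalCriterion
import Mathlib.LinearAlgebra.Basis.Defs
import Mathlib.RingTheory.Ideal.Maps
import Mathlib.Tactic
import Groth.Agent.Lib.Helper26.DPFlat2
import Groth.Agent.Lib.Helper26.DPSup

namespace Groth.Agent.Lib.Helper26.DPPoly1

open Finset Nat

section Basis

variable {R : Type*} [CommRing R] {Λ : Type*} {P : Type*} [CommRing P] [Algebra R P]
  (x : Λ → ℕ → P)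

/-- The multi-index binomial coefficient. -/
noncomputable def mch (e f : Λ →₀ ℕ) : ℕ := by
  classical exact ∏ l ∈ e.support ∪ f.support, (e l + f l).choose (e l)

/-- The augmentation ideal. -/
def Pplus : Ideal P := Ideal.span {y : P | ∃ (l : Λ) (n : ℕ), 1 ≤ n ∧ y = x l n}

variable {x}
variable (hx0 : ∀ l, x l 0 = 1)
  (hxmul : ∀ l n m, x l n * x l m = ((n + m).choose n : P) * x l (n + m))
  (b : Module.Basis (Λ →₀ ℕ) R P) (hb : ∀ e : Λ →₀ ℕ, b e = e.prod (fun l k => x l k))

include hx0 hxmul hb in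
theorem b_mul (e f : Λ →₀ ℕ) : b e * b f = (mch e f : P) * b (e + f) := by
  classical
  have h1 : b e = ∏ l ∈ e.support ∪ f.support, x l (e l) := by
    rw [hb]; exact Finsupp.prod_of_support_subset e Finset.subset_union_left _ (fun l _ => hx0 l)
  have h2 : b f = ∏ l ∈ e.support ∪ f.support, x l (f l) := by
    rw [hb]; exact Finsupp.prod_of_support_subset f Finset.subset_union_right _ (fun l _ => hx0 l)
  have h3 : b (e + f) = ∏ l ∈ e.support ∪ f.support, x l (e l + f l) := by
    rw [hb]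
    exact Finsupp.prod_of_support_subset (e + f) Finsupp.support_add _ (fun l _ => hx0 l)
  rw [h1, h2, h3, ← Finset.prod_mul_distrib, mch, Nat.cast_prod, ← Finset.prod_mul_distrib]
  refine Finset.prod_congr rfl ?_
  intro l _
  rw [hxmul]

include hb in
theorem b_zero : b 0 = 1 := by rw [hb, Finsupp.prod_zero_index]

include hx0 hb in
theorem b_single (l : Λ) (n : ℕ) : b (Finsupp.single l n) = x l n := by
  rw [hb, Finsupp.prod_single_index (hx0 l)]

include hb in
theorem b_mem_Pplus {e : Λ →₀ ℕ} (he : e ≠ 0) : b e ∈ Pplus x := by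
  obtain ⟨l, hl⟩ : ∃ l, e l ≠ 0 := by
    by_contra hne
    push Not at hne
    exact he (Finsupp.ext hne)
  rw [hb, Finsupp.prod]
  refine Ideal.mem_of_dvd _ (Finset.dvd_prod_of_mem _ (Finsupp.mem_support_iff.mpr hl)) ?_
  exact Ideal.subset_span ⟨l, e l, Nat.one_le_iff_ne_zero.mpr hl, rfl⟩

/-- The coordinate at `0`. -/
noncomputable def phi0 : P →ₗ[R] R := (Finsupp.lapply 0).comp b.repr.toLinearMap

theorem phi0_b (e : Λ →₀ ℕ) (he : e ≠ 0) : phi0 b (b e) = 0 := by
  simp only [phi0, LinearMap.comp_apply, LinearEquiv.coe_coe, Module.Basis.repr_self,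
    Finsupp.lapply_apply]
  exact Finsupp.single_eq_of_ne' he

include hx0 hxmul hb in
theorem phi0_mul_b (f e : Λ →₀ ℕ) (he : e ≠ 0) : phi0 b (b f * b e) = 0 := by
  rw [b_mul hx0 hxmul b hb, ← nsmul_eq_mul, map_nsmul, phi0_b b (f + e), smul_zero]
  intro h0
  apply he
  ext l
  have := DFunLike.congr_fun h0 l
  simp only [Finsupp.coe_add, Pi.add_apply, Finsupp.coe_zero, Pi.zero_apply] at this ⊢
  omega

include hx0 hxmul hb in
theorem phi0_mul (p y : P) (hy : phi0 b y = 0) : phi0 b (p * y) = 0 := by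
  classical
  have hyr : y = ∑ e ∈ (b.repr y).support, (b.repr y e) • b e := by
    conv_lhs => rw [← b.linearCombination_repr y, Finsupp.linearCombination_apply, Finsupp.sum]
  have hpr : p = ∑ f ∈ (b.repr p).support, (b.repr p f) • b f := by
    conv_lhs => rw [← b.linearCombination_repr p, Finsupp.linearCombination_apply, Finsupp.sum]
  rw [hyr, hpr, Finset.sum_mul_sum, map_sum]
  refine Finset.sum_eq_zero ?_
  intro f _
  rw [map_sum]
  refine Finset.sum_eq_zero ?_
  intro e _
  rw [smul_mul_smul_comm, map_smul]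
  by_cases he : e = 0
  · subst he
    have : b.repr y 0 = 0 := hy
    rw [this, mul_zero, zero_smul]
  · rw [phi0_mul_b hx0 hxmul b hb f e he, smul_zero]

include hx0 hxmul hb in
theorem phi0_of_mem_Pplus {z : P} (hz : z ∈ Pplus x) : phi0 b z = 0 := by
  induction hz using Submodule.span_induction with
  | mem y hy =>
    obtain ⟨l, n, hn, rfl⟩ := hy
    rw [← b_single hx0 b hb]
    refine phi0_b b _ ?_
    intro h0
    have := DFunLike.congr_fun h0 l
    simp at this
    omega
  | zero => exact map_zero _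
  | add y z _ _ iy iz => rw [map_add, iy, iz, add_zero]
  | smul p y _ iy => exact phi0_mul hx0 hxmul b hb p y iy

theorem repr_mem_of_mem_map {I : Ideal R} {z : P} (hz : z ∈ I.map (algebraMap R P))
    (e : Λ →₀ ℕ) : b.repr z e ∈ I := by
  have hz' : z ∈ (I • (⊤ : Submodule R P)) := by
    rw [Ideal.smul_top_eq_map]; exact hz
  rw [← b.span_eq, Submodule.mem_ideal_smul_span_iff_exists_sum] at hz'
  obtain ⟨a, ha, rfl⟩ := hz'
  have : b.repr (a.sum fun i c => c • b i) = a := by
    rw [← Finsupp.linearCombination_apply, b.repr_linearCombination]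
  rw [this]
  exact ha e

include hx0 hxmul hb in
theorem inf_le_smul (I : Ideal R) :
    I.map (algebraMap R P) ⊓ Pplus x ≤ I.map (algebraMap R P) • Pplus x := by
  classical
  intro z hz
  have hyr : z = ∑ e ∈ (b.repr z).support, (b.repr z e) • b e := by
    conv_lhs => rw [← b.linearCombination_repr z, Finsupp.linearCombination_apply, Finsupp.sum]
  rw [hyr]
  refine Ideal.sum_mem _ ?_
  intro e _
  by_cases he : e = 0
  · subst he
    have : b.repr z 0 = 0 := phi0_of_mem_Pplus hx0 hxmul b hb hz.2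
    rw [this, zero_smul]
    exact Ideal.zero_mem _
  · rw [Algebra.smul_def ((b.repr z) e) (b e), ← smul_eq_mul]
    exact Submodule.smul_mem_smul
      (Ideal.mem_map_of_mem (algebraMap R P) (repr_mem_of_mem_map b hz.1 e))
      (b_mem_Pplus b hb he)

end Basis

section Main

variable {R : Type*} [CommRing R] {I : Ideal R} (γ : DividedPowers I)
  {P : Type*} [CommRing P] [Algebra R P]

theorem agree_on_map {J J' : Ideal P} (δ : DividedPowers J) (δ' : DividedPowers J')
    (hJ : I.map (algebraMap R P) ≤ J) (hJ' : I.map (algebraMap R P) ≤ J')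
    (h : ∀ (n : ℕ), ∀ a ∈ I, δ.dpow n (algebraMap R P a) = algebraMap R P (γ.dpow n a))
    (h' : ∀ (n : ℕ), ∀ a ∈ I, δ'.dpow n (algebraMap R P a) = algebraMap R P (γ.dpow n a))
    (n : ℕ) {z : P} (hz : z ∈ I.map (algebraMap R P)) : δ.dpow n z = δ'.dpow n z := by
  have hS : ∀ y, y ∈ Ideal.span ((algebraMap R P) '' (I : Set R)) →
      y ∈ I.map (algebraMap R P) := fun y hy => hy
  change z ∈ Ideal.span ((algebraMap R P) '' (I : Set R)) at hz
  induction hz using Submodule.span_induction generalizing n with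
  | mem y hy =>
    obtain ⟨a, ha, rfl⟩ := hy
    rw [h n a ha, h' n a ha]
  | zero =>
    by_cases hn : n = 0
    · subst hn; rw [δ.dpow_zero (Ideal.zero_mem _), δ'.dpow_zero (Ideal.zero_mem _)]
    · rw [δ.dpow_eval_zero hn, δ'.dpow_eval_zero hn]
  | add y z hy hz iy iz =>
    rw [δ.dpow_add (hJ (hS y hy)) (hJ (hS z hz)), δ'.dpow_add (hJ' (hS y hy)) (hJ' (hS z hz))]
    refine Finset.sum_congr rfl ?_
    intro k _
    rw [iy, iz]
  | smul p y hy iy =>
    rw [smul_eq_mul, δ.dpow_mul (hJ (hS y hy)), δ'.dpow_mul (hJ' (hS y hy)), iy]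

variable {Λ : Type*} {x : Λ → ℕ → P}
  (hx0 : ∀ l, x l 0 = 1)
  (hxmul : ∀ l n m, x l n * x l m = ((n + m).choose n : P) * x l (n + m))
  (b : Module.Basis (Λ →₀ ℕ) R P) (hb : ∀ e : Λ →₀ ℕ, b e = e.prod (fun l k => x l k))
  (δplus : DividedPowers (Pplus x))

include hx0 hxmul hb in
theorem main : ∃! δ : DividedPowers (I.map (algebraMap R P) ⊔ Pplus x),
    γ.IsDPMorphism δ (algebraMap R P) ∧
      ∀ (n : ℕ) (y : P), y ∈ Pplus x → δ.dpow n y = δplus.dpow n y := by
  have hfree : Module.Free R P := Module.Free.of_basis b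
  have hflat : Module.Flat R P := inferInstance
  obtain ⟨γP, hγP⟩ := DPFlat2.exists_extension (B := P) γ
  have hagree : ∀ (n : ℕ) (z : P), z ∈ I.map (algebraMap R P) ⊓ Pplus x →
      γP.dpow n z = δplus.dpow n z := by
    intro n z hz
    exact γP.coincide_on_smul δplus (inf_le_smul hx0 hxmul b hb I hz)
  obtain ⟨ε, ⟨h1, h2⟩, huniq⟩ := DPSup.existsUnique_sup γP δplus hagree
  refine ⟨ε, ⟨⟨le_sup_left, ?_⟩, h2⟩, ?_⟩
  · intro n a ha
    rw [h1 n _ (Ideal.mem_map_of_mem _ ha)]
    exact hγP.dpow_comp a ha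
  · rintro δ' ⟨hm, h2'⟩
    refine huniq δ' ⟨?_, h2'⟩
    intro n z hz
    exact agree_on_map γ δ' γP le_sup_left le_rfl (fun n a ha => hm.dpow_comp a ha)
      (fun n a ha => hγP.dpow_comp a ha) n hz

end Main

end Groth.Agent.Lib.Helper26.DPPoly1
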