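import Mathlib.RingTheory.DividedPowers.RatAlgebra
import Mathlib.Combinatorics.Enumerative.Bell
import Mathlib.LinearAlgebra.Basis.Defs
import Mathlib.Tactic
import Groth.Agent.Lib.Helper26.DPPoly1

namespace Groth.Agent.Lib.Helper26.DPPoly2

open Finset Nat
open Groth.Agent.Lib.Helper26.DPPoly1

variable {Λ : Type*}

theorem choose_mul_fact (i j : ℕ) : (i + j).choose i * i ! * j ! = (i + j)! := by
  rw [Nat.choose_symm_add]; exact Nat.add_choose_mul_factorial_mul_factorial i j

/-- The multi-index factorial. -/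
noncomputable def mfact (e : Λ →₀ ℕ) : ℕ := e.prod (fun _ k => k !)

theorem mfact_pos (e : Λ →₀ ℕ) : 0 < mfact e :=
  Finset.prod_pos fun _ _ => Nat.factorial_pos _

theorem mfact_zero : mfact (0 : Λ →₀ ℕ) = 1 := Finsupp.prod_zero_index

theorem mfact_eq_prod (e : Λ →₀ ℕ) (s : Finset Λ) (hs : e.support ⊆ s) :
    mfact e = ∏ l ∈ s, (e l)! :=
  Finsupp.prod_of_support_subset e hs _ (fun _ _ => Nat.factorial_zero)

theorem mch_mul (e f : Λ →₀ ℕ) : mch e f * mfact e * mfact f = mfact (e + f) := by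
  classical
  rw [mfact_eq_prod e _ Finset.subset_union_left, mfact_eq_prod f _ Finset.subset_union_right,
    mfact_eq_prod (e + f) _ Finsupp.support_add, mch, ← Finset.prod_mul_distrib,
    ← Finset.prod_mul_distrib]
  refine Finset.prod_congr rfl ?_
  intro l _
  exact choose_mul_fact _ _

/-- The coefficient `(ke)! / (k! (e!)^k)`. -/
noncomputable def cc (k : ℕ) (e : Λ →₀ ℕ) : ℕ :=
  (k !) ^ (e.support.card - 1) * ∏ l ∈ e.support, Nat.uniformBell k (e l)

theorem cc_zero_left (e : Λ →₀ ℕ) : cc 0 e = 1 := by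
  simp [cc, Nat.uniformBell_zero_left]

theorem cc_one_left (e : Λ →₀ ℕ) : cc 1 e = 1 := by
  simp [cc, Nat.uniformBell_one_left]

theorem cc_single_one (k : ℕ) (l : Λ) : cc k (Finsupp.single l 1) = 1 := by
  classical
  rw [cc, Finsupp.support_single (a := l) one_ne_zero]
  simp [Nat.uniformBell_one_right]

theorem cc_spec (k : ℕ) {e : Λ →₀ ℕ} (he : e ≠ 0) :
    cc k e * k ! * (mfact e) ^ k = mfact (k • e) := by
  classical
  by_cases hk : k = 0
  · subst hk
    simp [cc_zero_left, mfact_zero]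
  · have hsupp : (k • e).support = e.support := Finsupp.support_smul_eq hk
    have hcard : e.support.card - 1 + 1 = e.support.card := by
      have : e.support.card ≠ 0 := by
        rw [Ne, Finset.card_eq_zero, Finsupp.support_eq_empty]; exact he
      omega
    rw [mfact_eq_prod (k • e) e.support (le_of_eq hsupp), mfact_eq_prod e e.support le_rfl, cc]
    calc (k !) ^ (e.support.card - 1) * (∏ l ∈ e.support, Nat.uniformBell k (e l)) * k ! *
          (∏ l ∈ e.support, (e l)!) ^ k
        = (k !) ^ (e.support.card - 1 + 1) * (∏ l ∈ e.support, Nat.uniformBell k (e l)) *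
          (∏ l ∈ e.support, (e l)!) ^ k := by ring
      _ = ∏ l ∈ e.support, (Nat.uniformBell k (e l) * (e l)! ^ k * k !) := by
          rw [hcard, Finset.prod_mul_distrib, Finset.prod_mul_distrib, Finset.prod_const,
            Finset.prod_pow]
          ring
      _ = ∏ l ∈ e.support, ((k • e) l)! := by
          refine Finset.prod_congr rfl ?_
          intro l hl
          rw [Nat.uniformBell_mul_eq k (Finsupp.mem_support_iff.mp hl)]
          simp

theorem smul_ne_zero' {k : ℕ} (hk : k ≠ 0) {e : Λ →₀ ℕ} (he : e ≠ 0) : k • e ≠ 0 := by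
  intro h
  apply he
  ext l
  have := DFunLike.congr_fun h l
  simp only [Finsupp.coe_smul, Pi.smul_apply, smul_eq_mul, Finsupp.coe_zero, Pi.zero_apply,
    mul_eq_zero] at this
  rcases this with h1 | h1
  · exact absurd h1 hk
  · simpa using h1

theorem add_ne_zero_right (f : Λ →₀ ℕ) {e : Λ →₀ ℕ} (he : e ≠ 0) : f + e ≠ 0 := by
  intro h0
  apply he
  ext l
  have := DFunLike.congr_fun h0 l
  simp only [Finsupp.coe_add, Pi.add_apply, Finsupp.coe_zero, Pi.zero_apply] at this ⊢
  omega

/-- (i) the binomial identity. -/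
theorem cc_binom (i j : ℕ) {e : Λ →₀ ℕ} (he : e ≠ 0) :
    cc i e * cc j e * mch (i • e) (j • e) = (i + j).choose i * cc (i + j) e := by
  have hpos : 0 < i ! * j ! * (mfact e) ^ (i + j) :=
    Nat.mul_pos (Nat.mul_pos (Nat.factorial_pos _) (Nat.factorial_pos _))
      (Nat.pow_pos (mfact_pos e))
  refine Nat.eq_of_mul_eq_mul_right hpos ?_
  calc cc i e * cc j e * mch (i • e) (j • e) * (i ! * j ! * (mfact e) ^ (i + j))
      = mch (i • e) (j • e) * (cc i e * i ! * (mfact e) ^ i) * (cc j e * j ! * (mfact e) ^ j) := by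
        rw [pow_add]; ring
    _ = mfact ((i + j) • e) := by rw [cc_spec i he, cc_spec j he, mch_mul, add_smul]
    _ = cc (i + j) e * (i + j)! * (mfact e) ^ (i + j) := (cc_spec (i + j) he).symm
    _ = (i + j).choose i * cc (i + j) e * (i ! * j ! * (mfact e) ^ (i + j)) := by
        rw [← choose_mul_fact i j]; ring

/-- (ii) the power identity. -/
theorem cc_succ (n : ℕ) {f : Λ →₀ ℕ} (hf : f ≠ 0) :
    n ! * cc n f * mch (n • f) f = (n + 1)! * cc (n + 1) f := by
  have hpos : 0 < (mfact f) ^ (n + 1) := Nat.pow_pos (mfact_pos f)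
  refine Nat.eq_of_mul_eq_mul_right hpos ?_
  calc n ! * cc n f * mch (n • f) f * (mfact f) ^ (n + 1)
      = mch (n • f) f * (cc n f * n ! * (mfact f) ^ n) * mfact f := by rw [pow_succ]; ring
    _ = mfact ((n + 1) • f) := by rw [cc_spec n hf, mch_mul, add_smul, one_smul]
    _ = cc (n + 1) f * (n + 1)! * (mfact f) ^ (n + 1) := (cc_spec (n + 1) hf).symm
    _ = (n + 1)! * cc (n + 1) f * (mfact f) ^ (n + 1) := by ring

/-- (iii) the scaling identity. -/
theorem cc_scale (n : ℕ) {e f : Λ →₀ ℕ} (he : e ≠ 0) (hf : f ≠ 0) :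
    (mch f e) ^ n * cc n (f + e) = n ! * cc n f * cc n e * mch (n • f) (n • e) := by
  have hpos : 0 < n ! * n ! * (mfact f) ^ n * (mfact e) ^ n :=
    Nat.mul_pos (Nat.mul_pos (Nat.mul_pos (Nat.factorial_pos _) (Nat.factorial_pos _))
      (Nat.pow_pos (mfact_pos f))) (Nat.pow_pos (mfact_pos e))
  refine Nat.eq_of_mul_eq_mul_right hpos ?_
  calc (mch f e) ^ n * cc n (f + e) * (n ! * n ! * (mfact f) ^ n * (mfact e) ^ n)
      = n ! * (cc n (f + e) * n ! * (mch f e * mfact f * mfact e) ^ n) := by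
        rw [mul_pow, mul_pow]; ring
    _ = n ! * mfact (n • (f + e)) := by rw [mch_mul, cc_spec n (add_ne_zero_right f he)]
    _ = n ! * (mch (n • f) (n • e) * mfact (n • f) * mfact (n • e)) := by
        rw [mch_mul, smul_add]
    _ = n ! * (mch (n • f) (n • e) * (cc n f * n ! * (mfact f) ^ n) *
          (cc n e * n ! * (mfact e) ^ n)) := by rw [cc_spec n hf, cc_spec n he]
    _ = n ! * cc n f * cc n e * mch (n • f) (n • e) *
          (n ! * n ! * (mfact f) ^ n * (mfact e) ^ n) := by ring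

/-- (iv) the composition identity. -/
theorem cc_comp (m : ℕ) {n : ℕ} (hn : n ≠ 0) {e : Λ →₀ ℕ} (he : e ≠ 0) :
    (cc n e) ^ m * cc m (n • e) = Nat.uniformBell m n * cc (m * n) e := by
  have hpos : 0 < m ! * (n !) ^ m * (mfact e) ^ (m * n) :=
    Nat.mul_pos (Nat.mul_pos (Nat.factorial_pos _) (Nat.pow_pos (Nat.factorial_pos _)))
      (Nat.pow_pos (mfact_pos e))
  refine Nat.eq_of_mul_eq_mul_right hpos ?_
  calc (cc n e) ^ m * cc m (n • e) * (m ! * (n !) ^ m * (mfact e) ^ (m * n))
      = cc m (n • e) * m ! * (cc n e * n ! * (mfact e) ^ n) ^ m := by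
        rw [mul_pow, mul_pow, ← pow_mul, mul_comm m n]; ring
    _ = mfact ((m * n) • e) := by
        rw [cc_spec n he, cc_spec m (smul_ne_zero' hn he), mul_smul]
    _ = cc (m * n) e * (m * n)! * (mfact e) ^ (m * n) := (cc_spec (m * n) he).symm
    _ = Nat.uniformBell m n * cc (m * n) e * (m ! * (n !) ^ m * (mfact e) ^ (m * n)) := by
        rw [← Nat.uniformBell_mul_eq m hn]; ring

end Groth.Agent.Lib.Helper26.DPPoly2
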