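import Mathlib.RingTheory.DividedPowers.RatAlgebra
import Mathlib.Combinatorics.Enumerative.Bell
import Mathlib.LinearAlgebra.Basis.Defs
import Mathlib.Tactic
import Groth.Agent.Lib.Helper26.DPPoly2

namespace Groth.Agent.Lib.Helper26.DPPoly3

open Finset Nat
open Groth.Agent.Lib.Helper26.DPPoly1 Groth.Agent.Lib.Helper26.DPPoly2
  Groth.Agent.Lib.Helper26.DPFlat1

variable {R : Type*} [CommRing R] {Λ : Type*} {P : Type*} [CommRing P] [Algebra R P]
  {x : Λ → ℕ → P}
  (hx0 : ∀ l, x l 0 = 1)
  (hxmul : ∀ l n m, x l n * x l m = ((n + m).choose n : P) * x l (n + m))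
  (b : Module.Basis (Λ →₀ ℕ) R P) (hb : ∀ e : Λ →₀ ℕ, b e = e.prod (fun l k => x l k))

open Classical in
/-- The exponential series of the basis element `b e`. -/
noncomputable def Gb (e : Λ →₀ ℕ) : PowerSeries P :=
  if e = 0 then 1 else PowerSeries.mk (fun k => (cc k e : P) * b (k • e))

theorem Gb_zero : Gb b 0 = 1 := by rw [Gb, if_pos rfl]

theorem coeff_Gb {e : Λ →₀ ℕ} (he : e ≠ 0) (k : ℕ) :
    PowerSeries.coeff k (Gb b e) = (cc k e : P) * b (k • e) := by
  rw [Gb, if_neg he, PowerSeries.coeff_mk]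

include hx0 hb in
theorem coeff_zero_Gb (e : Λ →₀ ℕ) : PowerSeries.coeff 0 (Gb b e) = 1 := by
  by_cases he : e = 0
  · subst he; rw [Gb_zero, PowerSeries.coeff_zero_one]
  · rw [coeff_Gb b he, cc_zero_left, zero_smul, b_zero b hb, Nat.cast_one, one_mul]

theorem coeff_one_Gb {e : Λ →₀ ℕ} (he : e ≠ 0) : PowerSeries.coeff 1 (Gb b e) = b e := by
  rw [coeff_Gb b he, cc_one_left, one_smul, Nat.cast_one, one_mul]

include hx0 hxmul hb in
theorem Gb_binomial (e : Λ →₀ ℕ) (i j : ℕ) :
    PowerSeries.coeff i (Gb b e) * PowerSeries.coeff j (Gb b e) =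
      ((i + j).choose i : P) * PowerSeries.coeff (i + j) (Gb b e) := by
  by_cases he : e = 0
  · subst he
    rw [Gb_zero]
    simp only [PowerSeries.coeff_one]
    by_cases hi : i = 0
    · subst hi; simp
    · rw [if_neg hi, if_neg (by omega : i + j ≠ 0)]; simp
  · rw [coeff_Gb b he, coeff_Gb b he, coeff_Gb b he]
    calc (cc i e : P) * b (i • e) * ((cc j e : P) * b (j • e))
        = (cc i e : P) * (cc j e : P) * (b (i • e) * b (j • e)) := by ring
      _ = ((cc i e * cc j e * mch (i • e) (j • e) : ℕ) : P) * b ((i + j) • e) := by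
          rw [b_mul hx0 hxmul b hb, add_smul]; push_cast; ring
      _ = _ := by rw [cc_binom i j he]; push_cast; ring

/-- The exponential on coordinate vectors. -/
noncomputable def Ev (v : (Λ →₀ ℕ) →₀ R) : PowerSeries P :=
  v.prod (fun e r => PowerSeries.rescale (algebraMap R P r) (Gb b e))

include hx0 hb in
theorem rescale_zero_Gb (e : Λ →₀ ℕ) :
    PowerSeries.rescale (algebraMap R P 0) (Gb b e) = 1 := by
  rw [map_zero, PowerSeries.rescale_zero_apply, ← PowerSeries.coeff_zero_eq_constantCoeff_apply,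
    coeff_zero_Gb hx0 b hb, map_one]

theorem Ev_zero : Ev b (0 : (Λ →₀ ℕ) →₀ R) = 1 := Finsupp.prod_zero_index

include hx0 hxmul hb in
theorem Ev_add (v w : (Λ →₀ ℕ) →₀ R) : Ev b (v + w) = Ev b v * Ev b w := by
  refine Finsupp.prod_add_index' (fun e => rescale_zero_Gb hx0 b hb e) ?_
  intro e r r'
  rw [map_add]
  exact rescale_add_of_binomial _ (Gb_binomial hx0 hxmul b hb e) _ _

include hx0 hb in
theorem Ev_single (e : Λ →₀ ℕ) (r : R) :
    Ev b (Finsupp.single e r) = PowerSeries.rescale (algebraMap R P r) (Gb b e) :=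
  Finsupp.prod_single_index (rescale_zero_Gb hx0 b hb e)

include hx0 hxmul hb in
theorem Ev_sum {κ : Type*} (s : Finset κ) (g : κ → (Λ →₀ ℕ) →₀ R) :
    Ev b (∑ j ∈ s, g j) = ∏ j ∈ s, Ev b (g j) := by
  classical
  induction s using Finset.induction with
  | empty => simp [Ev_zero]
  | insert j s hj ih =>
    rw [Finset.sum_insert hj, Finset.prod_insert hj, Ev_add hx0 hxmul b hb, ih]

include hx0 hxmul hb in
theorem Ev_smul (r : R) (v : (Λ →₀ ℕ) →₀ R) :
    Ev b (r • v) = PowerSeries.rescale (algebraMap R P r) (Ev b v) := by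
  induction v using Finsupp.induction_linear with
  | zero => rw [smul_zero, Ev_zero, map_one]
  | add v w ih ih' =>
    rw [smul_add, Ev_add hx0 hxmul b hb, Ev_add hx0 hxmul b hb, ih, ih', map_mul]
  | single e c =>
    rw [Finsupp.smul_single, Ev_single hx0 b hb, Ev_single hx0 b hb, smul_eq_mul,
      PowerSeries.rescale_rescale, map_mul, mul_comm]

include hx0 hxmul hb in
theorem coeff_zero_Ev (v : (Λ →₀ ℕ) →₀ R) : PowerSeries.coeff 0 (Ev b v) = 1 := by
  induction v using Finsupp.induction_linear with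
  | zero => rw [Ev_zero, PowerSeries.coeff_zero_one]
  | add v w ih ih' =>
    rw [Ev_add hx0 hxmul b hb, PowerSeries.coeff_mul, Finset.Nat.antidiagonal_zero,
      Finset.sum_singleton, ih, ih', one_mul]
  | single e c =>
    rw [Ev_single hx0 b hb, PowerSeries.coeff_rescale, pow_zero, one_mul,
      coeff_zero_Gb hx0 b hb]

include hx0 hxmul hb in
theorem coeff_one_Ev (v : (Λ →₀ ℕ) →₀ R) :
    PowerSeries.coeff 1 (Ev b v) + algebraMap R P (v 0) = Finsupp.linearCombination R b v := by
  induction v using Finsupp.induction_linear with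
  | zero => simp [Ev_zero]
  | add v w ih ih' =>
    rw [Ev_add hx0 hxmul b hb, PowerSeries.coeff_mul, Finset.Nat.sum_antidiagonal_succ,
      Finset.Nat.antidiagonal_zero, Finset.sum_singleton]
    simp only [zero_add]
    rw [coeff_zero_Ev hx0 hxmul b hb, coeff_zero_Ev hx0 hxmul b hb, map_add, ← ih, ← ih',
      Finsupp.add_apply, map_add]
    ring
  | single e c =>
    rw [Ev_single hx0 b hb, PowerSeries.coeff_rescale, pow_one, Finsupp.linearCombination_single]
    by_cases he : e = 0
    · subst he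
      rw [Gb_zero, PowerSeries.coeff_one, if_neg one_ne_zero, mul_zero, zero_add,
        Finsupp.single_eq_same, b_zero b hb, Algebra.algebraMap_eq_smul_one]
    · rw [coeff_one_Gb b he, Finsupp.single_eq_of_ne' he, map_zero, add_zero, Algebra.smul_def]

include hx0 hxmul hb in
theorem coeff_Ev_mem (v : (Λ →₀ ℕ) →₀ R) {n : ℕ} (hn : n ≠ 0) :
    PowerSeries.coeff n (Ev b v) ∈ Pplus x := by
  induction v using Finsupp.induction_linear generalizing n with
  | zero => rw [Ev_zero, PowerSeries.coeff_one, if_neg hn]; exact Ideal.zero_mem _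
  | add v w ih ih' =>
    rw [Ev_add hx0 hxmul b hb, PowerSeries.coeff_mul]
    refine Ideal.sum_mem _ ?_
    intro k hk
    rw [HasAntidiagonal.mem_antidiagonal] at hk
    by_cases h1 : k.1 = 0
    · exact Ideal.mul_mem_left _ _ (ih' (by omega))
    · exact Ideal.mul_mem_right _ _ (ih h1)
  | single e c =>
    rw [Ev_single hx0 b hb, PowerSeries.coeff_rescale]
    by_cases he : e = 0
    · subst he
      rw [Gb_zero, PowerSeries.coeff_one, if_neg hn, mul_zero]; exact Ideal.zero_mem _
    · rw [coeff_Gb b he]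
      exact Ideal.mul_mem_left _ _ (Ideal.mul_mem_left _ _
        (b_mem_Pplus b hb (smul_ne_zero' hn he)))

end Groth.Agent.Lib.Helper26.DPPoly3
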