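import Mathlib.RingTheory.DividedPowers.RatAlgebra
import Mathlib.Combinatorics.Enumerative.Bell
import Mathlib.LinearAlgebra.Basis.Defs
import Mathlib.Tactic
import Groth.Agent.Lib.Helper26.DPPoly3

namespace Groth.Agent.Lib.Helper26.DPPoly4

open Finset Nat
open Groth.Agent.Lib.Helper26.DPPoly1 Groth.Agent.Lib.Helper26.DPPoly2
  Groth.Agent.Lib.Helper26.DPPoly3 Groth.Agent.Lib.Helper26.DPFlat1
  Groth.Agent.Lib.Helper26.DPGen1 Groth.Agent.Lib.Helper26.DPGen3

variable {R : Type*} [CommRing R] {Λ : Type*} {P : Type*} [CommRing P] [Algebra R P]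
  {x : Λ → ℕ → P}
  (hx0 : ∀ l, x l 0 = 1)
  (hxmul : ∀ l n m, x l n * x l m = ((n + m).choose n : P) * x l (n + m))
  (b : Module.Basis (Λ →₀ ℕ) R P) (hb : ∀ e : Λ →₀ ℕ, b e = e.prod (fun l k => x l k))

/-- The exponential on `P`. -/
noncomputable def E (z : P) : PowerSeries P := Ev b (b.repr z)

theorem E_zero : E b 0 = 1 := by rw [E, map_zero, Ev_zero]

include hx0 hxmul hb

theorem E_add (z w : P) : E b (z + w) = E b z * E b w := by
  rw [E, map_add, Ev_add hx0 hxmul b hb]; rfl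

theorem E_smul (r : R) (z : P) : E b (r • z) = PowerSeries.rescale (algebraMap R P r) (E b z) := by
  rw [E, map_smul, Ev_smul hx0 hxmul b hb]; rfl

theorem E_sum {κ : Type*} (s : Finset κ) (g : κ → P) :
    E b (∑ j ∈ s, g j) = ∏ j ∈ s, E b (g j) := by
  classical
  induction s using Finset.induction with
  | empty => simp [E_zero]
  | insert j s hj ih =>
    rw [Finset.sum_insert hj, Finset.prod_insert hj, E_add hx0 hxmul b hb, ih]

theorem E_b (e : Λ →₀ ℕ) : E b (b e) = Gb b e := by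
  rw [E, b.repr_self, Ev_single hx0 b hb, map_one, PowerSeries.rescale_one, RingHom.id_apply]

theorem coeff_zero_E (z : P) : PowerSeries.coeff 0 (E b z) = 1 := coeff_zero_Ev hx0 hxmul b hb _

theorem coeff_one_E {z : P} (hz : z ∈ Pplus x) : PowerSeries.coeff 1 (E b z) = z := by
  have h := coeff_one_Ev hx0 hxmul b hb (b.repr z)
  have h0 : b.repr z 0 = 0 := phi0_of_mem_Pplus hx0 hxmul b hb hz
  rw [h0, map_zero, add_zero, b.linearCombination_repr] at h
  exact h

theorem coeff_E_mem (z : P) {n : ℕ} (hn : n ≠ 0) : PowerSeries.coeff n (E b z) ∈ Pplus x :=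
  coeff_Ev_mem hx0 hxmul b hb _ hn

theorem b_pow {f : Λ →₀ ℕ} (hf : f ≠ 0) (n : ℕ) :
    (b f) ^ n = ((n ! * cc n f : ℕ) : P) * b (n • f) := by
  induction n with
  | zero => simp [cc_zero_left, b_zero b hb]
  | succ n ih =>
    rw [pow_succ, ih, mul_assoc, b_mul hx0 hxmul b hb, ← cc_succ n hf, add_smul, one_smul]
    push_cast
    ring

theorem E_mul_b_b (f : Λ →₀ ℕ) {e : Λ →₀ ℕ} (he : e ≠ 0) :
    E b (b f * b e) = PowerSeries.rescale (b f) (Gb b e) := by
  by_cases hf : f = 0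
  · subst hf
    rw [b_zero b hb, one_mul, E_b hx0 hxmul b hb, PowerSeries.rescale_one, RingHom.id_apply]
  · have e1 : b f * b e = ((mch f e : ℕ) : R) • b (f + e) := by
      rw [b_mul hx0 hxmul b hb, Nat.cast_smul_eq_nsmul, nsmul_eq_mul]
    rw [e1, E_smul hx0 hxmul b hb, E_b hx0 hxmul b hb, map_natCast]
    ext n
    rw [PowerSeries.coeff_rescale, PowerSeries.coeff_rescale,
      coeff_Gb b (add_ne_zero_right f he), coeff_Gb b he, b_pow hx0 hxmul b hb hf]
    calc ((mch f e : ℕ) : P) ^ n * ((cc n (f + e) : P) * b (n • (f + e)))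
        = (((mch f e) ^ n * cc n (f + e) : ℕ) : P) * b (n • (f + e)) := by push_cast; ring
      _ = ((n ! * cc n f * cc n e * mch (n • f) (n • e) : ℕ) : P) * b (n • f + n • e) := by
          rw [cc_scale n he hf, smul_add]
      _ = ((n ! * cc n f : ℕ) : P) * (cc n e : P) * (b (n • f) * b (n • e)) := by
          rw [b_mul hx0 hxmul b hb (n • f) (n • e)]; push_cast; ring
      _ = _ := by ring

theorem rescale_zero_Gb' (e : Λ →₀ ℕ) : PowerSeries.rescale (0 : P) (Gb b e) = 1 := by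
  rw [PowerSeries.rescale_zero_apply, ← PowerSeries.coeff_zero_eq_constantCoeff_apply,
    coeff_zero_Gb hx0 b hb, map_one]

theorem E_mul_b (a : P) {e : Λ →₀ ℕ} (he : e ≠ 0) :
    E b (a * b e) = PowerSeries.rescale a (Gb b e) := by
  have ha : a ∈ Submodule.span R (Set.range b) := by rw [b.span_eq]; exact Submodule.mem_top
  induction ha using Submodule.span_induction with
  | mem y hy =>
    obtain ⟨f, rfl⟩ := hy
    exact E_mul_b_b hx0 hxmul b hb f he
  | zero => rw [zero_mul, E_zero, rescale_zero_Gb' hx0 hxmul b hb]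
  | add y z _ _ iy iz =>
    rw [add_mul, E_add hx0 hxmul b hb, iy, iz,
      rescale_add_of_binomial _ (Gb_binomial hx0 hxmul b hb e)]
  | smul r y _ iy =>
    rw [smul_mul_assoc, E_smul hx0 hxmul b hb, iy, PowerSeries.rescale_rescale,
      Algebra.smul_def, mul_comm]

theorem E_mul (a : P) {z : P} (hz : z ∈ Pplus x) :
    E b (a * z) = PowerSeries.rescale a (E b z) := by
  classical
  have h0 : b.repr z 0 = 0 := phi0_of_mem_Pplus hx0 hxmul b hb hz
  have hzr : z = ∑ e ∈ (b.repr z).support, (b.repr z e) • b e := by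
    conv_lhs => rw [← b.linearCombination_repr z, Finsupp.linearCombination_apply, Finsupp.sum]
  conv_lhs => rw [hzr]
  conv_rhs => rw [hzr]
  rw [Finset.mul_sum, E_sum hx0 hxmul b hb, E_sum hx0 hxmul b hb, map_prod]
  refine Finset.prod_congr rfl ?_
  intro e he
  have he0 : e ≠ 0 := by
    rintro rfl
    exact (Finsupp.mem_support_iff.mp he) h0
  rw [mul_smul_comm, E_smul hx0 hxmul b hb, E_mul_b hx0 hxmul b hb a he0,
    E_smul hx0 hxmul b hb, E_b hx0 hxmul b hb, PowerSeries.rescale_rescale,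
    PowerSeries.rescale_rescale, mul_comm]

open Classical in
/-- The divided power maps on the augmentation ideal. -/
noncomputable def dd (n : ℕ) (z : P) : P :=
  if z ∈ Pplus x then PowerSeries.coeff n (E b z) else 0

omit hx0 hxmul hb in
theorem dd_eq {z : P} (hz : z ∈ Pplus x) (n : ℕ) :
    dd (x := x) b n z = PowerSeries.coeff n (E b z) := by
  rw [dd, if_pos hz]

theorem preDP_dd : PreDP (Pplus x) (dd (x := x) b) where
  null := fun n z hz => by rw [dd, if_neg hz]
  zero := fun z hz => by rw [dd_eq b hz, coeff_zero_E hx0 hxmul b hb]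
  one := fun z hz => by rw [dd_eq b hz, coeff_one_E hx0 hxmul b hb hz]
  mem := fun n z hn hz => by rw [dd_eq b hz]; exact coeff_E_mem hx0 hxmul b hb z hn
  add := fun n z w hz hw => by
    rw [dd_eq b (Ideal.add_mem _ hz hw), E_add hx0 hxmul b hb, PowerSeries.coeff_mul]
    refine Finset.sum_congr rfl ?_
    intro k _
    rw [dd_eq b hz, dd_eq b hw]
  mul := fun n a z hz => by
    rw [dd_eq b (Ideal.mul_mem_left _ a hz), dd_eq b hz, E_mul hx0 hxmul b hb a hz,
      PowerSeries.coeff_rescale]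

theorem dd_b {e : Λ →₀ ℕ} (he : e ≠ 0) (n : ℕ) :
    dd (x := x) b n (b e) = (cc n e : P) * b (n • e) := by
  rw [dd_eq b (b_mem_Pplus b hb he), E_b hx0 hxmul b hb, coeff_Gb b he]

omit hxmul in
theorem span_gens : Ideal.span {y : P | ∃ e : Λ →₀ ℕ, e ≠ 0 ∧ y = b e} = Pplus x := by
  apply le_antisymm
  · rw [Ideal.span_le]
    rintro _ ⟨e, he, rfl⟩
    exact b_mem_Pplus b hb he
  · rw [Pplus, Ideal.span_le]
    rintro _ ⟨l, n, hn, rfl⟩
    refine Ideal.subset_span ⟨Finsupp.single l n, ?_, (b_single hx0 b hb l n).symm⟩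
    intro h0
    have := DFunLike.congr_fun h0 l
    simp at this
    omega

theorem exists_dp : ∃ γ : DividedPowers (Pplus x),
    ∀ (l : Λ) (n : ℕ), γ.dpow n (x l 1) = x l n := by
  have hP := preDP_dd hx0 hxmul b hb
  obtain ⟨γ, hγ⟩ := exists_dividedPowers hP (span_gens hx0 b hb)
    (by
      rintro _ ⟨e, he, rfl⟩ i j
      rw [dd_eq b (b_mem_Pplus b hb he), dd_eq b (b_mem_Pplus b hb he),
        dd_eq b (b_mem_Pplus b hb he), E_b hx0 hxmul b hb]
      exact Gb_binomial hx0 hxmul b hb e i j)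
    (by
      rintro _ ⟨e, he, rfl⟩ m n hn
      rw [dd_b hx0 hxmul b hb he, hP.mul m _ _ (b_mem_Pplus b hb (smul_ne_zero' hn he)),
        dd_b hx0 hxmul b hb (smul_ne_zero' hn he), dd_b hx0 hxmul b hb he]
      calc ((cc n e : ℕ) : P) ^ m * ((cc m (n • e) : P) * b (m • n • e))
          = (((cc n e) ^ m * cc m (n • e) : ℕ) : P) * b (m • n • e) := by push_cast; ring
        _ = _ := by rw [cc_comp m hn he, mul_smul]; push_cast; ring)
  refine ⟨γ, ?_⟩
  intro l n
  have h1 : (Finsupp.single l 1 : Λ →₀ ℕ) ≠ 0 := by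
    intro h0
    have := DFunLike.congr_fun h0 l
    simp at this
  rw [hγ, ← b_single hx0 b hb l 1, dd_b hx0 hxmul b hb h1, cc_single_one, Nat.cast_one, one_mul,
    Finsupp.smul_single, smul_eq_mul, mul_one, b_single hx0 b hb]

omit hx0 hxmul hb b in
theorem unique_dp (γ γ' : DividedPowers (Pplus x))
    (h : ∀ (l : Λ) (n : ℕ), γ.dpow n (x l 1) = x l n)
    (h' : ∀ (l : Λ) (n : ℕ), γ'.dpow n (x l 1) = x l n) : γ = γ' := by
  refine DividedPowers.ext _ _ ?_
  intro n z hz
  have hS : ∀ y, y ∈ Ideal.span {y : P | ∃ (l : Λ) (n : ℕ), 1 ≤ n ∧ y = x l n} →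
      y ∈ Pplus x := fun y hy => hy
  change z ∈ Ideal.span {y : P | ∃ (l : Λ) (n : ℕ), 1 ≤ n ∧ y = x l n} at hz
  have hx1 : ∀ l, x l 1 ∈ Pplus x := fun l => Ideal.subset_span ⟨l, 1, le_rfl, rfl⟩
  induction hz using Submodule.span_induction generalizing n with
  | mem y hy =>
    obtain ⟨l, k, hk, rfl⟩ := hy
    have hk0 : k ≠ 0 := by omega
    have e1 : γ.dpow n (x l k) = (Nat.uniformBell n k : P) * x l (n * k) := by
      rw [← h l k, γ.dpow_comp hk0 (hx1 l), h l (n * k)]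
    have e2 : γ'.dpow n (x l k) = (Nat.uniformBell n k : P) * x l (n * k) := by
      rw [← h' l k, γ'.dpow_comp hk0 (hx1 l), h' l (n * k)]
    rw [e1, e2]
  | zero =>
    by_cases hn : n = 0
    · subst hn; rw [γ.dpow_zero (Ideal.zero_mem _), γ'.dpow_zero (Ideal.zero_mem _)]
    · rw [γ.dpow_eval_zero hn, γ'.dpow_eval_zero hn]
  | add y z hy hz iy iz =>
    rw [γ.dpow_add (hS y hy) (hS z hz), γ'.dpow_add (hS y hy) (hS z hz)]
    refine Finset.sum_congr rfl ?_
    intro k _
    rw [iy, iz]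
  | smul p y hy iy =>
    rw [smul_eq_mul, γ.dpow_mul (hS y hy), γ'.dpow_mul (hS y hy), iy]

theorem existsUnique_dp : ∃! γ : DividedPowers (Pplus x),
    ∀ (l : Λ) (n : ℕ), γ.dpow n (x l 1) = x l n := by
  obtain ⟨γ, hγ⟩ := exists_dp hx0 hxmul b hb
  exact ⟨γ, hγ, fun γ' hγ' => unique_dp γ' γ hγ' hγ⟩

end Groth.Agent.Lib.Helper26.DPPoly4
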