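import Mathlib.RingTheory.DividedPowers.RatAlgebra
import Mathlib.RingTheory.DividedPowers.DPMorphism
import Mathlib.LinearAlgebra.Basis.Bilinear
import Mathlib.Algebra.Algebra.Bilinear
import Mathlib.Tactic
import Groth.Agent.Lib.Helper26.DPPoly4

namespace Groth.Agent.Lib.Helper26.DPUniv

open Finset Nat
open Groth.Agent.Lib.Helper26.DPPoly1 Groth.Agent.Lib.Helper26.DPPoly2

variable {R : Type*} [CommRing R] {I : Ideal R} (γ : DividedPowers I)
  {Λ : Type*} {P : Type*} [CommRing P] [Algebra R P]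
  {x : Λ → ℕ → P}
  (hx0 : ∀ l, x l 0 = 1)
  (hxmul : ∀ l n m, x l n * x l m = ((n + m).choose n : P) * x l (n + m))
  (b : Module.Basis (Λ →₀ ℕ) R P) (hb : ∀ e : Λ →₀ ℕ, b e = e.prod (fun l k => x l k))
  (δ : DividedPowers (I.map (algebraMap R P) ⊔ Pplus x))
  (hδ : γ.IsDPMorphism δ (algebraMap R P))
  (hδx : ∀ (l : Λ) (n : ℕ), δ.dpow n (x l 1) = x l n)
  {C : Type*} [CommRing C] [Algebra R C] {K : Ideal C} (ε : DividedPowers K)
  (hε : γ.IsDPMorphism ε (algebraMap R C)) (k : Λ → C) (hk : ∀ l, k l ∈ K)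

/-- The linear map underlying the universal morphism. -/
noncomputable def phiLin : P →ₗ[R] C :=
  b.constr R (fun e => e.prod (fun l n => ε.dpow n (k l)))

theorem phiLin_b (e : Λ →₀ ℕ) :
    phiLin b ε k (b e) = e.prod (fun l n => ε.dpow n (k l)) := by
  rw [phiLin, Module.Basis.constr_basis]

include hk in
theorem phiLin_b_mul (e f : Λ →₀ ℕ) :
    phiLin b ε k (b e) * phiLin b ε k (b f) = (mch e f : C) * phiLin b ε k (b (e + f)) := by
  classical
  have h1 : phiLin b ε k (b e) = ∏ l ∈ e.support ∪ f.support, ε.dpow (e l) (k l) := by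
    rw [phiLin_b]
    exact Finsupp.prod_of_support_subset e Finset.subset_union_left _
      (fun l _ => ε.dpow_zero (hk l))
  have h2 : phiLin b ε k (b f) = ∏ l ∈ e.support ∪ f.support, ε.dpow (f l) (k l) := by
    rw [phiLin_b]
    exact Finsupp.prod_of_support_subset f Finset.subset_union_right _
      (fun l _ => ε.dpow_zero (hk l))
  have h3 : phiLin b ε k (b (e + f)) = ∏ l ∈ e.support ∪ f.support, ε.dpow (e l + f l) (k l) := by
    rw [phiLin_b]
    exact Finsupp.prod_of_support_subset (e + f) Finsupp.support_add _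
      (fun l _ => ε.dpow_zero (hk l))
  rw [h1, h2, h3, ← Finset.prod_mul_distrib, mch, Nat.cast_prod, ← Finset.prod_mul_distrib]
  refine Finset.prod_congr rfl ?_
  intro l _
  exact ε.mul_dpow (hk l)

include hx0 hxmul hb hk in
theorem phiLin_mul (y z : P) : phiLin b ε k (y * z) = phiLin b ε k y * phiLin b ε k z := by
  have key : (LinearMap.mul R P).compr₂ (phiLin b ε k) =
      (LinearMap.mul R C).compl₁₂ (phiLin b ε k) (phiLin b ε k) := by
    refine LinearMap.ext_basis b b ?_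
    intro e f
    simp only [LinearMap.compr₂_apply, LinearMap.mul_apply', LinearMap.compl₁₂_apply]
    rw [b_mul hx0 hxmul b hb, phiLin_b_mul b ε k hk, ← nsmul_eq_mul, map_nsmul, nsmul_eq_mul]
  have := LinearMap.congr_fun₂ key y z
  simpa only [LinearMap.compr₂_apply, LinearMap.mul_apply', LinearMap.compl₁₂_apply] using this

include hb in
theorem phiLin_one : phiLin b ε k 1 = 1 := by
  rw [← b_zero b hb, phiLin_b, Finsupp.prod_zero_index]

/-- The universal morphism. -/
noncomputable def phi : P →ₐ[R] C :=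
  AlgHom.ofLinearMap (phiLin b ε k) (phiLin_one b hb ε k) (phiLin_mul hx0 hxmul b hb ε k hk)

include hx0 hk in
theorem phi_x (l : Λ) (n : ℕ) : phi hx0 hxmul b hb ε k hk (x l n) = ε.dpow n (k l) := by
  change phiLin b ε k (x l n) = _
  rw [← b_single hx0 b hb, phiLin_b,
    Finsupp.prod_single_index (h := fun l n => ε.dpow n (k l)) (ε.dpow_zero (hk l))]

omit hx0 hxmul hb in
theorem J_eq_span : I.map (algebraMap R P) ⊔ Pplus x =
    Ideal.span ((algebraMap R P '' (I : Set R)) ∪ {y : P | ∃ (l : Λ) (n : ℕ), 1 ≤ n ∧ y = x l n}) := by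
  rw [Ideal.span_union]; rfl

include hδ hδx in
theorem delta_x (l : Λ) {m : ℕ} (hm : m ≠ 0) (n : ℕ) :
    δ.dpow n (x l m) = (Nat.uniformBell n m : P) * x l (n * m) := by
  have hx1 : x l 1 ∈ I.map (algebraMap R P) ⊔ Pplus x :=
    Ideal.mem_sup_right (Ideal.subset_span ⟨l, 1, le_rfl, rfl⟩)
  rw [← hδx l m, δ.dpow_comp hm hx1, hδx l (n * m)]

include hδ hδx hε in
theorem isDPMorphism_phi (g : P →ₐ[R] C) (hg : ∀ l n, g (x l n) = ε.dpow n (k l))
    (hk : ∀ l, k l ∈ K) : δ.IsDPMorphism ε g.toRingHom := by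
  refine DividedPowers.IsDPMorphism.on_span δ ε J_eq_span ?_ ?_
  · rintro s (⟨a, ha, rfl⟩ | ⟨l, n, hn, rfl⟩)
    · change g (algebraMap R P a) ∈ K
      rw [g.commutes]
      exact hε.ideal_comp (Ideal.mem_map_of_mem _ ha)
    · change g (x l n) ∈ K
      rw [hg]
      exact ε.dpow_mem (by omega) (hk l)
  · rintro n s (⟨a, ha, rfl⟩ | ⟨l, m, hm, rfl⟩)
    · change g (δ.dpow n (algebraMap R P a)) = ε.dpow n (g (algebraMap R P a))
      rw [hδ.dpow_comp a ha, g.commutes, g.commutes, hε.dpow_comp a ha]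
    · change g (δ.dpow n (x l m)) = ε.dpow n (g (x l m))
      rw [delta_x γ δ hδ hδx l (by omega) n, map_mul, map_natCast, hg, hg,
        ε.dpow_comp (by omega) (hk l)]

include hx0 hxmul hb hδ hδx hε hk in
theorem existsUnique_phi : ∃! g : P →ₐ[R] C,
    (∀ l, g (x l 1) = k l) ∧ δ.IsDPMorphism ε g.toRingHom := by
  refine ⟨phi hx0 hxmul b hb ε k hk, ⟨?_, ?_⟩, ?_⟩
  · intro l
    rw [phi_x hx0 hxmul b hb ε k hk, ε.dpow_one (hk l)]
  · exact isDPMorphism_phi γ δ hδ hδx ε hε k _ (phi_x hx0 hxmul b hb ε k hk) hk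
  · rintro g' ⟨h1, h2⟩
    have hx1 : ∀ l, x l 1 ∈ I.map (algebraMap R P) ⊔ Pplus x := fun l =>
      Ideal.mem_sup_right (Ideal.subset_span ⟨l, 1, le_rfl, rfl⟩)
    have hg' : ∀ l n, g' (x l n) = ε.dpow n (k l) := by
      intro l n
      rw [← hδx l n, ← h1 l]
      exact (h2.dpow_comp (x l 1) (hx1 l)).symm
    apply AlgHom.toLinearMap_injective
    refine b.ext ?_
    intro e
    change g' (b e) = phiLin b ε k (b e)
    rw [phiLin_b, hb, map_finsuppProd]
    refine Finsupp.prod_congr ?_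
    intro l _
    exact hg' l (e l)

end Groth.Agent.Lib.Helper26.DPUniv
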