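import Mathlib.RingTheory.DividedPowers.RatAlgebra
import Mathlib.Algebra.MvPolynomial.Basic
import Mathlib.RingTheory.MvPolynomial.Basic
import Mathlib.RingTheory.TensorProduct.Free
import Mathlib.LinearAlgebra.Basis.Bilinear
import Mathlib.Tactic
import Groth.Agent.Lib.Helper26.DPPoly4

namespace Groth.Agent.Lib.Helper26.DPZ1

open Finset Nat
open Groth.Agent.Lib.Helper26.DPPoly1 Groth.Agent.Lib.Helper26.DPPoly2

variable (t : ℕ)

/-- The divided monomials `X^e / e!` in `ℚ[X_1..X_t]`. -/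
noncomputable def u (e : Fin t →₀ ℕ) : MvPolynomial (Fin t) ℚ :=
  MvPolynomial.monomial e ((mfact e : ℚ)⁻¹)

theorem u_zero : u t 0 = 1 := by
  rw [u, mfact_zero, Nat.cast_one, inv_one]; rfl

theorem u_mul (e f : Fin t →₀ ℕ) : u t e * u t f = (mch e f : ℤ) • u t (e + f) := by
  rw [u, u, u, MvPolynomial.monomial_mul, ← mch_mul e f, zsmul_eq_mul]
  have h1 : (mfact e : ℚ) ≠ 0 := Nat.cast_ne_zero.mpr (mfact_pos e).ne'
  have h2 : (mfact f : ℚ) ≠ 0 := Nat.cast_ne_zero.mpr (mfact_pos f).ne'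
  have h3 : ((mch e f : ℤ) : MvPolynomial (Fin t) ℚ) = MvPolynomial.C (mch e f : ℚ) := by
    simp
  rw [h3, MvPolynomial.C_mul_monomial]
  congr 1
  have h4' : mch e f ≠ 0 := by
    intro h0
    have h := mch_mul e f
    rw [h0, zero_mul, zero_mul] at h
    exact (mfact_pos (e + f)).ne h
  have h4 : (mch e f : ℚ) ≠ 0 := Nat.cast_ne_zero.mpr h4'
  push_cast
  field_simp

theorem u_linearIndependent : LinearIndependent ℤ (u t) := by
  classical
  rw [linearIndependent_iff]
  intro l hl
  ext e0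
  have h := congrArg (MvPolynomial.coeff e0) hl
  rw [Finsupp.linearCombination_apply, Finsupp.sum, MvPolynomial.coeff_sum, MvPolynomial.coeff_zero]
    at h
  rw [Finset.sum_eq_single e0] at h
  · rw [MvPolynomial.coeff_smul, u, MvPolynomial.coeff_monomial, if_pos rfl, zsmul_eq_mul] at h
    have h1 : ((mfact e0 : ℚ))⁻¹ ≠ 0 := inv_ne_zero (Nat.cast_ne_zero.mpr (mfact_pos e0).ne')
    rcases mul_eq_zero.mp h with h2 | h2
    · rw [Finsupp.zero_apply]; exact_mod_cast h2
    · exact absurd h2 h1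
  · intro e _ hne
    rw [MvPolynomial.coeff_smul, u, MvPolynomial.coeff_monomial, if_neg hne, smul_zero]
  · intro hn
    rw [Finsupp.notMem_support_iff.mp hn, zero_smul, MvPolynomial.coeff_zero]

/-- The `ℤ`-span of the divided monomials. -/
noncomputable def Sspan : Submodule ℤ (MvPolynomial (Fin t) ℚ) := Submodule.span ℤ (Set.range (u t))

theorem one_mem_Sspan : (1 : MvPolynomial (Fin t) ℚ) ∈ Sspan t := by
  rw [← u_zero t]; exact Submodule.subset_span ⟨0, rfl⟩

theorem mul_mem_Sspan (a c : MvPolynomial (Fin t) ℚ) (ha : a ∈ Sspan t) (hc : c ∈ Sspan t) :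
    a * c ∈ Sspan t := by
  induction ha using Submodule.span_induction with
  | mem y hy =>
    obtain ⟨e, rfl⟩ := hy
    induction hc using Submodule.span_induction with
    | mem z hz =>
      obtain ⟨f, rfl⟩ := hz
      rw [u_mul]
      exact Submodule.smul_mem _ _ (Submodule.subset_span ⟨e + f, rfl⟩)
    | zero => rw [mul_zero]; exact Submodule.zero_mem _
    | add y z _ _ iy iz => rw [mul_add]; exact Submodule.add_mem _ iy iz
    | smul r y _ iy => rw [mul_smul_comm]; exact Submodule.smul_mem _ _ iy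
  | zero => rw [zero_mul]; exact Submodule.zero_mem _
  | add y z _ _ iy iz => rw [add_mul]; exact Submodule.add_mem _ iy iz
  | smul r y _ iy => rw [smul_mul_assoc]; exact Submodule.smul_mem _ _ iy

/-- The divided power polynomial ring over `ℤ`. -/
noncomputable def Sz : Subalgebra ℤ (MvPolynomial (Fin t) ℚ) :=
  (Sspan t).toSubalgebra (one_mem_Sspan t) (mul_mem_Sspan t)

theorem mem_Sz {y : MvPolynomial (Fin t) ℚ} : y ∈ Sz t ↔ y ∈ Sspan t := Submodule.mem_toSubalgebra

/-- The divided monomials as elements of `Sz`. -/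
noncomputable def uS (e : Fin t →₀ ℕ) : Sz t :=
  ⟨u t e, (mem_Sz t).mpr (Submodule.subset_span ⟨e, rfl⟩)⟩

theorem uS_linearIndependent : LinearIndependent ℤ (uS t) := by
  refine LinearIndependent.of_comp (Sz t).val.toLinearMap ?_
  exact u_linearIndependent t

theorem uS_span : ⊤ ≤ Submodule.span ℤ (Set.range (uS t)) := by
  rintro ⟨y, hy⟩ -
  have hy' := (mem_Sz t).mp hy
  induction hy' using Submodule.span_induction with
  | mem z hz =>
    obtain ⟨e, rfl⟩ := hz
    exact Submodule.subset_span ⟨e, rfl⟩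
  | zero => exact Submodule.zero_mem _
  | add y z hy1 hz1 iy iz =>
    have := Submodule.add_mem _ (iy ((mem_Sz t).mpr hy1)) (iz ((mem_Sz t).mpr hz1))
    exact this
  | smul r y hy1 iy =>
    have := Submodule.smul_mem _ r (iy ((mem_Sz t).mpr hy1))
    exact this

/-- The `ℤ`-basis of `Sz`. -/
noncomputable def bS : Module.Basis (Fin t →₀ ℕ) ℤ (Sz t) :=
  Module.Basis.mk (uS_linearIndependent t) (uS_span t)

theorem bS_apply (e : Fin t →₀ ℕ) : bS t e = uS t e := by
  rw [bS, Module.Basis.mk_apply]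

theorem uS_zero : uS t 0 = 1 := Subtype.ext (u_zero t)

theorem uS_mul (e f : Fin t →₀ ℕ) : uS t e * uS t f = (mch e f : ℤ) • uS t (e + f) :=
  Subtype.ext (u_mul t e f)

end Groth.Agent.Lib.Helper26.DPZ1
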