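import Mathlib.RingTheory.DividedPowers.RatAlgebra
import Mathlib.Algebra.MvPolynomial.Basic
import Mathlib.RingTheory.MvPolynomial.Basic
import Mathlib.RingTheory.TensorProduct.Free
import Mathlib.LinearAlgebra.Basis.Bilinear
import Mathlib.Tactic
import Groth.Agent.Lib.Helper26.DPZ1
import Groth.Agent.Lib.Helper26.DPUniv

namespace Groth.Agent.Lib.Helper26.DPZ2

open Finset Nat TensorProduct
open Groth.Agent.Lib.Helper26.DPPoly1 Groth.Agent.Lib.Helper26.DPPoly2
  Groth.Agent.Lib.Helper26.DPZ1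

universe u

theorem mfact_single {Λ : Type*} (i : Λ) (n : ℕ) : mfact (Finsupp.single i n) = n ! := by
  rw [mfact, Finsupp.prod_single_index Nat.factorial_zero]

theorem mch_single {Λ : Type*} (i : Λ) (n m : ℕ) :
    mch (Finsupp.single i n) (Finsupp.single i m) = (n + m).choose n := by
  have h := mch_mul (Finsupp.single i n) (Finsupp.single i m)
  rw [← Finsupp.single_add, mfact_single, mfact_single, mfact_single, ← choose_mul_fact n m] at h
  have hpos : 0 < n ! * m ! := Nat.mul_pos (Nat.factorial_pos _) (Nat.factorial_pos _)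
  refine Nat.eq_of_mul_eq_mul_right hpos ?_
  rw [← mul_assoc, h, mul_assoc]

variable (A : Type u) [CommRing A] (t : ℕ)

/-- The divided power polynomial algebra over `A`. -/
abbrev DD : Type u := A ⊗[ℤ] (Sz t)

/-- The divided powers of the variables. -/
noncomputable def xD (i : Fin t) (n : ℕ) : DD A t := (1 : A) ⊗ₜ[ℤ] uS t (Finsupp.single i n)

/-- The monomial basis. -/
noncomputable def bD : Module.Basis (Fin t →₀ ℕ) A (DD A t) := Algebra.TensorProduct.basis A (bS t)

theorem bD_apply (e : Fin t →₀ ℕ) : bD A t e = (1 : A) ⊗ₜ[ℤ] uS t e := by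
  rw [bD, Algebra.TensorProduct.basis_apply, bS_apply]

theorem xD_zero (i : Fin t) : xD A t i 0 = 1 := by
  rw [xD, Finsupp.single_zero, uS_zero]; rfl

theorem xD_mul (i : Fin t) (n m : ℕ) :
    xD A t i n * xD A t i m = ((n + m).choose n : DD A t) * xD A t i (n + m) := by
  rw [xD, xD, xD, Algebra.TensorProduct.tmul_mul_tmul, uS_mul, mch_single, ← Finsupp.single_add,
    TensorProduct.tmul_smul, mul_one, zsmul_eq_mul, Int.cast_natCast]

theorem uS_prod (e : Fin t →₀ ℕ) :
    e.prod (fun i k => uS t (Finsupp.single i k)) = uS t e := by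
  apply Subtype.ext
  rw [Finsupp.prod, ← Subalgebra.coe_val, map_prod]
  simp only [Subalgebra.coe_val, uS, u]
  have h1 : ∀ i ∈ e.support, MvPolynomial.monomial (Finsupp.single i (e i))
      ((mfact (Finsupp.single i (e i)) : ℚ)⁻¹) =
      MvPolynomial.monomial (Finsupp.single i (e i)) (((e i)! : ℚ)⁻¹) := by
    intro i _
    rw [mfact_single]
  rw [Finset.prod_congr rfl h1, ← MvPolynomial.monomial_sum_prod]
  congr 1
  · conv_rhs => rw [← Finsupp.sum_single e]
    rfl
  · rw [Finset.prod_inv_distrib, mfact, Finsupp.prod, Nat.cast_prod]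

theorem bD_eq_prod (e : Fin t →₀ ℕ) : bD A t e = e.prod (fun i k => xD A t i k) := by
  rw [bD_apply, ← uS_prod, Finsupp.prod, Finsupp.prod]
  have : ∀ y : Sz t, (1 : A) ⊗ₜ[ℤ] y = (Algebra.TensorProduct.includeRight : Sz t →ₐ[ℤ] DD A t) y :=
    fun y => rfl
  rw [this, map_prod]
  rfl

variable {A}

theorem main {I : Ideal A} (γ : DividedPowers I) :
    ∃ (D : Type u) (_ : CommRing D) (_ : Algebra A D) (J : Ideal D) (δ : DividedPowers J)
      (x : Fin t → D), (∀ i, x i ∈ J) ∧ γ.IsDPMorphism δ (algebraMap A D) ∧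
      ∀ (C : Type u) [CommRing C] [Algebra A C] (K : Ideal C) (ε : DividedPowers K),
        γ.IsDPMorphism ε (algebraMap A C) → ∀ k : Fin t → C, (∀ i, k i ∈ K) →
          ∃! g : D →ₐ[A] C, (∀ i, g (x i) = k i) ∧ δ.IsDPMorphism ε g.toRingHom := by
  have hx0 := xD_zero A t
  have hxmul := xD_mul A t
  have hb := bD_eq_prod A t
  obtain ⟨δplus, hδplus, -⟩ := DPPoly4.existsUnique_dp hx0 hxmul (bD A t) hb
  obtain ⟨δ, ⟨hδ, hδ2⟩, -⟩ := DPPoly1.main γ hx0 hxmul (bD A t) hb δplus
  have hx1 : ∀ i, xD A t i 1 ∈ Pplus (xD A t) := fun i =>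
    Ideal.subset_span ⟨i, 1, le_rfl, rfl⟩
  have hδx : ∀ (l : Fin t) (n : ℕ), δ.dpow n (xD A t l 1) = xD A t l n := by
    intro l n
    rw [hδ2 n _ (hx1 l), hδplus]
  refine ⟨DD A t, inferInstance, inferInstance, _, δ, fun i => xD A t i 1,
    fun i => Ideal.mem_sup_right (hx1 i), hδ, ?_⟩
  intro C _ _ K ε hε k hk
  exact DPUniv.existsUnique_phi γ hx0 hxmul (bD A t) hb δ hδ hδx ε hε k hk

end Groth.Agent.Lib.Helper26.DPZ2
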