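import Mathlib
import Groth.Prelude.Def_DeRham
import Groth.Agent.S15295
import Groth.Agent.Lib.Helper23.DeRhamGen

set_option autoImplicit false
set_option linter.unusedSectionVars false

open exteriorPower TensorProduct

namespace Groth.Agent.Helper26.DRBC

universe u

section abstract

variable {k K : Type*} [Field k] [Field K] [Algebra k K]
  {V W V' W' : Type*} [AddCommGroup V] [Module k V] [AddCommGroup W] [Module k W]
  [AddCommGroup V'] [Module k V'] [Module K V'] [IsScalarTower k K V']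
  [AddCommGroup W'] [Module k W'] [Module K W'] [IsScalarTower k K W']

theorem span_image_range (ψV : V →ₗ[k] V') (ψW : W →ₗ[k] W')
    (hV : Function.Surjective (LinearMap.liftBaseChange K ψV))
    (d : V →ₗ[k] W) (d' : V' →ₗ[K] W') (hc : ∀ x, ψW (d x) = d' (ψV x)) :
    Submodule.span K (ψW '' (LinearMap.range d : Set W)) = LinearMap.range d' := by
  apply le_antisymm
  · rw [Submodule.span_le]
    rintro _ ⟨_, ⟨x, rfl⟩, rfl⟩
    exact ⟨ψV x, (hc x).symm⟩
  · rintro _ ⟨y, rfl⟩
    obtain ⟨t, rfl⟩ := hV y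
    induction t with
    | zero => simp
    | add a b ha hb => rw [map_add, map_add]; exact add_mem ha hb
    | tmul s x =>
      rw [LinearMap.liftBaseChange_tmul, map_smul, ← hc]
      exact Submodule.smul_mem _ _ (Submodule.subset_span ⟨d x, ⟨x, rfl⟩, rfl⟩)

theorem span_image_ker (ψV : V →ₗ[k] V') (ψW : W →ₗ[k] W')
    (hV : Function.Surjective (LinearMap.liftBaseChange K ψV))
    (hW : Function.Injective (LinearMap.liftBaseChange K ψW))
    (d : V →ₗ[k] W) (d' : V' →ₗ[K] W') (hc : ∀ x, ψW (d x) = d' (ψV x)) :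
    Submodule.span K (ψV '' (LinearMap.ker d : Set V)) = LinearMap.ker d' := by
  apply le_antisymm
  · rw [Submodule.span_le]
    rintro _ ⟨x, hx, rfl⟩
    have hx' : d x = 0 := hx
    change d' (ψV x) = 0
    rw [← hc, hx', map_zero]
  · have hcomm : ∀ t : K ⊗[k] V, LinearMap.liftBaseChange K ψW (d.lTensor K t) =
        d' (LinearMap.liftBaseChange K ψV t) := by
      intro t
      induction t with
      | zero => simp
      | add a b ha hb => simp only [map_add, ha, hb]
      | tmul s x =>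
        rw [LinearMap.lTensor_tmul, LinearMap.liftBaseChange_tmul, LinearMap.liftBaseChange_tmul,
          map_smul, hc]
    have hmem : ∀ u : K ⊗[k] (LinearMap.ker d),
        LinearMap.liftBaseChange K ψV ((LinearMap.ker d).subtype.lTensor K u) ∈
          Submodule.span K (ψV '' (LinearMap.ker d : Set V)) := by
      intro u
      induction u with
      | zero => simp
      | add a b ha hb => rw [map_add, map_add]; exact add_mem ha hb
      | tmul s x =>
        rw [LinearMap.lTensor_tmul, LinearMap.liftBaseChange_tmul]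
        exact Submodule.smul_mem _ _ (Submodule.subset_span ⟨x.1, x.2, rfl⟩)
    intro y hy
    obtain ⟨t, rfl⟩ := hV y
    have h0 : d.lTensor K t = 0 := by
      apply hW
      rw [hcomm, map_zero]
      exact hy
    have hex := Module.Flat.lTensor_exact K (LinearMap.exact_subtype_ker_map d)
    obtain ⟨u, rfl⟩ := (hex t).mp h0
    exact hmem u

end abstract

section concrete

variable (k K : Type u) [Field k] [Field K] [Algebra k K]
    (A A' : Type u) [CommRing A] [CommRing A'] [Algebra k A]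
    [Algebra A A'] [Algebra k A'] [IsScalarTower k A A'] [Algebra K A'] [IsScalarTower k K A']
    [Algebra.IsPushout k K A A']
    (ψ : ∀ p : ℕ, ↥(⋀[A]^p (Ω[A⁄k])) →+ ↥(⋀[A']^p (Ω[A'⁄K])))
    (hψ : DeRham.IsCxMap (KaehlerDifferential.D k A) (KaehlerDifferential.D K A') (algebraMap A A') ψ)

include hψ in
theorem psi_smul (p : ℕ) (c : k) (x : ↥(⋀[A]^p (Ω[A⁄k]))) : ψ p (c • x) = c • ψ p x := by
  let f : ↥(⋀[A]^p (Ω[A⁄k])) →+ ↥(⋀[A']^p (Ω[A'⁄K])) :=
    (ψ p).comp (DistribSMul.toAddMonoidHom _ c)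
  let g : ↥(⋀[A]^p (Ω[A⁄k])) →+ ↥(⋀[A']^p (Ω[A'⁄K])) :=
    (DistribSMul.toAddMonoidHom _ c).comp (ψ p)
  have hfg : f = g := by
    apply Groth.Agent.Helper23.addHom_ext_gen
    intro b₀ b
    change ψ p (c • DeRham.gen (KaehlerDifferential.D k A) p b₀ b) =
      c • ψ p (DeRham.gen (KaehlerDifferential.D k A) p b₀ b)
    have h1 : c • DeRham.gen (KaehlerDifferential.D k A) p b₀ b =
        DeRham.gen (KaehlerDifferential.D k A) p (c • b₀) b := by
      simp only [DeRham.gen, smul_assoc]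
    rw [h1, hψ, hψ]
    simp only [DeRham.gen]
    rw [show (algebraMap A A') (c • b₀) = c • (algebraMap A A') b₀ from by
      rw [Algebra.smul_def, map_mul, ← IsScalarTower.algebraMap_apply, Algebra.smul_def], smul_assoc]
  exact DFunLike.congr_fun hfg x

/-- `ψ p` as a `k`-linear map. -/
noncomputable def psiL (hψ : DeRham.IsCxMap (KaehlerDifferential.D k A) (KaehlerDifferential.D K A')
    (algebraMap A A') ψ) (p : ℕ) : ↥(⋀[A]^p (Ω[A⁄k])) →ₗ[k] ↥(⋀[A']^p (Ω[A'⁄K])) where
  toFun := ψ p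
  map_add' := map_add _
  map_smul' c x := psi_smul k K A A' ψ hψ p c x

include hψ in
theorem lift_bijective (p : ℕ) :
    Function.Bijective (LinearMap.liftBaseChange K (psiL k K A A' ψ hψ p)) := by
  have := Groth.Agent.S15295.result k K A A' ψ hψ p
    (LinearMap.liftBaseChange K (psiL k K A A' ψ hψ p)).toAddMonoidHom (by
      intro s x
      change LinearMap.liftBaseChange K (psiL k K A A' ψ hψ p) (s ⊗ₜ[k] x) = s • ψ p x
      rw [LinearMap.liftBaseChange_tmul]
      rfl)
  exact this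

include hψ in
theorem main
    (d : ∀ p : ℕ, ↥(⋀[A]^p (Ω[A⁄k])) →ₗ[k] ↥(⋀[A]^(p + 1) (Ω[A⁄k])))
    (d' : ∀ p : ℕ, ↥(⋀[A']^p (Ω[A'⁄K])) →ₗ[K] ↥(⋀[A']^(p + 1) (Ω[A'⁄K])))
    (hcomm : ∀ (p : ℕ) (x : ↥(⋀[A]^p (Ω[A⁄k]))), ψ (p + 1) (d p x) = d' p (ψ p x))
    (p : ℕ) :
    Submodule.span K (ψ p '' (DeRham.cocycles d p : Set ↥(⋀[A]^p (Ω[A⁄k])))) = DeRham.cocycles d' p ∧
      Submodule.span K (ψ p '' (DeRham.coboundaries d p : Set ↥(⋀[A]^p (Ω[A⁄k])))) =
        DeRham.coboundaries d' p := by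
  constructor
  · exact span_image_ker (psiL k K A A' ψ hψ p) (psiL k K A A' ψ hψ (p + 1))
      (lift_bijective k K A A' ψ hψ p).2 (lift_bijective k K A A' ψ hψ (p + 1)).1 (d p) (d' p)
      (hcomm p)
  · cases p with
    | zero =>
      simp only [DeRham.coboundaries]
      simp
    | succ q =>
      exact span_image_range (psiL k K A A' ψ hψ q) (psiL k K A A' ψ hψ (q + 1))
        (lift_bijective k K A A' ψ hψ q).2 (d q) (d' q) (hcomm q)

end concrete

end Groth.Agent.Helper26.DRBC
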