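import Groth.Prelude.Def_W4c5adicflatcomplDec
import Mathlib
import Groth.Agent.Lib.Helper26.DecExact
import Groth.Agent.Lib.Helper26.DecSum

set_option autoImplicit false
universe u v w

namespace Groth.Agent.Helper26.DecTensor

open W4c5adicflatcompl TensorProduct Groth.Agent.Helper26.DecSum

variable {A : Type u} [CommRing A] (I : Ideal A) (Z : Type v)
  (M : Type w) [AddCommGroup M] [Module A M]

/-- the comparison map `M ⊗ D → (Z → M)`. -/
noncomputable abbrev Theta : M ⊗[A] (decaying I Z A) →ₗ[A] (Z → M) :=
  (TensorProduct.piScalarRightHom A A M Z) ∘ₗ ((decaying I Z A).subtype.lTensor M)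

lemma Theta_tmul (m : M) (g : decaying I Z A) (z : Z) :
    Theta I Z M (m ⊗ₜ g) z = (g : Z → A) z • m := by
  simp [Theta]

variable {M} in
lemma Theta_sum {r : ℕ} (e : Fin r → M) (g : Fin r → decaying I Z A) (z : Z) :
    Theta I Z M (∑ i, e i ⊗ₜ g i) z = ∑ i, ((g i : decaying I Z A) : Z → A) z • e i := by
  rw [map_sum, Finset.sum_apply]
  apply Finset.sum_congr rfl
  intro i _
  exact Theta_tmul I Z M _ _ z

variable {M} in
/-- every tensor is a combination of the generators. -/
lemma exists_rep {r : ℕ} (e : Fin r → M) (he : Submodule.span A (Set.range e) = ⊤)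
    (t : M ⊗[A] (decaying I Z A)) :
    ∃ g : Fin r → decaying I Z A, t = ∑ i, e i ⊗ₜ g i := by
  induction t using TensorProduct.induction_on with
  | zero => exact ⟨0, by simp⟩
  | tmul m g =>
    have hm : m ∈ Submodule.span A (Set.range e) := by rw [he]; exact Submodule.mem_top
    obtain ⟨c, hc⟩ := (Submodule.mem_span_range_iff_exists_fun A).1 hm
    refine ⟨fun i => c i • g, ?_⟩
    rw [← hc, TensorProduct.sum_tmul]
    apply Finset.sum_congr rfl
    intro i _
    rw [TensorProduct.smul_tmul]
  | add x y hx hy =>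
    obtain ⟨g1, h1⟩ := hx
    obtain ⟨g2, h2⟩ := hy
    refine ⟨g1 + g2, ?_⟩
    rw [h1, h2, ← Finset.sum_add_distrib]
    apply Finset.sum_congr rfl
    intro i _
    rw [Pi.add_apply, TensorProduct.tmul_add]

/-- coordinates of a decaying function into a finite power are decaying. -/
lemma coord_mem {r : ℕ} (H : Z → (Fin r → A)) (hH : H ∈ decaying I Z (Fin r → A)) (i : Fin r) :
    (fun z => H z i) ∈ decaying I Z A := by
  rw [mem_decaying_iff] at hH ⊢
  intro n
  refine (hH n).subset ?_
  intro z hz hz'
  exact hz (map_mem I (LinearMap.proj i : (Fin r → A) →ₗ[A] A) n hz')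

/-- a function into a finite power with decaying coordinates is decaying. -/
lemma mem_of_coord {r : ℕ} (H : Z → (Fin r → A)) (hH : ∀ i, (fun z => H z i) ∈ decaying I Z A) :
    H ∈ decaying I Z (Fin r → A) := by
  classical
  rw [mem_decaying_iff]
  intro n
  have hfin : (⋃ i : Fin r, {z | H z i ∉ (I ^ n • ⊤ : Submodule A A)}).Finite :=
    Set.finite_iUnion fun i => (hH i) n
  refine hfin.subset ?_
  intro z hz
  by_contra hc
  apply hz
  have hall : ∀ i, H z i ∈ (I ^ n • ⊤ : Submodule A A) := by
    intro i
    by_contra hi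
    exact hc (Set.mem_iUnion.2 ⟨i, hi⟩)
  have e1 : H z = ∑ i, (LinearMap.single A (fun _ : Fin r => A) i) (H z i) := by
    funext j
    simp [Finset.sum_apply, Pi.single_apply]
  rw [e1]
  exact Submodule.sum_mem _ fun i _ => map_mem I _ n (hall i)

end Groth.Agent.Helper26.DecTensor

namespace Groth.Agent.Helper26.DecTensor

open W4c5adicflatcompl TensorProduct Groth.Agent.Helper26.DecSum

variable {A : Type u} [CommRing A] [IsNoetherianRing A] (I : Ideal A) [IsAdicComplete I A]
  (Z : Type v) (M : Type w) [AddCommGroup M] [Module A M] [Module.Finite A M]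

omit [IsNoetherianRing A] [IsAdicComplete I A] [Module.Finite A M] in
lemma smul_const_mem (g : decaying I Z A) (m : M) :
    (fun z => (g : Z → A) z • m) ∈ decaying I Z M := by
  rw [mem_decaying_iff]
  intro n
  refine (g.2 n).subset ?_
  intro z hz hz'
  exact hz (map_mem I (LinearMap.toSpanSingleton A M m) n hz')

theorem range_eq : LinearMap.range (Theta I Z M) = decaying I Z M := by
  obtain ⟨r, e, he⟩ := Module.Finite.exists_fin (R := A) (M := M)
  apply le_antisymm
  · rintro _ ⟨t, rfl⟩
    obtain ⟨g, rfl⟩ := exists_rep I Z e he t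
    have : Theta I Z M (∑ i, e i ⊗ₜ g i) = ∑ i, (fun z => ((g i : decaying I Z A) : Z → A) z • e i) := by
      funext z
      rw [Theta_sum, Finset.sum_apply]
    rw [this]
    exact Submodule.sum_mem _ fun i _ => smul_const_mem I Z M (g i) (e i)
  · intro h hh
    let π : (Fin r → A) →ₗ[A] M := Fintype.linearCombination A e
    have hπ : Function.Surjective π := by
      rw [← LinearMap.range_eq_top, Fintype.range_linearCombination, he]
    obtain ⟨H, hH, hHh⟩ := Groth.Agent.Helper26.DecExact.lift_surj I Z π hπ h hh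
    refine ⟨∑ i, e i ⊗ₜ (⟨fun z => H z i, coord_mem I Z H hH i⟩ : decaying I Z A), ?_⟩
    funext z
    rw [Theta_sum, ← hHh z]
    simp [π, Fintype.linearCombination_apply]

theorem injective : Function.Injective (Theta I Z M) := by
  classical
  obtain ⟨r, e, he⟩ := Module.Finite.exists_fin (R := A) (M := M)
  let π : (Fin r → A) →ₗ[A] M := Fintype.linearCombination A e
  have hπ_apply : ∀ x : Fin r → A, π x = ∑ i, x i • e i := fun x =>
    Fintype.linearCombination_apply A e x
  let K : Submodule A (Fin r → A) := LinearMap.ker π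
  have hKfin : Module.Finite A K := Module.Finite.of_injective K.subtype Subtype.val_injective
  obtain ⟨s, k, hk⟩ := Module.Finite.exists_fin (R := A) (M := K)
  let πK : (Fin s → A) →ₗ[A] K := Fintype.linearCombination A k
  have hπK : Function.Surjective πK := by
    rw [← LinearMap.range_eq_top, Fintype.range_linearCombination, hk]
  rw [← LinearMap.ker_eq_bot, LinearMap.ker_eq_bot']
  intro t ht
  obtain ⟨g, rfl⟩ := exists_rep I Z e he t
  -- the associated function into A^r
  let G : Z → (Fin r → A) := fun z i => ((g i : decaying I Z A) : Z → A) z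
  have hGdec : G ∈ decaying I Z (Fin r → A) := mem_of_coord I Z G (fun i => (g i).2)
  have hGK : ∀ z, G z ∈ K := by
    intro z
    rw [LinearMap.mem_ker, hπ_apply]
    have := congrFun ht z
    rw [Theta_sum] at this
    exact this
  have hGK' : (fun z => (⟨G z, hGK z⟩ : K)) ∈ decaying I Z K :=
    (Groth.Agent.Helper26.DecExact.sub_iff I Z (Fin r → A) K _).2 hGdec
  obtain ⟨C, hC, hCG⟩ := Groth.Agent.Helper26.DecExact.lift_surj I Z πK hπK _ hGK'
  let c : Fin s → decaying I Z A := fun j => ⟨fun z => C z j, coord_mem I Z C hC j⟩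
  have hg : ∀ i, g i = ∑ j, ((k j : K) : Fin r → A) i • c j := by
    intro i
    apply Subtype.ext
    funext z
    have h1 := congrArg (fun x : K => (x : Fin r → A) i) (hCG z)
    simp only [πK, Fintype.linearCombination_apply] at h1
    simp only [Submodule.coe_sum, Submodule.coe_smul, Finset.sum_apply, Pi.smul_apply,
      smul_eq_mul, c]
    rw [show ((g i : decaying I Z A) : Z → A) z = G z i from rfl, ← h1]
    simp [mul_comm]
  have : ∑ i, e i ⊗ₜ[A] g i = ∑ j, (π (k j : K)) ⊗ₜ[A] c j := by
    simp_rw [hg, TensorProduct.tmul_sum, hπ_apply, TensorProduct.sum_tmul]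
    rw [Finset.sum_comm]
    apply Finset.sum_congr rfl
    intro j _
    apply Finset.sum_congr rfl
    intro i _
    rw [TensorProduct.smul_tmul, TensorProduct.tmul_smul]
  rw [this]
  apply Finset.sum_eq_zero
  intro j _
  have : π (k j : K) = 0 := (k j).2
  rw [this, TensorProduct.zero_tmul]

end Groth.Agent.Helper26.DecTensor
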