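import Groth.Prelude.Def_W4c5adicflatcomplDec
import Mathlib
import Groth.Agent.Lib.Helper26.DecTensor

set_option autoImplicit false
universe u v w

namespace Groth.Agent.Helper26.DecTensor

open W4c5adicflatcompl TensorProduct

variable {A : Type u} [CommRing A] [IsNoetherianRing A] (I : Ideal A) [IsAdicComplete I A]
  (Z : Type v)

theorem flat_dec : Module.Flat A (decaying I Z A) := by
  rw [Module.Flat.iff_rTensor_injective]
  intro J _
  have hJfin : Module.Finite A J := Module.Finite.of_injective J.subtype Subtype.val_injective
  -- naturality
  have hnat : ∀ t : J ⊗[A] (decaying I Z A),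
      Theta I Z A (J.subtype.rTensor (decaying I Z A) t) =
        fun z => ((Theta I Z J t z : J) : A) := by
    intro t
    induction t using TensorProduct.induction_on with
    | zero => simp; rfl
    | tmul x g =>
      funext z
      rw [LinearMap.rTensor_tmul, Theta_tmul, Theta_tmul]
      rfl
    | add x y hx hy =>
      rw [map_add, map_add, hx, hy, map_add]
      rfl
  intro t1 t2 h12
  apply injective I Z J
  funext z
  have := congrFun ((hnat t1).symm.trans ((congrArg (Theta I Z A) h12).trans (hnat t2))) z
  exact Subtype.ext this

end Groth.Agent.Helper26.DecTensor
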