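import Mathlib

set_option autoImplicit false
universe u
open scoped TensorProduct

namespace Groth.Agent.Helper26.DefSq

variable {A' : Type*} [CommRing A'] (J : Ideal A')

section mu
variable (M : Type*) [AddCommGroup M] [Module A' M]

/-- multiplication map `M ⊗ J → M`. -/
noncomputable def mu : M ⊗[A'] J →ₗ[A'] M :=
  (TensorProduct.rid A' M).toLinearMap ∘ₗ LinearMap.lTensor M J.subtype

@[simp] theorem mu_tmul (m : M) (j : J) : mu J M (m ⊗ₜ j) = (j : A') • m := by
  simp [mu]

theorem mu_apply (z : M ⊗[A'] J) :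
    mu J M z = TensorProduct.rid A' M (LinearMap.lTensor M (Submodule.subtype J) z) := rfl

theorem mu_injective [Module.Flat A' M] : Function.Injective (mu J M) := by
  unfold mu
  rw [LinearMap.coe_comp]
  exact (TensorProduct.rid A' M).injective.comp
    (Module.Flat.lTensor_preserves_injective_linearMap (M := M) J.subtype
      (Submodule.subtype_injective J))

variable {M} in
theorem mu_natural {N : Type*} [AddCommGroup N] [Module A' N] (f : M →ₗ[A'] N)
    (w : M ⊗[A'] J) : mu J N (LinearMap.rTensor J f w) = f (mu J M w) := by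
  induction w using TensorProduct.induction_on with
  | zero => simp
  | tmul m j => simp
  | add x y hx hy => simp [hx, hy]

end mu

section claim
variable {B' : Type*} [CommRing B'] [Algebra A' B']

theorem mu_smul (b : B') (z : B' ⊗[A'] J) : mu J B' (b • z) = b * mu J B' z := by
  induction z using TensorProduct.induction_on with
  | zero => simp
  | tmul m j => simp [TensorProduct.smul_tmul']
  | add x y hx hy => simp [hx, hy, mul_add]

theorem mem_map_iff (x : B') : x ∈ J.map (algebraMap A' B') ↔ ∃ z, mu J B' z = x := by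
  constructor
  · intro hx
    unfold Ideal.map at hx
    induction hx using Submodule.span_induction with
    | mem x hx =>
      obtain ⟨j, hj, rfl⟩ := hx
      exact ⟨(1 : B') ⊗ₜ ⟨j, hj⟩, by simp [Algebra.algebraMap_eq_smul_one]⟩
    | zero => exact ⟨0, by simp⟩
    | add x y _ _ hx hy =>
      obtain ⟨z1, rfl⟩ := hx
      obtain ⟨z2, rfl⟩ := hy
      exact ⟨z1 + z2, by simp⟩
    | smul b x _ hx =>
      obtain ⟨z, rfl⟩ := hx
      exact ⟨b • z, by rw [mu_smul, smul_eq_mul]⟩
  · rintro ⟨z, rfl⟩
    induction z using TensorProduct.induction_on with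
    | zero => simp
    | tmul m j =>
      rw [mu_tmul, Algebra.smul_def]
      exact Ideal.mul_mem_right _ _ (Ideal.mem_map_of_mem _ j.2)
    | add x y hx hy => rw [map_add]; exact Ideal.add_mem _ hx hy

/-- If `B'/I'` is flat, any `w` with `μ w ∈ I'` dies under any map killing `I'`. -/
theorem rTensor_eq_zero_of_mu_mem (I' : Ideal B') [Module.Flat A' (B' ⧸ I')]
    {Q : Type*} [AddCommGroup Q] [Module A' Q] (q : B' →ₗ[A'] Q) (hq : ∀ y ∈ I', q y = 0)
    (w : B' ⊗[A'] J) (hw : mu J B' w ∈ I') : LinearMap.rTensor J q w = 0 := by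
  let g : B' →ₗ[A'] B' ⧸ I' := (Ideal.Quotient.mkₐ A' I').toLinearMap
  let f : (I'.restrictScalars A') →ₗ[A'] B' := (I'.restrictScalars A').subtype
  have hex : Function.Exact f g := by
    intro y
    constructor
    · intro hy
      have : y ∈ I' := Ideal.Quotient.eq_zero_iff_mem.1 hy
      exact ⟨⟨y, this⟩, rfl⟩
    · rintro ⟨y, rfl⟩
      exact Ideal.Quotient.eq_zero_iff_mem.2 y.2
  have hsurj : Function.Surjective g := Ideal.Quotient.mk_surjective
  have hex2 := rTensor_exact J hex hsurj
  have h1 : LinearMap.rTensor J g w = 0 := by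
    apply mu_injective J (B' ⧸ I')
    rw [mu_natural, map_zero]
    exact Ideal.Quotient.eq_zero_iff_mem.2 hw
  obtain ⟨v, rfl⟩ := (hex2 w).1 h1
  rw [← LinearMap.comp_apply, ← LinearMap.rTensor_comp]
  have : q ∘ₗ f = 0 := by
    ext y
    exact hq _ y.2
  rw [this, LinearMap.rTensor_zero, LinearMap.zero_apply]

end claim

end Groth.Agent.Helper26.DefSq
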