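import Mathlib
import Groth.Agent.Lib.Helper26.DefSq1

set_option autoImplicit false
universe u
open scoped TensorProduct

namespace Groth.Agent.Helper26.DefSq

variable {A' : Type u} [CommRing A'] (J : Ideal A') {B' : Type u} [CommRing B'] [Algebra A' B']
  (I : Ideal (B' ⧸ J.map (algebraMap A' B')))

/-- the projection `B' ⊗ J → (B/I) ⊗ J`. -/
noncomputable def pi : B' ⊗[A'] J →ₗ[A'] ((B' ⧸ J.map (algebraMap A' B')) ⧸ I) ⊗[A'] J :=
  LinearMap.rTensor J
    (IsScalarTower.toAlgHom A' B' ((B' ⧸ J.map (algebraMap A' B')) ⧸ I)).toLinearMap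

theorem pi_smul (b : B') (z : B' ⊗[A'] J) : pi J I (b • z) = b • pi J I z := by
  induction z using TensorProduct.induction_on with
  | zero => simp
  | tmul m j =>
    simp only [pi, TensorProduct.smul_tmul', LinearMap.rTensor_tmul, AlgHom.toLinearMap_apply,
      smul_eq_mul, map_mul]
    rw [IsScalarTower.coe_toAlgHom']
    exact congrArg (· ⊗ₜ[A'] j) (Algebra.smul_def b _).symm
  | add x y hx hy => simp only [smul_add, map_add, hx, hy]

theorem q_kills (I' : Ideal B')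
    (hI' : I'.map (Ideal.Quotient.mk (J.map (algebraMap A' B'))) = I) (y : B') (hy : y ∈ I') :
    (IsScalarTower.toAlgHom A' B' ((B' ⧸ J.map (algebraMap A' B')) ⧸ I)).toLinearMap y = 0 := by
  rw [AlgHom.toLinearMap_apply, IsScalarTower.coe_toAlgHom',
    IsScalarTower.algebraMap_apply B' (B' ⧸ J.map (algebraMap A' B'))]
  rw [Ideal.Quotient.algebraMap_eq, Ideal.Quotient.algebraMap_eq, Ideal.Quotient.eq_zero_iff_mem,
    ← hI']
  exact Ideal.mem_map_of_mem _ hy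

theorem pi_eq_zero_of_mu_mem (I' : Ideal B') [Module.Flat A' (B' ⧸ I')]
    (hI' : I'.map (Ideal.Quotient.mk (J.map (algebraMap A' B'))) = I)
    (w : B' ⊗[A'] J) (hw : mu J B' w ∈ I') : pi J I w = 0 :=
  rTensor_eq_zero_of_mu_mem J I' _ (q_kills J I I' hI') w hw

variable (I' I'' : Ideal B')

/-- the relation defining the difference map. -/
def Rel (x : B' ⧸ J.map (algebraMap A' B'))
    (t : ((B' ⧸ J.map (algebraMap A' B')) ⧸ I) ⊗[A'] J) : Prop :=
  ∃ x' ∈ I', ∃ x'' ∈ I'', ∃ z : B' ⊗[A'] J,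
    Ideal.Quotient.mk (J.map (algebraMap A' B')) x' = x ∧
    Ideal.Quotient.mk (J.map (algebraMap A' B')) x'' = x ∧
    mu J B' z = x'' - x' ∧ pi J I z = t

variable {I' I''}

theorem Rel.add {x y : B' ⧸ J.map (algebraMap A' B')}
    {t s : ((B' ⧸ J.map (algebraMap A' B')) ⧸ I) ⊗[A'] J}
    (h1 : Rel J I I' I'' x t) (h2 : Rel J I I' I'' y s) : Rel J I I' I'' (x + y) (t + s) := by
  obtain ⟨x', hx', x'', hx'', z, e1, e2, e3, e4⟩ := h1
  obtain ⟨y', hy', y'', hy'', w, f1, f2, f3, f4⟩ := h2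
  refine ⟨x' + y', I'.add_mem hx' hy', x'' + y'', I''.add_mem hx'' hy'', z + w, ?_, ?_, ?_, ?_⟩
  · rw [map_add, e1, f1]
  · rw [map_add, e2, f2]
  · rw [map_add, e3, f3]; ring
  · rw [map_add, e4, f4]

theorem Rel.smul {x : B' ⧸ J.map (algebraMap A' B')}
    {t : ((B' ⧸ J.map (algebraMap A' B')) ⧸ I) ⊗[A'] J} (b : B')
    (h1 : Rel J I I' I'' x t) :
    Rel J I I' I'' (Ideal.Quotient.mk (J.map (algebraMap A' B')) b * x) (b • t) := by
  obtain ⟨x', hx', x'', hx'', z, e1, e2, e3, e4⟩ := h1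
  refine ⟨b * x', I'.mul_mem_left b hx', b * x'', I''.mul_mem_left b hx'', b • z, ?_, ?_, ?_, ?_⟩
  · rw [map_mul, e1]
  · rw [map_mul, e2]
  · rw [mu_smul, e3]; ring
  · rw [pi_smul, e4]

variable [Module.Flat A' B'] [Module.Flat A' (B' ⧸ I')] [Module.Flat A' (B' ⧸ I'')]
  (hI' : I'.map (Ideal.Quotient.mk (J.map (algebraMap A' B'))) = I)
  (hI'' : I''.map (Ideal.Quotient.mk (J.map (algebraMap A' B'))) = I)

include hI' hI'' in
theorem Rel.unique {x : B' ⧸ J.map (algebraMap A' B')}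
    {t s : ((B' ⧸ J.map (algebraMap A' B')) ⧸ I) ⊗[A'] J}
    (h1 : Rel J I I' I'' x t) (h2 : Rel J I I' I'' x s) : t = s := by
  obtain ⟨x', hx', x'', hx'', z, e1, e2, e3, e4⟩ := h1
  obtain ⟨y', hy', y'', hy'', w, f1, f2, f3, f4⟩ := h2
  -- u' = x' - y' ∈ I' ∩ JB', u'' = x'' - y'' ∈ I'' ∩ JB'
  have hu' : x' - y' ∈ J.map (algebraMap A' B') := by
    rw [← Ideal.Quotient.eq_zero_iff_mem, map_sub, e1, f1, sub_self]
  have hu'' : x'' - y'' ∈ J.map (algebraMap A' B') := by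
    rw [← Ideal.Quotient.eq_zero_iff_mem, map_sub, e2, f2, sub_self]
  obtain ⟨w', hw'⟩ := (mem_map_iff J _).1 hu'
  obtain ⟨w'', hw''⟩ := (mem_map_iff J _).1 hu''
  have hp' : pi J I w' = 0 :=
    pi_eq_zero_of_mu_mem J I I' hI' w' (by rw [hw']; exact I'.sub_mem hx' hy')
  have hp'' : pi J I w'' = 0 :=
    pi_eq_zero_of_mu_mem J I I'' hI'' w'' (by rw [hw'']; exact I''.sub_mem hx'' hy'')
  have hz : z - w = w'' - w' := by
    apply mu_injective J B'
    rw [map_sub, map_sub, e3, f3, hw', hw'']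
    ring
  have := congrArg (pi J I) hz
  rw [map_sub, map_sub, e4, f4, hp', hp'', sub_zero] at this
  exact sub_eq_zero.1 this

omit [Module.Flat A' B'] [Module.Flat A' (B' ⧸ I')] [Module.Flat A' (B' ⧸ I'')] in
include hI' hI'' in
theorem Rel.exists {x : B' ⧸ J.map (algebraMap A' B')} (hx : x ∈ I) :
    ∃ t, Rel J I I' I'' x t := by
  have h1 : x ∈ I'.map (Ideal.Quotient.mk (J.map (algebraMap A' B'))) := by rw [hI']; exact hx
  have h2 : x ∈ I''.map (Ideal.Quotient.mk (J.map (algebraMap A' B'))) := by rw [hI'']; exact hx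
  obtain ⟨x', hx', e1⟩ := (Ideal.mem_map_iff_of_surjective _ Ideal.Quotient.mk_surjective).1 h1
  obtain ⟨x'', hx'', e2⟩ := (Ideal.mem_map_iff_of_surjective _ Ideal.Quotient.mk_surjective).1 h2
  have hu : x'' - x' ∈ J.map (algebraMap A' B') := by
    rw [← Ideal.Quotient.eq_zero_iff_mem, map_sub, e1, e2, sub_self]
  obtain ⟨z, hz⟩ := (mem_map_iff J _).1 hu
  exact ⟨pi J I z, x', hx', x'', hx'', z, e1, e2, hz, rfl⟩

end Groth.Agent.Helper26.DefSq
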