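import Mathlib
import Groth.Agent.Lib.Helper26.DefSq2

set_option autoImplicit false
universe u
open scoped TensorProduct

namespace Groth.Agent.Helper26.DefSq

variable {A' : Type u} [CommRing A'] (J : Ideal A') {B' : Type u} [CommRing B'] [Algebra A' B']
  (I : Ideal (B' ⧸ J.map (algebraMap A' B'))) {I' I'' : Ideal B'}
  [Module.Flat A' B'] [Module.Flat A' (B' ⧸ I')] [Module.Flat A' (B' ⧸ I'')]
  (hI' : I'.map (Ideal.Quotient.mk (J.map (algebraMap A' B'))) = I)
  (hI'' : I''.map (Ideal.Quotient.mk (J.map (algebraMap A' B'))) = I)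

/-- the difference map. -/
noncomputable def diff : ↥I →ₗ[B'] (((B' ⧸ J.map (algebraMap A' B')) ⧸ I) ⊗[A'] ↥J) where
  toFun x := (Rel.exists J I hI' hI'' x.2).choose
  map_add' x y := by
    have hx := (Rel.exists J I hI' hI'' x.2).choose_spec
    have hy := (Rel.exists J I hI' hI'' y.2).choose_spec
    have hxy := (Rel.exists J I hI' hI'' (x + y).2).choose_spec
    exact Rel.unique J I hI' hI'' hxy (Rel.add J I hx hy)
  map_smul' b x := by
    have hx := (Rel.exists J I hI' hI'' x.2).choose_spec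
    have hbx := (Rel.exists J I hI' hI'' (b • x).2).choose_spec
    have h2 := Rel.smul J I b hx
    have e : ((b • x : ↥I) : B' ⧸ J.map (algebraMap A' B')) =
        Ideal.Quotient.mk (J.map (algebraMap A' B')) b * (x : B' ⧸ J.map (algebraMap A' B')) := by
      rw [Submodule.coe_smul_of_tower, Algebra.smul_def]
      rfl
    rw [← e] at h2
    exact Rel.unique J I hI' hI'' hbx h2

theorem diff_spec (x : I) : Rel J I I' I'' x.1 (diff J I hI' hI'' x) :=
  (Rel.exists J I hI' hI'' x.2).choose_spec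

include hI' hI'' in
theorem main :
    ∃! φ : ↥I →ₗ[B'] (((B' ⧸ J.map (algebraMap A' B')) ⧸ I) ⊗[A'] ↥J),
      (∀ (x : (B' ⧸ J.map (algebraMap A' B'))) (hx : x ∈ I) (x' x'' : B'), x' ∈ I' → x'' ∈ I'' →
          Ideal.Quotient.mk (J.map (algebraMap A' B')) x' = x →
          Ideal.Quotient.mk (J.map (algebraMap A' B')) x'' = x →
          ∀ z : B' ⊗[A'] ↥J,
            TensorProduct.rid A' B' (LinearMap.lTensor B' (Submodule.subtype J) z) = x'' - x' →
            LinearMap.rTensor ↥J (IsScalarTower.toAlgHom A' B'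
              ((B' ⧸ J.map (algebraMap A' B')) ⧸ I)).toLinearMap z = φ ⟨x, hx⟩) := by
  refine ⟨diff J I hI' hI'', ?_, ?_⟩
  · intro x hx x' x'' hx' hx'' e1 e2 z hz
    have h1 : Rel J I I' I'' x (pi J I z) := ⟨x', hx', x'', hx'', z, e1, e2, hz, rfl⟩
    exact Rel.unique J I hI' hI'' h1 (diff_spec J I hI' hI'' ⟨x, hx⟩)
  · intro ψ hψ
    ext x
    obtain ⟨x', hx', x'', hx'', z, e1, e2, e3, e4⟩ := diff_spec J I hI' hI'' x
    have := hψ x.1 x.2 x' x'' hx' hx'' e1 e2 z e3
    rw [← e4]
    exact this.symm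

end Groth.Agent.Helper26.DefSq
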