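import Mathlib
import Groth.Agent.Lib.Helper26.DefSq2

set_option autoImplicit false
universe u
open scoped TensorProduct

namespace Groth.Agent.Helper26.DefSq

variable {A' : Type u} [CommRing A'] (J : Ideal A') (hJ : J * J = ⊥)

include hJ in
/-- (G1) -/
theorem smul_tensor_eq_zero {N : Type*} [AddCommGroup N] [Module A' N] (j : A') (hj : j ∈ J)
    (u : N ⊗[A'] J) : j • u = 0 := by
  induction u using TensorProduct.induction_on with
  | zero => simp
  | tmul n j' =>
    rw [TensorProduct.smul_tmul']
    rw [TensorProduct.smul_tmul]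
    have : j • j' = 0 := by
      apply Subtype.ext
      have : j * (j' : A') ∈ J * J := Ideal.mul_mem_mul hj j'.2
      rw [hJ] at this
      exact this
    rw [this, TensorProduct.tmul_zero]
  | add x y hx hy => rw [smul_add, hx, hy, add_zero]

variable {B' : Type u} [CommRing B'] [Algebra A' B']
  (I : Ideal (B' ⧸ J.map (algebraMap A' B')))

/-- (G2) the kernel of `pi` -/
theorem pi_eq_zero_iff (w : B' ⊗[A'] J) :
    pi J I w = 0 ↔ ∃ v : ((I.comap (Ideal.Quotient.mk (J.map (algebraMap A' B')))).restrictScalars A')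
      ⊗[A'] J, LinearMap.rTensor J (Submodule.subtype _) v = w := by
  let K := (I.comap (Ideal.Quotient.mk (J.map (algebraMap A' B')))).restrictScalars A'
  let q : B' →ₗ[A'] ((B' ⧸ J.map (algebraMap A' B')) ⧸ I) :=
    (IsScalarTower.toAlgHom A' B' ((B' ⧸ J.map (algebraMap A' B')) ⧸ I)).toLinearMap
  have hq : ∀ y, q y = Ideal.Quotient.mk I (Ideal.Quotient.mk (J.map (algebraMap A' B')) y) := by
    intro y
    rfl
  have hex : Function.Exact K.subtype q := by
    intro y
    rw [hq, Ideal.Quotient.eq_zero_iff_mem]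
    constructor
    · intro hy
      exact ⟨⟨y, hy⟩, rfl⟩
    · rintro ⟨y, rfl⟩
      exact y.2
  have hqs : Function.Surjective q := by
    intro y
    obtain ⟨y1, rfl⟩ := Ideal.Quotient.mk_surjective y
    obtain ⟨y2, rfl⟩ := Ideal.Quotient.mk_surjective y1
    exact ⟨y2, hq y2⟩
  have := rTensor_exact J hex hqs w
  rw [show pi J I w = LinearMap.rTensor J q w from rfl, this]
  rfl

theorem pi_surjective : Function.Surjective (pi J I) := by
  apply LinearMap.rTensor_surjective
  intro y
  obtain ⟨y1, rfl⟩ := Ideal.Quotient.mk_surjective y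
  obtain ⟨y2, rfl⟩ := Ideal.Quotient.mk_surjective y1
  exact ⟨y2, rfl⟩

include hJ in
/-- (L) -/
theorem mu_mem_of_pi_eq_zero (K : Ideal B')
    (hK : K.map (Ideal.Quotient.mk (J.map (algebraMap A' B'))) = I)
    (w : B' ⊗[A'] J) (hw : pi J I w = 0) : mu J B' w ∈ K := by
  obtain ⟨v, rfl⟩ := (pi_eq_zero_iff J I w).1 hw
  clear hw
  induction v using TensorProduct.induction_on with
  | zero => simp
  | tmul y j =>
    rw [LinearMap.rTensor_tmul, mu_tmul]
    obtain ⟨y, hy⟩ := y
    have hy' : Ideal.Quotient.mk (J.map (algebraMap A' B')) y ∈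
        K.map (Ideal.Quotient.mk (J.map (algebraMap A' B'))) := by rw [hK]; exact hy
    obtain ⟨k, hk, e⟩ := (Ideal.mem_map_iff_of_surjective _ Ideal.Quotient.mk_surjective).1 hy'
    have hd : y - k ∈ J.map (algebraMap A' B') := by
      rw [← Ideal.Quotient.eq_zero_iff_mem, map_sub, e, sub_self]
    obtain ⟨u, hu⟩ := (mem_map_iff J _).1 hd
    have h0 : (j : A') • (y - k) = 0 := by
      rw [← hu, ← map_smul, smul_tensor_eq_zero J hJ _ j.2, map_zero]
    have : (j : A') • y = (j : A') • k := by
      rw [smul_sub, sub_eq_zero] at h0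
      exact h0
    show (j : A') • y ∈ K
    rw [this, Algebra.smul_def]
    exact K.mul_mem_left _ hk
  | add x y hx hy =>
    rw [map_add, map_add]
    exact K.add_mem hx hy

end Groth.Agent.Helper26.DefSq
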