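import Mathlib

set_option autoImplicit false
universe u
open scoped TensorProduct

namespace Groth.Agent.Helper26.SqFlat

variable {A' : Type*} [CommRing A'] (J : Ideal A')

/-- (T): for `J`-torsion modules, tensoring with `M` preserves injectivity if the base change of
`M` to `A'/J` is flat. -/
theorem rTensor_injective_of_torsion (M : Type*) [AddCommGroup M] [Module A' M]
    [Module.Flat (A' ⧸ J) ((A' ⧸ J) ⊗[A'] M)]
    {N₁ N₂ : Type*} [AddCommGroup N₁] [Module A' N₁] [AddCommGroup N₂] [Module A' N₂]
    (h₁ : Module.IsTorsionBySet A' N₁ J) (h₂ : Module.IsTorsionBySet A' N₂ J)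
    (f : N₁ →ₗ[A'] N₂) (hf : Function.Injective f) :
    Function.Injective (LinearMap.rTensor M f) := by
  let _ := h₁.module
  let _ := h₂.module
  have : IsScalarTower A' (A' ⧸ J) N₁ := h₁.isScalarTower
  have : IsScalarTower A' (A' ⧸ J) N₂ := h₂.isScalarTower
  let f' : N₁ →ₗ[A' ⧸ J] N₂ := f.extendScalarsOfSurjective Ideal.Quotient.mk_surjective
  have hf' : Function.Injective (LinearMap.rTensor ((A' ⧸ J) ⊗[A'] M) f') :=
    Module.Flat.rTensor_preserves_injective_linearMap f' hf
  let e₁ := TensorProduct.AlgebraTensorModule.cancelBaseChange A' (A' ⧸ J) (A' ⧸ J) N₁ M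
  let e₂ := TensorProduct.AlgebraTensorModule.cancelBaseChange A' (A' ⧸ J) (A' ⧸ J) N₂ M
  have key : ∀ x, LinearMap.rTensor M f x =
      e₂ (LinearMap.rTensor ((A' ⧸ J) ⊗[A'] M) f' (e₁.symm x)) := by
    intro x
    induction x using TensorProduct.induction_on with
    | zero => simp
    | tmul n m =>
      simp [e₁, e₂, f']
    | add x y hx hy => simp only [map_add, hx, hy]
  intro x y hxy
  rw [key, key] at hxy
  exact e₁.symm.injective (hf' (e₂.injective hxy))

end Groth.Agent.Helper26.SqFlat
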