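import Mathlib
import Groth.Agent.Lib.Helper26.SqFlat1

set_option autoImplicit false
universe u
open scoped TensorProduct

namespace Groth.Agent.Helper26.SqFlat

variable {A' : Type*} [CommRing A'] (J : Ideal A')

/-- Local flatness criterion for a square-zero ideal. -/
theorem flat_of_sqZero (hJ : J * J = ⊥) (M : Type*) [AddCommGroup M] [Module A' M]
    [Module.Flat (A' ⧸ J) ((A' ⧸ J) ⊗[A'] M)]
    (hinj : Function.Injective (LinearMap.rTensor M J.subtype)) : Module.Flat A' M := by
  rw [Module.Flat.iff_rTensor_injective']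
  intro 𝔞
  rw [injective_iff_map_eq_zero]
  intro t ht
  -- torsion facts
  have hJtors : Module.IsTorsionBySet A' J J := by
    intro x a
    apply Subtype.ext
    have : (a : A') * (x : A') ∈ J * J := Ideal.mul_mem_mul a.2 x.2
    rw [hJ] at this
    exact this
  let 𝔟 : Ideal A' := 𝔞 ⊓ J
  have h𝔟tors : Module.IsTorsionBySet A' 𝔟 J := by
    intro x a
    apply Subtype.ext
    have : (a : A') * (x : A') ∈ J * J := Ideal.mul_mem_mul a.2 x.2.2
    rw [hJ] at this
    exact this
  let i₁ : 𝔟 →ₗ[A'] 𝔞 := Submodule.inclusion inf_le_left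
  let i₂ : 𝔟 →ₗ[A'] J := Submodule.inclusion inf_le_right
  let C : Ideal (A' ⧸ J) := 𝔞.map (Ideal.Quotient.mk J)
  let q : 𝔞 →ₗ[A'] C :=
    { toFun := fun x => ⟨Ideal.Quotient.mk J x, Ideal.mem_map_of_mem _ x.2⟩
      map_add' := fun x y => by apply Subtype.ext; simp
      map_smul' := fun a x => by
        apply Subtype.ext
        simp [Algebra.smul_def] }
  have hex : Function.Exact i₁ q := by
    intro x
    constructor
    · intro hx
      have h1 : Ideal.Quotient.mk J (x : A') = 0 := congrArg Subtype.val hx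
      rw [Ideal.Quotient.eq_zero_iff_mem] at h1
      exact ⟨⟨x, x.2, h1⟩, rfl⟩
    · rintro ⟨y, rfl⟩
      apply Subtype.ext
      exact Ideal.Quotient.eq_zero_iff_mem.2 y.2.2
  have hqs : Function.Surjective q := by
    rintro ⟨c, hc⟩
    obtain ⟨x, hx, rfl⟩ := (Ideal.mem_map_iff_of_surjective _ Ideal.Quotient.mk_surjective).1 hc
    exact ⟨⟨x, hx⟩, rfl⟩
  have hCtors : Module.IsTorsionBySet A' C J := by
    intro x a
    apply Subtype.ext
    rw [Submodule.coe_smul_of_tower, Algebra.smul_def, Ideal.Quotient.algebraMap_eq,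
      Ideal.Quotient.eq_zero_iff_mem.2 a.2, zero_mul]
    rfl
  have hAtors : Module.IsTorsionBySet A' (A' ⧸ J) J := by
    intro x a
    rw [Algebra.smul_def, Ideal.Quotient.algebraMap_eq,
      Ideal.Quotient.eq_zero_iff_mem.2 a.2, zero_mul]
  let jC : C →ₗ[A'] (A' ⧸ J) := (Submodule.subtype C).restrictScalars A'
  have hjC : Function.Injective (LinearMap.rTensor M jC) :=
    rTensor_injective_of_torsion J M hCtors hAtors jC (Submodule.subtype_injective C)
  have hi₂ : Function.Injective (LinearMap.rTensor M i₂) :=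
    rTensor_injective_of_torsion J M h𝔟tors hJtors i₂ (Submodule.inclusion_injective _)
  -- step 1
  let mkl : A' →ₗ[A'] (A' ⧸ J) := (Ideal.Quotient.mkₐ A' J).toLinearMap
  have hsq : jC ∘ₗ q = mkl ∘ₗ 𝔞.subtype := by
    ext x
    rfl
  have h1 : LinearMap.rTensor M q t = 0 := by
    apply hjC
    rw [map_zero, ← LinearMap.comp_apply, ← LinearMap.rTensor_comp, hsq, LinearMap.rTensor_comp,
      LinearMap.comp_apply, ht, map_zero]
  -- step 2
  obtain ⟨t₀, rfl⟩ := (rTensor_exact M hex hqs t).1 h1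
  -- step 3
  have h2 : LinearMap.rTensor M J.subtype (LinearMap.rTensor M i₂ t₀) = 0 := by
    rw [← LinearMap.comp_apply, ← LinearMap.rTensor_comp]
    have : J.subtype ∘ₗ i₂ = 𝔞.subtype ∘ₗ i₁ := by
      ext x
      rfl
    rw [this, LinearMap.rTensor_comp, LinearMap.comp_apply, ht]
  have h3 : LinearMap.rTensor M i₂ t₀ = 0 := by
    apply hinj
    rw [h2, map_zero]
  have h4 : t₀ = 0 := by
    apply hi₂
    rw [h3, map_zero]
  rw [h4, map_zero]

end Groth.Agent.Helper26.SqFlat
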