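import Mathlib
import Groth.Agent.Lib.Helper26.DefSq4
import Groth.Agent.Lib.Helper26.SqFlat2

set_option autoImplicit false
universe u
open scoped TensorProduct

namespace Groth.Agent.Helper26.DefSq

variable {A' : Type u} [CommRing A'] (J : Ideal A') (hJ : J * J = ⊥)

theorem rTensor_injective_of_mu_injective (M : Type*) [AddCommGroup M] [Module A' M]
    (h : Function.Injective (mu J M)) : Function.Injective (LinearMap.rTensor M J.subtype) := by
  have key : ∀ x, LinearMap.rTensor M J.subtype x =
      (TensorProduct.lid A' M).symm (mu J M (TensorProduct.comm A' J M x)) := by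
    intro x
    induction x using TensorProduct.induction_on with
    | zero => simp
    | tmul j m =>
      rw [LinearMap.rTensor_tmul, TensorProduct.comm_tmul, mu_tmul, LinearEquiv.eq_symm_apply,
        TensorProduct.lid_tmul]
      rfl
    | add x y hx hy => simp only [map_add, hx, hy]
  intro x y hxy
  rw [key, key] at hxy
  exact (TensorProduct.comm A' J M).injective (h ((TensorProduct.lid A' M).symm.injective hxy))

variable {B' : Type u} [CommRing B'] [Algebra A' B']
  (I : Ideal (B' ⧸ J.map (algebraMap A' B')))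
  (K : Ideal B') (hK : K.map (Ideal.Quotient.mk (J.map (algebraMap A' B'))) = I)

/-- the quotient map as a linear map -/
noncomputable def gK (A' : Type u) [CommRing A'] {B' : Type u} [CommRing B'] [Algebra A' B']
    (K : Ideal B') : B' →ₗ[A'] B' ⧸ K := (Ideal.Quotient.mkₐ A' K).toLinearMap

theorem gK_apply (y : B') : gK A' K y = Ideal.Quotient.mk K y := rfl

include hJ in
theorem gK_mu_tmul_eq_zero (u : B' ⊗[A'] J) (j : J) :
    (gK A' K (mu J B' u)) ⊗ₜ[A'] j = (0 : (B' ⧸ K) ⊗[A'] J) := by
  induction u using TensorProduct.induction_on with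
  | zero => simp
  | tmul b j' =>
    rw [mu_tmul, map_smul, TensorProduct.smul_tmul]
    have : (j' : A') • j = 0 := by
      apply Subtype.ext
      have : (j' : A') * (j : A') ∈ J * J := Ideal.mul_mem_mul j'.2 j.2
      rw [hJ] at this
      exact this
    rw [this, TensorProduct.tmul_zero]
  | add x y hx hy => rw [map_add, map_add, TensorProduct.add_tmul, hx, hy, add_zero]

include hJ hK in
/-- (G3) -/
theorem rTensor_gK_eq_zero_of_pi_eq_zero (w : B' ⊗[A'] J) (hw : pi J I w = 0) :
    LinearMap.rTensor J (gK A' K) w = 0 := by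
  obtain ⟨v, rfl⟩ := (pi_eq_zero_iff J I w).1 hw
  clear hw
  induction v using TensorProduct.induction_on with
  | zero => simp
  | tmul y j =>
    rw [LinearMap.rTensor_tmul, LinearMap.rTensor_tmul]
    obtain ⟨y, hy⟩ := y
    have hy' : Ideal.Quotient.mk (J.map (algebraMap A' B')) y ∈
        K.map (Ideal.Quotient.mk (J.map (algebraMap A' B'))) := by rw [hK]; exact hy
    obtain ⟨k, hk, e⟩ := (Ideal.mem_map_iff_of_surjective _ Ideal.Quotient.mk_surjective).1 hy'
    have hd : y - k ∈ J.map (algebraMap A' B') := by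
      rw [← Ideal.Quotient.eq_zero_iff_mem, map_sub, e, sub_self]
    obtain ⟨u, hu⟩ := (mem_map_iff J _).1 hd
    have h1 : gK A' K y = gK A' K (mu J B' u) := by
      rw [hu, map_sub, gK_apply K k, Ideal.Quotient.eq_zero_iff_mem.2 hk, sub_zero]
    show (gK A' K y) ⊗ₜ[A'] j = 0
    rw [h1]
    exact gK_mu_tmul_eq_zero J hJ K u j
  | add x y hx hy => rw [map_add, map_add, hx, hy, add_zero]

include hJ hK in
/-- (P3b) -/
theorem mu_quot_injective (h : ∀ w, mu J B' w ∈ K → pi J I w = 0) :
    Function.Injective (mu J (B' ⧸ K)) := by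
  rw [injective_iff_map_eq_zero]
  intro w hw
  have hs : Function.Surjective (LinearMap.rTensor J (gK A' K)) :=
    LinearMap.rTensor_surjective _ Ideal.Quotient.mk_surjective
  obtain ⟨w', rfl⟩ := hs w
  rw [mu_natural, gK_apply, Ideal.Quotient.eq_zero_iff_mem] at hw
  exact rTensor_gK_eq_zero_of_pi_eq_zero J hJ I K hK w' (h w' hw)

end Groth.Agent.Helper26.DefSq
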