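import Mathlib
import Groth.Agent.Lib.Helper26.DefSq5

set_option autoImplicit false
universe u
open scoped TensorProduct

namespace Groth.Agent.Helper26.DefSq

variable {A' : Type u} [CommRing A'] (J : Ideal A')
  {B' : Type u} [CommRing B'] [Algebra A' B']
  (I : Ideal (B' ⧸ J.map (algebraMap A' B')))
  (K : Ideal B') (hK : K.map (Ideal.Quotient.mk (J.map (algebraMap A' B'))) = I)

include hK in
theorem toAlgHom_kills (y : B') (hy : y ∈ K) :
    IsScalarTower.toAlgHom A' B' ((B' ⧸ J.map (algebraMap A' B')) ⧸ I) y = 0 :=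
  q_kills J I K hK y hy

/-- the projection `B'/K → B/I`. -/
noncomputable def pK : (B' ⧸ K) →ₗ[A'] ((B' ⧸ J.map (algebraMap A' B')) ⧸ I) :=
  (Ideal.Quotient.liftₐ K (IsScalarTower.toAlgHom A' B' ((B' ⧸ J.map (algebraMap A' B')) ⧸ I))
    (toAlgHom_kills J I K hK)).toLinearMap

theorem pK_mk (y : B') : pK J I K hK (Ideal.Quotient.mk K y) =
    Ideal.Quotient.mk I (Ideal.Quotient.mk (J.map (algebraMap A' B')) y) := rfl

theorem pK_surjective : Function.Surjective (pK J I K hK) := by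
  intro y
  obtain ⟨y1, rfl⟩ := Ideal.Quotient.mk_surjective y
  obtain ⟨y2, rfl⟩ := Ideal.Quotient.mk_surjective y1
  exact ⟨Ideal.Quotient.mk K y2, rfl⟩

theorem ker_pK : LinearMap.ker (pK J I K hK) = (J • ⊤ : Submodule A' (B' ⧸ K)) := by
  apply le_antisymm
  · intro m hm
    obtain ⟨y, rfl⟩ := Ideal.Quotient.mk_surjective m
    rw [LinearMap.mem_ker, pK_mk, Ideal.Quotient.eq_zero_iff_mem, ← hK] at hm
    obtain ⟨k, hk, e⟩ := (Ideal.mem_map_iff_of_surjective _ Ideal.Quotient.mk_surjective).1 hm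
    have hd : y - k ∈ J.map (algebraMap A' B') := by
      rw [← Ideal.Quotient.eq_zero_iff_mem, map_sub, e, sub_self]
    obtain ⟨u, hu⟩ := (mem_map_iff J _).1 hd
    have h1 : Ideal.Quotient.mk K y = gK A' K (mu J B' u) := by
      rw [hu, map_sub, gK_apply K k, Ideal.Quotient.eq_zero_iff_mem.2 hk, sub_zero]
      rfl
    rw [h1]
    clear h1 hu
    induction u using TensorProduct.induction_on with
    | zero => simp
    | tmul b j =>
      rw [mu_tmul, map_smul]
      exact Submodule.smul_mem_smul j.2 Submodule.mem_top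
    | add x y hx hy => rw [map_add, map_add]; exact Submodule.add_mem _ hx hy
  · rw [Submodule.smul_le]
    intro j hj m _
    rw [LinearMap.mem_ker, map_smul]
    obtain ⟨y, rfl⟩ := Ideal.Quotient.mk_surjective m
    rw [pK_mk]
    refine (Algebra.smul_def (A := (B' ⧸ J.map (algebraMap A' B')) ⧸ I) j _).trans ?_
    rw [IsScalarTower.algebraMap_apply A' (A' ⧸ J),
      Ideal.Quotient.algebraMap_eq, Ideal.Quotient.eq_zero_iff_mem.2 hj, map_zero, zero_mul]

include hK in
theorem flat_baseChange_quot [Module.Flat (A' ⧸ J) ((B' ⧸ J.map (algebraMap A' B')) ⧸ I)] :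
    Module.Flat (A' ⧸ J) ((A' ⧸ J) ⊗[A'] (B' ⧸ K)) := by
  let e : (A' ⧸ J) ⊗[A'] (B' ⧸ K) ≃ₗ[A'] ((B' ⧸ J.map (algebraMap A' B')) ⧸ I) :=
    (TensorProduct.quotTensorEquivQuotSMul (B' ⧸ K) J) ≪≫ₗ
      (Submodule.quotEquivOfEq _ _ (ker_pK J I K hK).symm) ≪≫ₗ
      ((pK J I K hK).quotKerEquivOfSurjective (pK_surjective J I K hK))
  exact Module.Flat.of_linearEquiv
    (e.extendScalarsOfSurjective (S := A' ⧸ J) Ideal.Quotient.mk_surjective)

end Groth.Agent.Helper26.DefSq
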