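import Mathlib
import Groth.Agent.Lib.Helper26.DefSq6

set_option autoImplicit false
universe u
open scoped TensorProduct

namespace Groth.Agent.Helper26.DefSq

variable {A' : Type u} [CommRing A'] (J : Ideal A') (hJ : J * J = ⊥)
  {B' : Type u} [CommRing B'] [Algebra A' B']
  (I : Ideal (B' ⧸ J.map (algebraMap A' B')))

include hJ in
theorem flat_quot_of [Module.Flat (A' ⧸ J) ((B' ⧸ J.map (algebraMap A' B')) ⧸ I)]
    (K : Ideal B') (hK : K.map (Ideal.Quotient.mk (J.map (algebraMap A' B'))) = I)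
    (h : ∀ w, mu J B' w ∈ K → pi J I w = 0) : Module.Flat A' (B' ⧸ K) := by
  have := flat_baseChange_quot J I K hK
  exact SqFlat.flat_of_sqZero J hJ (B' ⧸ K)
    (rTensor_injective_of_mu_injective J (B' ⧸ K) (mu_quot_injective J hJ I K hK h))

variable (I' : Ideal B')
  (φ : ↥I →ₗ[B'] (((B' ⧸ J.map (algebraMap A' B')) ⧸ I) ⊗[A'] ↥J))

/-- the translate of `I'` by `φ`. -/
def translate : Ideal B' where
  carrier := {y | ∃ (hy : Ideal.Quotient.mk (J.map (algebraMap A' B')) y ∈ I), ∃ x' ∈ I',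
    ∃ z : B' ⊗[A'] J, Ideal.Quotient.mk (J.map (algebraMap A' B')) x' =
        Ideal.Quotient.mk (J.map (algebraMap A' B')) y ∧
      mu J B' z = y - x' ∧ pi J I z = φ ⟨_, hy⟩}
  zero_mem' := by
    refine ⟨by rw [map_zero]; exact I.zero_mem, 0, I'.zero_mem, 0, rfl, by simp, ?_⟩
    rw [map_zero]
    have : (⟨Ideal.Quotient.mk (J.map (algebraMap A' B')) 0, by rw [map_zero]; exact I.zero_mem⟩ : I)
        = 0 := by
      apply Subtype.ext
      exact map_zero _
    rw [this, map_zero]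
  add_mem' := by
    rintro a b ⟨ha, x', hx', z, e1, e2, e3⟩ ⟨hb, y', hy', w, f1, f2, f3⟩
    refine ⟨by rw [map_add]; exact I.add_mem ha hb, x' + y', I'.add_mem hx' hy', z + w, ?_, ?_, ?_⟩
    · rw [map_add, map_add, e1, f1]
    · rw [map_add, e2, f2]; ring
    · rw [map_add, e3, f3, ← map_add]
      congr 1
  smul_mem' := by
    rintro c a ⟨ha, x', hx', z, e1, e2, e3⟩
    refine ⟨by rw [smul_eq_mul, map_mul]; exact I.mul_mem_left _ ha, c * x', I'.mul_mem_left c hx',
      c • z, ?_, ?_, ?_⟩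
    · rw [smul_eq_mul, map_mul, map_mul, e1]
    · rw [mu_smul, e2, smul_eq_mul]; ring
    · rw [pi_smul, e3, ← map_smul]
      congr 1

theorem mem_translate (y : B') : y ∈ translate J I I' φ ↔
    ∃ (hy : Ideal.Quotient.mk (J.map (algebraMap A' B')) y ∈ I), ∃ x' ∈ I',
    ∃ z : B' ⊗[A'] J, Ideal.Quotient.mk (J.map (algebraMap A' B')) x' =
        Ideal.Quotient.mk (J.map (algebraMap A' B')) y ∧
      mu J B' z = y - x' ∧ pi J I z = φ ⟨_, hy⟩ := Iff.rfl

end Groth.Agent.Helper26.DefSq
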