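import Mathlib
import Groth.Agent.Lib.Helper26.DefSq7

set_option autoImplicit false
universe u
open scoped TensorProduct

namespace Groth.Agent.Helper26.DefSq

variable {A' : Type u} [CommRing A'] (J : Ideal A') (hJ : J * J = ⊥)
  {B' : Type u} [CommRing B'] [Algebra A' B']
  (I : Ideal (B' ⧸ J.map (algebraMap A' B')))
  (I' : Ideal B')
  (hI' : I'.map (Ideal.Quotient.mk (J.map (algebraMap A' B'))) = I)
  (φ : ↥I →ₗ[B'] (((B' ⧸ J.map (algebraMap A' B')) ⧸ I) ⊗[A'] ↥J))

theorem mk_mu (z : B' ⊗[A'] J) :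
    Ideal.Quotient.mk (J.map (algebraMap A' B')) (mu J B' z) = 0 :=
  Ideal.Quotient.eq_zero_iff_mem.2 ((mem_map_iff J _).2 ⟨z, rfl⟩)

include hI' in
/-- (P1) -/
theorem translate_map :
    (translate J I I' φ).map (Ideal.Quotient.mk (J.map (algebraMap A' B'))) = I := by
  apply le_antisymm
  · rw [Ideal.map_le_iff_le_comap]
    rintro y ⟨hy, -⟩
    exact hy
  · intro x hx
    have h1 : x ∈ I'.map (Ideal.Quotient.mk (J.map (algebraMap A' B'))) := by rw [hI']; exact hx
    obtain ⟨x', hx', rfl⟩ :=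
      (Ideal.mem_map_iff_of_surjective _ Ideal.Quotient.mk_surjective).1 h1
    obtain ⟨z, hz⟩ := pi_surjective J I (φ ⟨_, hx⟩)
    have e : Ideal.Quotient.mk (J.map (algebraMap A' B')) (x' + mu J B' z) =
        Ideal.Quotient.mk (J.map (algebraMap A' B')) x' := by
      rw [map_add, mk_mu, add_zero]
    have hmem : x' + mu J B' z ∈ translate J I I' φ := by
      refine ⟨by rw [e]; exact hx, x', hx', z, e.symm, by ring, ?_⟩
      rw [hz]
      congr 1
      apply Subtype.ext
      exact e.symm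
    rw [← e]
    exact Ideal.mem_map_of_mem _ hmem

variable [Module.Flat A' (B' ⧸ I')]

include hI' in
/-- (P2) -/
theorem translate_diff (x : (B' ⧸ J.map (algebraMap A' B'))) (hx : x ∈ I) (x' x'' : B')
    (hx' : x' ∈ I') (hx'' : x'' ∈ translate J I I' φ)
    (_e1 : Ideal.Quotient.mk (J.map (algebraMap A' B')) x' = x)
    (e2 : Ideal.Quotient.mk (J.map (algebraMap A' B')) x'' = x)
    (z : B' ⊗[A'] ↥J) (hz : mu J B' z = x'' - x') : pi J I z = φ ⟨x, hx⟩ := by
  obtain ⟨hy, x0, hx0, z0, f1, f2, f3⟩ := hx''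
  have h1 : mu J B' (z - z0) ∈ I' := by
    rw [map_sub, hz, f2]
    have : x'' - x' - (x'' - x0) = x0 - x' := by ring
    rw [this]
    exact I'.sub_mem hx0 hx'
  have h2 := pi_eq_zero_of_mu_mem J I I' hI' _ h1
  rw [map_sub, sub_eq_zero] at h2
  rw [h2, f3]
  congr 1
  apply Subtype.ext
  exact e2

variable [Module.Flat A' B']

include hI' in
/-- (Pmu) -/
theorem pi_eq_zero_of_mu_mem_translate (w : B' ⊗[A'] J) (hw : mu J B' w ∈ translate J I I' φ) :
    pi J I w = 0 := by
  obtain ⟨hy, x', hx', z, e1, e2, e3⟩ := hw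
  have h0 : (⟨Ideal.Quotient.mk (J.map (algebraMap A' B')) (mu J B' w), hy⟩ : I) = 0 := by
    apply Subtype.ext
    exact mk_mu J w
  rw [h0, map_zero] at e3
  rw [mk_mu] at e1
  have hx'J : x' ∈ J.map (algebraMap A' B') := Ideal.Quotient.eq_zero_iff_mem.1 e1
  obtain ⟨w', hw'⟩ := (mem_map_iff J _).1 hx'J
  have hp' : pi J I w' = 0 := pi_eq_zero_of_mu_mem J I I' hI' w' (by rw [hw']; exact hx')
  have : w = z + w' := by
    apply mu_injective J B'
    rw [map_add, e2, hw']
    ring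
  rw [this, map_add, e3, hp', add_zero]

omit [Module.Flat A' (B' ⧸ I')] [Module.Flat A' B'] in
include hJ hI' in
/-- (P4) -/
theorem translate_unique (K : Ideal B')
    (hK : K.map (Ideal.Quotient.mk (J.map (algebraMap A' B'))) = I)
    (hdiff : ∀ (x : (B' ⧸ J.map (algebraMap A' B'))) (hx : x ∈ I) (x' x'' : B'), x' ∈ I' →
      x'' ∈ K → Ideal.Quotient.mk (J.map (algebraMap A' B')) x' = x →
      Ideal.Quotient.mk (J.map (algebraMap A' B')) x'' = x →
      ∀ z : B' ⊗[A'] ↥J, mu J B' z = x'' - x' → pi J I z = φ ⟨x, hx⟩) :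
    K = translate J I I' φ := by
  apply le_antisymm
  · intro y hy
    have hyI : Ideal.Quotient.mk (J.map (algebraMap A' B')) y ∈ I := by
      rw [← hK]; exact Ideal.mem_map_of_mem _ hy
    have h1 : Ideal.Quotient.mk (J.map (algebraMap A' B')) y ∈
        I'.map (Ideal.Quotient.mk (J.map (algebraMap A' B'))) := by rw [hI']; exact hyI
    obtain ⟨x', hx', e⟩ :=
      (Ideal.mem_map_iff_of_surjective _ Ideal.Quotient.mk_surjective).1 h1
    have hd : y - x' ∈ J.map (algebraMap A' B') := by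
      rw [← Ideal.Quotient.eq_zero_iff_mem, map_sub, e, sub_self]
    obtain ⟨z, hz⟩ := (mem_map_iff J _).1 hd
    exact ⟨hyI, x', hx', z, e, hz, hdiff _ hyI x' y hx' hy e rfl z hz⟩
  · rintro y ⟨hyI, x', hx', z, e1, e2, e3⟩
    have h1 : Ideal.Quotient.mk (J.map (algebraMap A' B')) y ∈
        K.map (Ideal.Quotient.mk (J.map (algebraMap A' B'))) := by rw [hK]; exact hyI
    obtain ⟨k, hk, e⟩ :=
      (Ideal.mem_map_iff_of_surjective _ Ideal.Quotient.mk_surjective).1 h1
    have hd : k - x' ∈ J.map (algebraMap A' B') := by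
      rw [← Ideal.Quotient.eq_zero_iff_mem, map_sub, e, e1, sub_self]
    obtain ⟨zk, hzk⟩ := (mem_map_iff J _).1 hd
    have h2 := hdiff _ hyI x' k hx' hk e1 e zk hzk
    have h3 : pi J I (z - zk) = 0 := by rw [map_sub, e3, h2, sub_self]
    have h4 := mu_mem_of_pi_eq_zero J hJ I K hK _ h3
    rw [map_sub, e2, hzk] at h4
    have : y = (y - x' - (k - x')) + k := by ring
    rw [this]
    exact K.add_mem h4 hk

end Groth.Agent.Helper26.DefSq
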