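import Mathlib
import Groth.Agent.Lib.Helper26.DefSq8

set_option autoImplicit false
universe u
open scoped TensorProduct

namespace Groth.Agent.Helper26.DefSq

theorem main368 (A' : Type u) [CommRing A']
    (J : Ideal A') (hJ : J * J = ⊥) (B' : Type u) [CommRing B'] [Algebra A' B'] [Module.Flat A' B']
    (I : Ideal (B' ⧸ J.map (algebraMap A' B')))
    [Module.Flat (A' ⧸ J) ((B' ⧸ J.map (algebraMap A' B')) ⧸ I)]
    (I' : Ideal B') [Module.Flat A' (B' ⧸ I')]
    (hI' : I'.map (Ideal.Quotient.mk (J.map (algebraMap A' B'))) = I)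
    (φ : ↥I →ₗ[B'] (((B' ⧸ J.map (algebraMap A' B')) ⧸ I) ⊗[A'] ↥J)) :
    ∃! I'' : Ideal B', Module.Flat A' (B' ⧸ I'') ∧
      I''.map (Ideal.Quotient.mk (J.map (algebraMap A' B'))) = I ∧
      (∀ (x : (B' ⧸ J.map (algebraMap A' B'))) (hx : x ∈ I) (x' x'' : B'), x' ∈ I' → x'' ∈ I'' →
          Ideal.Quotient.mk (J.map (algebraMap A' B')) x' = x →
          Ideal.Quotient.mk (J.map (algebraMap A' B')) x'' = x →
          ∀ z : B' ⊗[A'] ↥J,
            TensorProduct.rid A' B' (LinearMap.lTensor B' (Submodule.subtype J) z) = x'' - x' →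
            LinearMap.rTensor ↥J (IsScalarTower.toAlgHom A' B'
              ((B' ⧸ J.map (algebraMap A' B')) ⧸ I)).toLinearMap z = φ ⟨x, hx⟩) := by
  refine ⟨translate J I I' φ, ⟨?_, translate_map J I I' hI' φ, ?_⟩, ?_⟩
  · exact flat_quot_of J hJ I _ (translate_map J I I' hI' φ)
      (pi_eq_zero_of_mu_mem_translate J I I' hI' φ)
  · intro x hx x' x'' hx' hx'' e1 e2 z hz
    exact translate_diff J I I' hI' φ x hx x' x'' hx' hx'' e1 e2 z hz
  · rintro K ⟨_, hK, hdiff⟩
    exact translate_unique J hJ I I' hI' φ K hK hdiff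

end Groth.Agent.Helper26.DefSq
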