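import Mathlib
import Groth.Prelude.Def_CAlg
import Groth.Agent.Lib.Lead.Depth1
import Groth.Agent.Lib.Helper9.Depth4

/-!
# Depth of `Hom(M, N)`: `depth Hom(M,N) ≥ min(2, depth N)`
-/

set_option autoImplicit false
set_option linter.style.haveILetI false
set_option linter.unusedSectionVars false
universe u v w

open RingTheory.Sequence LocCoh Pointwise

namespace Groth.Agent.Helper26.DepthHom

section Alg

variable {R : Type u} [CommRing R] {M : Type v} {N : Type w} [AddCommGroup M] [Module R M]
  [AddCommGroup N] [Module R N]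

theorem isSMulRegular_hom {x : R} (hx : IsSMulRegular N x) : IsSMulRegular (M →ₗ[R] N) x := by
  intro f g hfg
  ext m
  apply hx
  have := congrArg (fun h : M →ₗ[R] N => h m) hfg
  simpa using this

theorem isSMulRegular_of_injective {A : Type*} {B : Type*} [AddCommGroup A] [Module R A]
    [AddCommGroup B] [Module R B] (φ : A →ₗ[R] B) (hφ : Function.Injective φ) {y : R}
    (hy : IsSMulRegular B y) : IsSMulRegular A y := by
  intro a b hab
  apply hφ
  apply hy
  have := congrArg φ hab
  simpa using this

/-- post-composition with the quotient map `N → N/xN`. -/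
noncomputable def postQuot (x : R) : (M →ₗ[R] N) →ₗ[R] (M →ₗ[R] QuotSMulTop x N) :=
  LinearMap.llcomp R M N (QuotSMulTop x N) (Submodule.mkQ (x • (⊤ : Submodule R N)))

theorem postQuot_apply (x : R) (f : M →ₗ[R] N) (m : M) :
    postQuot (M := M) (N := N) x f m = Submodule.Quotient.mk (f m) := rfl

theorem ker_postQuot {x : R} (hx : IsSMulRegular N x) :
    LinearMap.ker (postQuot (M := M) (N := N) x) = x • (⊤ : Submodule R (M →ₗ[R] N)) := by
  apply le_antisymm
  · intro f hf
    rw [LinearMap.mem_ker] at hf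
    have h1 : ∀ m : M, ∃ n : N, x • n = f m := by
      intro m
      have h2 : postQuot (M := M) (N := N) x f m = 0 := by rw [hf]; rfl
      rw [postQuot_apply, Submodule.Quotient.mk_eq_zero,
        Submodule.mem_smul_pointwise_iff_exists] at h2
      obtain ⟨n, -, hn⟩ := h2
      exact ⟨n, hn⟩
    choose g hg using h1
    have hgl : ∃ G : M →ₗ[R] N, ∀ m, G m = g m := by
      refine ⟨{ toFun := g, map_add' := ?_, map_smul' := ?_ }, fun m => rfl⟩
      · intro a b
        apply hx
        change x • g (a + b) = x • (g a + g b)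
        rw [smul_add, hg, hg, hg, map_add]
      · intro c a
        apply hx
        change x • g (c • a) = x • ((RingHom.id R) c • g a)
        rw [RingHom.id_apply, smul_comm x c (g a), hg, hg, map_smul]
    obtain ⟨G, hG⟩ := hgl
    rw [Submodule.mem_smul_pointwise_iff_exists]
    refine ⟨G, trivial, ?_⟩
    ext m
    rw [LinearMap.smul_apply, hG, hg]
  · intro f hf
    rw [Submodule.mem_smul_pointwise_iff_exists] at hf
    obtain ⟨G, -, rfl⟩ := hf
    rw [LinearMap.mem_ker]
    ext m
    rw [postQuot_apply, LinearMap.smul_apply, LinearMap.zero_apply,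
      Submodule.Quotient.mk_eq_zero]
    exact Submodule.smul_mem_pointwise_smul _ _ _ trivial

/-- `Hom(M,N)/x Hom(M,N) ↪ Hom(M, N/xN)` -/
noncomputable def quotHom (x : R) :
    QuotSMulTop x (M →ₗ[R] N) →ₗ[R] (M →ₗ[R] QuotSMulTop x N) :=
  Submodule.liftQ _ (postQuot (M := M) (N := N) x) (by
    intro f hf
    rw [Submodule.mem_smul_pointwise_iff_exists] at hf
    obtain ⟨G, -, rfl⟩ := hf
    rw [LinearMap.mem_ker]
    ext m
    rw [postQuot_apply, LinearMap.smul_apply, LinearMap.zero_apply,
      Submodule.Quotient.mk_eq_zero]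
    exact Submodule.smul_mem_pointwise_smul _ _ _ trivial)

theorem quotHom_injective {x : R} (hx : IsSMulRegular N x) :
    Function.Injective (quotHom (M := M) (N := N) x) := by
  rw [← LinearMap.ker_eq_bot]
  unfold quotHom
  rw [Submodule.ker_liftQ, ker_postQuot hx]
  exact (Submodule.mkQ_map_self _)

/-- a weakly regular sequence of length at most two on `N` is weakly regular on `Hom(M, N)`. -/
theorem isWeaklyRegular_hom (rs : List R) (hlen : rs.length ≤ 2) (h : IsWeaklyRegular N rs) :
    IsWeaklyRegular (M →ₗ[R] N) rs := by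
  match rs, hlen, h with
  | [], _, _ => exact IsWeaklyRegular.nil R _
  | [x], _, h =>
    rw [isWeaklyRegular_cons_iff] at h ⊢
    exact ⟨isSMulRegular_hom h.1, IsWeaklyRegular.nil R _⟩
  | [x, y], _, h =>
    rw [isWeaklyRegular_cons_iff, isWeaklyRegular_cons_iff] at h
    rw [isWeaklyRegular_cons_iff, isWeaklyRegular_cons_iff]
    refine ⟨isSMulRegular_hom h.1, ?_, IsWeaklyRegular.nil R _⟩
    exact isSMulRegular_of_injective (quotHom (M := M) (N := N) x) (quotHom_injective h.1)
      (isSMulRegular_hom h.2.1)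
  | _ :: _ :: _ :: _, hl, _ => simp at hl

end Alg

section Local

variable (R : Type u) [CommRing R] [IsLocalRing R] (M : Type u) (N : Type u) [AddCommGroup M]
  [Module R M] [AddCommGroup N] [Module R N] [Module.Finite R N]

/-- `depth Hom(M, N) ≥ min(2, depth N)`, in the form: `k ≤ depth N → k ≤ depth Hom(M,N)` for `k ≤ 2`. -/
theorem le_depth_hom (k : ℕ) (hk : k ≤ 2) (h : (k : ℕ∞) ≤ LocCoh.depth R N) :
    (k : ℕ∞) ≤ LocCoh.depth R (M →ₗ[R] N) := by
  by_cases hN : Subsingleton N
  · haveI : Subsingleton (M →ₗ[R] N) := ⟨fun f g => by ext m; exact Subsingleton.elim _ _⟩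
    rw [Groth.Agent.Helper9.Depth.depth_eq_top_of_subsingleton]
    exact le_top
  · haveI : Nontrivial N := not_subsingleton_iff_nontrivial.1 hN
    have htop : IsLocalRing.maximalIdeal R • (⊤ : Submodule R N) ≠ ⊤ :=
      Groth.Agent.Helper9.Depth.smul_top_ne_top
    obtain ⟨rs, hlen, hreg, hmem⟩ :=
      Groth.Agent.Lead.Depth.exists_of_le_idealDepth _ N htop k h
    have h2 := Groth.Agent.Lead.Depth.le_idealDepth_of_isWeaklyRegular
      (IsLocalRing.maximalIdeal R) (M →ₗ[R] N) rs
      (isWeaklyRegular_hom rs (hlen ▸ hk) hreg) hmem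
    rw [hlen] at h2
    exact h2

end Local

end Groth.Agent.Helper26.DepthHom
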