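import Groth.Agent.Lib.Helper26.DepthHom
import Groth.Agent.Lib.Helper29.SHomA
import Groth.Agent.Lib.Lead.HomSh4
import Groth.Agent.Lib.Helper13.LocFree2
import Groth.Agent.S16484

/-!
# Stalks of the sheaf Hom of coherent modules and their depth
-/

set_option autoImplicit false
set_option linter.style.haveILetI false
set_option linter.unusedSectionVars false
universe u

open CategoryTheory CategoryTheory.Limits AlgebraicGeometry Opposite TopologicalSpace
open RefHull
open Groth.Agent.Lead.HomSh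

namespace Groth.Agent.Helper26.DepthHomSh

variable {X : Scheme.{u}}

/-- the stalk map of an isomorphism of modules is bijective. -/
theorem stalkMapₗ_bijective_of_isIso {A B : X.Modules} (φ : A ⟶ B) [IsIso φ] (x : X) :
    Function.Bijective (stalkMapₗ φ x) := by
  haveI : IsIso φ.mapPresheaf := by
    change IsIso ((Scheme.Modules.toPresheaf X).map φ)
    infer_instance
  exact ConcreteCategory.bijective_of_isIso
    ((TopCat.Presheaf.stalkFunctor Ab.{u} x).map φ.mapPresheaf)

/-- the stalks of isomorphic modules are linearly equivalent. -/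
noncomputable def stalkEquivOfIso {A B : X.Modules} (e : A ≅ B) (x : X) :
    A.presheaf.stalk x ≃ₗ[X.presheaf.stalk x] B.presheaf.stalk x :=
  LinearEquiv.ofBijective (stalkMapₗ e.hom x) (stalkMapₗ_bijective_of_isIso e.hom x)

theorem evalStalk_bijective [IsLocallyNoetherian X] (F G : X.Modules) (hF : Coh.IsCoh F) (x : X) :
    Function.Bijective (evalStalk F G x) := by
  haveI := isFinitePresentation_of_isCoh hF
  refine ⟨Groth.Agent.S16484.result X F G hF.2 x, fun φ => ?_⟩
  obtain ⟨W, hxW, g, hg⟩ := exists_sec_eq (G := G) x φ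
  exact ⟨(homSh F G).presheaf.germ W x hxW g, by rw [evalStalk_germ]; exact hg⟩

/-- `𝓗om(F, G)_x ≃ Hom(F_x, G_x)` for the chosen right adjoint of `F ⊗ -`, `F` coherent. -/
noncomputable def stalkSheafHomEquiv [IsLocallyNoetherian X] (F G : X.Modules) (hF : Coh.IsCoh F)
    [DCoh.HasSheafHom F] (x : X) :
    ((DCoh.sheafHom F).obj G).presheaf.stalk x ≃ₗ[X.presheaf.stalk x]
      (F.presheaf.stalk x →ₗ[X.presheaf.stalk x] G.presheaf.stalk x) :=
  (stalkEquivOfIso ((Groth.Agent.Helper29.SHomA.dSheafHomIso F).app G) x).trans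
    (LinearEquiv.ofBijective (evalStalk F G x) (evalStalk_bijective F G hF x))

/-- `k ≤ depth G_x → k ≤ depth 𝓗om(F,G)_x` for `k ≤ 2`. -/
theorem le_depth_sheafHom [IsLocallyNoetherian X] (F G : X.Modules) (hF : Coh.IsCoh F)
    (hG : Coh.IsCoh G) [DCoh.HasSheafHom F] (x : X) (k : ℕ) (hk : k ≤ 2)
    (h : (k : ℕ∞) ≤ LocCoh.depth (X.presheaf.stalk x) ↑(G.presheaf.stalk x)) :
    (k : ℕ∞) ≤ LocCoh.depth (X.presheaf.stalk x)
      ↑(((DCoh.sheafHom F).obj G).presheaf.stalk x) := by
  haveI : G.IsQuasicoherent := hG.1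
  haveI : SheafOfModules.IsFiniteType (R := X.ringCatSheaf) G := hG.2
  haveI : Module.Finite (X.presheaf.stalk x) (G.presheaf.stalk x) :=
    Groth.Agent.Helper13.LocFree.finite_stalk_of_isFiniteType G x
  rw [Groth.Agent.Helper9.Depth.depth_congr (stalkSheafHomEquiv F G hF x)]
  exact Groth.Agent.Helper26.DepthHom.le_depth_hom _ _ _ k hk h

theorem main9527 (X : Scheme.{u}) [IsLocallyNoetherian X] (F G : X.Modules)
    (hF : Coh.IsCoh F) (hG : Coh.IsCoh G) [DCoh.HasSheafHom F] (x : X) :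
    ((1 : ℕ∞) ≤ LocCoh.depth (X.presheaf.stalk x) ↑(G.presheaf.stalk x) →
      (1 : ℕ∞) ≤ LocCoh.depth (X.presheaf.stalk x) ↑(((DCoh.sheafHom F).obj G).presheaf.stalk x)) ∧
    ((2 : ℕ∞) ≤ LocCoh.depth (X.presheaf.stalk x) ↑(G.presheaf.stalk x) →
      (2 : ℕ∞) ≤ LocCoh.depth (X.presheaf.stalk x) ↑(((DCoh.sheafHom F).obj G).presheaf.stalk x)) :=
  ⟨fun h => by exact_mod_cast le_depth_sheafHom F G hF hG x 1 (by norm_num) (by exact_mod_cast h),
   fun h => by exact_mod_cast le_depth_sheafHom F G hF hG x 2 le_rfl (by exact_mod_cast h)⟩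

end Groth.Agent.Helper26.DepthHomSh
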