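import Groth.Agent.Lib.Helper26.DepthHomSh

/-!
# (S_k) for the sheaf Hom, k = 1, 2
-/

set_option autoImplicit false
set_option linter.style.haveILetI false
set_option linter.unusedSectionVars false
universe u v w

open CategoryTheory CategoryTheory.Limits AlgebraicGeometry Opposite TopologicalSpace
open RefHull
open Groth.Agent.Lead.HomSh

namespace Groth.Agent.Helper26.DepthHomSh

section Alg

variable {R : Type u} [CommRing R] {M : Type v} {N : Type w} [AddCommGroup M] [Module R M]
  [AddCommGroup N] [Module R N]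

theorem support_hom_subset [Module.Finite R M] :
    Module.support R (M →ₗ[R] N) ⊆ Module.support R N := by
  classical
  intro p hp
  by_contra hpN
  rw [Module.notMem_support_iff'] at hpN
  refine (Module.notMem_support_iff'.2 ?_) hp
  intro f
  obtain ⟨S, hS⟩ := (Module.Finite.fg_top : (⊤ : Submodule R M).FG)
  choose r hr hr0 using fun m => hpN (f m)
  refine ⟨∏ s ∈ S, r s, ?_, ?_⟩
  · intro h
    obtain ⟨s, -, hs⟩ := (Ideal.IsPrime.prod_mem_iff (hp := p.isPrime)).1 h
    exact hr s hs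
  · apply LinearMap.ext_on hS
    intro s hs
    have hs' : s ∈ S := hs
    rw [LinearMap.smul_apply, LinearMap.zero_apply, ← Finset.mul_prod_erase S r hs',
      mul_comm, mul_smul, hr0, smul_zero]

theorem supportDim_hom_le [Module.Finite R M] :
    Module.supportDim R (M →ₗ[R] N) ≤ Module.supportDim R N :=
  Order.krullDim_le_of_strictMono (fun a => ⟨a.1, support_hom_subset a.2⟩) (fun {_ _} lt => lt)

end Alg

variable {X : Scheme.{u}}

theorem supportDim_sheafHom_le [IsLocallyNoetherian X] (F G : X.Modules) (hF : Coh.IsCoh F)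
    [DCoh.HasSheafHom F] (x : X) :
    Module.supportDim (X.presheaf.stalk x) ↑(((DCoh.sheafHom F).obj G).presheaf.stalk x) ≤
      Module.supportDim (X.presheaf.stalk x) ↑(G.presheaf.stalk x) := by
  haveI : F.IsQuasicoherent := hF.1
  haveI : SheafOfModules.IsFiniteType (R := X.ringCatSheaf) F := hF.2
  haveI : Module.Finite (X.presheaf.stalk x) (F.presheaf.stalk x) :=
    Groth.Agent.Helper13.LocFree.finite_stalk_of_isFiniteType F x
  rw [Module.supportDim_eq_of_equiv (stalkSheafHomEquiv F G hF x)]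
  exact supportDim_hom_le

theorem main9529 (X : Scheme.{u}) [IsLocallyNoetherian X] (F G : X.Modules)
    (hF : Coh.IsCoh F) (hG : Coh.IsCoh G) [DCoh.HasSheafHom F] (k : ℕ) (hk : k = 1 ∨ k = 2)
    (hS : ∀ x : X, min (k : WithBot ℕ∞) (Module.supportDim (X.presheaf.stalk x) ↑(G.presheaf.stalk x)) ≤
      ((LocCoh.depth (X.presheaf.stalk x) ↑(G.presheaf.stalk x) : ℕ∞) : WithBot ℕ∞)) (x : X) :
    min (k : WithBot ℕ∞)
        (Module.supportDim (X.presheaf.stalk x) ↑(((DCoh.sheafHom F).obj G).presheaf.stalk x)) ≤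
      ((LocCoh.depth (X.presheaf.stalk x) ↑(((DCoh.sheafHom F).obj G).presheaf.stalk x) : ℕ∞) :
        WithBot ℕ∞) := by
  have hk2 : k ≤ 2 := by rcases hk with rfl | rfl <;> norm_num
  set δ := LocCoh.depth (X.presheaf.stalk x) ↑(G.presheaf.stalk x) with hδ
  set δ' := LocCoh.depth (X.presheaf.stalk x) ↑(((DCoh.sheafHom F).obj G).presheaf.stalk x) with hδ'
  set s := Module.supportDim (X.presheaf.stalk x) ↑(G.presheaf.stalk x) with hs
  set s' := Module.supportDim (X.presheaf.stalk x)
    ↑(((DCoh.sheafHom F).obj G).presheaf.stalk x) with hs'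
  have hss : s' ≤ s := supportDim_sheafHom_le F G hF x
  have hstep : ∀ j : ℕ, j ≤ 2 → (j : ℕ∞) ≤ δ → (j : ℕ∞) ≤ δ' :=
    fun j hj h => le_depth_sheafHom F G hF hG x j hj h
  have hSx := hS x
  by_cases hc : (k : ℕ∞) ≤ δ
  · have h1 := hstep k hk2 hc
    refine (min_le_left _ _).trans ?_
    exact_mod_cast h1
  · push Not at hc
    -- δ < k, so s ≤ δ
    have hsδ : s ≤ ((δ : ℕ∞) : WithBot ℕ∞) := by
      rcases min_le_iff.1 hSx with h | h
      · exfalso
        have : (k : ℕ∞) ≤ δ := by exact_mod_cast h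
        exact absurd this (not_le.2 hc)
      · exact h
    refine (min_le_right _ _).trans ?_
    -- s' ≤ s ≤ δ; need s' ≤ δ'
    obtain ⟨d, hd⟩ : ∃ d : ℕ, δ = d := by
      have : δ ≠ ⊤ := ne_top_of_lt hc
      exact ⟨δ.toNat, (ENat.natCast_toNat this).symm⟩
    have hdk : d < k := by
      rw [hd] at hc
      exact_mod_cast hc
    have hd2 : d ≤ 2 := by omega
    have hδ'd : (d : ℕ∞) ≤ δ' := hstep d hd2 (by rw [hd])
    calc s' ≤ s := hss
      _ ≤ ((δ : ℕ∞) : WithBot ℕ∞) := hsδ
      _ = ((d : ℕ∞) : WithBot ℕ∞) := by rw [hd]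
      _ ≤ ((δ' : ℕ∞) : WithBot ℕ∞) := by exact_mod_cast hδ'd

end Groth.Agent.Helper26.DepthHomSh
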