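import Mathlib
import Groth.Agent.Lib.Helper26.EndFin
import Groth.Agent.Lib.Helper26.IntLF
import Groth.Agent.Lib.Helper26.IntPn
import Groth.Agent.Lib.Helper26.Wedge
import Groth.Agent.Lib.Helper13.StalkBasis5
import Groth.Agent.Lib.Helper13.FinTypeExt
import Groth.Agent.Lib.Helper13.InvTensor
import Groth.Agent.Lib.Helper5.FPC1

/-!
# Globally generated bundles with trivial determinant on `P^n_k` are trivial
-/

set_option autoImplicit false
set_option maxHeartbeats 400000
set_option linter.unusedSectionVars false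
set_option linter.unusedVariables false
set_option linter.style.haveILetI false
universe u
open CategoryTheory CategoryTheory.Limits AlgebraicGeometry Opposite TopologicalSpace
open Groth.Agent.Helper13.StalkBasis Groth.Agent.Helper26.BasisSec Groth.Agent.Helper26.IntLF
open Groth.Agent.Helper24.KoszMap Groth.Agent.Helper13.LocFree exteriorPower

namespace Groth.Agent.Helper26.DetTriv

section Glue

variable {X : Scheme.{u}} (P : X.Modules)

/-- a compatible family of sections over the affine opens glues to a global section. -/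
theorem exists_glue_top (sf : ∀ U : X.affineOpens, Γ(P, U.1))
    (h : ∀ (U V : X.affineOpens) (hVU : V.1 ≤ U.1), res P hVU (sf U) = sf V) :
    ∃ s : Γ(P, ⊤), ∀ U : X.affineOpens, res P (le_top : U.1 ≤ ⊤) s = sf U := by
  let Uf : X.affineOpens → X.Opens := fun i => i.1
  have hcov : (⊤ : X.Opens) ≤ iSup Uf := by
    intro x hx
    obtain ⟨_, ⟨U, hU, rfl⟩, hxU, hUW⟩ :=
      X.isBasis_affineOpens.exists_subset_of_mem_open hx (⊤ : X.Opens).2
    exact Opens.mem_iSup.mpr ⟨⟨U, hU⟩, hxU⟩
  have hcompat : TopCat.Presheaf.IsCompatible P.presheaf Uf sf := by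
    intro i j
    refine eq_of_affine P (Uf i ⊓ Uf j) _ _ (fun V hV => ?_)
    have h1 : res P hV (P.presheaf.map (Opens.infLELeft (Uf i) (Uf j)).op (sf i)) =
        res P (hV.trans inf_le_left) (sf i) := res_res P hV inf_le_left (sf i)
    have h2 : res P hV (P.presheaf.map (Opens.infLERight (Uf i) (Uf j)).op (sf j)) =
        res P (hV.trans inf_le_right) (sf j) := res_res P hV inf_le_right (sf j)
    rw [h1, h2, h i V (hV.trans inf_le_left), h j V (hV.trans inf_le_right)]
  obtain ⟨s, hs, -⟩ := TopCat.Sheaf.existsUnique_gluing'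
    (⟨P.presheaf, P.isSheaf⟩ : TopCat.Sheaf Ab X) Uf ⊤ (fun i => homOfLE le_top) hcov sf hcompat
  exact ⟨s, fun U => hs U⟩

end Glue

section Det

variable {X : Scheme.{u}} (E L : X.Modules) (r : ℕ)
  (φ : ∀ U : X.affineOpens, Γ(L, U.1) ≃ₗ[Γ(X, U.1)] ↥(⋀[Γ(X, U.1)]^r Γ(E, U.1)))
  (hφ : ∀ (U V : X.affineOpens) (h : V.1 ≤ U.1) (f : Fin r → Γ(E, U.1)),
    res L h ((φ U).symm (ιMulti _ r f)) = (φ V).symm (ιMulti _ r (fun j => res E h (f j))))
  (ι : L ≅ Coh.structureModule X)

/-- the local determinant of `r` global sections. -/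
noncomputable def detLoc (s : Fin r → Γ(E, ⊤)) (U : X.affineOpens) :
    Γ(Coh.structureModule X, U.1) :=
  ι.hom.app U.1 ((φ U).symm (ιMulti _ r (fun j => res E (le_top : U.1 ≤ ⊤) (s j))))

include hφ in
lemma detLoc_res (s : Fin r → Γ(E, ⊤)) (U V : X.affineOpens) (hVU : V.1 ≤ U.1) :
    res (Coh.structureModule X) hVU (detLoc E L r φ ι s U) = detLoc E L r φ ι s V := by
  unfold detLoc
  rw [← app_res, hφ U V hVU]
  congr 3
  funext j
  exact res_res E hVU le_top (s j)

include hφ in
/-- the determinant of `r` global sections, a global function. -/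
theorem exists_det (s : Fin r → Γ(E, ⊤)) :
    ∃ c : Γ(Coh.structureModule X, ⊤), ∀ U : X.affineOpens,
      res (Coh.structureModule X) (le_top : U.1 ≤ ⊤) c = detLoc E L r φ ι s U :=
  exists_glue_top (Coh.structureModule X) (detLoc E L r φ ι s) (detLoc_res E L r φ hφ ι s)

/-- the local comparison map `Γ(O, U) → Γ(X, U)` attached to a basis of `E` on `U`. -/
noncomputable def θ (U : X.affineOpens) (b : Module.Basis (Fin r) Γ(X, U.1) Γ(E, U.1)) :
    Γ(Coh.structureModule X, U.1) →ₗ[Γ(X, U.1)] Γ(X, U.1) :=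
  (alternatingMapLinearEquiv b.det).comp ((φ U).toLinearMap.comp (appLin ι.inv U.1))

lemma θ_detLoc (U : X.affineOpens) (b : Module.Basis (Fin r) Γ(X, U.1) Γ(E, U.1))
    (s : Fin r → Γ(E, ⊤)) :
    θ E L r φ ι U b (detLoc E L r φ ι s U) =
      b.det (fun j => res E (le_top : U.1 ≤ ⊤) (s j)) := by
  unfold θ detLoc
  rw [LinearMap.comp_apply, LinearMap.comp_apply, appLin_apply]
  have h1 : ι.inv.app U.1 (ι.hom.app U.1
      ((φ U).symm (ιMulti _ r (fun j => res E (le_top : U.1 ≤ ⊤) (s j))))) =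
      (φ U).symm (ιMulti _ r (fun j => res E (le_top : U.1 ≤ ⊤) (s j))) := by
    have := congrArg (fun θ : L ⟶ L => θ.app U.1
      ((φ U).symm (ιMulti _ r (fun j => res E (le_top : U.1 ≤ ⊤) (s j))))) ι.hom_inv_id
    exact this
  rw [h1, LinearEquiv.coe_coe, LinearEquiv.apply_symm_apply,
    alternatingMapLinearEquiv_apply_ιMulti]

lemma θ_surjective (U : X.affineOpens) (b : Module.Basis (Fin r) Γ(X, U.1) Γ(E, U.1)) :
    Function.Surjective (θ E L r φ ι U b) := by
  intro a
  refine ⟨ι.hom.app U.1 ((φ U).symm (a • ιMulti _ r (fun j => b j))), ?_⟩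
  unfold θ
  rw [LinearMap.comp_apply, LinearMap.comp_apply, appLin_apply]
  have h1 : ι.inv.app U.1 (ι.hom.app U.1 ((φ U).symm (a • ιMulti _ r (fun j => b j)))) =
      (φ U).symm (a • ιMulti _ r (fun j => b j)) := by
    have := congrArg (fun θ : L ⟶ L => θ.app U.1
      ((φ U).symm (a • ιMulti _ r (fun j => b j)))) ι.hom_inv_id
    exact this
  rw [h1, LinearEquiv.coe_coe, LinearEquiv.apply_symm_apply, map_smul,
    alternatingMapLinearEquiv_apply_ιMulti, Module.Basis.det_self, smul_eq_mul, mul_one]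

/-- `θ 1` is a unit. -/
lemma isUnit_θ_one (U : X.affineOpens) (b : Module.Basis (Fin r) Γ(X, U.1) Γ(E, U.1)) :
    IsUnit (θ E L r φ ι U b (toO U.1 1)) := by
  obtain ⟨a, ha⟩ := θ_surjective E L r φ ι U b 1
  have h1 : a = (show Γ(X, U.1) from a) • toO U.1 1 := (mul_one (show Γ(X, U.1) from a)).symm
  rw [h1, map_smul, smul_eq_mul] at ha
  exact IsUnit.of_mul_eq_one_right _ ha

lemma θ_eq (U : X.affineOpens) (b : Module.Basis (Fin r) Γ(X, U.1) Γ(E, U.1))
    (a : Γ(Coh.structureModule X, U.1)) :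
    θ E L r φ ι U b a = (show Γ(X, U.1) from a) * θ E L r φ ι U b (toO U.1 1) := by
  have h1 : a = (show Γ(X, U.1) from a) • toO U.1 1 := (mul_one (show Γ(X, U.1) from a)).symm
  conv_lhs => rw [h1, map_smul, smul_eq_mul]

/-- multilinear expansion: if the determinants of all `r`-tuples among the `t i` vanish, then so
does the determinant of any family in their span. -/
lemma det_eq_zero_of_span {R M : Type*} [CommRing R] [AddCommGroup M] [Module R M] {N : ℕ}
    (f : M [⋀^Fin r]→ₗ[R] R) (t : Fin N → M) (a : Fin r → Fin N → R)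
    (h : ∀ I : Fin r → Fin N, f (fun j => t (I j)) = 0) :
    f (fun j => ∑ i, a j i • t i) = 0 := by
  have h1 := f.toMultilinearMap.map_sum (fun j i => a j i • t i)
  have h2 : (f fun j => ∑ i, a j i • t i) =
      ∑ I : Fin r → Fin N, f fun j => a j (I j) • t (I j) := h1
  rw [h2]
  refine Finset.sum_eq_zero (fun I _ => ?_)
  rw [f.map_smul_univ (fun j => a j (I j)) (fun j => t (I j)), h I, smul_zero]

end Det

section Pn

variable {k : Type u} [Field k] {n : ℕ}

/-- nonzero global functions on `P^n_k` are units. -/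
theorem isUnit_of_ne_zero (c : Γ(CohB1.ProjSpace n k, ⊤)) (hc : c ≠ 0) : IsUnit c := by
  haveI : IsIntegral (CohB1.ProjSpace n k) := Groth.Agent.Helper26.IntPn.isIntegral_PP n k
  let X := CohB1.ProjSpace n k
  let O := Coh.structureModule X
  have hO : Coh.IsCoh O := Groth.Agent.Helper26.EndFin.isCoh_of_rank O 1
    (isFinLocFreeOfRank_one_of_isInvertible O Groth.Agent.Helper13.Inv.isInvertible_structureModule)
  haveI : Module.Finite k (Coh.HH X O 0) := Groth.Agent.S0038.result n k O hO 0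
  let h0 := Groth.Agent.Helper26.HomGlob.h0 O
  let c' : Coh.Γtop X := c
  have hsm : ∀ x : Coh.HH X O 0, (show Γ(X, ⊤) from h0 (c' • x)) = c * (show Γ(X, ⊤) from h0 x) :=
    fun x => Groth.Agent.Helper26.HomGlob.h0_smul O c' x
  let μ : Coh.HH X O 0 →ₗ[k] Coh.HH X O 0 :=
    { toFun := fun x => c' • x
      map_add' := fun x y => smul_add c' x y
      map_smul' := fun a x => by
        change c' • ((Coh.toGlobal (X ↘ Spec (CommRingCat.of k)) a) • x) =
          (Coh.toGlobal (X ↘ Spec (CommRingCat.of k)) a) • (c' • x)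
        have e : c' * (Coh.toGlobal (X ↘ Spec (CommRingCat.of k)) a) =
            (Coh.toGlobal (X ↘ Spec (CommRingCat.of k)) a) * c' :=
          mul_comm (show Γ(X, ⊤) from c')
            (show Γ(X, ⊤) from Coh.toGlobal (X ↘ Spec (CommRingCat.of k)) a)
        rw [← mul_smul, ← mul_smul, e] }
  have hinj : Function.Injective μ := by
    rw [injective_iff_map_eq_zero]
    intro x hx
    have h1 : (show Γ(X, ⊤) from h0 (c' • x)) = 0 := by
      have : h0 (c' • x) = 0 := by
        have hx' : c' • x = 0 := hx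
        rw [hx', map_zero]
      exact this
    rw [hsm] at h1
    have h2 : (show Γ(X, ⊤) from h0 x) = 0 := (mul_eq_zero.1 h1).resolve_left hc
    have h3 : h0 x = 0 := h2
    exact h0.injective (h3.trans (map_zero h0).symm)
  have hsurj : Function.Surjective μ := LinearMap.surjective_of_injective hinj
  obtain ⟨x, hx⟩ := hsurj (h0.symm (toO (⊤ : X.Opens) 1))
  have h4 : (show Γ(X, ⊤) from h0 (c' • x)) = 1 := by
    have hx' : c' • x = h0.symm (toO (⊤ : X.Opens) 1) := hx
    rw [hx', AddEquiv.apply_symm_apply]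
  rw [hsm] at h4
  exact IsUnit.of_mul_eq_one _ h4

variable [IsAlgClosed k]

/-- **globally generated bundles with trivial determinant on `P^n_k` are trivial.** -/
theorem main (E : (CohB1.ProjSpace n k).Modules) (r : ℕ) (hE : FlatMod.IsFinLocFreeOfRank r E)
    (N : ℕ) (φ₀ : FlatMod.freeMod (CohB1.ProjSpace n k) N ⟶ E) [Epi φ₀]
    (L : (CohB1.ProjSpace n k).Modules) (hL : ExtPow.IsExtPow r E L)
    (ι : L ≅ Coh.structureModule (CohB1.ProjSpace n k)) :
    Nonempty (E ≅ FlatMod.freeMod (CohB1.ProjSpace n k) r) := by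
  haveI : IsIntegral (CohB1.ProjSpace n k) := Groth.Agent.Helper26.IntPn.isIntegral_PP n k
  haveI : E.IsQuasicoherent := Groth.Agent.Helper5.FPC.isQuasicoherent_of_isFinLocFree E
    (fun x => by obtain ⟨U, hx, e⟩ := hE x; exact ⟨U, r, hx, e⟩)
  obtain ⟨φ, hφ⟩ := hL
  let X := CohB1.ProjSpace n k
  let t : Fin N → Γ(E, ⊤) := fun i => Groth.Agent.Helper13.GenLoc.sec E (Groth.Agent.Helper13.LocFree.ι N i ≫ φ₀)
  have hφ₀ : φ₀ = descSec E t := eq_descSec E φ₀
  -- the determinants
  choose c hc using fun I : Fin r → Fin N => exists_det E L r φ hφ ι (fun j => t (I j))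
  -- the key local computation
  have key : ∀ (U : X.affineOpens) (b : Module.Basis (Fin r) Γ(X, U.1) Γ(E, U.1))
      (I : Fin r → Fin N),
      b.det (fun j => res E (le_top : U.1 ≤ ⊤) (t (I j))) =
        (show Γ(X, U.1) from res (Coh.structureModule X) (le_top : U.1 ≤ ⊤) (c I)) *
          θ E L r φ ι U b (toO U.1 1) := by
    intro U b I
    rw [← θ_detLoc E L r φ ι U b (fun j => t (I j)), ← hc I U]
    exact θ_eq E L r φ ι U b _
  -- some determinant is nonzero
  obtain ⟨I, hI⟩ : ∃ I, c I ≠ 0 := by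
    by_contra hcon
    have hall : ∀ I, c I = 0 := fun I => by
      by_contra h
      exact hcon ⟨I, h⟩
    obtain ⟨x⟩ : Nonempty X := inferInstance
    obtain ⟨V, e₁, hxV, he₁⟩ := Groth.Agent.Helper13.K0Tensor.exists_isBasisAt_of_rank E r hE x
    obtain ⟨W, hWV, hxW, bl, hbl⟩ :=
      Groth.Agent.Helper13.FinType.exists_local_lift_fam φ₀ e₁ x hxV
    obtain ⟨_, ⟨U, hU, rfl⟩, hxU, hUW⟩ := X.isBasis_affineOpens.exists_subset_of_mem_open
      (show x ∈ (W : Set X) from hxW) W.2
    have hUW' : U ≤ W := hUW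
    let e : Fin r → Γ(E, U) := fun j => res E (hUW'.trans hWV) (e₁ j)
    have he : ∀ (z : X) (hz : z ∈ U), IsBasisAt E e z hz :=
      fun z hz => (isBasisAt_res E (homOfLE (hUW'.trans hWV)) e₁ z hz).2 (he₁ z _)
    let b := Groth.Agent.Helper26.Wedge.basisOfSec E e he
    have hb : ∀ j, b j = e j := fun j => by
      change Module.Basis.mk _ _ j = e j
      rw [Module.Basis.mk_apply]
    let a : Fin r → Fin N → Γ(X, U) := fun j =>
      coordOfSec N U (res (FlatMod.freeMod X N) hUW' (bl j))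
    have hexp : ∀ j, e j = ∑ i, a j i • res E (le_top : U ≤ ⊤) (t i) := by
      intro j
      have h1 : e j = φ₀.app U (res (FlatMod.freeMod X N) hUW' (bl j)) := by
        rw [app_res, hbl j]
        exact (res_res E hUW' hWV (e₁ j)).symm
      rw [h1, ← secOfCoord_coordOfSec N U (res (FlatMod.freeMod X N) hUW' (bl j)), hφ₀,
        descSec_app_secOfCoord]
    have h0 : b.det (fun j => b j) = 0 := by
      have h2 : (fun j => b j) = fun j => ∑ i, a j i • res E (le_top : U ≤ ⊤) (t i) := by
        funext j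
        rw [hb j, hexp j]
      rw [h2]
      apply det_eq_zero_of_span
      intro I
      rw [key ⟨U, hU⟩ b I, hall I]
      have : res (Coh.structureModule X) (le_top : U ≤ ⊤) 0 = 0 := res_zero _ _
      rw [this]
      exact zero_mul _
    rw [Module.Basis.det_self] at h0
    haveI : Nonempty U := ⟨⟨x, hxU⟩⟩
    haveI : IsDomain Γ(X, U) := @IsIntegral.component_integral X _ U ⟨⟨x, hxU⟩⟩
    exact one_ne_zero h0
  have hunit : IsUnit (show Γ(X, ⊤) from c I) := isUnit_of_ne_zero _ hI
  -- the chosen sections form a basis everywhere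
  have hbasis : ∀ y : X, IsBasisAt E (fun j => t (I j)) y trivial := by
    intro y
    obtain ⟨V, e₁, hyV, he₁⟩ := Groth.Agent.Helper13.K0Tensor.exists_isBasisAt_of_rank E r hE y
    obtain ⟨_, ⟨U, hU, rfl⟩, hyU, hUV⟩ := X.isBasis_affineOpens.exists_subset_of_mem_open
      (show y ∈ (V : Set X) from hyV) V.2
    have hUV' : U ≤ V := hUV
    let e : Fin r → Γ(E, U) := fun j => res E hUV' (e₁ j)
    have he : ∀ (z : X) (hz : z ∈ U), IsBasisAt E e z hz :=
      fun z hz => (isBasisAt_res E (homOfLE hUV') e₁ z hz).2 (he₁ z _)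
    let b := Groth.Agent.Helper26.Wedge.basisOfSec E e he
    have hdet : IsUnit (b.det (fun j => res E (le_top : U ≤ ⊤) (t (I j)))) := by
      rw [key ⟨U, hU⟩ b I]
      refine IsUnit.mul ?_ (isUnit_θ_one E L r φ ι ⟨U, hU⟩ b)
      exact hunit.map (X.presheaf.map (homOfLE (le_top : U ≤ ⊤)).op).hom
    obtain ⟨hli, hsp⟩ := (Module.Basis.is_basis_iff_det b).2 hdet
    let b' : Module.Basis (Fin r) Γ(X, U) Γ(E, U) := Module.Basis.mk hli hsp.ge
    have hb' : (fun j => b' j) = fun j => res E (le_top : U ≤ ⊤) (t (I j)) := by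
      funext j
      change Module.Basis.mk _ _ j = _
      rw [Module.Basis.mk_apply]
    have h1 := isBasisAt_of_basis_affine E hU b' y hyU
    rw [hb'] at h1
    exact (isBasisAt_res E (homOfLE (le_top : U ≤ ⊤)) (fun j => t (I j)) y hyU).1 h1
  haveI : IsIso (descSec E (fun j => t (I j))) :=
    isIso_descSec_of_isBasisAt E _ hbasis
  exact ⟨(asIso (descSec E (fun j => t (I j)))).symm⟩

end Pn

end Groth.Agent.Helper26.DetTriv
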