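import Mathlib
import Groth.Agent.Lib.Helper26.DevI

set_option autoImplicit false
set_option linter.unusedSectionVars false
set_option linter.style.haveILetI false
set_option linter.unusedVariables false
universe u
open CategoryTheory CategoryTheory.Limits AlgebraicGeometry Opposite TopologicalSpace
open Groth.Agent.Helper13.QCoh Groth.Agent.Helper13.FinType
open Groth.Agent.Helper26.DevB Groth.Agent.Helper26.DevC Groth.Agent.Helper26.DevD
  Groth.Agent.Helper26.DevE Groth.Agent.Helper26.DevG Groth.Agent.Helper26.DevH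
  Groth.Agent.Helper26.DevI

namespace Groth.Agent.Helper26.DevJ

section Part1


attribute [local instance] CategoryTheory.Abelian.hasFiniteBiproducts

variable {X : Scheme.{u}}

section BiprodMap

variable {n : ℕ} {M N : Fin n → X.Modules} (f : ∀ k, M k ⟶ N k) (x : X)

lemma biproduct_map_stalk_surjective (h : ∀ k, Function.Surjective (stalkMap (f k) x)) :
    Function.Surjective (stalkMap (biproduct.map f) x) := by
  intro w
  have hw := stalk_total N x w
  choose y hy using fun k => h k (stalkMap (biproduct.π N k) x w)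
  refine ⟨∑ k, stalkMap (biproduct.ι M k) x (y k), ?_⟩
  rw [map_sum]
  refine Eq.trans ?_ hw.symm
  refine Finset.sum_congr rfl (fun k _ => ?_)
  rw [← Groth.Agent.Helper13.PbInv.stalkMap_comp, biproduct.ι_map,
    Groth.Agent.Helper13.PbInv.stalkMap_comp, hy k]

lemma biproduct_map_stalk_injective (h : ∀ k, Function.Injective (stalkMap (f k) x)) :
    Function.Injective (stalkMap (biproduct.map f) x) := by
  rw [injective_iff_map_eq_zero]
  intro w hw
  rw [stalk_total M x w]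
  refine Finset.sum_eq_zero (fun k _ => ?_)
  have h1 : stalkMap (f k) x (stalkMap (biproduct.π M k) x w) = 0 := by
    rw [← Groth.Agent.Helper13.PbInv.stalkMap_comp, ← biproduct.map_π,
      Groth.Agent.Helper13.PbInv.stalkMap_comp, hw, map_zero]
  have h2 : stalkMap (biproduct.π M k) x w = 0 := by
    apply h k
    rw [h1, map_zero]
  rw [h2, map_zero]

lemma biproduct_map_mono' (h : ∀ k, Mono (f k)) : Mono (biproduct.map f) := by
  rw [mono_iff_stalk_injective]
  intro x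
  exact biproduct_map_stalk_injective f x (fun k => (mono_iff_stalk_injective (f k)).1 (h k) x)

end BiprodMap

section Inter

variable [IsLocallyNoetherian X] (ξ : X)

/-- two coherent subobjects of `B`, both surjective on the stalk at `ξ`, contain a common coherent
subobject surjective at `ξ` onto both. -/
theorem exists_inter {A A₁ B : X.Modules} (α : A ⟶ B) (α₁ : A₁ ⟶ B) [Mono α] [Mono α₁]
    (hA : Coh.IsCoh A) (hA₁ : Coh.IsCoh A₁) (hB : Coh.IsCoh B)
    (hαs : Function.Surjective (stalkMap α ξ)) (hα₁s : Function.Surjective (stalkMap α₁ ξ)) :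
    ∃ (C : X.Modules) (p : C ⟶ A) (p₁ : C ⟶ A₁), Coh.IsCoh C ∧ Mono p ∧ Mono p₁ ∧
      p ≫ α = p₁ ≫ α₁ ∧ Function.Surjective (stalkMap p ξ) ∧
      Function.Surjective (stalkMap p₁ ξ) := by
  have hαi : Function.Injective (stalkMap α ξ) := (mono_iff_stalk_injective α).1 inferInstance ξ
  have hCc : Coh.IsCoh (cokernel α) := (Groth.Agent.S9514.result X hA hB α).2
  set g : A₁ ⟶ cokernel α := α₁ ≫ cokernel.π α with hg
  have hPc : Coh.IsCoh (kernel g) := (Groth.Agent.S9514.result X hA₁ hCc g).1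
  set p₂ : kernel g ⟶ A₁ := kernel.ι g with hp₂
  have hp₂α : (p₂ ≫ α₁) ≫ cokernel.π α = 0 := by
    rw [Category.assoc]; exact kernel.condition g
  set p₁ : kernel g ⟶ A := Abelian.monoLift α (p₂ ≫ α₁) hp₂α with hp₁
  have hp₁α : p₁ ≫ α = p₂ ≫ α₁ := Abelian.monoLift_comp _ _ _
  haveI : Mono p₂ := inferInstance
  haveI : Mono p₁ := by
    haveI : Mono (p₁ ≫ α) := by rw [hp₁α]; infer_instance
    exact mono_of_mono p₁ α
  have hp₂s : Function.Surjective (stalkMap p₂ ξ) := by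
    intro y
    have hS : (ShortComplex.mk p₂ g (kernel.condition g)).Exact :=
      ShortComplex.exact_of_f_is_kernel _ (kernelIsKernel g)
    haveI : Mono (ShortComplex.mk p₂ g (kernel.condition g)).f := by
      change Mono (kernel.ι g); infer_instance
    apply stalk_exact_of_exact_of_mono (ShortComplex.mk p₂ g (kernel.condition g)) hS ξ y
    change stalkMap g ξ y = 0
    obtain ⟨x, hx⟩ := hαs (stalkMap α₁ ξ y)
    rw [hg, Groth.Agent.Helper13.PbInv.stalkMap_comp, ← hx,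
      ← Groth.Agent.Helper13.PbInv.stalkMap_comp, cokernel.condition,
      Groth.Agent.Helper13.PbInv.stalkMap_zero]
  have hp₁s : Function.Surjective (stalkMap p₁ ξ) := by
    intro x
    obtain ⟨y, hy⟩ := hα₁s (stalkMap α ξ x)
    obtain ⟨p, hp⟩ := hp₂s y
    refine ⟨p, ?_⟩
    apply hαi
    rw [← Groth.Agent.Helper13.PbInv.stalkMap_comp, hp₁α,
      Groth.Agent.Helper13.PbInv.stalkMap_comp, hp, hy]
  exact ⟨kernel g, p₁, p₂, hPc, inferInstance, inferInstance, hp₁α, hp₁s, hp₂s⟩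

end Inter


end Part1

section Part2


attribute [local instance] CategoryTheory.Abelian.hasFiniteBiproducts

variable {X : Scheme.{u}}

set_option maxHeartbeats 1600000 in
/-- the comparison step of S9522. -/
theorem P_push_of_witness [IsNoetherian X] (ξ : X) (P : X.Modules → Prop)
    (hP : ∀ M N : X.Modules, Nonempty (M ≅ N) → P M → P N)
    (h₁ : ∀ S : ShortComplex X.Modules, S.ShortExact → Coh.IsCoh S.X₁ → Coh.IsCoh S.X₂ →
      Coh.IsCoh S.X₃ → P S.X₁ → P S.X₃ → P S.X₂)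
    (h₂ : ∀ (F : X.Modules) (r : ℕ), Coh.IsCoh F → 1 ≤ r → P (∐ fun _ : Fin r => F) → P F)
    (hsmall : ∀ F : X.Modules, Coh.IsCoh F → CohB1.support F ⊆ closure ({ξ} : Set X) →
      ξ ∉ CohB1.support F → P F)
    (G : X.Modules) (hG : Coh.IsCoh G) (hGs : CohB1.support G ⊆ closure ({ξ} : Set X))
    (hξG : ξ ∈ CohB1.support G)
    (hk : ∀ a ∈ IsLocalRing.maximalIdeal (X.presheaf.stalk ξ),
      ∀ m : ↑(G.presheaf.stalk ξ), a • m = 0)
    (hJ : ∀ J : X.IdealSheafData, ξ ∉ (J.support : Set X) →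
        ∃ (G' : X.Modules) (ι' : G' ⟶ (Dual3.idealMul J).obj G), Mono ι' ∧ Coh.IsQCoh G' ∧
          IsIso ((TopCat.Presheaf.stalkFunctor _ ξ).map
            (ι' ≫ Dual3.idealMulι J G).mapPresheaf) ∧ P G')
    {Z : Scheme.{u}} (i : Z ⟶ X) [IsClosedImmersion i] [IsIntegral Z]
    (hi : Set.range i = closure ({ξ} : Set X))
    (I : Z.Modules) (ι : I ⟶ Coh.structureModule Z) [Mono ι] (hI : Coh.IsCoh I)
    (hI0 : ¬ IsZero I) : P ((Coh.push i).obj I) := by
  classical
  haveI : G.IsQuasicoherent := hG.1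
  haveI : SheafOfModules.IsFiniteType (R := X.ringCatSheaf) G := hG.2
  obtain ⟨r, I', ι', φ, hι', hI', hφ, hsurj, hr, hsrc⟩ := exists_mono_push i ξ hi G hG hk
  haveI := hι'
  haveI := hφ
  have hr0 : 0 < r := hr hξG
  have hI'0 : ¬ IsZero I' := by
    intro hz
    apply hξG
    have hsz : IsZero ((Coh.push i).obj (∐ fun _ : Fin r => I')) :=
      (Coh.push i).map_isZero (isZero_sigma_of_isZero _ (fun _ => hz))
    haveI := (isZero_iff_stalk _).1 hsz ξ
    refine ⟨fun y z => ?_⟩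
    obtain ⟨w, rfl⟩ := hsurj y
    obtain ⟨w', rfl⟩ := hsurj z
    rw [Subsingleton.elim w w']
  -- pass to biproducts
  obtain ⟨e⟩ := nonempty_push_coprod_iso i r I'
  set A : X.Modules := ⨁ (fun _ : Fin r => (Scheme.Modules.pushforward i).obj I') with hA
  set A₁ : X.Modules := ⨁ (fun _ : Fin r => (Scheme.Modules.pushforward i).obj I) with hA₁
  let e' : A ≅ (Coh.push i).obj (∐ fun _ : Fin r => I') :=
    biproduct.isoCoproduct _ ≪≫ e.symm
  set φ' : A ⟶ G := e'.hom ≫ φ with hφ'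
  haveI : Mono φ' := mono_comp _ _
  have hφ's : Function.Surjective (stalkMap φ' ξ) := by
    intro y
    obtain ⟨w, hw⟩ := hsurj y
    obtain ⟨w', hw'⟩ := stalkMap_surjective_of_epi e'.hom ξ w
    exact ⟨w', by rw [hφ', Groth.Agent.Helper13.PbInv.stalkMap_comp, hw', hw]⟩
  have hIpc : Coh.IsCoh ((Scheme.Modules.pushforward i).obj I) := isCoh_push i I hI
  have hI'pc : Coh.IsCoh ((Scheme.Modules.pushforward i).obj I') := isCoh_push i I' hI'
  have hAc : Coh.IsCoh A :=
    (cohSupp_biproduct (Set.univ : Set X) _ (fun _ => ⟨hI'pc, Set.subset_univ _⟩)).1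
  have hA₁cs : cohSupp (closure ({ξ} : Set X)) A₁ :=
    cohSupp_biproduct _ _ (fun _ => ⟨hIpc, by rw [← hi]; exact support_push_subset i I⟩)
  have hA₁c : Coh.IsCoh A₁ := hA₁cs.1
  set α : A ⟶ G₀ i r := biproduct.map (fun _ : Fin r => (Scheme.Modules.pushforward i).map ι')
    with hα
  set α₁ : A₁ ⟶ G₀ i r := biproduct.map (fun _ : Fin r => (Scheme.Modules.pushforward i).map ι)
    with hα₁
  haveI : Mono α := biproduct_map_mono' _ (fun _ => inferInstance)
  haveI : Mono α₁ := biproduct_map_mono' _ (fun _ => inferInstance)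
  have hαs : Function.Surjective (stalkMap α ξ) :=
    biproduct_map_stalk_surjective _ ξ (fun _ => push_ι_stalk_surjective ξ i hi I' ι' hI'0)
  have hα₁s : Function.Surjective (stalkMap α₁ ξ) :=
    biproduct_map_stalk_surjective _ ξ (fun _ => push_ι_stalk_surjective ξ i hi I ι hI0)
  obtain ⟨C, p, p₁, hC, hp, hp₁, -, hps, hp₁s⟩ :=
    exists_inter ξ α α₁ hAc hA₁c (isCoh_G₀ i r) hαs hα₁s
  haveI := hp
  haveI := hp₁
  haveI : C.IsQuasicoherent := hC.1
  haveI : SheafOfModules.IsFiniteType (R := X.ringCatSheaf) C := hC.2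
  -- the map to `G`
  set π : C ⟶ G := p ≫ φ' with hπ
  haveI : Mono π := mono_comp _ _
  have hπs : Function.Surjective (stalkMap π ξ) := by
    intro y
    obtain ⟨w, hw⟩ := hφ's y
    obtain ⟨w', hw'⟩ := hps w
    exact ⟨w', by rw [hπ, Groth.Agent.Helper13.PbInv.stalkMap_comp, hw', hw]⟩
  have hπi : Function.Injective (stalkMap π ξ) := (mono_iff_stalk_injective π).1 inferInstance ξ
  have hCk : Coh.IsCoh (cokernel π) := (Groth.Agent.S9514.result X hC hG π).2
  have hCkξ : ξ ∉ CohB1.support (cokernel π) := notMem_support_cokernel π ξ hπs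
  let U : X.Opens := ⟨(CohB1.support (cokernel π))ᶜ,
    (Groth.Agent.Helper26.DevD.isClosed_support _ hCk).isOpen_compl⟩
  have hξU : ξ ∈ U := hCkξ
  haveI hπiso : IsIso ((Scheme.Modules.restrictFunctor U.ι).map π) := by
    rw [Groth.Agent.Helper14.RestrLoc.isIso_restrict_iff]
    constructor
    · intro x hx
      exact (hx ((isZero_iff_stalk _).1 (isZero_kernel_of_mono π) x)).elim
    · intro x hx
      change x ∈ ((CohB1.support (cokernel π))ᶜ)ᶜ
      rw [compl_compl]
      exact hx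
  let Cl : TopologicalSpace.Closeds X := ⟨(U : Set X)ᶜ, U.2.isClosed_compl⟩
  let J : X.IdealSheafData := Scheme.IdealSheafData.vanishingIdeal Cl
  have hJs : (J.support : Set X) = (U : Set X)ᶜ :=
    Scheme.IdealSheafData.coe_support_vanishingIdeal _
  have hUJ : (U : Set X) = (J.support : Set X)ᶜ := by rw [hJs, compl_compl]
  obtain ⟨N, n, θ, hθ⟩ :=
    Groth.Agent.Helper14.IdealMul.exists_mono_pow_and_lift J U hUJ hC hG π
  haveI hθmono : Mono θ := mono_of_mono_fac hθ
  have hξJ : ξ ∉ ((J ^ (N + n)).support : Set X) := by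
    rcases Nat.eq_zero_or_pos (N + n) with h0 | hpos
    · rw [h0, pow_zero, Scheme.IdealSheafData.one_eq_top, Scheme.IdealSheafData.support_top]
      exact fun h => h
    · rw [Scheme.IdealSheafData.support_pow _ _ hpos.ne', hJs]
      exact fun h => h hξU
  obtain ⟨G', ι'', hι'', hG'q, hG'iso, hPG'⟩ := hJ (J ^ (N + n)) hξJ
  haveI := hι''
  haveI : G'.IsQuasicoherent := hG'q
  have hG'c : Coh.IsCoh G' :=
    ⟨hG'q, Groth.Agent.Helper28.CohSub.isFiniteType_of_mono
      (ι'' ≫ Dual3.idealMulι (J ^ (N + n)) G)⟩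
  have hbij : Function.Bijective (stalkMap (ι'' ≫ Dual3.idealMulι (J ^ (N + n)) G) ξ) := by
    haveI : IsIso (stalkMap (ι'' ≫ Dual3.idealMulι (J ^ (N + n)) G) ξ) := hG'iso
    exact (ConcreteCategory.isIso_iff_bijective _).1 inferInstance
  set h : G' ⟶ C := ι'' ≫ θ ≫ Dual3.idealMulι (J ^ N) C with hh
  have hhπ : h ≫ π = ι'' ≫ Dual3.idealMulι (J ^ (N + n)) G := by
    rw [hh, Category.assoc, Category.assoc, hθ]
  haveI : Mono h := mono_comp _ _
  have hhs : Function.Surjective (stalkMap h ξ) := by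
    intro c
    obtain ⟨y, hy⟩ := hbij.2 (stalkMap π ξ c)
    refine ⟨y, ?_⟩
    apply hπi
    rw [← Groth.Agent.Helper13.PbInv.stalkMap_comp, hhπ, hy]
  set ρ : G' ⟶ A₁ := h ≫ p₁ with hρ
  haveI : Mono ρ := mono_comp _ _
  have hρs : Function.Surjective (stalkMap ρ ξ) := by
    intro y
    obtain ⟨w, hw⟩ := hp₁s y
    obtain ⟨w', hw'⟩ := hhs w
    exact ⟨w', by rw [hρ, Groth.Agent.Helper13.PbInv.stalkMap_comp, hw', hw]⟩
  -- extension
  have hCρ : Coh.IsCoh (cokernel ρ) := (Groth.Agent.S9514.result X hG'c hA₁c ρ).2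
  have hPCρ : P (cokernel ρ) :=
    hsmall _ hCρ ((support_subset_of_epi (cokernel.π ρ)).trans hA₁cs.2)
      (notMem_support_cokernel ρ ξ hρs)
  have hSE : (ShortComplex.mk ρ (cokernel.π ρ) (cokernel.condition ρ)).ShortExact :=
    ShortComplex.ShortExact.mk' (ShortComplex.exact_cokernel ρ) inferInstance inferInstance
  have hPA₁ : P A₁ := h₁ _ hSE hG'c hA₁c hCρ hPG' hPCρ
  have hP2 : P (∐ fun _ : Fin r => (Scheme.Modules.pushforward i).obj I) :=
    hP _ _ ⟨biproduct.isoCoproduct _⟩ hPA₁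
  exact h₂ _ r hIpc hr0 hP2


end Part2

section Part3


variable {X : Scheme.{u}}

/-- S9522. -/
theorem main9522 (X : Scheme.{u}) [IsNoetherian X]
    (Z₀ : Set X) (hZ₀ : IsClosed Z₀) (hirr : IsIrreducible Z₀) (ξ : X)
    (hξ : ξ ∈ Z₀ ∧ closure {ξ} = Z₀)
    (P : X.Modules → Prop) (hP : ∀ M N : X.Modules, Nonempty (M ≅ N) → P M → P N)
    (h₀ : ∀ M : X.Modules, IsZero M → P M)
    (h₁ : ∀ S : ShortComplex X.Modules, S.ShortExact → Coh.IsCoh S.X₁ → Coh.IsCoh S.X₂ →
      Coh.IsCoh S.X₃ → P S.X₁ → P S.X₃ → P S.X₂)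
    (h₂ : ∀ (F : X.Modules) (r : ℕ), Coh.IsCoh F → 1 ≤ r → P (∐ fun _ : Fin r => F) → P F)
    (h₃ : ∀ (Z : Scheme.{u}) (i : Z ⟶ X), IsClosedImmersion i → IsIntegral Z →
      Set.range ⇑i ⊆ Z₀ → Set.range ⇑i ≠ Z₀ →
      ∀ (I : Z.Modules) (ι : I ⟶ Coh.structureModule Z), Mono ι → Coh.IsQCoh I →
        P ((Coh.push i).obj I))
    (h₄ : ∃ G : X.Modules, Coh.IsCoh G ∧ CohB1.support G = Z₀ ∧
      (∀ a ∈ IsLocalRing.maximalIdeal (X.presheaf.stalk ξ),
        ∀ m : ↑(G.presheaf.stalk ξ), a • m = 0) ∧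
      ∀ J : X.IdealSheafData, ξ ∉ (J.support : Set X) →
        ∃ (G' : X.Modules) (ι' : G' ⟶ (Dual3.idealMul J).obj G), Mono ι' ∧ Coh.IsQCoh G' ∧
          IsIso ((TopCat.Presheaf.stalkFunctor _ ξ).map
            (ι' ≫ Dual3.idealMulι J G).mapPresheaf) ∧ P G')
    (F : X.Modules) (hF : Coh.IsCoh F) (hsupp : CohB1.support F ⊆ Z₀) : P F := by
  obtain ⟨G, hG, hGs, hk, hJ⟩ := h₄
  refine core Z₀ P hP h₀ (fun S hS c1 c2 c3 _ => h₁ S hS c1 c2 c3) ?_ hZ₀ F hF hsupp
  intro ξ' hξ' hsmall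
  obtain ⟨Z, i, hi1, hi2, hi3⟩ := exists_integral ξ'
  haveI := hi1
  haveI := hi2
  refine ⟨Z, i, hi1, hi2, hi3, ?_⟩
  intro I ι hι hI hI0
  haveI := hι
  by_cases hξξ : ξ' = ξ
  · subst hξξ
    have hGs' : CohB1.support G ⊆ closure ({ξ'} : Set X) := by rw [hGs, hξ.2]
    have hξG : ξ' ∈ CohB1.support G := by rw [hGs]; exact hξ.1
    exact P_push_of_witness ξ' P hP h₁ h₂ hsmall G hG hGs' hξG hk hJ i hi3 I ι hI hI0
  · have hcl : closure ({ξ'} : Set X) ⊆ Z₀ :=
      closure_minimal (Set.singleton_subset_iff.2 hξ') hZ₀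
    refine h₃ Z i hi1 hi2 (hi3.le.trans hcl) ?_ I ι hι hI.1
    intro heq
    apply hξξ
    have h1 : closure ({ξ'} : Set X) = closure ({ξ} : Set X) := by rw [← hi3, heq, hξ.2]
    exact (inseparable_iff_closure_eq.2 h1).eq


end Part3

end Groth.Agent.Helper26.DevJ
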