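import Mathlib

namespace Groth.Agent.Helper26.DiagFlat

universe u v

theorem main (R : Type u) [CommRing R] (N : Type v) [AddCommGroup N] :
    (AddMonoidAlgebra.mapDomainRingHom R ((AddMonoidHom.id N).prod (AddMonoidHom.id N))).Flat := by
  -- the shear automorphism `(a, b) ↦ (a + b, b)`
  let θ : N × N ≃+ N × N :=
    { toFun := fun p => (p.1 + p.2, p.2)
      invFun := fun p => (p.1 - p.2, p.2)
      left_inv := fun p => by simp
      right_inv := fun p => by simp
      map_add' := fun p q => by
        ext
        · simp only [Prod.fst_add, Prod.snd_add]; abel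
        · simp }
  let e₂ : AddMonoidAlgebra R (N × N) ≃+* AddMonoidAlgebra R (N × N) :=
    AddMonoidAlgebra.mapDomainRingEquiv R θ
  let e₁ : AddMonoidAlgebra (AddMonoidAlgebra R N) N ≃+* AddMonoidAlgebra R (N × N) :=
    (AddMonoidAlgebra.curryRingEquiv (R := R) (M := N) (N := N)).symm
  let c : AddMonoidAlgebra R N →+* AddMonoidAlgebra (AddMonoidAlgebra R N) N :=
    algebraMap (AddMonoidAlgebra R N) (AddMonoidAlgebra (AddMonoidAlgebra R N) N)
  have hc : c.Flat := by
    rw [RingHom.flat_algebraMap_iff]
    infer_instance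
  have heq : AddMonoidAlgebra.mapDomainRingHom R ((AddMonoidHom.id N).prod (AddMonoidHom.id N)) =
      (e₂.toRingHom.comp e₁.toRingHom).comp c := by
    apply AddMonoidAlgebra.ringHom_ext
    · intro r
      simp [c, e₁, e₂, θ, AddMonoidAlgebra.curryRingEquiv_symm_single]
    · intro n
      simp [c, e₁, e₂, θ, AddMonoidAlgebra.curryRingEquiv_symm_single]
  rw [heq]
  have h1 : (e₁.toRingHom).Flat := RingHom.Flat.of_bijective e₁.bijective
  have h2 : (e₂.toRingHom).Flat := RingHom.Flat.of_bijective e₂.bijective
  have h3 := (hc.comp h1).comp h2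
  rwa [← RingHom.comp_assoc] at h3

end Groth.Agent.Helper26.DiagFlat
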