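import Mathlib
import Groth.Prelude.Def_Disc
import Groth.Agent.S2215
import Groth.Agent.Lib.Helper26.InvSwap

set_option autoImplicit false

namespace Groth.Agent.Helper26.DiffEq

open TensorProduct

universe u

theorem main {A B : Type u} [CommRing A] [CommRing B] [Algebra A B] [IsNoetherianRing A]
    [Module.Finite A B] [Module.Free A B] [Module.Invertible B (Disc.Omega A B)] :
    Disc.differentSet A B = (Disc.noetherDifferent A B : Set B) := by
  rw [Groth.Agent.S2215.result]
  ext b
  constructor
  · intro hb
    -- the range is an ideal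
    let N : Submodule B B :=
      LinearMap.range (LinearMap.applyₗ (R := B) (M := Disc.Omega A B) (M₂ := B)
        (Disc.Omega.trace A B))
    have hN : ∀ c : B, c ∈ N ↔
        c ∈ Set.range (fun φ : Disc.Omega A B →ₗ[B] B => φ (Disc.Omega.trace A B)) := by
      intro c
      constructor
      · rintro ⟨f, rfl⟩
        exact ⟨f, rfl⟩
      · rintro ⟨f, rfl⟩
        exact ⟨f, rfl⟩
    rw [← hN]
    have key : ∀ z : Module.Dual B (Disc.Omega A B) ⊗[B] (Disc.Omega A B),
        contractLeft B (Disc.Omega A B) z * b ∈ N := by
      intro z
      induction z using TensorProduct.induction_on with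
      | zero => simp
      | tmul f φ =>
        rw [contractLeft_apply]
        obtain ⟨c, hc⟩ := hb φ.toLinearMap
        have h1 : b • φ = c • Disc.Omega.trace A B := by
          ext x
          rw [Disc.Omega.smul_toLinearMap_apply, Disc.Omega.smul_toLinearMap_apply]
          exact hc x
        have h2 : f φ * b = (c • f) (Disc.Omega.trace A B) := by
          rw [LinearMap.smul_apply, ← map_smul, ← h1, map_smul, smul_eq_mul, mul_comm]
        rw [h2]
        exact ⟨c • f, rfl⟩
      | add x y hx hy =>
        rw [map_add, add_mul]
        exact N.add_mem hx hy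
    obtain ⟨z, hz⟩ := (Module.Invertible.bijective (R := B) (M := Disc.Omega A B)).2 1
    have := key z
    rwa [hz, one_mul] at this
  · rintro ⟨f, rfl⟩
    intro φ
    refine ⟨f ⟨φ⟩, fun x => ?_⟩
    have h := Groth.Agent.Helper26.InvSwap.swap f (Disc.Omega.trace A B) ⟨φ⟩
    have h2 := congrArg (fun ψ : Disc.Omega A B => ψ.toLinearMap x) h
    simp only [Disc.Omega.smul_toLinearMap_apply] at h2
    exact h2

end Groth.Agent.Helper26.DiffEq
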