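import Mathlib

universe u

namespace Groth.Agent.Lib.Helper26.DiffLoc1

open nonZeroDivisors FractionalIdeal

variable (A B : Type u) [CommRing A] [CommRing B] [IsDomain A] [IsIntegrallyClosed A]
  [IsDedekindDomain B] [Algebra A B] [Module.Finite A B] [Module.IsTorsionFree A B]
  (S : Submonoid A)
  (Aₛ Bₛ : Type u) [CommRing Aₛ] [CommRing Bₛ] [Algebra A Aₛ] [Algebra B Bₛ] [Algebra Aₛ Bₛ]
  [Algebra A Bₛ] [IsScalarTower A Aₛ Bₛ] [IsScalarTower A B Bₛ]
  [IsLocalization S Aₛ] [IsLocalization (Algebra.algebraMapSubmonoid B S) Bₛ]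
  [IsDomain Aₛ] [IsIntegrallyClosed Aₛ] [IsDedekindDomain Bₛ] [Module.IsTorsionFree Aₛ Bₛ]
  (K L : Type u) [Field K] [Field L] [Algebra A K] [IsFractionRing A K] [Algebra B L]
  [IsFractionRing B L] [Algebra K L] [Algebra A L] [IsScalarTower A K L] [IsScalarTower A B L]
  [FiniteDimensional K L] [Algebra.IsSeparable K L] [IsIntegralClosure B A L]
  [Algebra Aₛ K] [IsFractionRing Aₛ K] [Algebra Bₛ L] [IsFractionRing Bₛ L] [Algebra Aₛ L]
  [IsScalarTower Aₛ K L] [IsScalarTower Aₛ Bₛ L] [IsIntegralClosure Bₛ Aₛ L]
  [IsScalarTower A Aₛ K] [IsScalarTower B Bₛ L]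

include S K L in
theorem map_differentIdeal_eq :
    Ideal.map (algebraMap B Bₛ) (differentIdeal A B) = differentIdeal Aₛ Bₛ := by
  classical
  have hinj : Function.Injective (algebraMap B Bₛ) := by
    have h1 : Function.Injective (algebraMap B L) := IsFractionRing.injective B L
    rw [IsScalarTower.algebraMap_eq B Bₛ L] at h1
    exact Function.Injective.of_comp h1
  have hf : B⁰ ≤ Submonoid.comap (algebraMap B Bₛ) Bₛ⁰ := by
    intro b hb
    rw [Submonoid.mem_comap]
    apply mem_nonZeroDivisors_of_ne_zero
    intro h0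
    have : b = 0 := hinj (by rw [h0, map_zero])
    exact nonZeroDivisors.ne_zero hb this
  have hmapid : IsLocalization.map (S := L) L (algebraMap B Bₛ) hf = RingHom.id L := by
    apply IsLocalization.ringHom_ext B⁰
    ext b
    simp only [RingHom.coe_comp, Function.comp_apply, IsLocalization.map_eq, RingHom.id_apply]
    exact (IsScalarTower.algebraMap_apply B Bₛ L b).symm
  -- extension is the span
  have hext : ∀ (I : FractionalIdeal B⁰ L) (x : L),
      x ∈ I.extended L hf ↔ x ∈ Submodule.span Bₛ ((I : Submodule B L) : Set L) := by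
    intro I x
    rw [mem_extended_iff, hmapid]
    have : (⇑(RingHom.id L)) '' (I : Set L) = ((I : Submodule B L) : Set L) := by
      ext z; simp
    rw [this]
  -- compatibilities of algebra maps
  have hAL : ∀ a : A, algebraMap Bₛ L (algebraMap B Bₛ (algebraMap A B a))
      = algebraMap K L (algebraMap A K a) := by
    intro a
    rw [← IsScalarTower.algebraMap_apply B Bₛ L, ← IsScalarTower.algebraMap_apply A B L,
      IsScalarTower.algebraMap_apply A K L]
  have hone : (1 : FractionalIdeal B⁰ L) ≠ 0 := one_ne_zero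
  have hone' : (1 : FractionalIdeal Bₛ⁰ L) ≠ 0 := one_ne_zero
  -- key claim
  have key : (dual A K (1 : FractionalIdeal B⁰ L)).extended L hf
      = dual Aₛ K (1 : FractionalIdeal Bₛ⁰ L) := by
    apply le_antisymm
    · intro x hx
      rw [hext] at hx
      refine Submodule.span_le.mpr ?_ hx
      intro z hz
      have hz' : z ∈ dual A K (1 : FractionalIdeal B⁰ L) := hz
      rw [mem_dual hone] at hz'
      change z ∈ dual Aₛ K (1 : FractionalIdeal Bₛ⁰ L)
      rw [mem_dual hone']
      intro b' hb'
      rw [mem_one_iff] at hb'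
      obtain ⟨y, rfl⟩ := hb'
      obtain ⟨⟨b, s⟩, hys⟩ := IsLocalization.surj (Algebra.algebraMapSubmonoid B S) y
      simp only at hys
      obtain ⟨s0, hs0, hs0eq⟩ := s.2
      have h1 := hz' (algebraMap B L b) (by rw [mem_one_iff]; exact ⟨b, rfl⟩)
      obtain ⟨a, ha⟩ := h1
      rw [Algebra.traceForm_apply] at ha ⊢
      have h2 : algebraMap Bₛ L y * algebraMap K L (algebraMap A K s0) = algebraMap B L b := by
        rw [← hAL, hs0eq, ← map_mul, hys, ← IsScalarTower.algebraMap_apply B Bₛ L]
      have hs0ne : algebraMap A K s0 ≠ 0 := by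
        intro h0
        have hu : IsUnit (algebraMap A Aₛ s0) := IsLocalization.map_units Aₛ (⟨s0, hs0⟩ : S)
        have : algebraMap Aₛ K (algebraMap A Aₛ s0) = 0 := by
          rw [← IsScalarTower.algebraMap_apply A Aₛ K]; exact h0
        have h3 : algebraMap A Aₛ s0 = 0 := (IsFractionRing.injective Aₛ K) (by rw [this, map_zero])
        rw [h3] at hu
        exact not_isUnit_zero hu
      have h3 : Algebra.trace K L (z * algebraMap Bₛ L y) * algebraMap A K s0
          = algebraMap A K a := by
        rw [ha, ← h2, mul_comm _ (algebraMap A K s0), ← smul_eq_mul (algebraMap A K s0),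
          ← LinearMap.map_smul, Algebra.smul_def]
        congr 1; ring
      refine ⟨IsLocalization.mk' Aₛ a (⟨s0, hs0⟩ : S), ?_⟩
      have h4 : algebraMap Aₛ K (IsLocalization.mk' Aₛ a (⟨s0, hs0⟩ : S)) * algebraMap A K s0
          = algebraMap A K a := by
        rw [IsScalarTower.algebraMap_apply A Aₛ K, IsScalarTower.algebraMap_apply A Aₛ K,
          ← map_mul]
        congr 1
        exact IsLocalization.mk'_spec _ _ _
      exact mul_right_cancel₀ hs0ne (h4.trans h3.symm)
    · intro x hx
      rw [hext]
      have hx' : x ∈ dual Aₛ K (1 : FractionalIdeal Bₛ⁰ L) := hx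
      rw [mem_dual hone'] at hx'
      obtain ⟨G, hG⟩ := (Module.Finite.fg_top : (⊤ : Submodule A B).FG)
      -- traces of x * g
      have htr : ∀ g ∈ G, ∃ y : Aₛ, algebraMap Aₛ K y = Algebra.trace K L (x * algebraMap B L g) := by
        intro g _
        have := hx' (algebraMap B L g) (by
          rw [mem_one_iff]
          exact ⟨algebraMap B Bₛ g, (IsScalarTower.algebraMap_apply B Bₛ L g).symm⟩)
        rw [Algebra.traceForm_apply] at this
        exact this
      choose! y hy using htr
      obtain ⟨s, hs⟩ := IsLocalization.exist_integer_multiples_of_finset S (G.image y)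
      -- s * x in dual A K 1
      have hsx : algebraMap K L (algebraMap A K s) * x ∈ dual A K (1 : FractionalIdeal B⁰ L) := by
        rw [mem_dual hone]
        intro b' hb'
        rw [mem_one_iff] at hb'
        obtain ⟨b, rfl⟩ := hb'
        rw [Algebra.traceForm_apply]
        have hb : b ∈ Submodule.span A (G : Set B) := by rw [hG]; exact Submodule.mem_top
        induction hb using Submodule.span_induction with
        | mem g hg =>
          obtain ⟨a, ha⟩ := hs (y g) (Finset.mem_image_of_mem _ hg)
          refine ⟨a, ?_⟩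
          rw [mul_assoc, ← Algebra.smul_def, LinearMap.map_smul, ← hy g hg, smul_eq_mul,
            IsScalarTower.algebraMap_apply A Aₛ K, IsScalarTower.algebraMap_apply A Aₛ K,
            ← map_mul, ha, Algebra.smul_def]
        | zero =>
          refine ⟨0, ?_⟩
          rw [map_zero, map_zero, mul_zero, map_zero]
        | add u v _ _ hu hv =>
          obtain ⟨a1, ha1⟩ := hu
          obtain ⟨a2, ha2⟩ := hv
          refine ⟨a1 + a2, ?_⟩
          rw [map_add, ha1, ha2, map_add, mul_add, map_add]
        | smul c u _ hu =>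
          obtain ⟨a1, ha1⟩ := hu
          refine ⟨c * a1, ?_⟩
          have e1 : algebraMap B L (c • u)
              = algebraMap K L (algebraMap A K c) * algebraMap B L u := by
            rw [Algebra.smul_def, map_mul, ← IsScalarTower.algebraMap_apply A B L,
              IsScalarTower.algebraMap_apply A K L]
          have e2 : algebraMap K L (algebraMap A K s) * x * algebraMap B L (c • u)
              = (algebraMap A K c) • (algebraMap K L (algebraMap A K s) * x * algebraMap B L u) := by
            rw [e1, Algebra.smul_def]; ring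
          rw [e2, LinearMap.map_smul, ← ha1, smul_eq_mul, map_mul]
      -- x = u • (s x)
      have hu : IsUnit (algebraMap B Bₛ (algebraMap A B s)) :=
        IsLocalization.map_units Bₛ (⟨algebraMap A B s, ⟨s, s.2, rfl⟩⟩ : Algebra.algebraMapSubmonoid B S)
      obtain ⟨u, hu'⟩ := hu
      have hxeq : x = (↑u⁻¹ : Bₛ) • (algebraMap K L (algebraMap A K s) * x) := by
        rw [Algebra.smul_def, ← hAL, ← hu', ← mul_assoc, ← map_mul, Units.inv_mul, map_one, one_mul]
      rw [hxeq]
      exact Submodule.smul_mem _ _ (Submodule.subset_span hsx)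
  -- conclude
  apply FractionalIdeal.coeIdeal_injective (K := L)
  change ((Ideal.map (algebraMap B Bₛ) (differentIdeal A B) : Ideal Bₛ) : FractionalIdeal Bₛ⁰ L)
    = ((differentIdeal Aₛ Bₛ : Ideal Bₛ) : FractionalIdeal Bₛ⁰ L)
  rw [← extended_coeIdeal_eq_map (K := L) L hf, coeIdeal_differentIdeal A K L B,
    coeIdeal_differentIdeal Aₛ K L Bₛ, ← key]
  have hne : dual A K (1 : FractionalIdeal B⁰ L) ≠ 0 := dual_ne_zero A K hone
  have h1 : (dual A K (1 : FractionalIdeal B⁰ L)) * (dual A K (1 : FractionalIdeal B⁰ L))⁻¹ = 1 :=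
    mul_inv_cancel₀ hne
  have h2 := congrArg (extended L hf) h1
  rw [extended_mul, extended_one] at h2
  exact (eq_inv_of_mul_eq_one_right h2)

end Groth.Agent.Lib.Helper26.DiffLoc1
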