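import Mathlib
import Groth.Agent.Lib.Helper26.DiffLoc1

universe u

namespace Groth.Agent.Lib.Helper26.DiffLoc2

open nonZeroDivisors

attribute [local instance] FractionRing.liftAlgebra FractionRing.isScalarTower_liftAlgebra

theorem main (A B : Type u) [CommRing A] [CommRing B]
    [IsDedekindDomain A] [IsDedekindDomain B] [Algebra A B] [Module.Finite A B] [Module.IsTorsionFree A B]
    [Algebra.IsSeparable (FractionRing A) (FractionRing B)]
    (S : Submonoid A) (hS : S ≤ nonZeroDivisors A)
    (Aₛ Bₛ : Type u) [CommRing Aₛ] [CommRing Bₛ] [Algebra A Aₛ] [Algebra B Bₛ] [Algebra Aₛ Bₛ]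
    [Algebra A Bₛ] [IsScalarTower A Aₛ Bₛ] [IsScalarTower A B Bₛ]
    [IsLocalization S Aₛ] [IsLocalization (Algebra.algebraMapSubmonoid B S) Bₛ]
    [IsDomain Aₛ] [IsIntegrallyClosed Aₛ] [IsDedekindDomain Bₛ] [Module.IsTorsionFree Aₛ Bₛ] :
    Ideal.map (algebraMap B Bₛ) (differentIdeal A B) = differentIdeal Aₛ Bₛ := by
  classical
  let K := FractionRing A
  let L := FractionRing B
  have hunitsA : ∀ s : S, IsUnit (algebraMap A K s) := fun s =>
    IsLocalization.map_units K (⟨s, hS s.2⟩ : nonZeroDivisors A)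
  let _ : Algebra Aₛ K := (IsLocalization.lift (M := S) (g := algebraMap A K) hunitsA).toAlgebra
  have hAK : ∀ a : A, algebraMap Aₛ K (algebraMap A Aₛ a) = algebraMap A K a := fun a =>
    IsLocalization.lift_eq _ a
  have : IsScalarTower A Aₛ K := IsScalarTower.of_algebraMap_eq (fun a => (hAK a).symm)
  have : IsFractionRing Aₛ K := IsFractionRing.isFractionRing_of_isDomain_of_isLocalization S Aₛ K
  have hunitsB : ∀ t : Algebra.algebraMapSubmonoid B S, IsUnit (algebraMap B L t) := by
    rintro ⟨_, ⟨s, hs, rfl⟩⟩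
    change IsUnit (algebraMap B L (algebraMap A B s))
    rw [← IsScalarTower.algebraMap_apply A B L, IsScalarTower.algebraMap_apply A K L]
    exact (hunitsA ⟨s, hs⟩).map (algebraMap K L)
  let _ : Algebra Bₛ L := (IsLocalization.lift (M := Algebra.algebraMapSubmonoid B S)
    (g := algebraMap B L) hunitsB).toAlgebra
  have hBL : ∀ b : B, algebraMap Bₛ L (algebraMap B Bₛ b) = algebraMap B L b := fun b =>
    IsLocalization.lift_eq _ b
  have : IsScalarTower B Bₛ L := IsScalarTower.of_algebraMap_eq (fun b => (hBL b).symm)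
  have : IsFractionRing Bₛ L :=
    IsFractionRing.isFractionRing_of_isDomain_of_isLocalization (Algebra.algebraMapSubmonoid B S) Bₛ L
  let _ : Algebra Aₛ L := ((algebraMap K L).comp (algebraMap Aₛ K)).toAlgebra
  have : IsScalarTower Aₛ K L := IsScalarTower.of_algebraMap_eq (fun _ => rfl)
  have : IsScalarTower Aₛ Bₛ L := by
    apply IsScalarTower.of_algebraMap_eq'
    apply IsLocalization.ringHom_ext S
    ext a
    change algebraMap K L (algebraMap Aₛ K (algebraMap A Aₛ a))
      = algebraMap Bₛ L (algebraMap Aₛ Bₛ (algebraMap A Aₛ a))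
    rw [hAK, ← IsScalarTower.algebraMap_apply A Aₛ Bₛ, IsScalarTower.algebraMap_apply A B Bₛ, hBL,
      ← IsScalarTower.algebraMap_apply A B L, IsScalarTower.algebraMap_apply A K L]
  have : Module.Finite Aₛ Bₛ := Module.Finite.of_isLocalization A B S
  have : Algebra.IsIntegral Aₛ Bₛ := inferInstance
  have : IsIntegralClosure Bₛ Aₛ L := IsIntegralClosure.of_isIntegrallyClosed Bₛ Aₛ L
  exact DiffLoc1.map_differentIdeal_eq A B S Aₛ Bₛ K L

end Groth.Agent.Lib.Helper26.DiffLoc2
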