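import Mathlib
import Groth.Prelude.Def_Disc
import Groth.Agent.S2215
import Groth.Agent.S2196
import Groth.Agent.Lib.Helper4.DiscLib

set_option autoImplicit false
set_option linter.style.haveILetI false
set_option linter.unusedSectionVars false
universe u v

namespace Groth.Agent.Helper26.DiffRam

open Disc

variable {A : Type u} {B : Type v} [CommRing A] [CommRing B] [Algebra A B]

lemma algebraMap_smul_mk (a : A) (l : B →ₗ[A] A) :
    (algebraMap A B a) • (⟨l⟩ : Omega A B) = ⟨a • l⟩ := by
  ext x
  rw [Omega.smul_toLinearMap_apply]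
  change l (algebraMap A B a * x) = a • l x
  rw [← Algebra.smul_def, map_smul]

variable {ι : Type*} [Fintype ι] [DecidableEq ι] (b : Module.Basis ι A B)

lemma sum_toLinearMap (s : Finset ι) (f : ι → Omega A B) :
    (∑ i ∈ s, f i).toLinearMap = ∑ i ∈ s, (f i).toLinearMap := by
  induction s using Finset.induction_on with
  | empty => simp
  | insert i s hi ih => rw [Finset.sum_insert hi, Finset.sum_insert hi, Omega.add_toLinearMap, ih]

/-- expansion of a functional in the dual basis. -/
lemma expand (ψ : Omega A B) :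
    ψ = ∑ k, algebraMap A B (ψ.toLinearMap (b k)) • (⟨b.coord k⟩ : Omega A B) := by
  apply Omega.ext
  rw [sum_toLinearMap]
  conv_lhs => rw [← b.sum_dual_apply_smul_coord ψ.toLinearMap]
  refine Finset.sum_congr rfl fun k _ => ?_
  rw [algebraMap_smul_mk]

lemma map_expand (Φ : Omega A B →ₗ[B] B) (ψ : Omega A B) :
    Φ ψ = ∑ k, ψ.toLinearMap (b k) • Φ ⟨b.coord k⟩ := by
  conv_lhs => rw [expand b ψ]
  rw [map_sum]
  refine Finset.sum_congr rfl fun k _ => ?_
  rw [map_smul, smul_eq_mul, Algebra.smul_def]

/-- the trace element in terms of the dual basis. -/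
lemma trace_eq_sum [Module.Finite A B] [Module.Free A B] :
    Omega.trace A B = ∑ j, b j • (⟨b.coord j⟩ : Omega A B) := by
  apply Omega.ext
  rw [sum_toLinearMap]
  change Algebra.trace A B = _
  rw [Groth.Agent.Helper4.DiscLib.trace_eq_sum_coord b]
  rfl

include b in
/-- the swap identity for the trace element (no invertibility needed). -/
theorem swap_trace_aux [Module.Finite A B] [Module.Free A B] (Φ : Omega A B →ₗ[B] B)
    (ψ : Omega A B) : Φ (Omega.trace A B) • ψ = Φ ψ • Omega.trace A B := by
  apply Omega.ext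
  ext x
  rw [Omega.smul_toLinearMap_apply, Omega.smul_toLinearMap_apply]
  change ψ.toLinearMap (Φ (Omega.trace A B) * x) = Algebra.trace A B (Φ ψ * x)
  obtain ⟨c, hc⟩ : ∃ c : ι → B, c = fun k => Φ ⟨b.coord k⟩ := ⟨_, rfl⟩
  -- left side
  have hL : ψ.toLinearMap (Φ (Omega.trace A B) * x) =
      ∑ k, ∑ j, b.coord j (c k) * ψ.toLinearMap (b k * b j * x) := by
    rw [trace_eq_sum b, map_sum, Finset.sum_mul, map_sum]
    refine Finset.sum_congr rfl fun k _ => ?_
    rw [map_smul, smul_eq_mul]
    have h1 : Φ ⟨b.coord k⟩ = ∑ j, b.coord j (c k) • b j := by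
      rw [hc]
      exact (b.sum_repr _).symm
    rw [h1, Finset.mul_sum, Finset.sum_mul, map_sum]
    refine Finset.sum_congr rfl fun j _ => ?_
    rw [mul_smul_comm, smul_mul_assoc, map_smul, smul_eq_mul]
  -- right side
  have hR : Algebra.trace A B (Φ ψ * x) =
      ∑ j, ∑ k, ψ.toLinearMap (b j * x * b k) * b.coord j (c k) := by
    rw [Groth.Agent.Helper4.DiscLib.trace_eq_sum_coord b, LinearMap.sum_apply]
    refine Finset.sum_congr rfl fun j _ => ?_
    change b.coord j (b j * (Φ ψ * x)) = _
    have h2 : b j * (Φ ψ * x) = Φ ((b j * x) • ψ) := by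
      rw [map_smul, smul_eq_mul]
      ring
    rw [h2, map_expand b Φ ((b j * x) • ψ), map_sum]
    refine Finset.sum_congr rfl fun k _ => ?_
    rw [map_smul, smul_eq_mul, Omega.smul_toLinearMap_apply, hc]
  rw [hL, hR, Finset.sum_comm]
  refine Finset.sum_congr rfl fun j _ => Finset.sum_congr rfl fun k _ => ?_
  rw [mul_comm]
  congr 2
  ring

omit [Fintype ι] [DecidableEq ι] in
theorem swap_trace [Module.Finite A B] [Module.Free A B] (Φ : Omega A B →ₗ[B] B)
    (ψ : Omega A B) : Φ (Omega.trace A B) • ψ = Φ ψ • Omega.trace A B := by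
  classical
  exact swap_trace_aux (Module.Free.chooseBasis A B) Φ ψ

omit [Fintype ι] [DecidableEq ι] in
/-- the Noether different is contained in the different. -/
theorem noetherDifferent_subset [IsNoetherianRing A] [Module.Finite A B] [Module.Free A B] :
    (noetherDifferent A B : Set B) ⊆ differentSet A B := by
  rw [Groth.Agent.S2215.result]
  rintro _ ⟨Φ, rfl⟩ φ
  refine ⟨Φ ⟨φ⟩, fun x => ?_⟩
  have h := swap_trace Φ ⟨φ⟩
  have h2 := congrArg (fun ψ : Omega A B => ψ.toLinearMap x) h
  simp only [Omega.smul_toLinearMap_apply] at h2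
  exact h2

include b in
/-- `ω` is a faithful `B`-module. -/
theorem eq_zero_of_smul_eq_zero (e : B) (h : ∀ ψ : Omega A B, e • ψ = 0) : e = 0 := by
  apply b.ext_elem
  intro j
  have h1 := congrArg (fun ψ : Omega A B => ψ.toLinearMap 1) (h ⟨b.coord j⟩)
  simp only [Omega.smul_toLinearMap_apply, mul_one, Omega.zero_toLinearMap,
    LinearMap.zero_apply] at h1
  rw [map_zero, Finsupp.zero_apply]
  exact h1

include b in
theorem finite_omega : Module.Finite B (Omega A B) := by
  classical
  refine ⟨⟨Finset.univ.image fun k => (⟨b.coord k⟩ : Omega A B), ?_⟩⟩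
  rw [eq_top_iff]
  rintro ψ -
  rw [expand b ψ]
  refine Submodule.sum_mem _ fun k _ => Submodule.smul_mem _ _ (Submodule.subset_span ?_)
  rw [Finset.coe_image]
  exact ⟨k, Finset.mem_coe.2 (Finset.mem_univ k), rfl⟩

omit [Fintype ι] [DecidableEq ι] in
/-- if the different is not contained in `q`, neither is the Noether different. -/
theorem exists_noether_not_mem [IsNoetherianRing A] [Module.Finite A B] [Module.Free A B]
    (q : Ideal B) [q.IsPrime] (b₀ : B) (hb : b₀ ∈ differentSet A B) (hbq : b₀ ∉ q) :
    ∃ y ∈ noetherDifferent A B, y ∉ q := by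
  classical
  obtain ⟨bas, -⟩ : ∃ bas : Module.Basis (Module.Free.ChooseBasisIndex A B) A B, bas = bas :=
    ⟨Module.Free.chooseBasis A B, rfl⟩
  haveI : IsNoetherianRing B := Algebra.FiniteType.isNoetherianRing A B
  haveI : Module.Finite B (Omega A B) := finite_omega bas
  haveI : Module.FinitePresentation B (Omega A B) := Module.finitePresentation_of_finite B _
  have hc : ∀ ψ : Omega A B, ∃ c : B, b₀ • ψ = c • Omega.trace A B := by
    intro ψ
    obtain ⟨c, hc⟩ := hb ψ.toLinearMap
    refine ⟨c, ?_⟩
    apply Omega.ext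
    ext x
    rw [Omega.smul_toLinearMap_apply, Omega.smul_toLinearMap_apply]
    exact hc x
  choose c hc using hc
  have hkill : ∀ e : B, e • Omega.trace A B = 0 → e * b₀ = 0 := by
    intro e he
    apply eq_zero_of_smul_eq_zero bas
    intro ψ
    rw [mul_smul, hc ψ, smul_comm, he, smul_zero]
  have hu : IsUnit (algebraMap B (Localization.AtPrime q) b₀) :=
    IsLocalization.map_units (Localization.AtPrime q) (⟨b₀, hbq⟩ : q.primeCompl)
  have hzero : ∀ e : B, e • Omega.trace A B = 0 →
      algebraMap B (Localization.AtPrime q) e = 0 := by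
    intro e he
    have h2 : algebraMap B (Localization.AtPrime q) e *
        algebraMap B (Localization.AtPrime q) b₀ = 0 := by
      rw [← map_mul, hkill e he, map_zero]
    exact hu.mul_left_eq_zero.1 h2
  have heq : ∀ e e' : B, e • Omega.trace A B = e' • Omega.trace A B →
      algebraMap B (Localization.AtPrime q) e = algebraMap B (Localization.AtPrime q) e' := by
    intro e e' h
    have h1 : (e - e') • Omega.trace A B = 0 := by rw [sub_smul, h, sub_self]
    have h2 := hzero _ h1
    rwa [map_sub, sub_eq_zero] at h2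
  let g : Omega A B →ₗ[B] Localization.AtPrime q :=
    { toFun := fun ψ => algebraMap B (Localization.AtPrime q) (c ψ) * ↑hu.unit⁻¹
      map_add' := fun ψ ψ' => by
        rw [← add_mul, ← map_add]
        congr 1
        apply heq
        rw [add_smul, ← hc, ← hc, ← hc, smul_add]
      map_smul' := fun r ψ => by
        rw [RingHom.id_apply, Algebra.smul_def, ← mul_assoc, ← map_mul]
        congr 1
        apply heq
        rw [mul_smul, ← hc, ← hc, smul_comm] }
  obtain ⟨h, s, hs⟩ := Module.FinitePresentation.exists_lift_of_isLocalizedModule q.primeCompl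
    (Algebra.linearMap B (Localization.AtPrime q)) g
  refine ⟨h (Omega.trace A B), ?_, ?_⟩
  · rw [← SetLike.mem_coe, Groth.Agent.S2215.result]
    exact ⟨h, rfl⟩
  · have h1 := LinearMap.congr_fun hs (Omega.trace A B)
    have hg : g (Omega.trace A B) = 1 := by
      change algebraMap B (Localization.AtPrime q) (c (Omega.trace A B)) * ↑hu.unit⁻¹ = 1
      have h3 : algebraMap B (Localization.AtPrime q) (c (Omega.trace A B)) =
          algebraMap B (Localization.AtPrime q) b₀ := heq _ _ (hc _).symm
      rw [h3]
      exact hu.mul_val_inv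
    have h4 : algebraMap B (Localization.AtPrime q) (h (Omega.trace A B)) =
        algebraMap B (Localization.AtPrime q) (s : B) := by
      have h5 : (Algebra.linearMap B (Localization.AtPrime q)) (h (Omega.trace A B)) =
          (s • g) (Omega.trace A B) := h1
      rw [LinearMap.smul_apply, hg] at h5
      rw [Algebra.linearMap_apply] at h5
      rw [h5, Submonoid.smul_def, Algebra.smul_def, mul_one]
    intro hmem
    have h6 : IsUnit (algebraMap B (Localization.AtPrime q) (h (Omega.trace A B))) := by
      rw [h4]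
      exact IsLocalization.map_units (Localization.AtPrime q) s
    exact (IsLocalization.AtPrime.isUnit_to_map_iff (Localization.AtPrime q) q _).1 h6 hmem

omit [Fintype ι] [DecidableEq ι] in
theorem main [IsNoetherianRing A] [Module.Finite A B] [Module.Free A B]
    (q : Ideal B) [q.IsPrime] :
    Disc.differentSet A B ⊆ q ↔ ¬Algebra.IsUnramifiedAt A q := by
  have hGF : Disc.noetherDifferent A B ≤ q ↔ ¬Algebra.IsUnramifiedAt A q := by
    have h := Groth.Agent.S2196.result (A := A) (B := B)
    have h2 : (⟨q, inferInstance⟩ : PrimeSpectrum B) ∈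
        {q : PrimeSpectrum B | Disc.noetherDifferent A B ≤ q.asIdeal} ↔
        (⟨q, inferInstance⟩ : PrimeSpectrum B) ∈ (Algebra.unramifiedLocus A B)ᶜ := by rw [h]
    exact h2
  constructor
  · intro hD
    rw [← hGF]
    intro y hy
    exact hD (noetherDifferent_subset hy)
  · intro hram
    rw [← hGF] at hram
    intro b₀ hb
    by_contra hbq
    obtain ⟨y, hy, hyq⟩ := exists_noether_not_mem q b₀ hb hbq
    exact hyq (hram hy)

end Groth.Agent.Helper26.DiffRam
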