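import Mathlib

namespace Groth.Agent.Helper26.Discr

open MvPolynomial

universe u
variable {K : Type u} [Field K]

/-- the ideal of variables -/
noncomputable abbrev mm (σ : Type*) (K : Type u) [Field K] : Ideal (MvPolynomial σ K) :=
  Ideal.span (Set.range (MvPolynomial.X : σ → MvPolynomial σ K))

theorem mem_mm_iff {σ : Type*} (p : MvPolynomial σ K) : p ∈ mm σ K ↔ constantCoeff p = 0 := by
  have := mem_pow_idealOfVars_iff' (σ := σ) (R := K) 1 p
  rw [pow_one] at this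
  rw [this]
  constructor
  · intro h
    exact h 0 (by simp)
  · intro h x hx
    have : x = 0 := by
      have h0 : Finsupp.degree x = 0 := by omega
      exact (Finsupp.degree_eq_zero_iff x).1 h0
    rw [this]
    exact h

theorem sub_C_mem {σ : Type*} (p : MvPolynomial σ K) : p - C (constantCoeff p) ∈ mm σ K := by
  rw [mem_mm_iff]; simp

theorem map_mm_le {σ τ : Type*} (f : MvPolynomial σ K →ₐ[K] MvPolynomial τ K)
    (hf : ∀ i, f (X i) ∈ mm τ K) (n : ℕ) :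
    Ideal.map f.toRingHom (mm σ K ^ n) ≤ mm τ K ^ n := by
  rw [Ideal.map_pow]
  refine Ideal.pow_right_mono ?_ n
  rw [Ideal.map_span]
  refine Ideal.span_le.2 ?_
  rintro _ ⟨_, ⟨i, rfl⟩, rfl⟩
  exact hf i

theorem mem_of_mem {σ τ : Type*} (f : MvPolynomial σ K →ₐ[K] MvPolynomial τ K)
    (hf : ∀ i, f (X i) ∈ mm τ K) (n : ℕ) {p : MvPolynomial σ K} (hp : p ∈ mm σ K ^ n) :
    f p ∈ mm τ K ^ n :=
  map_mm_le f hf n (Ideal.mem_map_of_mem f.toRingHom hp)

/-- the polynomial `h` -/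
noncomputable def hh (G₂ G₃ G₄ : MvPolynomial (Fin 2) K) : MvPolynomial (Fin 3) K :=
  MvPolynomial.rename (Fin.castSucc : Fin 2 → Fin 3) G₂ * MvPolynomial.X (2 : Fin 3) ^ 2
        + 2 * MvPolynomial.rename (Fin.castSucc : Fin 2 → Fin 3) G₃ * MvPolynomial.X (2 : Fin 3)
        + MvPolynomial.rename (Fin.castSucc : Fin 2 → Fin 3) G₄

/-- substitution `z ↦ 0` -/
noncomputable def s1 : MvPolynomial (Fin 3) K →ₐ[K] MvPolynomial (Fin 2) K :=
  aeval (Fin.snoc (α := fun _ => MvPolynomial (Fin 2) K) (fun j : Fin 2 => X j) 0)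

theorem s1_rename (G : MvPolynomial (Fin 2) K) : s1 (rename Fin.castSucc G) = G := by
  unfold s1
  rw [aeval_rename]
  have : (Fin.snoc (α := fun _ => MvPolynomial (Fin 2) K) (fun j : Fin 2 => X j) 0) ∘ Fin.castSucc
      = X := by
    ext j
    simp
  rw [this, aeval_X_left, AlgHom.id_apply]

theorem s1_X2 : s1 (K := K) (X (2 : Fin 3)) = 0 := by
  unfold s1
  rw [aeval_X]
  exact Fin.snoc_last (α := fun _ => MvPolynomial (Fin 2) K) _ _

theorem s1_X_mem (i : Fin 3) : s1 (K := K) (X i) ∈ mm (Fin 2) K := by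
  unfold s1
  rw [aeval_X]
  refine Fin.lastCases ?_ (fun j => ?_) i
  · rw [Fin.snoc_last]; exact zero_mem _
  · rw [Fin.snoc_castSucc]; exact Ideal.subset_span ⟨j, rfl⟩

theorem s1_hh (G₂ G₃ G₄ : MvPolynomial (Fin 2) K) : s1 (hh G₂ G₃ G₄) = G₄ := by
  unfold hh
  simp only [map_add, map_mul, map_pow, s1_rename, s1_X2]
  simp

/-- substitution `x, y ↦ 0`, `z ↦ X` -/
noncomputable def s2 : MvPolynomial (Fin 3) K →ₐ[K] Polynomial K :=
  aeval (Fin.snoc (α := fun _ => Polynomial K) (fun _ : Fin 2 => 0) Polynomial.X)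

theorem s2_rename (G : MvPolynomial (Fin 2) K) :
    s2 (rename Fin.castSucc G) = Polynomial.C (constantCoeff G) := by
  unfold s2
  rw [aeval_rename]
  have : (Fin.snoc (α := fun _ => Polynomial K) (fun _ : Fin 2 => 0) Polynomial.X) ∘ Fin.castSucc
      = 0 := by
    ext j
    simp
  rw [this, aeval_zero]
  rfl

theorem s2_X2 : s2 (K := K) (X (2 : Fin 3)) = Polynomial.X := by
  unfold s2
  rw [aeval_X]
  exact Fin.snoc_last (α := fun _ => Polynomial K) _ _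

theorem s2_mem (n : ℕ) {p : MvPolynomial (Fin 3) K} (hp : p ∈ mm (Fin 3) K ^ n) :
    Polynomial.X ^ n ∣ s2 p := by
  have h1 : Ideal.map s2.toRingHom (mm (Fin 3) K ^ n) ≤ Ideal.span {(Polynomial.X : Polynomial K) ^ n} := by
    rw [Ideal.map_pow, ← Ideal.span_singleton_pow]
    refine Ideal.pow_right_mono ?_ n
    rw [Ideal.map_span]
    refine Ideal.span_le.2 ?_
    rintro _ ⟨_, ⟨i, rfl⟩, rfl⟩
    refine Fin.lastCases ?_ (fun j => ?_) i
    · have : s2.toRingHom (X (Fin.last 2)) = (Polynomial.X : Polynomial K) := s2_X2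
      rw [this]
      exact Ideal.subset_span rfl
    · have : s2.toRingHom (X (Fin.castSucc j)) = (0 : Polynomial K) := by
        change s2 (X (Fin.castSucc j)) = 0
        unfold s2
        rw [aeval_X, Fin.snoc_castSucc]
      rw [this]
      exact zero_mem _
  exact Ideal.mem_span_singleton.1 (h1 (Ideal.mem_map_of_mem s2.toRingHom hp))

theorem s2_hh (G₂ G₃ G₄ : MvPolynomial (Fin 2) K) :
    s2 (hh G₂ G₃ G₄) = Polynomial.C (constantCoeff G₂) * Polynomial.X ^ 2 +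
      2 * Polynomial.C (constantCoeff G₃) * Polynomial.X + Polynomial.C (constantCoeff G₄) := by
  unfold hh
  simp only [map_add, map_mul, map_pow, s2_rename, s2_X2, map_ofNat]

theorem rename_mem (n : ℕ) {G : MvPolynomial (Fin 2) K} (hG : G ∈ mm (Fin 2) K ^ n) :
    rename (Fin.castSucc : Fin 2 → Fin 3) G ∈ mm (Fin 3) K ^ n := by
  refine mem_of_mem (rename Fin.castSucc) (fun i => ?_) n hG
  rw [rename_X]
  exact Ideal.subset_span ⟨_, rfl⟩

theorem X2_mem : (X (2 : Fin 3) : MvPolynomial (Fin 3) K) ∈ mm (Fin 3) K :=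
  Ideal.subset_span ⟨_, rfl⟩

/-- `h ∈ 𝔪²` iff `G₃ ∈ 𝔪` and `G₄ ∈ 𝔪²` (given char ≠ 2) -/
theorem hh_mem_sq_iff (h2 : (2 : K) ≠ 0) (G₂ G₃ G₄ : MvPolynomial (Fin 2) K) :
    hh G₂ G₃ G₄ ∈ mm (Fin 3) K ^ 2 ↔ (G₃ ∈ mm (Fin 2) K ∧ G₄ ∈ mm (Fin 2) K ^ 2) := by
  constructor
  · intro h
    refine ⟨?_, ?_⟩
    · rw [mem_mm_iff]
      have := s2_mem 2 h
      rw [s2_hh, Polynomial.X_pow_dvd_iff] at this
      have h1 := this 1 (by norm_num)
      simp only [Polynomial.coeff_add, Polynomial.coeff_C_mul, Polynomial.coeff_X_pow,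
        Polynomial.coeff_C] at h1
      have h3 : (2 * Polynomial.C (constantCoeff G₃) * Polynomial.X : Polynomial K).coeff 1 =
          2 * constantCoeff G₃ := by
        rw [show (2 : Polynomial K) = Polynomial.C 2 from rfl, ← Polynomial.C_mul,
          Polynomial.coeff_C_mul_X]
        simp
      rw [h3] at h1
      norm_num at h1
      rcases h1 with h1 | h1
      · exact absurd h1 h2
      · exact h1
    · have := mem_of_mem s1 s1_X_mem 2 h
      rwa [s1_hh] at this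
  · rintro ⟨h3, h4⟩
    unfold hh
    refine add_mem (add_mem ?_ ?_) (rename_mem 2 h4)
    · exact Ideal.mul_mem_left _ _ (Ideal.pow_mem_pow X2_mem 2)
    · rw [pow_two, mul_assoc]
      refine Ideal.mul_mem_left _ _ (Ideal.mul_mem_mul ?_ X2_mem)
      have := rename_mem 1 (by rwa [pow_one])
      rwa [pow_one] at this

theorem D_mem_of (G₂ G₃ G₄ : MvPolynomial (Fin 2) K) (h3 : G₃ ∈ mm (Fin 2) K)
    (h4 : G₄ ∈ mm (Fin 2) K ^ 2) : G₃ ^ 2 - G₂ * G₄ ∈ mm (Fin 2) K ^ 2 :=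
  sub_mem (Ideal.pow_mem_pow h3 2) (Ideal.mul_mem_left _ _ h4)

theorem main1 (h2 : (2 : K) ≠ 0) (G₂ G₃ G₄ : MvPolynomial (Fin 2) K)
    (h : hh G₂ G₃ G₄ ∈ mm (Fin 3) K ^ 2) : G₃ ^ 2 - G₂ * G₄ ∈ mm (Fin 2) K ^ 2 := by
  obtain ⟨h3, h4⟩ := (hh_mem_sq_iff h2 G₂ G₃ G₄).1 h
  exact D_mem_of G₂ G₃ G₄ h3 h4

theorem main2 (h2 : (2 : K) ≠ 0) (G₂ G₃ G₄ : MvPolynomial (Fin 2) K)
    (hQ : hh G₂ G₃ G₄ ∈ mm (Fin 3) K) (hD : G₃ ^ 2 - G₂ * G₄ ∈ mm (Fin 2) K) :
    G₃ ^ 2 - G₂ * G₄ ∈ mm (Fin 2) K ^ 2 ↔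
      (hh G₂ G₃ G₄ ∈ mm (Fin 3) K ^ 2 ∨
        (G₂ ∈ mm (Fin 2) K ∧ G₃ ∈ mm (Fin 2) K ∧ G₄ ∈ mm (Fin 2) K)) := by
  -- `G₄ ∈ 𝔪`
  have h4 : G₄ ∈ mm (Fin 2) K := by
    have := mem_of_mem s1 s1_X_mem 1 (by rwa [pow_one])
    rwa [s1_hh, pow_one] at this
  have h3 : G₃ ∈ mm (Fin 2) K := by
    rw [mem_mm_iff] at hD h4 ⊢
    simp only [map_sub, map_pow, map_mul, h4, mul_zero, sub_zero] at hD
    exact pow_eq_zero_iff (n := 2) (by norm_num) |>.1 hD
  constructor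
  · intro hDD
    by_cases ha : G₂ ∈ mm (Fin 2) K
    · exact Or.inr ⟨ha, h3, h4⟩
    · left
      rw [hh_mem_sq_iff h2]
      refine ⟨h3, ?_⟩
      rw [mem_mm_iff] at ha
      set a := constantCoeff G₂ with hadef
      have h5 : G₂ * G₄ ∈ mm (Fin 2) K ^ 2 := by
        have : G₂ * G₄ = G₃ ^ 2 - (G₃ ^ 2 - G₂ * G₄) := by ring
        rw [this]
        exact sub_mem (Ideal.pow_mem_pow h3 2) hDD
      have h6 : (G₂ - C a) * G₄ ∈ mm (Fin 2) K ^ 2 := by
        rw [pow_two]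
        exact Ideal.mul_mem_mul (sub_C_mem G₂) h4
      have h7 : C a * G₄ ∈ mm (Fin 2) K ^ 2 := by
        have : C a * G₄ = G₂ * G₄ - (G₂ - C a) * G₄ := by ring
        rw [this]
        exact sub_mem h5 h6
      have h8 : G₄ = C a⁻¹ * (C a * G₄) := by
        rw [← mul_assoc, ← C_mul, inv_mul_cancel₀ ha, C_1, one_mul]
      rw [h8]
      exact Ideal.mul_mem_left _ _ h7
  · rintro (h | ⟨ha, h3', h4'⟩)
    · exact main1 h2 G₂ G₃ G₄ h
    · refine sub_mem (Ideal.pow_mem_pow h3 2) ?_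
      rw [pow_two]
      exact Ideal.mul_mem_mul ha h4

end Groth.Agent.Helper26.Discr
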