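import Mathlib
import Groth.Agent.Lib.Helper26.DualFun
import Groth.Agent.Lib.Helper26.CechNat
import Groth.Agent.Lib.Helper13.FTColim
import Groth.Agent.Lib.Helper17.MP2

set_option autoImplicit false
set_option linter.unusedSectionVars false
set_option linter.unusedVariables false
universe u
open CategoryTheory CategoryTheory.Limits AlgebraicGeometry Opposite TopologicalSpace
open Groth.Agent.Helper13.FTColim

namespace Groth.Agent.Helper26.DualFun

variable (A : Type u) [CommRing A] {X : Scheme.{u}} [X.Over (Spec (CommRingCat.of A))]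
variable (r : ℕ) (ω : X.Modules) (tr : Coh.HH X ω r →ₗ[A] A)

section

variable (G : X.Modules)

/-- the cocone of the finite type quasi-coherent subsheaves, in the category of modules. -/
noncomputable def ccM : Cocone (DD G) where
  pt := G
  ι :=
    { app := fun j => subι G j
      naturality := by
        intro j k f
        show incl G (leOfHom f) ≫ subι G k = subι G j ≫ 𝟙 _
        rw [incl_ι, Category.comp_id] }

variable [CompactSpace X] [QuasiSeparatedSpace X] [G.IsQuasicoherent]

theorem isColimit_ccM : Nonempty (IsColimit (ccM G)) := by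
  obtain ⟨hcol⟩ := isColimit_cc G
  have h1 : IsColimit ((Groth.Agent.Helper13.ToAbExact.toAbF X).mapCocone (ccM G)) :=
    IsColimit.ofIsoColimit hcol (Cocone.ext (Iso.refl _) (by
      intro j
      exact Category.comp_id _))
  haveI : ReflectsColimitsOfSize.{u, u} (SheafOfModules.toSheaf.{u} X.ringCatSheaf) :=
    reflectsColimits_of_reflectsIsomorphisms
  haveI : ReflectsColimitsOfSize.{u, u} (Groth.Agent.Helper13.ToAbExact.toAbF X) :=
    inferInstanceAs (ReflectsColimitsOfSize.{u, u} (SheafOfModules.toSheaf.{u} X.ringCatSheaf))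
  exact ⟨isColimitOfReflects (Groth.Agent.Helper13.ToAbExact.toAbF X) h1⟩

/-- every top cohomology class of a quasi-coherent module comes from a finite type
quasi-coherent submodule. -/
theorem exists_rep_HH (x : Coh.HH X G r) :
    ∃ (j : JJ G) (y : Coh.HH X (sub G j) r), Canon.HHlin A (subι G j) r y = x := by
  haveI : PrespectralSpace X.toTopCat := inferInstanceAs (PrespectralSpace X)
  haveI : QuasiSeparatedSpace X.toTopCat := inferInstanceAs (QuasiSeparatedSpace X)
  haveI : CompactSpace X.toTopCat := inferInstanceAs (CompactSpace X)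
  obtain ⟨hcol⟩ := isColimit_cc G
  let F : CohTop.Ab X.toTopCat ⥤ AddCommGrpCat.{u} :=
    (Sheaf.cohomologyPresheafFunctor (Opens.grothendieckTopology X.toTopCat) r).flip.obj (op ⊤)
  haveI : PreservesColimitsOfShape (JJ G) F :=
    Groth.Agent.Helper13.ColimCoh.preservesColimitsOfShape_HU (X := X.toTopCat) (J := JJ G) ⊤
      (by simpa using isCompact_univ) (Groth.Agent.Helper13.ColimSec.qSep_of_quasiSeparatedSpace ⊤) r
  let x' : F.obj (Coh.toAb G) :=
    (Groth.Agent.Helper13.HUTop.HUtopEquiv (X := X.toTopCat) (Coh.toAb G) r).symm x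
  obtain ⟨j, y', hy'⟩ := Groth.Agent.Helper13.DeltaFColim.exists_rep (DAb G ⋙ F)
    (isColimitOfPreserves F hcol) x'
  refine ⟨j, Groth.Agent.Helper13.HUTop.HUtopEquiv (X := X.toTopCat) (Coh.toAb (sub G j)) r y', ?_⟩
  have h1 := CechNat.H'Equiv_natural (Opens.grothendieckTopology X.toTopCat)
    (T := (⊤ : Opens X.toTopCat)) isTerminalTop
    ((SheafOfModules.toSheaf X.ringCatSheaf).map (subι G j)) r y'
  refine h1.symm.trans ?_
  have h2 : (((Sheaf.cohomologyPresheafFunctor (Opens.grothendieckTopology X.toTopCat) r).map
      ((SheafOfModules.toSheaf X.ringCatSheaf).map (subι G j))).app (op ⊤)).hom y' = x' := hy'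
  rw [h2]
  exact (Groth.Agent.Helper13.HUTop.HUtopEquiv (X := X.toTopCat) (Coh.toAb G) r).apply_symm_apply x

/-- a pair which is dualizing for the finite type quasi-coherent modules is dualizing for all
quasi-coherent modules (on a quasi-compact quasi-separated scheme). -/
theorem dualityMap_bijective_of_ft
    (h : ∀ N : X.Modules, N.IsQuasicoherent → SheafOfModules.IsFiniteType (R := X.ringCatSheaf) N →
      Function.Bijective (Canon.dualityMap A X r ω tr N)) :
    Function.Bijective (Canon.dualityMap A X r ω tr G) := by
  obtain ⟨hcolM⟩ := isColimit_ccM G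
  have hj : ∀ j : JJ G, Function.Bijective (Canon.dualityMap A X r ω tr (sub G j)) :=
    fun j => h _ (sub_isQuasicoherent G j) (sub_isFiniteType G j)
  constructor
  · intro φ φ' hφ
    apply hcolM.hom_ext
    intro j
    apply (hj j).1
    change Canon.dualityMap A X r ω tr (sub G j) (subι G j ≫ φ) =
      Canon.dualityMap A X r ω tr (sub G j) (subι G j ≫ φ')
    rw [dualityMap_comp, dualityMap_comp, hφ]
  · intro ψ
    choose φ hφ using fun j => (hj j).2 (ψ.comp (Canon.HHlin A (subι G j) r))
    let c : Cocone (DD G) :=
      { pt := ω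
        ι :=
          { app := φ
            naturality := by
              intro j k f
              show incl G (leOfHom f) ≫ φ k = φ j ≫ 𝟙 _
              rw [Category.comp_id]
              apply (hj j).1
              rw [dualityMap_comp, hφ k, hφ j, LinearMap.comp_assoc, ← HHlin_comp, incl_ι] } }
    refine ⟨hcolM.desc c, ?_⟩
    ext x
    obtain ⟨j, y, rfl⟩ := exists_rep_HH A r G x
    have h2 := congrArg (fun g => g y) (dualityMap_comp A r ω tr (subι G j) (hcolM.desc c))
    simp only [LinearMap.comp_apply] at h2
    rw [← h2]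
    have h3 : subι G j ≫ hcolM.desc c = φ j := hcolM.fac c j
    rw [h3, hφ j, LinearMap.comp_apply]

end

end Groth.Agent.Helper26.DualFun
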