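import Mathlib
import Groth.Agent.Lib.Helper26.Wedge
import Groth.Agent.Lib.Helper26.IntLF
import Groth.Agent.Lib.Helper13.TensorFinLocFree

/-!
# The map `Λ²E ⟶ E ⊗ N` attached to a map `E ⟶ N` (duality for rank two bundles)
-/

set_option autoImplicit false
set_option maxHeartbeats 400000
set_option linter.unusedSectionVars false
set_option linter.unusedVariables false
universe u
open CategoryTheory CategoryTheory.Limits AlgebraicGeometry Opposite TopologicalSpace
open Groth.Agent.Helper24.KoszMap Groth.Agent.Helper13.Tensor exteriorPower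

namespace Groth.Agent.Helper26.DualMap

section Alg

variable {R : Type*} [CommRing R] {A P : Type*} [AddCommGroup A] [Module R A]
  [AddCommGroup P] [Module R P]

/-- an alternating bilinear map as an alternating map on `Fin 2`. -/
noncomputable def altOfBilin (B : A →ₗ[R] A →ₗ[R] P) (hB : ∀ x, B x x = 0) :
    A [⋀^Fin 2]→ₗ[R] P where
  toFun f := B (f 0) (f 1)
  map_update_add' := by
    intro _ m i x y
    fin_cases i
    · simp only [Fin.zero_eta, Function.update_self,
        Function.update_of_ne (Fin.zero_ne_one (n := 0)).symm, map_add, LinearMap.add_apply]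
    · simp only [Fin.mk_one, Function.update_self,
        Function.update_of_ne (Fin.zero_ne_one (n := 0)), map_add]
  map_update_smul' := by
    intro _ m i c x
    fin_cases i
    · simp only [Fin.zero_eta, Function.update_self,
        Function.update_of_ne (Fin.zero_ne_one (n := 0)).symm, map_smul, LinearMap.smul_apply]
    · simp only [Fin.mk_one, Function.update_self,
        Function.update_of_ne (Fin.zero_ne_one (n := 0)), map_smul]
  map_eq_zero_of_eq' := by
    intro v i j hv hij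
    fin_cases i <;> fin_cases j
    · exact absurd rfl hij
    · change B (v 0) (v 1) = 0
      have h1 : v 0 = v 1 := hv
      rw [h1]
      exact hB _
    · change B (v 0) (v 1) = 0
      have h1 : v 1 = v 0 := hv
      rw [h1]
      exact hB _
    · exact absurd rfl hij

/-- the linear map on the second exterior power induced by an alternating bilinear map. -/
noncomputable def lift (B : A →ₗ[R] A →ₗ[R] P) (hB : ∀ x, B x x = 0) : ⋀[R]^2 A →ₗ[R] P :=
  alternatingMapLinearEquiv (altOfBilin B hB)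

lemma lift_ιMulti (B : A →ₗ[R] A →ₗ[R] P) (hB : ∀ x, B x x = 0) (f : Fin 2 → A) :
    lift B hB (ιMulti R 2 f) = B (f 0) (f 1) := by
  unfold lift
  rw [alternatingMapLinearEquiv_apply_ιMulti]
  rfl

end Alg

section Sch

variable {X : Scheme.{u}} (E L N : X.Modules)
  (φ : ∀ U : X.affineOpens, Γ(L, U.1) ≃ₗ[Γ(X, U.1)] ↥(⋀[Γ(X, U.1)]^2 Γ(E, U.1)))
  (hφ : ∀ (U V : X.affineOpens) (h : V.1 ≤ U.1) (f : Fin 2 → Γ(E, U.1)),
    res L h ((φ U).symm (ιMulti _ 2 f)) = (φ V).symm (ιMulti _ 2 (fun j => res E h (f j))))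
  (w : E ⟶ N)

/-- the local alternating pairing `(x, y) ↦ y ⊗ w x - x ⊗ w y`. -/
noncomputable def Bw (U : X.Opens) :
    Γ(E, U) →ₗ[Γ(X, U)] Γ(E, U) →ₗ[Γ(X, U)] Γ(CohB1.tensorMod E N, U) :=
  (tmulBilin E N U).flip.comp (appLin w U) - (tmulBilin E N U).compl₂ (appLin w U)

lemma Bw_apply (U : X.Opens) (x y : Γ(E, U)) :
    Bw E N w U x y = tmul E N y (w.app U x) - tmul E N x (w.app U y) := rfl

lemma Bw_self (U : X.Opens) (x : Γ(E, U)) : Bw E N w U x x = 0 := by
  rw [Bw_apply, sub_self]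

/-- the local maps `Λ²E(U) → (E ⊗ N)(U)`. -/
noncomputable def ψw (U : X.affineOpens) :
    Γ(L, U.1) →ₗ[Γ(X, U.1)] Γ(CohB1.tensorMod E N, U.1) :=
  (lift (Bw E N w U.1) (Bw_self E N w U.1)).comp (φ U).toLinearMap

lemma ψw_symm (U : X.affineOpens) (f : Fin 2 → Γ(E, U.1)) :
    ψw E L N φ w U ((φ U).symm (ιMulti _ 2 f)) =
      tmul E N (f 1) (w.app U.1 (f 0)) - tmul E N (f 0) (w.app U.1 (f 1)) := by
  unfold ψw
  rw [LinearMap.comp_apply, LinearEquiv.coe_coe, LinearEquiv.apply_symm_apply, lift_ιMulti,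
    Bw_apply]

lemma res_sub (G : X.Modules) {U V : X.Opens} (h : U ≤ V) (m m' : Γ(G, V)) :
    res G h (m - m') = res G h m - res G h m' := map_sub _ _ _

lemma tmul_res' {U V : X.Opens} (h : V ≤ U) (m : Γ(E, U)) (n : Γ(N, U)) :
    res (CohB1.tensorMod E N) h (tmul E N m n) = tmul E N (res E h m) (res N h n) :=
  tmul_res E N (homOfLE h) m n

include hφ in
lemma ψw_res (U V : X.affineOpens) (h : V.1 ≤ U.1) (x : Γ(L, U.1)) :
    ψw E L N φ w V (res L h x) = res (CohB1.tensorMod E N) h (ψw E L N φ w U x) := by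
  obtain ⟨y, rfl⟩ : ∃ y, (φ U).symm y = x := ⟨φ U x, (φ U).symm_apply_apply x⟩
  have hy : y ∈ Submodule.span Γ(X, U.1) (Set.range (ιMulti Γ(X, U.1) 2 (M := Γ(E, U.1)))) := by
    rw [ιMulti_span]
    trivial
  induction hy using Submodule.span_induction with
  | mem y hy =>
    obtain ⟨f, rfl⟩ := hy
    rw [hφ U V h f, ψw_symm, ψw_symm, res_sub, tmul_res', tmul_res', ← app_res, ← app_res]
  | zero =>
    rw [map_zero, res_zero, map_zero, map_zero, res_zero]
  | add a b _ _ ha hb =>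
    rw [map_add, res_add, map_add, ha, hb, map_add, res_add]
  | smul r a _ ha =>
    rw [map_smul, res_smul, map_smul, ha, map_smul, res_smul]

/-- **the dual map** `Λ²E ⟶ E ⊗ N` of `w : E ⟶ N`. -/
noncomputable def Dbar : L ⟶ CohB1.tensorMod E N :=
  glue L (CohB1.tensorMod E N) (ψw E L N φ w) (ψw_res E L N φ hφ w)

lemma Dbar_app (U : X.affineOpens) (f : Fin 2 → Γ(E, U.1)) :
    (Dbar E L N φ hφ w).app U.1 ((φ U).symm (ιMulti _ 2 f)) =
      tmul E N (f 1) (w.app U.1 (f 0)) - tmul E N (f 0) (w.app U.1 (f 1)) := by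
  unfold Dbar
  rw [glue_app, ψw_symm]

open Groth.Agent.Helper13.StalkBasis Groth.Agent.Helper26.BasisSec Groth.Agent.Helper26.IntLF in
/-- **nondegeneracy**: on an integral scheme, for `E` of rank two and `N` of rank one, the dual
map of a nonzero `w` is nonzero. -/
theorem eq_zero_of_Dbar_eq_zero [IsIntegral X] (hE : FlatMod.IsFinLocFreeOfRank 2 E)
    (hN : FlatMod.IsFinLocFreeOfRank 1 N) (h : Dbar E L N φ hφ w = 0) : w = 0 := by
  obtain ⟨y₀⟩ : Nonempty X := inferInstance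
  obtain ⟨V₁, e₁, hy₁, he₁⟩ := Groth.Agent.Helper13.K0Tensor.exists_isBasisAt_of_rank E 2 hE y₀
  obtain ⟨V₂, ν₁, hy₂, hν₁⟩ := Groth.Agent.Helper13.K0Tensor.exists_isBasisAt_of_rank N 1 hN y₀
  obtain ⟨_, ⟨U, hU, rfl⟩, hyU, hUV⟩ := X.isBasis_affineOpens.exists_subset_of_mem_open
    (show y₀ ∈ ((V₁ ⊓ V₂ : X.Opens) : Set X) from ⟨hy₁, hy₂⟩) (V₁ ⊓ V₂).2
  have hU1 : U ≤ V₁ := fun z hz => (hUV hz).1
  have hU2 : U ≤ V₂ := fun z hz => (hUV hz).2
  let e : Fin 2 → Γ(E, U) := fun j => res E hU1 (e₁ j)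
  let ν : Fin 1 → Γ(N, U) := fun j => res N hU2 (ν₁ j)
  have he : ∀ (z : X) (hz : z ∈ U), IsBasisAt E e z hz :=
    fun z hz => (isBasisAt_res E (homOfLE hU1) e₁ z hz).2 (he₁ z _)
  have hν : ∀ (z : X) (hz : z ∈ U), IsBasisAt N ν z hz :=
    fun z hz => (isBasisAt_res N (homOfLE hU2) ν₁ z hz).2 (hν₁ z _)
  -- coordinates of `w (e j)`
  have hco : ∀ j, ∃ a : Γ(X, U), w.app U (e j) = a • ν 0 := by
    intro j
    obtain ⟨γ, hγ⟩ := lin_surjective N ν hν (w.app U (e j))
    exact ⟨γ 0, by rw [← hγ, lin_one]⟩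
  choose a ha using hco
  have h1 := Dbar_app E L N φ hφ w ⟨U, hU⟩ e
  rw [h] at h1
  have h2 : tmul E N (e 1) (w.app U (e 0)) - tmul E N (e 0) (w.app U (e 1)) = 0 := h1.symm
  rw [ha 0, ha 1, tmul_smul_right, tmul_smul_right] at h2
  -- the tensor basis
  let t : Fin (2 * 1) → Γ(CohB1.tensorMod E N, U) := fun k =>
    tmul E N (e (finProdFinEquiv.symm k).1) (ν (finProdFinEquiv.symm k).2)
  have ht : ∀ (z : X) (hz : z ∈ U), IsBasisAt (CohB1.tensorMod E N) t z hz := fun z hz =>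
    Groth.Agent.Helper13.TensorFinLocFree.isBasisAt_tmul E N e ν z hz (he z hz) (hν z hz)
  let c : Fin 2 → Γ(X, U) := ![-a 1, a 0]
  let γ : Fin (2 * 1) → Γ(X, U) := fun k => c (finProdFinEquiv.symm k).1
  have h3 : lin (CohB1.tensorMod E N) t γ = 0 := by
    unfold lin
    rw [← Equiv.sum_comp finProdFinEquiv, Fintype.sum_prod_type, Fin.sum_univ_two]
    simp only [Fin.sum_univ_one, t, γ, c, Equiv.symm_apply_apply, Matrix.cons_val_zero,
      Matrix.cons_val_one]
    rw [neg_smul, add_comm, ← sub_eq_add_neg]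
    exact h2
  have h4 : γ = fun _ => 0 :=
    lin_injective (CohB1.tensorMod E N) t ht (h3.trans (lin_zero _ t).symm)
  have hc : ∀ i, c i = 0 := by
    intro i
    have := congrFun h4 (finProdFinEquiv (i, 0))
    simpa [γ] using this
  have ha0 : a 0 = 0 := by simpa [c] using hc 1
  have ha1 : a 1 = 0 := by simpa [c] using hc 0
  refine hom_eq_zero_of_basis E N 1 hN ⟨y₀, hyU⟩ e he w (fun j => ?_)
  fin_cases j
  · change w.app U (e 0) = 0
    rw [ha 0, ha0, zero_smul]
  · change w.app U (e 1) = 0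
    rw [ha 1, ha1, zero_smul]

end Sch

end Groth.Agent.Helper26.DualMap
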