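import Mathlib
import Groth.Prelude.Def_Cyc
import Groth.Prelude.Def_W4stkchowintpicEnv

set_option autoImplicit false
universe u
open CategoryTheory AlgebraicGeometry

namespace Groth.Agent.Lib.Helper26.Envl

/-- finrank is one for a surjective algebra map of fields. -/
theorem finrank_eq_one_of_surjective {K L : Type u} [Field K] [Field L] (φ : K →+* L)
    (hφ : Function.Surjective φ) :
    @Module.finrank K L _ _ φ.toAlgebra.toModule = 1 := by
  let _ := φ.toAlgebra
  have hb : Function.Bijective (Algebra.linearMap K L) := ⟨φ.injective, hφ⟩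
  rw [← (LinearEquiv.ofBijective (Algebra.linearMap K L) hb).finrank_eq]
  exact Module.finrank_self K

/-- trdeg is zero for a surjective algebra map of fields. -/
theorem trdeg_eq_zero_of_surjective {K L : Type u} [Field K] [Field L] (φ : K →+* L)
    (hφ : Function.Surjective φ) :
    @Algebra.trdeg K L _ _ φ.toAlgebra = 0 := by
  let _ := φ.toAlgebra
  have : Algebra.IsIntegral K L := Algebra.isIntegral_of_surjective (R := K) (B := L) hφ
  exact trdeg_eq_zero

theorem main (X Y : Scheme.{u}) (δ : X → ℤ) (δY : Y → ℤ) (f : Y ⟶ X) [QuasiCompact f]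
    (hcd : Cyc.IsCompletelyDecomposed f) (hδ : Cyc.DeltaCompat f δY δ) (k : ℤ)
    (α : AlgebraicCycle X ℤ) (hα : α ∈ Cyc.Zk X δ k) :
    ∃ β : AlgebraicCycle Y ℤ, β ∈ Cyc.Zk Y δY k ∧ AlgebraicCycle.map f δY δ β = α := by
  classical
  choose η hη1 hη2 using hcd
  -- dimension compatibility at the chosen points
  have hdim : ∀ x : X, δY (η x) = δ x := by
    intro x
    obtain ⟨n, hn1, hn2⟩ := hδ (η x)
    have h0 := trdeg_eq_zero_of_surjective _ (hη2 x)
    have hn1' : (@Algebra.trdeg (X.residueField (f (η x))) (Y.residueField (η x)) _ _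
        (f.residueFieldMap (η x)).hom.toAlgebra) = n := hn1
    rw [h0] at hn1'
    have : n = 0 := by exact_mod_cast hn1'.symm
    rw [hn2, this, hη1 x]
    simp
  have hdeg : ∀ x : X, f.residueDegree (η x) = 1 := fun x =>
    finrank_eq_one_of_surjective _ (hη2 x)
  let β₀ : Y → ℤ := fun y => if y = η (f y) then α (f y) else 0
  have hsupp : ∀ y, β₀ y ≠ 0 → y = η (f y) ∧ α (f y) ≠ 0 := by
    intro y hy
    by_cases h : y = η (f y)
    · refine ⟨h, ?_⟩
      simpa [β₀, if_pos h] using hy
    · exact absurd (by simp only [β₀, if_neg h]) hy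
  let β : AlgebraicCycle Y ℤ :=
    { toFun := β₀
      supportWithinDomain' := fun _ _ => trivial
      supportLocallyFiniteWithinDomain' := by
        intro y _
        obtain ⟨t, ht, hfin⟩ := α.supportLocallyFiniteWithinDomain' (f y) trivial
        refine ⟨f ⁻¹' t, f.continuous.continuousAt ht, ?_⟩
        refine (hfin.image η).subset ?_
        rintro y' ⟨hy't, hy'⟩
        obtain ⟨h1, h2⟩ := hsupp y' hy'
        exact ⟨f y', ⟨hy't, h2⟩, h1.symm⟩ }
  have hβ : ∀ y, β y = β₀ y := fun _ => rfl
  refine ⟨β, ?_, ?_⟩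
  · intro y hy
    rw [hβ]
    by_contra hne
    obtain ⟨h1, h2⟩ := hsupp y hne
    apply h2
    apply hα
    rw [← hdim, ← h1]
    exact hy
  · ext z
    rw [AlgebraicCycle.map, Function.locallyFinsupp.map_apply]
    rw [finsum_mem_def]
    rw [finsum_eq_single _ (η z)]
    · rw [Set.indicator_of_mem (show η z ∈ f ⁻¹' {z} from hη1 z), hβ]
      simp only [β₀]
      rw [if_pos (by rw [hη1 z]), hη1 z, AlgebraicCycle.mapCoeff, if_pos (by rw [hdim, hη1 z]),
        hdeg]
      simp
    · intro y hy
      by_cases hyz : y ∈ f ⁻¹' {z}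
      · rw [Set.indicator_of_mem hyz, hβ]
        have hfy : f y = z := hyz
        simp only [β₀]
        rw [if_neg (by rw [hfy]; exact hy), zero_mul]
      · rw [Set.indicator_of_notMem hyz]

end Groth.Agent.Lib.Helper26.Envl
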