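import Mathlib

/-!
# Descent of finitely presented algebras along a localization (helper26)
-/

set_option autoImplicit false
set_option linter.unusedSectionVars false
set_option linter.style.haveILetI false

namespace Groth.Agent.Helper26.EssEt

universe u

open MvPolynomial

attribute [local instance] MvPolynomial.algebraMvPolynomial

theorem exists_fp_descent {C₁ : Type u} [CommRing C₁] (S : Submonoid C₁) (B : Type u) [CommRing B]
    [Algebra C₁ B] [IsLocalization S B]
    (D : Type u) [CommRing D] [Algebra B D] [Algebra C₁ D] [IsScalarTower C₁ B D]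
    [Algebra.FinitePresentation B D] :
    ∃ (E₀ : Type u) (_ : CommRing E₀) (_ : Algebra C₁ E₀) (_ : Algebra E₀ D)
      (_ : IsScalarTower C₁ E₀ D),
      Algebra.FinitePresentation C₁ E₀ ∧ IsLocalization (Algebra.algebraMapSubmonoid E₀ S) D := by
  classical
  obtain ⟨n, fD, hfD, s, hs⟩ := Algebra.FinitePresentation.out (R := B) (A := D)
  let R := MvPolynomial (Fin n) C₁
  let S_ := MvPolynomial (Fin n) B
  let M : Submonoid R := S.map (C (σ := Fin n))
  haveI hloc : IsLocalization M S_ := MvPolynomial.isLocalization S B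
  -- clear denominators
  have hsurj : ∀ p : S_, ∃ (p' : R) (m : M), p * algebraMap R S_ m = algebraMap R S_ p' := by
    intro p
    obtain ⟨⟨p', m⟩, h⟩ := IsLocalization.surj M p
    exact ⟨p', m, h⟩
  choose p' m hpm using hsurj
  let I : Ideal R := Ideal.span (p' '' (s : Set S_))
  let g : S_ →+* D := (fD : S_ →+* D)
  have hker : RingHom.ker g = Ideal.span (s : Set S_) := by
    rw [hs]
    ext x
    simp [g, RingHom.mem_ker]
  have hkill : ∀ a ∈ I, (g.comp (algebraMap R S_)) a = 0 := by
    have hle : I ≤ RingHom.ker (g.comp (algebraMap R S_)) := by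
      rw [Ideal.span_le]
      rintro _ ⟨p, hp, rfl⟩
      rw [SetLike.mem_coe, RingHom.mem_ker, RingHom.comp_apply, ← hpm p, map_mul]
      have : g p = 0 := by
        rw [← RingHom.mem_ker, hker]
        exact Ideal.subset_span hp
      rw [this, zero_mul]
    intro a ha
    exact hle ha
  let E₀ := R ⧸ I
  letI algE₀D : Algebra E₀ D := (Ideal.Quotient.lift I (g.comp (algebraMap R S_)) hkill).toAlgebra
  have hE₀D : ∀ x : R, algebraMap E₀ D (Ideal.Quotient.mk I x) = g (algebraMap R S_ x) :=
    fun x => rfl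
  have htow : ∀ c : C₁, algebraMap C₁ D c = algebraMap E₀ D (algebraMap C₁ E₀ c) := by
    intro c
    rw [IsScalarTower.algebraMap_apply C₁ R E₀, Ideal.Quotient.algebraMap_eq, hE₀D,
      MvPolynomial.algebraMap_eq, IsScalarTower.algebraMap_apply C₁ B D]
    change _ = fD (MvPolynomial.map (algebraMap C₁ B) (C c))
    rw [MvPolynomial.map_C, ← MvPolynomial.algebraMap_eq, AlgHom.commutes]
  haveI tow : IsScalarTower C₁ E₀ D := IsScalarTower.of_algebraMap_eq htow
  have hfp : Algebra.FinitePresentation C₁ E₀ :=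
    Algebra.FinitePresentation.quotient ⟨s.image p', by rw [Finset.coe_image]⟩
  refine ⟨E₀, inferInstance, inferInstance, algE₀D, tow, hfp, ?_⟩
  have h1 : IsLocalization (M.map (Ideal.Quotient.mk I)) D := by
    refine IsLocalization.of_surjective M S_ (Ideal.Quotient.mk I) Ideal.Quotient.mk_surjective g
      hfD ?_ ?_
    · exact RingHom.ext fun x => (hE₀D x).symm
    · rw [hker, Ideal.mk_ker, Ideal.span_le]
      intro p hp
      have hu : IsUnit (algebraMap R S_ (m p)) := IsLocalization.map_units S_ (m p)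
      have h2 : p * algebraMap R S_ (m p) ∈ I.map (algebraMap R S_) := by
        rw [hpm p]
        exact Ideal.mem_map_of_mem _ (Ideal.subset_span ⟨p, hp, rfl⟩)
      obtain ⟨u, hu'⟩ := hu
      have h3 : p = p * algebraMap R S_ (m p) * (u⁻¹ : S_ˣ) := by
        rw [← hu', mul_assoc, Units.mul_inv, mul_one]
      rw [SetLike.mem_coe, h3]
      exact Ideal.mul_mem_right _ _ h2
  have h2 : M.map (Ideal.Quotient.mk I) = Algebra.algebraMapSubmonoid E₀ S := by
    change (S.map (C (σ := Fin n))).map (Ideal.Quotient.mk I) = S.map (algebraMap C₁ E₀)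
    ext x
    constructor
    · rintro ⟨_, ⟨c, hc, rfl⟩, rfl⟩
      exact ⟨c, hc, rfl⟩
    · rintro ⟨c, hc, rfl⟩
      exact ⟨_, ⟨c, hc, rfl⟩, rfl⟩
  rw [← h2]
  exact h1

end Groth.Agent.Helper26.EssEt
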