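import Mathlib
import Groth.Prelude.Def_EssEt
import Groth.Agent.Lib.Helper26.EssEt1

/-!
# Transitivity of essentially étale local algebras (helper26)
-/

set_option autoImplicit false
set_option linter.unusedSectionVars false
set_option linter.style.haveILetI false

namespace Groth.Agent.Helper26.EssEt

universe u

open IsLocalRing

theorem essEt_core (A : Type u) [CommRing A] [IsLocalRing A] (E₀ : Type u) [CommRing E₀]
    [Algebra A E₀] [Algebra.FinitePresentation A E₀] (C : Type u) [CommRing C] [Algebra A C]
    [Algebra E₀ C] [IsScalarTower A E₀ C] (q : Ideal E₀) [q.IsPrime] [IsLocalization.AtPrime C q]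
    (hq : q.comap (algebraMap A E₀) = maximalIdeal A) [Algebra.FormallyEtale A C] :
    EGA4loc.IsEssentiallyEtale A C := by
  let e₀ : C ≃ₐ[E₀] Localization.AtPrime q := IsLocalization.algEquiv q.primeCompl C _
  haveI : Algebra.IsEtaleAt A q := Algebra.FormallyEtale.of_equiv (e₀.restrictScalars A)
  obtain ⟨f, hf, hfet⟩ := Algebra.exists_etale_of_isEtaleAt (R := A) q
  have hdisj : Disjoint ((Submonoid.powers f : Submonoid E₀) : Set E₀) (q : Set E₀) := by
    rw [Set.disjoint_left]
    rintro x ⟨n, rfl⟩ hx
    exact hf (Ideal.IsPrime.mem_of_pow_mem inferInstance n hx)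
  let p : Ideal (Localization.Away f) := q.map (algebraMap E₀ (Localization.Away f))
  haveI hp : p.IsPrime :=
    IsLocalization.isPrime_of_isPrime_disjoint (Submonoid.powers f) _ q inferInstance hdisj
  have hpq : p.comap (algebraMap E₀ (Localization.Away f)) = q :=
    IsLocalization.under_map_of_isPrime_disjoint (Submonoid.powers f) _ inferInstance hdisj
  have h1 : IsLocalization.AtPrime (Localization.AtPrime p)
      (p.comap (algebraMap E₀ (Localization.Away f))) :=
    IsLocalization.isLocalization_isLocalization_atPrime_isLocalization (Submonoid.powers f)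
      (Localization.AtPrime p) p
  have h2 : (p.comap (algebraMap E₀ (Localization.Away f))).primeCompl = q.primeCompl :=
    Submonoid.ext fun x => by
      simp only [Ideal.mem_primeCompl_iff, hpq]
  haveI h3 : IsLocalization q.primeCompl (Localization.AtPrime p) := h2 ▸ h1
  let e₁ : C ≃ₐ[E₀] Localization.AtPrime p := IsLocalization.algEquiv q.primeCompl C _
  refine ⟨Localization.Away f, inferInstance, inferInstance, p, hp, hfet, ?_,
    ⟨e₁.restrictScalars A⟩⟩
  rw [IsScalarTower.algebraMap_eq A E₀ (Localization.Away f), ← Ideal.comap_comap, hpq, hq]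

theorem isEssentiallyEtale_trans (A : Type u) [CommRing A] [IsLocalRing A]
    (B : Type u) [CommRing B] [IsLocalRing B] [Algebra A B]
    (C : Type u) [CommRing C] [Algebra B C] [Algebra A C] [IsScalarTower A B C]
    (hB : EGA4loc.IsEssentiallyEtale A B) (hC : EGA4loc.IsEssentiallyEtale B C) :
    EGA4loc.IsEssentiallyEtale A C := by
  obtain ⟨C₁, _, _, q₁, _, hC₁et, hq₁, ⟨e₁⟩⟩ := hB
  obtain ⟨D, _, _, q₂, _, hDet, hq₂, ⟨e₂⟩⟩ := hC
  -- `B` as a `C₁`-algebra
  letI algC₁B : Algebra C₁ B := ((e₁.symm : Localization.AtPrime q₁ →+* B).comp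
    (algebraMap C₁ (Localization.AtPrime q₁))).toAlgebra
  have hC₁B : ∀ c : C₁, algebraMap C₁ B c = e₁.symm (algebraMap C₁ (Localization.AtPrime q₁) c) :=
    fun _ => rfl
  have htow1 : ∀ a : A, algebraMap A B a = algebraMap C₁ B (algebraMap A C₁ a) := by
    intro a
    rw [hC₁B, ← IsScalarTower.algebraMap_apply A C₁ (Localization.AtPrime q₁), e₁.symm.commutes]
  haveI : IsScalarTower A C₁ B := IsScalarTower.of_algebraMap_eq htow1
  let e₁' : Localization.AtPrime q₁ ≃ₐ[C₁] B :=
    { e₁.symm.toRingEquiv with commutes' := fun _ => rfl }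
  haveI : IsLocalization.AtPrime B q₁ :=
    IsLocalization.isLocalization_of_algEquiv q₁.primeCompl e₁'
  -- `C` as a `D`-algebra
  letI algDC : Algebra D C := ((e₂.symm : Localization.AtPrime q₂ →+* C).comp
    (algebraMap D (Localization.AtPrime q₂))).toAlgebra
  have hDC : ∀ d : D, algebraMap D C d = e₂.symm (algebraMap D (Localization.AtPrime q₂) d) :=
    fun _ => rfl
  have htow2 : ∀ b : B, algebraMap B C b = algebraMap D C (algebraMap B D b) := by
    intro b
    rw [hDC, ← IsScalarTower.algebraMap_apply B D (Localization.AtPrime q₂), e₂.symm.commutes]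
  haveI : IsScalarTower B D C := IsScalarTower.of_algebraMap_eq htow2
  let e₂' : Localization.AtPrime q₂ ≃ₐ[D] C :=
    { e₂.symm.toRingEquiv with commutes' := fun _ => rfl }
  haveI : IsLocalization.AtPrime C q₂ :=
    IsLocalization.isLocalization_of_algEquiv q₂.primeCompl e₂'
  -- algebra structures on `D`
  letI algAD : Algebra A D := ((algebraMap B D).comp (algebraMap A B)).toAlgebra
  haveI : IsScalarTower A B D := IsScalarTower.of_algebraMap_eq (fun _ => rfl)
  letI algC₁D : Algebra C₁ D := ((algebraMap B D).comp (algebraMap C₁ B)).toAlgebra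
  haveI : IsScalarTower C₁ B D := IsScalarTower.of_algebraMap_eq (fun _ => rfl)
  have htow3 : ∀ a : A, algebraMap A C a = algebraMap D C (algebraMap A D a) := by
    intro a
    rw [IsScalarTower.algebraMap_apply A B C, IsScalarTower.algebraMap_apply B D C]
    rfl
  haveI : IsScalarTower A D C := IsScalarTower.of_algebraMap_eq htow3
  -- descent
  obtain ⟨E₀, _, _, _, _, hfp, hloc⟩ := exists_fp_descent q₁.primeCompl B D
  letI algAE₀ : Algebra A E₀ := ((algebraMap C₁ E₀).comp (algebraMap A C₁)).toAlgebra
  haveI : IsScalarTower A C₁ E₀ := IsScalarTower.of_algebraMap_eq (fun _ => rfl)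
  haveI : Algebra.FinitePresentation A E₀ := Algebra.FinitePresentation.trans A C₁ E₀
  have htow4 : ∀ a : A, algebraMap A D a = algebraMap E₀ D (algebraMap A E₀ a) := by
    intro a
    have h1 : algebraMap A E₀ a = algebraMap C₁ E₀ (algebraMap A C₁ a) := rfl
    rw [h1, ← IsScalarTower.algebraMap_apply C₁ E₀ D, IsScalarTower.algebraMap_apply C₁ B D,
      ← IsScalarTower.algebraMap_apply A C₁ B]
    rfl
  haveI : IsScalarTower A E₀ D := IsScalarTower.of_algebraMap_eq htow4
  letI algE₀C : Algebra E₀ C := ((algebraMap D C).comp (algebraMap E₀ D)).toAlgebra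
  haveI : IsScalarTower E₀ D C := IsScalarTower.of_algebraMap_eq (fun _ => rfl)
  have htow5 : ∀ a : A, algebraMap A C a = algebraMap E₀ C (algebraMap A E₀ a) := by
    intro a
    rw [IsScalarTower.algebraMap_apply A D C, IsScalarTower.algebraMap_apply A E₀ D]
    rfl
  haveI : IsScalarTower A E₀ C := IsScalarTower.of_algebraMap_eq htow5
  let q : Ideal E₀ := q₂.comap (algebraMap E₀ D)
  haveI : q.IsPrime := Ideal.comap_isPrime _ _
  haveI : IsLocalization.AtPrime C q :=
    IsLocalization.isLocalization_isLocalization_atPrime_isLocalization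
      (Algebra.algebraMapSubmonoid E₀ q₁.primeCompl) C q₂
  -- formally étale
  haveI : Algebra.FormallyEtale A C := by
    haveI : Algebra.FormallyEtale C₁ B := Algebra.FormallyEtale.of_isLocalization q₁.primeCompl
    haveI : Algebra.FormallyEtale A B := Algebra.FormallyEtale.comp A C₁ B
    haveI : Algebra.FormallyEtale A D := Algebra.FormallyEtale.comp A B D
    haveI : Algebra.FormallyEtale D C := Algebra.FormallyEtale.of_isLocalization q₂.primeCompl
    exact Algebra.FormallyEtale.comp A D C
  refine essEt_core A E₀ C q ?_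
  ext a
  rw [Ideal.mem_comap, Ideal.mem_comap, ← IsScalarTower.algebraMap_apply A E₀ D,
    IsScalarTower.algebraMap_apply A B D]
  have h1 : algebraMap B D (algebraMap A B a) ∈ q₂ ↔ algebraMap A B a ∈ maximalIdeal B := by
    rw [← hq₂, Ideal.mem_comap]
  rw [h1, IsScalarTower.algebraMap_apply A C₁ B,
    IsLocalization.AtPrime.to_map_mem_maximal_iff B q₁, ← hq₁, Ideal.mem_comap]

end Groth.Agent.Helper26.EssEt
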