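import Mathlib
import Groth.Prelude.Def_Hensel
import Groth.Prelude.Def_EssEt
import Groth.Agent.Lib.Helper1.SH1
import Groth.Agent.Lib.Helper26.SHIndEt1
import Groth.Agent.Lib.Helper26.EtFlat1

/-!
# Essentially finite type local subalgebras of a strict henselization (helper26)
-/

set_option autoImplicit false
set_option linter.unusedSectionVars false
set_option linter.style.haveILetI false

namespace Groth.Agent.Helper26.EssEtSub

universe u
open IsLocalRing

variable (A S : Type u) [CommRing A] [IsLocalRing A]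
  [CommRing S] [IsLocalRing S] [Algebra A S] [IsLocalHom (algebraMap A S)]
  [Hensel.IsStrictHenselization A S]

/-- the image of the local ring of an étale algebra is an essentially étale local subalgebra -/
theorem exists_range (C : Type u) [CommRing C] [Algebra A C] [Algebra.Etale A C] (φ : C →ₐ[A] S) :
    ∃ E : Subalgebra A S, φ.range ≤ E ∧ (∀ x ∈ E, IsUnit x → ∃ y ∈ E, x * y = 1) ∧
      ∃ _ : IsLocalRing E, EGA4loc.IsEssentiallyEtale A E := by
  let q : Ideal C := (maximalIdeal S).comap φ.toRingHom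
  haveI : q.IsPrime := Ideal.comap_isPrime _ _
  let Cq := Localization.AtPrime q
  have hunits : ∀ y : q.primeCompl, IsUnit (φ y) := by
    rintro ⟨y, hy⟩
    by_contra hnu
    exact hy ((IsLocalRing.mem_maximalIdeal _).2 hnu)
  let ψ : Cq →ₐ[A] S := IsLocalization.liftAlgHom (M := q.primeCompl) (f := φ) hunits
  have hψ : ∀ c : C, ψ (algebraMap C Cq c) = φ c := fun c => IsLocalization.lift_eq hunits c
  -- `ψ` is injective
  letI : Algebra C S := φ.toRingHom.toAlgebra
  haveI : IsScalarTower A C S := IsScalarTower.of_algebraMap_eq (fun a => (φ.commutes a).symm)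
  letI : Algebra Cq S := ψ.toRingHom.toAlgebra
  haveI : IsScalarTower C Cq S := IsScalarTower.of_algebraMap_eq (fun c => (hψ c).symm)
  haveI : Module.FaithfullyFlat A S :=
    Groth.Agent.Helper1.HFlat.faithfullyFlat_of_isStrictHenselization A S
  haveI : Module.Flat C S := EtFlat.flat_of_etale A C S
  haveI : Module.Flat Cq S := (Module.flat_iff_of_isLocalization Cq q.primeCompl S).2 inferInstance
  have hnonunit : ∀ y : Cq, ¬ IsUnit y → ¬ IsUnit (ψ y) := by
    intro y hy
    have h1 : y ∈ maximalIdeal Cq := (IsLocalRing.mem_maximalIdeal _).2 hy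
    rw [← Localization.AtPrime.map_eq_maximalIdeal] at h1
    have h2 : ψ y ∈ (q.map (algebraMap C Cq)).map ψ.toRingHom := Ideal.mem_map_of_mem _ h1
    rw [Ideal.map_map] at h2
    have h3 : ψ.toRingHom.comp (algebraMap C Cq) = φ.toRingHom := RingHom.ext hψ
    rw [h3] at h2
    have h4 : q.map φ.toRingHom ≤ maximalIdeal S := Ideal.map_comap_le
    exact (IsLocalRing.mem_maximalIdeal _).1 (h4 h2)
  haveI : IsLocalHom (algebraMap Cq S) := ⟨fun y hy => by
    by_contra hnu
    exact hnonunit y hnu hy⟩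
  haveI : Module.FaithfullyFlat Cq S := Module.FaithfullyFlat.of_flat_of_isLocalHom
  have hinj : Function.Injective ψ := FaithfulSMul.algebraMap_injective Cq S
  let e : Cq ≃ₐ[A] ψ.range := AlgEquiv.ofInjective ψ hinj
  have he : ∀ y : Cq, ((e y : ψ.range) : S) = ψ y := fun y => rfl
  refine ⟨ψ.range, ?_, ?_, e.toRingEquiv.isLocalRing, ?_⟩
  · rintro _ ⟨c, rfl⟩
    exact ⟨algebraMap C Cq c, hψ c⟩
  · rintro _ ⟨y, rfl⟩ hu
    have hy : IsUnit y := by
      by_contra hnu
      exact hnonunit y hnu hu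
    obtain ⟨z, hz⟩ := hy.exists_right_inv
    refine ⟨ψ z, ⟨z, rfl⟩, ?_⟩
    change ψ y * ψ z = 1
    rw [← map_mul, hz, map_one]
  · refine ⟨C, inferInstance, inferInstance, q, inferInstance, inferInstance, ?_, ⟨e.symm⟩⟩
    change ((maximalIdeal S).comap φ.toRingHom).comap (algebraMap A C) = _
    rw [Ideal.comap_comap]
    have h5 : φ.toRingHom.comp (algebraMap A C) = algebraMap A S := φ.comp_algebraMap
    rw [h5]
    exact IsLocalRing.maximalIdeal_comap (algebraMap A S)

/-- the final statement -/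
theorem exists_le_essEt (D : Subalgebra A S) [IsLocalRing D]
    [IsLocalHom (algebraMap D S)] [Algebra.EssFiniteType A D] :
    ∃ E : Subalgebra A S, D ≤ E ∧ ∃ _ : IsLocalRing E, EGA4loc.IsEssentiallyEtale A E := by
  classical
  obtain ⟨σ, hσ⟩ := (Algebra.essFiniteType_iff A D).1 (inferInstance : Algebra.EssFiniteType A D)
  let n := σ.card
  let x : Fin n → S := fun i => (((σ.equivFin.symm i : σ) : D) : S)
  obtain ⟨C, _, _, _, φ, c, hc⟩ := EtSub.exists_common (R := A) n x
    (fun i => SHIndEt.isEt A S (x i))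
  obtain ⟨E, hφE, hEinv, hEloc, hEet⟩ := exists_range A S C φ
  refine ⟨E, ?_, hEloc, hEet⟩
  -- the finitely generated part lies in `E`
  have hadj : ∀ z : D, z ∈ Algebra.adjoin A (σ : Set D) → (z : S) ∈ E := by
    intro z hz
    induction hz using Algebra.adjoin_induction with
    | mem d hd =>
      have hd' : d ∈ σ := hd
      have h1 : x (σ.equivFin ⟨d, hd'⟩) = (d : S) := by
        change (((σ.equivFin.symm (σ.equivFin ⟨d, hd'⟩) : σ) : D) : S) = _
        rw [Equiv.symm_apply_apply]
      rw [← h1, ← hc]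
      exact hφE ⟨c _, rfl⟩
    | algebraMap a => exact E.algebraMap_mem a
    | add y z _ _ hy hz => exact E.add_mem hy hz
    | mul y z _ _ hy hz => exact E.mul_mem hy hz
  intro d hd
  obtain ⟨t, ht, htu, hst⟩ := hσ ⟨d, hd⟩
  have h1 : (t : S) ∈ E := hadj t ht
  have h2 : ((⟨d, hd⟩ * t : D) : S) ∈ E := hadj _ hst
  have h3 : IsUnit (t : S) := htu.map (algebraMap D S)
  obtain ⟨y, hy, hty⟩ := hEinv _ h1 h3
  have h4 : d = ((⟨d, hd⟩ * t : D) : S) * y := by
    change d = d * (t : S) * y
    rw [mul_assoc, hty, mul_one]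
  rw [h4]
  exact E.mul_mem h2 hy

end Groth.Agent.Helper26.EssEtSub
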