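import Mathlib
import Groth.Prelude.Def_Hensel
import Groth.Prelude.Def_EssEt
import Groth.Agent.Lib.Helper1.SH1
import Groth.Agent.Lib.Helper26.EtFlat1

/-!
# Unramified local subalgebras of a strict henselization are essentially étale (helper26)
-/

set_option autoImplicit false
set_option linter.unusedSectionVars false
set_option linter.style.haveILetI false

namespace Groth.Agent.Helper26.EssEtSub

universe u
open IsLocalRing

variable (A S : Type u) [CommRing A] [IsLocalRing A]
  [CommRing S] [IsLocalRing S] [Algebra A S] [IsLocalHom (algebraMap A S)]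
  [Hensel.IsStrictHenselization A S]

/-- the local ring of an étale algebra at the prime cut out by a map to the strict henselization
injects into the strict henselization -/
theorem lift_injective (C : Type u) [CommRing C] [Algebra A C] [Algebra.Etale A C]
    (φ : C →ₐ[A] S) (q : Ideal C) [q.IsPrime] (hq : q = (maximalIdeal S).comap φ.toRingHom)
    (ψ : Localization.AtPrime q →ₐ[A] S)
    (hψ : ∀ c : C, ψ (algebraMap C (Localization.AtPrime q) c) = φ c) :
    Function.Injective ψ := by
  let Cq := Localization.AtPrime q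
  letI : Algebra C S := φ.toRingHom.toAlgebra
  haveI : IsScalarTower A C S := IsScalarTower.of_algebraMap_eq (fun a => (φ.commutes a).symm)
  letI : Algebra Cq S := ψ.toRingHom.toAlgebra
  haveI : IsScalarTower C Cq S := IsScalarTower.of_algebraMap_eq (fun c => (hψ c).symm)
  haveI : Module.FaithfullyFlat A S :=
    Groth.Agent.Helper1.HFlat.faithfullyFlat_of_isStrictHenselization A S
  haveI : Module.Flat C S := EtFlat.flat_of_etale A C S
  haveI : Module.Flat Cq S := (Module.flat_iff_of_isLocalization Cq q.primeCompl S).2 inferInstance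
  have hnonunit : ∀ y : Cq, ¬ IsUnit y → ¬ IsUnit (ψ y) := by
    intro y hy
    have h1 : y ∈ maximalIdeal Cq := (IsLocalRing.mem_maximalIdeal _).2 hy
    rw [← Localization.AtPrime.map_eq_maximalIdeal] at h1
    have h2 : ψ y ∈ (q.map (algebraMap C Cq)).map ψ.toRingHom := Ideal.mem_map_of_mem _ h1
    rw [Ideal.map_map] at h2
    have h3 : ψ.toRingHom.comp (algebraMap C Cq) = φ.toRingHom := RingHom.ext hψ
    rw [h3] at h2
    have h4 : q.map φ.toRingHom ≤ maximalIdeal S := by
      rw [Ideal.map_le_iff_le_comap]
      exact hq.le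
    exact (IsLocalRing.mem_maximalIdeal _).1 (h4 h2)
  haveI : IsLocalHom (algebraMap Cq S) := ⟨fun y hy => by
    by_contra hnu
    exact hnonunit y hnu hy⟩
  haveI : Module.FaithfullyFlat Cq S := Module.FaithfullyFlat.of_flat_of_isLocalHom
  exact FaithfulSMul.algebraMap_injective Cq S

variable {A S}

/-- the statement: an essentially finite type local subalgebra `D` dominated by `S` with
`m_A D = m_D` is essentially étale -/
theorem isEssentiallyEtale_of_map_maximalIdeal (D : Subalgebra A S) [IsLocalRing D]
    [IsLocalHom (algebraMap D S)] [Algebra.EssFiniteType A D]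
    (hm : Ideal.map (algebraMap A D) (maximalIdeal A) = maximalIdeal D) :
    EGA4loc.IsEssentiallyEtale A D := by
  classical
  -- `A → D` is local
  haveI hloc : IsLocalHom (algebraMap A D) := ⟨fun a ha => by
    have h1 : IsUnit (algebraMap D S (algebraMap A D a)) := ha.map _
    rw [← IsScalarTower.algebraMap_apply] at h1
    exact isUnit_of_map_unit (algebraMap A S) a h1⟩
  -- the residue field extension is separable
  haveI hsepS : Algebra.IsSeparable (ResidueField A) (ResidueField S) :=
    (Hensel.IsStrictHenselization.isSepClosure (R := A) (S := S)).separable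
  haveI : IsScalarTower (ResidueField A) (ResidueField D) (ResidueField S) :=
    IsScalarTower.of_algebraMap_eq (fun x => by
      obtain ⟨a, rfl⟩ := residue_surjective x
      rfl)
  haveI hsepD : Algebra.IsSeparable (ResidueField A) (ResidueField D) :=
    Algebra.isSeparable_tower_bot_of_isSeparable (ResidueField A) (ResidueField D)
      (ResidueField S)
  haveI hunr : Algebra.FormallyUnramified A D :=
    Algebra.FormallyUnramified.of_map_maximalIdeal hm
  -- the finite type model
  let D₀ := Algebra.EssFiniteType.subalgebra A D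
  let M := Algebra.EssFiniteType.submonoid A D
  let p₀ : Ideal D₀ := (maximalIdeal D).comap (algebraMap D₀ D)
  haveI : p₀.IsPrime := Ideal.comap_isPrime _ _
  have hM : M = p₀.primeCompl := by
    ext x
    change IsUnit (algebraMap D₀ D x) ↔ ¬ (algebraMap D₀ D x ∈ maximalIdeal D)
    rw [IsLocalRing.mem_maximalIdeal, mem_nonunits_iff, not_not]
  haveI hlocD : IsLocalization.AtPrime D p₀ := by
    change IsLocalization p₀.primeCompl D
    rw [← hM]
    exact Algebra.EssFiniteType.isLocalization A D
  let eD : D ≃ₐ[A] Localization.AtPrime p₀ :=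
    (IsLocalization.algEquiv p₀.primeCompl D (Localization.AtPrime p₀)).restrictScalars A
  haveI : Algebra.IsUnramifiedAt A p₀ := Algebra.FormallyUnramified.of_equiv eD
  obtain ⟨f, hf, P, φ, hφ⟩ := Algebra.IsUnramifiedAt.exists_hasStandardEtaleSurjectionOn
    (R := A) p₀
  let C := P.Ring
  -- `f` is a unit of `D`
  have hfu : IsUnit (algebraMap D₀ D f) := IsLocalization.map_units D (⟨f, hf⟩ : p₀.primeCompl)
  let κ : Localization.Away f →ₐ[A] D := IsLocalization.liftAlgHom (M := Submonoid.powers f)
    (f := IsScalarTower.toAlgHom A D₀ D) (by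
      rintro ⟨_, n, rfl⟩
      change IsUnit (algebraMap D₀ D (f ^ n))
      rw [map_pow]
      exact hfu.pow n)
  have hκ : ∀ x : D₀, κ (algebraMap D₀ (Localization.Away f) x) = algebraMap D₀ D x :=
    fun x => IsLocalization.lift_eq _ x
  let θ : C →ₐ[A] D := κ.comp φ
  let Θ : C →ₐ[A] S := D.val.comp θ
  let q : Ideal C := (maximalIdeal S).comap Θ.toRingHom
  haveI : q.IsPrime := Ideal.comap_isPrime _ _
  have hqD : ∀ c : C, c ∈ q ↔ θ c ∈ maximalIdeal D := by
    intro c
    have h1 : (maximalIdeal S).comap (algebraMap D S) = maximalIdeal D :=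
      IsLocalRing.maximalIdeal_comap (algebraMap D S)
    rw [← h1]
    rfl
  let Cq := Localization.AtPrime q
  have hunitsD : ∀ y : q.primeCompl, IsUnit (θ y) := by
    rintro ⟨y, hy⟩
    by_contra hnu
    exact hy ((hqD y).2 ((IsLocalRing.mem_maximalIdeal _).2 hnu))
  let ψD : Cq →ₐ[A] D := IsLocalization.liftAlgHom (M := q.primeCompl) (f := θ) hunitsD
  have hψD : ∀ c : C, ψD (algebraMap C Cq c) = θ c := fun c => IsLocalization.lift_eq hunitsD c
  let ψS : Cq →ₐ[A] S := D.val.comp ψD
  have hψS : ∀ c : C, ψS (algebraMap C Cq c) = Θ c := fun c => by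
    change (D.val (ψD (algebraMap C Cq c))) = D.val (θ c)
    rw [hψD]
  have hinjS : Function.Injective ψS := lift_injective A S C Θ q rfl ψS hψS
  have hinj : Function.Injective ψD := fun x y hxy => hinjS (by
    change D.val (ψD x) = D.val (ψD y)
    rw [hxy])
  have hsurj : Function.Surjective ψD := by
    intro d
    obtain ⟨⟨a, s⟩, has⟩ := IsLocalization.surj p₀.primeCompl d
    -- `d * s = a`
    obtain ⟨c₁, hc₁⟩ := hφ (algebraMap D₀ (Localization.Away f) a)
    obtain ⟨c₂, hc₂⟩ := hφ (algebraMap D₀ (Localization.Away f) s.1)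
    have h1 : θ c₁ = algebraMap D₀ D a := by
      change κ (φ c₁) = _
      rw [hc₁, hκ]
    have h2 : θ c₂ = algebraMap D₀ D s.1 := by
      change κ (φ c₂) = _
      rw [hc₂, hκ]
    have hsu : IsUnit (algebraMap D₀ D s.1) := IsLocalization.map_units D s
    have hc₂q : c₂ ∉ q := by
      intro hmem
      have := (hqD c₂).1 hmem
      rw [h2] at this
      exact (IsLocalRing.mem_maximalIdeal _).1 this hsu
    refine ⟨IsLocalization.mk' Cq c₁ (⟨c₂, hc₂q⟩ : q.primeCompl), ?_⟩
    have h3 : ψD (IsLocalization.mk' Cq c₁ (⟨c₂, hc₂q⟩ : q.primeCompl)) * θ c₂ = θ c₁ := by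
      rw [← hψD c₂, ← map_mul, IsLocalization.mk'_spec, hψD]
    rw [h1, h2] at h3
    exact hsu.mul_right_cancel (h3.trans has.symm)
  refine ⟨C, inferInstance, inferInstance, q, inferInstance, inferInstance, ?_,
    ⟨(AlgEquiv.ofBijective ψD ⟨hinj, hsurj⟩).symm⟩⟩
  change ((maximalIdeal S).comap Θ.toRingHom).comap (algebraMap A C) = _
  rw [Ideal.comap_comap]
  have h5 : Θ.toRingHom.comp (algebraMap A C) = algebraMap A S := Θ.comp_algebraMap
  rw [h5]
  exact IsLocalRing.maximalIdeal_comap (algebraMap A S)

end Groth.Agent.Helper26.EssEtSub
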