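import Mathlib

namespace Groth.Agent.Helper26.EssFT1

universe u

open IsLocalRing

theorem main (k : Type u) [Field k] (S : Type u) [CommRing S] [IsDomain S] [IsLocalRing S]
    [Algebra k S] [Algebra.EssFiniteType k S] :
    ∃ (K : Type u) (_ : Field K) (_ : Algebra k K) (A : Type u) (_ : CommRing A)
      (_ : Algebra K A) (_ : Algebra k A) (_ : IsScalarTower k K A) (_ : Algebra.FiniteType K A)
      (m : Ideal A) (_ : m.IsMaximal), Nonempty (S ≃ₐ[k] Localization.AtPrime m) := by
  classical
  obtain ⟨σ, hσ⟩ := (Algebra.essFiniteType_iff k S).1 ‹Algebra.EssFiniteType k S›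
  obtain ⟨T, hT⟩ := exists_isTranscendenceBasis k (ResidueField S)
  -- lifts of the transcendence basis
  let t : T → S := fun i => Function.surjInv (residue_surjective (R := S)) (i : ResidueField S)
  have ht : ∀ i, residue S (t i) = (i : ResidueField S) := fun i =>
    Function.surjInv_eq (residue_surjective (R := S)) _
  let φ : MvPolynomial T k →ₐ[k] S := MvPolynomial.aeval t
  have hφres : ∀ p, residue S (φ p) = MvPolynomial.aeval ((↑) : T → ResidueField S) p := by
    intro p
    have : ((IsScalarTower.toAlgHom k S (ResidueField S)).comp φ) =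
        MvPolynomial.aeval ((↑) : T → ResidueField S) := by
      apply MvPolynomial.algHom_ext
      intro i
      simp only [AlgHom.comp_apply, φ, MvPolynomial.aeval_X, IsScalarTower.coe_toAlgHom']
      exact ht i
    exact DFunLike.congr_fun this p
  have hunit : ∀ y : nonZeroDivisors (MvPolynomial T k), IsUnit (φ.toRingHom y) := by
    intro y
    have hy : (y : MvPolynomial T k) ≠ 0 := nonZeroDivisors.ne_zero y.2
    change IsUnit (φ y)
    rw [← notMem_maximalIdeal, ← residue_eq_zero_iff, hφres]
    intro h0
    exact hy (hT.1 (by rw [h0, map_zero]))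
  let K := FractionRing (MvPolynomial T k)
  let ψ : K →+* S := IsLocalization.lift (M := nonZeroDivisors (MvPolynomial T k)) hunit
  have hψ : ∀ p, ψ (algebraMap (MvPolynomial T k) K p) = φ p := fun p =>
    IsLocalization.lift_eq hunit p
  let algKS : Algebra K S := ψ.toAlgebra
  have towkKS : IsScalarTower k K S := by
    refine IsScalarTower.of_algebraMap_eq fun c => ?_
    rw [RingHom.algebraMap_toAlgebra, IsScalarTower.algebraMap_apply k (MvPolynomial T k) K, hψ]
    exact (φ.commutes c).symm
  -- the residue field is algebraic over K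
  have halg : Algebra.IsAlgebraic K (ResidueField S) := by
    have h1 := hT.isAlgebraic
    refine ⟨fun y => ?_⟩
    have hy := h1.isAlgebraic y
    let f : Algebra.adjoin k (Set.range ((↑) : T → ResidueField S)) →+* K :=
      (algebraMap (MvPolynomial T k) K).comp (hT.1.aevalEquiv.symm : _ →+* MvPolynomial T k)
    have hf : Function.Injective f :=
      (IsFractionRing.injective (MvPolynomial T k) K).comp hT.1.aevalEquiv.symm.injective
    have := hy.ringHom_of_comp_eq (S := K) (B := ResidueField S) f
      (RingHom.id (ResidueField S)) hf (by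
        ext z
        obtain ⟨p, rfl⟩ := hT.1.aevalEquiv.surjective z
        change algebraMap K (ResidueField S) (algebraMap (MvPolynomial T k) K
          (hT.1.aevalEquiv.symm (hT.1.aevalEquiv p))) = (hT.1.aevalEquiv p : ResidueField S)
        rw [AlgEquiv.symm_apply_apply, IsScalarTower.algebraMap_apply K S (ResidueField S),
          RingHom.algebraMap_toAlgebra, hψ]
        change residue S (φ p) = _
        rw [hφres]
        rfl)
    simpa using this
  -- the algebra A
  let A : Subalgebra K S := Algebra.adjoin K (σ : Set S)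
  have hkA : ∀ x ∈ Algebra.adjoin k (σ : Set S), x ∈ A := by
    intro x hx
    have : Algebra.adjoin k (σ : Set S) ≤ A.restrictScalars k :=
      Algebra.adjoin_le (fun y hy => Algebra.subset_adjoin (R := K) hy)
    exact this hx
  have : Algebra.FiniteType K A :=
    (Subalgebra.fg_iff_finiteType A).1 (Subalgebra.fg_adjoin_finset σ)
  let g : A →ₐ[K] ResidueField S := (IsScalarTower.toAlgHom K S (ResidueField S)).comp A.val
  let m : Ideal A := RingHom.ker g.rangeRestrict
  let : Field g.range := (Subalgebra.isField_of_algebraic g.range).toField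
  have hm : m.IsMaximal :=
    RingHom.ker_isMaximal_of_surjective (g.rangeRestrict : A →+* g.range) g.rangeRestrict_surjective
  have hmem : ∀ a : A, a ∈ m ↔ (a : S) ∈ maximalIdeal S := by
    intro a
    change g.rangeRestrict a = 0 ↔ _
    rw [← residue_eq_zero_iff, Subtype.ext_iff]
    rfl
  have : IsLocalization m.primeCompl S := by
    refine ⟨⟨?_, ?_, ?_⟩⟩
    · rintro ⟨a, ha⟩
      have : (a : S) ∉ maximalIdeal S := fun h => ha ((hmem a).2 h)
      exact notMem_maximalIdeal.1 this
    · intro s
      obtain ⟨u, hu, hunit, hsu⟩ := hσ s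
      refine ⟨(⟨s * u, hkA _ hsu⟩, ⟨⟨u, hkA _ hu⟩, ?_⟩), rfl⟩
      intro hmu
      exact ((hmem _).1 hmu) hunit
    · intro a b hab
      exact ⟨1, by rw [Subtype.ext hab]⟩
  refine ⟨K, inferInstance, inferInstance, A, inferInstance, inferInstance, inferInstance,
    inferInstance, inferInstance, m, hm, ⟨?_⟩⟩
  exact (IsLocalization.algEquiv m.primeCompl S (Localization.AtPrime m)).restrictScalars k

end Groth.Agent.Helper26.EssFT1
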