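import Mathlib

/-! # Étale charts: universe polymorphic versions -/

set_option autoImplicit false
open TensorProduct

namespace Groth.Agent.Helper26.EtChart

universe u

section L1

variable {k : Type*} {S : Type*} [CommRing k] [CommRing S] [Algebra k S] {σ : Type*}
  [Algebra (MvPolynomial σ k) S] [IsScalarTower k (MvPolynomial σ k) S]

lemma mapBaseChange_bijective''
    (hli : LinearIndependent S
      (fun i : σ => KaehlerDifferential.D k S (algebraMap (MvPolynomial σ k) S
        (MvPolynomial.X i))))
    (hsp : Submodule.span S (Set.range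
      (fun i : σ => KaehlerDifferential.D k S (algebraMap (MvPolynomial σ k) S
        (MvPolynomial.X i)))) = ⊤) :
    Function.Bijective (KaehlerDifferential.mapBaseChange k (MvPolynomial σ k) S) := by
  let b := (KaehlerDifferential.mvPolynomialBasis k σ).baseChange S
  let b' := Module.Basis.mk hli hsp.ge
  let e := b.equiv b' (Equiv.refl _)
  have : KaehlerDifferential.mapBaseChange k (MvPolynomial σ k) S = e.toLinearMap := by
    refine b.ext fun i => ?_
    rw [LinearEquiv.coe_coe, Module.Basis.equiv_apply, Module.Basis.baseChange_apply,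
      KaehlerDifferential.mapBaseChange_tmul, one_smul,
      KaehlerDifferential.mvPolynomialBasis_apply, KaehlerDifferential.map_D]
    simp [b']
  rw [this]
  exact e.bijective

theorem formallyEtale_of_basis'' [Subsingleton (Algebra.H1Cotangent k S)]
    (hli : LinearIndependent S
      (fun i : σ => KaehlerDifferential.D k S (algebraMap (MvPolynomial σ k) S
        (MvPolynomial.X i))))
    (hsp : Submodule.span S (Set.range
      (fun i : σ => KaehlerDifferential.D k S (algebraMap (MvPolynomial σ k) S
        (MvPolynomial.X i)))) = ⊤) :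
    Algebra.FormallyEtale (MvPolynomial σ k) S := by
  have hb := mapBaseChange_bijective'' hli hsp
  rw [Algebra.formallyEtale_iff]
  constructor
  · refine ⟨fun a b => ?_⟩
    have key : ∀ ω : Ω[S⁄MvPolynomial σ k], ω = 0 := by
      intro ω
      obtain ⟨y, rfl⟩ := KaehlerDifferential.map_surjective k (MvPolynomial σ k) S ω
      obtain ⟨t, rfl⟩ := hb.2 y
      exact (KaehlerDifferential.exact_mapBaseChange_map k (MvPolynomial σ k) S _).mpr ⟨t, rfl⟩
    rw [key a, key b]
  · refine ⟨fun a b => ?_⟩
    have key : ∀ c : Algebra.H1Cotangent (MvPolynomial σ k) S, c = 0 := by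
      intro c
      have h1 : KaehlerDifferential.mapBaseChange k (MvPolynomial σ k) S
          (Algebra.H1Cotangent.δ k (MvPolynomial σ k) S c) = 0 :=
        (Algebra.H1Cotangent.exact_δ_mapBaseChange k (MvPolynomial σ k) S _).mpr ⟨c, rfl⟩
      have h2 : Algebra.H1Cotangent.δ k (MvPolynomial σ k) S c = 0 :=
        hb.1 (h1.trans (map_zero _).symm)
      obtain ⟨c', rfl⟩ := (Algebra.H1Cotangent.exact_map_δ k (MvPolynomial σ k) S c).mp h2
      rw [Subsingleton.elim c' 0, map_zero]
    rw [key a, key b]

end L1

section L2

variable {k : Type*} {S : Type*} [CommRing k] [CommRing S] [Algebra k S] [IsLocalRing S]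
  [Algebra.FormallySmooth k S] [Algebra.EssFiniteType k S] {σ : Type*}
  [Algebra (MvPolynomial σ k) S] [IsScalarTower k (MvPolynomial σ k) S]

/-- Over a local ring `S` formally smooth and essentially of finite type over `k`: if the
differentials of the images of the variables form a basis of `κ ⊗ Ω[S⁄k]`, then `S` is formally
étale over the polynomial ring. -/
theorem formallyEtale_of_basis_residueField'
    (hli : LinearIndependent (IsLocalRing.ResidueField S)
      (fun i : σ => (1 : IsLocalRing.ResidueField S) ⊗ₜ[S]
        KaehlerDifferential.D k S (algebraMap (MvPolynomial σ k) S (MvPolynomial.X i))))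
    (hsp : Submodule.span (IsLocalRing.ResidueField S) (Set.range
      (fun i : σ => (1 : IsLocalRing.ResidueField S) ⊗ₜ[S]
        KaehlerDifferential.D k S (algebraMap (MvPolynomial σ k) S (MvPolynomial.X i)))) = ⊤) :
    Algebra.FormallyEtale (MvPolynomial σ k) S := by
  obtain ⟨hproj, hH1⟩ := (Algebra.formallySmooth_iff k S).mp ‹_›
  have hflat : Module.Flat S Ω[S⁄k] := inferInstance
  set v : σ → Ω[S⁄k] := fun i => KaehlerDifferential.D k S
    (algebraMap (MvPolynomial σ k) S (MvPolynomial.X i)) with hv
  have h1 : LinearIndependent S v := by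
    refine Module.IsLocalRing.linearIndependent_of_flat v ?_
    exact hli
  have h2 : Submodule.span S (Set.range v) = ⊤ :=
    IsLocalRing.span_eq_top_of_tmul_eq_basis v (Module.Basis.mk hli hsp.ge) (fun i => by simp [hv])
  exact formallyEtale_of_basis'' h1 h2

end L2

end Groth.Agent.Helper26.EtChart
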