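import Mathlib

/-! # Étale charts: residue field facts -/

set_option autoImplicit false
set_option linter.style.haveILetI false
open TensorProduct

namespace Groth.Agent.Helper26.EtChart

universe u

section B

variable {k R : Type*} [CommRing k] [CommRing R] [Algebra k R] (m : Ideal R)

/-- If `R ⧸ m` is formally unramified over `k`, then `m → (R ⧸ m) ⊗ Ω[R⁄k]` is surjective. -/
lemma exists_mem_one_tmul_D_eq [Algebra.FormallyUnramified k (R ⧸ m)]
    (v : (R ⧸ m) ⊗[R] Ω[R⁄k]) :
    ∃ μ ∈ m, (1 : R ⧸ m) ⊗ₜ[R] KaehlerDifferential.D k R μ = v := by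
  have hsub : Subsingleton Ω[(R ⧸ m)⁄k] := (Algebra.formallyUnramified_iff k (R ⧸ m)).mp ‹_›
  have hex := KaehlerDifferential.exact_kerCotangentToTensor_mapBaseChange k R (R ⧸ m)
    Ideal.Quotient.mk_surjective
  obtain ⟨c, hc⟩ := (hex v).mp (Subsingleton.elim _ _)
  obtain ⟨x, rfl⟩ := Ideal.toCotangent_surjective _ c
  rw [KaehlerDifferential.kerCotangentToTensor_toCotangent] at hc
  refine ⟨x.1, ?_, hc⟩
  have h2 : (x : R) ∈ RingHom.ker (algebraMap R (R ⧸ m)) := x.2
  rw [RingHom.mem_ker] at h2
  exact Ideal.Quotient.eq_zero_iff_mem.mp h2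

end B

section D

variable (k : Type*) [CommRing k] (K : Type*) [Field K] [Finite K] [Algebra k K]

/-- A finite field is formally unramified over any base. -/
lemma formallyUnramified_of_finite_field : Algebra.FormallyUnramified k K := by
  classical
  have := Fintype.ofFinite K
  rw [Algebra.formallyUnramified_iff]
  have key : ∀ ω : Ω[K⁄k], ω = 0 := by
    intro ω
    have hω : ω ∈ Submodule.span K (Set.range (KaehlerDifferential.D k K)) := by
      rw [KaehlerDifferential.span_range_derivation]; trivial
    induction hω using Submodule.span_induction with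
    | mem y hy =>
      obtain ⟨a, rfl⟩ := hy
      have h1 : KaehlerDifferential.D k K (a ^ Fintype.card K) = KaehlerDifferential.D k K a := by
        rw [FiniteField.pow_card]
      rw [Derivation.leibniz_pow, ← Nat.cast_smul_eq_nsmul K, Nat.cast_card_eq_zero, zero_smul]
        at h1
      exact h1.symm
    | zero => rfl
    | add a b _ _ ha hb => rw [ha, hb, add_zero]
    | smul c a _ ha => rw [ha, smul_zero]
  exact ⟨fun a b => by rw [key a, key b]⟩

end D

section C

variable (k : Type*) [CommRing k] [IsLocalRing k] [Finite (IsLocalRing.ResidueField k)]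
  (R : Type*) [CommRing R] [Algebra k R] [Algebra.FiniteType k R]
  (m : Ideal R) [m.IsMaximal]

include k in
lemma finite_quotient_of_comap_eq (hm : m.comap (algebraMap k R) = IsLocalRing.maximalIdeal k) :
    Finite (R ⧸ m) := by
  have : m.LiesOver (IsLocalRing.maximalIdeal k) := ⟨hm.symm⟩
  letI : Field (R ⧸ m) := Ideal.Quotient.field m
  letI : Field (k ⧸ IsLocalRing.maximalIdeal k) := Ideal.Quotient.field _
  have hfin : Finite (k ⧸ IsLocalRing.maximalIdeal k) := ‹Finite (IsLocalRing.ResidueField k)›
  have hft : Algebra.FiniteType (k ⧸ IsLocalRing.maximalIdeal k) (R ⧸ m) := by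
    have h1 : Algebra.FiniteType k (R ⧸ m) :=
      Algebra.FiniteType.of_surjective (Ideal.Quotient.mkₐ k m) Ideal.Quotient.mk_surjective
    exact Algebra.FiniteType.of_restrictScalars_finiteType k _ _
  have := finite_of_finite_type_of_isJacobsonRing (k ⧸ IsLocalRing.maximalIdeal k) (R ⧸ m)
  exact Module.finite_of_finite (k ⧸ IsLocalRing.maximalIdeal k)

end C

end Groth.Agent.Helper26.EtChart
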