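import Mathlib
import Groth.Agent.Lib.Helper26.EtChart1
import Groth.Agent.Lib.Helper26.EtChart5
import Groth.Agent.Lib.Helper26.EtChart10
import Groth.Agent.Lib.Helper26.EtChart15

/-! # Étale charts: quotient by coordinates coming from an ideal -/

set_option autoImplicit false
set_option linter.style.haveILetI false
open TensorProduct

namespace Groth.Agent.Helper26.EtChart

section Span

variable {A B : Type*} [CommRing A] [CommRing B] [Algebra A B] (q : Ideal B) [q.IsPrime]

/-- `κ ⊗ Ω[B_q⁄A]` is spanned by the `1 ⊗ d(b)`, `b ∈ B` (universe polymorphic). -/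
lemma span_one_tmul_D_eq_top' :
    Submodule.span (IsLocalRing.ResidueField (Localization.AtPrime q))
      (Set.range fun b : B => (1 : IsLocalRing.ResidueField (Localization.AtPrime q)) ⊗ₜ[Localization.AtPrime q]
        KaehlerDifferential.D A (Localization.AtPrime q) (algebraMap B (Localization.AtPrime q) b)) = ⊤ := by
  set S := Localization.AtPrime q
  set κ := IsLocalRing.ResidueField S
  set W := Submodule.span κ (Set.range fun b : B => (1 : κ) ⊗ₜ[S]
        KaehlerDifferential.D A S (algebraMap B S b)) with hW
  have key : ∀ ω : Ω[S⁄A], ∀ c : κ, c ⊗ₜ[S] ω ∈ W := by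
    intro ω
    have hω : ω ∈ Submodule.span S (Set.range <| KaehlerDifferential.map A A B S ∘
        KaehlerDifferential.D A B) := by
      rw [KaehlerDifferential.span_range_map_derivation_of_isLocalization A B S q.primeCompl]
      trivial
    induction hω using Submodule.span_induction with
    | mem y hy =>
      obtain ⟨b, rfl⟩ := hy
      intro c
      have : c ⊗ₜ[S] (KaehlerDifferential.map A A B S ∘ KaehlerDifferential.D A B) b =
          c • ((1 : κ) ⊗ₜ[S] KaehlerDifferential.D A S (algebraMap B S b)) := by
        rw [Function.comp_apply, KaehlerDifferential.map_D, TensorProduct.smul_tmul', smul_eq_mul,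
          mul_one]
      rw [this]
      exact Submodule.smul_mem _ _ (Submodule.subset_span ⟨b, rfl⟩)
    | zero => intro c; rw [TensorProduct.tmul_zero]; exact zero_mem _
    | add x y _ _ hx hy => intro c; rw [TensorProduct.tmul_add]; exact add_mem (hx c) (hy c)
    | smul s x _ hx =>
      intro c
      rw [← TensorProduct.smul_tmul]
      exact hx _
  rw [eq_top_iff]
  rintro x -
  induction x using TensorProduct.induction_on with
  | zero => exact zero_mem _
  | add x y hx hy => exact add_mem hx hy
  | tmul c ω => exact key ω c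

/-- if `J ≤ q`, then `map` sends `J • Ω[B⁄A]` into `m_{B_q} • Ω[B_q⁄A]`. -/
lemma map_mem_smul_top (J : Ideal B) (hJq : J ≤ q) (z : Ω[B⁄A])
    (hz : z ∈ J • (⊤ : Submodule B Ω[B⁄A])) :
    KaehlerDifferential.map A A B (Localization.AtPrime q) z ∈
      IsLocalRing.maximalIdeal (Localization.AtPrime q) •
        (⊤ : Submodule (Localization.AtPrime q) Ω[Localization.AtPrime q⁄A]) := by
  induction hz using Submodule.smul_induction_on' with
  | smul μ hμ w _ =>
    rw [map_smul, ← algebraMap_smul (Localization.AtPrime q) μ]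
    exact Submodule.smul_mem_smul
      ((IsLocalization.AtPrime.to_map_mem_maximal_iff _ q μ).mpr (hJq hμ)) trivial
  | add a _ b _ ha hb => rw [map_add]; exact add_mem ha hb

/-- If `A → B ⧸ J` is surjective and `J ≤ q`, then `κ ⊗ Ω[B_q⁄A]` is spanned by the
`1 ⊗ d(j)`, `j ∈ J`. -/
lemma span_one_tmul_D_ideal_eq_top (J : Ideal B) (hJq : J ≤ q)
    (hsurj : Function.Surjective ((Ideal.Quotient.mk J).comp (algebraMap A B))) :
    Submodule.span (IsLocalRing.ResidueField (Localization.AtPrime q))
      (Set.range fun j : J => (1 : IsLocalRing.ResidueField (Localization.AtPrime q)) ⊗ₜ[Localization.AtPrime q]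
        KaehlerDifferential.D A (Localization.AtPrime q)
          (algebraMap B (Localization.AtPrime q) (j : B))) = ⊤ := by
  haveI : Algebra.FormallyUnramified A (B ⧸ J) :=
    Algebra.FormallyUnramified.of_surjective (Algebra.ofId A (B ⧸ J)) hsurj
  rw [eq_top_iff, ← span_one_tmul_D_eq_top' (A := A) q, Submodule.span_le]
  rintro _ ⟨b, rfl⟩
  obtain ⟨j, hj, hjb⟩ := exists_mem_one_tmul_D_eq (k := A) J
    ((1 : B ⧸ J) ⊗ₜ[B] KaehlerDifferential.D A B b)
  have h1 : KaehlerDifferential.D A B b - KaehlerDifferential.D A B j ∈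
      J • (⊤ : Submodule B Ω[B⁄A]) := by
    rw [← one_tmul_eq_zero_iff, TensorProduct.tmul_sub, hjb, sub_self]
  have h2 := map_mem_smul_top (A := A) q J hJq _ h1
  rw [map_sub, KaehlerDifferential.map_D, KaehlerDifferential.map_D] at h2
  have h3 := (one_tmul_eq_zero_iff (IsLocalRing.maximalIdeal (Localization.AtPrime q)) _).mpr h2
  rw [TensorProduct.tmul_sub, sub_eq_zero] at h3
  refine Submodule.subset_span ⟨⟨j, hj⟩, ?_⟩
  exact h3.symm

end Span

end Groth.Agent.Helper26.EtChart
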