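import Mathlib

/-! # Étale charts: killing the coordinates of an étale chart -/

set_option autoImplicit false
set_option linter.style.haveILetI false
open TensorProduct

namespace Groth.Agent.Helper26.EtChart

section Tower

variable {A B S : Type*} [CommRing A] [CommRing B] [CommRing S] [Algebra A B] [Algebra B S]
  [Algebra A S] [IsScalarTower A B S] (J : Ideal B)

instance isScalarTower_quotient_map :
    IsScalarTower A (B ⧸ J) (S ⧸ J.map (algebraMap B S)) := by
  refine IsScalarTower.of_algebraMap_eq fun a => ?_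
  rw [IsScalarTower.algebraMap_apply A B (B ⧸ J), Ideal.Quotient.algebraMap_eq,
    Ideal.Quotient.algebraMap_quotient_map_quotient,
    IsScalarTower.algebraMap_apply A S (S ⧸ J.map (algebraMap B S)),
    Ideal.Quotient.algebraMap_eq, ← IsScalarTower.algebraMap_apply]

end Tower

section Vars

variable (C : Type*) [CommRing C] (σ : Type*)

/-- `C ≃ C[X] ⧸ (X)`. -/
noncomputable def quotVarsEquiv :
    C ≃ₐ[C] (MvPolynomial σ C ⧸ Ideal.span (Set.range (MvPolynomial.X : σ → MvPolynomial σ C))) := by
  refine AlgEquiv.ofAlgHom (Algebra.ofId C _)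
    (Ideal.Quotient.liftₐ _ (MvPolynomial.aeval (0 : σ → C)) ?_) ?_ ?_
  · intro a ha
    have hle : Ideal.span (Set.range (MvPolynomial.X : σ → MvPolynomial σ C)) ≤
        RingHom.ker (MvPolynomial.aeval (0 : σ → C) : MvPolynomial σ C →ₐ[C] C).toRingHom := by
      rw [Ideal.span_le]
      rintro _ ⟨i, rfl⟩
      show (MvPolynomial.aeval (0 : σ → C)) (MvPolynomial.X i) = 0
      rw [MvPolynomial.aeval_X]; rfl
    exact hle ha
  · apply Ideal.Quotient.algHom_ext
    apply MvPolynomial.algHom_ext
    intro i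
    have h1 : Ideal.Quotient.mk (Ideal.span (Set.range (MvPolynomial.X : σ → MvPolynomial σ C)))
        (MvPolynomial.X i) = 0 :=
      Ideal.Quotient.eq_zero_iff_mem.mpr (Ideal.subset_span ⟨i, rfl⟩)
    simp only [AlgHom.coe_comp, Function.comp_apply, Ideal.Quotient.mkₐ_eq_mk, AlgHom.coe_id,
      id_eq, h1]
    rw [map_zero, map_zero]
  · ext

end Vars

section Main

variable (C : Type*) [CommRing C] (σ : Type*) (E : Type*) [CommRing E] [Algebra C E]
  [Algebra (MvPolynomial σ C) E] [IsScalarTower C (MvPolynomial σ C) E]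
  [Algebra.Etale (MvPolynomial σ C) E]

theorem etale_quotient_vars :
    Algebra.Etale C (E ⧸ (Ideal.span (Set.range (MvPolynomial.X : σ → MvPolynomial σ C))).map
      (algebraMap (MvPolynomial σ C) E)) := by
  set I₀ := Ideal.span (Set.range (MvPolynomial.X : σ → MvPolynomial σ C)) with hI₀
  haveI : Algebra.Etale C (MvPolynomial σ C ⧸ I₀) := Algebra.Etale.of_equiv (quotVarsEquiv C σ)
  haveI : Algebra.Etale (MvPolynomial σ C ⧸ I₀) (E ⧸ I₀.map (algebraMap (MvPolynomial σ C) E)) :=
    Algebra.Etale.of_equiv (A := (MvPolynomial σ C ⧸ I₀) ⊗[MvPolynomial σ C] E)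
      (Algebra.TensorProduct.quotIdealMapEquivQuotTensor E I₀).symm
  exact Algebra.Etale.comp C (MvPolynomial σ C ⧸ I₀) _

end Main

end Groth.Agent.Helper26.EtChart
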