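import Mathlib
import Groth.Agent.Lib.Helper26.EtChart16
import Groth.Agent.Lib.Helper26.EtChart17

/-! # Étale quotient chart (S18416) -/

set_option autoImplicit false
set_option linter.style.haveILetI false
open TensorProduct

namespace Groth.Agent.Helper26.EtChart

universe v w

theorem S18416 (C : Type v) (B : Type w) [CommRing C] [CommRing B] [Algebra C B]
    [Algebra.Smooth C B] (J : Ideal B)
    (hsurj : Function.Surjective ((Ideal.Quotient.mk J).comp (algebraMap C B)))
    (x : PrimeSpectrum (B ⧸ J)) :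
    ∃ f : B, Ideal.Quotient.mk J f ∉ x.asIdeal ∧
      ∃ J₀ : Ideal (Localization.Away f), J₀ ≤ J.map (algebraMap B (Localization.Away f)) ∧
        ((Ideal.Quotient.mk J₀).comp
          ((algebraMap B (Localization.Away f)).comp (algebraMap C B))).Etale := by
  classical
  set q : Ideal B := x.asIdeal.comap (Ideal.Quotient.mk J) with hq
  haveI : q.IsPrime := Ideal.comap_isPrime _ _
  have hJq : J ≤ q := by
    intro j hj
    rw [hq, Ideal.mem_comap, Ideal.Quotient.eq_zero_iff_mem.mpr hj]
    exact zero_mem _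
  set S := Localization.AtPrime q with hS
  haveI : Module.Finite S Ω[S⁄C] := inferInstance
  haveI : FiniteDimensional (IsLocalRing.ResidueField S)
      ((IsLocalRing.ResidueField S) ⊗[S] Ω[S⁄C]) := Module.Finite.base_change _ _ _
  obtain ⟨m, t, hli, hsp⟩ := exists_extension_basis (K := IsLocalRing.ResidueField S)
    (V := (IsLocalRing.ResidueField S) ⊗[S] Ω[S⁄C]) (r := 0) (fun i => Fin.elim0 i)
    linearIndependent_empty_type _ (span_one_tmul_D_ideal_eq_top (A := C) q J hJq hsurj)
  set xs : Fin 0 ⊕ Fin m → B := Sum.elim (fun i => Fin.elim0 i) (fun j => ((t j : J) : B)) with hxs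
  have hxsJ : ∀ i, xs i ∈ J := by
    rintro (i | j)
    · exact Fin.elim0 i
    · exact (t j).2
  letI : Algebra (MvPolynomial (Fin 0 ⊕ Fin m) C) B := (MvPolynomial.aeval xs).toAlgebra
  have halg : ∀ p, algebraMap (MvPolynomial (Fin 0 ⊕ Fin m) C) B p =
      MvPolynomial.aeval xs p := fun _ => rfl
  haveI : IsScalarTower C (MvPolynomial (Fin 0 ⊕ Fin m) C) B :=
    IsScalarTower.of_algebraMap_eq' (MvPolynomial.aeval xs).comp_algebraMap.symm
  haveI : Algebra.FinitePresentation (MvPolynomial (Fin 0 ⊕ Fin m) C) B :=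
    Algebra.FinitePresentation.of_restrict_scalars_finitePresentation C _ _
  have hX : ∀ i, algebraMap (MvPolynomial (Fin 0 ⊕ Fin m) C) S (MvPolynomial.X i) =
      algebraMap B S (xs i) := by
    intro i
    rw [IsScalarTower.algebraMap_apply (MvPolynomial (Fin 0 ⊕ Fin m) C) B S, halg,
      MvPolynomial.aeval_X]
  have hfun : (fun i : Fin 0 ⊕ Fin m => (1 : IsLocalRing.ResidueField S) ⊗ₜ[S]
      KaehlerDifferential.D C S (algebraMap (MvPolynomial (Fin 0 ⊕ Fin m) C) S
        (MvPolynomial.X i))) =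
      Sum.elim (fun i => Fin.elim0 i)
        ((fun j : J => (1 : IsLocalRing.ResidueField S) ⊗ₜ[S]
          KaehlerDifferential.D C S (algebraMap B S (j : B))) ∘ t) := by
    funext i
    rw [hX i]
    rcases i with i | j
    · exact Fin.elim0 i
    · rfl
  haveI : Algebra.IsEtaleAt (MvPolynomial (Fin 0 ⊕ Fin m) C) q := by
    show Algebra.FormallyEtale (MvPolynomial (Fin 0 ⊕ Fin m) C) S
    refine formallyEtale_of_basis_residueField' ?_ ?_
    · rw [hfun]; exact hli
    · rw [hfun]; exact hsp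
  obtain ⟨f, hf, hEt⟩ :=
    Algebra.exists_etale_of_isEtaleAt (R := MvPolynomial (Fin 0 ⊕ Fin m) C) q
  refine ⟨f, hf, (Ideal.span (Set.range (MvPolynomial.X :
    Fin 0 ⊕ Fin m → MvPolynomial (Fin 0 ⊕ Fin m) C))).map
      (algebraMap (MvPolynomial (Fin 0 ⊕ Fin m) C) (Localization.Away f)), ?_, ?_⟩
  · rw [Ideal.map_span, Ideal.span_le]
    rintro _ ⟨_, ⟨i, rfl⟩, rfl⟩
    rw [IsScalarTower.algebraMap_apply (MvPolynomial (Fin 0 ⊕ Fin m) C) B (Localization.Away f),
      halg, MvPolynomial.aeval_X]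
    exact Ideal.mem_map_of_mem _ (hxsJ i)
  · have h1 := etale_quotient_vars C (Fin 0 ⊕ Fin m) (Localization.Away f)
    have h2 := RingHom.etale_algebraMap.mpr h1
    convert h2 using 1
    rw [← Ideal.Quotient.mk_comp_algebraMap, IsScalarTower.algebraMap_eq C B (Localization.Away f)]

end Groth.Agent.Helper26.EtChart
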