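import Mathlib

/-! # Étale charts: basis of `Ω` of the local ring from a basis mod `m` -/

set_option autoImplicit false
open TensorProduct

namespace Groth.Agent.Helper26.EtChart

section M

variable {k R S : Type*} [CommRing k] [CommRing R] [CommRing S] [Algebra k R] [Algebra k S]
  [Algebra R S] [IsScalarTower k R S] (m : Ideal R) [m.IsPrime] [IsLocalization.AtPrime S m]
  [IsLocalRing S] {d : ℕ} (x : Fin d → R)

include m in
/-- (M1): spanning in the localization by Nakayama. -/
lemma span_eq_top_of_spanning [Module.Finite S Ω[S⁄k]]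
    (h1 : ∀ y : Ω[R⁄k], ∃ r : Fin d → R, y - ∑ i, r i • KaehlerDifferential.D k R (x i) ∈
      m • (⊤ : Submodule R Ω[R⁄k])) :
    Submodule.span S (Set.range fun i => KaehlerDifferential.D k S (algebraMap R S (x i))) = ⊤ := by
  set N := Submodule.span S (Set.range fun i => KaehlerDifferential.D k S (algebraMap R S (x i)))
  rw [eq_top_iff]
  refine Submodule.le_of_le_smul_of_le_jacobson_bot (I := IsLocalRing.maximalIdeal S)
    (Module.Finite.fg_top) ?_ ?_
  · rw [IsLocalRing.jacobson_eq_maximalIdeal ⊥ bot_ne_top]
  · conv_lhs =>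
      rw [← KaehlerDifferential.span_range_map_derivation_of_isLocalization k R S m.primeCompl]
    rw [Submodule.span_le]
    rintro _ ⟨r, rfl⟩
    obtain ⟨c, hc⟩ := h1 (KaehlerDifferential.D k R r)
    have hz : ∀ z ∈ m • (⊤ : Submodule R Ω[R⁄k]),
        KaehlerDifferential.map k k R S z ∈
          IsLocalRing.maximalIdeal S • (⊤ : Submodule S Ω[S⁄k]) := by
      intro z hz
      induction hz using Submodule.smul_induction_on' with
      | smul μ hμ w _ =>
        rw [map_smul, ← algebraMap_smul S μ]
        exact Submodule.smul_mem_smul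
          ((IsLocalization.AtPrime.to_map_mem_maximal_iff S m μ).mpr hμ) trivial
      | add a _ b _ ha hb => rw [map_add]; exact add_mem ha hb
    have hz' := hz _ hc
    rw [map_sub, map_sum] at hz'
    have : (KaehlerDifferential.map k k R S ∘ KaehlerDifferential.D k R) r =
        (∑ i, KaehlerDifferential.map k k R S (c i • KaehlerDifferential.D k R (x i))) +
        (KaehlerDifferential.map k k R S (KaehlerDifferential.D k R r) -
          ∑ i, KaehlerDifferential.map k k R S (c i • KaehlerDifferential.D k R (x i))) := by
      simp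
    rw [SetLike.mem_coe, this]
    refine Submodule.add_mem_sup ?_ hz'
    refine Submodule.sum_mem _ fun i _ => ?_
    rw [map_smul, KaehlerDifferential.map_D, ← algebraMap_smul S (c i)]
    exact Submodule.smul_mem _ _ (Submodule.subset_span ⟨i, rfl⟩)

include m in
/-- kernel of the linear combination map is contained in `m_S • ⊤`. -/
lemma ker_le_smul_top
    (h2 : ∀ r : Fin d → R, ∑ i, r i • KaehlerDifferential.D k R (x i) ∈
      m • (⊤ : Submodule R Ω[R⁄k]) → ∀ i, r i ∈ m)
    (z : Fin d → S)
    (hz : ∑ i, z i • KaehlerDifferential.D k S (algebraMap R S (x i)) = 0) :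
    ∀ i, z i ∈ IsLocalRing.maximalIdeal S := by
  obtain ⟨t, ht⟩ := IsLocalization.exist_integer_multiples_of_finite m.primeCompl z
  choose r hr using ht
  have h0 : KaehlerDifferential.map k k R S (∑ i, r i • KaehlerDifferential.D k R (x i)) = 0 := by
    rw [map_sum]
    have : ∀ i, KaehlerDifferential.map k k R S (r i • KaehlerDifferential.D k R (x i)) =
        (t : R) • (z i • KaehlerDifferential.D k S (algebraMap R S (x i))) := by
      intro i
      rw [map_smul, KaehlerDifferential.map_D, ← algebraMap_smul S (r i), hr i, smul_assoc]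
    rw [Finset.sum_congr rfl fun i _ => this i, ← Finset.smul_sum, hz, smul_zero]
  obtain ⟨t', ht'⟩ := (IsLocalizedModule.eq_zero_iff m.primeCompl
    (KaehlerDifferential.map k k R S)).mp h0
  have h3 : ∑ i, ((t' : R) * r i) • KaehlerDifferential.D k R (x i) = 0 := by
    rw [← ht', Submonoid.smul_def, Finset.smul_sum]
    exact Finset.sum_congr rfl fun i _ => mul_smul _ _ _
  have h4 := h2 (fun i => (t' : R) * r i) (by rw [h3]; exact zero_mem _)
  intro i
  have h5 : r i ∈ m := (‹m.IsPrime›.mem_or_mem (h4 i)).resolve_left t'.2
  have h6 : algebraMap R S (r i) ∈ IsLocalRing.maximalIdeal S :=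
    (IsLocalization.AtPrime.to_map_mem_maximal_iff S m (r i)).mpr h5
  rw [hr i, Algebra.smul_def] at h6
  refine ((IsLocalRing.maximalIdeal.isMaximal S).isPrime.mem_or_mem h6).resolve_left ?_
  rw [IsLocalization.AtPrime.to_map_mem_maximal_iff S m]
  exact t.2

end M

section N

variable {S M : Type*} [CommRing S] [IsLocalRing S] [AddCommGroup M] [Module S M]
  [Module.Projective S M] {d : ℕ} (v : Fin d → M)

/-- A spanning family of `d` elements of a projective module over a local ring, whose relations
all have coefficients in the maximal ideal, is linearly independent. -/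
lemma linearIndependent_of_ker_le
    (hsp : Submodule.span S (Set.range v) = ⊤)
    (hker : ∀ z : Fin d → S, ∑ i, z i • v i = 0 → ∀ i, z i ∈ IsLocalRing.maximalIdeal S) :
    LinearIndependent S v := by
  classical
  set F := Fintype.linearCombination S v with hF
  have hFs : Function.Surjective F := by
    rw [← LinearMap.range_eq_top, Fintype.range_linearCombination, hsp]
  obtain ⟨σ, hσ⟩ := Module.projective_lifting_property F LinearMap.id hFs
  have hσ' : ∀ y, F (σ y) = y := fun y => by
    have := LinearMap.congr_fun hσ y; simpa using this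
  set E : (Fin d → S) →ₗ[S] (Fin d → S) := LinearMap.id - σ ∘ₗ F with hE
  have hkerF : ∀ z, F z = 0 → z ∈ IsLocalRing.maximalIdeal S • (⊤ : Submodule S (Fin d → S)) := by
    intro z hz
    have h1 := hker z (by simpa [hF, Fintype.linearCombination_apply] using hz)
    rw [pi_eq_sum_univ z]
    refine Submodule.sum_mem _ fun i _ => ?_
    exact Submodule.smul_mem_smul (h1 i) trivial
  have hFE : ∀ w, F (E w) = 0 := by
    intro w
    simp [hE, hσ']
  have hEE : ∀ z, F z = 0 → E z = z := by
    intro z hz
    simp [hE, hz]
  have hK : LinearMap.range E = ⊥ := by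
    refine Submodule.eq_bot_of_le_smul_of_le_jacobson_bot (IsLocalRing.maximalIdeal S) _ ?_ ?_ ?_
    · rw [LinearMap.range_eq_map]
      exact Submodule.FG.map _ Module.Finite.fg_top
    · rintro _ ⟨w, rfl⟩
      have h1 := hkerF _ (hFE w)
      have h2 : E (E w) ∈ Submodule.map E
          (IsLocalRing.maximalIdeal S • (⊤ : Submodule S (Fin d → S))) :=
        Submodule.mem_map_of_mem h1
      rw [Submodule.map_smul'', Submodule.map_top, hEE _ (hFE w)] at h2
      exact h2
    · rw [IsLocalRing.jacobson_eq_maximalIdeal ⊥ bot_ne_top]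
  have hinj : Function.Injective F := by
    rw [injective_iff_map_eq_zero]
    intro z hz
    have h1 : E z ∈ LinearMap.range E := ⟨z, rfl⟩
    rw [hK, Submodule.mem_bot, hEE z hz] at h1
    exact h1
  rw [Fintype.linearIndependent_iff]
  intro g hg i
  have : F g = 0 := by simpa [hF, Fintype.linearCombination_apply] using hg
  have h0 := hinj (this.trans (map_zero F).symm)
  rw [h0]; rfl

end N

end Groth.Agent.Helper26.EtChart
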