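import Mathlib

/-! # Étale charts: formally étale over a polynomial ring from a basis of differentials -/

set_option autoImplicit false
open TensorProduct

namespace Groth.Agent.Helper26.EtChart

universe u

variable {k S : Type u} [CommRing k] [CommRing S] [Algebra k S] {d : ℕ}
  [Algebra (MvPolynomial (Fin d) k) S] [IsScalarTower k (MvPolynomial (Fin d) k) S]

lemma mapBaseChange_bijective
    (hli : LinearIndependent S
      (fun i : Fin d => KaehlerDifferential.D k S (algebraMap (MvPolynomial (Fin d) k) S
        (MvPolynomial.X i))))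
    (hsp : Submodule.span S (Set.range
      (fun i : Fin d => KaehlerDifferential.D k S (algebraMap (MvPolynomial (Fin d) k) S
        (MvPolynomial.X i)))) = ⊤) :
    Function.Bijective (KaehlerDifferential.mapBaseChange k (MvPolynomial (Fin d) k) S) := by
  let b := (KaehlerDifferential.mvPolynomialBasis k (Fin d)).baseChange S
  let b' := Module.Basis.mk hli hsp.ge
  let e := b.equiv b' (Equiv.refl _)
  have : KaehlerDifferential.mapBaseChange k (MvPolynomial (Fin d) k) S = e.toLinearMap := by
    refine b.ext fun i => ?_
    rw [LinearEquiv.coe_coe, Module.Basis.equiv_apply, Module.Basis.baseChange_apply,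
      KaehlerDifferential.mapBaseChange_tmul, one_smul,
      KaehlerDifferential.mvPolynomialBasis_apply, KaehlerDifferential.map_D]
    simp [b']
  rw [this]
  exact e.bijective

theorem formallyEtale_of_basis [Subsingleton (Algebra.H1Cotangent k S)]
    (hli : LinearIndependent S
      (fun i : Fin d => KaehlerDifferential.D k S (algebraMap (MvPolynomial (Fin d) k) S
        (MvPolynomial.X i))))
    (hsp : Submodule.span S (Set.range
      (fun i : Fin d => KaehlerDifferential.D k S (algebraMap (MvPolynomial (Fin d) k) S
        (MvPolynomial.X i)))) = ⊤) :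
    Algebra.FormallyEtale (MvPolynomial (Fin d) k) S := by
  have hb := mapBaseChange_bijective hli hsp
  rw [Algebra.formallyEtale_iff]
  constructor
  · refine ⟨fun a b => ?_⟩
    have key : ∀ ω : Ω[S⁄MvPolynomial (Fin d) k], ω = 0 := by
      intro ω
      obtain ⟨y, rfl⟩ := KaehlerDifferential.map_surjective k (MvPolynomial (Fin d) k) S ω
      obtain ⟨t, rfl⟩ := hb.2 y
      exact (KaehlerDifferential.exact_mapBaseChange_map k (MvPolynomial (Fin d) k) S _).mpr ⟨t, rfl⟩
    rw [key a, key b]
  · refine ⟨fun a b => ?_⟩
    have key : ∀ c : Algebra.H1Cotangent (MvPolynomial (Fin d) k) S, c = 0 := by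
      intro c
      have h1 : KaehlerDifferential.mapBaseChange k (MvPolynomial (Fin d) k) S
          (Algebra.H1Cotangent.δ k (MvPolynomial (Fin d) k) S c) = 0 :=
        (Algebra.H1Cotangent.exact_δ_mapBaseChange k (MvPolynomial (Fin d) k) S _).mpr ⟨c, rfl⟩
      have h2 : Algebra.H1Cotangent.δ k (MvPolynomial (Fin d) k) S c = 0 :=
        hb.1 (h1.trans (map_zero _).symm)
      obtain ⟨c', rfl⟩ := (Algebra.H1Cotangent.exact_map_δ k (MvPolynomial (Fin d) k) S c).mp h2
      rw [Subsingleton.elim c' 0, map_zero]
    rw [key a, key b]

end Groth.Agent.Helper26.EtChart
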