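import Mathlib
import Groth.Agent.Lib.Helper26.EtChart1
import Groth.Agent.Lib.Helper26.EtChart2
import Groth.Agent.Lib.Helper26.EtChart3

/-! # Étale charts: étale at a prime from a basis of differentials mod `m` -/

set_option autoImplicit false
open TensorProduct

namespace Groth.Agent.Helper26.EtChart

universe u

variable {k R : Type u} [CommRing k] [CommRing R] [Algebra k R] [Algebra.FinitePresentation k R]
  {d : ℕ} [Algebra (MvPolynomial (Fin d) k) R] [IsScalarTower k (MvPolynomial (Fin d) k) R]
  (m : Ideal R) [m.IsPrime] [Algebra.IsSmoothAt k m]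

theorem isEtaleAt_of_basis
    (hli : LinearIndependent (R ⧸ m) (fun i : Fin d => (1 : R ⧸ m) ⊗ₜ[R]
      KaehlerDifferential.D k R (algebraMap (MvPolynomial (Fin d) k) R (MvPolynomial.X i))))
    (hs : ⊤ ≤ Submodule.span (R ⧸ m) (Set.range fun i : Fin d => (1 : R ⧸ m) ⊗ₜ[R]
      KaehlerDifferential.D k R (algebraMap (MvPolynomial (Fin d) k) R (MvPolynomial.X i)))) :
    Algebra.IsEtaleAt (MvPolynomial (Fin d) k) m := by
  set x : Fin d → R := fun i => algebraMap (MvPolynomial (Fin d) k) R (MvPolynomial.X i) with hx
  have hsm : Algebra.FormallySmooth k (Localization.AtPrime m) := ‹_›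
  obtain ⟨hproj, hH1⟩ := (Algebra.formallySmooth_iff k (Localization.AtPrime m)).mp hsm
  have hX : ∀ i : Fin d, algebraMap (MvPolynomial (Fin d) k) (Localization.AtPrime m)
      (MvPolynomial.X i) = algebraMap R (Localization.AtPrime m) (x i) := by
    intro i
    rw [hx, ← IsScalarTower.algebraMap_apply]
  have hsp : Submodule.span (Localization.AtPrime m) (Set.range fun i : Fin d =>
      KaehlerDifferential.D k (Localization.AtPrime m)
        (algebraMap R (Localization.AtPrime m) (x i))) = ⊤ :=
    span_eq_top_of_spanning m x (exists_sub_mem_smul_top m x hs)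
  have hli' : LinearIndependent (Localization.AtPrime m) (fun i : Fin d =>
      KaehlerDifferential.D k (Localization.AtPrime m)
        (algebraMap R (Localization.AtPrime m) (x i))) :=
    linearIndependent_of_ker_le _ hsp
      (ker_le_smul_top m x (mem_of_sum_mem_smul_top m x hli))
  have e : (fun i : Fin d => KaehlerDifferential.D k (Localization.AtPrime m)
      (algebraMap (MvPolynomial (Fin d) k) (Localization.AtPrime m) (MvPolynomial.X i))) =
      fun i : Fin d => KaehlerDifferential.D k (Localization.AtPrime m)
        (algebraMap R (Localization.AtPrime m) (x i)) := by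
    funext i; rw [hX i]
  exact formallyEtale_of_basis (e ▸ hli') (e ▸ hsp)

end Groth.Agent.Helper26.EtChart
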