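import Mathlib
import Groth.Agent.Lib.Helper26.EtChart4
import Groth.Agent.Lib.Helper26.EtChart5

/-! # Étale charts: main theorem (finite residue field) -/

set_option autoImplicit false
set_option linter.style.haveILetI false
open TensorProduct

namespace Groth.Agent.Helper26.EtChart

universe u

theorem main
    (k : Type u) [CommRing k] [IsLocalRing k] [Finite (IsLocalRing.ResidueField k)]
    (R : Type u) [CommRing R] [Algebra k R] [Algebra.FinitePresentation k R]
    (m : Ideal R) [m.IsMaximal] (hm : m.comap (algebraMap k R) = IsLocalRing.maximalIdeal k)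
    [Algebra.IsSmoothAt k m] (d : ℕ) (hd : 0 < d)
    (hdim : Module.finrank (R ⧸ m) ((R ⧸ m) ⊗[R] Ω[R⁄k]) = d) :
    ∃ g : R, g ∉ m ∧ ∃ φ : MvPolynomial (Fin d) k →ₐ[k] Localization.Away g,
      φ.toRingHom.Etale ∧
      Function.Surjective
        ((Ideal.Quotient.mk (m.map (algebraMap R (Localization.Away g)))).comp φ.toRingHom) := by
  classical
  haveI : Finite (R ⧸ m) := finite_quotient_of_comap_eq k R m hm
  letI : Field (R ⧸ m) := Ideal.Quotient.field m
  haveI : Algebra.FormallyUnramified k (R ⧸ m) := formallyUnramified_of_finite_field k (R ⧸ m)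
  obtain ⟨θ, hθ⟩ := IsCyclic.exists_monoid_generator (α := (R ⧸ m)ˣ)
  obtain ⟨θ', hθ'⟩ := Ideal.Quotient.mk_surjective (θ : R ⧸ m)
  haveI : Module.Finite (R ⧸ m) ((R ⧸ m) ⊗[R] Ω[R⁄k]) :=
    Module.finite_of_finrank_pos (by rw [hdim]; exact hd)
  let b := Module.finBasisOfFinrankEq (R ⧸ m) ((R ⧸ m) ⊗[R] Ω[R⁄k]) hdim
  choose μ hμm hμ using fun i => exists_mem_one_tmul_D_eq (k := k) m (b i)
  obtain ⟨ν, hνm, hν⟩ := exists_mem_one_tmul_D_eq (k := k) m
    ((1 : R ⧸ m) ⊗ₜ[R] KaehlerDifferential.D k R θ')
  let i0 : Fin d := ⟨0, hd⟩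
  let x : Fin d → R := fun i => μ i + if i = i0 then θ' - ν else 0
  have hxb : ∀ i, (1 : R ⧸ m) ⊗ₜ[R] KaehlerDifferential.D k R (x i) = b i := by
    intro i
    simp only [x]
    rw [map_add, TensorProduct.tmul_add, hμ i]
    split_ifs with h
    · rw [map_sub, TensorProduct.tmul_sub, hν, sub_self, add_zero]
    · rw [map_zero, TensorProduct.tmul_zero, add_zero]
  have hx0 : Ideal.Quotient.mk m (x i0) = θ := by
    simp only [x, if_true]
    rw [map_add, map_sub, hθ', Ideal.Quotient.eq_zero_iff_mem.mpr (hμm i0),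
      Ideal.Quotient.eq_zero_iff_mem.mpr hνm, zero_add, sub_zero]
  letI : Algebra (MvPolynomial (Fin d) k) R := (MvPolynomial.aeval x).toAlgebra
  have halg : ∀ p, algebraMap (MvPolynomial (Fin d) k) R p = MvPolynomial.aeval x p := fun _ => rfl
  haveI : IsScalarTower k (MvPolynomial (Fin d) k) R :=
    IsScalarTower.of_algebraMap_eq' (MvPolynomial.aeval x).comp_algebraMap.symm
  haveI : Algebra.FinitePresentation (MvPolynomial (Fin d) k) R :=
    Algebra.FinitePresentation.of_restrict_scalars_finitePresentation k _ _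
  have hX : ∀ i, algebraMap (MvPolynomial (Fin d) k) R (MvPolynomial.X i) = x i := by
    intro i; rw [halg, MvPolynomial.aeval_X]
  have hfun : (fun i : Fin d => (1 : R ⧸ m) ⊗ₜ[R]
      KaehlerDifferential.D k R (algebraMap (MvPolynomial (Fin d) k) R (MvPolynomial.X i))) =
      fun i => b i := by
    funext i; rw [hX i, hxb i]
  haveI : Algebra.IsEtaleAt (MvPolynomial (Fin d) k) m := by
    refine isEtaleAt_of_basis m ?_ ?_
    · rw [hfun]; exact b.linearIndependent
    · rw [hfun]; exact b.span_eq.ge
  obtain ⟨g, hg, hEt⟩ := Algebra.exists_etale_of_isEtaleAt (R := MvPolynomial (Fin d) k) m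
  refine ⟨g, hg, IsScalarTower.toAlgHom k (MvPolynomial (Fin d) k) (Localization.Away g), ?_, ?_⟩
  · exact RingHom.etale_algebraMap.mpr hEt
  · set I := m.map (algebraMap R (Localization.Away g)) with hI
    have hdisj : Disjoint ((Submonoid.powers g : Submonoid R) : Set R) (m : Set R) :=
      (Ideal.disjoint_powers_iff_notMem_of_isPrime _).mpr hg
    haveI hIp : I.IsPrime :=
      IsLocalization.isPrime_of_isPrime_disjoint (Submonoid.powers g) _ m inferInstance hdisj
    have hIu : I.under R = m :=
      IsLocalization.under_map_of_isPrime_disjoint (Submonoid.powers g) _ inferInstance hdisj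
    have hsurj := IsLocalization.surjective_quotientMap_of_maximal_of_localization
      (Submonoid.powers g) (Localization.Away g) (I := I) (J := m) (H := hIu.ge)
      (by rw [hIu]; infer_instance)
    intro y
    obtain ⟨r', rfl⟩ := hsurj y
    obtain ⟨r, rfl⟩ := Ideal.Quotient.mk_surjective r'
    rw [Ideal.quotientMap_mk]
    by_cases hr : r ∈ m
    · refine ⟨0, ?_⟩
      rw [map_zero]
      exact (Ideal.Quotient.eq_zero_iff_mem.mpr (Ideal.mem_map_of_mem _ hr)).symm
    · have hu : IsUnit (Ideal.Quotient.mk m r) := by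
        rw [isUnit_iff_ne_zero, Ne, Ideal.Quotient.eq_zero_iff_mem]; exact hr
      obtain ⟨n, hn⟩ := hθ hu.unit
      have hn' : (θ : R ⧸ m) ^ n = Ideal.Quotient.mk m r := by
        have := congrArg Units.val hn
        simpa using this
      refine ⟨MvPolynomial.X i0 ^ n, ?_⟩
      have h1 : (IsScalarTower.toAlgHom k (MvPolynomial (Fin d) k) (Localization.Away g)).toRingHom
          (MvPolynomial.X i0 ^ n) = algebraMap R (Localization.Away g) (x i0 ^ n) := by
        change algebraMap (MvPolynomial (Fin d) k) (Localization.Away g) _ = _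
        rw [IsScalarTower.algebraMap_apply (MvPolynomial (Fin d) k) R (Localization.Away g),
          map_pow, hX]
      rw [RingHom.comp_apply, h1, Ideal.Quotient.eq]
      rw [← map_sub]
      refine Ideal.mem_map_of_mem _ ?_
      rw [← Ideal.Quotient.eq, map_pow, hx0, hn']

end Groth.Agent.Helper26.EtChart
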