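import Mathlib
import Groth.Agent.Lib.Helper26.NbDesc1
import Groth.Agent.Lib.Helper1.HPIdem
import Groth.Agent.Lib.Helper1.HPEquiv

/-!
# Étale-local lifting of idempotents of integral algebras (helper26)
-/

set_option autoImplicit false
set_option linter.unusedSectionVars false
set_option linter.style.haveILetI false

open TensorProduct

namespace Groth.Agent.Helper26.PH.Desc

universe u

theorem mem_smul_top_of_algEquiv {A M N : Type*} [CommRing A] [CommRing M] [CommRing N]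
    [Algebra A M] [Algebra A N] (I : Ideal A) (φ : M →ₐ[A] N) {x : M}
    (hx : x ∈ I • (⊤ : Submodule A M)) : φ x ∈ I • (⊤ : Submodule A N) := by
  refine Submodule.smul_induction_on hx (fun a ha n _ => ?_) (fun x y hx hy => ?_)
  · rw [map_smul]
    exact Submodule.smul_mem_smul ha Submodule.mem_top
  · rw [map_add]
    exact Submodule.add_mem _ hx hy

theorem mem_smul_top_iff {A M : Type*} [CommRing A] [CommRing M] [Algebra A M] (I : Ideal A)
    (x : M) : x ∈ I • (⊤ : Submodule A M) ↔ x ∈ I.map (algebraMap A M) := by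
  rw [Ideal.smul_top_eq_map]
  exact Iff.rfl

theorem exists_etale_lift_idempotent {A B : Type u} [CommRing A] [CommRing B] [Algebra A B]
    [Algebra.IsIntegral A B] (I : Ideal A) (e : B ⧸ I.map (algebraMap A B))
    (he : IsIdempotentElem e) :
    ∃ (A' : Type u) (_ : CommRing A') (_ : Algebra A A'), Algebra.Etale A A' ∧
      Function.Bijective (algebraMap (A ⧸ I) (A' ⧸ I.map (algebraMap A A'))) ∧
      ∃ e' : A' ⊗[A] B, IsIdempotentElem e' ∧
        ∀ b : B, Ideal.Quotient.mk (I.map (algebraMap A B)) b = e →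
          e' - 1 ⊗ₜ b ∈ I.map (algebraMap A (A' ⊗[A] B)) := by
  obtain ⟨b₀, hb₀⟩ := Ideal.Quotient.mk_surjective e
  have hbb : b₀ * b₀ - b₀ ∈ I.map (algebraMap A B) := by
    rw [← Ideal.Quotient.eq, map_mul, hb₀]
    exact he
  -- the henselization
  let Ah := Colim A I
  have hH : HenselianRing Ah (I.map (algebraMap A Ah)) := colim_henselian A I
  have hG : Groth.Agent.Helper1.GabberProp Ah (I.map (algebraMap A Ah)) :=
    Groth.Agent.Helper1.gabberProp_of_henselianRing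
  haveI : Algebra.IsIntegral Ah (Ah ⊗[A] B) := inferInstance
  have hmapE : (I.map (algebraMap A Ah)).map (algebraMap Ah (Ah ⊗[A] B)) =
      I.map (algebraMap A (Ah ⊗[A] B)) := by
    rw [Ideal.map_map, ← IsScalarTower.algebraMap_eq]
  have h1b : (1 : Ah) ⊗ₜ[A] (b₀ * b₀ - b₀) ∈ I.map (algebraMap A (Ah ⊗[A] B)) := by
    rw [← mem_smul_top_iff]
    have h2 : b₀ * b₀ - b₀ ∈ I • (⊤ : Submodule A B) := by
      rw [mem_smul_top_iff]; exact hbb
    exact mem_smul_top_of_algEquiv I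
      (Algebra.TensorProduct.includeRight : B →ₐ[A] Ah ⊗[A] B) h2
  have hw : IsIdempotentElem (Ideal.Quotient.mk
      ((I.map (algebraMap A Ah)).map (algebraMap Ah (Ah ⊗[A] B))) ((1 : Ah) ⊗ₜ[A] b₀)) := by
    change _ * _ = _
    rw [← map_mul, Ideal.Quotient.eq, hmapE]
    have : (1 : Ah) ⊗ₜ[A] b₀ * (1 : Ah) ⊗ₜ[A] b₀ - (1 : Ah) ⊗ₜ[A] b₀ =
        (1 : Ah) ⊗ₜ[A] (b₀ * b₀ - b₀) := by
      rw [Algebra.TensorProduct.tmul_mul_tmul, one_mul, TensorProduct.tmul_sub]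
    rw [this]
    exact h1b
  obtain ⟨eh, heh, hehw⟩ := Groth.Agent.Helper1.exists_isIdempotentElem_lift_of_isIntegral hG
    (B := Ah ⊗[A] B) _ hw
  rw [Ideal.Quotient.eq, hmapE, ← mem_smul_top_iff] at hehw
  -- transfer to `B ⊗ Ah`
  let c : Ah ⊗[A] B ≃ₐ[A] TH A I B := Algebra.TensorProduct.comm A Ah B
  have hc1 : c ((1 : Ah) ⊗ₜ[A] b₀) = b₀ ⊗ₜ[A] (1 : Ah) := rfl
  have hceh : IsIdempotentElem (c eh) := heh.map c
  have hcmem : c eh - b₀ ⊗ₜ[A] (1 : Ah) ∈ I • (⊤ : Submodule A (TH A I B)) := by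
    rw [← hc1, ← map_sub]
    exact mem_smul_top_of_algEquiv I (c : Ah ⊗[A] B →ₐ[A] TH A I B) hehw
  -- descend
  obtain ⟨i, y, hy⟩ := Tι_rep B (c eh)
  have hz : Tι B i (y * y - y) = 0 := by
    rw [map_sub, map_mul, hy, hceh.eq, sub_self]
  obtain ⟨k, f, hf⟩ := Tι_eq_zero B _ hz
  have hy₁ : IsIdempotentElem (Tm B f y) := by
    change _ * _ = _
    rw [map_sub, map_mul, sub_eq_zero] at hf
    exact hf
  have hy₁mem : Tι B k (Tm B f y - b₀ ⊗ₜ[A] (1 : Rg A I k)) ∈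
      I • (⊤ : Submodule A (TH A I B)) := by
    rw [map_sub, Tι_Tm, hy]
    have : Tι B k (b₀ ⊗ₜ[A] (1 : Rg A I k)) = b₀ ⊗ₜ[A] (1 : Ah) := by
      rw [Tι_tmul, map_one]
    rw [this]
    exact hcmem
  obtain ⟨k', g, hg⟩ := Tι_mem B _ hy₁mem
  have hy₂ : IsIdempotentElem (Tm B g (Tm B f y)) := hy₁.map (Tm B g)
  have hg' : Tm B g (Tm B f y) - b₀ ⊗ₜ[A] (1 : Rg A I k') ∈
      I • (⊤ : Submodule A (T A I B k')) := by
    rw [map_sub, Tm_tmul, map_one] at hg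
    exact hg
  -- assemble
  have hN := Rg.isNbhd A I k'
  let c' : T A I B k' ≃ₐ[A] Rg A I k' ⊗[A] B := Algebra.TensorProduct.comm A B (Rg A I k')
  have hc'1 : c' (b₀ ⊗ₜ[A] (1 : Rg A I k')) = (1 : Rg A I k') ⊗ₜ[A] b₀ := rfl
  refine ⟨Rg A I k', inferInstance, inferInstance, hN.etale, hN.bij,
    c' (Tm B g (Tm B f y)), hy₂.map c', ?_⟩
  intro b hb
  have h3 : c' (Tm B g (Tm B f y)) - (1 : Rg A I k') ⊗ₜ[A] b₀ ∈
      I • (⊤ : Submodule A (Rg A I k' ⊗[A] B)) := by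
    rw [← hc'1, ← map_sub]
    exact mem_smul_top_of_algEquiv I (c' : T A I B k' →ₐ[A] Rg A I k' ⊗[A] B) hg'
  have h4 : (1 : Rg A I k') ⊗ₜ[A] b₀ - (1 : Rg A I k') ⊗ₜ[A] b ∈
      I • (⊤ : Submodule A (Rg A I k' ⊗[A] B)) := by
    rw [← TensorProduct.tmul_sub]
    have h5 : b₀ - b ∈ I • (⊤ : Submodule A B) := by
      rw [mem_smul_top_iff, ← Ideal.Quotient.eq, hb₀, hb]
    exact mem_smul_top_of_algEquiv I
      (Algebra.TensorProduct.includeRight : B →ₐ[A] Rg A I k' ⊗[A] B) h5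
  rw [← mem_smul_top_iff]
  have : c' (Tm B g (Tm B f y)) - (1 : Rg A I k') ⊗ₜ[A] b =
      (c' (Tm B g (Tm B f y)) - (1 : Rg A I k') ⊗ₜ[A] b₀) +
      ((1 : Rg A I k') ⊗ₜ[A] b₀ - (1 : Rg A I k') ⊗ₜ[A] b) := by ring
  rw [this]
  exact Submodule.add_mem _ h3 h4

end Groth.Agent.Helper26.PH.Desc
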