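import Mathlib
import Groth.Prelude.Def_ProEtW
import Groth.Agent.Lib.Helper14.EtaleLiftQuot

/-! # Étale retractions pass to quotients (S0676) -/

set_option autoImplicit false

namespace Groth.Agent.Helper26.EtRetr

open TensorProduct

universe u

/-- A two-member family of types. -/
abbrev Fam (B C : Type u) : Bool → Type u
  | true => B
  | false => C

instance famCommRing (B C : Type u) [CommRing B] [CommRing C] : ∀ b, CommRing (Fam B C b)
  | true => inferInstanceAs (CommRing B)
  | false => inferInstanceAs (CommRing C)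

instance famAlgebra (A B C : Type u) [CommRing A] [CommRing B] [CommRing C] [Algebra A B]
    [Algebra A C] : ∀ b, Algebra A (Fam B C b)
  | true => inferInstanceAs (Algebra A B)
  | false => inferInstanceAs (Algebra A C)

instance famEtale (A B C : Type u) [CommRing A] [CommRing B] [CommRing C] [Algebra A B]
    [Algebra A C] [Algebra.Etale A B] [Algebra.Etale A C] : ∀ b, Algebra.Etale A (Fam B C b)
  | true => inferInstanceAs (Algebra.Etale A B)
  | false => inferInstanceAs (Algebra.Etale A C)

theorem S0676 (A : Type u) [CommRing A] (h : ProEtW.HasEtaleRetractions A) (I : Ideal A) :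
    ProEtW.HasEtaleRetractions (A ⧸ I) := by
  classical
  intro Bb _ _ hff het
  obtain ⟨B, _, _, hBet, ⟨e⟩⟩ :=
    Groth.Agent.Helper14.EtaleLiftQuot.exists_etale_lift A I Bb
  have hopen : IsOpenMap (PrimeSpectrum.comap (algebraMap A B)) :=
    PrimeSpectrum.isOpenMap_comap_of_hasGoingDown_of_finitePresentation
  set U := Set.range (PrimeSpectrum.comap (algebraMap A B)) with hUdef
  have hU : IsOpen U := hopen.isOpen_range
  -- the closed fibre lies in the image
  let ψ : B →+* Bb := (e : ((A ⧸ I) ⊗[A] B) →+* Bb).comp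
    (Algebra.TensorProduct.includeRight : B →ₐ[A] (A ⧸ I) ⊗[A] B).toRingHom
  have hψ : ψ.comp (algebraMap A B) = (algebraMap (A ⧸ I) Bb).comp (Ideal.Quotient.mk I) := by
    ext a
    show e ((1 : A ⧸ I) ⊗ₜ[A] (algebraMap A B a)) = algebraMap (A ⧸ I) Bb (Ideal.Quotient.mk I a)
    have h1 : ((1 : A ⧸ I) ⊗ₜ[A] (algebraMap A B a) : (A ⧸ I) ⊗[A] B) =
        algebraMap (A ⧸ I) ((A ⧸ I) ⊗[A] B) (Ideal.Quotient.mk I a) := by
      rw [Algebra.TensorProduct.algebraMap_apply, Algebra.algebraMap_eq_smul_one,
        TensorProduct.tmul_smul, TensorProduct.smul_tmul']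
      congr 1
      rw [Algebra.algebraMap_self, RingHom.id_apply, Algebra.smul_def, mul_one]
      rfl
    rw [h1, AlgEquiv.commutes]
  have hVI : PrimeSpectrum.zeroLocus (I : Set A) ⊆ U := by
    intro p hp
    have h1 : p ∈ Set.range (PrimeSpectrum.comap (Ideal.Quotient.mk I)) := by
      rw [range_comap_of_surjective _ _ Ideal.Quotient.mk_surjective, Ideal.mk_ker]
      exact hp
    obtain ⟨pb, rfl⟩ := h1
    obtain ⟨qb, rfl⟩ := PrimeSpectrum.comap_surjective_of_faithfullyFlat (A := A ⧸ I) (B := Bb) pb
    refine ⟨PrimeSpectrum.comap ψ qb, ?_⟩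
    apply PrimeSpectrum.ext
    show Ideal.comap (algebraMap A B) (Ideal.comap ψ qb.asIdeal) =
      Ideal.comap (Ideal.Quotient.mk I) (Ideal.comap (algebraMap (A ⧸ I) Bb) qb.asIdeal)
    rw [Ideal.comap_comap, Ideal.comap_comap, hψ]
  -- separate the complement from `V(I)`
  set J := PrimeSpectrum.vanishingIdeal Uᶜ with hJ
  have hZ : PrimeSpectrum.zeroLocus (J : Set A) = Uᶜ := by
    rw [hJ, PrimeSpectrum.zeroLocus_vanishingIdeal_eq_closure]
    exact hU.isClosed_compl.closure_eq
  have hIJ : I ⊔ J = ⊤ := by
    rw [← PrimeSpectrum.zeroLocus_empty_iff_eq_top, PrimeSpectrum.zeroLocus_sup, hZ]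
    rw [Set.eq_empty_iff_forall_notMem]
    rintro p ⟨hp1, hp2⟩
    exact hp2 (hVI hp1)
  obtain ⟨i, hi, j, hj, hij⟩ := Submodule.mem_sup.mp (hIJ ▸ Submodule.mem_top : (1 : A) ∈ I ⊔ J)
  have hjU : ∀ p : PrimeSpectrum A, p ∉ U → j ∈ p.asIdeal := by
    intro p hp
    exact (PrimeSpectrum.mem_vanishingIdeal _ _).mp hj p hp
  -- the covering algebra
  let C := Localization.Away i
  let B' := ∀ b, Fam B C b
  have hB'et : Algebra.Etale A B' := inferInstance
  have hB'flat : Module.Flat A B' := inferInstance
  let evT : B' →+* B := Pi.evalRingHom (Fam B C) true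
  let evF : B' →+* C := Pi.evalRingHom (Fam B C) false
  have hevT : evT.comp (algebraMap A B') = algebraMap A B := rfl
  have hevF : evF.comp (algebraMap A B') = algebraMap A C := rfl
  have hsurj : Function.Surjective (PrimeSpectrum.comap (algebraMap A B')) := by
    intro p
    by_cases hp : p ∈ U
    · obtain ⟨q, rfl⟩ := hp
      refine ⟨PrimeSpectrum.comap evT q, ?_⟩
      apply PrimeSpectrum.ext
      show Ideal.comap (algebraMap A B') (Ideal.comap evT q.asIdeal) =
        Ideal.comap (algebraMap A B) q.asIdeal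
      rw [Ideal.comap_comap, hevT]
    · have hjp := hjU p hp
      have hip : i ∉ p.asIdeal := by
        intro hip
        apply p.isPrime.ne_top
        rw [Ideal.eq_top_iff_one, ← hij]
        exact Ideal.add_mem _ hip hjp
      have hdisj : Disjoint (Submonoid.powers i : Set A) (p.asIdeal : Set A) :=
        (Ideal.disjoint_powers_iff_notMem i p.isPrime.isRadical).mpr hip
      have hprime : (p.asIdeal.map (algebraMap A C)).IsPrime :=
        IsLocalization.isPrime_of_isPrime_disjoint (Submonoid.powers i) C _ p.isPrime hdisj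
      have hcomap : (p.asIdeal.map (algebraMap A C)).comap (algebraMap A C) = p.asIdeal :=
        IsLocalization.under_map_of_isPrime_disjoint (Submonoid.powers i) C p.isPrime hdisj
      refine ⟨PrimeSpectrum.comap evF ⟨_, hprime⟩, ?_⟩
      apply PrimeSpectrum.ext
      show Ideal.comap (algebraMap A B') (Ideal.comap evF
        (p.asIdeal.map (algebraMap A C))) = p.asIdeal
      rw [Ideal.comap_comap, hevF]
      exact hcomap
  have hB'ff : Module.FaithfullyFlat A B' := Module.FaithfullyFlat.of_comap_surjective hsurj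
  obtain ⟨r'⟩ := h B' hB'ff hB'et
  -- the idempotent of the second factor maps into `I`
  have hone : (1 : B') = Pi.single true (1 : B) + Pi.single false (1 : C) := by
    funext b
    cases b
    · show (1 : C) = (Pi.single true (1 : B) : B') false + (Pi.single false (1 : C) : B') false
      rw [Pi.single_eq_same, Pi.single_eq_of_ne (by decide), zero_add]
    · show (1 : B) = (Pi.single true (1 : B) : B') true + (Pi.single false (1 : C) : B') true
      rw [Pi.single_eq_same, Pi.single_eq_of_ne (by decide), add_zero]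
  have hfalse : r' (Pi.single false (1 : C)) ∈ I := by
    have h1 : (Pi.single false (1 : C) : B') =
        i • (Pi.single false (IsLocalization.Away.invSelf i : C) : B') := by
      rw [← Pi.single_smul]
      congr 1
      rw [Algebra.smul_def]
      exact (IsLocalization.Away.mul_invSelf i).symm
    rw [h1, map_smul, smul_eq_mul]
    exact Ideal.mul_mem_right _ _ hi
  have htrue : Ideal.Quotient.mk I (r' (Pi.single true (1 : B))) = 1 := by
    have h1 : r' (Pi.single true (1 : B)) = 1 - r' (Pi.single false (1 : C)) := by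
      rw [eq_sub_iff_add_eq, ← map_add, ← hone, map_one]
    rw [h1, map_sub, map_one, Ideal.Quotient.eq_zero_iff_mem.mpr hfalse, sub_zero]
  let ρ₀ : B →ₐ[A] A ⧸ I :=
    { toFun := fun b => Ideal.Quotient.mk I (r' (Pi.single true b))
      map_one' := htrue
      map_mul' := fun x y => by
        rw [← map_mul, ← map_mul, ← Pi.single_mul]
      map_zero' := by simp
      map_add' := fun x y => by
        rw [← map_add, ← map_add, ← Pi.single_add]
      commutes' := fun a => by
        have h1 : (Pi.single true (algebraMap A B a) : B') = a • Pi.single true (1 : B) := by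
          rw [← Pi.single_smul, Algebra.smul_def, mul_one]
        show Ideal.Quotient.mk I (r' (Pi.single true (algebraMap A B a))) = _
        rw [h1, map_smul, smul_eq_mul, map_mul, htrue, mul_one]
        rfl }
  let ρ : (A ⧸ I) ⊗[A] B →ₐ[A ⧸ I] A ⧸ I :=
    Algebra.TensorProduct.lift (AlgHom.id (A ⧸ I) (A ⧸ I)) ρ₀ (fun _ _ => Commute.all _ _)
  exact ⟨ρ.comp e.symm.toAlgHom⟩

end Groth.Agent.Helper26.EtRetr
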