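import Mathlib
import Groth.Prelude.Def_ProEtW
import Groth.Agent.Lib.Helper26.EtRetr1

/-! # Retractions of étale algebras covering a closed set -/

set_option autoImplicit false

namespace Groth.Agent.Helper26.EtRetr

open TensorProduct

universe u

/-- If all faithfully flat étale `A`-algebras have retractions and `C₀` is an étale `A`-algebra
whose image in `Spec A` contains `V(I)`, then there is an idempotent `ε ∈ I` and an `A`-algebra
map `C₀ → A/(ε)`. -/
theorem exists_idempotent_algHom (A : Type u) [CommRing A] (h : ProEtW.HasEtaleRetractions A)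
    (I : Ideal A) (C₀ : Type u) [CommRing C₀] [Algebra A C₀] [Algebra.Etale A C₀]
    (hVI : PrimeSpectrum.zeroLocus (I : Set A) ⊆
      Set.range (PrimeSpectrum.comap (algebraMap A C₀))) :
    ∃ ε ∈ I, IsIdempotentElem ε ∧ Nonempty (C₀ →ₐ[A] A ⧸ Ideal.span {ε}) := by
  classical
  have hopen : IsOpenMap (PrimeSpectrum.comap (algebraMap A C₀)) :=
    PrimeSpectrum.isOpenMap_comap_of_hasGoingDown_of_finitePresentation
  set U := Set.range (PrimeSpectrum.comap (algebraMap A C₀)) with hUdef
  have hU : IsOpen U := hopen.isOpen_range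
  set J := PrimeSpectrum.vanishingIdeal Uᶜ with hJ
  have hZ : PrimeSpectrum.zeroLocus (J : Set A) = Uᶜ := by
    rw [hJ, PrimeSpectrum.zeroLocus_vanishingIdeal_eq_closure]
    exact hU.isClosed_compl.closure_eq
  have hIJ : I ⊔ J = ⊤ := by
    rw [← PrimeSpectrum.zeroLocus_empty_iff_eq_top, PrimeSpectrum.zeroLocus_sup, hZ]
    rw [Set.eq_empty_iff_forall_notMem]
    rintro p ⟨hp1, hp2⟩
    exact hp2 (hVI hp1)
  obtain ⟨i, hi, j, hj, hij⟩ := Submodule.mem_sup.mp (hIJ ▸ Submodule.mem_top : (1 : A) ∈ I ⊔ J)
  have hjU : ∀ p : PrimeSpectrum A, p ∉ U → j ∈ p.asIdeal := by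
    intro p hp
    exact (PrimeSpectrum.mem_vanishingIdeal _ _).mp hj p hp
  let C := Localization.Away i
  let B' := ∀ b, Fam C₀ C b
  have hB'et : Algebra.Etale A B' := inferInstance
  have hB'flat : Module.Flat A B' := inferInstance
  let evT : B' →+* C₀ := Pi.evalRingHom (Fam C₀ C) true
  let evF : B' →+* C := Pi.evalRingHom (Fam C₀ C) false
  have hevT : evT.comp (algebraMap A B') = algebraMap A C₀ := rfl
  have hevF : evF.comp (algebraMap A B') = algebraMap A C := rfl
  have hsurj : Function.Surjective (PrimeSpectrum.comap (algebraMap A B')) := by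
    intro p
    by_cases hp : p ∈ U
    · obtain ⟨q, rfl⟩ := hp
      refine ⟨PrimeSpectrum.comap evT q, ?_⟩
      apply PrimeSpectrum.ext
      show Ideal.comap (algebraMap A B') (Ideal.comap evT q.asIdeal) =
        Ideal.comap (algebraMap A C₀) q.asIdeal
      rw [Ideal.comap_comap, hevT]
    · have hjp := hjU p hp
      have hip : i ∉ p.asIdeal := by
        intro hip
        apply p.isPrime.ne_top
        rw [Ideal.eq_top_iff_one, ← hij]
        exact Ideal.add_mem _ hip hjp
      have hdisj : Disjoint (Submonoid.powers i : Set A) (p.asIdeal : Set A) :=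
        (Ideal.disjoint_powers_iff_notMem i p.isPrime.isRadical).mpr hip
      have hprime : (p.asIdeal.map (algebraMap A C)).IsPrime :=
        IsLocalization.isPrime_of_isPrime_disjoint (Submonoid.powers i) C _ p.isPrime hdisj
      have hcomap : (p.asIdeal.map (algebraMap A C)).comap (algebraMap A C) = p.asIdeal :=
        IsLocalization.under_map_of_isPrime_disjoint (Submonoid.powers i) C p.isPrime hdisj
      refine ⟨PrimeSpectrum.comap evF ⟨_, hprime⟩, ?_⟩
      apply PrimeSpectrum.ext
      show Ideal.comap (algebraMap A B') (Ideal.comap evF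
        (p.asIdeal.map (algebraMap A C))) = p.asIdeal
      rw [Ideal.comap_comap, hevF]
      exact hcomap
  have hB'ff : Module.FaithfullyFlat A B' := Module.FaithfullyFlat.of_comap_surjective hsurj
  obtain ⟨r'⟩ := h B' hB'ff hB'et
  have hone : (1 : B') = Pi.single true (1 : C₀) + Pi.single false (1 : C) := by
    funext b
    cases b
    · show (1 : C) = (Pi.single true (1 : C₀) : B') false + (Pi.single false (1 : C) : B') false
      rw [Pi.single_eq_same, Pi.single_eq_of_ne (by decide), zero_add]
    · show (1 : C₀) = (Pi.single true (1 : C₀) : B') true + (Pi.single false (1 : C) : B') true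
      rw [Pi.single_eq_same, Pi.single_eq_of_ne (by decide), add_zero]
  set ε := r' (Pi.single false (1 : C)) with hε
  have hεI : ε ∈ I := by
    have h1 : (Pi.single false (1 : C) : B') =
        i • (Pi.single false (IsLocalization.Away.invSelf i : C) : B') := by
      rw [← Pi.single_smul]
      congr 1
      rw [Algebra.smul_def]
      exact (IsLocalization.Away.mul_invSelf i).symm
    rw [hε, h1, map_smul, smul_eq_mul]
    exact Ideal.mul_mem_right _ _ hi
  have hεidem : IsIdempotentElem ε := by
    show ε * ε = ε
    rw [hε, ← map_mul, ← Pi.single_mul, mul_one]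
  have htrue : r' (Pi.single true (1 : C₀)) = 1 - ε := by
    rw [eq_sub_iff_add_eq, hε, ← map_add, ← hone, map_one]
  have hmk : Ideal.Quotient.mk (Ideal.span {ε}) (r' (Pi.single true (1 : C₀))) = 1 := by
    rw [htrue, map_sub, map_one,
      Ideal.Quotient.eq_zero_iff_mem.mpr (Ideal.subset_span (Set.mem_singleton ε)), sub_zero]
  refine ⟨ε, hεI, hεidem, ⟨?_⟩⟩
  exact
    { toFun := fun b => Ideal.Quotient.mk (Ideal.span {ε}) (r' (Pi.single true b))
      map_one' := hmk
      map_mul' := fun x y => by
        rw [← map_mul, ← map_mul, ← Pi.single_mul]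
      map_zero' := by simp
      map_add' := fun x y => by
        rw [← map_add, ← map_add, ← Pi.single_add]
      commutes' := fun a => by
        have h1 : (Pi.single true (algebraMap A C₀ a) : B') = a • Pi.single true (1 : C₀) := by
          rw [← Pi.single_smul, Algebra.smul_def, mul_one]
        show Ideal.Quotient.mk (Ideal.span {ε}) (r' (Pi.single true (algebraMap A C₀ a))) = _
        rw [h1, map_smul, smul_eq_mul, map_mul, hmk, mul_one]
        rfl }

end Groth.Agent.Helper26.EtRetr
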