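import Mathlib

/-! # Étale algebras over a localization descend -/

set_option autoImplicit false

namespace Groth.Agent.Helper26.EtRetr

open TensorProduct MvPolynomial Algebra

universe u

attribute [local instance] MvPolynomial.algebraMvPolynomial

/-- An étale algebra `E` over a localization `B = S⁻¹A` comes from an étale `A`-algebra `E₀`:
there is `ψ : E₀ → E` over `A` such that every `A`-algebra map from `E₀` to a `B`-algebra `D`
extends to a `B`-algebra map `E → D`. -/
theorem exists_etale_descent (A B : Type u) [CommRing A] [CommRing B] [Algebra A B]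
    (S : Submonoid A) [IsLocalization S B] (E : Type u) [CommRing E] [Algebra B E] [Algebra A E]
    [IsScalarTower A B E] [Algebra.Etale B E] :
    ∃ (E₀ : Type u) (_ : CommRing E₀) (_ : Algebra A E₀), Algebra.Etale A E₀ ∧
      ∃ _ : E₀ →ₐ[A] E, ∀ (D : Type u) [CommRing D] [Algebra B D] [Algebra A D]
        [IsScalarTower A B D] (_ : E₀ →ₐ[A] D), Nonempty (E →ₐ[B] D) := by
  classical
  have hss : Algebra.IsStandardSmoothOfRelativeDimension 0 B E :=
    Algebra.Etale.iff_isStandardSmoothOfRelativeDimension_zero.mp inferInstance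
  obtain ⟨ι, σ, _, _, P, hP⟩ := hss.out
  cases nonempty_fintype σ
  have hden : ∀ j : σ, ∃ (v : MvPolynomial ι A) (s : A), s ∈ S ∧
      MvPolynomial.map (algebraMap A B) v = P.relation j * C (algebraMap A B s) := by
    intro j
    obtain ⟨⟨v, ⟨_, s, hs, rfl⟩⟩, h⟩ :=
      IsLocalization.surj (S.map (C : A →+* MvPolynomial ι A)) (P.relation j)
    refine ⟨v, s, hs, ?_⟩
    have h' : P.relation j * MvPolynomial.map (algebraMap A B) (C s) =
        MvPolynomial.map (algebraMap A B) v := h
    rw [← h', MvPolynomial.map_C]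
  choose v s hs hv using hden
  let P₀ : PreSubmersivePresentation A (MvPolynomial ι A ⧸ Ideal.span (Set.range v)) ι σ :=
    PreSubmersivePresentation.naive (v := v) P.map P.map_inj
  have haeval : ∀ p : MvPolynomial ι A, (aeval P.val : MvPolynomial ι A →ₐ[A] E) p =
      aeval P.val (MvPolynomial.map (algebraMap A B) p) := by
    intro p
    exact (MvPolynomial.aeval_map_algebraMap B P.val p).symm
  have hvan : ∀ p ∈ Ideal.span (Set.range v), (aeval P.val : MvPolynomial ι A →ₐ[A] E) p = 0 := by
    intro p hp
    have hle : Ideal.span (Set.range v) ≤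
        RingHom.ker (aeval P.val : MvPolynomial ι A →ₐ[A] E).toRingHom := by
      rw [Ideal.span_le]
      rintro _ ⟨j, rfl⟩
      show aeval P.val (v j) = 0
      rw [haeval, hv, map_mul, P.aeval_val_relation, zero_mul]
    exact hle hp
  let ψ₀ : (MvPolynomial ι A ⧸ Ideal.span (Set.range v)) →ₐ[A] E :=
    Ideal.Quotient.liftₐ _ (aeval P.val) hvan
  have hψ₀mk : ∀ p : MvPolynomial ι A, ψ₀ (Ideal.Quotient.mk _ p) = aeval P.val p := fun p => rfl
  have hsunit : ∀ j, IsUnit (algebraMap B E (algebraMap A B (s j))) := fun j =>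
    (IsLocalization.map_units B ⟨s j, hs j⟩).map _
  have hjac : ψ₀ P₀.jacobian = (∏ j, algebraMap B E (algebraMap A B (s j))) * P.jacobian := by
    rw [PreSubmersivePresentation.jacobian_eq_jacobiMatrix_det,
      PreSubmersivePresentation.jacobian_eq_jacobiMatrix_det]
    have h1 : algebraMap P₀.Ring (MvPolynomial ι A ⧸ Ideal.span (Set.range v))
        P₀.jacobiMatrix.det = Ideal.Quotient.mk _ P₀.jacobiMatrix.det := rfl
    rw [h1, hψ₀mk, haeval, Generators.algebraMap_apply]
    have h2 : (aeval P.val : MvPolynomial ι B →ₐ[B] E) P.jacobiMatrix.det =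
        ((aeval P.val : MvPolynomial ι B →ₐ[B] E).mapMatrix P.jacobiMatrix).det :=
      AlgHom.map_det _ _
    have h3 : (aeval P.val : MvPolynomial ι B →ₐ[B] E)
        (MvPolynomial.map (algebraMap A B) P₀.jacobiMatrix.det) =
        (Matrix.of fun i j => algebraMap B E (algebraMap A B (s j)) *
          ((aeval P.val : MvPolynomial ι B →ₐ[B] E).mapMatrix P.jacobiMatrix) i j).det := by
      rw [RingHom.map_det, AlgHom.map_det]
      congr 1
      refine Matrix.ext fun i j => ?_
      simp only [RingHom.mapMatrix_apply, Matrix.map_apply, AlgHom.mapMatrix_apply,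
        Matrix.of_apply]
      rw [PreSubmersivePresentation.jacobiMatrix_apply,
        PreSubmersivePresentation.jacobiMatrix_apply]
      change aeval P.val (MvPolynomial.map (algebraMap A B) ((v j).pderiv (P.map i))) = _
      rw [← MvPolynomial.pderiv_map, hv, Derivation.leibniz, pderiv_C, smul_zero, zero_add,
        smul_eq_mul, map_mul, aeval_C, mul_comm]
    rw [h2, h3, Matrix.det_mul_row]
  have hjacunit : IsUnit (ψ₀ P₀.jacobian) := by
    rw [hjac]
    refine IsUnit.mul ?_ P.jacobian_isUnit
    exact (Finset.univ.prod_induction _ IsUnit (fun _ _ ha hb => ha.mul hb) isUnit_one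
      (fun j _ => hsunit j))
  let E₀ := Localization.Away P₀.jacobian
  have hE₀et : Algebra.Etale A E₀ := by
    let Q : PreSubmersivePresentation _ (Localization.Away P₀.jacobian) Unit Unit :=
      PreSubmersivePresentation.localizationAway (Localization.Away P₀.jacobian) P₀.jacobian
    let PP : SubmersivePresentation A (Localization.Away P₀.jacobian) (Unit ⊕ ι) (Unit ⊕ σ) :=
      { toPreSubmersivePresentation := Q.comp P₀
        jacobian_isUnit := by
          rw [PreSubmersivePresentation.comp_jacobian_eq_jacobian_smul_jacobian,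
            PreSubmersivePresentation.localizationAway_jacobian, Algebra.smul_def]
          exact (IsLocalization.Away.algebraMap_isUnit _).mul
            (IsLocalization.Away.algebraMap_isUnit _) }
    have hdim : PP.dimension = 0 := by
      show (Q.comp P₀).dimension = 0
      rw [PreSubmersivePresentation.dimension_comp_eq_dimension_add_dimension]
      have h1 : Q.dimension = 0 := by simp [Presentation.dimension]
      have h2 : P₀.dimension = 0 := hP
      rw [h1, h2]
    have := PP.isStandardSmoothOfRelativeDimension hdim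
    infer_instance
  let ψ : E₀ →ₐ[A] E := IsLocalization.liftAlgHom (M := Submonoid.powers P₀.jacobian) (f := ψ₀) (by
    rintro ⟨_, n, rfl⟩
    rw [map_pow]
    exact hjacunit.pow n)
  refine ⟨E₀, inferInstance, inferInstance, hE₀et, ψ, ?_⟩
  intro D _ _ _ _ ρ₀
  let x : ι → D := fun k => ρ₀ (algebraMap (MvPolynomial ι A ⧸ Ideal.span (Set.range v)) E₀
    (Ideal.Quotient.mk _ (X k)))
  let g : MvPolynomial ι B →ₐ[B] D := aeval x
  have hg : ∀ p : MvPolynomial ι A, g (MvPolynomial.map (algebraMap A B) p) =
      ρ₀ (algebraMap (MvPolynomial ι A ⧸ Ideal.span (Set.range v)) E₀ (Ideal.Quotient.mk _ p)) := by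
    intro p
    have h1 : g (MvPolynomial.map (algebraMap A B) p) = (aeval x : MvPolynomial ι A →ₐ[A] D) p :=
      MvPolynomial.aeval_map_algebraMap B x p
    rw [h1]
    have h2 : (aeval x : MvPolynomial ι A →ₐ[A] D) =
        (ρ₀.comp (IsScalarTower.toAlgHom A (MvPolynomial ι A ⧸ Ideal.span (Set.range v)) E₀)).comp
          (Ideal.Quotient.mkₐ A (Ideal.span (Set.range v))) := by
      apply MvPolynomial.algHom_ext
      intro k
      simp [x]
    rw [h2]
    rfl
  have hgrel : ∀ j, g (P.relation j) = 0 := by
    intro j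
    have h1 : g (MvPolynomial.map (algebraMap A B) (v j)) = 0 := by
      have h0 : (Ideal.Quotient.mk (Ideal.span (Set.range v))) (v j) = 0 :=
        Ideal.Quotient.eq_zero_iff_mem.mpr (Ideal.subset_span (Set.mem_range_self j))
      rw [hg, h0, map_zero, map_zero]
    rw [hv, map_mul] at h1
    have h2 : IsUnit (g (C (algebraMap A B (s j)))) := by
      have : g (C (algebraMap A B (s j))) = algebraMap B D (algebraMap A B (s j)) := by
        simp [g]
      rw [this]
      exact (IsLocalization.map_units B ⟨s j, hs j⟩).map _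
    exact h2.mul_left_eq_zero.mp h1
  have hker : RingHom.ker (aeval P.val : MvPolynomial ι B →ₐ[B] E) ≤ RingHom.ker g := by
    have h1 : RingHom.ker (aeval P.val : MvPolynomial ι B →ₐ[B] E) = P.ker :=
      P.ker_eq_ker_aeval_val.symm
    rw [h1, ← P.span_range_relation_eq_ker, Ideal.span_le]
    rintro _ ⟨j, rfl⟩
    exact hgrel j
  have hsurjE : Function.Surjective (aeval P.val : MvPolynomial ι B →ₐ[B] E) := by
    intro e
    obtain ⟨p, hp⟩ := P.algebraMap_surjective e
    exact ⟨p, by rw [← hp, Generators.algebraMap_apply]⟩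
  exact ⟨AlgHom.liftOfSurjective (aeval P.val : MvPolynomial ι B →ₐ[B] E) hsurjE g hker⟩

end Groth.Agent.Helper26.EtRetr
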