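import Mathlib
import Groth.Prelude.Def_ProEtW
import Groth.Agent.Lib.Helper26.EtRetr2
import Groth.Agent.Lib.Helper26.EtRetr3

/-! # Étale retractions for localizations at specializing sets (S0708) -/

set_option autoImplicit false

namespace Groth.Agent.Helper26.EtRetr

open TensorProduct

universe u

theorem S0708 (A B : Type u) [CommRing A] [CommRing B]
    [Algebra A B] (S : Submonoid A) [IsLocalization S B] (I : Ideal A)
    (hB : Set.range (PrimeSpectrum.comap (algebraMap A B)) =
      {x | ∃ z : PrimeSpectrum A, z ∈ PrimeSpectrum.zeroLocus (R := A) I ∧ x ⤳ z})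
    (hA : ProEtW.HasEtaleRetractions A) : ProEtW.HasEtaleRetractions B := by
  classical
  intro E _ _ hff het
  let _ : Algebra A E := ((algebraMap B E).comp (algebraMap A B)).toAlgebra
  have : IsScalarTower A B E := IsScalarTower.of_algebraMap_eq (fun _ => rfl)
  obtain ⟨E₀, _, _, hE₀et, ψ, hext⟩ := exists_etale_descent A B S E
  -- the image of `Spec E₀` contains `V(I)`
  have hVI : PrimeSpectrum.zeroLocus (I : Set A) ⊆
      Set.range (PrimeSpectrum.comap (algebraMap A E₀)) := by
    intro z hz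
    have h1 : z ∈ Set.range (PrimeSpectrum.comap (algebraMap A B)) := by
      rw [hB]
      exact ⟨z, hz, specializes_rfl⟩
    obtain ⟨𝔭, rfl⟩ := h1
    obtain ⟨𝔮, rfl⟩ := PrimeSpectrum.comap_surjective_of_faithfullyFlat (A := B) (B := E) 𝔭
    refine ⟨PrimeSpectrum.comap (ψ : E₀ →+* E) 𝔮, ?_⟩
    apply PrimeSpectrum.ext
    show Ideal.comap (algebraMap A E₀) (Ideal.comap (ψ : E₀ →+* E) 𝔮.asIdeal) =
      Ideal.comap (algebraMap A B) (Ideal.comap (algebraMap B E) 𝔮.asIdeal)
    rw [Ideal.comap_comap, Ideal.comap_comap, AlgHom.comp_algebraMap,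
      ← IsScalarTower.algebraMap_eq]
  obtain ⟨ε, hεI, hεidem, ⟨φ⟩⟩ := exists_idempotent_algHom A hA I E₀ hVI
  -- `ε` dies in `B`
  have hεB : algebraMap A B ε = 0 := by
    have hidem : IsIdempotentElem (algebraMap A B ε) := hεidem.map _
    have hnil : IsNilpotent (algebraMap A B ε) := by
      rw [← mem_nilradical, nilradical_eq_sInf, Ideal.mem_sInf]
      intro 𝔮 h𝔮
      have h𝔮' : 𝔮.IsPrime := h𝔮
      have h1 : PrimeSpectrum.comap (algebraMap A B) ⟨𝔮, h𝔮'⟩ ∈
          Set.range (PrimeSpectrum.comap (algebraMap A B)) := ⟨_, rfl⟩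
      rw [hB] at h1
      obtain ⟨z, hz, hspec⟩ := h1
      have hle : (PrimeSpectrum.comap (algebraMap A B) ⟨𝔮, h𝔮'⟩).asIdeal ≤ z.asIdeal :=
        (PrimeSpectrum.le_iff_specializes _ _).mpr hspec
      have hεz : ε ∈ z.asIdeal := hz hεI
      by_contra hε𝔮
      have h2 : ε * (1 - ε) = 0 := by
        rw [mul_sub, mul_one, hεidem.eq, sub_self]
      have h3 : algebraMap A B ε * algebraMap A B (1 - ε) ∈ 𝔮 := by
        rw [← map_mul, h2, map_zero]
        exact zero_mem _
      have h4 : algebraMap A B (1 - ε) ∈ 𝔮 := (h𝔮'.mem_or_mem h3).resolve_left hε𝔮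
      have h5 : (1 - ε) ∈ z.asIdeal := hle h4
      apply z.isPrime.ne_top
      rw [Ideal.eq_top_iff_one]
      have : (1 : A) = ε + (1 - ε) := by ring
      rw [this]
      exact Ideal.add_mem _ hεz h5
    obtain ⟨n, hn⟩ := hnil
    cases n with
    | zero =>
      rw [pow_zero] at hn
      have : Subsingleton B := subsingleton_of_zero_eq_one hn.symm
      exact Subsingleton.elim _ _
    | succ n =>
      rw [← hidem.pow_succ_eq n]
      exact hn
  let ρ₀ : E₀ →ₐ[A] B := (Ideal.Quotient.liftₐ (Ideal.span {ε}) (Algebra.ofId A B) (by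
      intro a ha
      obtain ⟨c, rfl⟩ := Ideal.mem_span_singleton'.mp ha
      show algebraMap A B (c * ε) = 0
      rw [map_mul, hεB, mul_zero])).comp φ
  exact hext B ρ₀

end Groth.Agent.Helper26.EtRetr
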