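import Mathlib
import Groth.Agent.Lib.Helper26.EtSecPt1

/-!
# Sections of étale morphisms through points characterise strictly henselian rings (helper26)
-/

set_option autoImplicit false
set_option linter.unusedSectionVars false
set_option linter.style.haveILetI false

open CategoryTheory CategoryTheory.Limits AlgebraicGeometry IsLocalRing Polynomial

namespace Groth.Agent.Helper26.EtSecPt

universe u

/-- the hypothesis: étale morphisms have sections through points of the closed fibre -/
def HasSections (A : Type u) [CommRing A] [IsLocalRing A] : Prop :=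
  ∀ (X : Scheme.{u}) (f : X ⟶ Spec (CommRingCat.of A)), Etale f →
    ∀ x : X, f.base x = closedPoint A →
      ∃ u : Spec (CommRingCat.of A) ⟶ X, u ≫ f = 𝟙 _ ∧ u.base (closedPoint A) = x

variable {A : Type u} [CommRing A] [IsLocalRing A]

theorem exists_retraction (H : HasSections A) (P : StandardEtalePair A) (K : Type u) [Field K]
    [Algebra A K] (hker : RingHom.ker (algebraMap A K) = maximalIdeal A) (χ : P.Ring →ₐ[A] K) :
    ∃ ρ : P.Ring →ₐ[A] A, (maximalIdeal A).comap ρ.toRingHom = RingHom.ker χ.toRingHom := by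
  let T := P.Ring
  let f : Spec (CommRingCat.of T) ⟶ Spec (CommRingCat.of A) :=
    Spec.map (CommRingCat.ofHom (algebraMap A T))
  have hEt : Etale f :=
    (HasRingHomProperty.Spec_iff (P := @Etale)).mpr (RingHom.etale_algebraMap.mpr inferInstance)
  haveI : (RingHom.ker χ.toRingHom).IsPrime := RingHom.ker_isPrime _
  let x : Spec (CommRingCat.of T) := ⟨RingHom.ker χ.toRingHom, inferInstance⟩
  have hx : f.base x = closedPoint A := by
    apply PrimeSpectrum.ext
    change Ideal.comap (algebraMap A T) (RingHom.ker χ.toRingHom) = maximalIdeal A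
    rw [← hker]
    ext a
    rw [Ideal.mem_comap, RingHom.mem_ker, RingHom.mem_ker]
    change χ (algebraMap A T a) = 0 ↔ _
    rw [χ.commutes]
  obtain ⟨u, hu1, hu2⟩ := H _ f hEt x hx
  let ρ₀ : CommRingCat.of T ⟶ CommRingCat.of A := Spec.preimage u
  have hρ₀ : Spec.map ρ₀ = u := Spec.map_preimage _
  have hcomp : CommRingCat.ofHom (algebraMap A T) ≫ ρ₀ = 𝟙 _ := by
    apply Spec.map_injective
    rw [Spec.map_comp, hρ₀, Spec.map_id]
    exact hu1
  let ρ : T →ₐ[A] A :=
    { ρ₀.hom with
      commutes' := fun a => by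
        have := congrArg (fun ψ => ψ.hom a) hcomp
        exact this }
  refine ⟨ρ, ?_⟩
  have h1 : (Spec.map ρ₀).base (closedPoint A) = x := by rw [hρ₀]; exact hu2
  exact congrArg PrimeSpectrum.asIdeal h1

theorem henselian_of_hasSections (H : HasSections A) : HenselianLocalRing A := by
  refine ⟨fun f hf a₀ h₁ h₂ => ?_⟩
  let P : StandardEtalePair A := ⟨f, hf, f.derivative, ⟨1, 0, 1, by ring⟩⟩
  let k := ResidueField A
  have hker : RingHom.ker (algebraMap A k) = maximalIdeal A := IsLocalRing.ker_residue
  have hmap : P.HasMap (residue A a₀) := by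
    constructor
    · change aeval (algebraMap A k a₀) f = 0
      rw [aeval_algebraMap_apply, Polynomial.coe_aeval_eq_eval]
      exact (residue_eq_zero_iff _).2 h₁
    · change IsUnit (aeval (algebraMap A k a₀) f.derivative)
      rw [aeval_algebraMap_apply, Polynomial.coe_aeval_eq_eval]
      exact h₂.map _
  let χ : P.Ring →ₐ[A] k := P.lift (residue A a₀) hmap
  obtain ⟨ρ, hρ⟩ := exists_retraction H P k hker χ
  refine ⟨ρ P.X, ?_, ?_⟩
  · change f.eval (ρ P.X) = 0
    have h3 : aeval (ρ P.X) f = ρ (aeval P.X f) := (aeval_algHom_apply ρ P.X f)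
    have h4 : aeval P.X P.f = 0 := (StandardEtalePair.hasMap_X (P := P)).1
    have h5 : aeval (ρ P.X) f = f.eval (ρ P.X) := by
      rw [Polynomial.coe_aeval_eq_eval]
    rw [← h5, h3]
    change ρ (aeval P.X P.f) = 0
    rw [h4, map_zero]
  · have h6 : P.X - algebraMap A P.Ring a₀ ∈ RingHom.ker χ.toRingHom := by
      rw [RingHom.mem_ker]
      change χ (P.X - algebraMap A P.Ring a₀) = 0
      rw [map_sub, StandardEtalePair.lift_X, χ.commutes]
      exact sub_self (residue A a₀)
    rw [← hρ, Ideal.mem_comap] at h6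
    change ρ (P.X - algebraMap A P.Ring a₀) ∈ _ at h6
    rwa [map_sub, ρ.commutes] at h6

theorem isSepClosed_of_hasSections (H : HasSections A) : IsSepClosed (ResidueField A) := by
  let k := ResidueField A
  refine IsSepClosed.of_exists_root k ?_
  intro pbar hmonic hirr hsep
  obtain ⟨p, hp, -, hpm⟩ := lifts_and_natDegree_eq_and_monic
    (mem_lifts_of_surjective (f := residue A) residue_surjective pbar) hmonic
  let P : StandardEtalePair A := ⟨p, hpm, p.derivative, ⟨1, 0, 1, by ring⟩⟩
  haveI : Fact (Irreducible pbar) := ⟨hirr⟩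
  let K := AdjoinRoot pbar
  letI : Algebra A K := ((algebraMap k K).comp (residue A)).toAlgebra
  have hker : RingHom.ker (algebraMap A K) = maximalIdeal A := by
    ext a
    rw [RingHom.mem_ker]
    change algebraMap k K (residue A a) = 0 ↔ _
    rw [map_eq_zero_iff _ (algebraMap k K).injective]
    exact residue_eq_zero_iff a
  let ξ : K := AdjoinRoot.root pbar
  have haev : ∀ g : A[X], aeval ξ g = eval₂ (AdjoinRoot.of pbar) ξ (g.map (residue A)) := by
    intro g
    rw [aeval_def, eval₂_map]
    rfl
  have hmap : P.HasMap ξ := by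
    constructor
    · change aeval ξ p = 0
      rw [haev, hp]
      exact AdjoinRoot.eval₂_root pbar
    · change IsUnit (aeval ξ p.derivative)
      rw [haev, ← derivative_map, hp]
      obtain ⟨a, b, hab⟩ := hsep
      have h1 := congrArg (eval₂ (AdjoinRoot.of pbar) ξ) hab
      rw [eval₂_add, eval₂_mul, eval₂_mul, AdjoinRoot.eval₂_root, mul_zero, zero_add,
        eval₂_one] at h1
      exact IsUnit.of_mul_eq_one _ (by rw [mul_comm]; exact h1)
  let χ : P.Ring →ₐ[A] K := P.lift ξ hmap
  obtain ⟨ρ, -⟩ := exists_retraction H P K hker χ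
  refine ⟨residue A (ρ P.X), ?_⟩
  have h3 : aeval (ρ P.X) p = ρ (aeval P.X p) := (aeval_algHom_apply ρ P.X p)
  have h4 : aeval P.X P.f = 0 := (StandardEtalePair.hasMap_X (P := P)).1
  have h5 : p.eval (ρ P.X) = 0 := by
    have : aeval (ρ P.X) p = p.eval (ρ P.X) := by rw [Polynomial.coe_aeval_eq_eval]
    rw [← this, h3]
    change ρ (aeval P.X P.f) = 0
    rw [h4, map_zero]
  rw [← hp, Polynomial.eval_map, eval₂_at_apply, h5, map_zero]

end Groth.Agent.Helper26.EtSecPt
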