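import Mathlib

set_option autoImplicit false

namespace Groth.Agent.Helper26.EulerAbel

open Finset Filter Topology

/-- recursion for the Euler numbers, from the generating function. -/
lemma euler_rec (E : ℕ → ℚ)
    (hE : PowerSeries.mk (fun j => E j / (j.factorial : ℚ)) * (PowerSeries.exp ℚ + 1) = 2) (n : ℕ) :
    2 * E n + ∑ j ∈ range n, (n.choose j : ℚ) * E j = if n = 0 then 2 else 0 := by
  have h := congrArg (PowerSeries.coeff n) hE
  rw [mul_add, mul_one, map_add, PowerSeries.coeff_mul, PowerSeries.coeff_mk,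
    Finset.Nat.sum_antidiagonal_eq_sum_range_succ_mk] at h
  simp only [PowerSeries.coeff_mk, PowerSeries.coeff_exp, Algebra.algebraMap_self, RingHom.id_apply] at h
  have h2 : PowerSeries.coeff n (2 : PowerSeries ℚ) = if n = 0 then 2 else 0 := by
    have : (2 : PowerSeries ℚ) = PowerSeries.C (2 : ℚ) := (map_ofNat (PowerSeries.C (R := ℚ)) 2).symm
    rw [this, PowerSeries.coeff_C]
  rw [h2] at h
  have hn : (n.factorial : ℚ) ≠ 0 := by exact_mod_cast n.factorial_ne_zero
  have key : ∀ j ∈ range (n + 1), (n.choose j : ℚ) * E j =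
      (n.factorial : ℚ) * (E j / (j.factorial : ℚ) * (1 / ((n - j).factorial : ℚ))) := by
    intro j hj
    have hj' : j ≤ n := Nat.lt_succ_iff.1 (mem_range.1 hj)
    rw [Nat.cast_choose ℚ hj']
    have h1 : (j.factorial : ℚ) ≠ 0 := by exact_mod_cast j.factorial_ne_zero
    have h3 : ((n - j).factorial : ℚ) ≠ 0 := by exact_mod_cast (n - j).factorial_ne_zero
    field_simp
  have : 2 * E n + ∑ j ∈ range n, (n.choose j : ℚ) * E j =
      (n.factorial : ℚ) * ((∑ j ∈ range (n + 1), E j / (j.factorial : ℚ) * (1 / ((n - j).factorial : ℚ)))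
        + E n / (n.factorial : ℚ)) := by
    rw [mul_add, Finset.mul_sum, ← Finset.sum_congr rfl key, Finset.sum_range_succ, Nat.choose_self]
    field_simp
    ring
  rw [this, h]
  split_ifs with h0
  · subst h0; simp
  · simp

/-- `F n y = Σ_k k^n y^k`. -/
noncomputable def F (n : ℕ) (y : ℂ) : ℂ := ∑' k : ℕ, (k : ℂ) ^ n * y ^ k

lemma summ (n : ℕ) (y : ℂ) (hy : ‖y‖ < 1) : Summable (fun k : ℕ => (k : ℂ) ^ n * y ^ k) :=
  summable_pow_mul_geometric_of_norm_lt_one n hy

lemma hasSumF (n : ℕ) (y : ℂ) (hy : ‖y‖ < 1) : HasSum (fun k : ℕ => (k : ℂ) ^ n * y ^ k) (F n y) :=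
  (summ n y hy).hasSum

lemma F_rec (n : ℕ) (y : ℂ) (hy : ‖y‖ < 1) :
    (1 - y) * F n y = (if n = 0 then 1 else 0) + y * ∑ j ∈ range n, (n.choose j : ℂ) * F j y := by
  -- shifted series
  have h1 : HasSum (fun k : ℕ => ((k + 1 : ℕ) : ℂ) ^ n * y ^ (k + 1))
      (F n y - ∑ i ∈ range 1, ((i : ℕ) : ℂ) ^ n * y ^ i) :=
    (hasSum_nat_add_iff' 1).2 (hasSumF n y hy)
  have h2 : HasSum (fun k : ℕ => ∑ j ∈ range (n + 1), (n.choose j : ℂ) * y * ((k : ℂ) ^ j * y ^ k))
      (∑ j ∈ range (n + 1), (n.choose j : ℂ) * y * F j y) :=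
    hasSum_sum (fun j _ => (hasSumF j y hy).mul_left _)
  have h3 : (fun k : ℕ => ((k + 1 : ℕ) : ℂ) ^ n * y ^ (k + 1)) =
      (fun k : ℕ => ∑ j ∈ range (n + 1), (n.choose j : ℂ) * y * ((k : ℂ) ^ j * y ^ k)) := by
    funext k
    rw [Nat.cast_add, Nat.cast_one, add_pow, Finset.sum_mul]
    apply Finset.sum_congr rfl
    intro j _
    rw [one_pow, mul_one, pow_succ]
    ring
  rw [h3] at h1
  have h4 := h1.unique h2
  rw [Finset.sum_range_one, Finset.sum_range_succ _ n, Nat.choose_self, Nat.cast_one, one_mul,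
    pow_zero, mul_one, Nat.cast_zero] at h4
  have h5 : (0 : ℂ) ^ n = if n = 0 then 1 else 0 := by
    split_ifs with h0
    · subst h0; simp
    · exact zero_pow h0
  rw [h5] at h4
  have h6 : ∑ j ∈ range n, (n.choose j : ℂ) * y * F j y = y * ∑ j ∈ range n, (n.choose j : ℂ) * F j y := by
    rw [Finset.mul_sum]
    apply Finset.sum_congr rfl
    intro j _
    ring
  rw [h6] at h4
  linear_combination h4

lemma tendsto_F (L : ℕ → ℂ)
    (hL : ∀ n, 2 * L n = (if n = 0 then 1 else 0) - ∑ j ∈ range n, (n.choose j : ℂ) * L j) (n : ℕ) :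
    Tendsto (fun y : ℝ => F n (y : ℂ)) (𝓝[Set.Ioo (-1 : ℝ) 1] (-1 : ℝ)) (𝓝 (L n)) := by
  induction n using Nat.strong_induction_on with
  | _ n ih =>
    have hy : Tendsto (fun y : ℝ => (y : ℂ)) (𝓝[Set.Ioo (-1 : ℝ) 1] (-1 : ℝ)) (𝓝 (-1 : ℂ)) := by
      have := (Complex.continuous_ofReal.tendsto (-1 : ℝ)).mono_left
        (nhdsWithin_le_nhds (s := Set.Ioo (-1 : ℝ) 1))
      simpa using this
    have hsum : Tendsto (fun y : ℝ => ∑ j ∈ range n, (n.choose j : ℂ) * F j (y : ℂ))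
        (𝓝[Set.Ioo (-1 : ℝ) 1] (-1 : ℝ)) (𝓝 (∑ j ∈ range n, (n.choose j : ℂ) * L j)) :=
      tendsto_finsetSum _ (fun j hj => (ih j (mem_range.1 hj)).const_mul _)
    have hnum : Tendsto (fun y : ℝ => ((if n = 0 then (1 : ℂ) else 0) +
          (y : ℂ) * ∑ j ∈ range n, (n.choose j : ℂ) * F j (y : ℂ)) / (1 - (y : ℂ)))
        (𝓝[Set.Ioo (-1 : ℝ) 1] (-1 : ℝ))
        (𝓝 (((if n = 0 then (1 : ℂ) else 0) + (-1) * ∑ j ∈ range n, (n.choose j : ℂ) * L j) /
          (1 - (-1)))) := by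
      apply Tendsto.div
      · exact tendsto_const_nhds.add (hy.mul hsum)
      · exact tendsto_const_nhds.sub hy
      · norm_num
    have hval : ((if n = 0 then (1 : ℂ) else 0) + (-1) * ∑ j ∈ range n, (n.choose j : ℂ) * L j) /
          (1 - (-1)) = L n := by
      have := hL n
      rw [div_eq_iff (by norm_num)]
      linear_combination -this
    rw [hval] at hnum
    refine hnum.congr' ?_
    filter_upwards [self_mem_nhdsWithin] with y hy'
    have hy1 : ‖(y : ℂ)‖ < 1 := by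
      rw [Complex.norm_real, Real.norm_eq_abs, abs_lt]
      exact hy'
    have hne : (1 : ℂ) - (y : ℂ) ≠ 0 := by
      intro h
      have : (y : ℂ) = 1 := by linear_combination -h
      rw [this] at hy1
      simp at hy1
    rw [div_eq_iff hne, mul_comm _ (1 - (y : ℂ)), F_rec n _ hy1]

end Groth.Agent.Helper26.EulerAbel
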