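import Mathlib
import Groth.Agent.Lib.Helper26.EulerAbel

set_option autoImplicit false
universe u

namespace Groth.Agent.Helper26.EulerAbel

open Finset Filter Topology

lemma hasSum_poly {T : Type u} [NormedCommRing T] [NormedAlgebra ℂ T] (P : Polynomial T)
    (y : ℂ) (hy : ‖y‖ < 1) :
    HasSum (fun k : ℕ => y ^ k • P.eval (k : T))
      (∑ j ∈ range (P.natDegree + 1), F j y • P.coeff j) := by
  have h1 : HasSum (fun k : ℕ => ∑ j ∈ range (P.natDegree + 1), ((k : ℂ) ^ j * y ^ k) • P.coeff j)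
      (∑ j ∈ range (P.natDegree + 1), F j y • P.coeff j) :=
    hasSum_sum (fun j _ => (hasSumF j y hy).smul_const (P.coeff j))
  convert h1 using 2 with k
  rw [Polynomial.eval_eq_sum_range, Finset.smul_sum]
  apply Finset.sum_congr rfl
  intro j _
  have hk : (k : T) = algebraMap ℂ T (k : ℂ) := (map_natCast (algebraMap ℂ T) k).symm
  rw [hk, ← map_pow, Algebra.algebraMap_eq_smul_one, mul_smul_comm, mul_one, smul_smul, mul_comm]

theorem main {T : Type u} [NormedCommRing T] [NormedAlgebra ℂ T]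
    (E : ℕ → ℚ) (hE : PowerSeries.mk (fun j => E j / (j.factorial : ℚ)) * (PowerSeries.exp ℚ + 1) = 2)
    (P : Polynomial T) :
    (∀ y : ℂ, ‖y‖ < 1 → Summable (fun k : ℕ => y ^ k • P.eval (k : T))) ∧
    Tendsto (fun y : ℝ => ∑' k : ℕ, ((y : ℂ) ^ k) • P.eval (k : T)) (𝓝[Set.Ioo (-1 : ℝ) 1] (-1 : ℝ))
      (𝓝 ((2 : ℂ)⁻¹ • ∑ j ∈ Finset.range (P.natDegree + 1), ((E j : ℚ) : ℂ) • P.coeff j)) := by
  refine ⟨fun y hy => (hasSum_poly P y hy).summable, ?_⟩
  have hL : ∀ n, 2 * (((E n : ℚ) : ℂ) / 2) =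
      (if n = 0 then 1 else 0) - ∑ j ∈ range n, (n.choose j : ℂ) * (((E j : ℚ) : ℂ) / 2) := by
    intro n
    have h := euler_rec E hE n
    have h' : (2 : ℂ) * ((E n : ℚ) : ℂ) + ∑ j ∈ range n, (n.choose j : ℂ) * ((E j : ℚ) : ℂ) =
        if n = 0 then 2 else 0 := by
      have := congrArg (fun q : ℚ => (q : ℂ)) h
      push_cast at this
      rw [this]
      split_ifs <;> simp
    have h'' : ∑ j ∈ range n, (n.choose j : ℂ) * (((E j : ℚ) : ℂ) / 2) =
        (∑ j ∈ range n, (n.choose j : ℂ) * ((E j : ℚ) : ℂ)) / 2 := by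
      rw [Finset.sum_div]
      apply Finset.sum_congr rfl
      intro j _
      ring
    rw [h'']
    split_ifs at h' ⊢ with h0
    · linear_combination h' / 2
    · linear_combination h' / 2
  have hlim : Tendsto (fun y : ℝ => ∑ j ∈ range (P.natDegree + 1), F j (y : ℂ) • P.coeff j)
      (𝓝[Set.Ioo (-1 : ℝ) 1] (-1 : ℝ))
      (𝓝 (∑ j ∈ range (P.natDegree + 1), (((E j : ℚ) : ℂ) / 2) • P.coeff j)) :=
    tendsto_finsetSum _ (fun j _ => (tendsto_F _ hL j).smul_const _)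
  have hval : (∑ j ∈ range (P.natDegree + 1), (((E j : ℚ) : ℂ) / 2) • P.coeff j) =
      (2 : ℂ)⁻¹ • ∑ j ∈ Finset.range (P.natDegree + 1), ((E j : ℚ) : ℂ) • P.coeff j := by
    rw [Finset.smul_sum]
    apply Finset.sum_congr rfl
    intro j _
    rw [smul_smul, div_eq_inv_mul]
  rw [hval] at hlim
  refine hlim.congr' ?_
  filter_upwards [self_mem_nhdsWithin] with y hy'
  have hy1 : ‖(y : ℂ)‖ < 1 := by
    rw [Complex.norm_real, Real.norm_eq_abs, abs_lt]
    exact hy'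
  exact (hasSum_poly P _ hy1).tsum_eq.symm

end Groth.Agent.Helper26.EulerAbel
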