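import Mathlib
import Groth.Agent.Lib.Helper26.LesDim

/-!
# The contravariant long exact `Ext` sequence in a linear abelian category, with dimension counts
-/

set_option autoImplicit false
set_option maxHeartbeats 400000
set_option linter.unusedSectionVars false
set_option linter.unusedVariables false
universe w v u
open CategoryTheory CategoryTheory.Limits

namespace Groth.Agent.Helper26.ExtLes

open Abelian Groth.Agent.Helper26.LesDim

variable {C : Type u} [Category.{v} C] [Abelian C] [HasExt.{w} C] (k : Type w) [Field k]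
  [Linear k C] {S : ShortComplex C} (hS : S.ShortExact) (Y : C)

/-- `Ext^i(X₃, Y) → Ext^i(X₂, Y)`. -/
noncomputable abbrev gS (S : ShortComplex C) (i : ℕ) : Ext S.X₃ Y i →ₗ[k] Ext S.X₂ Y i :=
  (Ext.mk₀ S.g).precompOfLinear k Y (zero_add i)

/-- `Ext^i(X₂, Y) → Ext^i(X₁, Y)`. -/
noncomputable abbrev fS (S : ShortComplex C) (i : ℕ) : Ext S.X₂ Y i →ₗ[k] Ext S.X₁ Y i :=
  (Ext.mk₀ S.f).precompOfLinear k Y (zero_add i)

/-- `Ext^i(X₁, Y) → Ext^{1+i}(X₃, Y)`. -/
noncomputable abbrev dS (i : ℕ) : Ext S.X₁ Y i →ₗ[k] Ext S.X₃ Y (1 + i) :=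
  hS.extClass.precompOfLinear k Y rfl

theorem fS_gS (i : ℕ) (x : Ext S.X₃ Y i) : fS k Y S i (gS k Y S i x) = 0 := by
  change (Ext.mk₀ S.f).comp ((Ext.mk₀ S.g).comp x (zero_add i)) (zero_add i) = 0
  rw [← Ext.comp_assoc_of_second_deg_zero]
  · rw [Ext.mk₀_comp_mk₀, S.zero, Ext.mk₀_zero, Ext.zero_comp]

theorem dS_fS (i : ℕ) (x : Ext S.X₂ Y i) : dS k hS Y i (fS k Y S i x) = 0 := by
  change hS.extClass.comp ((Ext.mk₀ S.f).comp x (zero_add i)) rfl = 0
  rw [← Ext.comp_assoc_of_second_deg_zero, hS.extClass_comp, Ext.zero_comp]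

theorem gS_dS (i : ℕ) (x : Ext S.X₁ Y i) : gS k Y S (1 + i) (dS k hS Y i x) = 0 := by
  change (Ext.mk₀ S.g).comp (hS.extClass.comp x rfl) (zero_add (1 + i)) = 0
  have h := Ext.comp_assoc (Ext.mk₀ S.g) hS.extClass x (zero_add 1) rfl
    (by omega : 0 + 1 + i = 1 + i)
  rw [← h, hS.comp_extClass, Ext.zero_comp]

include hS in
theorem exact_X₂ (i : ℕ) (x : Ext S.X₂ Y i) (hx : fS k Y S i x = 0) :
    ∃ y : Ext S.X₃ Y i, gS k Y S i y = x :=
  Ext.contravariant_sequence_exact₂ hS Y x hx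

theorem exact_X₁ (i : ℕ) (x : Ext S.X₁ Y i) (hx : dS k hS Y i x = 0) :
    ∃ y : Ext S.X₂ Y i, fS k Y S i y = x :=
  Ext.contravariant_sequence_exact₁ hS Y x rfl hx

theorem exact_X₃ (i : ℕ) (x : Ext S.X₃ Y (1 + i)) (hx : gS k Y S (1 + i) x = 0) :
    ∃ y : Ext S.X₁ Y i, dS k hS Y i y = x :=
  Ext.contravariant_sequence_exact₃ hS Y x hx rfl

include hS in
theorem gS_zero_injective : Function.Injective (gS k Y S 0) := by
  have := hS.epi_g
  exact Ext.precomp_mk₀_injective_of_epi Y S.g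

theorem dS_bijective (i : ℕ) (h0 : Subsingleton (Ext S.X₂ Y i))
    (h1 : Subsingleton (Ext S.X₂ Y (1 + i))) : Function.Bijective (dS k hS Y i) := by
  constructor
  · rw [injective_iff_map_eq_zero]
    intro x hx
    obtain ⟨y, rfl⟩ := exact_X₁ k hS Y i x hx
    rw [Subsingleton.elim y 0, map_zero]
  · intro x
    exact exact_X₃ k hS Y i x (Subsingleton.elim _ _)

include hS in
theorem finrank_dS (i : ℕ) (h0 : Subsingleton (Ext S.X₂ Y i))
    (h1 : Subsingleton (Ext S.X₂ Y (1 + i))) :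
    Module.finrank k (Ext S.X₁ Y i) = Module.finrank k (Ext S.X₃ Y (1 + i)) :=
  (LinearEquiv.ofBijective _ (dS_bijective k hS Y i h0 h1)).finrank_eq

include hS in
theorem finite_dS (i : ℕ) (h0 : Subsingleton (Ext S.X₂ Y i))
    (h1 : Subsingleton (Ext S.X₂ Y (1 + i))) [Module.Finite k (Ext S.X₁ Y i)] :
    Module.Finite k (Ext S.X₃ Y (1 + i)) :=
  Module.Finite.equiv (LinearEquiv.ofBijective _ (dS_bijective k hS Y i h0 h1))

/-- `Ext¹(X₃, Y)` is a quotient of `Hom(X₁, Y)` when `Ext¹(X₂, Y) = 0`. -/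
theorem dS_zero_surjective (h1 : Subsingleton (Ext S.X₂ Y (1 + 0))) :
    Function.Surjective (dS k hS Y 0) := fun x =>
  exact_X₃ k hS Y 0 x (Subsingleton.elim _ _)

include hS in
theorem finite_ext_one (h1 : Subsingleton (Ext S.X₂ Y (1 + 0))) [Module.Finite k (Ext S.X₁ Y 0)] :
    Module.Finite k (Ext S.X₃ Y (1 + 0)) :=
  Module.Finite.of_surjective (dS k hS Y 0) (dS_zero_surjective k hS Y h1)

include hS in
/-- `0 → Hom(X₃, Y) → Hom(X₂, Y) → Hom(X₁, Y) → Ext¹(X₃, Y) → 0`. -/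
theorem finrank_four_bot (h1 : Subsingleton (Ext S.X₂ Y (1 + 0)))
    [Module.Finite k (Ext S.X₃ Y 0)] [Module.Finite k (Ext S.X₂ Y 0)]
    [Module.Finite k (Ext S.X₁ Y 0)] [Module.Finite k (Ext S.X₃ Y (1 + 0))] :
    Module.finrank k (Ext S.X₃ Y 0) + Module.finrank k (Ext S.X₁ Y 0) =
      Module.finrank k (Ext S.X₂ Y 0) + Module.finrank k (Ext S.X₃ Y (1 + 0)) := by
  apply finrank_four (gS k Y S 0) (fS k Y S 0) (dS k hS Y 0)
  · exact gS_zero_injective k hS Y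
  · exact fS_gS k Y 0
  · exact exact_X₂ k hS Y 0
  · exact dS_fS k hS Y 0
  · exact exact_X₁ k hS Y 0
  · exact dS_zero_surjective k hS Y h1

end Groth.Agent.Helper26.ExtLes
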