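import Mathlib
import Groth.Agent.Lib.Helper26.HomPre
import Groth.Agent.Lib.Helper13.QCohStalk
import Groth.Agent.Lib.Helper13.EpiStalk
import Groth.Agent.Lib.Helper5.StalkCx4

/-!
# Exactness of `𝓗om(-, G)` on short exact sequences of finite locally free modules
-/

set_option autoImplicit false
set_option maxHeartbeats 400000
set_option linter.unusedSectionVars false
set_option linter.unusedVariables false
set_option linter.style.haveILetI false
universe u
open CategoryTheory CategoryTheory.Limits AlgebraicGeometry Opposite TopologicalSpace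
open RefHull Groth.Agent.Lead.HomSh

namespace Groth.Agent.Helper26.HomPre

variable {X : Scheme.{u}} (G : X.Modules)

/-- the short complex `𝓗om(X₃, G) ⟶ 𝓗om(X₂, G) ⟶ 𝓗om(X₁, G)`. -/
noncomputable def preSC (S : ShortComplex X.Modules) : ShortComplex X.Modules :=
  ShortComplex.mk (pre G S.g) (pre G S.f) (by rw [← pre_comp, S.zero, pre_zero])

lemma algz_stalkMapₗ_apply {M N : X.Modules} (φ : M ⟶ N) (x : X) (m : M.presheaf.stalk x) :
    Algz.stalkMapₗ φ x m = RefHull.stalkMapₗ φ x m := rfl

section alg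

variable {R : Type u} [CommRing R] {M₁ M₂ M₃ N : Type u} [AddCommGroup M₁] [AddCommGroup M₂]
  [AddCommGroup M₃] [AddCommGroup N] [Module R M₁] [Module R M₂] [Module R M₃] [Module R N]

lemma lcomp_surjective_of_split {f : M₁ →ₗ[R] M₂} {g : M₂ →ₗ[R] M₃} (hf : Function.Injective f)
    (hfg : Function.Exact f g) (hg : Function.Surjective g) [Module.Projective R M₃]
    (φ : M₁ →ₗ[R] N) : ∃ h : M₂ →ₗ[R] N, h.comp f = φ := by
  obtain ⟨s, hs⟩ := Module.projective_lifting_property g LinearMap.id hg
  obtain ⟨r, hr⟩ := ((Function.Exact.split_tfae hfg hf hg).out 0 1 rfl rfl).mp ⟨s, hs⟩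
  refine ⟨φ.comp r, ?_⟩
  rw [LinearMap.comp_assoc, hr, LinearMap.comp_id]

end alg

theorem preSC_shortExact (S : ShortComplex X.Modules) (hS : S.ShortExact)
    (h1 : FlatMod.IsFinLocFree S.X₁) (h2 : FlatMod.IsFinLocFree S.X₂)
    (h3 : FlatMod.IsFinLocFree S.X₃) : (preSC G S).ShortExact := by
  apply Groth.Agent.Helper5.StalkCx.shortExact_of_stalks
  intro x
  -- the stalk sequence of `S`
  have hf : Function.Injective (stalkMapₗ S.f x) := by
    haveI := hS.mono_f
    exact (Groth.Agent.Helper13.QCoh.mono_iff_stalk_injective S.f).mp inferInstance x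
  have hg : Function.Surjective (stalkMapₗ S.g x) := by
    haveI := hS.epi_g
    exact (Groth.Agent.Helper13.FinType.epi_iff_stalkMap_surjective S.g).mp inferInstance x
  have hfg : Function.Exact (stalkMapₗ S.f x) (stalkMapₗ S.g x) := by
    intro m
    constructor
    · intro hm
      haveI := hS.mono_f
      obtain ⟨m₁, hm₁⟩ := Groth.Agent.Helper13.QCoh.stalk_exact_of_exact_of_mono S hS.exact x m hm
      exact ⟨m₁, hm₁⟩
    · rintro ⟨m₁, rfl⟩
      have := congrArg (fun φ => stalkMapₗ φ x m₁) S.zero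
      simp only [stalkMapₗ_comp, stalkMapₗ_zero, LinearMap.comp_apply, LinearMap.zero_apply] at this
      exact this
  obtain ⟨hfree, hfin⟩ := Groth.Agent.Helper13.DualFinLocFree.free_finite_stalk S.X₃ h3 x
  haveI := hfree
  have e1 := Groth.Agent.Helper13.DualFinLocFree.evalStalk_bijective S.X₁ G h1 x
  have e2 := Groth.Agent.Helper13.DualFinLocFree.evalStalk_bijective S.X₂ G h2 x
  have e3 := Groth.Agent.Helper13.DualFinLocFree.evalStalk_bijective S.X₃ G h3 x
  have hinj : Function.Injective (stalkMapₗ (pre G S.g) x) := by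
    rw [injective_iff_map_eq_zero]
    intro θ hθ
    apply e3.1
    rw [map_zero]
    have h := evalStalk_pre G S.g x θ
    rw [hθ, map_zero] at h
    apply LinearMap.ext
    intro m
    obtain ⟨m', rfl⟩ := hg m
    exact (LinearMap.congr_fun h m').symm
  have hsurj : Function.Surjective (stalkMapₗ (pre G S.f) x) := by
    intro ψ
    obtain ⟨h, hh⟩ := lcomp_surjective_of_split hf hfg hg (evalStalk S.X₁ G x ψ)
    obtain ⟨θ, hθ⟩ := e2.2 h
    refine ⟨θ, e1.1 ?_⟩
    rw [evalStalk_pre, hθ, hh]
  have hex : Function.Exact (stalkMapₗ (pre G S.g) x) (stalkMapₗ (pre G S.f) x) := by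
    intro θ
    constructor
    · intro hθ
      have h := evalStalk_pre G S.f x θ
      rw [hθ, map_zero] at h
      obtain ⟨h', hh'⟩ := (LinearMap.exact_lcomp_of_exact_of_surjective
        (G.presheaf.stalk x) hfg hg (evalStalk S.X₂ G x θ)).mp h.symm
      obtain ⟨θ₃, hθ₃⟩ := e3.2 h'
      refine ⟨θ₃, e2.1 ?_⟩
      rw [evalStalk_pre, hθ₃]
      exact hh'
    · rintro ⟨θ₃, rfl⟩
      have hz : pre G S.g ≫ pre G S.f = 0 := by rw [← pre_comp, S.zero, pre_zero]
      have := congrArg (fun φ => stalkMapₗ φ x θ₃) hz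
      simp only [stalkMapₗ_comp, stalkMapₗ_zero, LinearMap.comp_apply, LinearMap.zero_apply] at this
      exact this
  exact
    { exact := (ShortComplex.moduleCat_exact_iff _).mpr (fun x₂ h => (hex x₂).mp h)
      mono_f := (ModuleCat.mono_iff_injective _).mpr hinj
      epi_g := (ModuleCat.epi_iff_surjective _).mpr hsurj }

end Groth.Agent.Helper26.HomPre
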