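import Mathlib
import Groth.Agent.S0038
import Groth.Agent.S0844
import Groth.Agent.S0022
import Groth.Agent.Lib.Helper26.PnDual8
import Groth.Agent.Lib.Helper26.HomPre2
import Groth.Agent.Lib.Helper26.HomGlob
import Groth.Agent.Lib.Helper26.HomVan
import Groth.Agent.Lib.Helper26.LesDim
import Groth.Agent.Lib.Helper26.ProjNoeth
import Groth.Agent.Lib.Helper13.AmpleFam
import Groth.Agent.Lib.Helper5.ZLF1
import Groth.Agent.Lib.Helper9.ResVan
import Groth.Agent.Lib.Lead.HomSh4
import Groth.Agent.Lib.Helper29.SHomA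

/-!
# Serre duality on projective space over a field for finite locally free modules, by dimension count
-/

set_option autoImplicit false
set_option maxHeartbeats 800000
set_option linter.unusedSectionVars false
set_option linter.unusedVariables false
set_option linter.style.haveILetI false
universe u
open CategoryTheory CategoryTheory.Limits AlgebraicGeometry Opposite TopologicalSpace
open RefHull Groth.Agent.Helper26.HomPre Groth.Agent.Helper26.HomGlob Groth.Agent.Helper26.HomVan
  Groth.Agent.Helper26.LesDim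

namespace Groth.Agent.Helper26.SerreLF

attribute [local instance] Abelian.hasFiniteBiproducts

variable (k : Type u) [Field k] (r : ℕ)

local notation "ℙ" => CohB1.ProjSpace r k
local notation "ωP" => Twist.twistProjSpace r k (-((r : ℤ) + 1))

theorem finite_HH (F : (ℙ).Modules) (hF : Coh.IsCoh F) (i : ℕ) :
    Module.Finite k (Coh.HH ℙ F i) :=
  Groth.Agent.S0038.result r k F hF i

theorem isCoh_hom (F : (ℙ).Modules) (hF : FlatMod.IsFinLocFree F) :
    Coh.IsCoh (homSh F ωP) := by
  haveI : IsNoetherian (ℙ) :=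
    Groth.Agent.Lib.Helper26.ProjNoeth.proj_isNoetherian (CohB1.polyGrading r k)
  exact Groth.Agent.Lead.HomSh.isCoh_homSh (Groth.Agent.Helper9.ResVan.isCoh_of_isFinLocFree F hF)
    (Groth.Agent.Helper26.PnCoh.isCoh_twist r k _)

/-- a resolution by a finite sum of negative twists. -/
theorem exists_epi_biproduct (F : (ℙ).Modules) (hF : Coh.IsCoh F) :
    ∃ (N m : ℕ) (p : (⨁ fun _ : Fin m => Twist.twistProjSpace r k (-((N : ℤ) + r + 1))) ⟶ F),
      Epi p := by
  obtain ⟨N, m, p, hp⟩ := Groth.Agent.Helper26.PnCoh.exists_epi_sigma_twist_neg k r F hF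
  refine ⟨N, m, (biproduct.isoCoproduct _).hom ≫ p, ?_⟩
  infer_instance

theorem isFinLocFree_biproduct_twist (m : ℕ) (d : ℤ) :
    FlatMod.IsFinLocFree (⨁ fun _ : Fin m => Twist.twistProjSpace r k d) :=
  Groth.Agent.Helper13.AmpleFam.isFinLocFree_biproduct_of_isInvertible _
    (fun _ => Groth.Agent.Helper26.PnTwist.isInvertible_twist r k d)

/-- vanishing of the lower cohomology of a sum of negative twists. -/
theorem vanE (m N : ℕ) (i : ℕ) (hi : i < r) :
    Subsingleton (Coh.HH ℙ (⨁ fun _ : Fin m => Twist.twistProjSpace r k (-((N : ℤ) + r + 1))) i) := by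
  apply subsingleton_HH_biproduct k
  intro _
  apply Groth.Agent.S0844.result k r
  · rintro ⟨-, h⟩
    omega
  · rintro ⟨h, -⟩
    omega

/-- vanishing of the higher cohomology of the dual of a sum of negative twists. -/
theorem vanHE (m N : ℕ) (j : ℕ) (hj : 1 ≤ j) :
    Subsingleton (Coh.HH ℙ
      (homSh (⨁ fun _ : Fin m => Twist.twistProjSpace r k (-((N : ℤ) + r + 1))) ωP) j) := by
  apply subsingleton_HH_homSh_biproduct k
  intro _
  obtain ⟨e⟩ := nonempty_homSh_twist_iso r k (-((N : ℤ) + r + 1)) (-((r : ℤ) + 1))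
  apply subsingleton_HH_of_iso k e
  apply Groth.Agent.S0844.result k r
  · rintro ⟨h, -⟩
    omega
  · rintro ⟨-, h⟩
    omega

theorem finrank_cast (F : (ℙ).Modules) (i i' : ℕ) (h : i = i') :
    Module.finrank k (Coh.HH ℙ F i) = Module.finrank k (Coh.HH ℙ F i') := by
  subst h
  rfl

theorem subsingleton_cast (F : (ℙ).Modules) (i i' : ℕ) (h : i = i')
    (hs : Subsingleton (Coh.HH ℙ F i)) : Subsingleton (Coh.HH ℙ F i') := by
  subst h
  exact hs

variable (t : Coh.HH (CohB1.ProjSpace r k) (Twist.twistProjSpace r k (-((r : ℤ) + 1))) r ≃ₗ[k] k)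
  (ht : ∀ F : (CohB1.ProjSpace r k).Modules, Coh.IsCoh F →
    Function.Bijective (Canon.dualityMap k (CohB1.ProjSpace r k) r
      (Twist.twistProjSpace r k (-((r : ℤ) + 1))) t.toLinearMap F))

include ht in
/-- the case `j = 0`. -/
theorem base (F : (ℙ).Modules) (hF : FlatMod.IsFinLocFree F) :
    Module.finrank k (Coh.HH ℙ (homSh F ωP) 0) = Module.finrank k (Coh.HH ℙ F r) := by
  have hFc := Groth.Agent.Helper9.ResVan.isCoh_of_isFinLocFree F hF
  haveI := finite_HH k r F hFc r
  have hb := Theta_bijective F k r ωP t.toLinearMap (ht F hFc)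
  rw [(LinearEquiv.ofBijective _ hb).finrank_eq]
  exact Subspace.dual_finrank_eq

include ht in
theorem main : ∀ j : ℕ, j ≤ r → ∀ F : (ℙ).Modules, FlatMod.IsFinLocFree F →
    Module.finrank k (Coh.HH ℙ (homSh F ωP) j) = Module.finrank k (Coh.HH ℙ F (r - j)) := by
  intro j
  induction j with
  | zero =>
    intro _ F hF
    exact base k r t ht F hF
  | succ j ih =>
    intro hj F hF
    have hFc := Groth.Agent.Helper9.ResVan.isCoh_of_isFinLocFree F hF
    obtain ⟨N, m, p, hp⟩ := exists_epi_biproduct k r F hFc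
    haveI := hp
    have hE := isFinLocFree_biproduct_twist k r m (-((N : ℤ) + r + 1))
    have hK : FlatMod.IsFinLocFree (kernel p) :=
      Groth.Agent.Helper5.FPC.isFinLocFree_kernel_of_epi p hE hF
    let S : ShortComplex (ℙ).Modules := ShortComplex.mk (kernel.ι p) p (kernel.condition p)
    have hS : S.ShortExact :=
      { exact := ShortComplex.exact_of_f_is_kernel _ (kernelIsKernel p) }
    have hS' : (preSC ωP S).ShortExact := preSC_shortExact ωP S hS hK hE hF
    have hEc := Groth.Agent.Helper9.ResVan.isCoh_of_isFinLocFree _ hE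
    have hKc := Groth.Agent.Helper9.ResVan.isCoh_of_isFinLocFree _ hK
    rcases Nat.eq_zero_or_pos j with hj0 | hj0
    · -- the case `j + 1 = 1`
      subst hj0
      haveI : Module.Finite k (Coh.HH ℙ (preSC ωP S).X₁ 0) := finite_HH k r _ (isCoh_hom k r F hF) 0
      haveI : Module.Finite k (Coh.HH ℙ (preSC ωP S).X₂ 0) := finite_HH k r _ (isCoh_hom k r _ hE) 0
      haveI : Module.Finite k (Coh.HH ℙ (preSC ωP S).X₃ 0) := finite_HH k r _ (isCoh_hom k r _ hK) 0
      haveI : Module.Finite k (Coh.HH ℙ (preSC ωP S).X₁ 1) := finite_HH k r _ (isCoh_hom k r F hF) 1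
      have hbot := finrank_four_bot k (preSC ωP S) hS' (vanHE k r m N 1 le_rfl)
      have e1 : r - 1 + 1 = r := by omega
      haveI : Module.Finite k (Coh.HH ℙ S.X₃ (r - 1)) := finite_HH k r _ hFc _
      haveI : Module.Finite k (Coh.HH ℙ S.X₁ (r - 1 + 1)) := finite_HH k r _ hKc _
      haveI : Module.Finite k (Coh.HH ℙ S.X₂ (r - 1 + 1)) := finite_HH k r _ hEc _
      haveI : Module.Finite k (Coh.HH ℙ S.X₃ (r - 1 + 1)) := finite_HH k r _ hFc _
      haveI : Coh.IsQCoh (kernel p) := hKc.1
      have htop := finrank_four_top k S hS (r - 1) (vanE k r m N (r - 1) (by omega))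
        (Groth.Agent.S0022.result r k (kernel p) (r - 1 + 2) (by omega))
      have b0F := base k r t ht F hF
      have b0K := base k r t ht _ hK
      have b0E := base k r t ht _ hE
      have c1 := finrank_cast k r (kernel p) _ _ e1
      have c2 := finrank_cast k r (⨁ fun _ : Fin m => Twist.twistProjSpace r k (-((N : ℤ) + r + 1))) _ _ e1
      have c3 := finrank_cast k r F _ _ e1
      change Module.finrank k (Coh.HH ℙ (homSh F ωP) 1) = Module.finrank k (Coh.HH ℙ F (r - 1))
      change Module.finrank k (Coh.HH ℙ (homSh F ωP) 0) +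
        Module.finrank k (Coh.HH ℙ (homSh (kernel p) ωP) 0) =
        Module.finrank k (Coh.HH ℙ (homSh (⨁ fun _ : Fin m =>
          Twist.twistProjSpace r k (-((N : ℤ) + r + 1))) ωP) 0) +
        Module.finrank k (Coh.HH ℙ (homSh F ωP) 1) at hbot
      change Module.finrank k (Coh.HH ℙ F (r - 1)) +
        Module.finrank k (Coh.HH ℙ (⨁ fun _ : Fin m =>
          Twist.twistProjSpace r k (-((N : ℤ) + r + 1))) (r - 1 + 1)) =
        Module.finrank k (Coh.HH ℙ (kernel p) (r - 1 + 1)) +
        Module.finrank k (Coh.HH ℙ F (r - 1 + 1)) at htop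
      omega
    · -- the case `j + 1 ≥ 2`
      have hd' := finrank_delta k (preSC ωP S) hS' j (vanHE k r m N j hj0)
        (vanHE k r m N (j + 1) (by omega))
      have ihK := ih (by omega) (kernel p) hK
      have e1 : r - (j + 1) + 1 = r - j := by omega
      have hd := finrank_delta k S hS (r - (j + 1)) (vanE k r m N _ (by omega))
        (vanE k r m N _ (by omega))
      have c1 := finrank_cast k r (kernel p) _ _ e1
      change Module.finrank k (Coh.HH ℙ (homSh (kernel p) ωP) j) =
        Module.finrank k (Coh.HH ℙ (homSh F ωP) (j + 1)) at hd'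
      change Module.finrank k (Coh.HH ℙ F (r - (j + 1))) =
        Module.finrank k (Coh.HH ℙ (kernel p) (r - (j + 1) + 1)) at hd
      omega

end Groth.Agent.Helper26.SerreLF
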