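import Mathlib
import Groth.Prelude.Def_KLin
import Groth.Agent.Lib.Helper26.SerreLF
import Groth.Agent.Lib.Helper26.ExtLes
import Groth.Agent.Lib.Helper29.ExtFLF
import Groth.Agent.Lib.Lead.KerFree2

/-!
# `Ext^i(F, ω) ≃ H^{n-i}(F)^*` on projective space over a field, by dimension count
-/

set_option autoImplicit false
set_option maxHeartbeats 800000
set_option linter.unusedSectionVars false
set_option linter.unusedVariables false
set_option linter.style.haveILetI false
universe u
open CategoryTheory CategoryTheory.Limits AlgebraicGeometry Opposite TopologicalSpace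
open RefHull Groth.Agent.Helper26.HomVan Groth.Agent.Helper26.LesDim Groth.Agent.Helper26.SerreLF
  Groth.Agent.Helper26.DualFun

namespace Groth.Agent.Helper26.ExtDual

attribute [local instance] Abelian.hasFiniteBiproducts

section General

variable (A : Type u) [CommRing A] {X : Scheme.{u}} [X.Over (Spec (CommRingCat.of A))]

theorem toSheaf_map_smulModΓ (M : X.Modules) (c : Coh.Γtop X) :
    (SheafOfModules.toSheaf X.ringCatSheaf).map (Formal.smulModΓ M c) = Coh.smulAb M c := rfl

theorem HHlin_smulMod (M : X.Modules) (a : A) (r : ℕ) (z : Coh.HH X M r) :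
    Canon.HHlin A (Formal.smulMod A M a) r z = a • z := rfl

/-- the duality map as a linear map on the Hom module. -/
noncomputable def dualityLin (r : ℕ) (ω : X.Modules) (tr : Coh.HH X ω r →ₗ[A] A) (F : X.Modules) :
    (F ⟶ ω) →ₗ[A] Module.Dual A (Coh.HH X F r) where
  toFun φ := Canon.dualityMap A X r ω tr F φ
  map_add' φ ψ := by
    apply LinearMap.ext
    intro z
    change tr (Canon.HHlin A (φ + ψ) r z) = tr (Canon.HHlin A φ r z) + tr (Canon.HHlin A ψ r z)
    rw [HHlin_add, LinearMap.add_apply, map_add]
  map_smul' a φ := by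
    apply LinearMap.ext
    intro z
    change tr (Canon.HHlin A (Formal.smulMod A F a ≫ φ) r z) = a • tr (Canon.HHlin A φ r z)
    rw [HHlin_comp, LinearMap.comp_apply, HHlin_smulMod, map_smul, map_smul]

end General

variable (k : Type u) [Field k] (n : ℕ)

local notation "ℙ" => CohB1.ProjSpace n k
local notation "ωP" => Twist.twistProjSpace n k (-((n : ℤ) + 1))

variable [HasExt.{u} (CohB1.ProjSpace n k).Modules]

/-- vanishing of the higher `Ext` of a sum of negative twists into `ω`. -/
theorem vanExtE (m N : ℕ) (i : ℕ) (hi : 1 ≤ i) :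
    Subsingleton (Abelian.Ext (⨁ fun _ : Fin m => Twist.twistProjSpace n k (-((N : ℤ) + n + 1)))
      ωP i) := by
  obtain ⟨e⟩ := Groth.Agent.Helper29.ExtFLF.nonempty_ext_addEquiv_HH
    (⨁ fun _ : Fin m => Twist.twistProjSpace n k (-((N : ℤ) + n + 1))) ωP
    (isFinLocFree_biproduct_twist k n m _) i
  haveI := vanHE k n m N i hi
  exact e.toEquiv.subsingleton

/-- the inductive statement. -/
def Good (F : (ℙ).Modules) (i : ℕ) : Prop :=
  Module.Finite k (Abelian.Ext F ωP i) ∧
    (i ≤ n → Module.finrank k (Abelian.Ext F ωP i) = Module.finrank k (Coh.HH ℙ F (n - i))) ∧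
    (n < i → Subsingleton (Abelian.Ext F ωP i))

theorem good_cast (F : (ℙ).Modules) (i i' : ℕ) (h : i = i') (hg : Good k n F i) :
    Good k n F i' := by
  subst h
  exact hg

variable (t : Coh.HH (CohB1.ProjSpace n k) (Twist.twistProjSpace n k (-((n : ℤ) + 1))) n ≃ₗ[k] k)
  (ht : ∀ F : (CohB1.ProjSpace n k).Modules, Coh.IsCoh F →
    Function.Bijective (Canon.dualityMap k (CohB1.ProjSpace n k) n
      (Twist.twistProjSpace n k (-((n : ℤ) + 1))) t.toLinearMap F))

include ht in
theorem good_zero (F : (ℙ).Modules) (hF : Coh.IsCoh F) : Good k n F 0 := by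
  haveI := finite_HH k n F hF n
  let e : Abelian.Ext F ωP 0 ≃ₗ[k] Module.Dual k (Coh.HH ℙ F n) :=
    (Abelian.Ext.linearEquiv₀ (R := k)).trans
      (LinearEquiv.ofBijective (dualityLin k n ωP t.toLinearMap F) (ht F hF))
  refine ⟨Module.Finite.equiv e.symm, fun _ => ?_, fun h => absurd h (Nat.not_lt_zero n)⟩
  rw [e.finrank_eq]
  exact Subspace.dual_finrank_eq

theorem subsingleton_of_finrank_zero (V : Type u) [AddCommGroup V] [Module k V] [Module.Finite k V]
    (h : Module.finrank k V = 0) : Subsingleton V :=
  (Module.finrank_eq_zero_iff_of_free k V).mp h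

include ht in
theorem good : ∀ i : ℕ, ∀ F : (ℙ).Modules, Coh.IsCoh F → Good k n F i := by
  intro i
  induction i with
  | zero => exact fun F hF => good_zero k n t ht F hF
  | succ i ih =>
    intro F hF
    apply good_cast k n F (1 + i) (i + 1) (Nat.add_comm 1 i)
    haveI : IsNoetherian (ℙ) :=
      Groth.Agent.Lib.Helper26.ProjNoeth.proj_isNoetherian (CohB1.polyGrading n k)
    obtain ⟨N, m, p, hp⟩ := exists_epi_biproduct k n F hF
    haveI := hp
    have hE := isFinLocFree_biproduct_twist k n m (-((N : ℤ) + n + 1))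
    have hEc := Groth.Agent.Helper9.ResVan.isCoh_of_isFinLocFree _ hE
    have hKc : Coh.IsCoh (kernel p) := Groth.Agent.Lead.KerFree.isCoh_kernel hEc hF p
    let S : ShortComplex (ℙ).Modules := ShortComplex.mk (kernel.ι p) p (kernel.condition p)
    have hS : S.ShortExact :=
      { exact := ShortComplex.exact_of_f_is_kernel _ (kernelIsKernel p) }
    haveI : Coh.IsQCoh (kernel p) := hKc.1
    haveI : Coh.IsQCoh (⨁ fun _ : Fin m => Twist.twistProjSpace n k (-((N : ℤ) + n + 1))) := hEc.1
    rcases Nat.eq_zero_or_pos i with hi0 | hi0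
    · subst hi0
      obtain ⟨fK, rK, -⟩ := ih (kernel p) hKc
      obtain ⟨fE, rE, -⟩ := ih _ hEc
      obtain ⟨fF, rF, -⟩ := ih F hF
      have h1 := vanExtE k n m N (1 + 0) le_rfl
      haveI : Module.Finite k (Abelian.Ext S.X₁ ωP 0) := fK
      haveI : Module.Finite k (Abelian.Ext S.X₂ ωP 0) := fE
      haveI : Module.Finite k (Abelian.Ext S.X₃ ωP 0) := fF
      haveI f1 : Module.Finite k (Abelian.Ext S.X₃ ωP (1 + 0)) :=
        Groth.Agent.Helper26.ExtLes.finite_ext_one k hS ωP h1
      have hbot := Groth.Agent.Helper26.ExtLes.finrank_four_bot k hS ωP h1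
      have rK' := rK (Nat.zero_le n)
      have rE' := rE (Nat.zero_le n)
      have rF' := rF (Nat.zero_le n)
      change Module.finrank k (Abelian.Ext F ωP 0) + Module.finrank k (Abelian.Ext (kernel p) ωP 0) =
        Module.finrank k (Abelian.Ext (⨁ fun _ : Fin m =>
          Twist.twistProjSpace n k (-((N : ℤ) + n + 1))) ωP 0) +
        Module.finrank k (Abelian.Ext F ωP (1 + 0)) at hbot
      rcases Nat.eq_zero_or_pos n with hn0 | hn0
      · -- `n = 0`
        haveI : Module.Finite k (Coh.HH ℙ S.X₁ 0) := finite_HH k n _ hKc 0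
        haveI : Module.Finite k (Coh.HH ℙ S.X₂ 0) := finite_HH k n _ hEc 0
        haveI : Module.Finite k (Coh.HH ℙ S.X₃ 0) := finite_HH k n _ hF 0
        haveI : Module.Finite k (Coh.HH ℙ S.X₁ 1) := finite_HH k n _ hKc 1
        have hb := LesDim.finrank_four_bot k S hS
          (Groth.Agent.S0022.result n k _ 1 (by omega))
        haveI := Groth.Agent.S0022.result n k (kernel p) 1 (by omega)
        have hz : Module.finrank k (Coh.HH ℙ (kernel p) 1) = 0 :=
          Module.finrank_eq_zero_of_subsingleton k _
        change Module.finrank k (Coh.HH ℙ (kernel p) 0) + Module.finrank k (Coh.HH ℙ F 0) =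
          Module.finrank k (Coh.HH ℙ (⨁ fun _ : Fin m =>
            Twist.twistProjSpace n k (-((N : ℤ) + n + 1))) 0) +
          Module.finrank k (Coh.HH ℙ (kernel p) 1) at hb
        have c0 : n - 0 = 0 := by omega
        rw [finrank_cast k n _ _ _ c0] at rK' rE' rF'
        have hzero : Module.finrank k (Abelian.Ext F ωP (1 + 0)) = 0 := by omega
        refine ⟨f1, fun h => absurd h (by omega), fun _ => ?_⟩
        exact subsingleton_of_finrank_zero k _ hzero
      · -- `1 ≤ n`
        have e1 : n - 1 + 1 = n := by omega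
        haveI : Module.Finite k (Coh.HH ℙ S.X₃ (n - 1)) := finite_HH k n _ hF _
        haveI : Module.Finite k (Coh.HH ℙ S.X₁ (n - 1 + 1)) := finite_HH k n _ hKc _
        haveI : Module.Finite k (Coh.HH ℙ S.X₂ (n - 1 + 1)) := finite_HH k n _ hEc _
        haveI : Module.Finite k (Coh.HH ℙ S.X₃ (n - 1 + 1)) := finite_HH k n _ hF _
        have htop := finrank_four_top k S hS (n - 1) (vanE k n m N (n - 1) (by omega))
          (Groth.Agent.S0022.result n k (kernel p) (n - 1 + 2) (by omega))
        change Module.finrank k (Coh.HH ℙ F (n - 1)) +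
          Module.finrank k (Coh.HH ℙ (⨁ fun _ : Fin m =>
            Twist.twistProjSpace n k (-((N : ℤ) + n + 1))) (n - 1 + 1)) =
          Module.finrank k (Coh.HH ℙ (kernel p) (n - 1 + 1)) +
          Module.finrank k (Coh.HH ℙ F (n - 1 + 1)) at htop
        have c0 : n - 0 = n - 1 + 1 := by omega
        rw [finrank_cast k n _ _ _ c0] at rK' rE' rF'
        have c1 : n - (1 + 0) = n - 1 := by omega
        refine ⟨f1, fun _ => ?_, fun h => absurd h (by omega)⟩
        rw [finrank_cast k n F _ _ c1]
        omega
    · -- `i ≥ 1`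
      obtain ⟨fK, rK, sK⟩ := ih (kernel p) hKc
      have h0 := vanExtE k n m N i hi0
      have h1 := vanExtE k n m N (1 + i) (by omega)
      haveI : Module.Finite k (Abelian.Ext S.X₁ ωP i) := fK
      have f1 : Module.Finite k (Abelian.Ext S.X₃ ωP (1 + i)) :=
        Groth.Agent.Helper26.ExtLes.finite_dS k hS ωP i h0 h1
      have hd := Groth.Agent.Helper26.ExtLes.finrank_dS k hS ωP i h0 h1
      change Module.finrank k (Abelian.Ext (kernel p) ωP i) =
        Module.finrank k (Abelian.Ext F ωP (1 + i)) at hd
      refine ⟨f1, fun hle => ?_, fun hlt => ?_⟩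
      · have rK' := rK (by omega)
        have hdl := finrank_delta k S hS (n - (1 + i)) (vanE k n m N _ (by omega))
          (vanE k n m N _ (by omega))
        change Module.finrank k (Coh.HH ℙ F (n - (1 + i))) =
          Module.finrank k (Coh.HH ℙ (kernel p) (n - (1 + i) + 1)) at hdl
        have c1 : n - (1 + i) + 1 = n - i := by omega
        rw [finrank_cast k n _ _ _ c1] at hdl
        omega
      · haveI : Module.Finite k (Abelian.Ext F ωP (1 + i)) := f1
        apply subsingleton_of_finrank_zero k
        rw [← hd]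
        rcases Nat.lt_or_ge n i with hni | hni
        · haveI := sK hni
          exact Module.finrank_eq_zero_of_subsingleton k _
        · have hin : i = n := by omega
          have rK' := rK (by omega)
          rw [rK']
          have c0 : n - i = 0 := by omega
          rw [finrank_cast k n _ _ _ c0]
          haveI : Subsingleton (Coh.HH ℙ (kernel p) 0) := by
            have hinj := HHlin_f_injective_zero k S hS
            haveI := vanE k n m N 0 (by omega)
            exact hinj.subsingleton
          exact Module.finrank_eq_zero_of_subsingleton k _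

end Groth.Agent.Helper26.ExtDual
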