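import Mathlib

/-!
# Vanishing of `Ext` for finite coproducts and along isomorphisms
-/

set_option autoImplicit false
universe w u v
open CategoryTheory CategoryTheory.Limits CategoryTheory.Abelian

namespace Groth.Agent.Helper26.ExtSum

variable {C : Type u} [Category.{v} C] [Abelian C] [HasExt.{w} C]

lemma subsingleton_of_iso_right {A B B' : C} (e : B ≅ B') (p : ℕ)
    (h : Subsingleton (Ext A B' p)) : Subsingleton (Ext A B p) := by
  refine ⟨fun x y => ?_⟩
  have key : ∀ z : Ext A B p, z = (z.comp (Ext.mk₀ e.hom) (add_zero p)).comp (Ext.mk₀ e.inv)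
      (add_zero p) := by
    intro z
    rw [Ext.comp_assoc_of_second_deg_zero, Ext.mk₀_comp_mk₀, e.hom_inv_id, Ext.comp_mk₀_id]
  rw [key x, key y, Subsingleton.elim (x.comp (Ext.mk₀ e.hom) (add_zero p))
    (y.comp (Ext.mk₀ e.hom) (add_zero p))]

lemma subsingleton_of_iso_left {A A' B : C} (e : A ≅ A') (p : ℕ)
    (h : Subsingleton (Ext A' B p)) : Subsingleton (Ext A B p) := by
  refine ⟨fun x y => ?_⟩
  have key : ∀ z : Ext A B p, z = (Ext.mk₀ e.hom).comp ((Ext.mk₀ e.inv).comp z (zero_add p))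
      (zero_add p) := by
    intro z
    rw [← Ext.comp_assoc_of_second_deg_zero, Ext.mk₀_comp_mk₀, e.hom_inv_id, Ext.mk₀_id_comp]
  rw [key x, key y, Subsingleton.elim ((Ext.mk₀ e.inv).comp x (zero_add p))
    ((Ext.mk₀ e.inv).comp y (zero_add p))]

lemma subsingleton_coproduct_right [HasFiniteBiproducts C] (A : C) {m : ℕ} (B : Fin m → C) (p : ℕ)
    (h : ∀ t, Subsingleton (Ext A (B t) p)) : Subsingleton (Ext A (∐ B) p) := by
  have h1 : Subsingleton (Ext A (⨁ B) p) :=
    (Ext.addEquivBiproduct A (biproduct.isBilimit B) p).toEquiv.subsingleton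
  exact subsingleton_of_iso_right (biproduct.isoCoproduct B).symm p h1

lemma subsingleton_coproduct_left [HasFiniteBiproducts C] {m : ℕ} (A : Fin m → C) (B : C) (p : ℕ)
    (h : ∀ t, Subsingleton (Ext (A t) B p)) : Subsingleton (Ext (∐ A) B p) := by
  have h1 : Subsingleton (Ext (⨁ A) B p) :=
    (Ext.biproductAddEquiv (biproduct.isBilimit A) B p).toEquiv.subsingleton
  exact subsingleton_of_iso_left (biproduct.isoCoproduct A).symm p h1

/-- middle term of the covariant long exact sequence. -/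
lemma subsingleton_cov {S : ShortComplex C} (hS : S.ShortExact) (A : C) (p : ℕ)
    (h2 : Subsingleton (Ext A S.X₂ p)) (h1 : Subsingleton (Ext A S.X₁ (p + 1))) :
    Subsingleton (Ext A S.X₃ p) := by
  refine ⟨fun x y => ?_⟩
  have key : ∀ z : Ext A S.X₃ p, z = 0 := by
    intro z
    obtain ⟨w, hw⟩ := Ext.covariant_sequence_exact₃ A hS z rfl (Subsingleton.elim _ _)
    rw [← hw, Subsingleton.elim w 0, Ext.zero_comp]
  rw [key x, key y]

/-- middle term of the contravariant long exact sequence. -/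
lemma subsingleton_contra {S : ShortComplex C} (hS : S.ShortExact) (B : C) (p : ℕ)
    (h2 : Subsingleton (Ext S.X₂ B (1 + p))) (h1 : Subsingleton (Ext S.X₁ B p)) :
    Subsingleton (Ext S.X₃ B (1 + p)) := by
  refine ⟨fun x y => ?_⟩
  have key : ∀ z : Ext S.X₃ B (1 + p), z = 0 := by
    intro z
    obtain ⟨w, hw⟩ := Ext.contravariant_sequence_exact₃ hS B z (Subsingleton.elim _ _) rfl
    rw [← hw, Subsingleton.elim w 0, Ext.comp_zero]
  rw [key x, key y]

/-- `Hom(S.X₃, B)` injects into `Hom(S.X₂, B)`. -/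
lemma subsingleton_contra_zero {S : ShortComplex C} (hS : S.ShortExact) (B : C)
    (h2 : Subsingleton (Ext S.X₂ B 0)) : Subsingleton (Ext S.X₃ B 0) := by
  have := hS.epi_g
  have hinj := Ext.precomp_mk₀_injective_of_epi B S.g
  exact hinj.subsingleton

end Groth.Agent.Helper26.ExtSum
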