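import Mathlib

/-!
# Extension by zero for presheaves of modules over a sheaf of (noncommutative) rings
(port of Helper17.MT11-MT13 from `CommRingCat` to `RingCat`)
-/

set_option linter.style.haveILetI false
set_option linter.unusedVariables false

open CategoryTheory Limits Opposite DirectSum

namespace Groth.Agent.Helper26.ExtZeroRing

universe u

open scoped Classical

/-- presheaves of modules over the underlying presheaf of rings -/
abbrev PSh {C : Type u} [SmallCategory C] {J : GrothendieckTopology C} (O : Sheaf J RingCat.{u}) :=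
  PresheafOfModules.{u} O.obj

/-- restriction of presheaves of modules to `Over X` -/
noncomputable def rP {C : Type u} [SmallCategory C] {J : GrothendieckTopology C}
    (O : Sheaf J RingCat.{u}) (X : C) : PSh O ⥤ PSh (O.over X) :=
  PresheafOfModules.pushforward (F := Over.forget X) (𝟙 _)

variable {C : Type u} [SmallCategory C] {J : GrothendieckTopology C} (O : Sheaf J RingCat.{u})
  (U : C)

/-- the summand indexed by `φ : W ⟶ U` -/
noncomputable abbrev ePc (G : PSh (O.over U)) (W : Cᵒᵖ) (φ : W.unop ⟶ U) : Ab.{u} :=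
  G.presheaf.obj (op (Over.mk φ))

noncomputable instance ePcModule (G : PSh (O.over U)) (W : Cᵒᵖ) (φ : W.unop ⟶ U) :
    Module (O.obj.obj W) (ePc O U G W φ) :=
  (G.obj (op (Over.mk φ))).isModule

/-- the underlying abelian group of `(j_! G)(W)` -/
abbrev ePS (G : PSh (O.over U)) (W : Cᵒᵖ) : Type u :=
  ⨁ φ : (W.unop ⟶ U), ePc O U G W φ

/-- casting lemma: the summand inclusions only depend on the underlying map to `U` -/
theorem of_map_eq (G : PSh (O.over U)) {W : Cᵒᵖ} {Y : Over U} {ψ ψ' : W.unop ⟶ U}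
    (k : Over.mk ψ ⟶ Y) (k' : Over.mk ψ' ⟶ Y) (h : k.left = k'.left)
    (x : G.presheaf.obj (op Y)) :
    DirectSum.of (fun φ : (W.unop ⟶ U) => ePc O U G W φ) ψ (G.presheaf.map k.op x) =
      DirectSum.of (fun φ : (W.unop ⟶ U) => ePc O U G W φ) ψ' (G.presheaf.map k'.op x) := by
  have h1 : ψ = ψ' := by
    have e1 := Over.w k
    have e2 := Over.w k'
    simp only [Over.mk_hom] at e1 e2
    rw [← e1, ← e2, h]
  subst h1
  have h2 : k = k' := Over.OverMorphism.ext h
  rw [h2]

/-- restriction maps of `j_! G` -/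
noncomputable def ePAbMap (G : PSh (O.over U)) {W W' : Cᵒᵖ} (g : W ⟶ W') :
    ePS O U G W →+ ePS O U G W' :=
  DirectSum.toAddMonoid (fun φ =>
    (DirectSum.of (fun ψ : (W'.unop ⟶ U) => ePc O U G W' ψ) (g.unop ≫ φ)).comp
      (G.presheaf.map (Over.homMk g.unop : Over.mk (g.unop ≫ φ) ⟶ Over.mk φ).op).hom)

theorem ePAbMap_of (G : PSh (O.over U)) {W W' : Cᵒᵖ} (g : W ⟶ W') (φ : W.unop ⟶ U)
    (x : ePc O U G W φ) :
    ePAbMap O U G g (DirectSum.of (fun φ : (W.unop ⟶ U) => ePc O U G W φ) φ x) =
      DirectSum.of (fun ψ : (W'.unop ⟶ U) => ePc O U G W' ψ) (g.unop ≫ φ)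
        (G.presheaf.map (Over.homMk g.unop : Over.mk (g.unop ≫ φ) ⟶ Over.mk φ).op x) := by
  unfold ePAbMap
  rw [DirectSum.toAddMonoid_of]
  rfl

/-- the abelian presheaf underlying `j_! G` -/
noncomputable def ePAb (G : PSh (O.over U)) : Cᵒᵖ ⥤ Ab.{u} where
  obj W := AddCommGrpCat.of (ePS O U G W)
  map g := AddCommGrpCat.ofHom (ePAbMap O U G g)
  map_id W := by
    ext : 1
    refine DirectSum.addHom_ext (fun φ x => ?_)
    change ePAbMap O U G (𝟙 W) (DirectSum.of _ φ x) = DirectSum.of _ φ x
    rw [ePAbMap_of]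
    have := of_map_eq O U G (W := W) (Y := Over.mk φ)
      (Over.homMk (𝟙 W).unop : Over.mk ((𝟙 W).unop ≫ φ) ⟶ Over.mk φ) (𝟙 (Over.mk φ)) rfl x
    rw [this, op_id, G.presheaf.map_id]
    rfl
  map_comp {W W' W''} g g' := by
    ext : 1
    refine DirectSum.addHom_ext (fun φ x => ?_)
    change ePAbMap O U G (g ≫ g') (DirectSum.of _ φ x) =
      ePAbMap O U G g' (ePAbMap O U G g (DirectSum.of _ φ x))
    rw [ePAbMap_of, ePAbMap_of, ePAbMap_of]
    rw [← ConcreteCategory.comp_apply, ← G.presheaf.map_comp, ← op_comp]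
    exact of_map_eq O U G _ _ (by simp) x

noncomputable instance ePAbModule (G : PSh (O.over U)) (W : Cᵒᵖ) :
    Module (O.obj.obj W) ((ePAb O U G).obj W) :=
  inferInstanceAs (Module (O.obj.obj W) (⨁ φ : (W.unop ⟶ U), ePc O U G W φ))

theorem ePAbMap_smul (G : PSh (O.over U)) {W W' : Cᵒᵖ} (g : W ⟶ W')
    (r : O.obj.obj W) (m : ePS O U G W) :
    ePAbMap O U G g (r • m) = (O.obj.map g r : O.obj.obj W') • ePAbMap O U G g m := by
  induction m using DirectSum.induction_on with
  | zero => rw [smul_zero, map_zero, smul_zero]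
  | of φ x =>
    rw [← DirectSum.of_smul, ePAbMap_of, ePAbMap_of, ← DirectSum.of_smul]
    congr 1
    exact PresheafOfModules.map_smul G
      (Over.homMk g.unop : Over.mk (g.unop ≫ φ) ⟶ Over.mk φ).op r x
  | add a b ha hb =>
    rw [smul_add, map_add, map_add, smul_add, ha, hb]

theorem ePAb_map_smul (G : PSh (O.over U)) ⦃W W' : Cᵒᵖ⦄ (g : W ⟶ W')
    (r : O.obj.obj W) (m : (ePAb O U G).obj W) :
    (ePAb O U G).map g (r • m) =
      O.obj.map g r • (ePAb O U G).map g m :=
  ePAbMap_smul O U G g r m

/-- extension by zero of a presheaf of modules on `C/U` -/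
noncomputable def ePObj (G : PSh (O.over U)) : PSh O :=
  PresheafOfModules.ofPresheaf (ePAb O U G) (ePAb_map_smul O U G)

variable {O U}

/-- `α` on the summand `φ` -/
noncomputable abbrev cmpHom {G G' : PSh (O.over U)} (α : G ⟶ G') (W : Cᵒᵖ) (φ : W.unop ⟶ U) :
    ePc O U G W φ →+ ePc O U G' W φ :=
  (((PresheafOfModules.toPresheaf _).map α).app (op (Over.mk φ))).hom

noncomputable def ePMapAb {G G' : PSh (O.over U)} (α : G ⟶ G') (W : Cᵒᵖ) :
    ePS O U G W →+ ePS O U G' W :=
  DirectSum.map (fun φ => cmpHom α W φ)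

theorem ePMapAb_of {G G' : PSh (O.over U)} (α : G ⟶ G') (W : Cᵒᵖ) (φ : W.unop ⟶ U)
    (x : ePc O U G W φ) :
    ePMapAb α W (DirectSum.of (fun φ : (W.unop ⟶ U) => ePc O U G W φ) φ x) =
      DirectSum.of (fun φ : (W.unop ⟶ U) => ePc O U G' W φ) φ (cmpHom α W φ x) := by
  unfold ePMapAb
  rw [DirectSum.map_of]

theorem ePMapAb_naturality {G G' : PSh (O.over U)} (α : G ⟶ G') {W W' : Cᵒᵖ} (g : W ⟶ W')
    (m : ePS O U G W) :
    ePMapAb α W' (ePAbMap O U G g m) = ePAbMap O U G' g (ePMapAb α W m) := by
  induction m using DirectSum.induction_on with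
  | zero => simp
  | of φ x =>
    rw [ePAbMap_of, ePMapAb_of, ePMapAb_of, ePAbMap_of]
    congr 1
    exact CategoryTheory.congr_fun (((PresheafOfModules.toPresheaf _).map α).naturality
      (Over.homMk g.unop : Over.mk (g.unop ≫ φ) ⟶ Over.mk φ).op) x
  | add a b ha hb => rw [map_add, map_add, map_add, map_add, ha, hb]

theorem ePMapAb_smul {G G' : PSh (O.over U)} (α : G ⟶ G') (W : Cᵒᵖ) (r : O.obj.obj W)
    (m : ePS O U G W) : ePMapAb α W (r • m) = r • ePMapAb α W m := by
  induction m using DirectSum.induction_on with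
  | zero => rw [smul_zero, map_zero, smul_zero]
  | of φ x =>
    rw [← DirectSum.of_smul, ePMapAb_of, ePMapAb_of, ← DirectSum.of_smul]
    congr 1
    exact (α.app (op (Over.mk φ))).hom.map_smul r x
  | add a b ha hb => rw [smul_add, map_add, map_add, smul_add, ha, hb]

variable (O U)

/-- extension by zero on presheaves of modules -/
noncomputable def eP : PSh (O.over U) ⥤ PSh O where
  obj G := ePObj O U G
  map {G G'} α := PresheafOfModules.homMk
    (M₁ := ePObj O U G) (M₂ := ePObj O U G')
    { app := fun W => AddCommGrpCat.ofHom (ePMapAb α W)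
      naturality := fun W W' g => by
        ext m
        exact ePMapAb_naturality α g m }
    (fun W r m => ePMapAb_smul α W r m)
  map_id G := by
    apply (PresheafOfModules.toPresheaf _).map_injective
    ext W m
    change ePMapAb (𝟙 G) W m = m
    induction m using DirectSum.induction_on with
    | zero => simp
    | of φ x => rw [ePMapAb_of]; rfl
    | add a b ha hb => rw [map_add, ha, hb]
  map_comp {G G' G''} α β := by
    apply (PresheafOfModules.toPresheaf _).map_injective
    ext W m
    change ePMapAb (α ≫ β) W m = ePMapAb β W (ePMapAb α W m)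
    induction m using DirectSum.induction_on with
    | zero => simp
    | of φ x => rw [ePMapAb_of, ePMapAb_of, ePMapAb_of]; rfl
    | add a b ha hb => rw [map_add, map_add, map_add, ha, hb]

variable {C : Type u} [SmallCategory C] {J : GrothendieckTopology C} {O : Sheaf J RingCat.{u}}
  {U : C}

/-- underlying map of abelian groups of a morphism of presheaves of modules -/
noncomputable abbrev appAb {D : Type u} [SmallCategory D] {R : Dᵒᵖ ⥤ RingCat.{u}}
    {M N : PresheafOfModules.{u} R} (f : M ⟶ N) (X : Dᵒᵖ) :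
    M.presheaf.obj X →+ N.presheaf.obj X :=
  (((PresheafOfModules.toPresheaf _).map f).app X).hom

/-- `Hom(j_! G, P) → Hom(G, P|U)` on sections -/
noncomputable def adjToAb {G : PSh (O.over U)} {P : PSh O} (f : (eP O U).obj G ⟶ P)
    (Y : (Over U)ᵒᵖ) : G.presheaf.obj Y →+ P.presheaf.obj (op Y.unop.left) :=
  (appAb f (op Y.unop.left)).comp
    (DirectSum.of (fun φ : (Y.unop.left ⟶ U) => ePc O U G (op Y.unop.left) φ) Y.unop.hom)

theorem adjToAb_naturality {G : PSh (O.over U)} {P : PSh O} (f : (eP O U).obj G ⟶ P)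
    {Y Y' : (Over U)ᵒᵖ} (k : Y ⟶ Y') (x : G.presheaf.obj Y) :
    adjToAb f Y' (G.presheaf.map k x) = P.presheaf.map k.unop.left.op (adjToAb f Y x) := by
  have h1 := CategoryTheory.congr_fun (((PresheafOfModules.toPresheaf _).map f).naturality
    k.unop.left.op) (DirectSum.of (fun φ : (Y.unop.left ⟶ U) => ePc O U G (op Y.unop.left) φ)
      Y.unop.hom x)
  refine Eq.trans ?_ h1
  change appAb f (op Y'.unop.left) _ = appAb f (op Y'.unop.left)
    (ePAbMap O U G k.unop.left.op (DirectSum.of _ Y.unop.hom x))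
  rw [ePAbMap_of]
  congr 1
  exact of_map_eq O U G (W := op Y'.unop.left) (Y := Y.unop) (ψ := Y'.unop.hom)
    (ψ' := k.unop.left ≫ Y.unop.hom) k.unop
    (Over.homMk k.unop.left : Over.mk (k.unop.left ≫ Y.unop.hom) ⟶ Y.unop) rfl x

theorem adjToAb_smul {G : PSh (O.over U)} {P : PSh O} (f : (eP O U).obj G ⟶ P)
    (Y : (Over U)ᵒᵖ) (r : (O.over U).obj.obj Y)
    (x : G.obj Y) :
    adjToAb f Y (r • x) = (show O.obj.obj (op Y.unop.left) from r) •
      (show P.obj (op Y.unop.left) from adjToAb f Y x) := by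
  change appAb f (op Y.unop.left) (DirectSum.of (fun φ : (Y.unop.left ⟶ U) =>
    ePc O U G (op Y.unop.left) φ) Y.unop.hom ((show O.obj.obj (op Y.unop.left) from r) •
      (show ePc O U G (op Y.unop.left) Y.unop.hom from x))) = _
  rw [DirectSum.of_smul]
  exact (f.app (op Y.unop.left)).hom.map_smul r _

/-- `Hom(j_! G, P) → Hom(G, P|U)` -/
noncomputable def adjTo {G : PSh (O.over U)} {P : PSh O} (f : (eP O U).obj G ⟶ P) :
    G ⟶ (rP O U).obj P :=
  PresheafOfModules.homMk (M₁ := G) (M₂ := (rP O U).obj P)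
    { app := fun Y => AddCommGrpCat.ofHom (adjToAb f Y)
      naturality := fun Y Y' k => by
        ext x
        exact adjToAb_naturality f k x }
    (fun Y r m => adjToAb_smul f Y r m)

/-- `Hom(G, P|U) → Hom(j_! G, P)` on sections -/
noncomputable def adjFromAb {G : PSh (O.over U)} {P : PSh O} (h : G ⟶ (rP O U).obj P)
    (W : Cᵒᵖ) : ePS O U G W →+ P.presheaf.obj W :=
  DirectSum.toAddMonoid (fun φ =>
    (show ePc O U G W φ →+ P.presheaf.obj W from appAb h (op (Over.mk φ))))

theorem adjFromAb_of {G : PSh (O.over U)} {P : PSh O} (h : G ⟶ (rP O U).obj P)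
    (W : Cᵒᵖ) (φ : W.unop ⟶ U) (x : ePc O U G W φ) :
    adjFromAb h W (DirectSum.of (fun φ : (W.unop ⟶ U) => ePc O U G W φ) φ x) =
      (show P.presheaf.obj W from appAb h (op (Over.mk φ)) x) := by
  unfold adjFromAb
  rw [DirectSum.toAddMonoid_of]
  rfl

theorem adjFromAb_naturality {G : PSh (O.over U)} {P : PSh O} (h : G ⟶ (rP O U).obj P)
    {W W' : Cᵒᵖ} (g : W ⟶ W') (m : ePS O U G W) :
    adjFromAb h W' (ePAbMap O U G g m) = P.presheaf.map g (adjFromAb h W m) := by
  induction m using DirectSum.induction_on with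
  | zero => rw [map_zero, map_zero, map_zero]; exact (map_zero _).symm
  | of φ x =>
    rw [ePAbMap_of, adjFromAb_of, adjFromAb_of]
    exact CategoryTheory.congr_fun (((PresheafOfModules.toPresheaf _).map h).naturality
      (Over.homMk g.unop : Over.mk (g.unop ≫ φ) ⟶ Over.mk φ).op) x
  | add a b ha hb => rw [map_add, map_add, map_add, ha, hb, map_add]

theorem adjFromAb_smul {G : PSh (O.over U)} {P : PSh O} (h : G ⟶ (rP O U).obj P)
    (W : Cᵒᵖ) (r : O.obj.obj W) (m : ePS O U G W) :
    adjFromAb h W (r • m) = r • (show P.obj W from adjFromAb h W m) := by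
  induction m using DirectSum.induction_on with
  | zero => rw [smul_zero, map_zero]; exact (smul_zero (A := P.obj W) r).symm
  | of φ x =>
    rw [← DirectSum.of_smul, adjFromAb_of, adjFromAb_of]
    exact (h.app (op (Over.mk φ))).hom.map_smul r x
  | add a b ha hb =>
    rw [smul_add, map_add, map_add, ha, hb]
    exact (smul_add (A := P.obj W) r _ _).symm

/-- `Hom(G, P|U) → Hom(j_! G, P)` -/
noncomputable def adjFrom {G : PSh (O.over U)} {P : PSh O} (h : G ⟶ (rP O U).obj P) :
    (eP O U).obj G ⟶ P :=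
  PresheafOfModules.homMk (M₁ := (eP O U).obj G) (M₂ := P)
    { app := fun W => AddCommGrpCat.ofHom (adjFromAb h W)
      naturality := fun W W' g => by
        ext m
        exact adjFromAb_naturality h g m }
    (fun W r m => adjFromAb_smul h W r m)

theorem adjFrom_adjTo {G : PSh (O.over U)} {P : PSh O} (f : (eP O U).obj G ⟶ P) :
    adjFrom (adjTo f) = f := by
  apply (PresheafOfModules.toPresheaf _).map_injective
  ext W m
  have : adjFromAb (adjTo f) W = (show ePS O U G W →+ P.presheaf.obj W from appAb f W) :=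
    DirectSum.addHom_ext (fun φ x => by rw [adjFromAb_of]; rfl)
  exact DFunLike.congr_fun this m

theorem adjTo_adjFrom {G : PSh (O.over U)} {P : PSh O} (h : G ⟶ (rP O U).obj P) :
    adjTo (adjFrom h) = h := by
  apply (PresheafOfModules.toPresheaf _).map_injective
  ext Y x
  exact (adjFromAb_of h (op Y.unop.left) Y.unop.hom x).trans rfl

variable (O U)

/-- the adjunction `j_! ⊣ j^*` on presheaves of modules -/
noncomputable def ePAdj : eP O U ⊣ rP O U :=
  Adjunction.mkOfHomEquiv
    { homEquiv := fun G P =>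
        { toFun := adjTo
          invFun := adjFrom
          left_inv := adjFrom_adjTo
          right_inv := adjTo_adjFrom }
      homEquiv_naturality_left_symm := by
        intro G' G P α h
        apply (PresheafOfModules.toPresheaf _).map_injective
        ext W m
        have : adjFromAb (α ≫ h) W = (adjFromAb h W).comp (ePMapAb α W) :=
          DirectSum.addHom_ext (fun φ x => by
            rw [adjFromAb_of, AddMonoidHom.comp_apply, ePMapAb_of, adjFromAb_of]; rfl)
        exact DFunLike.congr_fun this m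
      homEquiv_naturality_right := by
        intro G P P' f β
        apply (PresheafOfModules.toPresheaf _).map_injective
        ext Y x
        rfl }


theorem mono_eP_map {G G' : PSh (O.over U)} (α : G ⟶ G') [Mono α] : Mono ((eP O U).map α) := by
  apply PresheafOfModules.mono_of_injective
  intro W
  change Function.Injective (ePMapAb α W)
  unfold ePMapAb
  rw [DirectSum.map_injective]
  intro φ
  exact PresheafOfModules.injective_of_mono α (op (Over.mk φ))

instance : (eP O U).PreservesMonomorphisms where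
  preserves α _ := mono_eP_map O U α

/-- forgetting the sheaf condition -/
noncomputable abbrev fgt (O : Sheaf J RingCat.{u}) : SheafOfModules.{u} O ⥤ PSh O :=
  SheafOfModules.forget O

/-- sheafification -/
noncomputable abbrev shf (O : Sheaf J RingCat.{u}) : PSh O ⥤ SheafOfModules.{u} O :=
  PresheafOfModules.sheafification (𝟙 O.obj)

/-- extension by zero on sheaves of modules -/
noncomputable def eS : SheafOfModules.{u} (O.over U) ⥤ SheafOfModules.{u} O :=
  fgt (O.over U) ⋙ eP O U ⋙ shf O

/-- `i ⋙ j^* = j^* ⋙ i` -/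
noncomputable def fgtRPIso :
    fgt O ⋙ rP O U ≅ SheafOfModules.overFunctor.{u} O U ⋙ fgt (O.over U) :=
  NatIso.ofComponents (fun _ => Iso.refl _) (by
    intro X Y f
    exact (Category.comp_id _).trans (Category.id_comp _).symm)

/-- `a j_! ⊣ j^* i` -/
noncomputable def ePShfAdj : eP O U ⋙ shf O ⊣ fgt O ⋙ rP O U :=
  (ePAdj O U).comp (PresheafOfModules.sheafificationAdjunction (𝟙 O.obj))

/-- the adjunction `j_! ⊣ j^*` -/
noncomputable def eSAdj : eS O U ⊣ SheafOfModules.overFunctor.{u} O U :=
  Adjunction.restrictFullyFaithful (iC := fgt (O.over U)) (iD := 𝟭 (SheafOfModules.{u} O))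
    (ePShfAdj O U) (SheafOfModules.fullyFaithfulForget _) (Functor.FullyFaithful.id _)
    (Functor.rightUnitor _).symm (Functor.leftUnitor _ ≪≫ fgtRPIso O U)

instance : (eS O U).PreservesMonomorphisms := by
  haveI : (fgt (O.over U)).PreservesMonomorphisms := inferInstance
  haveI : (shf O).PreservesMonomorphisms := inferInstance
  unfold eS
  infer_instance

theorem injective_over (I : SheafOfModules.{u} O) [Injective I] : Injective (I.over U) :=
  Injective.injective_of_adjoint (eSAdj O U) I

end Groth.Agent.Helper26.ExtZeroRing
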