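import Mathlib
import Groth.Agent.Lib.Helper26.ExtZeroRing

/-!
# Extension by zero is exact and faithful (port of Helper17.MT13-14 to `RingCat`)
-/

set_option linter.style.haveILetI false
set_option linter.unusedVariables false

open CategoryTheory Limits Opposite DirectSum

namespace Groth.Agent.Helper26.ExtZeroRing

universe u

open scoped Classical

theorem preservesFiniteLimits_of_preservesMono {A A' : Type*} [Category A] [Category A']
    [Abelian A] [Abelian A'] (F : A ⥤ A') [PreservesFiniteColimits F]
    (h : ∀ {X Y : A} (m : X ⟶ Y), Mono m → Mono (F.map m)) : PreservesFiniteLimits F := by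
  have := preservesBinaryBiproducts_of_preservesBinaryCoproducts F
  have : F.Additive := Functor.additive_of_preservesBinaryBiproducts F
  rw [Functor.preservesFiniteLimits_iff_forall_exact_map_and_mono]
  intro S hS
  exact ⟨hS.exact.map_of_epi_of_preservesCokernel F hS.epi_g inferInstance, h _ hS.mono_f⟩

variable {C : Type u} [SmallCategory C] {J : GrothendieckTopology C} (O : Sheaf J RingCat.{u})
  (U : C)

instance isLeftAdjoint_eP : (eP O U).IsLeftAdjoint := (ePAdj O U).isLeftAdjoint

instance preservesFiniteColimits_eP : PreservesFiniteColimits (eP O U) := by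
  have : PreservesColimitsOfSize.{0, 0} (eP O U) := (ePAdj O U).leftAdjoint_preservesColimits
  exact PreservesColimitsOfSize.preservesFiniteColimits _

instance preservesFiniteLimits_eP : PreservesFiniteLimits (eP O U) :=
  preservesFiniteLimits_of_preservesMono _ (fun α _ => mono_eP_map O U α)

instance preservesFiniteLimits_eS : PreservesFiniteLimits (eS O U) := by
  have h1 : PreservesFiniteLimits (eP O U ⋙ shf O) := comp_preservesFiniteLimits _ _
  exact comp_preservesFiniteLimits _ _

/-- the unit of the sheafification adjunction -/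
noncomputable def η (M : PSh O) : M ⟶ (fgt O).obj ((shf O).obj M) :=
  (PresheafOfModules.sheafificationAdjunction (𝟙 O.obj)).unit.app M

theorem isLocallyInjective_η (P : PSh O) :
    Presheaf.IsLocallyInjective J ((PresheafOfModules.toPresheaf _).map (η O P)) := by
  have hW : J.W ((PresheafOfModules.toPresheaf _).map (η O P)) := J.W_toSheafify _
  rw [J.W_iff_isLocallyBijective] at hW
  exact hW.1

theorem isSeparated_val (G : SheafOfModules.{u} (O.over U)) :
    Presieve.IsSeparated (J.over U) (G.val.presheaf ⋙ forget Ab) :=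
  ((isSheaf_iff_isSheaf_of_type _ _).mp
    ((Presheaf.isSheaf_iff_isSheaf_forget (J.over U) G.val.presheaf (forget Ab)).mp
      G.isSheaf)).isSeparated

theorem unit_inj (G : SheafOfModules.{u} (O.over U)) (Y : (Over U)ᵒᵖ)
    (x : ((fgt (O.over U)).obj G).presheaf.obj Y)
    (hx : appAb (η O ((eP O U).obj ((fgt (O.over U)).obj G))) (op Y.unop.left)
      (DirectSum.of (fun φ : (Y.unop.left ⟶ U) =>
        ePc O U ((fgt (O.over U)).obj G) (op Y.unop.left) φ) Y.unop.hom x) = 0) : x = 0 := by
  have := isLocallyInjective_η O ((eP O U).obj ((fgt (O.over U)).obj G))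
  have hS := Presheaf.equalizerSieve_mem J
    ((PresheafOfModules.toPresheaf _).map (η O ((eP O U).obj ((fgt (O.over U)).obj G))))
    (X := op Y.unop.left)
    (DirectSum.of (fun φ : (Y.unop.left ⟶ U) =>
        ePc O U ((fgt (O.over U)).obj G) (op Y.unop.left) φ) Y.unop.hom x) 0
    (hx.trans (map_zero _).symm)
  have hT := GrothendieckTopology.overEquiv_symm_mem_over J Y.unop _ hS
  refine (isSeparated_val O U G _ hT).ext (fun Z k hk => ?_)
  rw [Sieve.overEquiv_symm_iff] at hk
  have hk' : ePAbMap O U ((fgt (O.over U)).obj G) k.left.op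
      (DirectSum.of (fun φ : (Y.unop.left ⟶ U) =>
        ePc O U ((fgt (O.over U)).obj G) (op Y.unop.left) φ) Y.unop.hom x) =
      ePAbMap O U ((fgt (O.over U)).obj G) k.left.op 0 := hk
  rw [ePAbMap_of, map_zero] at hk'
  have h2 := of_map_eq O U ((fgt (O.over U)).obj G) (W := op Z.left) (Y := Y.unop)
    (ψ := Z.hom) (ψ' := k.left ≫ Y.unop.hom) k
    (Over.homMk k.left : Over.mk (k.left ≫ Y.unop.hom) ⟶ Y.unop) rfl x
  have h3 := h2.trans hk'
  have h4 := DirectSum.of_injective (β := fun φ : (Z.left ⟶ U) =>
    ePc O U ((fgt (O.over U)).obj G) (op Z.left) φ) Z.hom (h3.trans (map_zero _).symm)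
  exact h4.trans (map_zero (G.val.presheaf.map k.op).hom).symm

theorem fgt_map_unit (G : SheafOfModules.{u} (O.over U)) :
    (fgt (O.over U)).map ((eSAdj O U).unit.app G) =
      adjTo (𝟙 ((eP O U).obj ((fgt (O.over U)).obj G))) ≫
        (rP O U).map (η O ((eP O U).obj ((fgt (O.over U)).obj G))) := by
  refine (Adjunction.map_restrictFullyFaithful_unit_app (ePShfAdj O U) _ _ _ _ G).trans ?_
  apply (PresheafOfModules.toPresheaf _).map_injective
  ext Y x
  rfl

instance mono_unit (G : SheafOfModules.{u} (O.over U)) : Mono ((eSAdj O U).unit.app G) := by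
  have : (fgt (O.over U)).Faithful :=
    inferInstanceAs (SheafOfModules.forget (O.over U)).Faithful
  apply Functor.mono_of_mono_map (fgt (O.over U))
  rw [fgt_map_unit]
  apply PresheafOfModules.mono_of_injective
  intro Y
  rw [injective_iff_map_eq_zero]
  intro x hx
  exact unit_inj O U G Y x hx

instance faithful_eS : (eS O U).Faithful := (eSAdj O U).faithful_L_of_mono_unit_app

theorem main3087 :
    (SheafOfModules.overFunctor.{u} O U).IsRightAdjoint ∧
    ∀ (L : SheafOfModules.{u} (O.over U) ⥤ SheafOfModules.{u} O)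
      (_ : L ⊣ SheafOfModules.overFunctor.{u} O U),
      PreservesFiniteLimits L ∧ PreservesFiniteColimits L ∧ L.Faithful := by
  refine ⟨(eSAdj O U).isRightAdjoint, fun L adj => ?_⟩
  let e : L ≅ eS O U := adj.leftAdjointUniq (eSAdj O U)
  refine ⟨preservesFiniteLimits_of_natIso e.symm, ?_, Functor.Faithful.of_iso e.symm⟩
  have : PreservesColimitsOfSize.{0, 0} L := adj.leftAdjoint_preservesColimits
  exact PreservesColimitsOfSize.preservesFiniteColimits _

end Groth.Agent.Helper26.ExtZeroRing
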