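import Mathlib

namespace Groth.Agent.Helper26.FFPrinc

universe u

theorem main (R R' : Type u) [CommRing R] [CommRing R'] [IsDomain R']
    [IsNoetherianRing R] [IsLocalRing R']
    [Algebra R R'] [Module.FaithfullyFlat R R']
    (p : Ideal R) (hp : (p.map (algebraMap R R')).IsPrincipal) :
    p.IsPrincipal := by
  classical
  obtain ⟨a, ha⟩ := hp
  have ha' : p.map (algebraMap R R') = Ideal.span {a} := ha
  by_cases ha0 : a = 0
  · have : p = ⊥ := by
      apply Ideal.map_injective_of_faithfullyFlat (B := R')
      rw [ha', ha0, Ideal.map_bot]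
      simp
    rw [this]
    exact ⟨⟨0, by simp⟩⟩
  obtain ⟨s, hs⟩ := (isNoetherianRing_iff_ideal_fg R).1 inferInstance p
  have hmap : p.map (algebraMap R R') = Ideal.span ((s.image (algebraMap R R') : Finset R') : Set R') := by
    rw [← hs, Ideal.map_span, Finset.coe_image]
  have ha_mem : a ∈ Ideal.span ((s.image (algebraMap R R') : Finset R') : Set R') := by
    rw [← hmap, ha']
    exact Ideal.mem_span_singleton_self a
  obtain ⟨f, -, hf⟩ := Submodule.mem_span_finset.1 ha_mem
  have hv : ∀ y ∈ s.image (algebraMap R R'), ∃ v : R', v * a = y := by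
    intro y hy
    have : y ∈ Ideal.span {a} := by
      rw [← ha', hmap]
      exact Ideal.subset_span hy
    exact Ideal.mem_span_singleton'.1 this
  choose! v hv using hv
  have hsum : ∑ y ∈ s.image (algebraMap R R'), f y * v y = 1 := by
    have h1 : (∑ y ∈ s.image (algebraMap R R'), f y * v y) * a = 1 * a := by
      rw [Finset.sum_mul, one_mul]
      conv_rhs => rw [← hf]
      refine Finset.sum_congr rfl fun y hy => ?_
      rw [mul_assoc, hv y hy, smul_eq_mul]
    exact mul_right_cancel₀ ha0 h1
  -- some term is a unit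
  have hex : ∃ y ∈ s.image (algebraMap R R'), IsUnit (f y * v y) := by
    by_contra hcon
    push Not at hcon
    have : (∑ y ∈ s.image (algebraMap R R'), f y * v y) ∈ IsLocalRing.maximalIdeal R' :=
      Ideal.sum_mem _ fun y hy => (IsLocalRing.mem_maximalIdeal _).2 (hcon y hy)
    rw [hsum] at this
    exact (IsLocalRing.mem_maximalIdeal _).1 this isUnit_one
  obtain ⟨y, hy, hunit⟩ := hex
  have hvunit : IsUnit (v y) := isUnit_of_mul_isUnit_right hunit
  obtain ⟨x, hxs, rfl⟩ := Finset.mem_image.1 hy
  have hspan : p.map (algebraMap R R') = (Ideal.span {x}).map (algebraMap R R') := by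
    rw [ha', Ideal.map_span, Set.image_singleton, ← hv _ hy, Ideal.span_singleton_mul_left_unit hvunit]
  have hpx : p = Ideal.span {x} := Ideal.map_injective_of_faithfullyFlat (B := R') hspan
  rw [hpx]
  exact ⟨⟨x, rfl⟩⟩

end Groth.Agent.Helper26.FFPrinc
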