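import Mathlib

set_option autoImplicit false
set_option linter.unusedSectionVars false
set_option linter.unusedVariables false
universe u
open TensorProduct IsLocalRing

namespace Groth.Agent.Helper26.FibNZ

section

variable {A A' B B' : Type u} [CommRing A] [CommRing A'] [CommRing B] [CommRing B']
  [IsLocalRing A] [IsLocalRing A'] [IsLocalRing B] [IsLocalRing B']
  [Algebra A A'] [Algebra A B] [Algebra A' B'] [Algebra B B'] [Algebra A B']
  [IsScalarTower A A' B'] [IsScalarTower A B B']
  [IsLocalHom (algebraMap A A')] [IsLocalHom (algebraMap A B)] [IsLocalHom (algebraMap A' B')]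
  [IsLocalHom (algebraMap B B')]

variable (A B) in
/-- the ideal `m_A B`. -/
abbrev IB : Ideal B := (maximalIdeal A).map (algebraMap A B)

variable (A B) in
/-- the fibre ring `B / m_A B`. -/
abbrev Bbar : Type u := B ⧸ IB A B

instance : Algebra (ResidueField A) (Bbar A B) :=
  inferInstanceAs (Algebra (A ⧸ maximalIdeal A) (B ⧸ (maximalIdeal A).map (algebraMap A B)))

omit [IsLocalRing B] [IsLocalHom (algebraMap A B)] in
theorem algebraMap_residue_Bbar (a : A) :
    algebraMap (ResidueField A) (Bbar A B) (residue A a) =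
      Ideal.Quotient.mk (IB A B) (algebraMap A B a) :=
  Ideal.Quotient.algebraMap_quotient_map_quotient (p := maximalIdeal A) (S := B) a

theorem IB_le : IB A B ≤ maximalIdeal B :=
  ((local_hom_TFAE (algebraMap A B)).out 0 2 rfl rfl).mp inferInstance

instance : Nontrivial (Bbar A B) :=
  Ideal.Quotient.nontrivial_iff.2 (fun h => (maximalIdeal B).ne_top_iff_one.1
    (inferInstance : (maximalIdeal B).IsMaximal).ne_top (by
      have := IB_le (A := A) (B := B); rw [h] at this; exact this trivial))

instance : IsLocalRing (Bbar A B) :=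
  .of_surjective' (Ideal.Quotient.mk (IB A B)) Ideal.Quotient.mk_surjective

variable (A A' B) in
/-- the ring `(B / m_A B) ⊗_k k'`. -/
abbrev Cbar : Type u := Bbar A B ⊗[ResidueField A] ResidueField A'

noncomputable instance algACbar : Algebra A (Cbar A A' B) :=
  ((Algebra.TensorProduct.includeLeft (R := ResidueField A) (S := ResidueField A)
    (A := Bbar A B) (B := ResidueField A')).toRingHom.comp
      ((Ideal.Quotient.mk (IB A B)).comp (algebraMap A B))).toAlgebra

theorem algebraMap_A_Cbar (a : A) :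
    algebraMap A (Cbar A A' B) a = (Ideal.Quotient.mk (IB A B) (algebraMap A B a)) ⊗ₜ 1 := rfl

variable (A A' B) in
/-- `A' → C̄`. -/
noncomputable def fA' : A' →ₐ[A] Cbar A A' B :=
  { toRingHom := (Algebra.TensorProduct.includeRight (R := ResidueField A)
      (A := Bbar A B) (B := ResidueField A')).toRingHom.comp (residue A')
    commutes' := fun a => by
      change (1 : Bbar A B) ⊗ₜ[ResidueField A] (residue A' (algebraMap A A' a)) = _
      rw [algebraMap_A_Cbar, ← algebraMap_residue_Bbar, ← ResidueField.algebraMap_residue,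
        Algebra.algebraMap_eq_smul_one, Algebra.algebraMap_eq_smul_one, TensorProduct.smul_tmul] }

variable (A A' B) in
/-- `B → C̄`. -/
noncomputable def fB : B →ₐ[A] Cbar A A' B :=
  { toRingHom := (Algebra.TensorProduct.includeLeft (R := ResidueField A) (S := ResidueField A)
      (A := Bbar A B) (B := ResidueField A')).toRingHom.comp (Ideal.Quotient.mk (IB A B))
    commutes' := fun a => rfl }

variable (A A' B) in
/-- `π : A' ⊗[A] B → C̄`. -/
noncomputable def piC : A' ⊗[A] B →ₐ[A] Cbar A A' B :=
  Algebra.TensorProduct.lift (fA' A A' B) (fB A A' B) (fun _ _ => Commute.all _ _)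

theorem piC_tmul (a' : A') (b : B) :
    piC A A' B (a' ⊗ₜ b) = (Ideal.Quotient.mk (IB A B) b) ⊗ₜ (residue A' a') := by
  rw [piC, Algebra.TensorProduct.lift_tmul]
  change ((1 : Bbar A B) ⊗ₜ[ResidueField A] (residue A' a')) *
    ((Ideal.Quotient.mk (IB A B) b) ⊗ₜ[ResidueField A] (1 : ResidueField A')) = _
  rw [Algebra.TensorProduct.tmul_mul_tmul, one_mul, mul_one]

theorem piC_surjective : Function.Surjective (piC A A' B) := by
  intro x
  induction x using TensorProduct.induction_on with
  | zero => exact ⟨0, map_zero _⟩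
  | add x y hx hy =>
    obtain ⟨a, rfl⟩ := hx
    obtain ⟨b, rfl⟩ := hy
    exact ⟨a + b, map_add _ _ _⟩
  | tmul x y =>
    obtain ⟨b, rfl⟩ := Ideal.Quotient.mk_surjective x
    obtain ⟨a', rfl⟩ := residue_surjective y
    exact ⟨a' ⊗ₜ b, piC_tmul a' b⟩

noncomputable instance algCCbar : Algebra (A' ⊗[A] B) (Cbar A A' B) :=
  (piC A A' B).toRingHom.toAlgebra

theorem algebraMap_C_Cbar (c : A' ⊗[A] B) : algebraMap (A' ⊗[A] B) (Cbar A A' B) c = piC A A' B c :=
  rfl

instance : SMulCommClass (A' ⊗[A] B) (Bbar A B) (Cbar A A' B) :=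
  ⟨fun c b x => by
    rw [Algebra.smul_def c, Algebra.smul_def c, mul_smul_comm]⟩

theorem smul_Cbar (b : Bbar A B) (x : Cbar A A' B) :
    b • x = (b ⊗ₜ[ResidueField A] (1 : ResidueField A')) * x := by
  induction x using TensorProduct.induction_on with
  | zero => simp
  | add x y hx hy => rw [smul_add, mul_add, hx, hy]
  | tmul y z =>
    rw [TensorProduct.smul_tmul', Algebra.TensorProduct.tmul_mul_tmul, one_mul, smul_eq_mul]

variable [Algebra (A' ⊗[A] B) B']

variable (A A' B B') in
/-- the ring `R' = C̄ ⊗[C] B'`. -/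
abbrev Rp : Type u := Cbar A A' B ⊗[A' ⊗[A] B] B'

noncomputable example : Module (Bbar A B) (Rp A A' B B') := inferInstance
example : IsScalarTower (Bbar A B) (Cbar A A' B) (Rp A A' B B') := inferInstance
example : Module.Flat (Bbar A B) (Cbar A A' B) := inferInstance
example [Module.Flat (A' ⊗[A] B) B'] : Module.Flat (Cbar A A' B) (Rp A A' B B') := inferInstance

theorem flat_Rp [Module.Flat (A' ⊗[A] B) B'] : Module.Flat (Bbar A B) (Rp A A' B B') :=
  Module.Flat.trans (Bbar A B) (Cbar A A' B) (Rp A A' B B')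

variable [IsLocalHom (algebraMap A B')]

variable (A B B') in
/-- `B̄ → κ(B')`. -/
noncomputable def f₁ : Bbar A B →ₐ[ResidueField A] ResidueField B' :=
  { toRingHom := Ideal.Quotient.lift (IB A B) ((residue B').comp (algebraMap B B')) (by
      intro b hb
      have h1 : b ∈ maximalIdeal B := IB_le hb
      change residue B' (algebraMap B B' b) = 0
      rw [residue_eq_zero_iff]
      exact (mem_maximalIdeal _).2 (fun hu => (mem_maximalIdeal _).1 h1
        (isUnit_of_map_unit (algebraMap B B') b hu)))
    commutes' := fun x => by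
      obtain ⟨a, rfl⟩ := residue_surjective x
      rw [ResidueField.algebraMap_residue]
      change Ideal.Quotient.lift (IB A B) ((residue B').comp (algebraMap B B')) _
        (algebraMap (ResidueField A) (Bbar A B) (residue A a)) = _
      rw [algebraMap_residue_Bbar, Ideal.Quotient.lift_mk]
      change residue B' (algebraMap B B' (algebraMap A B a)) = _
      rw [← IsScalarTower.algebraMap_apply] }

theorem f₁_mk (b : B) : f₁ A B B' (Ideal.Quotient.mk (IB A B) b) = residue B' (algebraMap B B' b) :=
  rfl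

variable (A A' B') in
/-- `k' → κ(B')`. -/
noncomputable def f₂ : ResidueField A' →ₐ[ResidueField A] ResidueField B' :=
  { toRingHom := algebraMap (ResidueField A') (ResidueField B')
    commutes' := fun x => by
      obtain ⟨a, rfl⟩ := residue_surjective x
      change algebraMap (ResidueField A') (ResidueField B')
        (algebraMap (ResidueField A) (ResidueField A') (residue A a)) = _
      rw [ResidueField.algebraMap_residue, ResidueField.algebraMap_residue,
        ResidueField.algebraMap_residue, ← IsScalarTower.algebraMap_apply] }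

theorem f₂_residue (a' : A') : f₂ A A' B' (residue A' a') = residue B' (algebraMap A' B' a') :=
  ResidueField.algebraMap_residue a'

variable (A A' B B') in
/-- `ε₁ : C̄ → κ(B')`. -/
noncomputable def eps₁ : Cbar A A' B →ₐ[ResidueField A] ResidueField B' :=
  Algebra.TensorProduct.lift (f₁ A B B') (f₂ A A' B') (fun _ _ => Commute.all _ _)

theorem eps₁_tmul (x : Bbar A B) (y : ResidueField A') :
    eps₁ A A' B B' (x ⊗ₜ y) = f₁ A B B' x * f₂ A A' B' y :=
  Algebra.TensorProduct.lift_tmul _ _ _ _ _

theorem eps₁_piC (hA : ∀ a' : A', algebraMap (A' ⊗[A] B) B' (a' ⊗ₜ 1) = algebraMap A' B' a')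
    (hB : ∀ b : B, algebraMap (A' ⊗[A] B) B' (1 ⊗ₜ b) = algebraMap B B' b) (c : A' ⊗[A] B) :
    eps₁ A A' B B' (piC A A' B c) = residue B' (algebraMap (A' ⊗[A] B) B' c) := by
  induction c using TensorProduct.induction_on with
  | zero => simp
  | add x y hx hy => simp only [map_add, hx, hy]
  | tmul a' b =>
    rw [piC_tmul, eps₁_tmul, f₁_mk, f₂_residue, ← map_mul]
    congr 1
    have : (a' ⊗ₜ[A] b : A' ⊗[A] B) = (a' ⊗ₜ 1) * (1 ⊗ₜ b) := by
      rw [Algebra.TensorProduct.tmul_mul_tmul, mul_one, one_mul]
    rw [this, map_mul, hA, hB, mul_comm]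

variable (hA : ∀ a' : A', algebraMap (A' ⊗[A] B) B' (a' ⊗ₜ 1) = algebraMap A' B' a')
    (hB : ∀ b : B, algebraMap (A' ⊗[A] B) B' (1 ⊗ₜ b) = algebraMap B B' b)

include hA hB in
/-- `ε : R' → κ(B')`. -/
theorem exists_eps : ∃ ε : Rp A A' B B' →+ ResidueField B',
    ∀ (x : Cbar A A' B) (b' : B'), ε (x ⊗ₜ b') = eps₁ A A' B B' x * residue B' b' := by
  refine ⟨TensorProduct.liftAddHom
    { toFun := fun x =>
        { toFun := fun b' => eps₁ A A' B B' x * residue B' b'
          map_zero' := by simp
          map_add' := fun b c => by rw [map_add, mul_add] }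
      map_zero' := by ext; simp
      map_add' := fun x y => by ext b'; simp [add_mul] } ?_, fun x b' => rfl⟩
  intro c x b'
  change eps₁ A A' B B' (c • x) * residue B' b' = eps₁ A A' B B' x * residue B' (c • b')
  rw [Algebra.smul_def, Algebra.smul_def, map_mul, map_mul, algebraMap_C_Cbar, eps₁_piC hA hB]
  ring

include hA hB in
theorem faithfullyFlat_Rp [Module.Flat (A' ⊗[A] B) B'] :
    Module.FaithfullyFlat (Bbar A B) (Rp A A' B B') := by
  have hflat : Module.Flat (Bbar A B) (Rp A A' B B') := flat_Rp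
  refine { toFlat := hflat, submodule_ne_top := fun m hm htop => ?_ }
  obtain ⟨ε, hε⟩ := exists_eps hA hB
  have hm' : m = maximalIdeal (Bbar A B) := IsLocalRing.eq_maximalIdeal hm
  have hzero : ∀ r ∈ m • (⊤ : Submodule (Bbar A B) (Rp A A' B B')), ε r = 0 := by
    intro r hr
    refine Submodule.smul_induction_on hr ?_ ?_
    · intro b hb r hr'
      clear hr'
      induction r using TensorProduct.induction_on with
      | zero => simp
      | add x y hx hy => rw [smul_add, map_add, hx, hy, add_zero]
      | tmul x b' =>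
        rw [TensorProduct.smul_tmul', hε, smul_Cbar, map_mul]
        have h0 : eps₁ A A' B B' (b ⊗ₜ[ResidueField A] (1 : ResidueField A')) = 0 := by
          obtain ⟨b₀, rfl⟩ := Ideal.Quotient.mk_surjective b
          rw [eps₁_tmul, f₁_mk, map_one, mul_one, residue_eq_zero_iff]
          have hb₀ : b₀ ∈ maximalIdeal B := by
            rw [mem_maximalIdeal]
            intro hu
            rw [hm'] at hb
            exact (mem_maximalIdeal _).1 hb (hu.map (Ideal.Quotient.mk (IB A B)))
          exact (mem_maximalIdeal _).2 (fun hu => (mem_maximalIdeal _).1 hb₀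
            (isUnit_of_map_unit (algebraMap B B') b₀ hu))
        rw [h0, zero_mul, zero_mul]
    · intro x y hx hy
      rw [map_add, hx, hy, add_zero]
  have h1 : ε ((1 : Cbar A A' B) ⊗ₜ (1 : B')) = 0 := hzero _ (by rw [htop]; trivial)
  rw [hε, map_one, map_one, mul_one] at h1
  exact one_ne_zero h1

variable (M : Type u) [AddCommGroup M] [Module B M]

variable (A B) in
/-- the fibre module `M / m_A M`. -/
abbrev Nbar : Type u := M ⧸ (IB A B • (⊤ : Submodule B M))

noncomputable example : Module (Bbar A B) (Nbar A B M) := inferInstance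

theorem mk_smul_mk (b : B) (m : M) :
    (Ideal.Quotient.mk (IB A B) b) • (Submodule.Quotient.mk m : Nbar A B M) =
      Submodule.Quotient.mk (b • m) := rfl

include hA hB in
theorem exists_ell : ∃ ℓ : B' ⊗[B] M →+ Rp A A' B B' ⊗[Bbar A B] Nbar A B M,
    ∀ (b' : B') (m : M), ℓ (b' ⊗ₜ m) =
      (((1 : Cbar A A' B) ⊗ₜ[A' ⊗[A] B] b' : Rp A A' B B') ⊗ₜ[Bbar A B]
        (Submodule.Quotient.mk m : Nbar A B M)) := by
  refine ⟨TensorProduct.liftAddHom
    { toFun := fun b' =>
        { toFun := fun m => (((1 : Cbar A A' B) ⊗ₜ[A' ⊗[A] B] b' : Rp A A' B B') ⊗ₜ[Bbar A B]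
            (Submodule.Quotient.mk m : Nbar A B M))
          map_zero' := by simp
          map_add' := fun m n => by rw [Submodule.Quotient.mk_add, TensorProduct.tmul_add] }
      map_zero' := by ext; simp
      map_add' := fun x y => by ext m; simp [TensorProduct.tmul_add, TensorProduct.add_tmul] } ?_,
    fun b' m => rfl⟩
  intro b b' m
  change (((1 : Cbar A A' B) ⊗ₜ[A' ⊗[A] B] (b • b') : Rp A A' B B') ⊗ₜ[Bbar A B]
      (Submodule.Quotient.mk m : Nbar A B M)) =
    (((1 : Cbar A A' B) ⊗ₜ[A' ⊗[A] B] b' : Rp A A' B B') ⊗ₜ[Bbar A B]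
      (Submodule.Quotient.mk (b • m) : Nbar A B M))
  have h1 : b • b' = ((1 : A') ⊗ₜ[A] b : A' ⊗[A] B) • b' := by
    rw [Algebra.smul_def, Algebra.smul_def, hB]
  have h2 : ((1 : Cbar A A' B) ⊗ₜ[A' ⊗[A] B] (b • b') : Rp A A' B B') =
      (Ideal.Quotient.mk (IB A B) b) • ((1 : Cbar A A' B) ⊗ₜ[A' ⊗[A] B] b') := by
    rw [h1, ← TensorProduct.smul_tmul, TensorProduct.smul_tmul', Algebra.smul_def,
      algebraMap_C_Cbar, piC_tmul, map_one, mul_one, smul_Cbar, mul_one]
  rw [h2, TensorProduct.smul_tmul, mk_smul_mk]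

include hA hB in
theorem fibre_ne_top [Module.Flat (A' ⊗[A] B) B']
    (hM : (IB A B • (⊤ : Submodule B M)) ≠ ⊤) :
    ((maximalIdeal A').map (algebraMap A' B')) • (⊤ : Submodule B' (B' ⊗[B] M)) ≠ ⊤ := by
  intro htop
  obtain ⟨ℓ, hℓ⟩ := exists_ell hA hB M
  -- the ideal of elements acting by zero after `ℓ`
  let J : Ideal B' :=
    { carrier := {i | ∀ t : B' ⊗[B] M, ℓ (i • t) = 0}
      zero_mem' := fun t => by rw [zero_smul, map_zero]
      add_mem' := fun {i j} hi hj t => by rw [add_smul, map_add, hi t, hj t, add_zero]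
      smul_mem' := fun c i hi t => by
        change ℓ ((c * i) • t) = 0
        rw [mul_comm, mul_smul]
        exact hi (c • t) }
  have hJ : (maximalIdeal A').map (algebraMap A' B') ≤ J := by
    rw [Ideal.map_le_iff_le_comap]
    intro a' ha' t
    induction t using TensorProduct.induction_on with
    | zero => rw [smul_zero, map_zero]
    | add x y hx hy => rw [smul_add, map_add, hx, hy, add_zero]
    | tmul b' m =>
      rw [TensorProduct.smul_tmul', hℓ]
      have h1 : (algebraMap A' B' a') • b' = ((a' ⊗ₜ[A] (1 : B) : A' ⊗[A] B)) • b' := by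
        rw [Algebra.smul_def ((a' ⊗ₜ[A] (1 : B) : A' ⊗[A] B)), hA, smul_eq_mul]
      have h2 : ((1 : Cbar A A' B) ⊗ₜ[A' ⊗[A] B] ((algebraMap A' B' a') • b') : Rp A A' B B') = 0 := by
        rw [h1, ← TensorProduct.smul_tmul, Algebra.smul_def, algebraMap_C_Cbar, piC_tmul,
          (residue_eq_zero_iff a').2 ha', TensorProduct.tmul_zero, zero_mul, TensorProduct.zero_tmul]
      rw [h2, TensorProduct.zero_tmul]
  have hzero : ∀ t : B' ⊗[B] M, ℓ t = 0 := by
    intro t
    have ht : t ∈ ((maximalIdeal A').map (algebraMap A' B')) • (⊤ : Submodule B' (B' ⊗[B] M)) := by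
      rw [htop]; trivial
    refine Submodule.smul_induction_on ht ?_ ?_
    · intro i hi t _
      exact hJ hi t
    · intro x y hx hy
      rw [map_add, hx, hy, add_zero]
  have hsub : Subsingleton (Rp A A' B B' ⊗[Bbar A B] Nbar A B M) := by
    refine ⟨fun x y => ?_⟩
    suffices h : ∀ z : Rp A A' B B' ⊗[Bbar A B] Nbar A B M, z = 0 by rw [h x, h y]
    intro z
    induction z using TensorProduct.induction_on with
    | zero => rfl
    | add x y hx hy => rw [hx, hy, add_zero]
    | tmul r n =>
      obtain ⟨m, rfl⟩ := Submodule.Quotient.mk_surjective _ n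
      induction r using TensorProduct.induction_on with
      | zero => rw [TensorProduct.zero_tmul]
      | add x y hx hy => rw [TensorProduct.add_tmul, hx, hy, add_zero]
      | tmul x b' =>
        obtain ⟨c, rfl⟩ := piC_surjective x
        have h3 : ((piC A A' B c) ⊗ₜ[A' ⊗[A] B] b' : Rp A A' B B') =
            (1 : Cbar A A' B) ⊗ₜ[A' ⊗[A] B] (c • b') := by
          rw [← TensorProduct.smul_tmul, Algebra.smul_def, algebraMap_C_Cbar, mul_one]
        rw [h3, ← hℓ, hzero]
  have hff : Module.FaithfullyFlat (Bbar A B) (Rp A A' B B') := faithfullyFlat_Rp hA hB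
  have hN : Subsingleton (Nbar A B M) :=
    Module.FaithfullyFlat.lTensor_reflects_triviality (Bbar A B) (Rp A A' B B') (Nbar A B M)
  exact hM (Submodule.Quotient.subsingleton_iff.1 hN)

end

end Groth.Agent.Helper26.FibNZ
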