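import Mathlib
import Groth.Prelude.Def_FlatMod2
import Groth.Agent.Lib.Helper12.FlatModBC3
import Groth.Agent.Lib.Helper26.FibNZ

set_option autoImplicit false
set_option linter.style.haveILetI false
universe u
open CategoryTheory CategoryTheory.Limits AlgebraicGeometry TensorProduct IsLocalRing

namespace Groth.Agent.Helper26.FFPull

open Groth.Agent.Helper12.FlatModBC Groth.Agent.Helper26.FibNZ

section alg

variable {A B M : Type*} [CommRing A] [CommRing B] [AddCommGroup M] [Module B M]

/-- `(I B) M = ⊤` implies `I M = ⊤` for the restricted structure. -/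
theorem smul_top_compHom (ψ : A →+* B) (I : Ideal A)
    (h : (I.map ψ) • (⊤ : Submodule B M) = ⊤) :
    letI := Module.compHom M ψ
    I • (⊤ : Submodule A M) = ⊤ := by
  letI := Module.compHom M ψ
  let J : Ideal B :=
    { carrier := {i | ∀ m : M, i • m ∈ I • (⊤ : Submodule A M)}
      zero_mem' := fun m => by rw [zero_smul]; exact zero_mem _
      add_mem' := fun {i j} hi hj m => by rw [add_smul]; exact add_mem (hi m) (hj m)
      smul_mem' := fun c i hi m => by
        change (c * i) • m ∈ _
        rw [mul_comm, mul_smul]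
        exact hi (c • m) }
  have hJ : I.map ψ ≤ J := by
    rw [Ideal.map_le_iff_le_comap]
    intro a ha m
    change ψ a • m ∈ _
    exact Submodule.smul_mem_smul (N := (⊤ : Submodule A M)) ha trivial
  rw [eq_top_iff]
  intro x _
  have hx : x ∈ (I.map ψ) • (⊤ : Submodule B M) := by rw [h]; trivial
  refine Submodule.smul_induction_on hx ?_ ?_
  · intro i hi m _
    exact hJ hi m
  · intro a b ha hb
    exact add_mem ha hb

/-- `I M = ⊤` for the restricted structure implies `(I B) M = ⊤`. -/
theorem smul_top_of_compHom (ψ : A →+* B) (I : Ideal A)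
    (h : letI := Module.compHom M ψ
      I • (⊤ : Submodule A M) = ⊤) :
    (I.map ψ) • (⊤ : Submodule B M) = ⊤ := by
  letI := Module.compHom M ψ
  rw [eq_top_iff]
  intro x _
  have hx : x ∈ I • (⊤ : Submodule A M) := by rw [h]; trivial
  refine Submodule.smul_induction_on hx ?_ ?_
  · intro a ha m _
    change ψ a • m ∈ _
    exact Submodule.smul_mem_smul (Ideal.mem_map_of_mem ψ ha) trivial
  · intro a b ha hb
    exact add_mem ha hb

end alg

section sch

variable {X S X' S' : Scheme.{u}} {f : X ⟶ S} {f' : X' ⟶ S'} {g' : X' ⟶ X} {g : S' ⟶ S}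

theorem isLocalHom_gam (hc : IsPullback g' f' f g) (x' : X') : IsLocalHom (gam hc x').hom := by
  rw [gam]
  have h1 : IsLocalHom (S.presheaf.stalkCongr (.of_eq (pt_eq hc x'))).hom.hom :=
    isLocalHom_of_isIso _
  have h2 : IsLocalHom (g.stalkMap (f' x')).hom := inferInstance
  exact RingHom.isLocalHom_comp _ _

theorem fibre_ne_top_baseChange (hc : IsPullback g' f' f g)
    (F : X.Modules) [F.IsQuasicoherent] (x' : X')
    (hne : letI := FlatMod.moduleStalkOver f F (g' x')
      maximalIdeal (S.presheaf.stalk (f (g' x'))) •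
        (⊤ : Submodule (S.presheaf.stalk (f (g' x'))) (F.presheaf.stalk (g' x'))) ≠ ⊤) :
    letI := FlatMod.moduleStalkOver f' ((Scheme.Modules.pullback g').obj F) x'
    maximalIdeal (S'.presheaf.stalk (f' x')) •
      (⊤ : Submodule (S'.presheaf.stalk (f' x'))
        (((Scheme.Modules.pullback g').obj F).presheaf.stalk x')) ≠ ⊤ := by
  letI iAA' : Algebra (S.presheaf.stalk (f (g' x'))) (S'.presheaf.stalk (f' x')) :=
    (gam hc x').hom.toAlgebra
  letI iAB : Algebra (S.presheaf.stalk (f (g' x'))) (X.presheaf.stalk (g' x')) :=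
    (f.stalkMap (g' x')).hom.toAlgebra
  letI iA'B' : Algebra (S'.presheaf.stalk (f' x')) (X'.presheaf.stalk x') :=
    (f'.stalkMap x').hom.toAlgebra
  letI iBB' : Algebra (X.presheaf.stalk (g' x')) (X'.presheaf.stalk x') :=
    (g'.stalkMap x').hom.toAlgebra
  letI iAB' : Algebra (S.presheaf.stalk (f (g' x'))) (X'.presheaf.stalk x') :=
    ((f'.stalkMap x').hom.comp (gam hc x').hom).toAlgebra
  haveI : IsScalarTower (S.presheaf.stalk (f (g' x'))) (S'.presheaf.stalk (f' x'))
      (X'.presheaf.stalk x') := IsScalarTower.of_algebraMap_eq fun r => rfl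
  haveI : IsScalarTower (S.presheaf.stalk (f (g' x'))) (X.presheaf.stalk (g' x'))
      (X'.presheaf.stalk x') := IsScalarTower.of_algebraMap_eq fun r => by
    have := congrArg (fun t => t.hom r) (gam_comm hc x')
    exact this.symm
  haveI l1 : IsLocalHom (algebraMap (S.presheaf.stalk (f (g' x'))) (S'.presheaf.stalk (f' x'))) :=
    isLocalHom_gam hc x'
  haveI l2 : IsLocalHom (algebraMap (S.presheaf.stalk (f (g' x'))) (X.presheaf.stalk (g' x'))) :=
    (inferInstance : IsLocalHom (f.stalkMap (g' x')).hom)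
  haveI l3 : IsLocalHom (algebraMap (S'.presheaf.stalk (f' x')) (X'.presheaf.stalk x')) :=
    (inferInstance : IsLocalHom (f'.stalkMap x').hom)
  haveI l4 : IsLocalHom (algebraMap (X.presheaf.stalk (g' x')) (X'.presheaf.stalk x')) :=
    (inferInstance : IsLocalHom (g'.stalkMap x').hom)
  haveI l5 : IsLocalHom (algebraMap (S.presheaf.stalk (f (g' x'))) (X'.presheaf.stalk x')) := by
    have : IsLocalHom (gam hc x').hom := isLocalHom_gam hc x'
    exact RingHom.isLocalHom_comp _ _
  obtain ⟨φ, hφ, hφflat⟩ := flat_tensor_stalk hc x'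
  obtain ⟨e⟩ := Groth.Agent.Helper13.Pullback.exists_stalk_pullback_equiv g' F x'
  letI iCB' : Algebra ((S'.presheaf.stalk (f' x')) ⊗[S.presheaf.stalk (f (g' x'))]
      (X.presheaf.stalk (g' x'))) (X'.presheaf.stalk x') := φ.toAlgebra
  haveI : Module.Flat ((S'.presheaf.stalk (f' x')) ⊗[S.presheaf.stalk (f (g' x'))]
      (X.presheaf.stalk (g' x'))) (X'.presheaf.stalk x') := hφflat
  have hA : ∀ a' : S'.presheaf.stalk (f' x'),
      algebraMap ((S'.presheaf.stalk (f' x')) ⊗[S.presheaf.stalk (f (g' x'))]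
        (X.presheaf.stalk (g' x'))) (X'.presheaf.stalk x') (a' ⊗ₜ 1) =
      algebraMap (S'.presheaf.stalk (f' x')) (X'.presheaf.stalk x') a' := by
    intro a'
    change φ (a' ⊗ₜ 1) = (f'.stalkMap x').hom a'
    rw [hφ, map_one, mul_one]
  have hB : ∀ b : X.presheaf.stalk (g' x'),
      algebraMap ((S'.presheaf.stalk (f' x')) ⊗[S.presheaf.stalk (f (g' x'))]
        (X.presheaf.stalk (g' x'))) (X'.presheaf.stalk x') (1 ⊗ₜ b) =
      algebraMap (X.presheaf.stalk (g' x')) (X'.presheaf.stalk x') b := by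
    intro b
    change φ (1 ⊗ₜ b) = (g'.stalkMap x').hom b
    rw [hφ, map_one, one_mul]
  have hM : (IB (S.presheaf.stalk (f (g' x'))) (X.presheaf.stalk (g' x')) •
      (⊤ : Submodule (X.presheaf.stalk (g' x')) (F.presheaf.stalk (g' x')))) ≠ ⊤ := by
    intro htop
    exact hne (smul_top_compHom (f.stalkMap (g' x')).hom _ htop)
  have key := fibre_ne_top hA hB (F.presheaf.stalk (g' x')) hM
  intro htop
  apply key
  have h2 := smul_top_of_compHom (M := ((Scheme.Modules.pullback g').obj F).presheaf.stalk x')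
    (f'.stalkMap x').hom (maximalIdeal (S'.presheaf.stalk (f' x'))) htop
  rw [eq_top_iff]
  intro t _
  have ht : e.symm t ∈ (Ideal.map (f'.stalkMap x').hom (maximalIdeal (S'.presheaf.stalk (f' x')))) •
      (⊤ : Submodule (X'.presheaf.stalk x')
        (((Scheme.Modules.pullback g').obj F).presheaf.stalk x')) := by
    rw [h2]; trivial
  have : e (e.symm t) ∈ (Ideal.map (algebraMap (S'.presheaf.stalk (f' x')) (X'.presheaf.stalk x'))
      (maximalIdeal (S'.presheaf.stalk (f' x')))) •
      (⊤ : Submodule (X'.presheaf.stalk x') ((X'.presheaf.stalk x') ⊗[X.presheaf.stalk (g' x')]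
        (F.presheaf.stalk (g' x')))) := by
    refine Submodule.smul_induction_on ht ?_ ?_
    · intro i hi m _
      rw [map_smul]
      exact Submodule.smul_mem_smul hi trivial
    · intro a b ha hb
      rw [map_add]
      exact add_mem ha hb
  rwa [LinearEquiv.apply_symm_apply] at this

theorem main {X Y Y' : Scheme.{u}} (f : X ⟶ Y) (g : Y' ⟶ Y)
    (F : X.Modules) (hF : Coh.IsQCoh F) (hFfl : FlatMod.IsFlatOver f F)
    (hFff : (∀ y : ↥Y, ∃ x : ↥X, f x = y ∧
      letI := FlatMod.moduleStalkOver f F x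
      IsLocalRing.maximalIdeal (Y.presheaf.stalk (f x)) • (⊤ : Submodule (Y.presheaf.stalk (f x)) (F.presheaf.stalk x)) ≠ ⊤)) :
    FlatMod.IsFlatOver (pullback.snd f g) ((Scheme.Modules.pullback (pullback.fst f g)).obj F) ∧
      (∀ y' : ↥Y', ∃ x' : ↥(pullback f g), (pullback.snd f g) x' = y' ∧
      letI := FlatMod.moduleStalkOver (pullback.snd f g) ((Scheme.Modules.pullback (pullback.fst f g)).obj F) x'
      IsLocalRing.maximalIdeal (Y'.presheaf.stalk ((pullback.snd f g) x')) • (⊤ : Submodule (Y'.presheaf.stalk ((pullback.snd f g) x')) (((Scheme.Modules.pullback (pullback.fst f g)).obj F).presheaf.stalk x')) ≠ ⊤) := by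
  haveI : F.IsQuasicoherent := hF
  have hc : IsPullback (pullback.fst f g) (pullback.snd f g) f g := IsPullback.of_hasPullback f g
  refine ⟨fun x' => isFlatOverAt_baseChange hc F x' (hFfl _), fun y' => ?_⟩
  obtain ⟨x, hx, hne⟩ := hFff (g y')
  obtain ⟨x', rfl, rfl⟩ := Scheme.Pullback.exists_preimage_pullback x y' hx
  exact ⟨x', rfl, fibre_ne_top_baseChange hc F x' hne⟩

end sch

end Groth.Agent.Helper26.FFPull
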