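import Mathlib
import Groth.Prelude.Def_FlatMod2

set_option autoImplicit false
universe u
open CategoryTheory CategoryTheory.Limits AlgebraicGeometry TensorProduct

namespace Groth.Agent.Helper26.FFRel

section alg

/-- descent of flatness of an algebra along a module which is faithfully flat over it. -/
theorem flat_of_faithfullyFlat_module (A B M : Type*) [CommRing A] [CommRing B] [Algebra A B]
    [AddCommGroup M] [Module A M] [Module B M] [IsScalarTower A B M]
    [Module.FaithfullyFlat B M] [Module.Flat A M] : Module.Flat A B := by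
  rw [Module.Flat.iff_lTensor_injective']
  intro I
  -- the `B`-linear map `B ⊗ I → B ⊗ A`
  have key : Function.Injective ((I.subtype.baseChange B).lTensor M) := by
    let e₁ := TensorProduct.AlgebraTensorModule.cancelBaseChange A B B M I
    let e₂ := TensorProduct.AlgebraTensorModule.cancelBaseChange A B B M A
    have hcomm : ∀ t, e₂ (((I.subtype.baseChange B).lTensor M) t) = (I.subtype.lTensor M) (e₁ t) := by
      intro t
      induction t with
      | zero => simp
      | add a b ha hb => simp only [map_add, ha, hb]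
      | tmul m s =>
        induction s with
        | zero => simp
        | add a b ha hb => simp only [tmul_add, map_add, ha, hb]
        | tmul b i =>
          simp [e₁, e₂]
    have hinj : Function.Injective (I.subtype.lTensor M) :=
      Module.Flat.lTensor_preserves_injective_linearMap (M := M) I.subtype Subtype.val_injective
    intro s t hst
    apply e₁.injective
    apply hinj
    rw [← hcomm, ← hcomm, hst]
  have h2 := (Module.FaithfullyFlat.lTensor_injective_iff_injective B M
    (I.subtype.baseChange B)).1 key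
  intro s t hst
  apply h2
  exact hst

variable {A B C M : Type*} [CommRing A] [CommRing B] [CommRing C] [AddCommGroup M] [Module C M]

/-- transitivity of flatness through `compHom` structures. -/
theorem flat_compHom_comp (φ : A →+* B) (ψ : B →+* C) (χ : A →+* C) (hχ : χ = ψ.comp φ)
    (hφ : φ.Flat) (h : @Module.Flat B M _ _ (Module.compHom M ψ)) :
    @Module.Flat A M _ _ (Module.compHom M χ) := by
  subst hχ
  let _ : Algebra A B := φ.toAlgebra
  let _ : Module B M := Module.compHom M ψ
  let _ : Module A M := Module.compHom M (ψ.comp φ)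
  have : IsScalarTower A B M := ⟨fun a b m => by
    change ψ (φ a * b) • m = (ψ (φ a)) • (ψ b • m)
    rw [map_mul, mul_smul]⟩
  have : Module.Flat A B := hφ
  exact Module.Flat.trans A B M

/-- descent of flatness through `compHom` structures. -/
theorem flat_of_compHom_comp [IsLocalRing B] (φ : A →+* B) (ψ : B →+* C) (χ : A →+* C)
    (hχ : χ = ψ.comp φ)
    (h : @Module.Flat B M _ _ (Module.compHom M ψ))
    (hne : letI := Module.compHom M ψ
      IsLocalRing.maximalIdeal B • (⊤ : Submodule B M) ≠ ⊤)
    (h' : @Module.Flat A M _ _ (Module.compHom M χ)) : φ.Flat := by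
  subst hχ
  let _ : Algebra A B := φ.toAlgebra
  let _ : Module B M := Module.compHom M ψ
  let _ : Module A M := Module.compHom M (ψ.comp φ)
  have : IsScalarTower A B M := ⟨fun a b m => by
    change ψ (φ a * b) • m = (ψ (φ a)) • (ψ b • m)
    rw [map_mul, mul_smul]⟩
  have : Module.FaithfullyFlat B M :=
    { toFlat := h
      submodule_ne_top := fun m hm => by
        rw [IsLocalRing.eq_maximalIdeal hm]
        exact hne }
  have : Module.Flat A M := h'
  exact flat_of_faithfullyFlat_module A B M

/-- non-vanishing of the fibre passes to a smaller base. -/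
theorem smul_top_ne_top_comp [IsLocalRing A] [IsLocalRing B] (φ : A →+* B) [IsLocalHom φ]
    (ψ : B →+* C) (χ : A →+* C) (hχ : χ = ψ.comp φ)
    (hne : letI := Module.compHom M ψ
      IsLocalRing.maximalIdeal B • (⊤ : Submodule B M) ≠ ⊤) :
    letI := Module.compHom M χ
    IsLocalRing.maximalIdeal A • (⊤ : Submodule A M) ≠ ⊤ := by
  subst hχ
  let iB : Module B M := Module.compHom M ψ
  let iA : Module A M := Module.compHom M (ψ.comp φ)
  intro htop
  apply hne
  rw [eq_top_iff]
  intro x _
  have hx : x ∈ IsLocalRing.maximalIdeal A • (⊤ : Submodule A M) := by rw [htop]; trivial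
  refine Submodule.smul_induction_on hx ?_ ?_
  · intro a ha m _
    have : a • m = (φ a) • m := rfl
    rw [this]
    refine Submodule.smul_mem_smul ?_ trivial
    exact (IsLocalRing.mem_maximalIdeal _).2 (fun hu => (IsLocalRing.mem_maximalIdeal _).1 ha
      (isUnit_of_map_unit φ a hu))
  · intro a b ha hb
    exact add_mem ha hb

end alg

section sch

variable {X Y Z : Scheme.{u}} (f : X ⟶ Y) (g : Y ⟶ Z) (F : X.Modules)

theorem stalkMap_comp_hom (x : X) :
    ((f ≫ g).stalkMap x).hom = ((f.stalkMap x).hom).comp ((g.stalkMap (f x)).hom) := by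
  rw [Scheme.Hom.stalkMap_comp]
  rfl

theorem main
    (hFfl : FlatMod.IsFlatOver f F)
    (hFff : (∀ y : ↥Y, ∃ x : ↥X, f x = y ∧
      letI := FlatMod.moduleStalkOver f F x
      IsLocalRing.maximalIdeal (Y.presheaf.stalk (f x)) • (⊤ : Submodule (Y.presheaf.stalk (f x)) (F.presheaf.stalk x)) ≠ ⊤)) :
    (Flat g ∧ Surjective g) ↔
      (FlatMod.IsFlatOver (f ≫ g) F ∧
        (∀ z : ↥Z, ∃ x : ↥X, (f ≫ g) x = z ∧
      letI := FlatMod.moduleStalkOver (f ≫ g) F x
      IsLocalRing.maximalIdeal (Z.presheaf.stalk ((f ≫ g) x)) • (⊤ : Submodule (Z.presheaf.stalk ((f ≫ g) x)) (F.presheaf.stalk x)) ≠ ⊤)) := by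
  constructor
  · rintro ⟨hfl, hsurj⟩
    refine ⟨fun x => ?_, fun z => ?_⟩
    · exact flat_compHom_comp (g.stalkMap (f x)).hom (f.stalkMap x).hom ((f ≫ g).stalkMap x).hom
        (stalkMap_comp_hom f g x) (Flat.stalkMap g (f x)) (hFfl x)
    · obtain ⟨y, rfl⟩ := hsurj.surj z
      obtain ⟨x, rfl, hx⟩ := hFff y
      refine ⟨x, rfl, ?_⟩
      exact smul_top_ne_top_comp (g.stalkMap (f x)).hom (f.stalkMap x).hom
        ((f ≫ g).stalkMap x).hom (stalkMap_comp_hom f g x) hx
  · rintro ⟨hfl, hne⟩
    refine ⟨?_, ⟨fun z => ?_⟩⟩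
    · rw [Flat.iff_flat_stalkMap]
      intro y
      obtain ⟨x, rfl, hx⟩ := hFff y
      exact flat_of_compHom_comp (g.stalkMap (f x)).hom (f.stalkMap x).hom
        ((f ≫ g).stalkMap x).hom (stalkMap_comp_hom f g x) (hFfl x) hx (hfl x)
    · obtain ⟨x, rfl, -⟩ := hne z
      exact ⟨f x, rfl⟩

end sch

end Groth.Agent.Helper26.FFRel
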