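import Mathlib
import Groth.Prelude.Def_Hens2

/-!
# An algebra as a directed union of finitely presented algebras (helper26)
-/

set_option autoImplicit false
set_option linter.unusedSectionVars false
set_option linter.style.haveILetI false

namespace Groth.Agent.Helper26.PH.FPS

universe u

variable (A : Type u) [CommRing A] (B : Type u) [CommRing B] [Algebra A B]

/-- the big polynomial ring -/
abbrev P : Type u := MvPolynomial B A

/-- evaluation -/
noncomputable def ev : P A B →ₐ[A] B := MvPolynomial.aeval id

theorem ev_X (b : B) : ev A B (MvPolynomial.X b) = b := by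
  simp [ev]

theorem ev_surjective : Function.Surjective (ev A B) := fun b => ⟨MvPolynomial.X b, ev_X A B b⟩

/-- the ideal of relations -/
noncomputable def K : Ideal (P A B) := RingHom.ker (ev A B)

/-- the index set: finitely many generators and finitely many relations -/
abbrev κ : Type u := Finset B × Finset (K A B)

instance : IsDirectedOrder (κ A B) := by
  classical
  constructor
  intro a b
  exact ⟨(a.1 ∪ b.1, a.2 ∪ b.2),
    ⟨Finset.subset_union_left, Finset.subset_union_left⟩,
    ⟨Finset.subset_union_right, Finset.subset_union_right⟩⟩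

variable {A B}

open Classical in
/-- the variables in play at the index `a` -/
noncomputable def V (a : κ A B) : Finset B := a.1 ∪ a.2.biUnion (fun p => p.1.vars)

theorem V_mono {a b : κ A B} (h : a ≤ b) : V a ⊆ V b := by
  classical
  intro x hx
  rcases Finset.mem_union.1 hx with hx | hx
  · exact Finset.mem_union_left _ (h.1 hx)
  · obtain ⟨p, hp, hxp⟩ := Finset.mem_biUnion.1 hx
    exact Finset.mem_union_right _ (Finset.mem_biUnion.2 ⟨p, h.2 hp, hxp⟩)

/-- the polynomial subring at the index `a` -/
noncomputable def S (a : κ A B) : Subalgebra A (P A B) := MvPolynomial.supported A (V a : Set B)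

theorem S_mono {a b : κ A B} (h : a ≤ b) : S a ≤ S b :=
  MvPolynomial.supported_mono (Finset.coe_subset.2 (V_mono h))

theorem mem_S_iff {a : κ A B} {p : P A B} : p ∈ S a ↔ p.vars ⊆ V a := by
  rw [S, MvPolynomial.mem_supported, Finset.coe_subset]

theorem mem_S_of_mem {a : κ A B} (p : K A B) (hp : p ∈ a.2) : (p : P A B) ∈ S a := by
  classical
  rw [mem_S_iff]
  intro x hx
  exact Finset.mem_union_right _ (Finset.mem_biUnion.2 ⟨p, hp, hx⟩)

/-- the relations at the index `a` -/
def rel (a : κ A B) : Set (S a) := {x | ∃ p ∈ a.2, (p : P A B) = (x : P A B)}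

theorem rel_finite (a : κ A B) : (rel a).Finite := by
  have h1 : rel a ⊆ (fun x : S a => (x : P A B)) ⁻¹' (Subtype.val '' (a.2 : Set (K A B))) := by
    rintro x ⟨p, hp, hpx⟩
    exact ⟨p, hp, hpx⟩
  refine Set.Finite.subset ?_ h1
  exact Set.Finite.preimage (Set.injOn_of_injective Subtype.val_injective)
    (Set.Finite.image _ a.2.finite_toSet)

/-- the ideal of relations at the index `a` -/
noncomputable def r (a : κ A B) : Ideal (S a) := Ideal.span (rel a)

theorem r_fg (a : κ A B) : (r a).FG := by
  classical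
  exact ⟨(rel_finite a).toFinset, by rw [Set.Finite.coe_toFinset]; rfl⟩

variable (A B)

/-- the finitely presented algebra at the index `a` -/
def Ra (a : κ A B) : Type u := S a ⧸ r a

noncomputable instance (a : κ A B) : CommRing (Ra A B a) :=
  inferInstanceAs (CommRing (S a ⧸ r a))

noncomputable instance (a : κ A B) : Algebra A (Ra A B a) :=
  inferInstanceAs (Algebra A (S a ⧸ r a))

variable {A B}

/-- the quotient map -/
noncomputable def mk (a : κ A B) : S a →ₐ[A] Ra A B a := Ideal.Quotient.mkₐ A (r a)

theorem mk_surjective (a : κ A B) : Function.Surjective (mk a) :=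
  Ideal.Quotient.mk_surjective

theorem mk_eq_zero {a : κ A B} {x : S a} (hx : x ∈ r a) : mk a x = 0 :=
  Ideal.Quotient.eq_zero_iff_mem.2 hx

instance finitePresentation (a : κ A B) : Algebra.FinitePresentation A (Ra A B a) := by
  haveI : Finite ((V a : Finset B) : Set B) := (V a).finite_toSet.to_subtype
  have h1 : Algebra.FinitePresentation A (S a) :=
    Algebra.FinitePresentation.equiv
      (MvPolynomial.supportedEquivMvPolynomial (R := A) ((V a : Finset B) : Set B)).symm
  exact Algebra.FinitePresentation.quotient (r_fg a)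

theorem r_le_comap {a b : κ A B} (h : a ≤ b) :
    r a ≤ (r b).comap (Subalgebra.inclusion (S_mono h)) := by
  rw [r, Ideal.span_le]
  rintro x ⟨p, hp, hpx⟩
  have h1 : Subalgebra.inclusion (S_mono h) x ∈ rel b :=
    ⟨p, h.2 hp, hpx.trans (Subalgebra.coe_inclusion (S_mono h) x).symm⟩
  exact Ideal.mem_comap.2 (Ideal.subset_span h1)

/-- the transition maps -/
noncomputable def ρ (a b : κ A B) (h : a ≤ b) : Ra A B a →ₐ[A] Ra A B b :=
  Ideal.quotientMapₐ (r b) (Subalgebra.inclusion (S_mono h)) (r_le_comap h)

theorem ρ_mk {a b : κ A B} (h : a ≤ b) (x : S a) :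
    ρ a b h (mk a x) = mk b (Subalgebra.inclusion (S_mono h) x) :=
  Ideal.quotient_map_mkₐ (r b) (Subalgebra.inclusion (S_mono h)) (r_le_comap h) (x := x)

theorem ρ_id (a : κ A B) (x : Ra A B a) : ρ a a le_rfl x = x := by
  obtain ⟨y, rfl⟩ := mk_surjective a x
  rw [ρ_mk, Subalgebra.inclusion_self]
  rfl

theorem ρ_comp (a b c : κ A B) (hab : a ≤ b) (hbc : b ≤ c) (x : Ra A B a) :
    ρ b c hbc (ρ a b hab x) = ρ a c (hab.trans hbc) x := by
  obtain ⟨y, rfl⟩ := mk_surjective a x
  rw [ρ_mk, ρ_mk, ρ_mk, Subalgebra.inclusion_inclusion]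

/-- the maps to `B` -/
noncomputable def β (a : κ A B) : Ra A B a →ₐ[A] B :=
  Ideal.Quotient.liftₐ (r a) ((ev A B).comp (S a).val) (by
    intro x hx
    have hle : r a ≤ RingHom.ker (((ev A B).comp (S a).val : S a →ₐ[A] B) : S a →+* B) := by
      rw [r, Ideal.span_le]
      rintro y ⟨p, hp, hpy⟩
      rw [SetLike.mem_coe, RingHom.mem_ker]
      change ev A B (y : P A B) = 0
      rw [← hpy]
      exact p.2
    exact hle hx)

theorem β_mk (a : κ A B) (x : S a) : β a (mk a x) = ev A B (x : P A B) := rfl

theorem β_ρ (a b : κ A B) (h : a ≤ b) (x : Ra A B a) : β b (ρ a b h x) = β a x := by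
  obtain ⟨y, rfl⟩ := mk_surjective a x
  rw [ρ_mk, β_mk, β_mk, Subalgebra.coe_inclusion]

end Groth.Agent.Helper26.PH.FPS
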