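import Mathlib
import Groth.Prelude.Def_Hens2
import Groth.Agent.Lib.Helper26.PHMore

/-!
# Henselizing a directed system of algebras (helper26)
-/

set_option autoImplicit false
set_option linter.unusedSectionVars false
set_option linter.style.haveILetI false

namespace Groth.Agent.Helper26.PH.HS

universe u

variable {A : Type u} [CommRing A] (I : Ideal A) {κ : Type u}
  (Ra : κ → Type u) [∀ a, CommRing (Ra a)] [∀ a, Algebra A (Ra a)]

/-- the henselization of the `a`-th algebra along `I` -/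
def Ha (a : κ) : Type u := Colim (Ra a) (I.map (algebraMap A (Ra a)))

noncomputable instance (a : κ) : CommRing (Ha I Ra a) :=
  inferInstanceAs (CommRing (Colim (Ra a) (I.map (algebraMap A (Ra a)))))

noncomputable instance (a : κ) : Algebra (Ra a) (Ha I Ra a) :=
  inferInstanceAs (Algebra (Ra a) (Colim (Ra a) (I.map (algebraMap A (Ra a)))))

noncomputable instance (a : κ) : Algebra A (Ha I Ra a) :=
  ((algebraMap (Ra a) (Ha I Ra a)).comp (algebraMap A (Ra a))).toAlgebra

instance (a : κ) : IsScalarTower A (Ra a) (Ha I Ra a) :=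
  IsScalarTower.of_algebraMap_eq (fun _ => rfl)

theorem isHens (a : κ) :
    Hens2.IsPairHenselization (Ra a) (I.map (algebraMap A (Ra a))) (Ha I Ra a) :=
  colim_isPairHenselization (Ra a) (I.map (algebraMap A (Ra a)))

theorem map_eq (a : κ) : (I.map (algebraMap A (Ra a))).map (algebraMap (Ra a) (Ha I Ra a)) =
    I.map (algebraMap A (Ha I Ra a)) := by
  rw [Ideal.map_map, ← IsScalarTower.algebraMap_eq]

instance henselian (a : κ) : HenselianRing (Ha I Ra a) (I.map (algebraMap A (Ha I Ra a))) := by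
  rw [← map_eq]
  exact (isHens I Ra a).1

section lift

variable (a : κ) (C : Type u) [CommRing C] [Algebra A C]
  [hC : HenselianRing C (I.map (algebraMap A C))] (f : Ra a →ₐ[A] C)

theorem lift_aux : ∃! g : Ha I Ra a →+* C,
    g.comp (algebraMap (Ra a) (Ha I Ra a)) = (f : Ra a →+* C) := by
  refine (isHens I Ra a).2 C (I.map (algebraMap A C)) (f : Ra a →+* C) hC ?_
  rw [Ideal.map_map]
  have : (f : Ra a →+* C).comp (algebraMap A (Ra a)) = algebraMap A C := f.comp_algebraMap
  rw [this]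

/-- the induced map out of the henselization -/
noncomputable def lift : Ha I Ra a →ₐ[A] C :=
  { (lift_aux I Ra a C f).choose with
    commutes' := fun x => by
      have h := (lift_aux I Ra a C f).choose_spec.1
      change (lift_aux I Ra a C f).choose (algebraMap (Ra a) (Ha I Ra a) (algebraMap A (Ra a) x)) = _
      have h2 := RingHom.congr_fun h (algebraMap A (Ra a) x)
      change (lift_aux I Ra a C f).choose
        (algebraMap (Ra a) (Ha I Ra a) (algebraMap A (Ra a) x)) = f (algebraMap A (Ra a) x) at h2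
      rw [h2, AlgHom.commutes] }

theorem lift_algebraMap (r : Ra a) :
    lift I Ra a C f (algebraMap (Ra a) (Ha I Ra a) r) = f r :=
  RingHom.congr_fun (lift_aux I Ra a C f).choose_spec.1 r

theorem lift_unique (g : Ha I Ra a →+* C)
    (hg : ∀ r, g (algebraMap (Ra a) (Ha I Ra a) r) = f r) (x : Ha I Ra a) :
    g x = lift I Ra a C f x := by
  have := (lift_aux I Ra a C f).choose_spec.2 g (RingHom.ext hg)
  exact RingHom.congr_fun this x

theorem hom_ext (g g' : Ha I Ra a →+* C)
    (hg : ∀ r, g (algebraMap (Ra a) (Ha I Ra a) r) = f r)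
    (hg' : ∀ r, g' (algebraMap (Ra a) (Ha I Ra a) r) = f r) (x : Ha I Ra a) : g x = g' x := by
  rw [lift_unique I Ra a C f g hg, lift_unique I Ra a C f g' hg']

end lift

section system

variable [Preorder κ] (ρ : ∀ a b : κ, a ≤ b → (Ra a →ₐ[A] Ra b))
  (hρ_id : ∀ (a : κ) (x : Ra a), ρ a a le_rfl x = x)
  (hρ_comp : ∀ (a b c : κ) (hab : a ≤ b) (hbc : b ≤ c) (x : Ra a),
    ρ b c hbc (ρ a b hab x) = ρ a c (hab.trans hbc) x)

/-- the transition maps of the henselized system -/
noncomputable def τ (a b : κ) (hab : a ≤ b) : Ha I Ra a →ₐ[A] Ha I Ra b :=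
  lift I Ra a (Ha I Ra b) ((IsScalarTower.toAlgHom A (Ra b) (Ha I Ra b)).comp (ρ a b hab))

theorem τ_algebraMap (a b : κ) (hab : a ≤ b) (r : Ra a) :
    τ I Ra ρ a b hab (algebraMap (Ra a) (Ha I Ra a) r) =
      algebraMap (Ra b) (Ha I Ra b) (ρ a b hab r) :=
  lift_algebraMap I Ra a (Ha I Ra b) _ r

include hρ_id in
theorem τ_self (a : κ) (x : Ha I Ra a) : τ I Ra ρ a a le_rfl x = x := by
  refine hom_ext I Ra a (Ha I Ra a) (IsScalarTower.toAlgHom A (Ra a) (Ha I Ra a))
    (τ I Ra ρ a a le_rfl : Ha I Ra a →+* Ha I Ra a) (RingHom.id _) ?_ ?_ x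
  · intro r
    change τ I Ra ρ a a le_rfl (algebraMap (Ra a) (Ha I Ra a) r) = algebraMap (Ra a) (Ha I Ra a) r
    rw [τ_algebraMap, hρ_id]
  · intro r; rfl

include hρ_comp in
theorem τ_comp (a b c : κ) (hab : a ≤ b) (hbc : b ≤ c) (x : Ha I Ra a) :
    τ I Ra ρ b c hbc (τ I Ra ρ a b hab x) = τ I Ra ρ a c (hab.trans hbc) x := by
  refine hom_ext I Ra a (Ha I Ra c)
    ((IsScalarTower.toAlgHom A (Ra c) (Ha I Ra c)).comp (ρ a c (hab.trans hbc)))
    ((τ I Ra ρ b c hbc : Ha I Ra b →+* Ha I Ra c).comp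
      (τ I Ra ρ a b hab : Ha I Ra a →+* Ha I Ra b))
    (τ I Ra ρ a c (hab.trans hbc) : Ha I Ra a →+* Ha I Ra c) ?_ ?_ x
  · intro r
    change τ I Ra ρ b c hbc (τ I Ra ρ a b hab (algebraMap (Ra a) (Ha I Ra a) r)) =
      algebraMap (Ra c) (Ha I Ra c) (ρ a c (hab.trans hbc) r)
    rw [τ_algebraMap, τ_algebraMap, hρ_comp]
  · intro r
    exact τ_algebraMap I Ra ρ a c (hab.trans hbc) r

include hρ_id hρ_comp in
theorem directedSystem :
    DirectedSystem (Ha I Ra) (fun a b hab => ((τ I Ra ρ a b hab : Ha I Ra a →ₐ[A] Ha I Ra b) :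
      Ha I Ra a →+* Ha I Ra b)) where
  map_self a x := τ_self I Ra ρ hρ_id a x
  map_map _ _ _ hij hjk x := τ_comp I Ra ρ hρ_comp _ _ _ hij hjk x

variable (B : Type u) [CommRing B] [Algebra A B] [HenselianRing B (I.map (algebraMap A B))]
  (β : ∀ a : κ, Ra a →ₐ[A] B)
  (hβ : ∀ (a b : κ) (hab : a ≤ b) (x : Ra a), β b (ρ a b hab x) = β a x)

/-- the induced maps to a henselian target -/
noncomputable def πa (a : κ) : Ha I Ra a →ₐ[A] B := lift I Ra a B (β a)

theorem πa_algebraMap (a : κ) (r : Ra a) :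
    πa I Ra B β a (algebraMap (Ra a) (Ha I Ra a) r) = β a r :=
  lift_algebraMap I Ra a B (β a) r

include hβ in
theorem πa_τ (a b : κ) (hab : a ≤ b) (x : Ha I Ra a) :
    πa I Ra B β b (τ I Ra ρ a b hab x) = πa I Ra B β a x := by
  refine hom_ext I Ra a B (β a)
    ((πa I Ra B β b : Ha I Ra b →+* B).comp (τ I Ra ρ a b hab : Ha I Ra a →+* Ha I Ra b))
    (πa I Ra B β a : Ha I Ra a →+* B) ?_ ?_ x
  · intro r
    change πa I Ra B β b (τ I Ra ρ a b hab (algebraMap (Ra a) (Ha I Ra a) r)) = β a r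
    rw [τ_algebraMap, πa_algebraMap, hβ]
  · intro r
    exact πa_algebraMap I Ra B β a r

end system

end Groth.Agent.Helper26.PH.HS
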