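import Mathlib
import Groth.Prelude.Def_Hens2
import Groth.Agent.Lib.Helper26.PHMore

/-!
# A retract of a henselian finitely presented algebra is henselian finitely presented (helper26)
-/

set_option autoImplicit false
set_option linter.unusedSectionVars false
set_option linter.style.haveILetI false

open Polynomial

namespace Groth.Agent.Helper26.PH

universe u

section

variable {A : Type u} [CommRing A] (I : Ideal A)
  {R : Type u} [CommRing R] [Algebra A R]
  {H : Type u} [CommRing H] [Algebra R H] [Algebra A H] [IsScalarTower A R H]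
  (hH : Hens2.IsPairHenselization R (I.map (algebraMap A R)) H)

include hH in
/-- an `A`-algebra endomorphism of the henselization is congruent to the identity modulo the
ideal generated by its displacements of generators of `R` -/
theorem endo_sub_mem (e : H →ₐ[A] H) (s : Set R) (hs : Algebra.adjoin A s = ⊤)
    (𝔞 : Ideal H) (h𝔞 : ∀ r ∈ s, e (algebraMap R H r) - algebraMap R H r ∈ 𝔞) (x : H) :
    e x - x ∈ 𝔞 := by
  -- all of `R`
  have hR : ∀ r : R, e (algebraMap R H r) - algebraMap R H r ∈ 𝔞 := by
    intro r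
    have hr : r ∈ Algebra.adjoin A s := by rw [hs]; exact Algebra.mem_top
    induction hr using Algebra.adjoin_induction with
    | mem x hx => exact h𝔞 x hx
    | algebraMap a =>
      rw [← IsScalarTower.algebraMap_apply, AlgHom.commutes, sub_self]
      exact 𝔞.zero_mem
    | add x y _ _ hx hy =>
      rw [map_add, map_add]
      have : e (algebraMap R H x) + e (algebraMap R H y) - (algebraMap R H x + algebraMap R H y) =
          (e (algebraMap R H x) - algebraMap R H x) + (e (algebraMap R H y) - algebraMap R H y) := by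
        ring
      rw [this]
      exact 𝔞.add_mem hx hy
    | mul x y _ _ hx hy =>
      rw [map_mul, map_mul]
      have : e (algebraMap R H x) * e (algebraMap R H y) - algebraMap R H x * algebraMap R H y =
          e (algebraMap R H x) * (e (algebraMap R H y) - algebraMap R H y) +
            (e (algebraMap R H x) - algebraMap R H x) * algebraMap R H y := by
        ring
      rw [this]
      exact 𝔞.add_mem (𝔞.mul_mem_left _ hy) (𝔞.mul_mem_right _ hx)
  -- the quotient is henselian
  have := hH.1
  have hG : Groth.Agent.Helper1.GabberProp H ((I.map (algebraMap A R)).map (algebraMap R H)) :=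
    Groth.Agent.Helper1.gabberProp_of_henselianRing
  have hint : Algebra.IsIntegral H (H ⧸ 𝔞) :=
    Algebra.isIntegral_of_surjective Ideal.Quotient.mk_surjective
  have hQ : HenselianRing (H ⧸ 𝔞)
      (((I.map (algebraMap A R)).map (algebraMap R H)).map (algebraMap H (H ⧸ 𝔞))) :=
    Groth.Agent.Helper1.henselianRing_map_of_isIntegral hG (H ⧸ 𝔞)
  let q : H →+* H ⧸ 𝔞 := Ideal.Quotient.mk 𝔞
  obtain ⟨g, -, hguniq⟩ := hH.2 (H ⧸ 𝔞) _ (q.comp (algebraMap R H)) hQ (by
    rw [← Ideal.map_map]
    exact le_rfl)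
  have h1 : q = g := hguniq q rfl
  have h2 : q.comp (e : H →+* H) = g := by
    apply hguniq
    apply RingHom.ext
    intro r
    change q (e (algebraMap R H r)) = q (algebraMap R H r)
    rw [Ideal.Quotient.eq]
    exact hR r
  have h3 := RingHom.congr_fun (h2.trans h1.symm) x
  change q (e x) = q x at h3
  rw [Ideal.Quotient.eq] at h3
  exact h3

end

/-- **A retract of a henselian finitely presented algebra is henselian finitely presented.** -/
theorem hfp_of_retract {A : Type u} [CommRing A] (I : Ideal A)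
    (R : Type u) [CommRing R] [Algebra A R] [Algebra.FinitePresentation A R]
    (H : Type u) [CommRing H] [Algebra R H] [Algebra A H] [IsScalarTower A R H]
    (hH : Hens2.IsPairHenselization R (I.map (algebraMap A R)) H)
    (B : Type u) [CommRing B] [Algebra A B]
    (φ : B →ₐ[A] H) (π : H →ₐ[A] B) (hπφ : ∀ b, π (φ b) = b) :
    ∃ (T : Type u) (_ : CommRing T) (_ : Algebra A T) (_ : Algebra T B) (_ : IsScalarTower A T B),
      Algebra.FinitePresentation A T ∧ Hens2.IsPairHenselization T (I.map (algebraMap A T)) B := by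
  classical
  obtain ⟨s, hs⟩ := (Algebra.FiniteType.out : (⊤ : Subalgebra A R).FG)
  let e : H →ₐ[A] H := φ.comp π
  -- the displacement family
  let d : s → H := fun r => e (algebraMap R H r.1) - algebraMap R H r.1
  let 𝔞 : Ideal H := Ideal.span (Set.range d)
  have h𝔞 : ∀ x : H, e x - x ∈ 𝔞 := by
    refine endo_sub_mem I hH e (s : Set R) hs 𝔞 ?_
    intro r hr
    exact Ideal.subset_span ⟨⟨r, hr⟩, rfl⟩
  have hker : RingHom.ker (π : H →+* B) = 𝔞 := by
    apply le_antisymm
    · intro x hx
      rw [RingHom.mem_ker] at hx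
      have hx' : π x = 0 := hx
      have h1 : e x = 0 := by
        change φ (π x) = 0
        rw [hx', map_zero]
      have h2 := h𝔞 x
      rw [h1, zero_sub] at h2
      exact (Ideal.neg_mem_iff _).1 h2
    · rw [Ideal.span_le]
      rintro _ ⟨r, rfl⟩
      change π (e (algebraMap R H r.1) - algebraMap R H r.1) = 0
      rw [map_sub]
      change π (φ (π _)) - _ = 0
      rw [hπφ, sub_self]
  have hπsurj : Function.Surjective π := fun b => ⟨φ b, hπφ b⟩
  -- represent the displacements in a neighbourhood
  obtain ⟨n, ⟨eqv⟩⟩ : ∃ n : ℕ, Nonempty (Fin n ≃ s) := ⟨_, ⟨(Fintype.equivFin s).symm⟩⟩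
  obtain ⟨R', _, _, hN, σ, u, hu⟩ := exists_nbhd_rep_fin hH n (fun l => d (eqv l))
  letI : Algebra R' H := σ.toRingHom.toAlgebra
  haveI : IsScalarTower R R' H := IsScalarTower.of_algebraMap_eq (fun r => (σ.commutes r).symm)
  have hH' := isPairHenselization_of_isNbhd hH R' hN
  letI : Algebra A R' := ((algebraMap R R').comp (algebraMap A R)).toAlgebra
  haveI : IsScalarTower A R R' := IsScalarTower.of_algebraMap_eq (fun _ => rfl)
  haveI : IsScalarTower A R' H := IsScalarTower.of_algebraMap_eq (fun a => by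
    rw [IsScalarTower.algebraMap_apply A R H, IsScalarTower.algebraMap_apply A R R',
      ← IsScalarTower.algebraMap_apply R R' H])
  let 𝔞' : Ideal R' := Ideal.span (Set.range u)
  have h𝔞' : 𝔞'.map (algebraMap R' H) = 𝔞 := by
    rw [Ideal.map_span]
    congr 1
    ext z
    constructor
    · rintro ⟨_, ⟨l, rfl⟩, rfl⟩
      exact ⟨eqv l, (hu l).symm⟩
    · rintro ⟨r, rfl⟩
      refine ⟨u (eqv.symm r), ⟨_, rfl⟩, ?_⟩
      change σ (u (eqv.symm r)) = d r
      rw [hu, Equiv.apply_symm_apply]
  have hQ := isPairHenselization_quotient hH' 𝔞'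
  -- the isomorphism `H ⧸ 𝔞' H ≃ B`
  let ε : (H ⧸ 𝔞'.map (algebraMap R' H)) ≃+* B :=
    (Ideal.quotEquivOfEq (h𝔞'.trans hker.symm)).trans
      (RingHom.quotientKerEquivOfSurjective (f := (π : H →+* B)) hπsurj)
  have hε : ∀ x : H, ε (Ideal.Quotient.mk _ x) = π x := fun x => rfl
  letI algTB : Algebra (R' ⧸ 𝔞') B :=
    ((ε : (H ⧸ 𝔞'.map (algebraMap R' H)) →+* B).comp
      (algebraMap (R' ⧸ 𝔞') (H ⧸ 𝔞'.map (algebraMap R' H)))).toAlgebra
  let εA : (H ⧸ 𝔞'.map (algebraMap R' H)) ≃ₐ[R' ⧸ 𝔞'] B :=
    { ε with commutes' := fun _ => rfl }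
  have hfinal := isPairHenselization_of_algEquiv hQ εA
  have hJ : (I.map (algebraMap A R)).map (algebraMap R R') = I.map (algebraMap A R') := by
    rw [Ideal.map_map, ← IsScalarTower.algebraMap_eq]
  have hJ' : ((I.map (algebraMap A R)).map (algebraMap R R')).map (Ideal.Quotient.mk 𝔞') =
      I.map (algebraMap A (R' ⧸ 𝔞')) := by
    rw [hJ, Ideal.map_map]
    congr 1
  rw [hJ'] at hfinal
  have tow : IsScalarTower A (R' ⧸ 𝔞') B := IsScalarTower.of_algebraMap_eq (fun a => by
    change algebraMap A B a = ε (algebraMap (R' ⧸ 𝔞') (H ⧸ 𝔞'.map (algebraMap R' H))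
      (algebraMap A (R' ⧸ 𝔞') a))
    rw [IsScalarTower.algebraMap_apply A R' (R' ⧸ 𝔞'), Ideal.Quotient.algebraMap_eq]
    change _ = ε (Ideal.Quotient.mk _ (algebraMap R' H (algebraMap A R' a)))
    rw [hε, ← IsScalarTower.algebraMap_apply, AlgHom.commutes])
  have := hN.etale
  have fp1 : Algebra.FinitePresentation A R' := Algebra.FinitePresentation.trans A R R'
  have fp2 : Algebra.FinitePresentation A (R' ⧸ 𝔞') :=
    Algebra.FinitePresentation.quotient ⟨Finset.univ.image u, by
      rw [Finset.coe_image, Finset.coe_univ, Set.image_univ]⟩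
  exact ⟨R' ⧸ 𝔞', inferInstance, inferInstance, algTB, tow, fp2, hfinal⟩

end Groth.Agent.Helper26.PH
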