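import Mathlib
import Groth.Prelude.Def_Hens2
import Groth.Agent.Lib.Helper26.FPSys1
import Groth.Agent.Lib.Helper26.HensSys1
import Groth.Agent.Lib.Helper26.PHRetr1

/-!
# The henselized directed system of finitely presented subalgebras (helper26)
-/

set_option autoImplicit false
set_option linter.unusedSectionVars false
set_option linter.style.haveILetI false
set_option warn.classDefReducibility false

namespace Groth.Agent.Helper26.PH.FPS

universe u

variable {A : Type u} [CommRing A] (I : Ideal A) (B : Type u) [CommRing B] [Algebra A B]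

/-- the henselized algebras -/
abbrev HF (a : κ A B) : Type u := HS.Ha I (Ra A B) a

/-- the transition maps -/
noncomputable def tF (a b : κ A B) (hab : a ≤ b) : HF I B a →+* HF I B b :=
  ((HS.τ I (Ra A B) ρ a b hab : HF I B a →ₐ[A] HF I B b) : HF I B a →+* HF I B b)

instance : DirectedSystem (HF I B) (fun a b hab => tF I B a b hab) :=
  HS.directedSystem I (Ra A B) ρ ρ_id ρ_comp

/-- the limit -/
abbrev L : Type u := DirectLimit (HF I B) (tF I B)

theorem tF_algebraMap (a b : κ A B) (hab : a ≤ b) (x : Ra A B a) :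
    tF I B a b hab (algebraMap (Ra A B a) (HF I B a) x) =
      algebraMap (Ra A B b) (HF I B b) (ρ a b hab x) :=
  HS.τ_algebraMap I (Ra A B) ρ a b hab x

theorem tF_commutes (a b : κ A B) (hab : a ≤ b) (x : A) :
    tF I B a b hab (algebraMap A (HF I B a) x) = algebraMap A (HF I B b) x :=
  (HS.τ I (Ra A B) ρ a b hab).commutes x

/-- the maps from the polynomial subrings to the limit -/
noncomputable def lam (a : κ A B) : S a →+* L I B :=
  (DirectLimit.Ring.of (HF I B) (tF I B) a).comp
    ((algebraMap (Ra A B a) (HF I B a)).comp ((mk a : S a →ₐ[A] Ra A B a) : S a →+* Ra A B a))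

theorem lam_apply (a : κ A B) (x : S a) :
    lam I B a x = DirectLimit.Ring.of (HF I B) (tF I B) a
      (algebraMap (Ra A B a) (HF I B a) (mk a x)) := rfl

theorem lam_compat {a b : κ A B} (h : a ≤ b) (x : S a) :
    lam I B b (Subalgebra.inclusion (S_mono h) x) = lam I B a x := by
  rw [lam_apply, lam_apply, ← ρ_mk h, ← tF_algebraMap I B a b h, DirectLimit.Ring.of_f]

variable {B}

/-- the smallest index at which a polynomial lives -/
noncomputable def ap (p : P A B) : κ A B := (p.vars, ∅)

theorem mem_S_ap (p : P A B) : p ∈ S (ap p) := by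
  rw [mem_S_iff]
  intro x hx
  classical
  exact Finset.mem_union_left _ hx

/-- the evaluation of a polynomial in the limit -/
noncomputable def Ev (p : P A B) : L I B := lam I B (ap p) ⟨p, mem_S_ap p⟩

theorem Ev_eq (p : P A B) (a : κ A B) (hp : p ∈ S a) : Ev I p = lam I B a ⟨p, hp⟩ := by
  obtain ⟨c, hac, hpc⟩ := exists_ge_ge a (ap p)
  have h1 := lam_compat I B hac ⟨p, hp⟩
  have h2 := lam_compat I B hpc ⟨p, mem_S_ap p⟩
  rw [Ev, ← h1, ← h2]
  rfl

theorem Ev_add (p q : P A B) : Ev I (p + q) = Ev I p + Ev I q := by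
  obtain ⟨c, hpc, hqc⟩ := exists_ge_ge (ap p) (ap q)
  have hp : p ∈ S c := S_mono hpc (mem_S_ap p)
  have hq : q ∈ S c := S_mono hqc (mem_S_ap q)
  rw [Ev_eq I p c hp, Ev_eq I q c hq, Ev_eq I (p + q) c ((S c).add_mem hp hq), ← map_add]
  rfl

theorem Ev_mul (p q : P A B) : Ev I (p * q) = Ev I p * Ev I q := by
  obtain ⟨c, hpc, hqc⟩ := exists_ge_ge (ap p) (ap q)
  have hp : p ∈ S c := S_mono hpc (mem_S_ap p)
  have hq : q ∈ S c := S_mono hqc (mem_S_ap q)
  rw [Ev_eq I p c hp, Ev_eq I q c hq, Ev_eq I (p * q) c ((S c).mul_mem hp hq), ← map_mul]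
  rfl

theorem Ev_one : Ev I (1 : P A B) = 1 := by
  rw [Ev_eq I 1 (ap 1) ((S (ap (1 : P A B))).one_mem)]
  exact map_one (lam I B (ap 1))

theorem Ev_zero : Ev I (0 : P A B) = 0 := by
  rw [Ev_eq I 0 (ap 0) ((S (ap (0 : P A B))).zero_mem)]
  exact map_zero (lam I B (ap 0))

/-- evaluation as a ring homomorphism -/
noncomputable def EvHom : P A B →+* L I B where
  toFun := Ev I
  map_one' := Ev_one I
  map_mul' := Ev_mul I
  map_zero' := Ev_zero I
  map_add' := Ev_add I

theorem Ev_K (p : P A B) (hp : p ∈ K A B) : Ev I p = 0 := by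
  classical
  let a : κ A B := (∅, {⟨p, hp⟩})
  have hpS : p ∈ S a := mem_S_of_mem (a := a) ⟨p, hp⟩ (Finset.mem_singleton_self _)
  rw [Ev_eq I p a hpS, lam_apply, mk_eq_zero, map_zero, map_zero]
  exact Ideal.subset_span ⟨⟨p, hp⟩, Finset.mem_singleton_self _, rfl⟩

theorem EvHom_apply (p : P A B) : EvHom I p = Ev I p := rfl

theorem EvHom_K (p : P A B) (hp : p ∈ K A B) : EvHom I p = 0 := Ev_K I p hp

variable (B)

/-- the algebra structure on the limit -/
noncomputable def algL : Algebra A (L I B) :=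
  ((DirectLimit.Ring.of (HF I B) (tF I B) (∅, ∅)).comp (algebraMap A (HF I B (∅, ∅)))).toAlgebra

theorem halg (a : κ A B) (x : A) :
    letI := algL I B
    algebraMap A (L I B) x =
      DirectLimit.Ring.of (HF I B) (tF I B) a (algebraMap A (HF I B a) x) := by
  letI := algL I B
  obtain ⟨c, h0c, hac⟩ := exists_ge_ge ((∅, ∅) : κ A B) a
  change DirectLimit.Ring.of (HF I B) (tF I B) (∅, ∅) (algebraMap A (HF I B (∅, ∅)) x) = _
  rw [← DirectLimit.Ring.of_f h0c, ← DirectLimit.Ring.of_f hac, tF_commutes, tF_commutes]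

theorem ht (a b : κ A B) (hab : a ≤ b) :
    (tF I B a b hab).comp (algebraMap A (HF I B a)) = algebraMap A (HF I B b) :=
  RingHom.ext fun x => tF_commutes I B a b hab x

/-- the isomorphism `P ⧸ K ≃ B` -/
noncomputable def eB : (P A B ⧸ K A B) ≃ₐ[A] B :=
  Ideal.quotientKerAlgEquivOfSurjective (ev_surjective A B)

theorem eB_mk (p : P A B) : eB B (Ideal.Quotient.mk _ p) = ev A B p := rfl

/-- the section `B → L` as a ring hom -/
noncomputable def χr : B →+* L I B :=
  (Ideal.Quotient.lift (K A B) (EvHom I) (EvHom_K I)).comp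
    ((eB (A := A) B).symm : B →+* P A B ⧸ K A B)

theorem χr_ev (p : P A B) : χr I B (ev A B p) = Ev I p := by
  have : (eB (A := A) B).symm (ev A B p) = Ideal.Quotient.mk _ p := by
    rw [AlgEquiv.symm_apply_eq, eB_mk]
  change Ideal.Quotient.lift (K A B) (EvHom I) (EvHom_K I)
    ((eB (A := A) B).symm (ev A B p)) = _
  rw [this, Ideal.Quotient.lift_mk, EvHom_apply]

/-- the section `B → L` -/
noncomputable def χ : letI := algL I B; B →ₐ[A] L I B :=
  letI := algL I B
  { χr I B with
    commutes' := fun x => by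
      have h1 : algebraMap A B x = ev A B (algebraMap A (P A B) x) := ((ev A B).commutes x).symm
      change χr I B (algebraMap A B x) = _
      rw [h1, χr_ev]
      have hm : algebraMap A (P A B) x ∈ S (ap (algebraMap A (P A B) x)) :=
        (S _).algebraMap_mem x
      rw [Ev_eq I _ _ hm, halg I B (ap (algebraMap A (P A B) x)) x, lam_apply]
      have h2 : mk (ap (algebraMap A (P A B) x)) ⟨algebraMap A (P A B) x, hm⟩ =
          algebraMap A (Ra A B _) x :=
        (mk (ap (algebraMap A (P A B) x))).commutes x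
      rw [h2, ← IsScalarTower.algebraMap_apply] }

theorem χ_apply (b : B) : letI := algL I B; χ I B b = χr I B b := rfl

variable [HenselianRing B (I.map (algebraMap A B))]

/-- the retraction `L → B` -/
noncomputable def piL : L I B →+* B :=
  DirectLimit.Ring.lift (HF I B) (tF I B) B
    (fun a => ((HS.πa I (Ra A B) B β a : HF I B a →ₐ[A] B) : HF I B a →+* B))
    (fun a b hab x => HS.πa_τ I (Ra A B) ρ B β β_ρ a b hab x)

theorem piL_of (a : κ A B) (y : HF I B a) :
    piL I B (DirectLimit.Ring.of (HF I B) (tF I B) a y) = HS.πa I (Ra A B) B β a y := rfl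

theorem piL_χr (b : B) : piL I B (χr I B b) = b := by
  obtain ⟨p, rfl⟩ := ev_surjective A B b
  rw [χr_ev, Ev, lam_apply, piL_of, HS.πa_algebraMap, β_mk]

end Groth.Agent.Helper26.PH.FPS
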