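import Mathlib
import Groth.Prelude.Def_Hens2
import Groth.Agent.Lib.Helper26.FPSys2

/-!
# Henselian finite presentation from compatibility with direct limits (helper26)
-/

set_option autoImplicit false
set_option linter.unusedSectionVars false
set_option linter.style.haveILetI false

namespace Groth.Agent.Helper26.PH.FPS

universe u

theorem hfp_of_algHom_directLimit_bijective (A : Type u) [CommRing A] (I : Ideal A)
    [HenselianRing A I] (B : Type u) [CommRing B] [Algebra A B]
    [HenselianRing B (I.map (algebraMap A B))]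
    (h : ∀ (κ : Type u) [Preorder κ] [IsDirectedOrder κ] [Nonempty κ]
      (Ra : κ → Type u) [∀ a, CommRing (Ra a)] [∀ a, Algebra A (Ra a)]
      [∀ a, HenselianRing (Ra a) (I.map (algebraMap A (Ra a)))]
      (t : ∀ a b : κ, a ≤ b → (Ra a →+* Ra b)) [DirectedSystem Ra (fun a b hab => t a b hab)],
      (∀ (a b : κ) (hab : a ≤ b), (t a b hab).comp (algebraMap A (Ra a)) = algebraMap A (Ra b)) →
      ∀ [Algebra A (DirectLimit Ra t)],
      (∀ (a : κ) (x : A), algebraMap A (DirectLimit Ra t) x =
        DirectLimit.Ring.of Ra t a (algebraMap A (Ra a) x)) →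
      (∀ χ : B →ₐ[A] DirectLimit Ra t, ∃ (a : κ) (φ : B →ₐ[A] Ra a),
          ∀ x : B, DirectLimit.Ring.of Ra t a (φ x) = χ x) ∧
      ∀ (a : κ) (φ ψ : B →ₐ[A] Ra a),
        (∀ x : B, DirectLimit.Ring.of Ra t a (φ x) = DirectLimit.Ring.of Ra t a (ψ x)) →
        ∃ (b : κ) (hab : a ≤ b), ∀ x : B, t a b hab (φ x) = t a b hab (ψ x)) :
    ∃ (R : Type u) (_ : CommRing R) (_ : Algebra A R) (_ : Algebra R B) (_ : IsScalarTower A R B),
      Algebra.FinitePresentation A R ∧ Hens2.IsPairHenselization R (I.map (algebraMap A R)) B := by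
  have key := @h (κ A B) inferInstance inferInstance inferInstance (HF I B) inferInstance
    inferInstance inferInstance (tF I B) inferInstance (ht I B) (algL I B) (halg I B)
  obtain ⟨a, φ, hφ⟩ := key.1 (χ I B)
  refine hfp_of_retract I (Ra A B a) (HF I B a) (HS.isHens I (Ra A B) a) B φ
    (HS.πa I (Ra A B) B β a) ?_
  intro b
  have h1 := piL_χr I B b
  have h2 : χr I B b = DirectLimit.Ring.of (HF I B) (tF I B) a (φ b) := (hφ b).symm
  rw [h2, piL_of] at h1
  exact h1

end Groth.Agent.Helper26.PH.FPS
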