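import Mathlib
import Groth.Prelude.Def_EGA41

/-!
# Formal smoothness of a formally projective adic algebra and of its reduction (EGA 0_IV 19.7.? / 22.?)
Part 1: generalities on `EGA41.IsFormallySmoothAdic`.
-/

set_option autoImplicit false
universe u

namespace Groth.Agent.Lib.Helper26.FProj

open EGA41

variable {A B : Type u} [CommRing A] [CommRing B] [Algebra A B] (𝔞 : Ideal A) (𝔟 : Ideal B)

/-- Flexible form of the lifting property. -/
theorem lift_of_surjective (h : IsFormallySmoothAdic A 𝔞 B 𝔟) {E E' : Type u} [CommRing E]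
    [CommRing E'] [Algebra A E] [Algebra A E'] (π : E →ₐ[A] E') (hπ : Function.Surjective π)
    (hker : IsNilpotent (RingHom.ker π)) (hE : ∃ k : ℕ, (𝔞 ^ k).map (algebraMap A E) = ⊥)
    (ψ : B →ₐ[A] E') (hψ : ∃ k : ℕ, ∀ x ∈ 𝔟 ^ k, ψ x = 0) :
    ∃ χ : B →ₐ[A] E, π.comp χ = ψ := by
  let e := Ideal.quotientKerAlgEquivOfSurjective hπ
  obtain ⟨k, hk⟩ := hψ
  obtain ⟨χ, hχ⟩ := h E (RingHom.ker π) hker hE (e.symm.toAlgHom.comp ψ)
    ⟨k, fun x hx => by simp [hk x hx]⟩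
  refine ⟨χ, ?_⟩
  ext b
  have h1 := AlgHom.congr_fun hχ b
  have h2 : e (Ideal.Quotient.mk _ (χ b)) = e (e.symm (ψ b)) := congrArg e h1
  rw [AlgEquiv.apply_symm_apply] at h2
  exact h2

/-- Automatic continuity of lifts. -/
theorem continuous_of_lift {E E' : Type u} [CommRing E] [CommRing E'] [Algebra A E] [Algebra A E']
    (π : E →ₐ[A] E') (hker : IsNilpotent (RingHom.ker π)) (χ : B →ₐ[A] E)
    (hψ : ∃ k : ℕ, ∀ x ∈ 𝔟 ^ k, π (χ x) = 0) : ∃ k : ℕ, ∀ x ∈ 𝔟 ^ k, χ x = 0 := by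
  obtain ⟨k, hk⟩ := hψ
  obtain ⟨r, hr⟩ := hker
  refine ⟨k * r, fun x hx => ?_⟩
  have h1 : (𝔟 ^ k).map χ ≤ RingHom.ker π := by
    rw [Ideal.map_le_iff_le_comap]
    intro y hy
    exact hk y hy
  have h2 : (𝔟 ^ (k * r)).map χ ≤ ⊥ := by
    rw [pow_mul, Ideal.map_pow, ← Ideal.zero_eq_bot, ← hr]
    exact Ideal.pow_right_mono h1 r
  exact (Ideal.mem_bot).1 (h2 (Ideal.mem_map_of_mem _ hx))

/-- The reduction `B/𝔞B` with the image of `𝔟`. -/
abbrev B₀ (B : Type u) [CommRing B] [Algebra A B] : Type u := B ⧸ 𝔞.map (algebraMap A B)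

/-- The lifting property of the reduction, phrased for `A`-algebras killed by `𝔞`. -/
def RedLift : Prop :=
  ∀ (E E' : Type u) [CommRing E] [CommRing E'] [Algebra A E] [Algebra A E'],
    (∀ a ∈ 𝔞, algebraMap A E a = 0) → ∀ π : E →ₐ[A] E', Function.Surjective π →
    IsNilpotent (RingHom.ker π) → ∀ ψ : B →ₐ[A] E', (∃ k : ℕ, ∀ x ∈ 𝔟 ^ k, ψ x = 0) →
    ∃ χ : B →ₐ[A] E, π.comp χ = ψ

theorem redLift_of_red
    (h₀ : IsFormallySmoothAdic (A ⧸ 𝔞) ⊥ (B ⧸ 𝔞.map (algebraMap A B))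
      (𝔟.map (Ideal.Quotient.mk (𝔞.map (algebraMap A B))))) : RedLift 𝔞 𝔟 := by
  intro E E' _ _ _ _ hE π hπ hker ψ hψ
  have hE' : ∀ a ∈ 𝔞, algebraMap A E' a = 0 := by
    intro a ha
    rw [← π.commutes, hE a ha, map_zero]
  let _ : Algebra (A ⧸ 𝔞) E := (Ideal.Quotient.lift 𝔞 (algebraMap A E) hE).toAlgebra
  let _ : Algebra (A ⧸ 𝔞) E' := (Ideal.Quotient.lift 𝔞 (algebraMap A E') hE').toAlgebra
  have hmapE : ∀ a : A, algebraMap (A ⧸ 𝔞) E (Ideal.Quotient.mk 𝔞 a) = algebraMap A E a :=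
    fun a => rfl
  have hmapE' : ∀ a : A, algebraMap (A ⧸ 𝔞) E' (Ideal.Quotient.mk 𝔞 a) = algebraMap A E' a :=
    fun a => rfl
  let π₀ : E →ₐ[A ⧸ 𝔞] E' :=
    { π.toRingHom with
      commutes' := fun x => by
        obtain ⟨a, rfl⟩ := Ideal.Quotient.mk_surjective x
        change π (algebraMap (A ⧸ 𝔞) E (Ideal.Quotient.mk 𝔞 a)) = _
        rw [hmapE, hmapE', π.commutes] }
  have hπ₀ : ∀ x, π₀ x = π x := fun x => rfl
  have hψ𝔞 : ∀ x ∈ 𝔞.map (algebraMap A B), ψ.toRingHom x = 0 := by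
    intro x hx
    have hle : 𝔞.map (algebraMap A B) ≤ RingHom.ker ψ.toRingHom := by
      rw [Ideal.map_le_iff_le_comap]
      intro a ha
      change ψ (algebraMap A B a) = 0
      rw [ψ.commutes, hE' a ha]
    exact hle hx
  let ψ₀ : (B ⧸ 𝔞.map (algebraMap A B)) →ₐ[A ⧸ 𝔞] E' :=
    { Ideal.Quotient.lift (𝔞.map (algebraMap A B)) ψ.toRingHom hψ𝔞 with
      commutes' := fun x => by
        obtain ⟨a, rfl⟩ := Ideal.Quotient.mk_surjective x
        change Ideal.Quotient.lift (𝔞.map (algebraMap A B)) ψ.toRingHom hψ𝔞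
          (algebraMap (A ⧸ 𝔞) (B ⧸ 𝔞.map (algebraMap A B)) (Ideal.Quotient.mk 𝔞 a)) = _
        rw [Ideal.Quotient.algebraMap_quotient_map_quotient, Ideal.Quotient.lift_mk, hmapE']
        exact ψ.commutes a }
  have hψ₀ : ∀ b : B, ψ₀ (Ideal.Quotient.mk _ b) = ψ b := fun b => rfl
  have hψ₀c : ∃ k : ℕ, ∀ x ∈ (𝔟.map (Ideal.Quotient.mk (𝔞.map (algebraMap A B)))) ^ k,
      ψ₀ x = 0 := by
    obtain ⟨k, hk⟩ := hψ
    refine ⟨k, fun x hx => ?_⟩
    rw [← Ideal.map_pow] at hx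
    have hle : (𝔟 ^ k).map (Ideal.Quotient.mk (𝔞.map (algebraMap A B))) ≤
        RingHom.ker ψ₀.toRingHom := by
      rw [Ideal.map_le_iff_le_comap]
      intro b hb
      change ψ₀ (Ideal.Quotient.mk _ b) = 0
      rw [hψ₀, hk b hb]
    exact hle hx
  obtain ⟨χ₀, hχ₀⟩ := lift_of_surjective (A := A ⧸ 𝔞) ⊥ _ h₀ π₀ hπ hker
    ⟨1, by rw [pow_one, Ideal.map_bot]⟩ ψ₀ hψ₀c
  let χ : B →ₐ[A] E :=
    { χ₀.toRingHom.comp (Ideal.Quotient.mk (𝔞.map (algebraMap A B))) with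
      commutes' := fun a => by
        change χ₀ (Ideal.Quotient.mk _ (algebraMap A B a)) = algebraMap A E a
        rw [← Ideal.Quotient.algebraMap_quotient_map_quotient, χ₀.commutes, hmapE] }
  refine ⟨χ, ?_⟩
  ext b
  have h1 := AlgHom.congr_fun hχ₀ (Ideal.Quotient.mk _ b)
  change π (χ₀ (Ideal.Quotient.mk _ b)) = ψ b
  rw [← hψ₀ b, ← h1]
  rfl

/-- The converse: the lifting property of `B` over `A` gives that of the reduction. -/
theorem red_of_fs (h : IsFormallySmoothAdic A 𝔞 B 𝔟) :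
    IsFormallySmoothAdic (A ⧸ 𝔞) ⊥ (B ⧸ 𝔞.map (algebraMap A B))
      (𝔟.map (Ideal.Quotient.mk (𝔞.map (algebraMap A B)))) := by
  intro C _ _ J hJ _ u₀ hu₀
  let _ : Algebra A C := ((algebraMap (A ⧸ 𝔞) C).comp (Ideal.Quotient.mk 𝔞)).toAlgebra
  have hmapC : ∀ a : A, algebraMap A C a = algebraMap (A ⧸ 𝔞) C (Ideal.Quotient.mk 𝔞 a) :=
    fun a => rfl
  have hmapCJ : ∀ a : A, algebraMap A (C ⧸ J) a =
      algebraMap (A ⧸ 𝔞) (C ⧸ J) (Ideal.Quotient.mk 𝔞 a) := fun a => rfl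
  let u : B →ₐ[A] C ⧸ J :=
    { u₀.toRingHom.comp (Ideal.Quotient.mk (𝔞.map (algebraMap A B))) with
      commutes' := fun a => by
        change u₀ (Ideal.Quotient.mk _ (algebraMap A B a)) = algebraMap A (C ⧸ J) a
        rw [← Ideal.Quotient.algebraMap_quotient_map_quotient, u₀.commutes, hmapCJ] }
  have hu : ∀ b, u b = u₀ (Ideal.Quotient.mk _ b) := fun b => rfl
  have hk : ∃ k : ℕ, (𝔞 ^ k).map (algebraMap A C) = ⊥ := by
    refine ⟨1, ?_⟩
    rw [pow_one, eq_bot_iff, Ideal.map_le_iff_le_comap]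
    intro a ha
    change algebraMap A C a ∈ (⊥ : Ideal C)
    rw [hmapC, Ideal.Quotient.eq_zero_iff_mem.2 ha, map_zero]
    exact Ideal.zero_mem _
  have huc : ∃ k : ℕ, ∀ x ∈ 𝔟 ^ k, u x = 0 := by
    obtain ⟨k, hk⟩ := hu₀
    refine ⟨k, fun x hx => ?_⟩
    rw [hu]
    apply hk
    rw [← Ideal.map_pow]
    exact Ideal.mem_map_of_mem _ hx
  obtain ⟨v, hv⟩ := h C J hJ hk u huc
  have hv𝔞 : ∀ x ∈ 𝔞.map (algebraMap A B), v.toRingHom x = 0 := by
    intro x hx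
    have hle : 𝔞.map (algebraMap A B) ≤ RingHom.ker v.toRingHom := by
      rw [Ideal.map_le_iff_le_comap]
      intro a ha
      change v (algebraMap A B a) = 0
      rw [v.commutes, hmapC, Ideal.Quotient.eq_zero_iff_mem.2 ha, map_zero]
    exact hle hx
  let v₀ : (B ⧸ 𝔞.map (algebraMap A B)) →ₐ[A ⧸ 𝔞] C :=
    { Ideal.Quotient.lift (𝔞.map (algebraMap A B)) v.toRingHom hv𝔞 with
      commutes' := fun x => by
        obtain ⟨a, rfl⟩ := Ideal.Quotient.mk_surjective x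
        change Ideal.Quotient.lift (𝔞.map (algebraMap A B)) v.toRingHom hv𝔞
          (algebraMap (A ⧸ 𝔞) (B ⧸ 𝔞.map (algebraMap A B)) (Ideal.Quotient.mk 𝔞 a)) = _
        rw [Ideal.Quotient.algebraMap_quotient_map_quotient, Ideal.Quotient.lift_mk, ← hmapC]
        exact v.commutes a }
  refine ⟨v₀, ?_⟩
  ext x
  obtain ⟨b, rfl⟩ := Ideal.Quotient.mk_surjective x
  have h1 := AlgHom.congr_fun hv b
  change Ideal.Quotient.mk J (v b) = u₀ (Ideal.Quotient.mk _ b)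
  rw [← hu b, ← h1]
  rfl

end Groth.Agent.Lib.Helper26.FProj
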