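import Mathlib
import Groth.Prelude.Def_EGA41
import Groth.Agent.Lib.Helper26.FProj1

/-!
# Formal smoothness of a formally projective adic algebra and of its reduction
Part 2: the fibre product construction.
-/

set_option autoImplicit false
universe u

namespace Groth.Agent.Lib.Helper26.FProj

noncomputable section FibreProduct

variable {A : Type u} [CommRing A] (𝔞 : Ideal A) {Bb C : Type u} [CommRing Bb] [CommRing C]
  [Algebra A Bb] [Algebra A C] (J : Ideal C) (ub : Bb →ₐ[A] C ⧸ J)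

/-- The fibre product `Bb ×_{C/J} C` as a subalgebra. -/
def PPsub : Subalgebra A (Bb × C) :=
  AlgHom.equalizer (ub.comp (AlgHom.fst A Bb C))
    ((Ideal.Quotient.mkₐ A J).comp (AlgHom.snd A Bb C))

/-- The fibre product `Bb ×_{C/J} C`. -/
def PP : Type u := ↥(PPsub J ub)

instance : CommRing (PP J ub) := Subalgebra.toCommRing (PPsub J ub)

instance : Algebra A (PP J ub) :=
  inferInstanceAs (Algebra A ↥(PPsub J ub))

theorem mem_PP (p : Bb × C) : p ∈ PPsub J ub ↔ ub p.1 = Ideal.Quotient.mk J p.2 := Iff.rfl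

/-- the inclusion -/
def valP : PP J ub →ₐ[A] (Bb × C) := (PPsub J ub).val

/-- first projection -/
def fstP : PP J ub →ₐ[A] Bb := (AlgHom.fst A Bb C).comp (valP J ub)

/-- second projection -/
def sndP : PP J ub →ₐ[A] C := (AlgHom.snd A Bb C).comp (valP J ub)

theorem compat (p : PP J ub) : ub (fstP J ub p) = Ideal.Quotient.mk J (sndP J ub p) :=
  (mem_PP J ub (valP J ub p)).1 (Subtype.property (p := fun x => x ∈ PPsub J ub) p)

theorem ext_PP {p q : PP J ub} (h1 : fstP J ub p = fstP J ub q) (h2 : sndP J ub p = sndP J ub q) :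
    p = q := Subtype.ext (Prod.ext h1 h2)

/-- constructor -/
def mkP (x : Bb) (c : C) (h : ub x = Ideal.Quotient.mk J c) : PP J ub := ⟨(x, c), h⟩

theorem fstP_mkP (x : Bb) (c : C) (h : ub x = Ideal.Quotient.mk J c) :
    fstP J ub (mkP J ub x c h) = x := rfl

theorem sndP_mkP (x : Bb) (c : C) (h : ub x = Ideal.Quotient.mk J c) :
    sndP J ub (mkP J ub x c h) = c := rfl

theorem fstP_surjective : Function.Surjective (fstP J ub) := by
  intro x
  obtain ⟨c, hc⟩ := Ideal.Quotient.mk_surjective (ub x)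
  exact ⟨mkP J ub x c hc.symm, rfl⟩

theorem sndP_mem_of_fstP_eq_zero (p : PP J ub) (hp : fstP J ub p = 0) : sndP J ub p ∈ J := by
  have h1 := compat J ub p
  rw [hp, map_zero] at h1
  exact Ideal.Quotient.eq_zero_iff_mem.1 h1.symm

/-- the ideal `𝔞 P` -/
def IP : Ideal (PP J ub) := 𝔞.map (algebraMap A (PP J ub))

/-- the ideal `𝔞 Bb` -/
def IB (Bb : Type u) [CommRing Bb] [Algebra A Bb] : Ideal Bb := 𝔞.map (algebraMap A Bb)

theorem IP_le : IP 𝔞 J ub ≤ Ideal.comap (fstP J ub) (IB 𝔞 Bb) := by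
  rw [IP, Ideal.map_le_iff_le_comap]
  intro a ha
  change fstP J ub (algebraMap A (PP J ub) a) ∈ IB 𝔞 Bb
  rw [(fstP J ub).commutes]
  exact Ideal.mem_map_of_mem _ ha

/-- the map `P/𝔞P → Bb/𝔞Bb` -/
def piE : (PP J ub ⧸ IP 𝔞 J ub) →ₐ[A] (Bb ⧸ IB 𝔞 Bb) :=
  Ideal.quotientMapₐ (IB 𝔞 Bb) (fstP J ub) (IP_le 𝔞 J ub)

theorem piE_mk (p : PP J ub) :
    piE 𝔞 J ub (Ideal.Quotient.mk (IP 𝔞 J ub) p) = Ideal.Quotient.mk (IB 𝔞 Bb) (fstP J ub p) := rfl

theorem piE_surjective : Function.Surjective (piE 𝔞 J ub) := by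
  intro y
  obtain ⟨x, rfl⟩ := Ideal.Quotient.mk_surjective y
  obtain ⟨p, rfl⟩ := fstP_surjective J ub x
  exact ⟨Ideal.Quotient.mk _ p, rfl⟩

theorem exists_lift_IB (x : Bb) (hx : x ∈ IB 𝔞 Bb) : ∃ q ∈ IP 𝔞 J ub, fstP J ub q = x := by
  have hx' : x ∈ (𝔞 • ⊤ : Submodule A Bb) := by
    rw [Ideal.smul_top_eq_map]
    exact hx
  refine Submodule.smul_induction_on hx' ?_ ?_
  · intro a ha y _
    obtain ⟨q', rfl⟩ := fstP_surjective J ub y
    refine ⟨a • q', ?_, map_smul _ _ _⟩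
    rw [Algebra.smul_def]
    exact Ideal.mul_mem_right _ _ (Ideal.mem_map_of_mem _ ha)
  · rintro x y ⟨q₁, hq₁, rfl⟩ ⟨q₂, hq₂, rfl⟩
    exact ⟨q₁ + q₂, (IP 𝔞 J ub).add_mem hq₁ hq₂, map_add _ _ _⟩

theorem ker_piE_rep (e : PP J ub ⧸ IP 𝔞 J ub) (he : piE 𝔞 J ub e = 0) :
    ∃ p : PP J ub, fstP J ub p = 0 ∧ e = Ideal.Quotient.mk (IP 𝔞 J ub) p := by
  obtain ⟨p, rfl⟩ := Ideal.Quotient.mk_surjective e
  rw [piE_mk, Ideal.Quotient.eq_zero_iff_mem] at he
  obtain ⟨q, hq, hqp⟩ := exists_lift_IB 𝔞 J ub _ he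
  refine ⟨p - q, by rw [map_sub, hqp, sub_self], ?_⟩
  rw [map_sub, Ideal.Quotient.eq_zero_iff_mem.2 hq, sub_zero]

theorem ker_piE_nilpotent (hJ2 : ∀ x ∈ J, ∀ y ∈ J, x * y = 0) :
    IsNilpotent (RingHom.ker (piE 𝔞 J ub)) := by
  refine ⟨2, ?_⟩
  have hsq : RingHom.ker (piE 𝔞 J ub) * RingHom.ker (piE 𝔞 J ub) = ⊥ := ?_
  · have h2 : RingHom.ker (piE 𝔞 J ub) ^ 2 =
        RingHom.ker (piE 𝔞 J ub) * RingHom.ker (piE 𝔞 J ub) := sq _
    exact h2.trans hsq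
  rw [eq_bot_iff, Ideal.mul_le]
  intro e he e' he'
  obtain ⟨p, hp, rfl⟩ := ker_piE_rep 𝔞 J ub e he
  obtain ⟨p', hp', rfl⟩ := ker_piE_rep 𝔞 J ub e' he'
  rw [Ideal.mem_bot, ← map_mul]
  have : p * p' = 0 := by
    apply ext_PP
    · rw [map_mul, hp, zero_mul, map_zero]
    · rw [map_mul, map_zero]
      exact hJ2 _ (sndP_mem_of_fstP_eq_zero J ub p hp) _ (sndP_mem_of_fstP_eq_zero J ub p' hp')
  rw [this, map_zero]

theorem algebraMap_E_eq_zero (a : A) (ha : a ∈ 𝔞) :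
    algebraMap A (PP J ub ⧸ IP 𝔞 J ub) a = 0 := by
  change Ideal.Quotient.mk (IP 𝔞 J ub) (algebraMap A (PP J ub) a) = 0
  exact Ideal.Quotient.eq_zero_iff_mem.2 (Ideal.mem_map_of_mem _ ha)

variable (wb : Bb →ₗ[A] C) (hwb : ∀ x, Ideal.Quotient.mk J (wb x) = ub x)

/-- the `A`-linear retraction onto `J` -/
def sP : PP J ub →ₗ[A] C :=
  (sndP J ub).toLinearMap - wb ∘ₗ (fstP J ub).toLinearMap

theorem sP_apply (p : PP J ub) : sP J ub wb p = sndP J ub p - wb (fstP J ub p) := rfl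

include hwb in
theorem sP_mem (p : PP J ub) : sP J ub wb p ∈ J := by
  rw [sP_apply, ← Ideal.Quotient.eq_zero_iff_mem, map_sub, hwb, compat, sub_self]

include hwb in
theorem sP_eq_zero_of_mem_IP (haJ : ∀ a ∈ 𝔞, ∀ j ∈ J, algebraMap A C a * j = 0)
    (p : PP J ub) (hp : p ∈ IP 𝔞 J ub) : sP J ub wb p = 0 := by
  have hp' : p ∈ (𝔞 • ⊤ : Submodule A (PP J ub)) := by
    rw [Ideal.smul_top_eq_map]
    exact hp
  refine Submodule.smul_induction_on hp' ?_ ?_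
  · intro a ha q _
    rw [map_smul, Algebra.smul_def]
    exact haJ a ha _ (sP_mem J ub wb hwb q)
  · intro x y hx hy
    rw [map_add, hx, hy, add_zero]

include hwb in
theorem uniq (haJ : ∀ a ∈ 𝔞, ∀ j ∈ J, algebraMap A C a * j = 0) (p p' : PP J ub)
    (h1 : fstP J ub p = fstP J ub p')
    (h2 : Ideal.Quotient.mk (IP 𝔞 J ub) p = Ideal.Quotient.mk (IP 𝔞 J ub) p') : p = p' := by
  have hd1 : fstP J ub (p - p') = 0 := by rw [map_sub, h1, sub_self]
  have hd2 : p - p' ∈ IP 𝔞 J ub := by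
    rw [← Ideal.Quotient.eq_zero_iff_mem, map_sub, h2, sub_self]
  have h3 := sP_eq_zero_of_mem_IP 𝔞 J ub wb hwb haJ _ hd2
  rw [sP_apply, hd1, map_zero, sub_zero] at h3
  have : p - p' = 0 := by
    apply ext_PP
    · rw [hd1, map_zero]
    · rw [h3, map_zero]
  exact sub_eq_zero.1 this

end FibreProduct

end Groth.Agent.Lib.Helper26.FProj
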