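import Mathlib
import Groth.Prelude.Def_EGA41
import Groth.Agent.Lib.Helper26.FProj1
import Groth.Agent.Lib.Helper26.FProj2

/-!
# Formal smoothness of a formally projective adic algebra and of its reduction
Part 3: the basic step and the induction.
-/

set_option autoImplicit false
universe u

namespace Groth.Agent.Lib.Helper26.FProj

open EGA41

variable {A B : Type u} [CommRing A] [CommRing B] [Algebra A B] (𝔞 : Ideal A) (𝔟 : Ideal B)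

/-- formal projectivity of the topological `A`-module `B` -/
def FormallyProjective : Prop :=
  ∀ (n : ℕ) (P Q : Type u) [AddCommGroup P] [Module A P] [AddCommGroup Q] [Module A Q],
    (∀ a ∈ 𝔞 ^ n, ∀ y : P, a • y = 0) → (∀ a ∈ 𝔞 ^ n, ∀ y : Q, a • y = 0) →
    ∀ f : P →ₗ[A] Q, Function.Surjective f → ∀ v : B →ₗ[A] Q, (∃ m : ℕ, ∀ x ∈ 𝔟 ^ m, v x = 0) →
      ∃ w : B →ₗ[A] P, (∃ m : ℕ, ∀ x ∈ 𝔟 ^ m, w x = 0) ∧ f ∘ₗ w = v

/-- The lift to the fibre product, given the lift to `P/𝔞P`. -/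
theorem step_aux {Bb C : Type u} [CommRing Bb] [CommRing C] [Algebra A Bb] [Algebra A C]
    (J : Ideal C) (ub : Bb →ₐ[A] C ⧸ J) (wb : Bb →ₗ[A] C)
    (hwb : ∀ x, Ideal.Quotient.mk J (wb x) = ub x)
    (haJ : ∀ a ∈ 𝔞, ∀ j ∈ J, algebraMap A C a * j = 0)
    (q : B →ₐ[A] Bb)
    (χ : B →ₐ[A] (PP J ub ⧸ IP 𝔞 J ub))
    (hχ : ∀ b, piE 𝔞 J ub (χ b) = Ideal.Quotient.mk (IB 𝔞 Bb) (q b)) :
    ∃ v : B →ₐ[A] C, ∀ b, Ideal.Quotient.mk J (v b) = ub (q b) := by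
  have hex : ∀ b : B, ∃ p : PP J ub, fstP J ub p = q b ∧
      Ideal.Quotient.mk (IP 𝔞 J ub) p = χ b := by
    intro b
    obtain ⟨p₁, hp₁⟩ := Ideal.Quotient.mk_surjective (χ b)
    have h1 : fstP J ub p₁ - q b ∈ IB 𝔞 Bb := by
      rw [← Ideal.Quotient.eq_zero_iff_mem, map_sub, ← piE_mk, hp₁, hχ, sub_self]
    obtain ⟨r, hr, hr'⟩ := exists_lift_IB 𝔞 J ub _ h1
    refine ⟨p₁ - r, by rw [map_sub, hr']; ring, ?_⟩
    rw [map_sub, Ideal.Quotient.eq_zero_iff_mem.2 hr, sub_zero, hp₁]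
  choose vt hvt1 hvt2 using hex
  have hvtu : ∀ (b : B) (p : PP J ub), fstP J ub p = q b →
      Ideal.Quotient.mk (IP 𝔞 J ub) p = χ b → vt b = p := fun b p h1 h2 =>
    uniq 𝔞 J ub wb hwb haJ _ _ ((hvt1 b).trans h1.symm) ((hvt2 b).trans h2.symm)
  let vtA : B →ₐ[A] PP J ub :=
    { toFun := vt
      map_one' := hvtu 1 1 (by rw [map_one, map_one]) (by rw [map_one, map_one])
      map_mul' := fun x y => hvtu (x * y) (vt x * vt y)
        (by rw [map_mul, hvt1, hvt1, map_mul]) (by rw [map_mul, hvt2, hvt2, map_mul])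
      map_zero' := hvtu 0 0 (by rw [map_zero, map_zero]) (by rw [map_zero, map_zero])
      map_add' := fun x y => hvtu (x + y) (vt x + vt y)
        (by rw [map_add, hvt1, hvt1, map_add]) (by rw [map_add, hvt2, hvt2, map_add])
      commutes' := fun a => hvtu _ (algebraMap A (PP J ub) a)
        (by rw [(fstP J ub).commutes, q.commutes])
        (by rw [χ.commutes]; rfl) }
  refine ⟨(sndP J ub).comp vtA, fun b => ?_⟩
  change Ideal.Quotient.mk J (sndP J ub (vt b)) = ub (q b)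
  rw [← compat, hvt1]

theorem step (hproj : FormallyProjective 𝔞 𝔟) (H₀ : RedLift 𝔞 𝔟)
    {C : Type u} [CommRing C] [Algebra A C] (J : Ideal C)
    (hJ2 : ∀ x ∈ J, ∀ y ∈ J, x * y = 0) (haJ : ∀ a ∈ 𝔞, ∀ j ∈ J, algebraMap A C a * j = 0)
    (hk : ∃ k : ℕ, (𝔞 ^ k).map (algebraMap A C) = ⊥) (u : B →ₐ[A] C ⧸ J)
    (hu : ∃ k : ℕ, ∀ x ∈ 𝔟 ^ k, u x = 0) :
    ∃ v : B →ₐ[A] C, (Ideal.Quotient.mkₐ A J).comp v = u := by
  obtain ⟨k, hk⟩ := hk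
  obtain ⟨k₁, hu⟩ := hu
  have hC0 : ∀ a ∈ 𝔞 ^ k, algebraMap A C a = 0 := by
    intro a ha
    have : algebraMap A C a ∈ (𝔞 ^ k).map (algebraMap A C) := Ideal.mem_map_of_mem _ ha
    rw [hk] at this
    exact this
  have hC : ∀ a ∈ 𝔞 ^ k, ∀ y : C, a • y = 0 := fun a ha y => by
    rw [Algebra.smul_def, hC0 a ha, zero_mul]
  have hCJ : ∀ a ∈ 𝔞 ^ k, ∀ y : C ⧸ J, a • y = 0 := fun a ha y => by
    obtain ⟨c, rfl⟩ := Ideal.Quotient.mk_surjective y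
    rw [← Ideal.Quotient.mkₐ_eq_mk A, ← map_smul, hC a ha c, map_zero]
  obtain ⟨w, ⟨m₁, hw⟩, hwu⟩ := hproj k C (C ⧸ J) hC hCJ (Ideal.Quotient.mkₐ A J).toLinearMap
    (Ideal.Quotient.mkₐ_surjective A J) u.toLinearMap ⟨k₁, hu⟩
  have hwu' : ∀ b, Ideal.Quotient.mk J (w b) = u b := fun b => LinearMap.congr_fun hwu b
  obtain ⟨m, hm₁, hm₂⟩ : ∃ m, k₁ ≤ m ∧ m₁ ≤ m := ⟨max k₁ m₁, le_max_left _ _, le_max_right _ _⟩
  have hu' : ∀ x ∈ 𝔟 ^ m, u x = 0 := fun x hx => hu x (Ideal.pow_le_pow_right hm₁ hx)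
  have hw' : ∀ x ∈ 𝔟 ^ m, w x = 0 := fun x hx => hw x (Ideal.pow_le_pow_right hm₂ hx)
  -- the quotient `B/𝔟^m`
  let ub : (B ⧸ 𝔟 ^ m) →ₐ[A] C ⧸ J := Ideal.Quotient.liftₐ (𝔟 ^ m) u hu'
  have hub : ∀ b : B, ub (Ideal.Quotient.mk (𝔟 ^ m) b) = u b := fun b => rfl
  let wb : (B ⧸ 𝔟 ^ m) →ₗ[A] C :=
    (Submodule.liftQ ((𝔟 ^ m).restrictScalars A) w (fun x hx => hw' x hx)) ∘ₗ
      (Submodule.Quotient.restrictScalarsEquiv A (𝔟 ^ m)).symm.toLinearMap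
  have hwb : ∀ b : B, wb (Ideal.Quotient.mk (𝔟 ^ m) b) = w b := fun b => rfl
  have hwub : ∀ x : B ⧸ 𝔟 ^ m, Ideal.Quotient.mk J (wb x) = ub x := by
    intro x
    obtain ⟨b, rfl⟩ := Ideal.Quotient.mk_surjective x
    rw [hwb, hub, hwu']
  let ψ : B →ₐ[A] ((B ⧸ 𝔟 ^ m) ⧸ IB 𝔞 (B ⧸ 𝔟 ^ m)) :=
    (Ideal.Quotient.mkₐ A (IB 𝔞 (B ⧸ 𝔟 ^ m))).comp (Ideal.Quotient.mkₐ A (𝔟 ^ m))
  have hψ : ∀ b, ψ b = Ideal.Quotient.mk (IB 𝔞 (B ⧸ 𝔟 ^ m)) (Ideal.Quotient.mk (𝔟 ^ m) b) :=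
    fun b => rfl
  have hψc : ∃ k : ℕ, ∀ x ∈ 𝔟 ^ k, ψ x = 0 := by
    refine ⟨m, fun x hx => ?_⟩
    rw [hψ, Ideal.Quotient.eq_zero_iff_mem.2 hx, map_zero]
  obtain ⟨χ, hχ⟩ := H₀ (PP J ub ⧸ IP 𝔞 J ub) ((B ⧸ 𝔟 ^ m) ⧸ IB 𝔞 (B ⧸ 𝔟 ^ m))
    (algebraMap_E_eq_zero 𝔞 J ub) (piE 𝔞 J ub) (piE_surjective 𝔞 J ub)
    (ker_piE_nilpotent 𝔞 J ub hJ2) ψ hψc
  obtain ⟨v, hv⟩ := step_aux 𝔞 J ub wb hwub haJ (Ideal.Quotient.mkₐ A (𝔟 ^ m)) χ
    (fun b => AlgHom.congr_fun hχ b)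
  refine ⟨v, ?_⟩
  ext b
  exact hv b

/-- The induction on the length of the filtration `J ⊇ JK ⊇ JK² ⊇ …`, `K = J + 𝔞C`. -/
theorem lift_ind (hproj : FormallyProjective 𝔞 𝔟) (H₀ : RedLift 𝔞 𝔟) (N : ℕ) :
    ∀ (C C' : Type u) [CommRing C] [CommRing C'] [Algebra A C] [Algebra A C'] (π : C →ₐ[A] C'),
      Function.Surjective π → (∃ k : ℕ, (𝔞 ^ k).map (algebraMap A C) = ⊥) →
      IsNilpotent (RingHom.ker π) →
      RingHom.ker π * (RingHom.ker π ⊔ 𝔞.map (algebraMap A C)) ^ N = ⊥ →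
      ∀ ψ : B →ₐ[A] C', (∃ k : ℕ, ∀ x ∈ 𝔟 ^ k, ψ x = 0) → ∃ χ : B →ₐ[A] C, π.comp χ = ψ := by
  induction N with
  | zero =>
    intro C C' _ _ _ _ π hπ _ _ h0 ψ _
    rw [pow_zero, Ideal.one_eq_top, Ideal.mul_top] at h0
    have hinj : Function.Injective π := (RingHom.injective_iff_ker_eq_bot _).2 h0
    let e := AlgEquiv.ofBijective π ⟨hinj, hπ⟩
    refine ⟨e.symm.toAlgHom.comp ψ, ?_⟩
    ext b
    exact e.apply_symm_apply (ψ b)
  | succ N ih =>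
    intro C C' _ _ _ _ π hπ hk hnil hN ψ hψ
    set Jπ : Ideal C := RingHom.ker π with hJπ
    set K : Ideal C := Jπ ⊔ 𝔞.map (algebraMap A C) with hKdef
    set I : Ideal C := Jπ * K ^ N with hIdef
    have hI : I ≤ Jπ := Ideal.mul_le_left
    have hJK : Jπ ≤ K := le_sup_left
    have hIK : I * K = ⊥ := by
      rw [hIdef, mul_assoc, ← pow_succ]
      exact hN
    have hI2 : ∀ x ∈ I, ∀ y ∈ I, x * y = 0 := by
      intro x hx y hy
      have : x * y ∈ I * K := Ideal.mul_mem_mul hx (hJK (hI hy))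
      rw [hIK] at this
      exact this
    have haI : ∀ a ∈ 𝔞, ∀ j ∈ I, algebraMap A C a * j = 0 := by
      intro a ha j hj
      have h1 : algebraMap A C a ∈ K := by
        apply Ideal.mem_sup_right
        exact Ideal.mem_map_of_mem _ ha
      have : j * algebraMap A C a ∈ I * K := Ideal.mul_mem_mul hj h1
      rw [hIK] at this
      rw [mul_comm]
      exact this
    -- the quotient `D = C/I`
    let πD : (C ⧸ I) →ₐ[A] C' := Ideal.Quotient.liftₐ I π (fun x hx => hI hx)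
    have hπD : ∀ c, πD (Ideal.Quotient.mk I c) = π c := fun c => rfl
    have hπDs : Function.Surjective πD := by
      intro y
      obtain ⟨c, rfl⟩ := hπ y
      exact ⟨Ideal.Quotient.mk I c, rfl⟩
    have hkerD : RingHom.ker πD = Jπ.map (Ideal.Quotient.mk I) := by
      ext x
      obtain ⟨c, rfl⟩ := Ideal.Quotient.mk_surjective x
      rw [RingHom.mem_ker, hπD]
      constructor
      · intro h
        exact Ideal.mem_map_of_mem _ h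
      · intro h
        rw [Ideal.mem_map_iff_of_surjective _ Ideal.Quotient.mk_surjective] at h
        obtain ⟨c', hc', hcc'⟩ := h
        have h1 : c' - c ∈ I := by
          rw [← Ideal.Quotient.eq_zero_iff_mem, map_sub, hcc', sub_self]
        have h2 : π (c' - c) = 0 := hI h1
        rw [map_sub, (show π c' = 0 from hc'), zero_sub, neg_eq_zero] at h2
        exact h2
    have hmapD : 𝔞.map (algebraMap A (C ⧸ I)) =
        (𝔞.map (algebraMap A C)).map (Ideal.Quotient.mk I) := by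
      rw [Ideal.map_map]
      rfl
    have hkD : ∃ k : ℕ, (𝔞 ^ k).map (algebraMap A (C ⧸ I)) = ⊥ := by
      obtain ⟨k, hk⟩ := hk
      refine ⟨k, ?_⟩
      have : (𝔞 ^ k).map (algebraMap A (C ⧸ I)) =
          ((𝔞 ^ k).map (algebraMap A C)).map (Ideal.Quotient.mk I) := by
        rw [Ideal.map_map]
        rfl
      rw [this, hk, Ideal.map_bot]
    have hnilD : IsNilpotent (RingHom.ker πD) := by
      obtain ⟨r, hr⟩ := hnil
      refine ⟨r, ?_⟩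
      have h2 : (Jπ.map (Ideal.Quotient.mk I)) ^ r = ⊥ := by
        rw [← Ideal.map_pow]
        have : Jπ ^ r = ⊥ := hr
        rw [this, Ideal.map_bot]
      rw [hkerD]
      exact h2
    have hND : RingHom.ker πD * (RingHom.ker πD ⊔ 𝔞.map (algebraMap A (C ⧸ I))) ^ N = ⊥ := by
      rw [hkerD, hmapD, ← Ideal.map_sup, ← Ideal.map_pow, ← Ideal.map_mul]
      exact Ideal.map_quotient_self I
    obtain ⟨χD, hχD⟩ := ih (C ⧸ I) C' πD hπDs hkD hnilD hND ψ hψ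
    have hχD' : ∀ b, πD (χD b) = ψ b := fun b => AlgHom.congr_fun hχD b
    have hχDc : ∃ k : ℕ, ∀ x ∈ 𝔟 ^ k, χD x = 0 := by
      apply continuous_of_lift 𝔟 πD hnilD χD
      obtain ⟨k, hk⟩ := hψ
      exact ⟨k, fun x hx => by rw [hχD', hk x hx]⟩
    obtain ⟨χ, hχ⟩ := step 𝔞 𝔟 hproj H₀ I hI2 haI hk χD hχDc
    refine ⟨χ, ?_⟩
    ext b
    have h1 : Ideal.Quotient.mk I (χ b) = χD b := AlgHom.congr_fun hχ b
    change π (χ b) = ψ b
    rw [← hπD, h1, hχD']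

/-- `(⟸)`: formal smoothness of the reduction implies that of `B`. -/
theorem fs_of_red (hproj : FormallyProjective 𝔞 𝔟)
    (h₀ : IsFormallySmoothAdic (A ⧸ 𝔞) ⊥ (B ⧸ 𝔞.map (algebraMap A B))
      (𝔟.map (Ideal.Quotient.mk (𝔞.map (algebraMap A B))))) :
    IsFormallySmoothAdic A 𝔞 B 𝔟 := by
  intro C _ _ J hJ hk u hu
  have H₀ := redLift_of_red 𝔞 𝔟 h₀
  obtain ⟨r, hr⟩ := hJ
  obtain ⟨k, hk'⟩ := hk
  have hr' : J ^ r = ⊥ := hr
  have hK : (J ⊔ 𝔞.map (algebraMap A C)) ^ (r + k) = ⊥ := by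
    rw [eq_bot_iff]
    refine (Ideal.sup_pow_add_le_pow_sup_pow).trans ?_
    rw [hr', ← Ideal.map_pow, hk', sup_bot_eq]
  have hker : RingHom.ker (Ideal.Quotient.mkₐ A J) = J := Ideal.Quotient.mkₐ_ker A J
  exact lift_ind 𝔞 𝔟 hproj H₀ (r + k) C (C ⧸ J) (Ideal.Quotient.mkₐ A J)
    (Ideal.Quotient.mkₐ_surjective A J) ⟨k, hk'⟩ (by rw [hker]; exact ⟨r, hr⟩)
    (by rw [hker, hK, Ideal.mul_bot]) u hu

theorem main (hproj : FormallyProjective 𝔞 𝔟) :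
    IsFormallySmoothAdic A 𝔞 B 𝔟 ↔
      IsFormallySmoothAdic (A ⧸ 𝔞) ⊥ (B ⧸ 𝔞.map (algebraMap A B))
        (𝔟.map (Ideal.Quotient.mk (𝔞.map (algebraMap A B)))) :=
  ⟨red_of_fs 𝔞 𝔟, fs_of_red 𝔞 𝔟 hproj⟩

end Groth.Agent.Lib.Helper26.FProj
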