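import Mathlib
import Groth.Prelude.Def_EGA41
import Groth.Agent.Lib.Helper26.FProj1

/-!
# Formal smoothness and finite projective faithfully flat base change (EGA 0_IV 19.?)
-/

set_option autoImplicit false
universe u

namespace Groth.Agent.Lib.Helper26.FProj

open EGA41 TensorProduct

section Retraction

variable {A A' : Type u} [CommRing A] [CommRing A'] [Algebra A A']

theorem exists_retraction [Module.FaithfullyFlat A A'] [Module.Projective A A'] :
    ∃ ρ : A' →ₗ[A] A, ρ 1 = 1 := by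
  obtain ⟨s, hs⟩ := Module.projective_def'.1 (inferInstance : Module.Projective A A')
  let ev : (A' →ₗ[A] A) →ₗ[A] A := LinearMap.applyₗ (1 : A')
  let T : Ideal A := LinearMap.range ev
  by_contra hne
  push Not at hne
  have hT : T ≠ ⊤ := by
    intro h
    have h1 : (1 : A) ∈ T := by rw [h]; trivial
    obtain ⟨φ, hφ⟩ := h1
    exact hne φ hφ
  obtain ⟨𝔪, h𝔪, hT𝔪⟩ := Ideal.exists_le_maximal T hT
  have h1 : (1 : A') ∈ (𝔪 • ⊤ : Submodule A A') := by
    have h2 := LinearMap.congr_fun hs 1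
    rw [LinearMap.comp_apply, LinearMap.id_apply, Finsupp.linearCombination_apply] at h2
    rw [← h2]
    refine Submodule.sum_mem _ fun y _ => ?_
    refine Submodule.smul_mem_smul (hT𝔪 ?_) Submodule.mem_top
    exact ⟨(Finsupp.lapply y) ∘ₗ s, rfl⟩
  have h2 : (𝔪 • ⊤ : Submodule A A') = ⊤ := by
    rw [Ideal.smul_top_eq_map] at h1 ⊢
    have h3 : 𝔪.map (algebraMap A A') = ⊤ := (Ideal.eq_top_iff_one _).2 h1
    rw [h3]
    rfl
  exact (Module.FaithfullyFlat.submodule_ne_top (R := A) (M := A') h𝔪) h2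

end Retraction

section SqZero

variable {A B : Type u} [CommRing A] [CommRing B] [Algebra A B] (𝔞 : Ideal A) (𝔟 : Ideal B)

/-- the square-zero lifting property -/
def SqLift : Prop :=
  ∀ (C : Type u) [CommRing C] [Algebra A C] (J : Ideal C), J ^ 2 = ⊥ →
    (∃ k : ℕ, (𝔞 ^ k).map (algebraMap A C) = ⊥) →
    ∀ u : B →ₐ[A] C ⧸ J, (∃ k : ℕ, ∀ x ∈ 𝔟 ^ k, u x = 0) →
      ∃ v : B →ₐ[A] C, (Ideal.Quotient.mkₐ A J).comp v = u

theorem lift_ind_sq (h : SqLift 𝔞 𝔟) (N : ℕ) :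
    ∀ (C C' : Type u) [CommRing C] [CommRing C'] [Algebra A C] [Algebra A C'] (π : C →ₐ[A] C'),
      Function.Surjective π → (∃ k : ℕ, (𝔞 ^ k).map (algebraMap A C) = ⊥) →
      RingHom.ker π ^ (N + 1) = ⊥ →
      ∀ ψ : B →ₐ[A] C', (∃ k : ℕ, ∀ x ∈ 𝔟 ^ k, ψ x = 0) → ∃ χ : B →ₐ[A] C, π.comp χ = ψ := by
  induction N with
  | zero =>
    intro C C' _ _ _ _ π hπ _ h0 ψ _
    rw [zero_add, pow_one] at h0
    have hinj : Function.Injective π := (RingHom.injective_iff_ker_eq_bot _).2 h0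
    let e := AlgEquiv.ofBijective π ⟨hinj, hπ⟩
    refine ⟨e.symm.toAlgHom.comp ψ, ?_⟩
    ext b
    exact e.apply_symm_apply (ψ b)
  | succ N ih =>
    intro C C' _ _ _ _ π hπ hk hN ψ hψ
    set Jπ : Ideal C := RingHom.ker π with hJπ
    set I : Ideal C := Jπ ^ (N + 1) with hIdef
    have hI : I ≤ Jπ := Ideal.pow_le_self (Nat.succ_ne_zero N)
    have hI2 : I ^ 2 = ⊥ := by
      rw [eq_bot_iff, hIdef, ← pow_mul, ← hN]
      exact Ideal.pow_le_pow_right (by omega)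
    let πD : (C ⧸ I) →ₐ[A] C' := Ideal.Quotient.liftₐ I π (fun x hx => hI hx)
    have hπD : ∀ c, πD (Ideal.Quotient.mk I c) = π c := fun c => rfl
    have hπDs : Function.Surjective πD := by
      intro y
      obtain ⟨c, rfl⟩ := hπ y
      exact ⟨Ideal.Quotient.mk I c, rfl⟩
    have hkerD : RingHom.ker πD = Jπ.map (Ideal.Quotient.mk I) := by
      ext x
      obtain ⟨c, rfl⟩ := Ideal.Quotient.mk_surjective x
      rw [RingHom.mem_ker, hπD]
      constructor
      · intro h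
        exact Ideal.mem_map_of_mem _ h
      · intro h
        rw [Ideal.mem_map_iff_of_surjective _ Ideal.Quotient.mk_surjective] at h
        obtain ⟨c', hc', hcc'⟩ := h
        have h1 : c' - c ∈ I := by
          rw [← Ideal.Quotient.eq_zero_iff_mem, map_sub, hcc', sub_self]
        have h2 : π (c' - c) = 0 := hI h1
        rw [map_sub, (show π c' = 0 from hc'), zero_sub, neg_eq_zero] at h2
        exact h2
    have hkD : ∃ k : ℕ, (𝔞 ^ k).map (algebraMap A (C ⧸ I)) = ⊥ := by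
      obtain ⟨k, hk⟩ := hk
      refine ⟨k, ?_⟩
      have : (𝔞 ^ k).map (algebraMap A (C ⧸ I)) =
          ((𝔞 ^ k).map (algebraMap A C)).map (Ideal.Quotient.mk I) := by
        rw [Ideal.map_map]
        rfl
      rw [this, hk, Ideal.map_bot]
    have hND : RingHom.ker πD ^ (N + 1) = ⊥ := by
      rw [hkerD, ← Ideal.map_pow]
      exact Ideal.map_quotient_self I
    obtain ⟨χD, hχD⟩ := ih (C ⧸ I) C' πD hπDs hkD hND ψ hψ
    have hχD' : ∀ b, πD (χD b) = ψ b := fun b => AlgHom.congr_fun hχD b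
    have hχDc : ∃ k : ℕ, ∀ x ∈ 𝔟 ^ k, χD x = 0 := by
      apply continuous_of_lift 𝔟 πD ⟨N + 1, hND⟩ χD
      obtain ⟨k, hk⟩ := hψ
      exact ⟨k, fun x hx => by rw [hχD', hk x hx]⟩
    obtain ⟨χ, hχ⟩ := h C I hI2 hk χD hχDc
    refine ⟨χ, ?_⟩
    ext b
    have h1 : Ideal.Quotient.mk I (χ b) = χD b := AlgHom.congr_fun hχ b
    change π (χ b) = ψ b
    rw [← hπD, h1, hχD']

theorem of_sqLift (h : SqLift 𝔞 𝔟) : IsFormallySmoothAdic A 𝔞 B 𝔟 := by
  intro C _ _ J hJ hk u hu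
  obtain ⟨r, hr⟩ := hJ
  have hr' : J ^ r = ⊥ := hr
  have hker : RingHom.ker (Ideal.Quotient.mkₐ A J) = J := Ideal.Quotient.mkₐ_ker A J
  refine lift_ind_sq 𝔞 𝔟 h r C (C ⧸ J) (Ideal.Quotient.mkₐ A J)
    (Ideal.Quotient.mkₐ_surjective A J) hk ?_ u hu
  rw [hker, pow_succ, hr', Ideal.bot_mul]

end SqZero

end Groth.Agent.Lib.Helper26.FProj
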