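import Mathlib
import Groth.Prelude.Def_EGA41
import Groth.Agent.Lib.Helper26.FProj1
import Groth.Agent.Lib.Helper26.FProj4

/-!
# Formal smoothness and base change with a linear retraction
-/

set_option autoImplicit false
universe u

namespace Groth.Agent.Lib.Helper26.FProj

open EGA41 TensorProduct

variable {A B A' : Type u} [CommRing A] [CommRing B] [CommRing A'] [Algebra A B] [Algebra A A']
  (𝔞 : Ideal A) (𝔟 : Ideal B)

/-- the ideal of definition of `A' ⊗ B` -/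
def bc𝔟 : Ideal (A' ⊗[A] B) :=
  (𝔞.map (algebraMap A A')).map (algebraMap A' (A' ⊗[A] B)) ⊔
    𝔟.map (Algebra.TensorProduct.includeRight : B →ₐ[A] A' ⊗[A] B).toRingHom

section BaseChange

/-- `(⟸)`: base change. -/
theorem baseChange (h : IsFormallySmoothAdic A 𝔞 B 𝔟) :
    IsFormallySmoothAdic A' (𝔞.map (algebraMap A A')) (A' ⊗[A] B) (bc𝔟 (A' := A') 𝔞 𝔟) := by
  intro C _ _ J hJ hk u' hu'
  let _ : Algebra A C := ((algebraMap A' C).comp (algebraMap A A')).toAlgebra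
  have _ : IsScalarTower A A' C := IsScalarTower.of_algebraMap_eq fun x => rfl
  have hmapC : ∀ a : A, algebraMap A C a = algebraMap A' C (algebraMap A A' a) := fun a => rfl
  have hmapCJ : ∀ a : A, algebraMap A (C ⧸ J) a = algebraMap A' (C ⧸ J) (algebraMap A A' a) :=
    fun a => rfl
  let u : B →ₐ[A] C ⧸ J :=
    { u'.toRingHom.comp (Algebra.TensorProduct.includeRight : B →ₐ[A] A' ⊗[A] B).toRingHom with
      commutes' := fun a => by
        change u' ((1 : A') ⊗ₜ[A] (algebraMap A B a)) = algebraMap A (C ⧸ J) a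
        rw [hmapCJ, ← u'.commutes, Algebra.TensorProduct.algebraMap_apply,
          Algebra.algebraMap_eq_smul_one a, tmul_smul, Algebra.algebraMap_eq_smul_one a,
          smul_tmul']
        rfl }
  have hu : ∀ b, u b = u' ((1 : A') ⊗ₜ[A] b) := fun b => rfl
  have hk2 : ∃ k : ℕ, (𝔞 ^ k).map (algebraMap A C) = ⊥ := by
    obtain ⟨k, hk⟩ := hk
    refine ⟨k, ?_⟩
    have : (𝔞 ^ k).map (algebraMap A C) =
        ((𝔞 ^ k).map (algebraMap A A')).map (algebraMap A' C) := by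
      rw [Ideal.map_map]
      rfl
    rw [this, Ideal.map_pow, hk]
  have huc : ∃ k : ℕ, ∀ x ∈ 𝔟 ^ k, u x = 0 := by
    obtain ⟨k, hk⟩ := hu'
    refine ⟨k, fun x hx => ?_⟩
    rw [hu]
    apply hk
    have h1 : ((1 : A') ⊗ₜ[A] x) ∈
        (𝔟 ^ k).map (Algebra.TensorProduct.includeRight : B →ₐ[A] A' ⊗[A] B).toRingHom :=
      Ideal.mem_map_of_mem _ hx
    rw [Ideal.map_pow] at h1
    exact Ideal.pow_right_mono le_sup_right k h1
  obtain ⟨v, hv⟩ := h C J hJ hk2 u huc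
  have hv' : ∀ b, Ideal.Quotient.mk J (v b) = u b := fun b => AlgHom.congr_fun hv b
  let v' : A' ⊗[A] B →ₐ[A'] C :=
    Algebra.TensorProduct.productLeftAlgHom (Algebra.ofId A' C) v
  have hv'' : ∀ (a : A') (b : B), v' (a ⊗ₜ[A] b) = algebraMap A' C a * v b := fun a b => by
    simp [v', Algebra.ofId_apply]
  refine ⟨v', ?_⟩
  apply Algebra.TensorProduct.ext'
  intro a b
  change Ideal.Quotient.mk J (v' (a ⊗ₜ[A] b)) = u' (a ⊗ₜ[A] b)
  rw [hv'', map_mul, hv', hu]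
  have h2 : a ⊗ₜ[A] b = a • ((1 : A') ⊗ₜ[A] b) := by
    rw [smul_tmul', smul_eq_mul, mul_one]
  rw [h2, map_smul, Algebra.smul_def]
  rfl

end BaseChange

section Descent

variable (ρ : A' →ₗ[A] A)

/-- `ρ ⊗ id : A' ⊗ M → M` -/
def RR (M : Type u) [AddCommGroup M] [Module A M] : A' ⊗[A] M →ₗ[A] M :=
  (TensorProduct.lid A M).toLinearMap ∘ₗ ρ.rTensor M

theorem RR_tmul (M : Type u) [AddCommGroup M] [Module A M] (a : A') (m : M) :
    RR ρ M (a ⊗ₜ[A] m) = ρ a • m := by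
  simp [RR]

variable {C D : Type u} [CommRing C] [CommRing D] [Algebra A C] [Algebra A D]

theorem RR_one_tmul (hρ : ρ 1 = 1) (c : C) : RR ρ C ((1 : A') ⊗ₜ[A] c) = c := by
  rw [RR_tmul, hρ, one_smul]

theorem RR_mul (c : C) (z : A' ⊗[A] C) :
    RR ρ C (((1 : A') ⊗ₜ[A] c) * z) = c * RR ρ C z := by
  induction z using TensorProduct.induction_on with
  | zero => simp
  | add x y hx hy => rw [mul_add, map_add, hx, hy, map_add, mul_add]
  | tmul a c' =>
    rw [Algebra.TensorProduct.tmul_mul_tmul, one_mul, RR_tmul, RR_tmul, mul_smul_comm]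

theorem RR_natural (g : C →ₐ[A] D) (z : A' ⊗[A] C) :
    g (RR ρ C z) = RR ρ D (Algebra.TensorProduct.map (AlgHom.id A' A') g z) := by
  induction z using TensorProduct.induction_on with
  | zero => simp
  | add x y hx hy => rw [map_add, map_add, hx, hy, map_add, map_add]
  | tmul a c =>
    rw [Algebra.TensorProduct.map_tmul, RR_tmul, RR_tmul, map_smul, AlgHom.coe_id, id_eq]

theorem descent (hρ : ρ 1 = 1)
    (h' : IsFormallySmoothAdic A' (𝔞.map (algebraMap A A')) (A' ⊗[A] B)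
      (bc𝔟 (A' := A') 𝔞 𝔟)) : IsFormallySmoothAdic A 𝔞 B 𝔟 := by
  apply of_sqLift
  intro C _ _ J hJ2 hk u hu
  let π' : A' ⊗[A] C →ₐ[A'] A' ⊗[A] (C ⧸ J) :=
    Algebra.TensorProduct.map (AlgHom.id A' A') (Ideal.Quotient.mkₐ A J)
  have hπ' : ∀ (a : A') (c : C), π' (a ⊗ₜ[A] c) = a ⊗ₜ[A] (Ideal.Quotient.mk J c) := fun a c => rfl
  have hπ's : Function.Surjective π' :=
    Algebra.TensorProduct.map_surjective _ _ Function.surjective_id
      (Ideal.Quotient.mkₐ_surjective A J)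
  have hker : RingHom.ker π' =
      J.map (Algebra.TensorProduct.includeRight : C →ₐ[A] A' ⊗[A] C) := by
    have h1 := Algebra.TensorProduct.lTensor_ker (A := A') (Ideal.Quotient.mkₐ A J)
      (Ideal.Quotient.mkₐ_surjective A J)
    have hkJ : RingHom.ker (Ideal.Quotient.mkₐ A J) = J := by
      ext x
      exact Ideal.Quotient.eq_zero_iff_mem
    rw [hkJ] at h1
    rw [← h1]
    ext x
    rfl
  have hker2 : RingHom.ker π' ^ 2 = ⊥ := by
    rw [hker, ← Ideal.map_pow, hJ2, Ideal.map_bot]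
  have hjj : ∀ x ∈ RingHom.ker π', ∀ y ∈ RingHom.ker π', x * y = 0 := by
    intro x hx y hy
    have : x * y ∈ RingHom.ker π' ^ 2 := by
      rw [sq]
      exact Ideal.mul_mem_mul hx hy
    rw [hker2] at this
    exact this
  have hk' : ∃ k : ℕ,
      ((𝔞.map (algebraMap A A')) ^ k).map (algebraMap A' (A' ⊗[A] C)) = ⊥ := by
    obtain ⟨k, hk⟩ := hk
    refine ⟨k, ?_⟩
    rw [eq_bot_iff, ← Ideal.map_pow, Ideal.map_le_iff_le_comap, Ideal.map_le_iff_le_comap]
    intro a ha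
    change algebraMap A' (A' ⊗[A] C) (algebraMap A A' a) ∈ (⊥ : Ideal _)
    have h0 : algebraMap A C a = 0 := by
      have := Ideal.mem_map_of_mem (algebraMap A C) ha
      rw [hk] at this
      exact this
    have h1 : algebraMap A' (A' ⊗[A] C) (algebraMap A A' a) =
        (1 : A') ⊗ₜ[A] (algebraMap A C a) := by
      rw [Algebra.TensorProduct.algebraMap_apply, Algebra.algebraMap_self, RingHom.id_apply,
        Algebra.algebraMap_eq_smul_one a, Algebra.algebraMap_eq_smul_one a, smul_tmul]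
    rw [h1, h0, tmul_zero]
    exact Ideal.zero_mem _
  let u' : A' ⊗[A] B →ₐ[A'] A' ⊗[A] (C ⧸ J) :=
    Algebra.TensorProduct.map (AlgHom.id A' A') u
  have hu' : ∀ (a : A') (b : B), u' (a ⊗ₜ[A] b) = a ⊗ₜ[A] u b := fun a b => rfl
  have hu'c : ∃ k : ℕ, ∀ x ∈ (bc𝔟 (A' := A') 𝔞 𝔟) ^ k, u' x = 0 := by
    obtain ⟨k₁, hk₁⟩ := hk'
    obtain ⟨k₂, hk₂⟩ := hu
    refine ⟨k₁ + k₂, fun x hx => ?_⟩
    have h1 := Ideal.sup_pow_add_le_pow_sup_pow (n := k₁) (m := k₂) hx
    have hle : ((𝔞.map (algebraMap A A')).map (algebraMap A' (A' ⊗[A] B))) ^ k₁ ⊔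
        (𝔟.map (Algebra.TensorProduct.includeRight : B →ₐ[A] A' ⊗[A] B).toRingHom) ^ k₂ ≤
        RingHom.ker u'.toRingHom := by
      apply sup_le
      · rw [← Ideal.map_pow, Ideal.map_le_iff_le_comap]
        intro a ha
        change u' (algebraMap A' (A' ⊗[A] B) a) = 0
        rw [u'.commutes, ← π'.commutes]
        have : algebraMap A' (A' ⊗[A] C) a ∈
            ((𝔞.map (algebraMap A A')) ^ k₁).map (algebraMap A' (A' ⊗[A] C)) :=
          Ideal.mem_map_of_mem _ ha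
        rw [hk₁] at this
        rw [(Ideal.mem_bot).1 this, map_zero]
      · rw [← Ideal.map_pow, Ideal.map_le_iff_le_comap]
        intro b hb
        change u' ((1 : A') ⊗ₜ[A] b) = 0
        rw [hu', hk₂ b hb, tmul_zero]
    exact hle h1
  obtain ⟨χ', hχ'⟩ := lift_of_surjective _ _ h' π' hπ's ⟨2, hker2⟩ hk' u' hu'c
  have hχ'' : ∀ x, π' (χ' x) = u' x := fun x => AlgHom.congr_fun hχ' x
  -- the key facts
  have hmk : ∀ z : A' ⊗[A] C, Ideal.Quotient.mk J (RR ρ C z) = RR ρ (C ⧸ J) (π' z) := fun z =>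
    RR_natural ρ (Ideal.Quotient.mkₐ A J) z
  have hlift : ∀ b : B, Ideal.Quotient.mk J (RR ρ C (χ' ((1 : A') ⊗ₜ[A] b))) = u b := by
    intro b
    rw [hmk, hχ'', hu', RR_one_tmul ρ hρ]
  have hjmem : ∀ b : B, χ' ((1 : A') ⊗ₜ[A] b) -
      (1 : A') ⊗ₜ[A] (RR ρ C (χ' ((1 : A') ⊗ₜ[A] b))) ∈ RingHom.ker π' := by
    intro b
    rw [RingHom.mem_ker, map_sub, hχ'', hu', hπ', hlift, sub_self]
  have hjRR : ∀ b : B, RR ρ C (χ' ((1 : A') ⊗ₜ[A] b) -
      (1 : A') ⊗ₜ[A] (RR ρ C (χ' ((1 : A') ⊗ₜ[A] b)))) = 0 := by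
    intro b
    rw [map_sub, RR_one_tmul ρ hρ, sub_self]
  have hmul : ∀ b b' : B, RR ρ C (χ' ((1 : A') ⊗ₜ[A] (b * b'))) =
      RR ρ C (χ' ((1 : A') ⊗ₜ[A] b)) * RR ρ C (χ' ((1 : A') ⊗ₜ[A] b')) := by
    intro b b'
    set x := χ' ((1 : A') ⊗ₜ[A] b) with hx
    set y := χ' ((1 : A') ⊗ₜ[A] b') with hy
    set c := RR ρ C x with hc
    set c' := RR ρ C y with hc'
    have h1 : χ' ((1 : A') ⊗ₜ[A] (b * b')) = x * y := by
      rw [hx, hy, ← map_mul, Algebra.TensorProduct.tmul_mul_tmul, one_mul]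
    have h2 : x * y = (1 : A') ⊗ₜ[A] (c * c') + ((1 : A') ⊗ₜ[A] c) * (y - (1 : A') ⊗ₜ[A] c') +
        ((1 : A') ⊗ₜ[A] c') * (x - (1 : A') ⊗ₜ[A] c) +
        (x - (1 : A') ⊗ₜ[A] c) * (y - (1 : A') ⊗ₜ[A] c') := by
      have : (1 : A') ⊗ₜ[A] (c * c') = ((1 : A') ⊗ₜ[A] c) * ((1 : A') ⊗ₜ[A] c') := by
        rw [Algebra.TensorProduct.tmul_mul_tmul, one_mul]
      rw [this]
      ring
    rw [h1, h2, hjj _ (hjmem b) _ (hjmem b'), add_zero, map_add, map_add, RR_mul, RR_mul,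
      hjRR b', hjRR b, mul_zero, mul_zero, add_zero, add_zero, RR_one_tmul ρ hρ]
  let v : B →ₐ[A] C :=
    { toFun := fun b => RR ρ C (χ' ((1 : A') ⊗ₜ[A] b))
      map_one' := by
        change RR ρ C (χ' ((1 : A') ⊗ₜ[A] (1 : B))) = 1
        rw [← Algebra.TensorProduct.one_def, map_one, Algebra.TensorProduct.one_def,
          RR_one_tmul ρ hρ]
      map_mul' := hmul
      map_zero' := by
        change RR ρ C (χ' ((1 : A') ⊗ₜ[A] (0 : B))) = 0
        rw [tmul_zero, map_zero, map_zero]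
      map_add' := fun b b' => by
        change RR ρ C (χ' ((1 : A') ⊗ₜ[A] (b + b'))) = _
        rw [tmul_add, map_add, map_add]
      commutes' := fun a => by
        change RR ρ C (χ' ((1 : A') ⊗ₜ[A] (algebraMap A B a))) = algebraMap A C a
        have h1 : (1 : A') ⊗ₜ[A] (algebraMap A B a) =
            algebraMap A' (A' ⊗[A] B) (algebraMap A A' a) := by
          rw [Algebra.TensorProduct.algebraMap_apply, Algebra.algebraMap_self, RingHom.id_apply,
            Algebra.algebraMap_eq_smul_one a, Algebra.algebraMap_eq_smul_one a, smul_tmul]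
        rw [h1, χ'.commutes, Algebra.TensorProduct.algebraMap_apply, Algebra.algebraMap_self,
          RingHom.id_apply, RR_tmul, Algebra.algebraMap_eq_smul_one a, map_smul, hρ, smul_assoc,
          one_smul, ← Algebra.algebraMap_eq_smul_one] }
  refine ⟨v, ?_⟩
  ext b
  exact hlift b

end Descent

theorem main_bc [Module.FaithfullyFlat A A'] [Module.Projective A A'] :
    IsFormallySmoothAdic A' (𝔞.map (algebraMap A A')) (A' ⊗[A] B)
        ((𝔞.map (algebraMap A A')).map (algebraMap A' (A' ⊗[A] B)) ⊔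
          𝔟.map (Algebra.TensorProduct.includeRight : B →ₐ[A] A' ⊗[A] B).toRingHom) ↔
      IsFormallySmoothAdic A 𝔞 B 𝔟 := by
  obtain ⟨ρ, hρ⟩ := exists_retraction (A := A) (A' := A')
  exact ⟨descent 𝔞 𝔟 ρ hρ, baseChange 𝔞 𝔟⟩

end Groth.Agent.Lib.Helper26.FProj
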