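import Mathlib
import Groth.Agent.Lib.Helper6.QReg

set_option autoImplicit false

namespace Groth.Agent.Helper26.FSmNbhd

open MvPolynomial

universe v
variable {A : Type v} [CommRing A] {d : ℕ} (x : Fin d → A) (N : ℕ)

/-- the ideal `J/J^N` of `A/J^N`. -/
noncomputable abbrev mN : Ideal (A ⧸ Ideal.span (Set.range x) ^ N) :=
  Ideal.map (Ideal.Quotient.mk (Ideal.span (Set.range x) ^ N)) (Ideal.span (Set.range x))

/-- projection `A/J^N → A/J`. -/
noncomputable abbrev proj (hN : 1 ≤ N) :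
    (A ⧸ Ideal.span (Set.range x) ^ N) →+* (A ⧸ Ideal.span (Set.range x)) :=
  Ideal.Quotient.factor (Ideal.pow_le_self (Nat.one_le_iff_ne_zero.1 hN))

theorem ker_proj (hN : 1 ≤ N) : RingHom.ker (proj x N hN) = mN x N := by
  apply le_antisymm
  · intro z hz
    obtain ⟨a, rfl⟩ := Ideal.Quotient.mk_surjective z
    rw [RingHom.mem_ker, Ideal.Quotient.factor_mk, Ideal.Quotient.eq_zero_iff_mem] at hz
    exact Ideal.mem_map_of_mem _ hz
  · rw [Ideal.map_le_iff_le_comap]
    intro a ha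
    rw [Ideal.mem_comap, RingHom.mem_ker, Ideal.Quotient.factor_mk, Ideal.Quotient.eq_zero_iff_mem]
    exact ha

theorem mN_pow (k : ℕ) : mN x N ^ k =
    Ideal.map (Ideal.Quotient.mk (Ideal.span (Set.range x) ^ N)) (Ideal.span (Set.range x) ^ k) := by
  rw [Ideal.map_pow]

theorem mN_pow_N : mN x N ^ N = ⊥ := by
  rw [mN_pow, Ideal.map_quotient_self]

theorem mN_pow_le {j k : ℕ} (h : j ≤ k) : mN x N ^ k ≤ mN x N ^ j := Ideal.pow_le_pow_right h

theorem mk_mem_mN_pow_iff (a : A) (k : ℕ) (hk : k ≤ N) :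
    Ideal.Quotient.mk (Ideal.span (Set.range x) ^ N) a ∈ mN x N ^ k ↔
      a ∈ Ideal.span (Set.range x) ^ k := by
  rw [mN_pow, Ideal.mem_quotient_iff_mem_sup, sup_eq_left.2 (Ideal.pow_le_pow_right hk)]

variable (s : (A ⧸ Ideal.span (Set.range x)) →+* (A ⧸ Ideal.span (Set.range x) ^ N))

/-- The comparison map `B[T] → A/J^N`. -/
noncomputable abbrev Psi : MvPolynomial (Fin d) (A ⧸ Ideal.span (Set.range x)) →+*
    (A ⧸ Ideal.span (Set.range x) ^ N) :=
  eval₂Hom s (fun i => Ideal.Quotient.mk _ (x i))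

theorem mk_prod_mem (e : Fin d →₀ ℕ) :
    (e.prod fun i k => (Ideal.Quotient.mk (Ideal.span (Set.range x) ^ N) (x i)) ^ k) ∈
      mN x N ^ e.degree := by
  have hdeg : e.degree = ∑ i ∈ e.support, e i := rfl
  rw [hdeg, Finsupp.prod,
    ← Finset.prod_pow_eq_pow_sum e.support (fun i => e i) (mN x N)]
  refine Ideal.prod_mem_prod fun i _ => Ideal.pow_mem_pow ?_ _
  exact Ideal.mem_map_of_mem _ (Ideal.subset_span ⟨i, rfl⟩)

theorem Psi_mem_pow (F : MvPolynomial (Fin d) (A ⧸ Ideal.span (Set.range x))) (k : ℕ)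
    (hF : ∀ e ∈ F.support, k ≤ e.degree) : Psi x N s F ∈ mN x N ^ k := by
  change eval₂ s _ F ∈ _
  rw [eval₂_eq]
  refine Ideal.sum_mem _ fun e he => ?_
  refine Ideal.mul_mem_left _ _ ?_
  have := mk_prod_mem x N e
  rw [Finsupp.prod] at this
  exact mN_pow_le x N (hF e he) this

variable (hN : 1 ≤ N) (hs : ∀ b, proj x N hN (s b) = b)

include hs in
theorem proj_Psi (F : MvPolynomial (Fin d) (A ⧸ Ideal.span (Set.range x))) :
    proj x N hN (Psi x N s F) = constantCoeff F := by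
  have : (proj x N hN).comp (Psi x N s) = constantCoeff := by
    apply MvPolynomial.ringHom_ext
    · intro b
      simp [hs]
    · intro i
      simp only [RingHom.comp_apply, coe_eval₂Hom, eval₂_X, Ideal.Quotient.factor_mk,
        constantCoeff_X, Ideal.Quotient.eq_zero_iff_mem]
      exact Ideal.subset_span ⟨i, rfl⟩
  exact RingHom.congr_fun this F

include hs in
theorem mk_sub_s_mem (a : A) :
    Ideal.Quotient.mk (Ideal.span (Set.range x) ^ N) a - s (Ideal.Quotient.mk _ a) ∈ mN x N := by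
  rw [← ker_proj x N hN, RingHom.mem_ker, map_sub, hs, Ideal.Quotient.factor_mk, sub_self]

include hs in
/-- Lemma C. -/
theorem Psi_map_sub_mem (P : MvPolynomial (Fin d) A) (k : ℕ) (hP : P.IsHomogeneous k) :
    Ideal.Quotient.mk (Ideal.span (Set.range x) ^ N) (eval x P) -
      Psi x N s (map (Ideal.Quotient.mk (Ideal.span (Set.range x))) P) ∈ mN x N ^ (k + 1) := by
  change _ - eval₂ s _ (map _ P) ∈ _
  rw [eval₂_map, eval_eq, eval₂_eq, map_sum, ← Finset.sum_sub_distrib]
  refine Ideal.sum_mem _ fun e he => ?_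
  rw [map_mul, map_prod, RingHom.comp_apply]
  simp_rw [map_pow]
  rw [← sub_mul, pow_succ']
  refine Ideal.mul_mem_mul (mk_sub_s_mem x N s hN hs _) ?_
  have h1 := mk_prod_mem x N e
  rw [Finsupp.prod] at h1
  have h2 : e.degree = k := by
    rw [Finsupp.degree_eq_weight_one]
    exact hP (mem_support_iff.1 he)
  rw [h2] at h1
  exact h1

end Groth.Agent.Helper26.FSmNbhd
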