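import Mathlib
import Groth.Agent.Lib.Helper26.FSmNbhd1

set_option autoImplicit false

namespace Groth.Agent.Helper26.FSmNbhd

open MvPolynomial

universe v
variable {A : Type v} [CommRing A] {d : ℕ} (x : Fin d → A) (N : ℕ)
variable (s : (A ⧸ Ideal.span (Set.range x)) →+* (A ⧸ Ideal.span (Set.range x) ^ N))
variable (hN : 1 ≤ N) (hs : ∀ b, proj x N hN (s b) = b)
variable (hq : CAlgX.IsQuasiRegular x)

/-- A homogeneous lift of a homogeneous polynomial. -/
theorem exists_homogeneous_lift (G : MvPolynomial (Fin d) (A ⧸ Ideal.span (Set.range x))) (k : ℕ)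
    (hG : G.IsHomogeneous k) :
    ∃ P : MvPolynomial (Fin d) A, P.IsHomogeneous k ∧
      map (Ideal.Quotient.mk (Ideal.span (Set.range x))) P = G := by
  classical
  let lift : (A ⧸ Ideal.span (Set.range x)) → A := Function.surjInv Ideal.Quotient.mk_surjective
  have hlift : ∀ b, Ideal.Quotient.mk (Ideal.span (Set.range x)) (lift b) = b :=
    Function.surjInv_eq Ideal.Quotient.mk_surjective
  refine ⟨∑ e ∈ G.support, monomial e (lift (coeff e G)), ?_, ?_⟩
  · refine IsHomogeneous.sum _ _ _ fun e he => ?_
    refine isHomogeneous_monomial _ ?_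
    rw [Finsupp.degree_eq_weight_one]
    exact hG (mem_support_iff.1 he)
  · rw [map_sum]
    simp_rw [map_monomial, hlift]
    exact G.support_sum_monomial_coeff

include hs hq in
theorem eq_zero_of_Psi_mem (G : MvPolynomial (Fin d) (A ⧸ Ideal.span (Set.range x))) (k : ℕ)
    (hG : G.IsHomogeneous k) (hk : k + 1 ≤ N) (h : Psi x N s G ∈ mN x N ^ (k + 1)) : G = 0 := by
  obtain ⟨P, hP, rfl⟩ := exists_homogeneous_lift x G k hG
  have h1 := Psi_map_sub_mem x N s hN hs P k hP
  have h2 : Ideal.Quotient.mk (Ideal.span (Set.range x) ^ N) (eval x P) ∈ mN x N ^ (k + 1) := by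
    have := Ideal.add_mem _ h1 h
    rwa [sub_add_cancel] at this
  rw [mk_mem_mN_pow_iff x N _ _ hk] at h2
  have h3 := hq k P hP h2
  ext e
  rw [coeff_map, coeff_zero, Ideal.Quotient.eq_zero_iff_mem]
  exact h3 e

include hs hq in
theorem homogeneousComponent_eq_zero_of_Psi_eq_zero
    (F : MvPolynomial (Fin d) (A ⧸ Ideal.span (Set.range x))) (hF : Psi x N s F = 0) :
    ∀ k, k < N → homogeneousComponent k F = 0 := by
  intro k
  induction k using Nat.strong_induction_on with
  | _ k ih =>
    intro hk
    apply eq_zero_of_Psi_mem x N s hN hs hq _ k (homogeneousComponent_isHomogeneous k F) hk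
    have hsum := sum_homogeneousComponent F
    have h1 : Psi x N s (∑ i ∈ Finset.range (F.totalDegree + 1), homogeneousComponent i F) = 0 := by
      rw [hsum, hF]
    rw [map_sum] at h1
    by_cases hkr : k ∈ Finset.range (F.totalDegree + 1)
    · rw [← Finset.add_sum_erase _ _ hkr] at h1
      have h2 : Psi x N s (homogeneousComponent k F) =
          -∑ i ∈ (Finset.range (F.totalDegree + 1)).erase k,
            Psi x N s (homogeneousComponent i F) := eq_neg_of_add_eq_zero_left h1
      rw [h2]
      refine Ideal.neg_mem_iff _ |>.2 (Ideal.sum_mem _ fun i hi => ?_)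
      rcases Nat.lt_or_ge i k with hik | hik
      · rw [ih i hik (hik.trans hk), map_zero]
        exact Ideal.zero_mem _
      · have hik' : k + 1 ≤ i := by
          have := Finset.ne_of_mem_erase hi
          omega
        refine mN_pow_le x N hik' (Psi_mem_pow x N s _ i fun e he => ?_)
        have := (homogeneousComponent_isHomogeneous i F) (mem_support_iff.1 he)
        rw [Finsupp.degree_eq_weight_one]
        exact this.ge
    · have : homogeneousComponent k F = 0 := by
        apply homogeneousComponent_eq_zero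
        rw [Finset.mem_range] at hkr
        omega
      rw [this, map_zero]
      exact Ideal.zero_mem _

include hs hq in
theorem mem_pow_of_Psi_eq_zero
    (F : MvPolynomial (Fin d) (A ⧸ Ideal.span (Set.range x))) (hF : Psi x N s F = 0) :
    F ∈ Ideal.span (Set.range (X : Fin d → MvPolynomial (Fin d) (A ⧸ Ideal.span (Set.range x)))) ^ N := by
  rw [mem_pow_idealOfVars_iff']
  intro e he
  have h1 := homogeneousComponent_eq_zero_of_Psi_eq_zero x N s hN hs hq F hF e.degree he
  have h2 := congrArg (coeff e) h1
  rw [coeff_homogeneousComponent, coeff_zero, if_pos rfl] at h2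
  exact h2

theorem Psi_eq_zero_of_mem_pow
    (F : MvPolynomial (Fin d) (A ⧸ Ideal.span (Set.range x)))
    (hF : F ∈ Ideal.span (Set.range (X : Fin d → MvPolynomial (Fin d) (A ⧸ Ideal.span (Set.range x)))) ^ N) :
    Psi x N s F = 0 := by
  rw [mem_pow_idealOfVars_iff] at hF
  have := Psi_mem_pow x N s F N hF
  rw [mN_pow_N] at this
  exact this

include hs in
theorem mk_mem_range_Psi : ∀ k, k ≤ N → ∀ a ∈ Ideal.span (Set.range x) ^ (N - k),
    Ideal.Quotient.mk (Ideal.span (Set.range x) ^ N) a ∈ (Psi x N s).range := by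
  intro k
  induction k with
  | zero =>
    intro _ a ha
    rw [Nat.sub_zero] at ha
    rw [Ideal.Quotient.eq_zero_iff_mem.2 ha]
    exact Subring.zero_mem _
  | succ k ih =>
    intro hk a ha
    obtain ⟨P, hP, hPa⟩ := (Ideal.mem_span_pow_iff_exists_isHomogeneous _ _).1 ha
    have h1 := Psi_map_sub_mem x N s hN hs P (N - (k + 1)) hP
    have h2 : N - (k + 1) + 1 = N - k := by omega
    rw [h2, mN_pow] at h1
    obtain ⟨a', ha', ha'e⟩ := (Ideal.mem_map_iff_of_surjective _ Ideal.Quotient.mk_surjective).1 h1
    have h3 := ih (by omega) a' ha'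
    have h4 : Ideal.Quotient.mk (Ideal.span (Set.range x) ^ N) a =
        Ideal.Quotient.mk (Ideal.span (Set.range x) ^ N) a' +
          Psi x N s (map (Ideal.Quotient.mk (Ideal.span (Set.range x))) P) := by
      rw [ha'e, ← hPa]
      simp
    rw [h4]
    exact Subring.add_mem _ h3 ⟨_, rfl⟩

include hs in
theorem Psi_surjective : Function.Surjective (Psi x N s) := by
  intro z
  obtain ⟨a, rfl⟩ := Ideal.Quotient.mk_surjective z
  have := mk_mem_range_Psi x N s hN hs N le_rfl a (by simp)
  exact this

end Groth.Agent.Helper26.FSmNbhd
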