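import Mathlib
import Groth.Agent.Lib.Helper26.FSmNbhd2

set_option autoImplicit false

namespace Groth.Agent.Helper26.FSmNbhd

open MvPolynomial

universe u v

theorem main
    (R : Type u) (A : Type v) [CommRing R] [CommRing A] [Algebra R A] (d : ℕ) (x : Fin d → A)
    (hreg : RingTheory.Sequence.IsWeaklyRegular A (List.ofFn x))
    [Algebra.FormallySmooth R (A ⧸ Ideal.span (Set.range x))] (N : ℕ) (hN : 1 ≤ N) :
    ∃ e : (A ⧸ Ideal.span (Set.range x) ^ N) ≃ₐ[R]
        (MvPolynomial (Fin d) (A ⧸ Ideal.span (Set.range x)) ⧸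
          Ideal.span (Set.range (MvPolynomial.X : Fin d → MvPolynomial (Fin d) (A ⧸ Ideal.span (Set.range x)))) ^ N),
      (∀ i : Fin d, e (Ideal.Quotient.mk _ (x i)) = Ideal.Quotient.mk _ (MvPolynomial.X i)) ∧
      ∀ a : A, e (Ideal.Quotient.mk _ a) - Ideal.Quotient.mk _ (MvPolynomial.C (Ideal.Quotient.mk _ a)) ∈
        (Ideal.span (Set.range (MvPolynomial.X : Fin d → MvPolynomial (Fin d) (A ⧸ Ideal.span (Set.range x))))).map
          (Ideal.Quotient.mk _) := by
  have hq := Groth.Agent.Helper6.QReg.isQuasiRegular_of_isWeaklyRegular x hreg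
  let π : (A ⧸ Ideal.span (Set.range x) ^ N) →ₐ[R] (A ⧸ Ideal.span (Set.range x)) :=
    Ideal.Quotient.factorₐ R (Ideal.pow_le_self (Nat.one_le_iff_ne_zero.1 hN))
  have hπ : ∀ z, π z = proj x N hN z := fun z => rfl
  have hsurj : Function.Surjective π :=
    Ideal.Quotient.factor_surjective (Ideal.pow_le_self (Nat.one_le_iff_ne_zero.1 hN))
  have hnil : IsNilpotent (RingHom.ker (π : (A ⧸ Ideal.span (Set.range x) ^ N) →+*
      (A ⧸ Ideal.span (Set.range x)))) := by
    refine ⟨N, ?_⟩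
    have : RingHom.ker (π : (A ⧸ Ideal.span (Set.range x) ^ N) →+*
        (A ⧸ Ideal.span (Set.range x))) = mN x N := by
      rw [← ker_proj x N hN]
      rfl
    rw [this, mN_pow_N]
    rfl
  let s := Algebra.FormallySmooth.liftOfSurjective
    (AlgHom.id R (A ⧸ Ideal.span (Set.range x))) π hsurj hnil
  have hs : ∀ b, proj x N hN ((s : (A ⧸ Ideal.span (Set.range x)) →+* _) b) = b := fun b =>
    Algebra.FormallySmooth.liftOfSurjective_apply
      (AlgHom.id R (A ⧸ Ideal.span (Set.range x))) π hsurj hnil b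
  let Ψ : MvPolynomial (Fin d) (A ⧸ Ideal.span (Set.range x)) →ₐ[R]
      (A ⧸ Ideal.span (Set.range x) ^ N) :=
    aevalTower s (fun i => Ideal.Quotient.mk _ (x i))
  have hΨ : ∀ F, Ψ F = Psi x N (s : (A ⧸ Ideal.span (Set.range x)) →+* _) F := fun F => rfl
  let Ψbar := Ideal.Quotient.liftₐ
    (Ideal.span (Set.range (X : Fin d → MvPolynomial (Fin d) (A ⧸ Ideal.span (Set.range x)))) ^ N)
    Ψ (fun F hF => by rw [hΨ]; exact Psi_eq_zero_of_mem_pow x N _ F hF)
  have hΨbar : ∀ F, Ψbar (Ideal.Quotient.mk _ F) = Ψ F := fun F => rfl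
  have hbij : Function.Bijective Ψbar := by
    constructor
    · rw [injective_iff_map_eq_zero]
      intro z hz
      obtain ⟨F, rfl⟩ := Ideal.Quotient.mk_surjective z
      rw [hΨbar, hΨ] at hz
      rw [Ideal.Quotient.eq_zero_iff_mem]
      exact mem_pow_of_Psi_eq_zero x N _ hN hs hq F hz
    · intro z
      obtain ⟨F, hF⟩ := Psi_surjective x N _ hN hs z
      exact ⟨Ideal.Quotient.mk _ F, by rw [hΨbar, hΨ, hF]⟩
  let e₀ := AlgEquiv.ofBijective Ψbar hbij
  refine ⟨e₀.symm, ?_, ?_⟩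
  · intro i
    rw [AlgEquiv.symm_apply_eq]
    have : e₀ ((Ideal.Quotient.mk _) (X i)) = Ψbar ((Ideal.Quotient.mk _) (X i)) := rfl
    rw [this, hΨbar]
    simp [Ψ]
  · intro a
    obtain ⟨F, hF⟩ := Ideal.Quotient.mk_surjective (e₀.symm (Ideal.Quotient.mk _ a))
    have h1 : Ψ F = Ideal.Quotient.mk _ a := by
      rw [← hΨbar, hF]
      exact e₀.apply_symm_apply _
    rw [← hF, ← map_sub]
    apply Ideal.mem_map_of_mem
    have h2 : constantCoeff F = Ideal.Quotient.mk _ a := by
      rw [← proj_Psi x N _ hN hs F, ← hΨ, h1]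
      rfl
    have h3 := (mem_pow_idealOfVars_iff' (σ := Fin d) 1
      (F - C (Ideal.Quotient.mk (Ideal.span (Set.range x)) a))).2 (by
        intro e he
        have he0 : e = 0 := by
          have : e.degree = 0 := by omega
          exact (Finsupp.degree_eq_zero_iff e).1 this
        rw [he0, coeff_sub, coeff_zero_C, ← constantCoeff_eq, h2, sub_self])
    rw [pow_one] at h3
    exact h3

end Groth.Agent.Helper26.FSmNbhd
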