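import Mathlib
import Groth.Agent.Lib.Helper26.EtLift1
import Groth.Agent.Lib.Helper26.ZMTHens4

/-!
# Lifting finite étale algebras along a henselian pair (helper26)
-/

set_option autoImplicit false
set_option linter.unusedSectionVars false
set_option linter.style.haveILetI false

open TensorProduct

namespace Groth.Agent.Helper26.FinEtLift

universe u

theorem exists_finite_etale_lift (A : Type u) [CommRing A] (I : Ideal A) [HenselianRing A I]
    (C : Type u) [CommRing C] [Algebra (A ⧸ I) C] [Module.Finite (A ⧸ I) C]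
    [Algebra.Etale (A ⧸ I) C] :
    ∃ (B : Type u) (_ : CommRing B) (_ : Algebra A B), Module.Finite A B ∧ Algebra.Etale A B ∧
      Nonempty (TensorProduct A (A ⧸ I) B ≃ₐ[A ⧸ I] C) := by
  letI algAC : Algebra A C := ((algebraMap (A ⧸ I) C).comp (algebraMap A (A ⧸ I))).toAlgebra
  haveI : IsScalarTower A (A ⧸ I) C := IsScalarTower.of_algebraMap_eq (fun _ => rfl)
  obtain ⟨R, _, _, hRet, φ, hφs, hφk⟩ := EtLift.exists_etale_lift A I C
  -- `R ⧸ I R` is finite over `A`
  have hCfin : Module.Finite A C := Module.Finite.trans (A ⧸ I) C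
  have hfin : Module.Finite A (R ⧸ I.map (algebraMap A R)) := by
    let e : (R ⧸ RingHom.ker (φ : R →+* C)) ≃ₐ[A] C := Ideal.quotientKerAlgEquivOfSurjective hφs
    have h1 : RingHom.ker (φ : R →+* C) = I.map (algebraMap A R) := by
      rw [← hφk]
      ext x
      simp [RingHom.mem_ker]
    have h2 : Module.Finite A (R ⧸ RingHom.ker (φ : R →+* C)) :=
      Module.Finite.equiv e.symm.toLinearEquiv
    rw [h1] at h2
    exact h2
  obtain ⟨g, hg1, hgfin⟩ := ZMTHens.exists_away_finite I R hfin
  -- `φ g = 1`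
  have hIC : ∀ x ∈ I.map (algebraMap A R), φ x = 0 := by
    intro x hx
    rw [← hφk] at hx
    exact hx
  have hφg : φ g = 1 := by
    have := hIC _ hg1
    rw [map_sub, map_one, sub_eq_zero] at this
    exact this
  let ψ : Localization.Away g →ₐ[A] C :=
    IsLocalization.liftAlgHom (M := Submonoid.powers g) (f := φ) (by
      rintro ⟨_, n, rfl⟩
      change IsUnit (φ (g ^ n))
      rw [map_pow, hφg, one_pow]
      exact isUnit_one)
  have hψ : ∀ r : R, ψ (algebraMap R (Localization.Away g) r) = φ r := fun r =>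
    IsLocalization.lift_eq _ r
  have hψker : ∀ b : Localization.Away g, ψ b = 0 →
      b ∈ I.map (algebraMap A (Localization.Away g)) := by
    intro b hb
    obtain ⟨n, r, hr⟩ := IsLocalization.Away.surj g b
    have h1 : φ r = 0 := by
      rw [← hψ, ← hr, map_mul, hb, zero_mul]
    have h2 : r ∈ I.map (algebraMap A R) := by
      rw [← hφk]
      exact h1
    have h3 : algebraMap R (Localization.Away g) r ∈ I.map (algebraMap A (Localization.Away g)) := by
      have := Ideal.mem_map_of_mem (algebraMap R (Localization.Away g)) h2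
      rwa [Ideal.map_map, ← IsScalarTower.algebraMap_eq] at this
    have hu : IsUnit (algebraMap R (Localization.Away g) g ^ n) :=
      (IsLocalization.Away.algebraMap_isUnit g).pow n
    obtain ⟨u, hu'⟩ := hu
    have h4 : b = algebraMap R (Localization.Away g) r * (u⁻¹ : (Localization.Away g)ˣ) := by
      rw [← hr, ← hu', mul_assoc, Units.mul_inv, mul_one]
    rw [h4]
    exact Ideal.mul_mem_right _ _ h3
  haveI : Algebra.Etale A (Localization.Away g) := by
    haveI : Algebra.Etale R (Localization.Away g) := Algebra.Etale.of_isLocalizationAway g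
    exact Algebra.Etale.comp A R _
  refine ⟨Localization.Away g, inferInstance, inferInstance, hgfin, inferInstance, ?_⟩
  -- the comparison map
  let θ : (A ⧸ I) ⊗[A] (Localization.Away g) →ₐ[A ⧸ I] C :=
    Algebra.TensorProduct.lift (Algebra.ofId (A ⧸ I) C) ψ (fun _ _ => Commute.all _ _)
  have hθ : ∀ b : Localization.Away g, θ ((1 : A ⧸ I) ⊗ₜ[A] b) = ψ b := by
    intro b
    simp [θ]
  have hrep : ∀ z : (A ⧸ I) ⊗[A] (Localization.Away g), ∃ b, z = (1 : A ⧸ I) ⊗ₜ[A] b := by
    intro z
    induction z using TensorProduct.induction_on with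
    | zero => exact ⟨0, by simp⟩
    | tmul a b =>
      obtain ⟨a, rfl⟩ := Ideal.Quotient.mk_surjective a
      refine ⟨a • b, ?_⟩
      rw [TensorProduct.tmul_smul, TensorProduct.smul_tmul', Algebra.smul_def, mul_one]
      rfl
    | add x y hx hy =>
      obtain ⟨b, rfl⟩ := hx
      obtain ⟨b', rfl⟩ := hy
      exact ⟨b + b', by rw [TensorProduct.tmul_add]⟩
  have hzero : ∀ b ∈ I.map (algebraMap A (Localization.Away g)),
      (1 : A ⧸ I) ⊗ₜ[A] b = (0 : (A ⧸ I) ⊗[A] (Localization.Away g)) := by
    intro b hb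
    have hb' : b ∈ I • (⊤ : Submodule A (Localization.Away g)) := by
      rw [Ideal.smul_top_eq_map]
      exact hb
    refine Submodule.smul_induction_on hb' (fun a ha n _ => ?_) (fun x y hx hy => ?_)
    · rw [TensorProduct.tmul_smul, TensorProduct.smul_tmul', Algebra.smul_def, mul_one]
      have : algebraMap A (A ⧸ I) a = 0 := Ideal.Quotient.eq_zero_iff_mem.2 ha
      rw [this, TensorProduct.zero_tmul]
    · rw [TensorProduct.tmul_add, hx, hy, add_zero]
  refine ⟨AlgEquiv.ofBijective θ ⟨?_, ?_⟩⟩
  · rw [injective_iff_map_eq_zero]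
    intro z hz
    obtain ⟨b, rfl⟩ := hrep z
    rw [hθ] at hz
    exact hzero b (hψker b hz)
  · intro c
    obtain ⟨r, rfl⟩ := hφs c
    exact ⟨(1 : A ⧸ I) ⊗ₜ[A] algebraMap R (Localization.Away g) r, by rw [hθ, hψ]⟩

end Groth.Agent.Helper26.FinEtLift
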