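import Mathlib
import Groth.Agent.Lib.Helper14.FiberMod

set_option autoImplicit false

namespace Groth.Agent.Helper26.FinFlatIso

open TensorProduct

universe u
variable {R A B : Type u} [CommRing R] [CommRing A] [CommRing B] [Algebra R A] [Algebra R B]

/-- For a maximal ideal, every element of `κ(m) ⊗ B` is of the form `1 ⊗ b`. -/
theorem exists_one_tmul (m : Ideal R) [m.IsMaximal] (z : m.ResidueField ⊗[R] B) :
    ∃ b : B, z = (1 : m.ResidueField) ⊗ₜ[R] b := by
  induction z using TensorProduct.induction_on with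
  | zero => exact ⟨0, by simp⟩
  | tmul k b =>
    obtain ⟨r, rfl⟩ := Ideal.algebraMap_residueField_surjective m k
    refine ⟨r • b, ?_⟩
    rw [Algebra.algebraMap_eq_smul_one, TensorProduct.smul_tmul]
  | add x y hx hy =>
    obtain ⟨b, rfl⟩ := hx
    obtain ⟨b', rfl⟩ := hy
    exact ⟨b + b', by rw [TensorProduct.tmul_add]⟩

theorem surj [Module.Finite R A] (f : B →ₐ[R] A)
    (hmax : ∀ (m : Ideal R) [m.IsMaximal],
      Function.Surjective (LinearMap.lTensor m.ResidueField f.toLinearMap)) :
    Function.Surjective f := by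
  set N : Submodule R A := LinearMap.range f.toLinearMap with hN
  have key : ∀ (m : Ideal R) [m.IsMaximal],
      (⊤ : Submodule R (A ⧸ N)) ≤ m • (⊤ : Submodule R (A ⧸ N)) := by
    intro m _ c _
    obtain ⟨a, rfl⟩ := Submodule.Quotient.mk_surjective N c
    obtain ⟨z, hz⟩ := hmax m ((1 : m.ResidueField) ⊗ₜ[R] a)
    obtain ⟨b, rfl⟩ := exists_one_tmul m z
    rw [LinearMap.lTensor_tmul] at hz
    have h0 : (1 : m.ResidueField) ⊗ₜ[R] (a - f b) = 0 := by
      rw [TensorProduct.tmul_sub, ← hz]
      simp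
    obtain ⟨r, hr, hmem⟩ := Groth.Agent.Helper14.exists_smul_mem_of_one_tmul_eq_zero m _ h0
    have h1 : r • (Submodule.Quotient.mk a : A ⧸ N) ∈ m • (⊤ : Submodule R (A ⧸ N)) := by
      have h2 : N.mkQ (r • (a - f b)) ∈ Submodule.map N.mkQ (m • (⊤ : Submodule R A)) :=
        Submodule.mem_map_of_mem hmem
      rw [Submodule.map_smul''] at h2
      have h3 : N.mkQ (r • (a - f b)) = r • (Submodule.Quotient.mk a : A ⧸ N) := by
        rw [map_smul, map_sub]
        have : N.mkQ (f b) = 0 := by
          rw [Submodule.mkQ_apply, Submodule.Quotient.mk_eq_zero]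
          exact ⟨b, rfl⟩
        rw [this, sub_zero]
        rfl
      rw [h3] at h2
      exact Submodule.smul_mono le_rfl le_top h2
    obtain ⟨s, i, hi, hsi⟩ := Ideal.IsMaximal.exists_inv (I := m) inferInstance hr
    have : (Submodule.Quotient.mk a : A ⧸ N) =
        s • (r • (Submodule.Quotient.mk a : A ⧸ N)) + i • (Submodule.Quotient.mk a : A ⧸ N) := by
      rw [smul_smul, ← add_smul, hsi, one_smul]
    rw [this]
    exact Submodule.add_mem _ (Submodule.smul_mem _ _ h1)
      (Submodule.smul_mem_smul hi Submodule.mem_top)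
  have hann : Module.annihilator R (A ⧸ N) = ⊤ := by
    by_contra hne
    obtain ⟨m, hm, hle⟩ := Ideal.exists_le_maximal _ hne
    obtain ⟨r, hr1, hr2⟩ := Submodule.exists_sub_one_mem_and_smul_eq_zero_of_fg_of_le_smul m
      (⊤ : Submodule R (A ⧸ N)) (Module.Finite.fg_top) (key m)
    have hr : r ∈ m := hle (Module.mem_annihilator.2 fun c => hr2 c Submodule.mem_top)
    have : (1 : R) ∈ m := by
      have := m.sub_mem hr hr1
      simpa using this
    exact hm.ne_top ((Ideal.eq_top_iff_one _).2 this)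
  intro a
  have h1 : (1 : R) ∈ Module.annihilator R (A ⧸ N) := by rw [hann]; trivial
  have h2 := Module.mem_annihilator.1 h1 (Submodule.Quotient.mk a : A ⧸ N)
  rw [one_smul, Submodule.Quotient.mk_eq_zero] at h2
  obtain ⟨b, hb⟩ := h2
  exact ⟨b, hb⟩


/-- fibre argument: elements of the kernel die in `κ(p) ⊗ ker f`. -/
theorem one_tmul_ker_eq_zero [Module.Finite R A] [Module.Flat R A] (f : B →ₐ[R] A)
    (hf : Function.Surjective f) (p : Ideal R) [p.IsPrime]
    (hrank : Module.rank p.ResidueField (p.ResidueField ⊗[R] B) =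
        Module.rank p.ResidueField (p.ResidueField ⊗[R] A))
    (k : LinearMap.ker f.toLinearMap) :
    (1 : p.ResidueField) ⊗ₜ[R] k = 0 := by
  set κ := p.ResidueField
  have hinj1 : Function.Injective (LinearMap.lTensor κ (LinearMap.ker f.toLinearMap).subtype) :=
    LinearMap.lTensor_injective_of_exact_of_flat f.toLinearMap hf (LinearMap.ker f.toLinearMap).subtype
      (LinearMap.ker f.toLinearMap).injective_subtype (LinearMap.exact_subtype_ker_map _) κ
  have hfinA : Module.Finite κ (κ ⊗[R] A) := inferInstance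
  have hfinB : Module.Finite κ (κ ⊗[R] B) := by
    rw [← Module.rank_lt_aleph0_iff, hrank, Module.rank_lt_aleph0_iff]
    exact hfinA
  have hfr : Module.finrank κ (κ ⊗[R] B) = Module.finrank κ (κ ⊗[R] A) := by
    unfold Module.finrank
    rw [hrank]
  have hsurj2 : Function.Surjective (f.toLinearMap.baseChange κ) := by
    rw [LinearMap.baseChange_eq_ltensor]
    exact LinearMap.lTensor_surjective _ hf
  have hinj2 : Function.Injective (f.toLinearMap.baseChange κ) :=
    (LinearMap.injective_iff_surjective_of_finrank_eq_finrank hfr).2 hsurj2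
  apply hinj1
  apply hinj2
  rw [map_zero, map_zero, LinearMap.lTensor_tmul, LinearMap.baseChange_tmul]
  have : f.toLinearMap ((LinearMap.ker f.toLinearMap).subtype k) = 0 := k.2
  rw [this, TensorProduct.tmul_zero]


theorem ker_map_fg [Module.Finite R A] [Module.Flat R A] [Algebra.FiniteType R B] (f : B →ₐ[R] A)
    (hf : Function.Surjective f) (p : Ideal R) [p.IsPrime] :
    (RingHom.ker (Algebra.TensorProduct.map (AlgHom.id (Localization.AtPrime p)
      (Localization.AtPrime p)) f)).FG := by
  set R' := Localization.AtPrime p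
  set f' : R' ⊗[R] B →ₐ[R'] R' ⊗[R] A := Algebra.TensorProduct.map (AlgHom.id R' R') f with hf'def
  have hf' : Function.Surjective f' := by
    have : Function.Surjective (LinearMap.lTensor R' f.toLinearMap) :=
      LinearMap.lTensor_surjective _ hf
    intro y
    obtain ⟨x, hx⟩ := this y
    refine ⟨x, ?_⟩
    rw [← hx]
    rfl
  have h1 : Module.Free R' (R' ⊗[R] A) := Module.free_of_flat_of_isLocalRing
  have h2 : Module.FinitePresentation R' (R' ⊗[R] A) := Module.finitePresentation_of_projective _ _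
  have h3 : Algebra.FinitePresentation R' (R' ⊗[R] A) := inferInstance
  obtain ⟨n, g, hg⟩ := Algebra.FiniteType.iff_quotient_mvPolynomial''.1
    (inferInstance : Algebra.FiniteType R' (R' ⊗[R] B))
  have h4 := Algebra.FinitePresentation.ker_fg_of_mvPolynomial (f'.comp g) (hf'.comp hg)
  have h5 := h4.map g.toRingHom
  have : RingHom.ker f' = Ideal.map g.toRingHom (RingHom.ker (f'.comp g).toRingHom) := by
    apply le_antisymm
    · intro x hx
      obtain ⟨y, rfl⟩ := hg x
      refine Ideal.mem_map_of_mem _ ?_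
      rw [RingHom.mem_ker] at hx ⊢
      exact hx
    · rw [Ideal.map_le_iff_le_comap]
      intro y hy
      rw [RingHom.mem_ker] at hy
      rw [Ideal.mem_comap, RingHom.mem_ker]
      exact hy
  rw [this]
  exact h5


theorem exists_nakayama [Module.Finite R A] [Module.Flat R A] [Algebra.FiniteType R B]
    (f : B →ₐ[R] A) (hf : Function.Surjective f) (p : Ideal R) [p.IsPrime]
    (hrank : Module.rank p.ResidueField (p.ResidueField ⊗[R] B) =
        Module.rank p.ResidueField (p.ResidueField ⊗[R] A)) :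
    ∃ d : Localization.AtPrime p ⊗[R] B,
      d - 1 ∈ Ideal.map (algebraMap R (Localization.AtPrime p ⊗[R] B)) p ∧
      ∀ x : B, f x = 0 → d * ((1 : Localization.AtPrime p) ⊗ₜ[R] x) = 0 := by
  set R' := Localization.AtPrime p
  set f' : R' ⊗[R] B →ₐ[R'] R' ⊗[R] A := Algebra.TensorProduct.map (AlgHom.id R' R') f with hf'def
  set I : Ideal (R' ⊗[R] B) := Ideal.map (algebraMap R (R' ⊗[R] B)) p with hI
  set K' : Ideal (R' ⊗[R] B) := RingHom.ker f' with hK'
  have hfg : K'.FG := ker_map_fg f hf p
  have hker : K' = Ideal.map Algebra.TensorProduct.includeRight (RingHom.ker f) :=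
    Algebra.TensorProduct.lTensor_ker f hf
  have hmem : ∀ x : B, f x = 0 → (1 : R') ⊗ₜ[R] x ∈ K' := by
    intro x hx
    rw [hker]
    exact Ideal.mem_map_of_mem _ (by rw [RingHom.mem_ker]; exact hx)
  have hle : K' ≤ I • K' := by
    conv_lhs => rw [hker]
    rw [Ideal.map_le_iff_le_comap]
    intro x hx
    rw [RingHom.mem_ker] at hx
    rw [Ideal.mem_comap]
    change (1 : R') ⊗ₜ[R] x ∈ I • K'
    have h0 := one_tmul_ker_eq_zero f hf p hrank ⟨x, hx⟩
    obtain ⟨r, hr, hrx⟩ := Groth.Agent.Helper14.exists_smul_mem_of_one_tmul_eq_zero p _ h0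
    have key : ∀ y ∈ (p • ⊤ : Submodule R (LinearMap.ker f.toLinearMap)),
        ∀ s : R', s ⊗ₜ[R] (y : B) ∈ I • K' := by
      intro y hy
      refine Submodule.smul_induction_on hy ?_ ?_
      · intro π hπ k _ s
        have h1 : s ⊗ₜ[R] ((π • k : LinearMap.ker f.toLinearMap) : B) =
            (algebraMap R (R' ⊗[R] B) π) • (s ⊗ₜ[R] (k : B)) := by
          rw [Submodule.coe_smul, TensorProduct.tmul_smul, smul_eq_mul, ← Algebra.smul_def]
        rw [h1]
        refine Submodule.smul_mem_smul (Ideal.mem_map_of_mem _ hπ) ?_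
        have h2 : s ⊗ₜ[R] (k : B) = s • ((1 : R') ⊗ₜ[R] (k : B)) := by
          rw [TensorProduct.smul_tmul', smul_eq_mul, mul_one]
        rw [h2]
        have h3 : (1 : R') ⊗ₜ[R] (k : B) ∈ K' := hmem _ k.2
        exact Submodule.smul_of_tower_mem K' s h3
      · intro y z hy hz s
        rw [Submodule.coe_add, TensorProduct.tmul_add]
        exact Submodule.add_mem _ (hy s) (hz s)
    have h4 := key _ hrx (IsLocalization.mk' R' (1 : R) (⟨r, hr⟩ : p.primeCompl))
    have h5 : (IsLocalization.mk' R' (1 : R) (⟨r, hr⟩ : p.primeCompl)) ⊗ₜ[R]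
        ((r • (⟨x, hx⟩ : LinearMap.ker f.toLinearMap) : LinearMap.ker f.toLinearMap) : B) =
        (1 : R') ⊗ₜ[R] x := by
      rw [Submodule.coe_smul, ← TensorProduct.smul_tmul]
      congr 1
      rw [Algebra.smul_def]
      exact IsLocalization.mk'_spec' R' (1 : R) (⟨r, hr⟩ : p.primeCompl) |>.trans (by simp)
    rw [← h5]
    exact h4
  obtain ⟨d, hd1, hd2⟩ := Submodule.exists_sub_one_mem_and_smul_eq_zero_of_fg_of_le_smul I K'
    hfg hle
  exact ⟨d, hd1, fun x hx => hd2 _ (hmem x hx)⟩


theorem inj [Module.Finite R A] [Module.Flat R A] [Algebra.FiniteType R B]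
    (f : B →ₐ[R] A) (hf : Function.Surjective f)
    (hrank : ∀ p : PrimeSpectrum R,
      Module.rank p.asIdeal.ResidueField (p.asIdeal.ResidueField ⊗[R] B) =
        Module.rank p.asIdeal.ResidueField (p.asIdeal.ResidueField ⊗[R] A)) :
    Function.Injective f := by
  rw [injective_iff_map_eq_zero]
  intro x hx
  apply eq_zero_of_localization
  intro q hq
  have hqp : q.IsPrime := hq.isPrime
  set p := q.comap (algebraMap R B) with hp
  have hpp : p.IsPrime := Ideal.comap_isPrime _ _
  obtain ⟨d, hd1, hd2⟩ := exists_nakayama f hf p (hrank ⟨p, hpp⟩)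
  set Bq := Localization.AtPrime q
  have hunits : ∀ y : p.primeCompl, IsUnit ((Algebra.ofId R Bq) y) := by
    intro y
    have h1 : algebraMap R B y ∈ q.primeCompl := fun h => y.2 h
    have h2 := IsLocalization.map_units Bq (⟨algebraMap R B y, h1⟩ : q.primeCompl)
    rw [Algebra.ofId_apply, IsScalarTower.algebraMap_apply R B Bq]
    exact h2
  let g₁ : Localization.AtPrime p →ₐ[R] Bq := IsLocalization.liftAlgHom (M := p.primeCompl) hunits
  let g₂ : B →ₐ[R] Bq := IsScalarTower.toAlgHom R B Bq
  let φ : Localization.AtPrime p ⊗[R] B →ₐ[R] Bq :=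
    Algebra.TensorProduct.lift g₁ g₂ (fun _ _ => Commute.all _ _)
  have h1 := congrArg φ (hd2 x hx)
  rw [map_mul, map_zero] at h1
  have h2 : φ ((1 : Localization.AtPrime p) ⊗ₜ[R] x) = algebraMap B Bq x := by
    simp [φ, g₂]
  rw [h2] at h1
  have h3 : φ d - 1 ∈ IsLocalRing.maximalIdeal Bq := by
    have h4 : Ideal.map (algebraMap R (Localization.AtPrime p ⊗[R] B)) p ≤
        Ideal.comap φ (IsLocalRing.maximalIdeal Bq) := by
      rw [Ideal.map_le_iff_le_comap]
      intro π hπ
      rw [Ideal.mem_comap, Ideal.mem_comap, AlgHom.commutes, IsScalarTower.algebraMap_apply R B Bq,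
        IsLocalization.AtPrime.to_map_mem_maximal_iff Bq q]
      exact hπ
    have := h4 hd1
    rw [Ideal.mem_comap, map_sub, map_one] at this
    exact this
  have h5 : IsUnit (φ d) := by
    by_contra hnu
    have h6 : φ d ∈ IsLocalRing.maximalIdeal Bq := (IsLocalRing.mem_maximalIdeal _).2 hnu
    have h7 : (1 : Bq) ∈ IsLocalRing.maximalIdeal Bq := by
      have := Ideal.sub_mem _ h6 h3
      simpa using this
    exact (Ideal.ne_top_iff_one _).1 (IsLocalRing.maximalIdeal.isMaximal Bq).ne_top h7
  exact (h5.mul_right_eq_zero).1 h1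


theorem main [Module.Finite R A] [Module.Flat R A] [Algebra.FiniteType R B]
    (f : B →ₐ[R] A)
    (hrank : ∀ p : PrimeSpectrum R,
      Module.rank p.asIdeal.ResidueField (p.asIdeal.ResidueField ⊗[R] B) =
        Module.rank p.asIdeal.ResidueField (p.asIdeal.ResidueField ⊗[R] A))
    (hmax : ∀ (m : Ideal R) [m.IsMaximal],
      Function.Bijective (LinearMap.lTensor m.ResidueField f.toLinearMap)) :
    Function.Bijective f := by
  have hs := surj f (fun m _ => (hmax m).2)
  exact ⟨inj f hs hrank, hs⟩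

end Groth.Agent.Helper26.FinFlatIso
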