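import Mathlib
import Groth.Agent.Lib.Helper26.FinPart1

set_option autoImplicit false

open CategoryTheory CategoryTheory.Limits AlgebraicGeometry

namespace Groth.Agent.Helper26.FinPart

universe u

theorem pullback_part (R : Type u) [CommRing R] [IsLocalRing R]
    {X Y : Scheme.{u}} (f : X ⟶ Spec (CommRingCat.of R)) (f' : Y ⟶ Spec (CommRingCat.of R))
    (WX : X.Opens) (hWXfin : IsFinite (WX.ι ≫ f))
    (hWX : ∀ x : ↥X, f.base x = IsLocalRing.closedPoint R → x ∈ WX)
    (WY : Y.Opens) (hWYfin : IsFinite (WY.ι ≫ f'))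
    (hWY : ∀ x : ↥Y, f'.base x = IsLocalRing.closedPoint R → x ∈ WY)
    (W : (pullback f f').Opens)
    (hWfin : IsFinite (W.ι ≫ (pullback.fst f f' ≫ f)))
    (hW : ∀ x : ↥(pullback f f'),
      (pullback.fst f f' ≫ f).base x = IsLocalRing.closedPoint R → x ∈ W)
    (z : ↥(pullback f f')) :
    z ∈ W ↔ ((pullback.fst f f').base z ∈ WX ∧ (pullback.snd f f').base z ∈ WY) := by
  constructor
  · intro hz
    exact ⟨functorial R (pullback.fst f f' ≫ f) f W hWfin WX hWX (pullback.fst f f') rfl z hz,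
      functorial R (pullback.fst f f' ≫ f) f' W hWfin WY hWY (pullback.snd f f')
        pullback.condition.symm z hz⟩
  · rintro ⟨hz1, hz2⟩
    let m : pullback (WX.ι ≫ f) (WY.ι ≫ f') ⟶ pullback f f' :=
      pullback.map (WX.ι ≫ f) (WY.ι ≫ f') f f' WX.ι WY.ι (𝟙 _) (by simp) (by simp)
    have hm1 : m ≫ pullback.fst f f' = pullback.fst _ _ ≫ WX.ι := pullback.lift_fst _ _ _
    have hzr : z ∈ Set.range m.base := by
      have := Scheme.Pullback.range_map (WX.ι ≫ f) (WY.ι ≫ f') f f' WX.ι WY.ι (𝟙 _)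
        (by simp) (by simp)
      change z ∈ Set.range (pullback.map (WX.ι ≫ f) (WY.ι ≫ f') f f' WX.ι WY.ι (𝟙 _) _ _).base
      rw [this]
      refine ⟨?_, ?_⟩
      · change (pullback.fst f f').base z ∈ Set.range WX.ι.base
        rw [Scheme.Opens.range_ι]
        exact hz1
      · change (pullback.snd f f').base z ∈ Set.range WY.ι.base
        rw [Scheme.Opens.range_ι]
        exact hz2
    obtain ⟨p, rfl⟩ := hzr
    have hfin : IsFinite (pullback.fst (WX.ι ≫ f) (WY.ι ≫ f') ≫ WX.ι ≫ f) := inferInstance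
    obtain ⟨p₀, hp₀, hp₀'⟩ := exists_specializes_closedPoint R
      (pullback.fst (WX.ι ≫ f) (WY.ι ≫ f') ≫ WX.ι ≫ f)
      (pullback.fst (WX.ι ≫ f) (WY.ι ≫ f') ≫ WX.ι ≫ f).isClosedMap p
    have h1 : m.base p ⤳ m.base p₀ := hp₀.map m.continuous
    have h2 : m.base p₀ ∈ W := by
      apply hW
      rw [← Scheme.Hom.comp_apply, ← Category.assoc, hm1, Category.assoc]
      exact hp₀'
    exact h1.mem_open W.isOpen h2

end Groth.Agent.Helper26.FinPart
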