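import Mathlib

set_option linter.unusedSectionVars false
set_option linter.style.haveILetI false

namespace Groth.Agent.Helper26.FinSpecLoc

/-- In a ring with finite spectrum, the generizations of a prime form a basic open set. -/
theorem exists_basicOpen (B : Type*) [CommRing B] [Finite (PrimeSpectrum B)]
    (P : Ideal B) [P.IsPrime] :
    ∃ g : B, g ∉ P ∧ ∀ q : Ideal B, q.IsPrime → g ∉ q → q ≤ P := by
  classical
  have hfin : Set.Finite {q : PrimeSpectrum B | ¬ q.asIdeal ≤ P} := Set.toFinite _
  choose! x hx using fun (q : PrimeSpectrum B) (hq : ¬ q.asIdeal ≤ P) => Set.not_subset.mp hq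
  refine ⟨∏ q ∈ hfin.toFinset, x q, ?_, ?_⟩
  · intro h
    obtain ⟨q, hq, hxq⟩ := (Ideal.IsPrime.prod_mem_iff).mp h
    rw [Set.Finite.mem_toFinset] at hq
    exact (hx q hq).2 hxq
  · intro q hq hg
    by_contra hle
    apply hg
    have hmem : (⟨q, hq⟩ : PrimeSpectrum B) ∈ hfin.toFinset := by
      rw [Set.Finite.mem_toFinset]; exact hle
    exact Ideal.prod_mem q hmem (hx ⟨q, hq⟩ hle).1

/-- With `g` as above, every element outside `P` divides a power of `g`. -/
theorem exists_mul_eq_pow {B : Type*} [CommRing B] (P : Ideal B) [P.IsPrime] (g : B)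
    (hg : ∀ q : Ideal B, q.IsPrime → g ∉ q → q ≤ P) (s : B) (hs : s ∉ P) :
    ∃ (b : B) (m : ℕ), s * b = g ^ m := by
  have : g ∈ (Ideal.span {s}).radical := by
    rw [Ideal.radical_eq_sInf, Ideal.mem_sInf]
    rintro q ⟨hsq, hq⟩
    by_contra hgq
    exact hs (hg q hq hgq (hsq (Ideal.mem_span_singleton_self s)))
  obtain ⟨m, hm⟩ := this
  obtain ⟨b, hb⟩ := Ideal.mem_span_singleton'.mp hm
  exact ⟨b, m, by rw [← hb, mul_comm]⟩

theorem etale_of_atPrime (R B T : Type*) [CommRing R] [CommRing B] [CommRing T]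
    [Algebra R B] [Algebra.Etale R B] [Finite (PrimeSpectrum R)]
    [Algebra B T] [Algebra R T] [IsScalarTower R B T]
    (P : Ideal B) [P.IsPrime] [IsLocalization.AtPrime T P] : Algebra.Etale R T := by
  haveI : Finite (PrimeSpectrum B) := Algebra.QuasiFinite.finite_primeSpectrum R B
  obtain ⟨g, hgP, hg⟩ := exists_basicOpen B P
  haveI : Algebra.Etale R (Localization.Away g) := Algebra.Etale.comp R B _
  have hle : Submonoid.powers g ≤ P.primeCompl := by
    rintro _ ⟨n, rfl⟩
    exact fun h => hgP (Ideal.IsPrime.mem_of_pow_mem inferInstance n h)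
  haveI : IsLocalization P.primeCompl (Localization.Away g) := by
    refine IsLocalization.of_le (Submonoid.powers g) P.primeCompl hle ?_
    intro s hs
    obtain ⟨b, m, hb⟩ := exists_mul_eq_pow P g hg s hs
    have hu : IsUnit (algebraMap B (Localization.Away g) (s * b)) := by
      rw [hb, map_pow]
      exact (IsLocalization.Away.algebraMap_isUnit g).pow m
    rw [map_mul] at hu
    exact isUnit_of_mul_isUnit_left hu
  let e : Localization.Away g ≃ₐ[B] T := IsLocalization.algEquiv P.primeCompl _ _
  exact Algebra.Etale.of_equiv (e.restrictScalars R)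

end Groth.Agent.Helper26.FinSpecLoc
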