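import Mathlib

set_option autoImplicit false

namespace Groth.Agent.Helper26

section

variable (k : Type*) [Field k] [IsAlgClosed k] (A : Type*) [CommRing A] [Algebra k A]
  [Module.Finite k A]

/-- For each prime of a finite algebra over an algebraically closed field, there is a character
with that kernel. -/
theorem exists_algHom_ker_eq (p : Ideal A) [p.IsPrime] : ∃ χ : A →ₐ[k] k, RingHom.ker χ = p := by
  have hbij := IsAlgClosed.algebraMap_bijective_of_isIntegral (k := k) (K := A ⧸ p)
  let e : k ≃ₐ[k] (A ⧸ p) := AlgEquiv.ofBijective (Algebra.ofId k (A ⧸ p)) hbij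
  refine ⟨e.symm.toAlgHom.comp (Ideal.Quotient.mkₐ k p), ?_⟩
  ext a
  simp [RingHom.mem_ker, Ideal.Quotient.eq_zero_iff_mem]

theorem forall_algHom_eq_zero_iff (a : A) : (∀ χ : A →ₐ[k] k, χ a = 0) ↔ a ∈ nilradical A := by
  constructor
  · intro h
    rw [nilradical_eq_sInf, Ideal.mem_sInf]
    intro p hp
    have : p.IsPrime := hp
    obtain ⟨χ, hχ⟩ := exists_algHom_ker_eq k A p
    rw [← hχ]
    exact h χ
  · intro h χ
    have : IsNilpotent (χ a) := (mem_nilradical.mp h).map χ
    exact this.eq_zero

omit [IsAlgClosed k] in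
theorem pi_algHom_surjective :
    Function.Surjective (AlgHom.pi (R := k) (fun f : A →ₐ[k] k => f)) := by
  classical
  cases nonempty_fintype (A →ₐ[k] k)
  set Φ : A →ₗ[k] ((A →ₐ[k] k) → k) := (AlgHom.pi (R := k) (fun f : A →ₐ[k] k => f)).toLinearMap
    with hΦ
  suffices h : LinearMap.range Φ = ⊤ by
    intro y
    have : y ∈ LinearMap.range Φ := by rw [h]; trivial
    obtain ⟨a, ha⟩ := this
    exact ⟨a, ha⟩
  by_contra hne
  obtain ⟨lam, hlam0, hlam⟩ := (LinearMap.range Φ).exists_le_ker_of_lt_top (lt_top_iff_ne_top.mpr hne)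
  apply hlam0
  have hli := linearIndependent_algHom_toLinearMap k A k
  rw [Fintype.linearIndependent_iff] at hli
  have hzero : ∀ χ : A →ₐ[k] k, lam (fun j => if χ = j then 1 else 0) = 0 := by
    apply hli
    apply LinearMap.ext
    intro a
    have h1 : lam (Φ a) = 0 := by
      have : Φ a ∈ LinearMap.ker lam := hlam ⟨a, rfl⟩
      exact this
    rw [LinearMap.sum_apply, LinearMap.zero_apply]
    calc _ = ∑ i, Φ a i • lam (fun j => if i = j then 1 else 0) :=
          Finset.sum_congr rfl (fun χ _ => by simp [hΦ, mul_comm])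
      _ = lam (Φ a) := (LinearMap.pi_apply_eq_sum_univ lam (Φ a)).symm
      _ = 0 := h1
  apply LinearMap.ext
  intro x
  rw [LinearMap.pi_apply_eq_sum_univ lam x]
  simp [hzero]

theorem ker_pi_algHom :
    RingHom.ker (AlgHom.pi (R := k) (fun f : A →ₐ[k] k => f)) = nilradical A := by
  ext a
  rw [RingHom.mem_ker, ← forall_algHom_eq_zero_iff k A a]
  constructor
  · intro h χ
    exact congrFun h χ
  · intro h
    funext χ
    exact h χ

end


section

variable (k : Type*) [Field k] [IsAlgClosed k] (A : Type*) [CommRing A] [Algebra k A]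
  [Module.Finite k A]

/-- A splitting of the evaluation map `A → k^X`. -/
theorem exists_section_pi :
    ∃ σ : ((A →ₐ[k] k) → k) →ₐ[k] A,
      (AlgHom.pi (R := k) (fun f : A →ₐ[k] k => f)).comp σ = AlgHom.id k _ := by
  classical
  cases nonempty_fintype (A →ₐ[k] k)
  set Φ := AlgHom.pi (R := k) (fun f : A →ₐ[k] k => f) with hΦ
  have hker : ∀ x ∈ RingHom.ker Φ.toRingHom, IsNilpotent x := by
    intro x hx
    have : x ∈ nilradical A := by rw [← ker_pi_algHom k A]; exact hx
    exact mem_nilradical.mp this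
  obtain ⟨e', he', hfe⟩ := CompleteOrthogonalIdempotents.lift_of_isNilpotent_ker Φ.toRingHom hker
    (CompleteOrthogonalIdempotents.single (fun _ : (A →ₐ[k] k) => k))
    (fun i => by
      obtain ⟨a, ha⟩ := pi_algHom_surjective k A (Pi.single i 1)
      exact ⟨a, ha⟩)
  let σl : ((A →ₐ[k] k) → k) →ₗ[k] A := Fintype.linearCombination k e'
  have h1 : σl 1 = 1 := by
    simp [σl, Fintype.linearCombination_apply, he'.complete]
  have hmul : ∀ v w, σl (v * w) = σl v * σl w := by
    intro v w
    simp only [σl, Fintype.linearCombination_apply, Pi.mul_apply]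
    rw [Finset.sum_mul_sum]
    refine Finset.sum_congr rfl (fun i _ => ?_)
    rw [Finset.sum_eq_single i]
    · rw [smul_mul_smul_comm, (he'.idem i).eq]
    · intro j _ hji
      rw [smul_mul_smul_comm, he'.ortho hji.symm, smul_zero]
    · simp
  let σ : ((A →ₐ[k] k) → k) →ₐ[k] A := AlgHom.ofLinearMap σl h1 hmul
  refine ⟨σ, ?_⟩
  apply AlgHom.ext
  intro v
  show Φ (σl v) = v
  simp only [σl, Fintype.linearCombination_apply, map_sum, map_smul]
  have hs : ∀ i, Φ (e' i) = Pi.single i 1 := fun i => congrFun hfe i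
  simp_rw [hs]
  ext j
  simp [Finset.sum_apply, Pi.single_apply]

theorem existsUnique_section_quotient_nilradical :
    ∃! s : (A ⧸ nilradical A) →ₐ[k] A,
      (Ideal.Quotient.mkₐ k (nilradical A)).comp s = AlgHom.id k (A ⧸ nilradical A) := by
  classical
  cases nonempty_fintype (A →ₐ[k] k)
  set Φ := AlgHom.pi (R := k) (fun f : A →ₐ[k] k => f) with hΦ
  obtain ⟨σ, hσ⟩ := exists_section_pi k A
  have hσ' : ∀ v, Φ (σ v) = v := fun v => congrArg (fun f => f v) hσ
  have hkerΦ : ∀ a, Φ a = 0 ↔ a ∈ nilradical A := by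
    intro a
    rw [← ker_pi_algHom k A, RingHom.mem_ker]
  let Φbar : (A ⧸ nilradical A) →ₐ[k] ((A →ₐ[k] k) → k) :=
    Ideal.Quotient.liftₐ (nilradical A) Φ (fun a ha => (hkerΦ a).mpr ha)
  have hΦbar : ∀ a : A, Φbar (Ideal.Quotient.mk _ a) = Φ a := fun a => rfl
  let π := Ideal.Quotient.mkₐ k (nilradical A)
  have hπσΦ : ∀ a : A, π (σ (Φ a)) = π a := by
    intro a
    show Ideal.Quotient.mk _ (σ (Φ a)) = Ideal.Quotient.mk _ a
    rw [Ideal.Quotient.eq, ← hkerΦ, map_sub, hσ', sub_self]
  let Ψ : ((A →ₐ[k] k) → k) →ₐ[k] (A ⧸ nilradical A) := π.comp σ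
  have hΨΦbar : ∀ x, Ψ (Φbar x) = x := by
    intro x
    obtain ⟨a, rfl⟩ := Ideal.Quotient.mk_surjective x
    rw [hΦbar]
    exact hπσΦ a
  refine ⟨σ.comp Φbar, ?_, ?_⟩
  · apply AlgHom.ext
    intro x
    exact hΨΦbar x
  · intro s hs
    have hs' : ∀ x, π (s x) = x := fun x => congrArg (fun f => f x) hs
    have key : ∀ i, s (Ψ (Pi.single i 1)) = σ (Pi.single i 1) := by
      intro i
      have hid : IsIdempotentElem (Pi.single i 1 : (A →ₐ[k] k) → k) := by
        simp [IsIdempotentElem, ← Pi.single_mul]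
      apply eq_of_isNilpotent_sub_of_isIdempotentElem ((hid.map Ψ).map s) (hid.map σ)
      apply mem_nilradical.mp
      rw [← Ideal.Quotient.eq]
      exact hs' _
    have hlin : (s.comp Ψ).toLinearMap = σ.toLinearMap := by
      apply LinearMap.pi_ext'
      intro i
      apply LinearMap.ext_ring
      simpa using key i
    apply AlgHom.ext
    intro x
    have h2 := congrArg (fun f => f (Φbar x)) hlin
    simp only [AlgHom.toLinearMap_apply, AlgHom.comp_apply] at h2
    rw [hΨΦbar] at h2
    exact h2

end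


section

variable (k : Type*) [Field k] [IsAlgClosed k] (A : Type*) [CommRing A] [Algebra k A]
  [Module.Finite k A]

/-- A reduced finite algebra over an algebraically closed field is spanned by idempotents. -/
theorem mem_span_idempotents_of_isReduced [IsReduced A] (c : A) :
    c ∈ Submodule.span k {e : A | IsIdempotentElem e} := by
  classical
  cases nonempty_fintype (A →ₐ[k] k)
  set Φ := AlgHom.pi (R := k) (fun f : A →ₐ[k] k => f) with hΦ
  obtain ⟨σ, hσ⟩ := exists_section_pi k A
  have hσ' : ∀ v, Φ (σ v) = v := fun v => congrArg (fun f => f v) hσ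
  have hinj : Function.Injective Φ := by
    rw [injective_iff_map_eq_zero]
    intro a ha
    have : a ∈ nilradical A := by rw [← ker_pi_algHom k A, RingHom.mem_ker]; exact ha
    exact (mem_nilradical.mp this).eq_zero
  have hc : c = σ (Φ c) := hinj (hσ' _).symm
  have hsum := LinearMap.pi_apply_eq_sum_univ σ.toLinearMap (Φ c)
  simp only [AlgHom.toLinearMap_apply] at hsum
  rw [hc, hsum]
  refine Submodule.sum_mem _ (fun i _ => Submodule.smul_mem _ _ (Submodule.subset_span ?_))
  have hid : IsIdempotentElem (fun j => if i = j then (1 : k) else 0 : (A →ₐ[k] k) → k) := by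
    ext j
    by_cases h : i = j <;> simp [h]
  exact hid.map σ

theorem exists_greatest_reduced_subalgebra :
    ∃ B : Subalgebra k A, IsReduced ↥B ∧ (∀ C : Subalgebra k A, IsReduced ↥C → C ≤ B) ∧
      Function.Bijective ((Ideal.Quotient.mkₐ k (nilradical A)).comp B.val) := by
  obtain ⟨s, hs, -⟩ := existsUnique_section_quotient_nilradical k A
  have hs' : ∀ x, Ideal.Quotient.mk (nilradical A) (s x) = x := fun x => congrArg (fun f => f x) hs
  have hbij : Function.Bijective ((Ideal.Quotient.mkₐ k (nilradical A)).comp s.range.val) := by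
    constructor
    · rintro ⟨_, ⟨x, rfl⟩⟩ ⟨_, ⟨y, rfl⟩⟩ h
      change Ideal.Quotient.mk (nilradical A) (s x) = Ideal.Quotient.mk (nilradical A) (s y) at h
      rw [hs' x, hs' y] at h
      subst h
      rfl
    · intro x
      exact ⟨⟨s x, ⟨x, rfl⟩⟩, hs' x⟩
  have hred : IsReduced (A ⧸ nilradical A) :=
    (Ideal.isRadical_iff_quotient_reduced _).mp (Ideal.radical_isRadical _)
  have hidem : ∀ e : A, IsIdempotentElem e → e ∈ s.range := by
    intro e he
    have : e = s (Ideal.Quotient.mk (nilradical A) e) := by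
      apply eq_of_isNilpotent_sub_of_isIdempotentElem he
        ((he.map (Ideal.Quotient.mk (nilradical A))).map s)
      apply mem_nilradical.mp
      rw [← Ideal.Quotient.eq, hs']
    rw [this]
    exact ⟨_, rfl⟩
  refine ⟨s.range, ?_, ?_, hbij⟩
  · exact isReduced_of_injective _ hbij.1
  · intro C hC c hc
    have h1 := mem_span_idempotents_of_isReduced k C ⟨c, hc⟩
    have h2 : Submodule.map C.val.toLinearMap (Submodule.span k {e : C | IsIdempotentElem e}) ≤
        Subalgebra.toSubmodule s.range := by
      rw [Submodule.map_span, Submodule.span_le]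
      rintro _ ⟨e, he, rfl⟩
      exact hidem _ (he.map C.val)
    exact h2 ⟨⟨c, hc⟩, h1, rfl⟩

end


theorem exists_socle_of_isMaximal (A : Type*) [CommRing A] [IsArtinianRing A] (m : Ideal A)
    [hm : m.IsMaximal] : ∃ z : A, z ≠ 0 ∧ ∀ a ∈ m, a * z = 0 := by
  have h1 : m ∈ (Module.annihilator A A).minimalPrimes := by
    refine ⟨⟨hm.isPrime, by rw [Module.annihilator_eq_bot.mpr inferInstance]; exact bot_le⟩, ?_⟩
    intro q ⟨hq, _⟩ hqm
    have : q.IsMaximal := IsArtinianRing.isMaximal_of_isPrime q
    exact (this.eq_of_le hm.ne_top hqm).ge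
  have h2 := Module.associatedPrimes.minimalPrimes_annihilator_subset_associatedPrimes A A h1
  rw [AssociatedPrimes.mem_iff, IsAssociatedPrime, Submodule.isAssociatedPrime_iff] at h2
  obtain ⟨-, z, hz⟩ := h2
  refine ⟨z, ?_, ?_⟩
  · rintro rfl
    apply hm.ne_top
    rw [hz]
    simp
  · intro a ha
    rw [hz, Submodule.mem_colon_singleton] at ha
    simpa using ha

/-- In a Noetherian ring with a nonzero nilpotent, some maximal ideal is not idempotent. -/
theorem exists_isMaximal_not_isIdempotentElem (A : Type*) [CommRing A] [IsNoetherianRing A]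
    (x : A) (hx : IsNilpotent x) (hx0 : x ≠ 0) :
    ∃ m : Ideal A, m.IsMaximal ∧ ¬ IsIdempotentElem m := by
  have hann : Ideal.span {x} ≠ ⊥ := by simpa using hx0
  have hne : (Submodule.colon (⊥ : Ideal A) ({x} : Set A)) ≠ ⊤ := by
    intro h
    have : (1 : A) ∈ Submodule.colon (⊥ : Ideal A) ({x} : Set A) := by rw [h]; trivial
    rw [Submodule.mem_colon_singleton] at this
    simp at this
    exact hx0 this
  obtain ⟨m, hm, hle⟩ := Ideal.exists_le_maximal _ hne
  refine ⟨m, hm, fun hid => ?_⟩
  obtain ⟨e, he, hme⟩ := (Ideal.isIdempotentElem_iff_of_fg m (IsNoetherian.noetherian m)).mp hid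
  have hxm : x ∈ m := by
    have : x ∈ nilradical A := mem_nilradical.mpr hx
    rw [nilradical_eq_sInf] at this
    exact (Ideal.mem_sInf.mp this) hm.isPrime
  rw [hme, Ideal.mem_span_singleton'] at hxm
  obtain ⟨y, hy⟩ := hxm
  have h1 : (1 - e) * x = 0 := by
    rw [← hy]
    have : e * e = e := he
    linear_combination (-y) * this
  have h2 : (1 - e) ∈ m := by
    apply hle
    rw [Submodule.mem_colon_singleton]
    simpa using h1
  have h3 : e ∈ m := by rw [hme]; exact Ideal.mem_span_singleton_self e
  apply hm.ne_top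
  rw [Ideal.eq_top_iff_one]
  have := m.add_mem h2 h3
  simpa using this

section

variable (k : Type*) [Field k] [IsAlgClosed k] (A : Type*) [CommRing A] [Algebra k A]
  [Module.Finite k A]

theorem exists_derivation_ne_zero_of_not_isReduced (h : ¬ IsReduced A) :
    ∃ D : Derivation k A A, D ≠ 0 := by
  have : IsArtinianRing A := IsArtinianRing.of_finite k A
  have hx : ∃ x : A, IsNilpotent x ∧ x ≠ 0 := by
    by_contra hcon
    push Not at hcon
    exact h ⟨fun x hx => hcon x hx⟩
  obtain ⟨x, hxn, hx0⟩ := hx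
  obtain ⟨m, hm, hmid⟩ := exists_isMaximal_not_isIdempotentElem A x hxn hx0
  obtain ⟨z, hz0, hz⟩ := exists_socle_of_isMaximal A m
  obtain ⟨χ, hχ⟩ := exists_algHom_ker_eq k A m
  have hmem : ∀ a : A, a - algebraMap k A (χ a) ∈ m := by
    intro a
    rw [← hχ, RingHom.mem_ker, map_sub, AlgHom.commutes]
    simp
  -- element of m not in m^2
  have hlt : ¬ m ≤ m * m := by
    intro hle
    exact hmid (le_antisymm Ideal.mul_le_right hle)
  obtain ⟨t, htm, htm2⟩ := Set.not_subset.mp hlt
  obtain ⟨lam0, hlam0t, hlam0⟩ :=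
    Submodule.exists_le_ker_of_notMem (K := k) (p := (m * m).restrictScalars k) (v := t) htm2
  have hlam0' : ∀ a ∈ m * m, lam0 a = 0 := fun a ha => hlam0 ha
  let lam : A →ₗ[k] k := lam0 ∘ₗ (LinearMap.id - (Algebra.linearMap k A) ∘ₗ χ.toLinearMap)
  have hlam_apply : ∀ a, lam a = lam0 (a - algebraMap k A (χ a)) := fun a => rfl
  have hleib : ∀ a b, lam (a * b) = χ a * lam b + χ b * lam a := by
    intro a b
    simp only [hlam_apply]
    have h1 : a * b - algebraMap k A (χ (a * b)) =
        (a - algebraMap k A (χ a)) * (b - algebraMap k A (χ b)) +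
        χ a • (b - algebraMap k A (χ b)) + χ b • (a - algebraMap k A (χ a)) := by
      simp only [map_mul, Algebra.smul_def]
      ring
    rw [h1, map_add, map_add, hlam0' _ (Ideal.mul_mem_mul (hmem a) (hmem b)), map_smul, map_smul]
    simp
  have hzmul : ∀ a : A, a * z = χ a • z := by
    intro a
    have := hz _ (hmem a)
    rw [sub_mul, sub_eq_zero] at this
    rw [this, Algebra.smul_def]
  let D : Derivation k A A := Derivation.mk' (LinearMap.smulRight lam z) (by
    intro a b
    simp only [LinearMap.smulRight_apply, smul_eq_mul, hleib]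
    rw [add_smul, mul_smul, mul_smul, mul_smul_comm, mul_smul_comm, hzmul a, hzmul b,
      smul_comm (lam b) (χ a), smul_comm (lam a) (χ b)])
  refine ⟨D, fun hD => ?_⟩
  have h1 : D t = 0 := by rw [hD]; rfl
  have h2 : D t = lam t • z := rfl
  rw [h2, hlam_apply] at h1
  have hχt : χ t = 0 := by
    have : t ∈ RingHom.ker χ := by rw [hχ]; exact htm
    exact this
  rw [hχt, map_zero, sub_zero] at h1
  rcases smul_eq_zero.mp h1 with h3 | h3
  · exact hlam0t h3
  · exact hz0 h3

theorem subsingleton_derivation_iff_isReduced :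
    Subsingleton (Derivation k A A) ↔ IsReduced A := by
  constructor
  · intro hsub
    by_contra hred
    obtain ⟨D, hD⟩ := exists_derivation_ne_zero_of_not_isReduced k A hred
    exact hD (Subsingleton.elim _ _)
  · intro hred
    refine ⟨fun D₁ D₂ => ?_⟩
    have hzero : ∀ D : Derivation k A A, D = 0 := by
      intro D
      have hidem : ∀ e : A, IsIdempotentElem e → D e = 0 := by
        intro e he
        have h := D.leibniz e e
        rw [he.eq] at h
        have h2 := congrArg (fun x => e • x) h
        simp only [smul_add, smul_smul, he.eq] at h2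
        have h3 : e • D e = 0 := by simpa using h2
        rw [h3] at h
        simpa using h
      ext c
      have hc := mem_span_idempotents_of_isReduced k A c
      have : (Submodule.span k {e : A | IsIdempotentElem e}) ≤ LinearMap.ker (D : A →ₗ[k] A) := by
        rw [Submodule.span_le]
        intro e he
        exact hidem e he
      exact this hc
    rw [hzero D₁, hzero D₂]

end

end Groth.Agent.Helper26
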