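import Mathlib
import Groth.Agent.Lib.Helper26.FiniteAlg

set_option autoImplicit false

namespace Groth.Agent.Helper26

section

variable (k : Type*) [Field k] [IsAlgClosed k] (A : Type*) [CommRing A] [Algebra k A]
  [Module.Finite k A]

theorem pi_algHom_bijective_of_isReduced [IsReduced A] :
    Function.Bijective (AlgHom.pi (R := k) (fun f : A →ₐ[k] k => f)) := by
  refine ⟨?_, pi_algHom_surjective k A⟩
  rw [injective_iff_map_eq_zero]
  intro a ha
  have : a ∈ nilradical A := by rw [← ker_pi_algHom k A, RingHom.mem_ker]; exact ha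
  exact (mem_nilradical.mp this).eq_zero

theorem pow_char_pow_bijective_iff_isReduced (p : ℕ) [Fact p.Prime] [CharP k p]
    (n : ℕ) (hn : 1 ≤ n) :
    Function.Bijective (fun a : A => a ^ p ^ n) ↔ IsReduced A := by
  rcases subsingleton_or_nontrivial A with hsub | hnt
  · constructor
    · intro _
      exact ⟨fun x _ => Subsingleton.elim _ _⟩
    · intro _
      exact ⟨fun a b _ => Subsingleton.elim _ _, fun a => ⟨a, Subsingleton.elim _ _⟩⟩
  have hchar : CharP A p := charP_of_injective_algebraMap (algebraMap k A).injective p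
  have hq : 0 < p ^ n := pow_pos (Fact.out : p.Prime).pos n
  have hp1 : 1 < p := (Fact.out : p.Prime).one_lt
  constructor
  · rintro ⟨hinj, -⟩
    refine ⟨fun x hx => ?_⟩
    obtain ⟨m, hm⟩ := hx
    have hiter : ∀ j : ℕ, (fun a : A => a ^ p ^ n)^[j] x = x ^ (p ^ n) ^ j := by
      intro j
      induction j with
      | zero => simp
      | succ j ih =>
        rw [Function.iterate_succ_apply', ih, ← pow_mul, pow_succ]
    have hiter0 : ∀ j : ℕ, (fun a : A => a ^ p ^ n)^[j] 0 = 0 := by
      intro j
      induction j with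
      | zero => simp
      | succ j ih =>
        rw [Function.iterate_succ_apply', ih]
        exact zero_pow hq.ne'
    have hbig : m ≤ (p ^ n) ^ m := by
      have h1 : 1 < p ^ n := Nat.one_lt_pow (by omega) hp1
      exact (Nat.lt_pow_self h1).le
    apply hinj.iterate m
    rw [hiter, hiter0]
    exact pow_eq_zero_of_le hbig hm
  · intro hred
    constructor
    · intro a b hab
      simp only at hab
      have h1 : (a - b) ^ p ^ n = 0 := by
        rw [sub_pow_char_pow, hab, sub_self]
      exact sub_eq_zero.mp (pow_eq_zero_iff hq.ne' |>.mp h1)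
    · intro a
      obtain ⟨σ, hσ⟩ := exists_section_pi k A
      set Φ := AlgHom.pi (R := k) (fun f : A →ₐ[k] k => f) with hΦ
      have hσ' : ∀ v, Φ (σ v) = v := fun v => congrArg (fun f => f v) hσ
      choose r hr using fun χ : A →ₐ[k] k => IsAlgClosed.exists_pow_nat_eq (Φ a χ) hq
      refine ⟨σ r, ?_⟩
      apply (pi_algHom_bijective_of_isReduced k A).1
      show Φ ((σ r) ^ p ^ n) = Φ a
      rw [map_pow, hσ']
      funext χ
      exact hr χ

end

end Groth.Agent.Helper26
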