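import Mathlib
import Groth.Prelude.Def_Fitting

/-!
# The zeroth Fitting ideal of the differentials of `A[x_1..x_n]/(f_1..f_n)` (helper26)
-/

set_option autoImplicit false
universe u

namespace Groth.Agent.Helper26.FitJac

open MvPolynomial KaehlerDifferential TensorProduct

section General

variable {R S : Type u} [CommRing R] [CommRing S] [Algebra R S] {ι : Type} [Fintype ι]
  (P : Algebra.Generators R S ι)

set_option backward.defeqAttrib.useBackward true in
set_option backward.isDefEq.respectTransparency false in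
/-- chain rule -/
theorem D_algebraMap (p : P.Ring) :
    D R S (algebraMap P.Ring S p) = ∑ k, algebraMap P.Ring S (pderiv k p) • D R S (P.val k) := by
  have h1 : P.toExtension.toKaehler ((1 : S) ⊗ₜ[P.toExtension.Ring] D R P.toExtension.Ring p) =
      D R S (algebraMap P.Ring S p) := by
    rw [Algebra.Extension.toKaehler, KaehlerDifferential.mapBaseChange_tmul, one_smul,
      KaehlerDifferential.map_D]
    rfl
  rw [← h1, ← P.cotangentSpaceBasis.sum_repr
    ((1 : S) ⊗ₜ[P.toExtension.Ring] D R P.toExtension.Ring p), map_sum]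
  refine Finset.sum_congr rfl fun k _ => ?_
  rw [map_smul, Algebra.Generators.toKaehler_cotangentSpaceBasis,
    Algebra.Generators.cotangentSpaceBasis_repr_one_tmul, Algebra.Generators.algebraMap_apply]

set_option backward.defeqAttrib.useBackward true in
set_option backward.isDefEq.respectTransparency false in
/-- relations among the `dx` come from the kernel -/
theorem exists_of_rel (u : ι → S) (h : ∑ k, u k • D R S (P.val k) = 0) :
    ∃ g ∈ P.ker, ∀ k, u k = algebraMap P.Ring S (pderiv k g) := by
  set ω := ∑ k, u k • P.cotangentSpaceBasis k with hω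
  have h0 : P.toExtension.toKaehler ω = 0 := by
    rw [hω, map_sum, ← h]
    refine Finset.sum_congr rfl fun k _ => ?_
    rw [map_smul, Algebra.Generators.toKaehler_cotangentSpaceBasis]
  obtain ⟨c, hc⟩ := (P.toExtension.exact_cotangentComplex_toKaehler ω).1 h0
  obtain ⟨g, rfl⟩ := Algebra.Extension.Cotangent.mk_surjective c
  rw [Algebra.Extension.cotangentComplex_mk] at hc
  refine ⟨g.1, g.2, fun k => ?_⟩
  have h2 : P.cotangentSpaceBasis.repr ω k = u k := by
    rw [hω, Module.Basis.repr_sum_self]
  rw [← h2, ← hc, Algebra.Generators.cotangentSpaceBasis_repr_one_tmul,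
    Algebra.Generators.algebraMap_apply]

end General

section Naive

variable (A : Type u) [CommRing A] (n : ℕ) (f : Fin n → MvPolynomial (Fin n) A)

/-- the differentials of the coordinates -/
noncomputable def dx (k : Fin n) :
    Ω[(MvPolynomial (Fin n) A ⧸ Ideal.span (Set.range f))⁄A] :=
  D A _ (Ideal.Quotient.mk (Ideal.span (Set.range f)) (X k))

/-- chain rule -/
theorem D_mk (p : MvPolynomial (Fin n) A) :
    D A (MvPolynomial (Fin n) A ⧸ Ideal.span (Set.range f))
        (Ideal.Quotient.mk (Ideal.span (Set.range f)) p) =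
      ∑ k, Ideal.Quotient.mk (Ideal.span (Set.range f)) (pderiv k p) • dx A n f k :=
  D_algebraMap (Algebra.Generators.naive (I := Ideal.span (Set.range f))) p

theorem span_dx : Submodule.span (MvPolynomial (Fin n) A ⧸ Ideal.span (Set.range f))
    (Set.range (dx A n f)) = ⊤ := by
  rw [eq_top_iff, ← KaehlerDifferential.span_range_derivation, Submodule.span_le]
  rintro _ ⟨b, rfl⟩
  obtain ⟨p, rfl⟩ := Ideal.Quotient.mk_surjective b
  rw [SetLike.mem_coe, D_mk]
  exact Submodule.sum_mem _ fun k _ => Submodule.smul_mem _ _ (Submodule.subset_span ⟨k, rfl⟩)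

theorem exists_of_rel_naive (u : Fin n → MvPolynomial (Fin n) A ⧸ Ideal.span (Set.range f))
    (h : ∑ k, u k • dx A n f k = 0) :
    ∃ g ∈ Ideal.span (Set.range f), ∀ k, u k =
      Ideal.Quotient.mk (Ideal.span (Set.range f)) (pderiv k g) := by
  obtain ⟨g, hg, hgu⟩ := exists_of_rel (Algebra.Generators.naive (I := Ideal.span (Set.range f))) u h
  rw [Algebra.Generators.ker_naive] at hg
  exact ⟨g, hg, hgu⟩

/-- the derivative of an element of the ideal is a combination of the rows of the Jacobian -/
theorem exists_row (g : MvPolynomial (Fin n) A) (hg : g ∈ Ideal.span (Set.range f)) :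
    ∃ h : Fin n → MvPolynomial (Fin n) A ⧸ Ideal.span (Set.range f),
      ∀ k, Ideal.Quotient.mk (Ideal.span (Set.range f)) (pderiv k g) =
        ∑ i, h i * Ideal.Quotient.mk (Ideal.span (Set.range f)) (pderiv k (f i)) := by
  obtain ⟨c, rfl⟩ := (Ideal.mem_span_range_iff_exists_fun).1 hg
  refine ⟨fun i => Ideal.Quotient.mk _ (c i), fun k => ?_⟩
  rw [map_sum, map_sum]
  refine Finset.sum_congr rfl fun i _ => ?_
  rw [Derivation.leibniz, smul_eq_mul, smul_eq_mul, map_add, map_mul, map_mul]
  have : Ideal.Quotient.mk (Ideal.span (Set.range f)) (f i) = 0 :=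
    Ideal.Quotient.eq_zero_iff_mem.2 (Ideal.subset_span ⟨i, rfl⟩)
  rw [this, zero_mul, add_zero]

/-- relations among the `dx` are combinations of the rows of the Jacobian -/
theorem exists_row_of_rel (u : Fin n → MvPolynomial (Fin n) A ⧸ Ideal.span (Set.range f))
    (h : ∑ k, u k • dx A n f k = 0) :
    ∃ h : Fin n → MvPolynomial (Fin n) A ⧸ Ideal.span (Set.range f),
      ∀ k, u k = ∑ i, h i * Ideal.Quotient.mk (Ideal.span (Set.range f)) (pderiv k (f i)) := by
  obtain ⟨g, hg, hgu⟩ := exists_of_rel_naive A n f u h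
  obtain ⟨c, hc⟩ := exists_row A n f g hg
  exact ⟨c, fun k => by rw [hgu k, hc k]⟩

/-- the rows of the Jacobian are relations -/
theorem jac_rel (i : Fin n) :
    ∑ k, Ideal.Quotient.mk (Ideal.span (Set.range f)) (pderiv k (f i)) • dx A n f k = 0 := by
  rw [← D_mk]
  have : Ideal.Quotient.mk (Ideal.span (Set.range f)) (f i) = 0 :=
    Ideal.Quotient.eq_zero_iff_mem.2 (Ideal.subset_span ⟨i, rfl⟩)
  rw [this, map_zero]

end Naive

end Groth.Agent.Helper26.FitJac
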