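import Mathlib
import Groth.Prelude.Def_Fitting
import Groth.Agent.Lib.Helper26.FitJac1

/-!
# The zeroth Fitting ideal of the differentials of `A[x_1..x_n]/(f_1..f_n)`: main (helper26)
-/

set_option autoImplicit false
universe u

namespace Groth.Agent.Helper26.FitJac

open MvPolynomial KaehlerDifferential Matrix

section Abstract

variable {B : Type u} [CommRing B] {M : Type u} [AddCommGroup M] [Module B M]

/-- Invariance of the zeroth Fitting ideal, in the form needed: if the relations among the
generators `x` are spanned by the rows of `J`, then the determinant of any square matrix of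
relations among any generating family is a multiple of `det J`. -/
theorem det_mem_span_of_presentation {n m : ℕ} (x : Fin n → M) (J : Matrix (Fin n) (Fin n) B)
    (hx : Submodule.span B (Set.range x) = ⊤)
    (hJ : ∀ u : Fin n → B, ∑ k, u k • x k = 0 → ∃ h : Fin n → B, ∀ k, u k = ∑ i, h i * J i k)
    (y : Fin m → M) (a : Matrix (Fin m) (Fin m) B)
    (hy : Submodule.span B (Set.range y) = ⊤) (ha : ∀ i, ∑ j, a i j • y j = 0) :
    a.det ∈ Ideal.span {J.det} := by
  classical
  -- express each family in terms of the other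
  have hc : ∀ j, ∃ c : Fin n → B, ∑ k, c k • x k = y j := fun j =>
    (Submodule.mem_span_range_iff_exists_fun B).1 (hx ▸ Submodule.mem_top)
  have he : ∀ k, ∃ e : Fin m → B, ∑ j, e j • y j = x k := fun k =>
    (Submodule.mem_span_range_iff_exists_fun B).1 (hy ▸ Submodule.mem_top)
  choose c hc using hc
  choose e he using he
  set z : Fin n ⊕ Fin m → M := Sum.elim x y with hz
  set Gm : Matrix (Fin n ⊕ Fin m) (Fin n ⊕ Fin m) B :=
    fromBlocks J 0 (-(Matrix.of c)) 1 with hGm
  set Nm : Matrix (Fin n ⊕ Fin m) (Fin n ⊕ Fin m) B :=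
    fromBlocks 1 (-(Matrix.of e)) 0 a with hNm
  -- every relation on `z` is a combination of the rows of `Gm`
  have hrow : ∀ w : Fin n ⊕ Fin m → B, ∑ s, w s • z s = 0 → ∃ q : Fin n ⊕ Fin m → B,
      Matrix.vecMul q Gm = w := by
    intro w hw
    rw [Fintype.sum_sum_type] at hw
    simp only [hz, Sum.elim_inl, Sum.elim_inr] at hw
    have h1 : ∑ k, (w (Sum.inl k) + ∑ j, w (Sum.inr j) * c j k) • x k = 0 := by
      simp only [add_smul, Finset.sum_add_distrib, Finset.sum_smul]
      rw [Finset.sum_comm]
      have : ∀ j, ∑ k, (w (Sum.inr j) * c j k) • x k = w (Sum.inr j) • y j := by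
        intro j
        rw [← hc j, Finset.smul_sum]
        refine Finset.sum_congr rfl fun k _ => ?_
        rw [mul_smul]
      rw [Finset.sum_congr rfl fun j _ => this j]
      exact hw
    obtain ⟨h, hh⟩ := hJ _ h1
    refine ⟨Sum.elim h (fun j => w (Sum.inr j)), ?_⟩
    funext t
    rcases t with k | j'
    · rw [Matrix.vecMul, dotProduct, Fintype.sum_sum_type]
      simp only [hGm, Sum.elim_inl, Sum.elim_inr, fromBlocks_apply₁₁, fromBlocks_apply₂₁,
        Matrix.neg_apply, Matrix.of_apply, mul_neg, Finset.sum_neg_distrib]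
      rw [← hh k]
      ring
    · rw [Matrix.vecMul, dotProduct, Fintype.sum_sum_type]
      simp only [hGm, Sum.elim_inl, Sum.elim_inr, fromBlocks_apply₁₂, fromBlocks_apply₂₂,
        Matrix.zero_apply, mul_zero, Finset.sum_const_zero, zero_add, Matrix.one_apply,
        mul_ite, mul_one, Finset.sum_ite_eq', Finset.mem_univ, if_true]
  -- the rows of `Nm` are relations on `z`
  have hN : ∀ s, ∑ t, Nm s t • z t = 0 := by
    intro s
    rw [Fintype.sum_sum_type]
    rcases s with k | i
    · simp only [hNm, hz, Sum.elim_inl, Sum.elim_inr, fromBlocks_apply₁₁, fromBlocks_apply₁₂,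
        Matrix.neg_apply, Matrix.of_apply, Matrix.one_apply, ite_smul, one_smul, zero_smul,
        Finset.sum_ite_eq, Finset.mem_univ, if_true, neg_smul, Finset.sum_neg_distrib]
      rw [he k, add_neg_cancel]
    · simp only [hNm, hz, Sum.elim_inl, Sum.elim_inr, fromBlocks_apply₂₁, fromBlocks_apply₂₂,
        Matrix.zero_apply, zero_smul, Finset.sum_const_zero, zero_add]
      exact ha i
  choose Q hQ using fun s => hrow (Nm s) (hN s)
  have hprod : Nm = Matrix.of Q * Gm := by
    ext s t
    rw [← hQ s]
    rfl
  have hdetN : Nm.det = a.det := by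
    rw [hNm, Matrix.det_fromBlocks_zero₂₁, Matrix.det_one, one_mul]
  have hdetG : Gm.det = J.det := by
    rw [hGm, Matrix.det_fromBlocks_zero₁₂, Matrix.det_one, mul_one]
  rw [← hdetN, hprod, Matrix.det_mul, hdetG]
  exact Ideal.mul_mem_left _ _ (Ideal.subset_span rfl)

end Abstract

theorem main (A : Type u) [CommRing A] (n : ℕ) (f : Fin n → MvPolynomial (Fin n) A) :
    Fitt.ideal (MvPolynomial (Fin n) A ⧸ Ideal.span (Set.range f))
      (KaehlerDifferential A (MvPolynomial (Fin n) A ⧸ Ideal.span (Set.range f))) 0 =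
    Ideal.span {Ideal.Quotient.mk (Ideal.span (Set.range f))
      (Matrix.det (Matrix.of fun i j : Fin n => MvPolynomial.pderiv j (f i)))} := by
  set Jb : Matrix (Fin n) (Fin n) (MvPolynomial (Fin n) A ⧸ Ideal.span (Set.range f)) :=
    Matrix.of fun i j => Ideal.Quotient.mk (Ideal.span (Set.range f)) (pderiv j (f i)) with hJb
  have hdet : Ideal.Quotient.mk (Ideal.span (Set.range f))
      (Matrix.det (Matrix.of fun i j : Fin n => MvPolynomial.pderiv j (f i))) = Jb.det := by
    rw [RingHom.map_det]
    rfl
  rw [hdet]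
  apply le_antisymm
  · unfold Fitt.ideal
    rw [Ideal.span_le]
    rintro _ ⟨m, y, a, hy, ha, rfl⟩
    refine det_mem_span_of_presentation (dx A n f) Jb (span_dx A n f) ?_ y a hy ?_
    · intro u hu
      exact exists_row_of_rel A n f u hu
    · intro i
      exact ha i (by simp)
  · rw [Ideal.span_le, Set.singleton_subset_iff]
    refine Ideal.subset_span ⟨n, dx A n f, Jb, span_dx A n f, fun i _ => ?_, rfl⟩
    exact jac_rel A n f i

end Groth.Agent.Helper26.FitJac
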