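import Mathlib

/-! Flatness helpers: products, and kernels of surjections onto flat modules. -/

set_option autoImplicit false

namespace Groth.Agent.Helper26.FlatAux

open TensorProduct

universe u v

variable {R : Type u} [CommRing R]

theorem flat_prod (M N : Type v) [AddCommGroup M] [Module R M] [AddCommGroup N] [Module R N]
    [Module.Flat R M] [Module.Flat R N] : Module.Flat R (M × N) := by
  rw [Module.Flat.iff_rTensor_preserves_injective_linearMap]
  intro X' X _ _ _ _ f hf
  have hcomm : ∀ t : X' ⊗[R] (M × N),
      TensorProduct.prodRight R R X M N (f.rTensor (M × N) t) =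
        LinearMap.prodMap (f.rTensor M) (f.rTensor N) (TensorProduct.prodRight R R X' M N t) := by
    intro t
    induction t using TensorProduct.induction_on with
    | zero => simp only [map_zero]
    | tmul x m => simp
    | add a b ha hb =>
      rw [map_add, map_add, ha, hb, map_add, map_add]
  have hinj : Function.Injective (LinearMap.prodMap (f.rTensor M) (f.rTensor N)) := by
    rw [LinearMap.coe_prodMap]
    exact Function.Injective.prodMap (Module.Flat.rTensor_preserves_injective_linearMap f hf)
      (Module.Flat.rTensor_preserves_injective_linearMap f hf)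
  intro a b hab
  apply (TensorProduct.prodRight R R X' M N).injective
  apply hinj
  rw [← hcomm, ← hcomm, hab]

theorem flat_of_exact {M N P : Type v} [AddCommGroup M] [Module R M] [AddCommGroup N] [Module R N]
    [AddCommGroup P] [Module R P] [Module.Flat R N] [Module.Flat R P]
    (f : N →ₗ[R] P) (hf : Function.Surjective f) (g : M →ₗ[R] N) (hg : Function.Injective g)
    (H : Function.Exact g f) : Module.Flat R M := by
  rw [Module.Flat.iff_rTensor_preserves_injective_linearMap]
  intro X' X _ _ _ _ i hi
  have h1 : Function.Injective (g.lTensor X') :=
    LinearMap.lTensor_injective_of_exact_of_flat f hf g hg H X'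
  have h2 : Function.Injective (i.rTensor N) :=
    Module.Flat.rTensor_preserves_injective_linearMap i hi
  have hcomm : (g.lTensor X) ∘ₗ (i.rTensor M) = (i.rTensor N) ∘ₗ (g.lTensor X') := by
    rw [LinearMap.lTensor_comp_rTensor, LinearMap.rTensor_comp_lTensor]
  have h3 : Function.Injective ((g.lTensor X) ∘ₗ (i.rTensor M)) := by
    rw [hcomm]
    exact h2.comp h1
  exact Function.Injective.of_comp h3

end Groth.Agent.Helper26.FlatAux
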