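import Mathlib
import Groth.Prelude.Def_FlatMod2
import Groth.Agent.Lib.Helper12.FlatModBC1
import Groth.Agent.Lib.Helper12.FlatModBC2

set_option autoImplicit false
set_option linter.style.haveILetI false
universe u

open AlgebraicGeometry CategoryTheory Limits TensorProduct

namespace Groth.Agent.Helper26.FlatDiag

section Alg

theorem flat_of_bijective_up {R S M : Type u} [CommRing R] [CommRing S] [Algebra R S]
    (h : Function.Bijective (algebraMap R S)) [AddCommGroup M] [Module R M] [Module S M]
    [IsScalarTower R S M] [Module.Flat R M] : Module.Flat S M := by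
  have c1 : TensorProduct.CompatibleSMul R S S M := .of_algebraMap_surjective _ _ h.2
  refine Module.Flat.isBaseChange R S M M (f := LinearMap.id) ?_
  exact IsBaseChange.of_equiv (TensorProduct.lidOfCompatibleSMul R S M) (fun x => by
    simp [TensorProduct.lidOfCompatibleSMul_tmul])

theorem flat_of_bijective_down {R S M : Type u} [CommRing R] [CommRing S] [Algebra R S]
    (h : Function.Bijective (algebraMap R S)) [AddCommGroup M] [Module R M] [Module S M]
    [IsScalarTower R S M] [Module.Flat S M] : Module.Flat R M := by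
  have : Module.Flat R S := RingHom.flat_algebraMap_iff.mp (RingHom.Flat.of_bijective h)
  exact Module.Flat.trans R S M

attribute [local instance] Algebra.TensorProduct.rightAlgebra

theorem flat_of_diag {A B₁ B₂ D : Type u} [CommRing A] [CommRing B₁] [CommRing B₂] [CommRing D]
    [Algebra A B₁] [Algebra A B₂] (ψ : B₂ ⊗[A] B₁ →+* D) (hψ : ψ.Flat)
    (σ₁ : B₁ →+* D) (σ₂ : B₂ →+* D) (h1 : Function.Bijective σ₁) (h2 : Function.Bijective σ₂)
    (hψ' : ∀ a b, ψ (a ⊗ₜ b) = σ₂ a * σ₁ b)
    (M : Type u) [AddCommGroup M] [Module B₁ M] [Module A M] [IsScalarTower A B₁ M]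
    [Module.Flat A M] : Module.Flat B₁ M := by
  letI : Algebra B₂ D := σ₂.toAlgebra
  letI : Algebra B₁ D := σ₁.toAlgebra
  letI : Algebra (B₂ ⊗[A] B₁) D := ψ.toAlgebra
  haveI : IsScalarTower B₂ (B₂ ⊗[A] B₁) D := IsScalarTower.of_algebraMap_eq fun r => by
    change σ₂ r = ψ (r ⊗ₜ 1)
    rw [hψ', map_one, mul_one]
  haveI : IsScalarTower B₁ (B₂ ⊗[A] B₁) D := IsScalarTower.of_algebraMap_eq fun r => by
    change σ₁ r = ψ (1 ⊗ₜ r)
    rw [hψ', map_one, one_mul]
  haveI : Module.Flat (B₂ ⊗[A] B₁) D := hψ
  have key : Module.Flat B₂ (D ⊗[B₁] M) :=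
    Groth.Agent.Helper12.FlatModBC.flat_baseChange_of_flat_pushout (A := A) (C := B₂ ⊗[A] B₁) M
  have k2 : Module.Flat D (D ⊗[B₁] M) := flat_of_bijective_up (R := B₂) h2
  have k3 : Module.Flat B₁ (D ⊗[B₁] M) := flat_of_bijective_down (S := D) h1
  let e : B₁ ≃ₗ[B₁] D := LinearEquiv.ofBijective (Algebra.linearMap B₁ D) h1
  exact Module.Flat.of_linearEquiv
    ((TensorProduct.congr e (LinearEquiv.refl B₁ M)).symm ≪≫ₗ TensorProduct.lid B₁ M).symm

end Alg

section Sch

open Groth.Agent.Helper12.FlatModBC

theorem isIso_fst {X Y : Scheme.{u}} (f : X ⟶ Y) (x : X) :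
    IsIso ((pullback.fst f f).stalkMap ((pullback.diagonal f) x) ≫
      (pullback.diagonal f).stalkMap x) := by
  have : IsIso (pullback.diagonal f ≫ pullback.fst f f) := by
    rw [pullback.diagonal_fst]; infer_instance
  have : IsOpenImmersion (pullback.diagonal f ≫ pullback.fst f f) := inferInstance
  have h : IsIso ((pullback.diagonal f ≫ pullback.fst f f).stalkMap x) := inferInstance
  rw [Scheme.Hom.stalkMap_comp] at h
  exact h

theorem isIso_snd {X Y : Scheme.{u}} (f : X ⟶ Y) (x : X) :
    IsIso ((pullback.snd f f).stalkMap ((pullback.diagonal f) x) ≫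
      (pullback.diagonal f).stalkMap x) := by
  have : IsIso (pullback.diagonal f ≫ pullback.snd f f) := by
    rw [pullback.diagonal_snd]; infer_instance
  have : IsOpenImmersion (pullback.diagonal f ≫ pullback.snd f f) := inferInstance
  have h : IsIso ((pullback.diagonal f ≫ pullback.snd f f).stalkMap x) := inferInstance
  rw [Scheme.Hom.stalkMap_comp] at h
  exact h

theorem main {X Y : Scheme.{u}} (f : X ⟶ Y) [Flat (pullback.diagonal f)] (F : X.Modules)
    (hF : FlatMod.IsFlatOver f F) : FlatMod.IsFlat F := by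
  intro x
  have hc : IsPullback (pullback.fst f f) (pullback.snd f f) f f := IsPullback.of_hasPullback f f
  set x' := (pullback.diagonal f) x with hx'
  have hpt : (pullback.fst f f) x' = x := by
    rw [hx', ← Scheme.Hom.comp_apply, pullback.diagonal_fst]; rfl
  have goal' : FlatMod.IsFlatAt F ((pullback.fst f f) x') := by
    have hFx := hF ((pullback.fst f f) x')
    letI iAA' : Algebra (Y.presheaf.stalk (f ((pullback.fst f f) x')))
        (X.presheaf.stalk ((pullback.snd f f) x')) := (gam hc x').hom.toAlgebra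
    letI iAB : Algebra (Y.presheaf.stalk (f ((pullback.fst f f) x')))
        (X.presheaf.stalk ((pullback.fst f f) x')) :=
      (f.stalkMap ((pullback.fst f f) x')).hom.toAlgebra
    obtain ⟨φ, hφ, hφflat⟩ := flat_tensor_stalk hc x'
    letI iAM : Module (Y.presheaf.stalk (f ((pullback.fst f f) x')))
        (F.presheaf.stalk ((pullback.fst f f) x')) :=
      FlatMod.moduleStalkOver f F ((pullback.fst f f) x')
    haveI : IsScalarTower (Y.presheaf.stalk (f ((pullback.fst f f) x')))
        (X.presheaf.stalk ((pullback.fst f f) x'))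
        (F.presheaf.stalk ((pullback.fst f f) x')) :=
      IsScalarTower.of_algebraMap_smul fun r x => rfl
    haveI : Module.Flat (Y.presheaf.stalk (f ((pullback.fst f f) x')))
        (F.presheaf.stalk ((pullback.fst f f) x')) := hFx
    have hδ : ((pullback.diagonal f).stalkMap x).hom.Flat := Flat.stalkMap _ x
    have hiso1 : IsIso ((pullback.fst f f).stalkMap x' ≫ (pullback.diagonal f).stalkMap x) :=
      isIso_fst f x
    have hiso2 : IsIso ((pullback.snd f f).stalkMap x' ≫ (pullback.diagonal f).stalkMap x) :=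
      isIso_snd f x
    refine flat_of_diag (A := Y.presheaf.stalk (f ((pullback.fst f f) x')))
      (((pullback.diagonal f).stalkMap x).hom.comp φ) (RingHom.Flat.comp hφflat hδ)
      (((pullback.diagonal f).stalkMap x).hom.comp ((pullback.fst f f).stalkMap x').hom)
      (((pullback.diagonal f).stalkMap x).hom.comp ((pullback.snd f f).stalkMap x').hom)
      (ConcreteCategory.bijective_of_isIso _) (ConcreteCategory.bijective_of_isIso _)
      (fun a b => ?_) (F.presheaf.stalk ((pullback.fst f f) x'))
    simp only [RingHom.comp_apply, hφ, map_mul]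
  rw [hpt] at goal'
  exact goal'

end Sch

end Groth.Agent.Helper26.FlatDiag
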