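import Mathlib
import Groth.Agent.Lib.Helper6.TorBalance
import Groth.Agent.Lib.Helper21.TorKos

set_option autoImplicit false

open CategoryTheory Category Limits MonoidalCategory ChainComplex HomologicalComplex

namespace Groth.Agent.Helper26.FlatResTor

universe u
variable {R : Type u} [CommRing R]

section
variable {X : ModuleCat.{u} R} (F : ChainComplex (ModuleCat.{u} R) ℕ)
  (φ : F ⟶ (ChainComplex.single₀ (ModuleCat.{u} R)).obj X) [QuasiIso φ]

include φ in
lemma exactAt_succ (n : ℕ) : F.ExactAt (n + 1) := by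
  rw [← quasiIsoAt_iff_exactAt' φ (n + 1) (exactAt_succ_single_obj _ _)]
  infer_instance

include φ in
lemma exact_succ (n : ℕ) : (ShortComplex.mk _ _ (F.d_comp_d (n + 2) (n + 1) n)).Exact :=
  ((HomologicalComplex.exactAt_iff' _ (n + 2) (n + 1) n) (by simp only [ChainComplex.prev]; rfl)
    (by simp)).1 (exactAt_succ F φ n)

omit [QuasiIso φ] in
lemma d_comp_f_zero : F.d 1 0 ≫ φ.f 0 = 0 := by
  rw [← φ.comm 1 0, single_obj_d, comp_zero]

noncomputable def cokernelCofork : CokernelCofork (F.d 1 0) :=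
  CokernelCofork.ofπ _ (d_comp_f_zero F φ)

set_option backward.isDefEq.respectTransparency.types false in
set_option backward.defeqAttrib.useBackward true in
noncomputable def isColimitCokernelCofork : IsColimit (cokernelCofork F φ) := by
  refine IsColimit.ofIsoColimit (F.opcyclesIsCokernel 1 0 (by simp)) ?_
  refine Cofork.ext (F.isoHomologyι₀.symm ≪≫ isoOfQuasiIsoAt φ 0 ≪≫
    singleObjHomologySelfIso _ _ _) ?_
  rw [← cancel_mono (singleObjHomologySelfIso (ComplexShape.down ℕ) 0 _).inv,
    ← cancel_mono (isoHomologyι₀ _).hom]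
  dsimp [cokernelCofork]
  simp only [isoHomologyι₀_inv_naturality_assoc, p_opcyclesMap_assoc, single₀_obj_zero, assoc,
    Iso.hom_inv_id, comp_id, isoHomologyι_inv_hom_id, singleObjHomologySelfIso_inv_homologyι,
    singleObjOpcyclesSelfIso_hom, single₀ObjXSelf, Iso.refl_inv, id_comp]

noncomputable def flatRes (hF : ∀ i, Module.Flat R (F.X i)) :
    Groth.Agent.Helper6.TorBalance.FlatRes X where
  F k := F.X k
  d k := F.d (k + 1) k
  ε := φ.f 0
  flat := hF
  epi := epi_of_isColimit_cofork (isColimitCokernelCofork F φ)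
  d_ε := d_comp_f_zero F φ
  d_d _ := F.d_comp_d _ _ _
  ex0 := ShortComplex.exact_of_g_is_cokernel _ (isColimitCokernelCofork F φ)
  ex k := exact_succ F φ k

end

theorem main (M N : ModuleCat.{u} R) (F : ChainComplex (ModuleCat.{u} R) ℕ)
    (hF : ∀ i : ℕ, Module.Flat R (F.X i))
    (φ : F ⟶ (ChainComplex.single₀ (ModuleCat.{u} R)).obj M) [QuasiIso φ] (i : ℕ) :
    Nonempty ((((tensorRight N).mapHomologicalComplex (ComplexShape.down ℕ)).obj F).homology i ≅
      ((Tor' (ModuleCat.{u} R) i).obj M).obj N) := by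
  cases i with
  | zero =>
    let C := ((tensorRight N).mapHomologicalComplex (ComplexShape.down ℕ)).obj F
    have e1 : C.homology 0 ≅ C.opcycles 0 := ChainComplex.isoHomologyι₀ C
    have hc : IsColimit ((cokernelCofork F φ).map (tensorRight N)) :=
      (cokernelCofork F φ).mapIsColimit (isColimitCokernelCofork F φ) (tensorRight N)
    have e2 : C.opcycles 0 ≅ (tensorRight N).obj M :=
      IsColimit.coconePointUniqueUpToIso (C.opcyclesIsCokernel 1 0 (by simp)) hc
    have e3 : ((Tor' (ModuleCat.{u} R) 0).obj M).obj N ≅ (tensorRight N).obj M :=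
      (Functor.leftDerivedZeroIsoSelf (tensorRight N)).app M
    exact ⟨e1 ≪≫ e2 ≪≫ e3.symm⟩
  | succ n =>
    obtain ⟨e⟩ := Groth.Agent.Helper6.TorBalance.nonempty_tor_iso_homology N n M (flatRes F φ hF)
    obtain ⟨e'⟩ := Groth.Agent.Helper21.TK.nonempty_tor'_iso_tor M N (n + 1)
    refine ⟨(HomologicalComplex.homologyIsoSc'
      (((tensorRight N).mapHomologicalComplex (ComplexShape.down ℕ)).obj F) (n + 2) (n + 1) n
      (ChainComplex.prev ℕ (n + 1)) (by simp)) ≪≫ e.symm ≪≫ e'.symm⟩

end Groth.Agent.Helper26.FlatResTor
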