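import Mathlib
open TensorProduct

namespace Groth.Agent.Lib.Helper26.Flatten

section general
variable {R : Type*} [CommRing R]

/-- If `F → P` is surjective with `P` flat then `ker ∩ 𝔍F = 𝔍 ker`. -/
theorem ker_mem_smul_of_flat {F P : Type*} [AddCommGroup F] [Module R F] [AddCommGroup P]
    [Module R P] [Module.Flat R P] (g : F →ₗ[R] P) (hg : Function.Surjective g) (𝔍 : Ideal R)
    (z : F) (hz : z ∈ LinearMap.ker g) (hz' : z ∈ 𝔍 • (⊤ : Submodule R F)) :
    (⟨z, hz⟩ : LinearMap.ker g) ∈ 𝔍 • (⊤ : Submodule R (LinearMap.ker g)) := by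
  have hinj := LinearMap.lTensor_injective_of_exact_of_flat g hg (LinearMap.ker g).subtype
    Subtype.val_injective (LinearMap.exact_subtype_ker_map g) (R ⧸ 𝔍)
  have h0 : ((LinearMap.ker g).subtype.lTensor (R ⧸ 𝔍)) ((1 : R ⧸ 𝔍) ⊗ₜ (⟨z, hz⟩ : LinearMap.ker g)) = 0 := by
    rw [LinearMap.lTensor_tmul, Submodule.subtype_apply]
    apply (TensorProduct.quotTensorEquivQuotSMul F 𝔍).injective
    rw [TensorProduct.quotTensorEquivQuotSMul_mk_one_tmul, map_zero,
      Submodule.Quotient.mk_eq_zero]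
    exact hz'
  have h1 : ((1 : R ⧸ 𝔍) ⊗ₜ[R] (⟨z, hz⟩ : LinearMap.ker g)) = 0 := hinj (by rw [h0, map_zero])
  have h2 := congrArg (TensorProduct.quotTensorEquivQuotSMul (LinearMap.ker g) 𝔍) h1
  rw [TensorProduct.quotTensorEquivQuotSMul_mk_one_tmul, map_zero,
    Submodule.Quotient.mk_eq_zero] at h2
  exact h2

theorem ker_lTensor {F N : Type*} [AddCommGroup F] [Module R F]
    [AddCommGroup N] [Module R N]
    (π : F →ₗ[R] N) (hπs : Function.Surjective π) (A' : Type*) [CommRing A'] [Algebra R A']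
    (z : A' ⊗[R] F) (hz : LinearMap.lTensor A' π z = 0) :
    ∃ w, LinearMap.lTensor A' (LinearMap.ker π).subtype w = z := by
  have h1 : Function.Exact (LinearMap.ker π).subtype π := LinearMap.exact_subtype_ker_map π
  exact (lTensor_exact A' h1 hπs z).mp hz

/-- nilpotent Nakayama, form 1 -/
theorem eq_zero_of_top_le_smul_top {M : Type*} [AddCommMonoid M] [Module R M] (𝔍 : Ideal R)
    (n : ℕ) (hn : 𝔍 ^ n = ⊥) (h : (⊤ : Submodule R M) ≤ 𝔍 • (⊤ : Submodule R M)) (x : M) :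
    x = 0 := by
  have key : ∀ i : ℕ, (⊤ : Submodule R M) ≤ 𝔍 ^ i • (⊤ : Submodule R M) := by
    intro i
    induction i with
    | zero => simp
    | succ i ih =>
      calc (⊤ : Submodule R M) ≤ 𝔍 ^ i • (⊤ : Submodule R M) := ih
        _ ≤ 𝔍 ^ i • (𝔍 • (⊤ : Submodule R M)) := Submodule.smul_mono le_rfl h
        _ = 𝔍 ^ (i + 1) • (⊤ : Submodule R M) := by rw [← Submodule.smul_assoc, pow_succ]; rfl
  have := key n (Submodule.mem_top : x ∈ ⊤)
  rw [hn, Submodule.bot_smul] at this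
  exact this

/-- nilpotent Nakayama, form 2 -/
theorem eq_top_of_sup_smul_top {M : Type*} [AddCommGroup M] [Module R M] (𝔍 : Ideal R)
    (n : ℕ) (hn : 𝔍 ^ n = ⊥) (P : Submodule R M)
    (h : (⊤ : Submodule R M) ≤ P ⊔ 𝔍 • (⊤ : Submodule R M)) : P = ⊤ := by
  have key : ∀ i : ℕ, (⊤ : Submodule R M) ≤ P ⊔ 𝔍 ^ i • (⊤ : Submodule R M) := by
    intro i
    induction i with
    | zero => simp
    | succ i ih =>
      calc (⊤ : Submodule R M) ≤ P ⊔ 𝔍 ^ i • (⊤ : Submodule R M) := ih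
        _ ≤ P ⊔ 𝔍 ^ i • (P ⊔ 𝔍 • (⊤ : Submodule R M)) :=
            sup_le_sup_left (Submodule.smul_mono le_rfl h) _
        _ = P ⊔ (𝔍 ^ i • P ⊔ 𝔍 ^ i • (𝔍 • (⊤ : Submodule R M))) := by rw [Submodule.smul_sup]
        _ ≤ P ⊔ 𝔍 ^ (i + 1) • (⊤ : Submodule R M) := by
            rw [← Submodule.smul_assoc, ← sup_assoc]
            apply sup_le_sup _ (le_of_eq (by rw [pow_succ]; rfl))
            exact sup_le le_rfl Submodule.smul_le_right
  have := key n
  rw [hn, Submodule.bot_smul, sup_bot_eq] at this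
  exact top_le_iff.mp this

end general

end Groth.Agent.Lib.Helper26.Flatten
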