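import Mathlib
import Groth.Agent.Lib.Helper26.Flatten1
open TensorProduct

namespace Groth.Agent.Lib.Helper26.Flatten

universe u v

section cover
variable {R : Type u} [CommRing R] (m : Ideal R) [hm : m.IsMaximal]
variable (N : Type v) [AddCommGroup N] [Module R N]

/-- A minimal free cover of a module over a ring with nilpotent maximal ideal. -/
theorem exists_cover (n : ℕ) (hn : m ^ n = ⊥) :
    ∃ (J : Type v) (π : (J →₀ R) →ₗ[R] N), Function.Surjective π ∧
      ∀ x ∈ LinearMap.ker π, ∀ j, x j ∈ m := by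
  classical
  let k := R ⧸ m
  let _ : Field k := Ideal.Quotient.field m
  let V := N ⧸ (m • ⊤ : Submodule R N)
  let J := Module.Free.ChooseBasisIndex k V
  let b : Module.Basis J k V := Module.Free.chooseBasis k V
  have hsurjQ := Submodule.mkQ_surjective (m • ⊤ : Submodule R N)
  choose ν hν using fun j : J => hsurjQ (b j)
  let π : (J →₀ R) →ₗ[R] N := Finsupp.linearCombination R ν
  have hπ : ∀ l : J →₀ R, (Submodule.Quotient.mk (π l) : V) =
      Finsupp.linearCombination k b (Finsupp.mapRange (Ideal.Quotient.mk m) (map_zero _) l) := by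
    intro l
    induction l using Finsupp.induction_linear with
    | zero => simp
    | add f g hf hg =>
      rw [map_add, Submodule.Quotient.mk_add, hf, hg, Finsupp.mapRange_add (map_add _), map_add]
    | single j r =>
      rw [Finsupp.mapRange_single, Finsupp.linearCombination_single,
        Finsupp.linearCombination_single, ← hν j]
      rfl
  refine ⟨J, π, ?_, ?_⟩
  · -- surjectivity
    have hP : LinearMap.range π = ⊤ := by
      apply eq_top_of_sup_smul_top m n hn
      intro x _
      obtain ⟨l, hl⟩ := Finsupp.mapRange_surjective (Ideal.Quotient.mk m) (map_zero _)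
        Ideal.Quotient.mk_surjective (b.repr (Submodule.Quotient.mk x))
      have h1 : (Submodule.Quotient.mk (π l) : V) = Submodule.Quotient.mk x := by
        rw [hπ, hl, b.linearCombination_repr]
      have h2 : x - π l ∈ (m • ⊤ : Submodule R N) := by
        rw [← Submodule.Quotient.mk_eq_zero, Submodule.Quotient.mk_sub, h1, sub_self]
      have : x = π l + (x - π l) := by abel
      rw [this]
      exact Submodule.add_mem_sup (LinearMap.mem_range_self π l) h2
    exact LinearMap.range_eq_top.mp hP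
  · intro x hx j
    have h1 : Finsupp.linearCombination k b
        (Finsupp.mapRange (Ideal.Quotient.mk m) (map_zero _) x) = 0 := by
      rw [← hπ, LinearMap.mem_ker.mp hx, Submodule.Quotient.mk_zero]
    have h2 := linearIndependent_iff.mp b.linearIndependent _ h1
    have h3 := DFunLike.congr_fun h2 j
    rw [Finsupp.mapRange_apply, Finsupp.zero_apply] at h3
    exact Ideal.Quotient.eq_zero_iff_mem.mp h3

end cover


section localthm
variable {R : Type u} [CommRing R]

section abstract
variable {J : Type*} {F : Type*} [AddCommGroup F] [Module R F] (b : Module.Basis J R F)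

/-- the image of `A' ⊗ K → A' ⊗ F` lies in `𝔍 • ⊤` when coordinates of `K` lie in `m`. -/
theorem tmul_mem_smul_top (A' : Type*) [CommRing A'] [Algebra R A'] (m : Ideal R)
    (x : F) (hx : ∀ j, b.repr x j ∈ m) (a : A') :
    (a ⊗ₜ[R] x : A' ⊗[R] F) ∈
      (m.map (algebraMap R A')) • (⊤ : Submodule A' (A' ⊗[R] F)) := by
  classical
  rw [← b.linearCombination_repr x, Finsupp.linearCombination_apply, Finsupp.sum,
    TensorProduct.tmul_sum]
  refine Submodule.sum_mem _ fun j _ => ?_
  have : (a ⊗ₜ[R] (b.repr x j • b j) : A' ⊗[R] F) =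
      (algebraMap R A' (b.repr x j)) • (a ⊗ₜ[R] b j) := by
    rw [TensorProduct.smul_tmul', Algebra.algebraMap_eq_smul_one, smul_assoc, one_smul,
      TensorProduct.smul_tmul]
  rw [this]
  exact Submodule.smul_mem_smul (Ideal.mem_map_of_mem _ (hx j)) Submodule.mem_top

theorem tmul_eq_zero_of_map_eq_bot (A' : Type*) [CommRing A'] [Algebra R A']
    (I : Ideal R) (hI : I.map (algebraMap R A') = ⊥)
    (x : F) (hx : ∀ j, b.repr x j ∈ I) (a : A') :
    (a ⊗ₜ[R] x : A' ⊗[R] F) = 0 := by
  have := tmul_mem_smul_top b A' I x hx a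
  rw [hI, Submodule.bot_smul] at this
  exact this

/-- coordinate functional on `A' ⊗ F` -/
noncomputable def coord (A' : Type*) [CommRing A'] [Algebra R A'] (j : J) :
    A' ⊗[R] F →ₗ[R] A' :=
  (TensorProduct.rid R A').toLinearMap ∘ₗ (LinearMap.lTensor A' (b.coord j))

theorem coord_tmul (A' : Type*) [CommRing A'] [Algebra R A'] (j : J) (a : A')
    (x : F) : coord b A' j (a ⊗ₜ[R] x) = b.repr x j • a := by
  simp [coord]

theorem flattening_of_cover (m : Ideal R) (n : ℕ) (hn : m ^ n = ⊥)
    {N : Type*} [AddCommGroup N] [Module R N] (π : F →ₗ[R] N) (hπs : Function.Surjective π)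
    (hπk : ∀ x ∈ LinearMap.ker π, ∀ j, b.repr x j ∈ m) :
    ∃ I : Ideal R, ∀ (A' : Type v) [CommRing A'] [Algebra R A'],
      Module.Flat A' (A' ⊗[R] N) ↔ I.map (algebraMap R A') = ⊥ := by
  classical
  have hfree : Module.Free R F := Module.Free.of_basis b
  let I : Ideal R := Ideal.span {r | ∃ x ∈ LinearMap.ker π, ∃ j, b.repr x j = r}
  have hKI : ∀ x ∈ LinearMap.ker π, ∀ j, b.repr x j ∈ I :=
    fun x hx j => Ideal.subset_span ⟨x, hx, j, rfl⟩
  refine ⟨I, fun A' _ _ => ?_⟩
  obtain ⟨π', hπ'⟩ : ∃ π' : A' ⊗[R] F →ₗ[A'] A' ⊗[R] N, π' = π.baseChange A' := ⟨_, rfl⟩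
  have hπ'apply : ∀ z, π' z = LinearMap.lTensor A' π z := fun z => by rw [hπ']; rfl
  have hπ's : Function.Surjective π' := by
    rw [hπ']; exact LinearMap.lTensor_surjective A' hπs
  constructor
  · -- flat ⇒ I A' = 0
    intro hflat
    rw [Ideal.map_eq_bot_iff_le_ker, Ideal.span_le]
    rintro r ⟨x, hx, j, rfl⟩
    let 𝔍 : Ideal A' := m.map (algebraMap R A')
    have h𝔍 : 𝔍 ^ n = ⊥ := by
      rw [← Ideal.map_pow, hn, Ideal.map_bot]
    -- ker π' ≤ 𝔍 • ⊤
    have hK' : ∀ z ∈ LinearMap.ker π', z ∈ 𝔍 • (⊤ : Submodule A' (A' ⊗[R] F)) := by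
      intro z hz
      rw [LinearMap.mem_ker, hπ'apply] at hz
      obtain ⟨w, rfl⟩ := ker_lTensor π hπs A' z hz
      clear hz
      induction w using TensorProduct.induction_on with
      | zero => simp
      | tmul a y =>
        rw [LinearMap.lTensor_tmul]
        exact tmul_mem_smul_top b A' m y.1 (hπk y.1 y.2) a
      | add w1 w2 h1 h2 =>
        rw [map_add]; exact Submodule.add_mem _ h1 h2
    have htop : (⊤ : Submodule A' (LinearMap.ker π')) ≤ 𝔍 • (⊤ : Submodule A' (LinearMap.ker π')) := by
      rintro ⟨z, hz⟩ _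
      exact ker_mem_smul_of_flat π' hπ's 𝔍 z hz (hK' z hz)
    have hz0 : ∀ z : LinearMap.ker π', z = 0 := eq_zero_of_top_le_smul_top 𝔍 n h𝔍 htop
    have hx1 : ((1 : A') ⊗ₜ[R] x : A' ⊗[R] F) ∈ LinearMap.ker π' := by
      rw [LinearMap.mem_ker, hπ'apply, LinearMap.lTensor_tmul, LinearMap.mem_ker.mp hx,
        TensorProduct.tmul_zero]
    have hx2 : ((1 : A') ⊗ₜ[R] x : A' ⊗[R] F) = 0 := congrArg Subtype.val (hz0 ⟨_, hx1⟩)
    have hx3 := congrArg (coord b A' j) hx2
    rw [coord_tmul, map_zero, ← Algebra.algebraMap_eq_smul_one] at hx3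
    exact hx3
  · -- I A' = 0 ⇒ flat
    intro hI
    have hinj : Function.Injective π' := by
      rw [injective_iff_map_eq_zero]
      intro z hz
      rw [hπ'apply] at hz
      obtain ⟨w, rfl⟩ := ker_lTensor π hπs A' z hz
      clear hz
      induction w using TensorProduct.induction_on with
      | zero => simp
      | tmul a y =>
        rw [LinearMap.lTensor_tmul]
        exact tmul_eq_zero_of_map_eq_bot b A' I hI y.1 (hKI y.1 y.2) a
      | add w1 w2 h1 h2 =>
        rw [map_add, h1, h2, add_zero]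
    let e : A' ⊗[R] F ≃ₗ[A'] A' ⊗[R] N := LinearEquiv.ofBijective π' ⟨hinj, hπ's⟩
    exact Module.Flat.of_linearEquiv e.symm

end abstract

theorem local_flattening (m : Ideal R) [hm : m.IsMaximal] (n : ℕ) (hn : m ^ n = ⊥)
    (N : Type u) [AddCommGroup N] [Module R N] :
    ∃ I : Ideal R, ∀ (A' : Type v) [CommRing A'] [Algebra R A'],
      Module.Flat A' (A' ⊗[R] N) ↔ I.map (algebraMap R A') = ⊥ := by
  obtain ⟨J, π, hπs, hπk⟩ := exists_cover m N n hn
  exact flattening_of_cover (Finsupp.basisSingleOne) m n hn π hπs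
    (fun x hx j => by simpa using hπk x hx j)

end localthm

end Groth.Agent.Lib.Helper26.Flatten
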