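import Mathlib
import Groth.Agent.Lib.Helper26.Flatten2
open TensorProduct

namespace Groth.Agent.Lib.Helper26.Flatten

universe u v

/-- Flattening ideal for algebras killed by a power of a maximal ideal. -/
theorem flattening_at_max {A : Type u} [CommRing A] (m : Ideal A) [hm : m.IsMaximal] (n : ℕ)
    (hn0 : 0 < n) (N : Type u) [AddCommGroup N] [Module A N] :
    ∃ Im : Ideal A, m ^ n ≤ Im ∧ ∀ (A'' : Type v) [CommRing A''] [Algebra A A''],
      (m ^ n).map (algebraMap A A'') = ⊥ →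
        (Module.Flat A'' (A'' ⊗[A] N) ↔ Im.map (algebraMap A A'') = ⊥) := by
  let Ā := A ⧸ m ^ n
  let mk : A →+* Ā := Ideal.Quotient.mk (m ^ n)
  have hmk : Function.Surjective mk := Ideal.Quotient.mk_surjective
  let m' : Ideal Ā := m.map mk
  have hker : RingHom.ker mk ≤ m := by
    rw [Ideal.mk_ker]; exact Ideal.pow_le_self hn0.ne'
  have hm' : m'.IsMaximal := Ideal.IsMaximal.map_of_surjective_of_ker_le hmk hker
  have hm'n : m' ^ n = ⊥ := by
    rw [← Ideal.map_pow, Ideal.map_quotient_self]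
  obtain ⟨Ī, hĪ⟩ := local_flattening.{u, v} m' n hm'n (Ā ⊗[A] N)
  refine ⟨Ī.comap mk, ?_, ?_⟩
  · have : m ^ n = RingHom.ker mk := (Ideal.mk_ker (I := m ^ n)).symm
    intro a ha
    rw [this] at ha
    exact Ideal.ker_le_comap mk ha
  · intro A'' _ _ hA''
    -- A'' is an Ā-algebra
    have hle : m ^ n ≤ RingHom.ker (algebraMap A A'') := (Ideal.map_eq_bot_iff_le_ker _).mp hA''
    let φ : Ā →+* A'' := Ideal.Quotient.lift (m ^ n) (algebraMap A A'') (fun a ha => hle ha)
    let _ : Algebra Ā A'' := φ.toAlgebra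
    have hφ : ∀ a, algebraMap Ā A'' (mk a) = algebraMap A A'' a := fun a => rfl
    have : IsScalarTower A Ā A'' := IsScalarTower.of_algebraMap_eq (fun a => (hφ a).symm)
    have h1 := hĪ A''
    let e : A'' ⊗[Ā] (Ā ⊗[A] N) ≃ₗ[A''] A'' ⊗[A] N :=
      TensorProduct.AlgebraTensorModule.cancelBaseChange A Ā A'' A'' N
    have h2 : Module.Flat A'' (A'' ⊗[Ā] (Ā ⊗[A] N)) ↔ Module.Flat A'' (A'' ⊗[A] N) :=
      ⟨fun _ => Module.Flat.of_linearEquiv e.symm, fun _ => Module.Flat.of_linearEquiv e⟩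
    have h3 : Ī.map (algebraMap Ā A'') = (Ī.comap mk).map (algebraMap A A'') := by
      conv_lhs => rw [← Ideal.map_comap_of_surjective mk hmk Ī]
      rw [Ideal.map_map]
      rfl
    rw [← h2, h1, h3]

end Groth.Agent.Lib.Helper26.Flatten
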