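import Mathlib
import Groth.Agent.Lib.Helper26.Flatten3
open TensorProduct

namespace Groth.Agent.Lib.Helper26.Flatten

universe u

section helpers
variable {A : Type u} [CommRing A]

/-- an element of `A'` vanishing in all localizations at maximal ideals is zero -/
theorem eq_zero_of_forall_localization {A' : Type*} [CommRing A'] (x : A')
    (h : ∀ (q : Ideal A') [q.IsMaximal], algebraMap A' (Localization.AtPrime q) x = 0) : x = 0 := by
  by_contra hx
  let 𝔞 : Ideal A' := LinearMap.ker (LinearMap.toSpanSingleton A' A' x)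
  have h𝔞 : 𝔞 ≠ ⊤ := by
    intro htop
    have : (1 : A') ∈ 𝔞 := htop ▸ Submodule.mem_top
    rw [LinearMap.mem_ker, LinearMap.toSpanSingleton_apply, one_smul] at this
    exact hx this
  obtain ⟨q, hq, hle⟩ := Ideal.exists_le_maximal 𝔞 h𝔞
  have h0 := h q
  rw [IsLocalization.map_eq_zero_iff q.primeCompl] at h0
  obtain ⟨s, hs⟩ := h0
  have : (s : A') ∈ 𝔞 := by
    rw [LinearMap.mem_ker, LinearMap.toSpanSingleton_apply, smul_eq_mul]
    exact hs
  exact s.2 (hle this)


theorem exists_sep (s : Finset (Ideal A)) (hs : ∀ m' ∈ s, m'.IsMaximal) (m : Ideal A)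
    (hm : m.IsMaximal) (n : ℕ) :
    ∃ t : A, t ∉ m ∧ t ∈ ∏ m' ∈ s.erase m, m' ^ n := by
  classical
  have hex : ∀ m' : Ideal A, ∃ t : A, m' ∈ s.erase m → (t ∈ m' ∧ t ∉ m) := by
    intro m'
    by_cases hm' : m' ∈ s.erase m
    · have hne : m' ≠ m := (Finset.mem_erase.mp hm').1
      have hmax : m'.IsMaximal := hs m' (Finset.mem_erase.mp hm').2
      have hnle : ¬ m' ≤ m := fun hle => hne (hmax.eq_of_le hm.ne_top hle)
      obtain ⟨t, ht, htm⟩ := Set.not_subset.mp hnle
      exact ⟨t, fun _ => ⟨ht, htm⟩⟩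
    · exact ⟨0, fun h => absurd h hm'⟩
  choose τ hτ using hex
  refine ⟨∏ m' ∈ s.erase m, τ m' ^ n, ?_, ?_⟩
  · intro hmem
    have hp : m.IsPrime := hm.isPrime
    obtain ⟨m', hm', hmem'⟩ := (hp.prod_mem_iff).mp hmem
    exact (hτ m' hm').2 (hp.mem_of_pow_mem n hmem')
  · exact Ideal.prod_mem_prod fun m' hm' => Ideal.pow_mem_pow (hτ m' hm').1 n

end helpers


theorem flattening_artinian {A : Type u} [CommRing A] [IsArtinianRing A]
    (N : Type u) [AddCommGroup N] [Module A N] :
    ∃ I : Ideal A, ∀ (A' : Type u) [CommRing A'] [Algebra A A'],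
      Module.Flat A' (A' ⊗[A] N) ↔ I.map (algebraMap A A') = ⊥ := by
  classical
  obtain ⟨n0, hn0⟩ := IsArtinianRing.isNilpotent_jacobson_bot (R := A)
  let n := n0 + 1
  have hnpos : 0 < n := Nat.succ_pos n0
  have hfin : {I : Ideal A | I.IsMaximal}.Finite := IsArtinianRing.setOfPred_isMaximal_finite A
  let s : Finset (Ideal A) := hfin.toFinset
  have hs : ∀ m' ∈ s, m'.IsMaximal := fun m' hm' => by simpa [s] using hm'
  have hs' : ∀ m' : Ideal A, m'.IsMaximal → m' ∈ s := fun m' hm' => by simpa [s] using hm'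
  -- product of the powers is zero
  have hprod : ∏ m' ∈ s, m' ^ n = (⊥ : Ideal A) := by
    rw [Finset.prod_pow]
    have h1 : ∏ m' ∈ s, m' ≤ Ideal.jacobson (⊥ : Ideal A) := by
      refine le_trans Ideal.prod_le_inf ?_
      refine le_sInf fun J hJ => ?_
      exact Finset.inf_le (f := id) (hs' J hJ.2)
    have h2 : (∏ m' ∈ s, m') ^ n ≤ (Ideal.jacobson (⊥ : Ideal A)) ^ n := Ideal.pow_right_mono h1 n
    have h3 : (Ideal.jacobson (⊥ : Ideal A)) ^ n = ⊥ := by
      show (Ideal.jacobson (⊥ : Ideal A)) ^ (n0 + 1) = ⊥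
      rw [pow_succ, hn0, Ideal.zero_eq_bot, Ideal.bot_mul]
    exact le_bot_iff.mp (h3 ▸ h2)
  -- local ideals
  have hloc : ∀ m : Ideal A, ∃ Im : Ideal A, m.IsMaximal → (m ^ n ≤ Im ∧
      ∀ (A'' : Type u) [CommRing A''] [Algebra A A''],
      (m ^ n).map (algebraMap A A'') = ⊥ →
        (Module.Flat A'' (A'' ⊗[A] N) ↔ Im.map (algebraMap A A'') = ⊥)) := by
    intro m
    by_cases hm : m.IsMaximal
    · obtain ⟨Im, h⟩ := flattening_at_max.{u, u} m n hnpos N
      exact ⟨Im, fun _ => h⟩
    · exact ⟨⊤, fun h => absurd h hm⟩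
  choose Im hIm using hloc
  refine ⟨s.inf Im, fun A' _ _ => ?_⟩
  -- local data at a maximal ideal q of A'
  have hlocal : ∀ (q : Ideal A') [q.IsMaximal],
      (Module.Flat (Localization.AtPrime q) (LocalizedModule q.primeCompl (A' ⊗[A] N)) ↔
        ∀ x ∈ s.inf Im, algebraMap A' (Localization.AtPrime q) (algebraMap A A' x) = 0) := by
    intro q hq
    let Aq := Localization.AtPrime q
    have hAq : ∀ a : A, algebraMap A Aq a = algebraMap A' Aq (algebraMap A A' a) :=
      fun a => IsScalarTower.algebraMap_apply A A' Aq a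
    let m : Ideal A := q.comap (algebraMap A A')
    have hmp : m.IsPrime := Ideal.IsPrime.comap _
    have hm : m.IsMaximal := IsArtinianRing.isMaximal_of_isPrime m
    obtain ⟨t, htm, ht⟩ := exists_sep s hs m hm n
    have htunit : IsUnit (algebraMap A Aq t) := by
      rw [hAq]
      exact IsLocalization.map_units Aq (⟨algebraMap A A' t, htm⟩ : q.primeCompl)
    have hkill : (m ^ n).map (algebraMap A Aq) = ⊥ := by
      rw [Ideal.map_eq_bot_iff_le_ker]
      intro x hx
      rw [RingHom.mem_ker]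
      have h1 : x * t ∈ ∏ m' ∈ s, m' ^ n := by
        rw [← Finset.mul_prod_erase s _ (hs' m hm)]
        exact Ideal.mul_mem_mul hx ht
      rw [hprod, Ideal.mem_bot] at h1
      have h2 : algebraMap A Aq x * algebraMap A Aq t = 0 := by rw [← map_mul, h1, map_zero]
      exact (htunit.mul_left_eq_zero).mp h2
    have h1 := (hIm m hm).2 Aq hkill
    -- identify the modules
    let e1 : Aq ⊗[A'] (A' ⊗[A] N) ≃ₗ[Aq] LocalizedModule q.primeCompl (A' ⊗[A] N) :=
      (IsLocalizedModule.isBaseChange q.primeCompl Aq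
        (LocalizedModule.mkLinearMap q.primeCompl (A' ⊗[A] N))).equiv
    let e2 : Aq ⊗[A'] (A' ⊗[A] N) ≃ₗ[Aq] Aq ⊗[A] N :=
      TensorProduct.AlgebraTensorModule.cancelBaseChange A A' Aq Aq N
    have h2 : Module.Flat Aq (LocalizedModule q.primeCompl (A' ⊗[A] N)) ↔
        Module.Flat Aq (Aq ⊗[A] N) :=
      ⟨fun _ => Module.Flat.of_linearEquiv (e2.symm.trans e1),
        fun _ => Module.Flat.of_linearEquiv (e1.symm.trans e2)⟩
    rw [h2, h1, Ideal.map_eq_bot_iff_le_ker]
    constructor
    · intro h x hx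
      have hx' : x ∈ Im m := (Finset.inf_le (hs' m hm) : s.inf Im ≤ Im m) hx
      exact h hx'
    · intro h y hy
      rw [RingHom.mem_ker]
      have hyt : y * t ∈ s.inf Im := by
        rw [Finset.inf_eq_iInf, Ideal.mem_iInf]
        intro m''
        rw [Ideal.mem_iInf]
        intro hm''
        by_cases heq : m'' = m
        · rw [heq]; exact Ideal.mul_mem_right _ _ hy
        · have hmax'' := hs m'' hm''
          apply (hIm m'' hmax'').1
          have : ∏ m' ∈ s.erase m, m' ^ n ≤ m'' ^ n := by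
            have hmem : m'' ∈ s.erase m := Finset.mem_erase.mpr ⟨heq, hm''⟩
            rw [← Finset.mul_prod_erase (s.erase m) _ hmem]
            exact Ideal.mul_le_left
          exact Ideal.mul_mem_left _ _ (this ht)
      have h3 := h (y * t) hyt
      rw [← hAq, map_mul] at h3
      exact (htunit.mul_left_eq_zero).mp h3
  constructor
  · intro hflat
    rw [Ideal.map_eq_bot_iff_le_ker]
    intro x hx
    rw [RingHom.mem_ker]
    apply eq_zero_of_forall_localization
    intro q hq
    exact (hlocal q).mp inferInstance x hx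
  · intro hI
    rw [Ideal.map_eq_bot_iff_le_ker] at hI
    apply Module.flat_of_localized_maximal
    intro q hq
    have hx : ∀ x ∈ s.inf Im, algebraMap A' (Localization.AtPrime q) (algebraMap A A' x) = 0 := by
      intro x hx
      rw [RingHom.mem_ker.mp (hI hx), map_zero]
    have := (hlocal q).mpr hx
    exact (Module.flat_iff_of_isLocalization (Localization.AtPrime q) q.primeCompl _).mp this

end Groth.Agent.Lib.Helper26.Flatten
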