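import Mathlib
import Groth.Prelude.Def_FrobAlg

set_option autoImplicit false
set_option linter.unusedSectionVars false
universe u

namespace Groth.Agent.Helper26.FrobComp

open FrobAlg TensorProduct

variable (p : ℕ) [Fact p.Prime] (A : Type u) [CommRing A] [CharP A p]

theorem smul_twist (a : A) (t : Twist p A) : a • t = toTwist p A (a ^ p) * t := by
  rw [Algebra.smul_def]; rfl

theorem symm_smul (a : A) (t : Twist p A) :
    (toTwist p A).symm (a • t) = a ^ p * (toTwist p A).symm t := by
  rw [smul_twist, map_mul, RingEquiv.symm_apply_apply]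

theorem symm_mem_of_mem_smul_top (I : Ideal A) (n : ℕ) {t : Twist p A}
    (ht : t ∈ (I ^ n • ⊤ : Submodule A (Twist p A))) : (toTwist p A).symm t ∈ I ^ n := by
  refine Submodule.smul_induction_on ht ?_ ?_
  · intro r hr t _
    rw [symm_smul]
    apply Ideal.mul_mem_right
    exact Ideal.pow_mem_of_mem _ hr p (Fact.out : p.Prime).pos
  · intro x y hx hy
    rw [map_add]; exact Ideal.add_mem _ hx hy

instance [h : IsNoetherianRing A] : IsNoetherianRing (Twist p A) := h

theorem exists_pow_le [IsNoetherianRing A] (I : Ideal A) :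
    ∃ N : ℕ, 0 < N ∧ ∀ n : ℕ, ∀ a ∈ I ^ (N * n),
      toTwist p A a ∈ (I ^ n • ⊤ : Submodule A (Twist p A)) := by
  let K : Ideal (Twist p A) := I.map (algebraMap A (Twist p A))
  let J : Ideal (Twist p A) := I.map (toTwist p A : A →+* Twist p A)
  have hJK : J ≤ K.radical := by
    rw [Ideal.map_le_iff_le_comap]
    intro i hi
    rw [Ideal.mem_comap]
    refine ⟨p, ?_⟩
    have : (toTwist p A : A →+* Twist p A) i ^ p = algebraMap A (Twist p A) i := by
      rw [algebraMap_twist, map_pow]; rfl
    rw [this]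
    exact Ideal.mem_map_of_mem _ hi
  obtain ⟨N, hN⟩ := Ideal.exists_pow_le_of_le_radical_of_fg_radical hJK
    (IsNoetherian.noetherian _)
  refine ⟨N + 1, Nat.succ_pos N, ?_⟩
  intro n a ha
  have h1 : toTwist p A a ∈ J ^ ((N + 1) * n) := by
    rw [← Ideal.map_pow]
    exact Ideal.mem_map_of_mem _ ha
  have h2 : J ^ ((N + 1) * n) ≤ K ^ n := by
    rw [pow_mul]
    apply Ideal.pow_right_mono
    exact (Ideal.pow_le_pow_right (Nat.le_succ N)).trans hN
  have h3 : (I ^ n • ⊤ : Submodule A (Twist p A)) =
      ((I ^ n).map (algebraMap A (Twist p A))).restrictScalars A := Ideal.smul_top_eq_map _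
  rw [h3, Submodule.restrictScalars_mem, Ideal.map_pow]
  exact h2 h1

end Groth.Agent.Helper26.FrobComp
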