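import Mathlib
import Groth.Prelude.Def_FrobAlg
import Groth.Agent.Lib.Helper26.FrobComp1

set_option autoImplicit false
set_option linter.unusedSectionVars false
universe u

namespace Groth.Agent.Helper26.FrobComp

open FrobAlg TensorProduct

variable (p : ℕ) [Fact p.Prime] (A : Type u) [CommRing A] [CharP A p]

theorem relFrob_tmul (B : Type u) [CommRing B] [Algebra A B] [CharP B p] (b : B) (t : Twist p A) :
    relFrob p A B (b ⊗ₜ[A] t) = b ^ p * algebraMap A B ((toTwist p A).symm t) := by
  unfold relFrob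
  simp only [RingHom.coe_comp, Function.comp_apply, AlgHom.toRingHom_eq_coe, RingHom.coe_coe,
    Algebra.TensorProduct.lift_tmul]
  rfl

variable (I : Ideal A)

/-- the level-`n` relation between `T ⧸ Iⁿ T` and `A ⧸ Iⁿ` -/
def Rel (n : ℕ) (y : Twist p A ⧸ (I ^ n • ⊤ : Submodule A (Twist p A))) (x : A ⧸ I ^ n) : Prop :=
  ∃ t : Twist p A, y = Submodule.Quotient.mk t ∧ x = Ideal.Quotient.mk (I ^ n) ((toTwist p A).symm t)

theorem Rel.add {n : ℕ} {y y' : Twist p A ⧸ (I ^ n • ⊤ : Submodule A (Twist p A))}
    {x x' : A ⧸ I ^ n} (h : Rel p A I n y x) (h' : Rel p A I n y' x') :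
    Rel p A I n (y + y') (x + x') := by
  obtain ⟨t, rfl, rfl⟩ := h
  obtain ⟨t', rfl, rfl⟩ := h'
  exact ⟨t + t', rfl, by rw [map_add, map_add]⟩

theorem Rel.zero (n : ℕ) : Rel p A I n 0 0 := ⟨0, rfl, by simp⟩

theorem star [CharP (AdicCompletion I A) p] (z : AdicCompletion I A ⊗[A] Twist p A) (n : ℕ) :
    Rel p A I n ((AdicCompletion.ofTensorProduct I (Twist p A) z).val n)
      (AdicCompletion.evalₐ I n (relFrob p A (AdicCompletion I A) z)) := by
  induction z using TensorProduct.induction_on with
  | zero =>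
    rw [map_zero, map_zero, map_zero]
    exact Rel.zero p A I n
  | tmul b t =>
    obtain ⟨β, rfl⟩ := AdicCompletion.mk_surjective I A b
    refine ⟨β n • t, ?_, ?_⟩
    · rw [AdicCompletion.ofTensorProduct_tmul]
      rfl
    · rw [relFrob_tmul, map_mul, map_pow, AdicCompletion.evalₐ_mk, symm_smul, map_mul, map_pow,
        AdicCompletion.algebraMap_apply, AdicCompletion.evalₐ_of]
      rfl
  | add z z' hz hz' =>
    rw [map_add, map_add, map_add]
    exact hz.add p A I hz'

theorem mem_pow_of_smodEq {a b : A} {n : ℕ}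
    (h : a ≡ b [SMOD (I ^ n • ⊤ : Submodule A A)]) : a - b ∈ I ^ n := by
  have := SModEq.sub_mem.1 h
  simpa using this

theorem main [IsNoetherianRing A] [Module.Finite A (Twist p A)] [CharP (AdicCompletion I A) p] :
    Function.Bijective (relFrob p A (AdicCompletion I A)) := by
  have hbij := AdicCompletion.ofTensorProduct_bijective_of_finite_of_isNoetherian I (Twist p A)
  obtain ⟨N, hNpos, hN⟩ := exists_pow_le p A I
  constructor
  · rw [injective_iff_map_eq_zero]
    intro z hz
    apply hbij.1
    rw [map_zero]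
    apply AdicCompletion.ext
    intro n
    rw [AdicCompletion.val_zero_apply]
    have hle : n ≤ N * n := Nat.le_mul_of_pos_left n hNpos
    have hcompat := AdicCompletion.transitionMap_comp_eval_apply I (Twist p A) hle
      (AdicCompletion.ofTensorProduct I (Twist p A) z)
    obtain ⟨t, ht1, ht2⟩ := star p A I z (N * n)
    rw [hz, map_zero] at ht2
    have ht3 : (toTwist p A).symm t ∈ I ^ (N * n) := Ideal.Quotient.eq_zero_iff_mem.1 ht2.symm
    have ht4 := hN n _ ht3
    rw [RingEquiv.apply_symm_apply] at ht4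
    rw [← hcompat, ht1]
    exact (Submodule.Quotient.mk_eq_zero _).2 ht4
  · intro x
    obtain ⟨a, rfl⟩ := AdicCompletion.mk_surjective I A x
    have hcauchy : AdicCompletion.IsAdicCauchy I (Twist p A)
        (fun n => toTwist p A (a (N * n))) := by
      intro m n hmn
      rw [SModEq.sub_mem, ← map_sub]
      apply hN m
      exact mem_pow_of_smodEq A I (a.property (Nat.mul_le_mul_left N hmn))
    let tseq : AdicCompletion.AdicCauchySequence I (Twist p A) :=
      ⟨fun n => toTwist p A (a (N * n)), hcauchy⟩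
    obtain ⟨z, hz⟩ := hbij.2 (AdicCompletion.mk I _ tseq)
    refine ⟨z, ?_⟩
    apply AdicCompletion.ext_evalₐ
    intro n
    obtain ⟨t, ht1, ht2⟩ := star p A I z n
    rw [hz] at ht1
    have h5 : toTwist p A (a (N * n)) - t ∈ (I ^ n • ⊤ : Submodule A (Twist p A)) :=
      (Submodule.Quotient.eq _).1 ht1
    have h6 := symm_mem_of_mem_smul_top p A I n h5
    rw [map_sub, RingEquiv.symm_apply_apply] at h6
    have hle : n ≤ N * n := Nat.le_mul_of_pos_left n hNpos
    have h7 : a n - a (N * n) ∈ I ^ n := mem_pow_of_smodEq A I (a.property hle)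
    rw [ht2, AdicCompletion.evalₐ_mk, Ideal.Quotient.eq]
    have : (toTwist p A).symm t - a n =
        -((a (N * n) - (toTwist p A).symm t)) - (a n - a (N * n)) := by ring
    rw [this]
    exact Ideal.sub_mem _ (Ideal.neg_mem_iff _ |>.2 h6) h7

end Groth.Agent.Helper26.FrobComp
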