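import Mathlib
import Groth.Prelude.Def_Frob

set_option autoImplicit false
universe u
open CategoryTheory AlgebraicGeometry

namespace Groth.Agent.Lib.Helper26.FrobEpi

set_option backward.isDefEq.respectTransparency false in
/-- A quasi-compact morphism which is a topological embedding with dense... : toImage is epi as soon as
toImage is inducing and surjective on points. -/
theorem epi_toImage_of {X Y : Scheme.{u}} (f : X ⟶ Y) [QuasiCompact f]
    (hind : Topology.IsInducing f.toImage.base) (hsurj : Function.Surjective f.toImage.base) :
    Epi f.toImage := by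
  apply CategoryTheory.Functor.epi_of_epi_map (Scheme.forgetToLocallyRingedSpace)
  apply CategoryTheory.Functor.epi_of_epi_map (LocallyRingedSpace.forgetToSheafedSpace)
  apply SheafedSpace.epi_of_base_surjective_of_stalk_mono _ hsurj
  intro x
  apply ConcreteCategory.mono_of_injective
  change Function.Injective (CommRingCat.Hom.hom (((TopCat.Presheaf.stalkFunctor CommRingCat
      (f.toImage x)).map f.toImage.c) ≫ X.presheaf.stalkPushforward _ _ x))
  simp only [TopCat.Presheaf.stalkFunctor_obj, CommRingCat.hom_comp, RingHom.coe_comp]
  refine .comp ?_ (f.stalkFunctor_toImage_injective _)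
  have := TopCat.Presheaf.stalkPushforward.stalkPushforward_iso_of_isInducing CommRingCat
      (f := f.toImage.base) hind X.presheaf x
  exact ((ConcreteCategory.isIso_iff_bijective _).mp this).1

theorem main (p : ℕ) [Fact p.Prime] (Y : Scheme.{u}) [FrobSch.IsCharP Y p] :
    Epi (FrobSch.frob Y p).toImage := by
  have hqc : QuasiCompact (FrobSch.frob Y p) := by
    constructor
    intro U hU hc
    exact hc
  have hcomp : (FrobSch.frob Y p).toImage.base ≫ (FrobSch.frob Y p).imageι.base = 𝟙 _ := by
    rw [← Scheme.Hom.comp_base, Scheme.Hom.toImage_imageι, FrobSch.frob_base]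
  have hfun : ∀ y, (FrobSch.frob Y p).imageι ((FrobSch.frob Y p).toImage y) = y := by
    intro y
    have := congrArg (fun g => g.hom y) hcomp
    simpa using this
  refine epi_toImage_of _ ?_ ?_
  · refine Topology.IsInducing.of_comp (FrobSch.frob Y p).toImage.continuous
      (FrobSch.frob Y p).imageι.continuous ?_
    have : ((FrobSch.frob Y p).imageι.base ∘ (FrobSch.frob Y p).toImage.base) = id := by
      funext y; exact hfun y
    rw [this]
    exact Topology.IsInducing.id
  · intro z
    refine ⟨(FrobSch.frob Y p).imageι z, ?_⟩
    apply (FrobSch.frob Y p).imageι.isEmbedding.injective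
    exact hfun _

end Groth.Agent.Lib.Helper26.FrobEpi
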