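import Mathlib
import Groth.Prelude.Def_Curv2
import Groth.Agent.Lib.Helper13.CurveRR3
import Groth.Agent.Lib.Helper13.Retract
import Groth.Agent.Lib.Helper13.LocFree4
import Groth.Agent.Lib.Helper9.ResVan
import Groth.Agent.Lib.Helper24.DegMono
import Groth.Agent.S9514

/-!
# Invertible modules of degree `≥ 2g` on an integral proper curve are globally generated (helper26)

Duality-free: `L₁ ⊆ L` the submodule generated by a basis of global sections; the pairing argument
of helper13 (with `G = O`) shows `H¹(L₁) = 0`, so `χ(L₁) = χ(L)` and `L₁ = L`.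
-/

set_option autoImplicit false
set_option maxHeartbeats 1600000
set_option linter.style.haveILetI false
set_option linter.unusedSectionVars false
set_option linter.unusedVariables false
universe u
open CategoryTheory CategoryTheory.Limits AlgebraicGeometry Opposite TopologicalSpace

namespace Groth.Agent.Helper26.GGDeg

open Groth.Agent.Helper13.CurveSV Groth.Agent.Helper3.CurveHopf Groth.Agent.Helper26.DualFun
open Groth.Agent.Helper13.CurveRR Groth.Agent.Helper13.QCoh Groth.Agent.Helper13.FinType
open Groth.Agent.Helper13.ToAbExact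

variable (k : Type u) [Field k] (X : Scheme.{u}) [X.Over (Spec (CommRingCat.of k))]
  [IsIntegral X] [IsProper (X ↘ Spec (CommRingCat.of k))]

/-- the pairing lemma of helper13 with the surjectivity on `H¹` as a hypothesis. -/
theorem finrank_H0_le_finrank_H1' (G : X.Modules) (M : X.Modules)
    [Module.Finite k (Coh.HH X G 1)]
    (hs : ∀ t : Coh.structureModule X ⟶ M, t ≠ 0 →
      Function.Surjective (Canon.HHlin k (mulBy G t) 1))
    (hne : Nontrivial (Coh.HH X (CohB1.tensorMod G M) 1)) :
    Module.finrank k (Coh.HH X M 0) ≤ Module.finrank k (Coh.HH X G 1) := by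
  obtain ⟨v, hv⟩ := exists_ne (0 : Coh.HH X (CohB1.tensorMod G M) 1)
  haveI hfree : Module.Free k (Coh.HH X (CohB1.tensorMod G M) 1) :=
    Module.Free.of_divisionRing k _
  haveI hproj : Module.Projective k (Coh.HH X (CohB1.tensorMod G M) 1) :=
    Module.Projective.of_free
  obtain ⟨ω, hω⟩ : ∃ ω : Module.Dual k (Coh.HH X (CohB1.tensorMod G M) 1), ω v ≠ 0 := by
    by_contra hcon
    push Not at hcon
    exact hv ((Module.forall_dual_apply_eq_zero_iff k v).1 hcon)
  let Ψ : Coh.HH X M 0 →ₗ[k] Module.Dual k (Coh.HH X G 1) :=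
    ((mulB k X G M).flip).compr₂ ω
  have hinj : Function.Injective Ψ := by
    rw [injective_iff_map_eq_zero]
    intro t ht
    by_contra htne
    have hs' := hs (secHom M t) (secHom_ne_zero M t htne)
    obtain ⟨ξ, hξ⟩ := hs' v
    apply hω
    have h1 : Ψ t ξ = 0 := by rw [ht]; rfl
    have h2 : Ψ t ξ = ω (Canon.HHlin k (mulBy G (secHom M t)) 1 ξ) := rfl
    rw [h2, hξ] at h1
    exact h1
  have hle := LinearMap.finrank_le_finrank_of_injective hinj
  rwa [Subspace.dual_finrank_eq] at hle

/-- multiplication by a nonzero section of a submodule of an invertible module is surjective on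
`H¹`. -/
theorem HHlin_mulBy_surjective' (hdim : topologicalKrullDim X = 1) (N : X.Modules)
    [N.IsQuasicoherent] (M : X.Modules) [M.IsQuasicoherent] (L : X.Modules)
    (hL : PicF.IsInvertible L) (j : M ⟶ L) [Mono j]
    (t : Coh.structureModule X ⟶ M) (ht : t ≠ 0) :
    Function.Surjective (Canon.HHlin k (mulBy N t) 1) := by
  have hO : PicF.IsInvertible (Coh.structureModule X) :=
    Groth.Agent.Helper13.Inv.isInvertible_structureModule
  have htj : t ≫ j ≠ 0 := fun h => ht ((cancel_mono j).1 (by rw [h, zero_comp]))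
  have hTcl : IsClosed (CohB1.support (cokernel (t ≫ j))) :=
    Groth.Agent.S0020.result X _
      (Groth.Agent.Helper13.CurveDeg.isCoh_cokernel X _ L hO hL (t ≫ j)).2
  have hTne : CohB1.support (cokernel (t ≫ j)) ≠ Set.univ := fun h =>
    Groth.Agent.Helper13.CurveDeg.genericPoint_notMem_support_cokernel _ L hO hL (t ≫ j) htj
      (h ▸ Set.mem_univ _)
  haveI : (CohB1.tensorMod N M).IsQuasicoherent := inferInstance
  refine HHlin_one_surjective k X hdim.le (mulBy N t) _ hTcl
    (fun x hx => Groth.Agent.Helper13.CurveVan.isClosed_singleton_of_mem_closed hdim.le _ hTcl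
      hTne x hx) (fun x hx => ?_)
  apply stalkMap_mulBy_surjective
  have h1 : Function.Surjective (stalkMap (t ≫ j) x) :=
    stalkMap_surjective_of_stalk_cokernel _ x (not_not.1 hx)
  have h2 : Function.Injective (stalkMap j x) := (mono_iff_stalk_injective j).1 inferInstance x
  intro m
  obtain ⟨a, ha⟩ := h1 (stalkMap j x m)
  refine ⟨a, h2 ?_⟩
  rw [← ha, Groth.Agent.Helper13.SerreCrit.stalkMap_comp']

/-- naturality of `e0`. -/
theorem e0_HHlin {M L : X.Modules} (j : M ⟶ L) (u : Coh.HH X M 0) :
    e0 L (Canon.HHlin k j 0 u) = j.app ⊤ (e0 M u) := by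
  rw [Groth.Agent.Helper26.DualFun.HHlin_apply']
  have h1 := Sheaf.H.equiv₀_naturality (T := (⊤ : Opens X)) isTerminalTop
    ((toAbF X).map j) u
  exact h1.symm

include k in
/-- transfer of nontriviality of `H¹` along `O ⊗ M ≅ M`. -/
theorem nontrivial_H1_unit_tensor (M : X.Modules) (hM : Coh.IsCoh M)
    (h : Nontrivial (Coh.HH X M 1)) :
    Nontrivial (Coh.HH X (CohB1.tensorMod (Coh.structureModule X) M) 1) := by
  haveI : Module.Finite k (Coh.HH X M 1) :=
    Groth.Agent.Helper13.FinProj.finite_HH_of_isProper k X M hM 1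
  have hfr := Groth.Agent.Helper26.HomVan.finrank_HH_of_iso k (Groth.Agent.Helper13.Tensor.lid M) 1
  have hpos : 0 < Module.finrank k (Coh.HH X M 1) := Module.finrank_pos
  rw [← hfr] at hpos
  by_contra hcon
  rw [not_nontrivial_iff_subsingleton] at hcon
  rw [Module.finrank_zero_of_subsingleton] at hpos
  exact lt_irrefl _ hpos

/-- every section class is hit from the image of the evaluation map. -/
theorem main (hdim : topologicalKrullDim X = 1)
    (h0 : Module.finrank k (Coh.HH X (Coh.structureModule X) 0) = 1)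
    (L : X.Modules) (hL : PicF.IsInvertible L)
    (hdeg : 2 * (Curv2.genus k X : ℤ) ≤ Curv2.deg k X L 1) :
    Curv2.IsGloballyGenerated L := by
  haveI : IsNoetherian X := Groth.Agent.Lead.EulerK0.isNoetherian_of_proper' k X
  have hO : PicF.IsInvertible (Coh.structureModule X) :=
    Groth.Agent.Helper13.Inv.isInvertible_structureModule
  have hLc : Coh.IsCoh L := Groth.Agent.Helper13.CurveDeg.isCoh_of_isInvertible L hL
  haveI := hLc.1
  have hOc : Coh.IsCoh (Coh.structureModule X) :=
    Groth.Agent.Helper13.CohRoof.isCoh_structureModule X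
  haveI := hOc.1
  haveI hfinO : Module.Finite k (Coh.HH X (Coh.structureModule X) 1) :=
    Groth.Agent.Helper13.FinProj.finite_HH_of_isProper k X _ hOc 1
  haveI hfinL0 : Module.Finite k (Coh.HH X L 0) :=
    Groth.Agent.Helper13.FinProj.finite_HH_of_isProper k X _ hLc 0
  haveI hfinL1 : Module.Finite k (Coh.HH X L 1) :=
    Groth.Agent.Helper13.FinProj.finite_HH_of_isProper k X _ hLc 1
  have hχO := euler_structure k X hdim h0
  have hχL := Groth.Agent.Helper13.CurveVan.euler_eq_sub k X hdim.le L
  have hdegL : Curv2.deg k X L 1 =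
      Curv2.euler k X L - Curv2.euler k X (Coh.structureModule X) := by
    unfold Curv2.deg
    push_cast
    ring
  have hgen : (Curv2.genus k X : ℤ) =
      (Module.finrank k (Coh.HH X (Coh.structureModule X) 1) : ℤ) := rfl
  -- Step A: `H¹(L) = 0`
  have hH1L : Subsingleton (Coh.HH X L 1) := by
    by_contra hcon
    rw [not_subsingleton_iff_nontrivial] at hcon
    have hne := nontrivial_H1_unit_tensor k X L hLc hcon
    have hle := finrank_H0_le_finrank_H1 k X hdim (Coh.structureModule X) L hL hne
    have h1pos : 0 < Module.finrank k (Coh.HH X L 1) := Module.finrank_pos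
    have hle' : (Module.finrank k (Coh.HH X L 0) : ℤ) ≤
        (Module.finrank k (Coh.HH X (Coh.structureModule X) 1) : ℤ) := by exact_mod_cast hle
    have h1pos' : (1 : ℤ) ≤ (Module.finrank k (Coh.HH X L 1) : ℤ) := by exact_mod_cast h1pos
    linarith
  have hh0L : (Module.finrank k (Coh.HH X L 0) : ℤ) =
      Curv2.deg k X L 1 + 1 - (Curv2.genus k X : ℤ) := by
    have h2 : Module.finrank k (Coh.HH X L 1) = 0 := Module.finrank_zero_of_subsingleton
    rw [hdegL, hχL, hχO, h2]
    push_cast
    ring
  have hnpos : 0 < Module.finrank k (Coh.HH X L 0) := by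
    have hg0 : (0 : ℤ) ≤ (Curv2.genus k X : ℤ) := Int.natCast_nonneg _
    have : (0 : ℤ) < (Module.finrank k (Coh.HH X L 0) : ℤ) := by linarith
    exact_mod_cast this
  -- Step B: the evaluation map on a basis of sections
  let b := Module.finBasis k (Coh.HH X L 0)
  let s : Fin (Module.finrank k (Coh.HH X L 0)) → Γ(L, ⊤) := fun i => e0 L (b i)
  let ev : FlatMod.freeMod X (Module.finrank k (Coh.HH X L 0)) ⟶ L :=
    Groth.Agent.Helper13.LocFree.descSec L s
  let j : Abelian.image ev ⟶ L := Abelian.image.ι ev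
  let q : FlatMod.freeMod X (Module.finrank k (Coh.HH X L 0)) ⟶ Abelian.image ev :=
    Abelian.factorThruImage ev
  have hfac : q ≫ j = ev := Abelian.image.fac ev
  haveI hjm : Mono j := inferInstanceAs (Mono (Abelian.image.ι ev))
  haveI hqe : Epi q := inferInstanceAs (Epi (Abelian.factorThruImage ev))
  have hFc : Coh.IsCoh (FlatMod.freeMod X (Module.finrank k (Coh.HH X L 0))) :=
    Groth.Agent.Helper9.ResVan.isCoh_of_isFinLocFree _
      (Groth.Agent.Helper13.LocFree.isFinLocFree_freeMod _)
  have hCc : Coh.IsCoh (cokernel ev) := (Groth.Agent.S9514.result X hFc hLc ev).2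
  have hL'c : Coh.IsCoh (Abelian.image ev) :=
    (Groth.Agent.S9514.result X hLc hCc (cokernel.π ev)).1
  haveI := hL'c.1
  haveI hfinL'0 : Module.Finite k (Coh.HH X (Abelian.image ev) 0) :=
    Groth.Agent.Helper13.FinProj.finite_HH_of_isProper k X _ hL'c 0
  haveI hfinL'1 : Module.Finite k (Coh.HH X (Abelian.image ev) 1) :=
    Groth.Agent.Helper13.FinProj.finite_HH_of_isProper k X _ hL'c 1
  -- the sections `O ⟶ image`
  have hti : ∀ i, (Groth.Agent.Helper13.LocFree.ι _ i ≫ q) ≫ j = secHom L (b i) := by
    intro i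
    rw [Category.assoc, hfac, Groth.Agent.Helper13.LocFree.ι_descSec]
    rfl
  -- Step C: `H⁰(image) → H⁰(L)` is surjective
  have hsurj0 : Function.Surjective (Canon.HHlin k j 0) := by
    have hrange : ∀ i, b i ∈ LinearMap.range (Canon.HHlin k j 0) := by
      intro i
      refine ⟨(e0 (Abelian.image ev)).symm
        ((Groth.Agent.Helper13.LocFree.ι _ i ≫ q).app ⊤
          (Groth.Agent.Helper13.LocFree.toO ⊤ 1)), ?_⟩
      apply (e0 L).injective
      rw [e0_HHlin, AddEquiv.apply_symm_apply]
      have h4 : j.app ⊤ ((Groth.Agent.Helper13.LocFree.ι _ i ≫ q).app ⊤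
          (Groth.Agent.Helper13.LocFree.toO ⊤ 1)) =
          ((Groth.Agent.Helper13.LocFree.ι _ i ≫ q) ≫ j).app ⊤
            (Groth.Agent.Helper13.LocFree.toO ⊤ 1) := rfl
      rw [h4, hti i]
      have h2 := Groth.Agent.Helper13.LocFree.homOfSec_app_one L (e0 L (b i)) ⊤
      have h3 : L.presheaf.map (homOfLE (le_top : (⊤ : X.Opens) ≤ ⊤)).op (e0 L (b i)) =
          e0 L (b i) := by
        have : (homOfLE (le_top : (⊤ : X.Opens) ≤ ⊤)).op = 𝟙 _ := rfl
        rw [this, L.presheaf.map_id]
        rfl
      rw [h3] at h2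
      exact h2
    intro u
    have hu : u ∈ Submodule.span k (Set.range b) := by
      rw [b.span_eq]
      trivial
    have hle : Submodule.span k (Set.range b) ≤ LinearMap.range (Canon.HHlin k j 0) := by
      rw [Submodule.span_le]
      rintro _ ⟨i, rfl⟩
      exact hrange i
    exact LinearMap.mem_range.1 (hle hu)
  have hge : Module.finrank k (Coh.HH X L 0) ≤
      Module.finrank k (Coh.HH X (Abelian.image ev) 0) :=
    LinearMap.finrank_le_finrank_of_surjective hsurj0
  -- Step D: the generic stalk of the cokernel of `j` vanishes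
  have hb0 : b ⟨0, hnpos⟩ ≠ 0 := b.ne_zero _
  have ht0j : (Groth.Agent.Helper13.LocFree.ι _ ⟨0, hnpos⟩ ≫ q) ≫ j ≠ 0 := by
    rw [hti]
    exact secHom_ne_zero L _ hb0
  have hgenQ : Subsingleton ((cokernel j).presheaf.stalk (genericPoint X)) := by
    apply stalk_cokernel_subsingleton j (genericPoint X)
    have h1 := Groth.Agent.Helper13.CurveDeg.stalkMap_genericPoint_surjective
      (Coh.structureModule X) L hO hL _ ht0j
    intro m
    obtain ⟨a, ha⟩ := h1 m
    refine ⟨stalkMap (Groth.Agent.Helper13.LocFree.ι _ ⟨0, hnpos⟩ ≫ q) (genericPoint X) a, ?_⟩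
    rw [← ha]
    exact (Groth.Agent.Helper13.SerreCrit.stalkMap_comp'
      (Groth.Agent.Helper13.LocFree.ι _ ⟨0, hnpos⟩ ≫ q) j (genericPoint X) a).symm
  -- Step E: `H¹(image) = 0`
  have hH1L' : Subsingleton (Coh.HH X (Abelian.image ev) 1) := by
    by_contra hcon
    rw [not_subsingleton_iff_nontrivial] at hcon
    have hne := nontrivial_H1_unit_tensor k X _ hL'c hcon
    have hle := finrank_H0_le_finrank_H1' k X (Coh.structureModule X) (Abelian.image ev)
      (fun t ht => HHlin_mulBy_surjective' k X hdim _ (Abelian.image ev) L hL j t ht) hne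
    have hle' : (Module.finrank k (Coh.HH X (Abelian.image ev) 0) : ℤ) ≤
        (Module.finrank k (Coh.HH X (Coh.structureModule X) 1) : ℤ) := by exact_mod_cast hle
    have hge' : (Module.finrank k (Coh.HH X L 0) : ℤ) ≤
        (Module.finrank k (Coh.HH X (Abelian.image ev) 0) : ℤ) := by exact_mod_cast hge
    linarith
  -- Step F: degrees agree, so `j` is an isomorphism
  have hm := Groth.Agent.Helper24.DegMono.main15028 k X hdim (Abelian.image ev) L hL'c hLc 1 j hgenQ
  have hχL' := Groth.Agent.Helper13.CurveVan.euler_eq_sub k X hdim.le (Abelian.image ev)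
  have heq : Curv2.deg k X (Abelian.image ev) 1 = Curv2.deg k X L 1 := by
    refine le_antisymm hm.1 ?_
    have hge' : (Module.finrank k (Coh.HH X L 0) : ℤ) ≤
        (Module.finrank k (Coh.HH X (Abelian.image ev) 0) : ℤ) := by exact_mod_cast hge
    have h1' : Module.finrank k (Coh.HH X (Abelian.image ev) 1) = 0 :=
      Module.finrank_zero_of_subsingleton
    have h2' : Module.finrank k (Coh.HH X L 1) = 0 := Module.finrank_zero_of_subsingleton
    have h1 : (Module.finrank k (Coh.HH X (Abelian.image ev) 1) : ℤ) = 0 := by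
      rw [h1']; rfl
    have h2 : (Module.finrank k (Coh.HH X L 1) : ℤ) = 0 := by
      rw [h2']; rfl
    unfold Curv2.deg
    rw [hχL', hχL, h1, h2]
    linarith
  haveI hjiso : IsIso j := hm.2.1 heq
  haveI hevepi : Epi ev := by
    rw [← hfac]
    exact epi_comp q j
  let e := Groth.Agent.Helper13.LocFree.freeULiftIsoFreeMod (X := X)
    (Module.finrank k (Coh.HH X L 0))
  have hee : Epi e.hom := by
    haveI : IsIso e.hom := Iso.isIso_hom e
    exact IsIso.epi_of_iso e.hom
  exact ⟨ULift.{u} (Fin (Module.finrank k (Coh.HH X L 0))), e.hom ≫ ev, epi_comp' hee hevepi⟩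

end Groth.Agent.Helper26.GGDeg
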