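import Mathlib
import Groth.Prelude.Def_W4c5qcohlocdualityLoc

set_option linter.style.haveILetI false
set_option linter.unusedVariables false

open CategoryTheory CategoryTheory.Limits

universe w v u

namespace Groth.Agent.Helper26.GabUniform

variable {C : Type u} [Category.{v} C] [Abelian C]

/-- if `N ⊓ M = ⊥` then `M ⟶ X/N` is a monomorphism -/
lemma mono_comp_cokernel {X : C} (N M : Subobject X) (h : N ⊓ M = ⊥) {Q : C} (π : X ⟶ Q)
    (w : N.arrow ≫ π = 0) (hπ : IsColimit (CokernelCofork.ofπ π w)) :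
    Mono (M.arrow ≫ π) := by
  apply Preadditive.mono_of_cancel_zero
  intro K k hk
  have hker : IsLimit (KernelFork.ofι N.arrow w) :=
    Abelian.monoIsKernelOfCokernel _ hπ
  have hN : N.Factors (k ≫ M.arrow) := by
    have e : hker.lift (KernelFork.ofι (k ≫ M.arrow) (by rw [Category.assoc]; exact hk)) ≫
        N.arrow = k ≫ M.arrow := Fork.IsLimit.lift_ι hker
    rw [← e]
    exact Subobject.factors_comp_arrow _
  have hM : M.Factors (k ≫ M.arrow) := Subobject.factors_comp_arrow _
  have h3 : (N ⊓ M).Factors (k ≫ M.arrow) := (Subobject.inf_factors _).2 ⟨hN, hM⟩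
  rw [h, Subobject.bot_factors_iff_zero] at h3
  exact (cancel_mono M.arrow).1 (by rw [h3, zero_comp])

/-- a subobject is `⊥` as soon as every morphism factoring through it vanishes -/
lemma eq_bot_of_factors {X : C} (S : Subobject X)
    (h : ∀ {T : C} (t : T ⟶ X), S.Factors t → t = 0) : S = ⊥ := by
  have h1 : S.arrow = 0 := h _ (Subobject.factors_self S)
  rw [← Subobject.mk_arrow S, Subobject.mk_eq_bot_iff_zero]
  exact h1

section AB5

variable [IsGrothendieckAbelian.{w} C] {X : C} {J : Type w} [SmallCategory J] [IsFiltered J]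
  (F : J ⥤ MonoOver X)

attribute [local instance] IsFiltered.isConnected

/-- the diagram of the subobjects -/
abbrev D : J ⥤ C := F ⋙ MonoOver.forget _ ⋙ Over.forget _

/-- the inclusions -/
def a (j : J) : (D F).obj j ⟶ X := (F.obj j).obj.hom

instance (j : J) : Mono (a F j) := inferInstanceAs (Mono (F.obj j).obj.hom)

lemma a_nat {j j' : J} (φ : j ⟶ j') : (D F).map φ ≫ a F j' = a F j := by
  simp [a, D]

/-- the inclusions -/
def α : D F ⟶ (Functor.const J).obj X where
  app j := a F j
  naturality j j' φ := (a_nat F φ).trans (Category.comp_id _).symm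

/-- the transition maps of the quotients -/
noncomputable def Gmap {j j' : J} (φ : j ⟶ j') : cokernel (a F j) ⟶ cokernel (a F j') :=
  cokernel.desc (a F j) (cokernel.π (a F j')) (by
    rw [← a_nat F φ, Category.assoc, cokernel.condition, comp_zero])

lemma π_Gmap {j j' : J} (φ : j ⟶ j') :
    cokernel.π (a F j) ≫ Gmap F φ = cokernel.π (a F j') := cokernel.π_desc _ _ _

/-- the diagram of the quotients -/
noncomputable def G : J ⥤ C where
  obj j := cokernel (a F j)
  map {j j'} φ := Gmap F φ
  map_id j := by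
    apply coequalizer.hom_ext
    exact (π_Gmap F _).trans (Category.comp_id _).symm
  map_comp φ ψ := by
    apply coequalizer.hom_ext
    refine (π_Gmap F _).trans ?_
    refine Eq.trans ?_ (Category.assoc _ _ _)
    rw [π_Gmap, π_Gmap]

/-- the projections -/
noncomputable def q (j : J) : X ⟶ (G F).obj j := cokernel.π (a F j)

lemma a_q (j : J) : a F j ≫ q F j = 0 := cokernel.condition _

lemma q_map {j j' : J} (φ : j ⟶ j') : q F j ≫ (G F).map φ = q F j' := π_Gmap F φ

/-- the projections -/
noncomputable def γ : (Functor.const J).obj X ⟶ G F where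
  app j := q F j
  naturality j j' φ := (Category.id_comp _).trans (q_map F φ).symm

/-- the induced map from the colimit of the subobjects -/
noncomputable def f : colimit (D F) ⟶ X :=
  colimit.desc (D F) (Cocone.mk X (α F))

lemma ι_f (j : J) : colimit.ι (D F) j ≫ f F = a F j :=
  colimit.ι_desc _ _

instance : Mono (f F) :=
  IsGrothendieckAbelian.mono_of_isColimit_monoOver F (colimit.isColimit (D F)) (f F) (ι_f F)

lemma mk_f : Subobject.mk (f F) = ⨆ j, Subobject.mk (a F j) :=
  IsGrothendieckAbelian.subobjectMk_of_isColimit_eq_iSup F (colimit.isColimit (D F)) (f F) (ι_f F)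

/-- the projection to the colimit of the quotients -/
noncomputable def π : X ⟶ colimit (G F) :=
  (isColimitConstCocone J X).desc (Cocone.mk (colimit (G F)) (γ F ≫ (colimit.cocone (G F)).ι))

lemma π_eq (j : J) : π F = q F j ≫ colimit.ι (G F) j := by
  have h := (isColimitConstCocone J X).fac
    (Cocone.mk (colimit (G F)) (γ F ≫ (colimit.cocone (G F)).ι)) j
  exact (Category.id_comp _).symm.trans h

lemma f_π : f F ≫ π F = 0 := by
  apply colimit.hom_ext
  intro j
  rw [← Category.assoc, ι_f, comp_zero, π_eq F j, ← Category.assoc, a_q, zero_comp]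

theorem mono_comp_π (M : Subobject X) (h : ∀ j, Subobject.mk (a F j) ⊓ M = ⊥) :
    Mono (M.arrow ≫ π F) := by
  let β : (Functor.const J).obj (M : C) ⟶ G F :=
    { app j := M.arrow ≫ q F j
      naturality j j' φ := by
        refine (Category.id_comp _).trans ?_
        rw [Category.assoc, q_map] }
  have hβ : ∀ j, Mono (β.app j) := by
    intro j
    have he' : (Subobject.mk (a F j)).arrow = (Subobject.underlyingIso (a F j)).hom ≫ a F j :=
      (Subobject.underlyingIso_hom_comp_eq_mk (a F j)).symm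
    have w : (Subobject.mk (a F j)).arrow ≫ q F j = 0 := by
      rw [he', Category.assoc, a_q, comp_zero]
    refine mono_comp_cokernel (Subobject.mk (a F j)) M (h j) (q F j) w ?_
    have hc : IsColimit (CokernelCofork.ofπ (q F j) (a_q F j)) := cokernelIsCokernel _
    exact isCokernelEpiComp hc (Subobject.underlyingIso (a F j)).hom he'
  haveI := NatTrans.mono_of_mono_app β
  exact colim.map_mono' β (isColimitConstCocone J (M : C)) (colimit.isColimit (G F))
    (M.arrow ≫ π F) (fun j => by
      refine (Category.id_comp _).trans ?_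
      rw [π_eq F j]
      exact (Category.assoc _ _ _).symm)

theorem iSup_inf_eq_bot (M : Subobject X) (h : ∀ j, Subobject.mk (a F j) ⊓ M = ⊥) :
    (⨆ j, Subobject.mk (a F j)) ⊓ M = ⊥ := by
  rw [← mk_f]
  apply eq_bot_of_factors
  intro T t ht
  obtain ⟨h1, h2⟩ := (Subobject.inf_factors _).1 ht
  have ht₁ : ((Subobject.mk (f F)).factorThru t h1 ≫ (Subobject.underlyingIso (f F)).hom) ≫
      f F = t := by
    rw [Category.assoc, Subobject.underlyingIso_hom_comp_eq_mk, Subobject.factorThru_arrow]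
  have ht₂ : M.factorThru t h2 ≫ M.arrow = t := Subobject.factorThru_arrow _ _ _
  haveI := mono_comp_π F M h
  have h3 : M.factorThru t h2 ≫ (M.arrow ≫ π F) = 0 := by
    rw [← Category.assoc, ht₂, ← ht₁, Category.assoc, f_π, comp_zero]
  have h4 : M.factorThru t h2 = 0 := by
    rw [← cancel_mono (M.arrow ≫ π F), h3, zero_comp]
  rw [← ht₂, h4, zero_comp]

end AB5

section Chain

variable [IsGrothendieckAbelian.{w} C] {X : C}

/-- small index type for a set of subobjects -/
def Idx (c : Set (Subobject X)) : Type w := Shrink.{w} ↥c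

/-- the subobject with a given index -/
noncomputable def Idx.val {c : Set (Subobject X)} (j : Idx c) : Subobject X :=
  ((equivShrink.{w} ↥c).symm j).1

lemma Idx.val_mem {c : Set (Subobject X)} (j : Idx c) : j.val ∈ c :=
  ((equivShrink.{w} ↥c).symm j).2

/-- the index of a member -/
noncomputable def Idx.mk {c : Set (Subobject X)} (N : Subobject X) (hN : N ∈ c) : Idx c :=
  equivShrink.{w} ↥c ⟨N, hN⟩

lemma Idx.val_mk {c : Set (Subobject X)} (N : Subobject X) (hN : N ∈ c) :
    (Idx.mk N hN : Idx c).val = N := by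
  simp [Idx.val, Idx.mk]

noncomputable instance (c : Set (Subobject X)) : Preorder (Idx c) := Preorder.lift Idx.val

lemma Idx.val_mono (c : Set (Subobject X)) : Monotone (Idx.val : Idx c → Subobject X) :=
  fun _ _ h => h

theorem sSup_inf_eq_bot (M : Subobject X) (c : Set (Subobject X)) (hc : IsChain (· ≤ ·) c)
    (hne : c.Nonempty) (h : ∀ N ∈ c, N ⊓ M = ⊥) : sSup c ⊓ M = ⊥ := by
  haveI : Nonempty (Idx c) := ⟨Idx.mk hne.choose hne.choose_spec⟩
  haveI : IsDirected (Idx c) (· ≤ ·) := ⟨fun j j' => by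
    rcases hc.total j.val_mem j'.val_mem with h1 | h1
    · exact ⟨j', h1, le_refl _⟩
    · exact ⟨j, le_refl _, h1⟩⟩
  let F : Idx c ⥤ MonoOver X := (Idx.val_mono c).functor ⋙ Subobject.representative
  have hF : ∀ j : Idx c, Subobject.mk (a F j) = j.val := fun j => Subobject.mk_arrow j.val
  have h1 : (⨆ j, Subobject.mk (a F j)) ⊓ M = ⊥ := by
    apply iSup_inf_eq_bot
    intro j
    rw [hF]
    exact h _ j.val_mem
  have h2 : (⨆ j, Subobject.mk (a F j)) = sSup c := by
    simp_rw [hF]
    apply le_antisymm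
    · exact iSup_le fun j => le_sSup j.val_mem
    · apply sSup_le
      intro N hN
      rw [← Idx.val_mk N hN]
      exact le_iSup (fun j : Idx c => j.val) (Idx.mk N hN)
  rw [← h2]
  exact h1

theorem exists_maximal_disjoint (M A : Subobject X) (hA : A ⊓ M = ⊥) :
    ∃ N, A ≤ N ∧ N ⊓ M = ⊥ ∧ ∀ N', N ≤ N' → N' ⊓ M = ⊥ → N' = N := by
  obtain ⟨m, hAm, hm⟩ := zorn_le_nonempty₀ {N : Subobject X | N ⊓ M = ⊥} (by
    intro c hcs hc y hy
    exact ⟨sSup c, sSup_inf_eq_bot M c hc ⟨y, hy⟩ (fun N hN => hcs hN), fun z hz => le_sSup hz⟩)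
    A hA
  exact ⟨m, hAm, hm.1, fun N' hle hN' => le_antisymm (hm.2 hN' hle) hle⟩

end Chain

section Split

variable {X : C}

lemma eq_zero_of_factors {M N : Subobject X} (h : N ⊓ M = ⊥) {T : C} (t : T ⟶ X)
    (hN : N.Factors t) (hM : M.Factors t) : t = 0 := by
  have h3 : (N ⊓ M).Factors t := (Subobject.inf_factors _).2 ⟨hN, hM⟩
  rwa [h, Subobject.bot_factors_iff_zero] at h3

lemma mono_biprod_desc (M N : Subobject X) (h : N ⊓ M = ⊥) :
    Mono (biprod.desc M.arrow N.arrow) := by
  apply Preadditive.mono_of_cancel_zero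
  intro K k hk
  have hk' : (k ≫ biprod.fst) ≫ M.arrow + (k ≫ biprod.snd) ≫ N.arrow = 0 := by
    rw [← hk, biprod.desc_eq, Preadditive.comp_add, Category.assoc, Category.assoc]
  have h1 : (k ≫ biprod.fst) ≫ M.arrow = (-(k ≫ biprod.snd)) ≫ N.arrow := by
    rw [Preadditive.neg_comp]
    exact eq_neg_of_add_eq_zero_left hk'
  have h2 : (k ≫ biprod.fst) ≫ M.arrow = 0 :=
    eq_zero_of_factors h _ (h1 ▸ Subobject.factors_comp_arrow _) (Subobject.factors_comp_arrow _)
  have h3 : (k ≫ biprod.snd) ≫ N.arrow = 0 := by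
    rw [h2, zero_add] at hk'
    exact hk'
  have h4 : k ≫ biprod.fst = 0 := (cancel_mono M.arrow).1 (by rw [h2, zero_comp])
  have h5 : k ≫ biprod.snd = 0 := (cancel_mono N.arrow).1 (by rw [h3, zero_comp])
  apply biprod.hom_ext
  · rw [h4, zero_comp]
  · rw [h5, zero_comp]

end Split

section Uniform

variable [IsGrothendieckAbelian.{w} C] {E : C} [Injective E]

set_option maxHeartbeats 800000 in
/-- a maximal subobject disjoint from `A₁` and containing `A₂` is a direct summand -/
theorem exists_retraction (A₁ A₂ : Subobject E) (h12 : A₂ ⊓ A₁ = ⊥) :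
    ∃ (M : Subobject E) (r : E ⟶ (M : C)), A₂ ≤ M ∧ M ⊓ A₁ = ⊥ ∧ M.arrow ≫ r = 𝟙 _ := by
  obtain ⟨M, hA₂M, hMA₁, hMmax⟩ := exists_maximal_disjoint.{w} A₁ A₂ h12
  obtain ⟨N, -, hNM, hNmax⟩ := exists_maximal_disjoint.{w} M ⊥ (bot_inf_eq M)
  haveI := mono_biprod_desc M N hNM
  let j : (M : C) ⊞ (N : C) ⟶ E := biprod.desc M.arrow N.arrow
  let ψ : E ⟶ E := Injective.factorThru (biprod.desc M.arrow 0) j
  have hjψ : j ≫ ψ = biprod.desc M.arrow 0 := Injective.comp_factorThru _ _
  have hMψ : M.arrow ≫ ψ = M.arrow := by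
    have : M.arrow = biprod.inl ≫ j := (biprod.inl_desc _ _).symm
    conv_lhs => rw [this, Category.assoc, hjψ, biprod.inl_desc]
  have hNψ : N.arrow ≫ ψ = 0 := by
    have : N.arrow = biprod.inr ≫ j := (biprod.inr_desc _ _).symm
    rw [this, Category.assoc, hjψ, biprod.inr_desc]
  -- M is essential in the image of ψ
  have hess : ∀ Xs : Subobject E, Xs ≤ imageSubobject ψ → Xs ⊓ M = ⊥ → Xs = ⊥ := by
    intro Xs hXs hXsM
    let Y : Subobject E := Subobject.mk (pullback.snd Xs.arrow ψ)
    have hNY : N ≤ Y := by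
      refine Subobject.le_mk_of_comm (pullback.lift 0 N.arrow (by rw [zero_comp, hNψ])) ?_
      exact pullback.lift_snd _ _ _
    have hYM : Y ⊓ M = ⊥ := by
      apply eq_bot_of_factors
      intro T t ht
      obtain ⟨h1, h2⟩ := (Subobject.inf_factors _).1 ht
      have ht₁ : (Y.factorThru t h1 ≫ (Subobject.underlyingIso (pullback.snd Xs.arrow ψ)).hom) ≫
          pullback.snd Xs.arrow ψ = t := by
        rw [Category.assoc, Subobject.underlyingIso_hom_comp_eq_mk, Subobject.factorThru_arrow]
      have ht₂ : M.factorThru t h2 ≫ M.arrow = t := Subobject.factorThru_arrow _ _ _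
      have e1 : t ≫ ψ = t := by
        rw [← ht₂, Category.assoc, hMψ]
      have hX : Xs.Factors (t ≫ ψ) := by
        rw [← ht₁, Category.assoc, ← pullback.condition, ← Category.assoc]
        exact Subobject.factors_comp_arrow _
      rw [e1] at hX
      exact eq_zero_of_factors hXsM t hX h2
    have hYN : Y = N := hNmax Y hNY hYM
    have hsnd : pullback.snd Xs.arrow ψ ≫ ψ = 0 := by
      have hf : N.Factors (pullback.snd Xs.arrow ψ) := by
        rw [← hYN]
        exact Subobject.mk_factors_self _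
      rw [← Subobject.factorThru_arrow N _ hf, Category.assoc, hNψ, comp_zero]
    have hfst : pullback.fst Xs.arrow ψ = 0 := by
      rw [← cancel_mono Xs.arrow, pullback.condition, hsnd, zero_comp]
    -- fst is an epimorphism
    have hl : (imageSubobject ψ).Factors Xs.arrow :=
      Subobject.factors_of_le _ hXs (Subobject.factors_self _)
    obtain ⟨l, hlι⟩ : ∃ l : (Xs : C) ⟶ image ψ, l ≫ image.ι ψ = Xs.arrow :=
      ⟨(imageSubobject ψ).factorThru Xs.arrow hl ≫ (imageSubobjectIso ψ).hom, by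
        rw [Category.assoc, imageSubobject_arrow, Subobject.factorThru_arrow]⟩
    haveI : Epi (pullback.fst l (factorThruImage ψ)) := Abelian.epi_pullback_of_epi_g _ _
    have hfac : pullback.lift (pullback.fst l (factorThruImage ψ))
        (pullback.snd l (factorThruImage ψ)) (by
          rw [← hlι, ← Category.assoc, pullback.condition, Category.assoc, image.fac]) ≫
        pullback.fst Xs.arrow ψ = pullback.fst l (factorThruImage ψ) := pullback.lift_fst _ _ _
    haveI : Epi (pullback.fst Xs.arrow ψ) := epi_of_epi_fac hfac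
    have harrow : Xs.arrow = 0 := by
      rw [← cancel_epi (pullback.fst Xs.arrow ψ), hfst, zero_comp, comp_zero]
    rw [← Subobject.mk_arrow Xs, Subobject.mk_eq_bot_iff_zero]
    exact harrow
  -- the image of ψ is M
  have hMI : M ≤ imageSubobject ψ := by
    refine Subobject.le_of_comm ((M.arrow ≫ factorThruImage ψ) ≫ (imageSubobjectIso ψ).inv) ?_
    rw [Category.assoc, Category.assoc, imageSubobject_arrow', image.fac, hMψ]
  have hIA₁ : imageSubobject ψ ⊓ A₁ = ⊥ := by
    apply hess _ inf_le_left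
    rw [inf_assoc, inf_comm A₁ M, hMA₁, inf_bot_eq]
  have hIM : imageSubobject ψ = M := hMmax _ hMI hIA₁
  have hg : M.Factors (image.ι ψ) := by
    rw [← imageSubobject_arrow', ← hIM]
    exact Subobject.factors_of_factors_right _ (Subobject.factors_self _)
  refine ⟨M, factorThruImage ψ ≫ M.factorThru (image.ι ψ) hg, hA₂M, hMA₁, ?_⟩
  rw [← cancel_mono M.arrow, Category.assoc, Category.assoc, Subobject.factorThru_arrow,
    image.fac, hMψ, Category.id_comp]

/-- an indecomposable injective object is uniform -/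
theorem uniform
    (hind : ∀ (A B : C), Nonempty (E ≅ A ⊞ B) → IsZero A ∨ IsZero B)
    (A₁ A₂ : Subobject E) (h1 : A₁ ≠ ⊥) (h2 : A₂ ≠ ⊥) : A₁ ⊓ A₂ ≠ ⊥ := by
  intro h
  rw [inf_comm] at h
  obtain ⟨M, r, hA₂M, hMA₁, hr⟩ := exists_retraction.{w} A₁ A₂ h
  haveI : IsSplitMono M.arrow := IsSplitMono.mk' ⟨r, hr⟩
  let b := binaryBiconeOfIsSplitMonoOfCokernel (cokernelIsCokernel M.arrow)
  have hb : b.IsBilimit := isBilimitBinaryBiconeOfIsSplitMonoOfCokernel _
  let iso : E ≅ (M : C) ⊞ cokernel M.arrow := biprod.uniqueUpToIso _ _ hb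
  rcases hind _ _ ⟨iso⟩ with hz | hz
  · have h3 : M.arrow = 0 := hz.eq_of_src _ _
    have h4 : M = ⊥ := by
      rw [← Subobject.mk_arrow M, Subobject.mk_eq_bot_iff_zero]
      exact h3
    rw [h4] at hA₂M
    exact h2 (le_bot_iff.1 hA₂M)
  · haveI : Epi M.arrow := Preadditive.epi_of_isZero_cokernel _ hz
    haveI : IsIso M.arrow := isIso_of_mono_of_epi _
    have h4 : M = ⊤ := Subobject.eq_top_of_isIso_arrow M
    rw [h4, top_inf_eq] at hMA₁
    exact h1 hMA₁

end Uniform

section Main

variable [IsGrothendieckAbelian.{w} C]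

theorem main (E : C) [Injective E]
    (hind : ∀ (A B : C), Nonempty (E ≅ A ⊞ B) → IsZero A ∨ IsZero B)
    (S₁ S₂ : ObjectProperty C) (h₁ : GabLoc.IsLocalizing.{w} S₁) (h₂ : GabLoc.IsLocalizing.{w} S₂)
    (ht₁ : GabLoc.HasTorsion S₁ E) (ht₂ : GabLoc.HasTorsion S₂ E) :
    GabLoc.HasTorsion (S₁ ⊓ S₂) E := by
  haveI := h₁.isSerreClass
  haveI := h₂.isSerreClass
  obtain ⟨Y₁, hY₁, f₁, hf₁⟩ := ht₁
  obtain ⟨Y₂, hY₂, f₂, hf₂⟩ := ht₂
  have key : ∀ (S : ObjectProperty C) [S.IsSerreClass] (Y : C) (hY : S Y) (f : Y ⟶ E)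
      (hf : f ≠ 0), S ((imageSubobject f : Subobject E) : C) ∧ imageSubobject f ≠ ⊥ := by
    intro S _ Y hY f hf
    constructor
    · exact S.prop_of_epi (factorThruImageSubobject f) hY
    · intro h
      apply hf
      rw [← imageSubobject_arrow_comp f]
      have : (imageSubobject f).arrow = 0 := by
        rw [h]
        exact Subobject.bot_arrow
      rw [this, comp_zero]
  obtain ⟨hS₁, hA₁⟩ := key S₁ Y₁ hY₁ f₁ hf₁
  obtain ⟨hS₂, hA₂⟩ := key S₂ Y₂ hY₂ f₂ hf₂
  have hne := uniform.{w} hind _ _ hA₁ hA₂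
  refine ⟨((imageSubobject f₁ ⊓ imageSubobject f₂ : Subobject E) : C), ⟨?_, ?_⟩,
    (imageSubobject f₁ ⊓ imageSubobject f₂).arrow, ?_⟩
  · exact S₁.prop_of_mono (Subobject.ofLE _ _ inf_le_left) hS₁
  · exact S₂.prop_of_mono (Subobject.ofLE _ _ inf_le_right) hS₂
  · intro h
    apply hne
    rw [← Subobject.mk_arrow (imageSubobject f₁ ⊓ imageSubobject f₂),
      Subobject.mk_eq_bot_iff_zero]
    exact h

end Main


end Groth.Agent.Helper26.GabUniform
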