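import Mathlib
import Groth.Prelude.Def_StGerb2
import Groth.Agent.Lib.Helper19.FibLib
import Groth.Agent.Lib.Helper25.GerbLib

/-!
# Gerbes: the pull-back of a "conjugation-trivial" isomorphism `g : φ x ⟶ x` (helper26)
-/

set_option autoImplicit false
set_option backward.isDefEq.respectTransparency false

universe v₂ u₂ v u

open CategoryTheory CategoryTheory.Limits Functor

namespace Groth.Agent.Helper26.Gerb1

open FibCat Gerb Groth.Agent.Helper19.FibLib Groth.Agent.Helper25.GerbLib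

variable {C : Type u} [Category.{v} C] {𝒳 : BasedCategory.{v₂, u₂} C}

/-- A morphism over an identity, as an automorphism over the identity. -/
noncomputable def autOfHom (h𝒳 : IsFibGrpd 𝒳.p) {z : 𝒳.obj} (α : z ⟶ z)
    (hα : 𝒳.p.IsHomLift (𝟙 (𝒳.p.obj z)) α) : AutO z :=
  have : IsIso α := isIso_of_isHomLift h𝒳 (𝟙 (𝒳.p.obj z)) α
  { hom := ⟨α, hα⟩
    inv := ⟨inv α, by
      have := hα
      have h2 : 𝒳.p.IsHomLift (inv (𝟙 (𝒳.p.obj z))) (inv α) := inferInstance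
      simpa using h2⟩
    hom_inv_id := by
      apply Functor.Fiber.hom_ext
      change α ≫ inv α = 𝟙 z
      simp
    inv_hom_id := by
      apply Functor.Fiber.hom_ext
      change inv α ≫ α = 𝟙 z
      simp }

@[simp] theorem autOfHom_hom (h𝒳 : IsFibGrpd 𝒳.p) {z : 𝒳.obj} (α : z ⟶ z)
    (hα : 𝒳.p.IsHomLift (𝟙 (𝒳.p.obj z)) α) : (autOfHom h𝒳 α hα).hom.1 = α := rfl

section pull

variable (h𝒳 : IsFibGrpd 𝒳.p) (φ : 𝒳 ⥤ᵇ 𝒳) {x : 𝒳.obj} (g : φ.obj x ⟶ x)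
  (hg : 𝒳.p.IsHomLift (𝟙 (𝒳.p.obj x)) g)

include h𝒳 hg in
theorem exists_gPull {z : 𝒳.obj} (c : z ⟶ x) :
    ∃! g' : φ.obj z ⟶ z, 𝒳.p.IsHomLift (𝟙 (𝒳.p.obj z)) g' ∧ g' ≫ c = φ.map c ≫ g := by
  have h1 : 𝒳.p.IsHomLift (𝒳.p.map c) (φ.map c) := inferInstance
  have h2 : 𝒳.p.IsHomLift (𝒳.p.map c) (φ.map c ≫ g) := by
    have := hg
    have h3 : 𝒳.p.IsHomLift (𝒳.p.map c ≫ 𝟙 (𝒳.p.obj x)) (φ.map c ≫ g) := inferInstance
    simpa using h3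
  have h4 := existsUnique_fac h𝒳 (𝒳.p.map c) c (𝟙 (𝒳.p.obj z)) (𝒳.p.map c) (by simp) (φ.map c ≫ g)
  exact h4

/-- The pull-back of `g` along `c : z ⟶ x`. -/
noncomputable def gPull {z : 𝒳.obj} (c : z ⟶ x) : φ.obj z ⟶ z :=
  (exists_gPull h𝒳 φ g hg c).exists.choose

theorem gPull_isHomLift {z : 𝒳.obj} (c : z ⟶ x) :
    𝒳.p.IsHomLift (𝟙 (𝒳.p.obj z)) (gPull h𝒳 φ g hg c) :=
  (exists_gPull h𝒳 φ g hg c).exists.choose_spec.1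

theorem gPull_comp {z : 𝒳.obj} (c : z ⟶ x) :
    gPull h𝒳 φ g hg c ≫ c = φ.map c ≫ g :=
  (exists_gPull h𝒳 φ g hg c).exists.choose_spec.2

theorem gPull_unique {z : 𝒳.obj} (c : z ⟶ x) (g' : φ.obj z ⟶ z)
    (h1 : 𝒳.p.IsHomLift (𝟙 (𝒳.p.obj z)) g') (h2 : g' ≫ c = φ.map c ≫ g) :
    g' = gPull h𝒳 φ g hg c :=
  (exists_gPull h𝒳 φ g hg c).unique ⟨h1, h2⟩ ⟨gPull_isHomLift h𝒳 φ g hg c, gPull_comp h𝒳 φ g hg c⟩

theorem gPull_isIso {z : 𝒳.obj} (c : z ⟶ x) : IsIso (gPull h𝒳 φ g hg c) := by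
  have := gPull_isHomLift h𝒳 φ g hg c
  have h2 : 𝒳.p.IsHomLift (𝟙 (𝒳.p.obj z)) (gPull h𝒳 φ g hg c) := this
  exact isIso_of_isHomLift h𝒳 (𝟙 (𝒳.p.obj z)) (gPull h𝒳 φ g hg c)

/-- Naturality of the pull-back of `g`. -/
theorem gPull_natural {z z' : 𝒳.obj} (h : z' ⟶ z) (c : z ⟶ x) :
    φ.map h ≫ gPull h𝒳 φ g hg c = gPull h𝒳 φ g hg (h ≫ c) ≫ h := by
  have i1 := gPull_isHomLift h𝒳 φ g hg c
  have i2 := gPull_isHomLift h𝒳 φ g hg (h ≫ c)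
  have h1 : 𝒳.p.IsHomLift (𝒳.p.map h) (φ.map h) := inferInstance
  have h2 : 𝒳.p.IsHomLift (𝒳.p.map h) (φ.map h ≫ gPull h𝒳 φ g hg c) := by
    have h3 : 𝒳.p.IsHomLift (𝒳.p.map h ≫ 𝟙 (𝒳.p.obj z)) (φ.map h ≫ gPull h𝒳 φ g hg c) :=
      inferInstance
    simpa using h3
  have h4 : 𝒳.p.IsHomLift (𝒳.p.map h) (gPull h𝒳 φ g hg (h ≫ c) ≫ h) := by
    have h3 : 𝒳.p.IsHomLift (𝟙 (𝒳.p.obj z') ≫ 𝒳.p.map h) (gPull h𝒳 φ g hg (h ≫ c) ≫ h) :=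
      inferInstance
    simpa using h3
  apply hom_ext_of_comp_eq h𝒳 (𝒳.p.map c) c (𝒳.p.map h)
  rw [Category.assoc, gPull_comp, Category.assoc, gPull_comp, ← Category.assoc, ← φ.map_comp]

variable (hterm : ∀ (V : C) (a b : V ⟶ 𝒳.p.obj x), a = b)
  (hconj : ∀ (x' : 𝒳.obj) (c : x' ⟶ x) (g' : φ.obj x' ⟶ x'), 𝒳.p.IsHomLift (𝟙 (𝒳.p.obj x')) g' →
      φ.map c ≫ g = g' ≫ c → ∀ α : AutO x', φ.map α.hom.1 ≫ g' = g' ≫ α.hom.1)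

include hterm hconj in
/-- The pull-back of `g` does not depend on the morphism to `x`. -/
theorem gPull_indep {z : 𝒳.obj} (c c' : z ⟶ x) : gPull h𝒳 φ g hg c = gPull h𝒳 φ g hg c' := by
  have hcc : 𝒳.p.map c' = 𝒳.p.map c := hterm _ _ _
  have h1 : 𝒳.p.IsHomLift (𝒳.p.map c) c' := by
    rw [← hcc]; infer_instance
  obtain ⟨α, ⟨hα1, hα2⟩, -⟩ :=
    existsUnique_fac h𝒳 (𝒳.p.map c) c (𝟙 (𝒳.p.obj z)) (𝒳.p.map c) (by simp) c'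
  have h2 := hconj z c (gPull h𝒳 φ g hg c) (gPull_isHomLift h𝒳 φ g hg c)
    (gPull_comp h𝒳 φ g hg c).symm (autOfHom h𝒳 α hα1)
  simp only [autOfHom_hom] at h2
  apply gPull_unique h𝒳 φ g hg c' _ (gPull_isHomLift h𝒳 φ g hg c)
  rw [← hα2, ← Category.assoc, ← h2, Category.assoc, gPull_comp, φ.map_comp, Category.assoc]

end pull

end Groth.Agent.Helper26.Gerb1
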