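import Mathlib
import Groth.Prelude.Def_StGerb2
import Groth.Agent.Lib.Helper19.FibLib
import Groth.Agent.Lib.Helper19.YonLib
import Groth.Agent.Lib.Helper25.GerbLib

/-!
# Stacks in groupoids: morphisms over an identity are determined locally (helper26)
-/

set_option autoImplicit false
set_option backward.isDefEq.respectTransparency false

universe v u

open CategoryTheory CategoryTheory.Limits Functor

namespace Groth.Agent.Helper26.Gerb2

open FibCat Gerb Stk Groth.Agent.Helper19.FibLib Groth.Agent.Helper25.GerbLib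
  Groth.Agent.Helper19.YonLib

variable {C : Type u} [Category.{v} C] {𝒳 : BasedCategory.{v, max u v} C}

/-- The canonical morphism `(k : W ⟶ T) ⟶ (𝟙 T)` of the slice. -/
abbrev toId {T : C} {W : C} (k : W ⟶ T) : Over.mk k ⟶ Over.mk (𝟙 T) := Over.homMk k

theorem map_toId_isHomLift {T : C} (G : overCat T ⥤ᵇ 𝒳) {W : C} (k : W ⟶ T) :
    𝒳.p.IsHomLift k (G.map (toId k)) := by
  have h1 : (overCat T).p.IsHomLift k (toId k) := by
    apply IsHomLift.of_fac (overCat T).p k (toId k) rfl rfl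
    simp only [eqToHom_refl, Category.comp_id, Category.id_comp]
    rfl
  exact inferInstance

/-- 2-Yoneda, fullness: a morphism `G (𝟙) ⟶ G' (𝟙)` over the identity comes from a 2-morphism. -/
theorem exists_natTrans (h𝒳 : IsFibGrpd 𝒳.p) {T : C} (G G' : overCat T ⥤ᵇ 𝒳)
    (a : G.obj (Over.mk (𝟙 T)) ⟶ G'.obj (Over.mk (𝟙 T))) (ha : 𝒳.p.IsHomLift (𝟙 T) a) :
    ∃ α : G ⟶ G', α.toNatTrans.app (Over.mk (𝟙 T)) = a := by
  have := Groth.Agent.S6409.result h𝒳 T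
  let a' : (evalAtId 𝒳 T).obj G ⟶ (evalAtId 𝒳 T).obj G' := ⟨a, ha⟩
  obtain ⟨α, hα⟩ := (evalAtId 𝒳 T).map_surjective a'
  exact ⟨α, congrArg Subtype.val hα⟩

/-- 2-Yoneda, faithfulness. -/
theorem natTrans_ext (h𝒳 : IsFibGrpd 𝒳.p) {T : C} {G G' : overCat T ⥤ᵇ 𝒳} (α β : G ⟶ G')
    (h : α.toNatTrans.app (Over.mk (𝟙 T)) = β.toNatTrans.app (Over.mk (𝟙 T))) : α = β := by
  have := Groth.Agent.S6409.result h𝒳 T
  apply (evalAtId 𝒳 T).map_injective
  apply Functor.Fiber.hom_ext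
  exact h

/-- Faithfulness of restriction to a sieve, elementwise. -/
theorem natTrans_ext_of_sieve {T : C} (R : Sieve T) (hR : (resSieve R 𝒳).Faithful)
    {G G' : overCat T ⥤ᵇ 𝒳} (α β : G ⟶ G')
    (h : ∀ ⦃W : C⦄ (k : W ⟶ T), R k → α.toNatTrans.app (Over.mk k) = β.toNatTrans.app (Over.mk k)) :
    α = β := by
  apply (resSieve R 𝒳).map_injective
  apply BasedNatTrans.homCategory.ext
  ext a
  exact h a.obj.hom a.property

/-- Morphisms over an identity in a (pre)stack are determined locally. -/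
theorem hom_ext_of_cover (h𝒳 : IsFibGrpd 𝒳.p) {T : C} (R : Sieve T) (hR : (resSieve R 𝒳).Faithful)
    {u v : 𝒳.obj} (hu : 𝒳.p.obj u = T) (hv : 𝒳.p.obj v = T) (a b : u ⟶ v)
    (ha : 𝒳.p.IsHomLift (𝟙 T) a) (hb : 𝒳.p.IsHomLift (𝟙 T) b)
    (h : ∀ ⦃W : C⦄ (k : W ⟶ T), R k → ∀ (w : 𝒳.obj) (m : w ⟶ u), 𝒳.p.IsHomLift k m →
      m ≫ a = m ≫ b) : a = b := by
  obtain ⟨Gu, θu, hθu⟩ := exists_chart_of_obj h𝒳 u hu
  obtain ⟨Gv, θv, hθv⟩ := exists_chart_of_obj h𝒳 v hv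
  have hθv' : 𝒳.p.IsHomLift (𝟙 T) θv.inv := by
    have h2 : 𝒳.p.IsHomLift (inv (𝟙 T)) (inv θv.hom) := inferInstance
    simpa using h2
  have hA : 𝒳.p.IsHomLift (𝟙 T) (θu.hom ≫ a ≫ θv.inv) := by
    have h2 : 𝒳.p.IsHomLift (𝟙 T ≫ 𝟙 T ≫ 𝟙 T) (θu.hom ≫ a ≫ θv.inv) := inferInstance
    simpa using h2
  have hB : 𝒳.p.IsHomLift (𝟙 T) (θu.hom ≫ b ≫ θv.inv) := by
    have h2 : 𝒳.p.IsHomLift (𝟙 T ≫ 𝟙 T ≫ 𝟙 T) (θu.hom ≫ b ≫ θv.inv) := inferInstance
    simpa using h2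
  obtain ⟨α, hα⟩ := exists_natTrans h𝒳 Gu Gv _ hA
  obtain ⟨β, hβ⟩ := exists_natTrans h𝒳 Gu Gv _ hB
  have hαβ : α = β := by
    apply natTrans_ext_of_sieve R hR
    intro W k hk
    have i1 := map_toId_isHomLift Gv k
    have i2 : 𝒳.p.IsHomLift (𝟙 W) (α.toNatTrans.app (Over.mk k)) := α.isHomLift rfl
    have i3 : 𝒳.p.IsHomLift (𝟙 W) (β.toNatTrans.app (Over.mk k)) := β.isHomLift rfl
    apply hom_ext_of_comp_eq h𝒳 k (Gv.map (toId k)) (𝟙 W)
    have n1 := α.toNatTrans.naturality (toId k)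
    have n2 := β.toNatTrans.naturality (toId k)
    rw [← n1, ← n2, hα, hβ]
    have i4 := map_toId_isHomLift Gu k
    have i5 : 𝒳.p.IsHomLift k (Gu.map (toId k) ≫ θu.hom) := by
      have h2 : 𝒳.p.IsHomLift (k ≫ 𝟙 T) (Gu.map (toId k) ≫ θu.hom) := inferInstance
      simpa using h2
    have h3 := h k hk _ (Gu.map (toId k) ≫ θu.hom) i5
    simp only [Category.assoc] at h3
    rw [← Category.assoc, ← Category.assoc, ← Category.assoc, ← Category.assoc]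
    congr 1
    simpa using h3
  have h4 : θu.hom ≫ a ≫ θv.inv = θu.hom ≫ b ≫ θv.inv := by rw [← hα, ← hβ, hαβ]
  have h5 := (cancel_epi θu.hom).1 h4
  exact (cancel_mono θv.inv).1 h5

end Groth.Agent.Helper26.Gerb2
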