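import Mathlib
import Groth.Prelude.Def_StGerb2
import Groth.Agent.Lib.Helper26.Gerb1
import Groth.Agent.Lib.Helper26.Gerb2

/-!
# Gerbes: a functor acting trivially on the automorphism sheaf of a global object is fibrewise
isomorphic to the identity (helper26)
-/

set_option autoImplicit false
set_option backward.isDefEq.respectTransparency false

universe v u

open CategoryTheory CategoryTheory.Limits Functor

namespace Groth.Agent.Helper26.Gerb3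

open FibCat Gerb Stk Groth.Agent.Helper19.FibLib Groth.Agent.Helper25.GerbLib
  Groth.Agent.Helper19.YonLib Groth.Agent.Helper26.Gerb1 Groth.Agent.Helper26.Gerb2

variable {C : Type u} [Category.{v} C] {𝒳 : BasedCategory.{v, max u v} C}

/-- The sieve of those `k : W ⟶ T` such that the value of the chart `G` at `k` maps to `x`. -/
def mapSieve {T : C} (G : overCat T ⥤ᵇ 𝒳) (x : 𝒳.obj) : Sieve T where
  arrows W k := Nonempty (G.obj (Over.mk k) ⟶ x)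
  downward_closed := by
    rintro W W' k ⟨c⟩ l
    exact ⟨G.map (Over.homMk l : Over.mk (l ≫ k) ⟶ Over.mk k) ≫ c⟩

theorem mapSieve_mem (J : GrothendieckTopology C) (h𝒳 : IsFibGrpd 𝒳.p)
    (hG : LocSurjHom J (toSelf 𝒳)) {x : 𝒳.obj} (ht : IsTerminal (𝒳.p.obj x))
    {T : C} (G : overCat T ⥤ᵇ 𝒳) : mapSieve G x ∈ J T := by
  obtain ⟨xT, cT, hcT⟩ := h𝒳.exists_lift (x := x) (ht.from T)
  have hxT : 𝒳.p.obj xT = T := IsHomLift.domain_eq 𝒳.p (ht.from T) cT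
  set y := G.obj (Over.mk (𝟙 T)) with hy
  have hyT : 𝒳.p.obj y = T := G.w_obj _
  let b : (toSelf 𝒳).obj y ⟶ (toSelf 𝒳).obj xT := eqToHom (hyT.trans hxT.symm)
  have hb : (selfOver C).p.IsHomLift (𝟙 T) b := by
    apply IsHomLift.of_fac (selfOver C).p (𝟙 T) b hyT hxT
    simp only [b]
    rw [eqToHom_map]
    simp
  obtain ⟨R, hR, hR'⟩ := (locSurjHom_iff J (toSelf 𝒳)).1 hG T y xT b hb
  refine J.superset_covering ?_ hR
  intro W k hk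
  obtain ⟨x₀, φ₀, ψ₀, h1, h2, -⟩ := hR' k hk
  have i1 := map_toId_isHomLift G k
  obtain ⟨χ, -, -⟩ := exists_iso_fac h𝒳 k φ₀ (G.map (toId k))
  exact ⟨χ.hom ≫ ψ₀ ≫ cT⟩

section main

variable (J : GrothendieckTopology C) (h𝒳 : IsFibGrpd 𝒳.p) (φ : 𝒳 ⥤ᵇ 𝒳) {x : 𝒳.obj}
  (ht : IsTerminal (𝒳.p.obj x)) (g : φ.obj x ⟶ x) (hg : 𝒳.p.IsHomLift (𝟙 (𝒳.p.obj x)) g)
  (hconj : ∀ (x' : 𝒳.obj) (c : x' ⟶ x) (g' : φ.obj x' ⟶ x'), 𝒳.p.IsHomLift (𝟙 (𝒳.p.obj x')) g' →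
      φ.map c ≫ g = g' ≫ c → ∀ α : AutO x', φ.map α.hom.1 ≫ g' = g' ≫ α.hom.1)

include ht hconj in
/-- The family `gPull` on the sieve, as a 2-morphism of the restrictions. -/
theorem exists_natTrans_gPull {T : C} (G : overCat T ⥤ᵇ 𝒳) (hfull : (resSieve (mapSieve G x) 𝒳).Full) :
    ∃ τ : BasedFunctor.comp G φ ⟶ G, ∀ ⦃W : C⦄ (k : W ⟶ T) (c : G.obj (Over.mk k) ⟶ x),
      τ.toNatTrans.app (Over.mk k) = gPull h𝒳 φ g hg c := by
  have hterm : ∀ (V : C) (a b : V ⟶ 𝒳.p.obj x), a = b := fun V a b => ht.hom_ext a b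
  let R := mapSieve G x
  let σ : (resSieve R 𝒳).obj (BasedFunctor.comp G φ) ⟶ (resSieve R 𝒳).obj G :=
    { app := fun a => gPull h𝒳 φ g hg (Classical.choice a.property)
      naturality := by
        intro a b j
        change φ.map (G.map j.hom) ≫ gPull h𝒳 φ g hg (Classical.choice b.property) =
          gPull h𝒳 φ g hg (Classical.choice a.property) ≫ G.map j.hom
        rw [gPull_natural]
        congr 1
        exact gPull_indep h𝒳 φ g hg hterm hconj _ _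
      isHomLift' := by
        intro a
        have h1 : 𝒳.p.IsHomLift (𝟙 (𝒳.p.obj (G.obj a.obj)))
            (gPull h𝒳 φ g hg (Classical.choice a.property)) :=
          gPull_isHomLift h𝒳 φ g hg (Classical.choice a.property)
        exact @isHomLift_id_of_eq _ _ _ _ 𝒳.p _ _ _ _ (G.w_obj a.obj) _ h1 }
  obtain ⟨τ, hτ⟩ := (resSieve R 𝒳).map_surjective σ
  refine ⟨τ, ?_⟩
  intro W k c
  have hk : R k := ⟨c⟩
  have h1 := congrArg (fun s => s.toNatTrans.app ⟨Over.mk k, hk⟩) hτ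
  change τ.toNatTrans.app (Over.mk k) = gPull h𝒳 φ g hg (Classical.choice _) at h1
  rw [h1]
  exact gPull_indep h𝒳 φ g hg hterm hconj _ _

include ht hconj in
/-- Existence of the fibrewise isomorphism at one object, with its characterisation. -/
theorem exists_rho_aux (hst : IsGerbe J 𝒳) (y : 𝒳.obj) {T : C} (hyT : 𝒳.p.obj y = T) :
    ∃ ρ : φ.obj y ⟶ y, 𝒳.p.IsHomLift (𝟙 T) ρ ∧
      ∀ (w : 𝒳.obj) (m : w ⟶ y) (c : w ⟶ x), φ.map m ≫ ρ = gPull h𝒳 φ g hg c ≫ m := by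
  have hterm : ∀ (V : C) (a b : V ⟶ 𝒳.p.obj x), a = b := fun V a b => ht.hom_ext a b
  obtain ⟨G, θ, hθ⟩ := exists_chart_of_obj h𝒳 y hyT
  have hcov : mapSieve G x ∈ J T := mapSieve_mem J h𝒳 hst.2.2 ht G
  have hequiv : (resSieve (mapSieve G x) 𝒳).IsEquivalence := hst.1.2 _ hcov
  have hfull : (resSieve (mapSieve G x) 𝒳).Full := inferInstance
  obtain ⟨τ, hτ⟩ := exists_natTrans_gPull h𝒳 φ ht g hg hconj G hfull
  have hθ' : 𝒳.p.IsHomLift (𝟙 T) θ.inv := by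
    have h2 : 𝒳.p.IsHomLift (inv (𝟙 T)) (inv θ.hom) := inferInstance
    simpa using h2
  have i0 : 𝒳.p.IsHomLift (𝟙 T) (τ.toNatTrans.app (Over.mk (𝟙 T))) := τ.isHomLift rfl
  refine ⟨φ.map θ.inv ≫ τ.toNatTrans.app (Over.mk (𝟙 T)) ≫ θ.hom, ?_, ?_⟩
  · have h2 : 𝒳.p.IsHomLift (𝟙 T ≫ 𝟙 T ≫ 𝟙 T)
      (φ.map θ.inv ≫ τ.toNatTrans.app (Over.mk (𝟙 T)) ≫ θ.hom) := inferInstance
    simpa using h2
  · intro w m c
    obtain ⟨W, hW⟩ : ∃ W, 𝒳.p.obj w = W := ⟨_, rfl⟩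
    let k : W ⟶ T := eqToHom hW.symm ≫ 𝒳.p.map m ≫ eqToHom hyT
    have i1 := map_toId_isHomLift G k
    have i2 : 𝒳.p.IsHomLift k (G.map (toId k) ≫ θ.hom) := by
      have h2 : 𝒳.p.IsHomLift (k ≫ 𝟙 T) (G.map (toId k) ≫ θ.hom) := inferInstance
      rw [Category.comp_id] at h2
      exact h2
    have i3 : 𝒳.p.IsHomLift k m := by
      apply IsHomLift.of_fac' 𝒳.p k m hW hyT
      simp [k]
    obtain ⟨χ, hχ1, hχ2⟩ := exists_iso_fac h𝒳 k (G.map (toId k) ≫ θ.hom) m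
    have n1 := τ.toNatTrans.naturality (toId k)
    change φ.map (G.map (toId k)) ≫ τ.toNatTrans.app (Over.mk (𝟙 T)) =
      τ.toNatTrans.app (Over.mk k) ≫ G.map (toId k) at n1
    rw [hτ k (χ.inv ≫ c)] at n1
    have n2 := gPull_natural h𝒳 φ g hg χ.hom (χ.inv ≫ c)
    rw [gPull_indep h𝒳 φ g hg hterm hconj (χ.hom ≫ χ.inv ≫ c) c] at n2
    calc φ.map m ≫ φ.map θ.inv ≫ τ.toNatTrans.app (Over.mk (𝟙 T)) ≫ θ.hom
        = φ.map χ.hom ≫ (φ.map (G.map (toId k)) ≫ τ.toNatTrans.app (Over.mk (𝟙 T))) ≫ θ.hom := by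
          rw [← hχ2]
          simp only [Functor.map_comp, Category.assoc]
          congr 2
          rw [← Category.assoc, ← φ.map_comp, Iso.hom_inv_id, φ.map_id, Category.id_comp]
      _ = (φ.map χ.hom ≫ gPull h𝒳 φ g hg (χ.inv ≫ c)) ≫ G.map (toId k) ≫ θ.hom := by
          rw [n1]; simp only [Category.assoc]
      _ = gPull h𝒳 φ g hg c ≫ m := by
          rw [n2, ← hχ2]; simp only [Category.assoc]

include ht hconj in
theorem natural_aux (hst : IsGerbe J 𝒳) {T : C} (y y' : 𝒳.obj) (hyT : 𝒳.p.obj y = T)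
    (hy' : 𝒳.p.obj y' = T) (f : y ⟶ y') (hf : 𝒳.p.IsHomLift (𝟙 T) f)
    (ρ : φ.obj y ⟶ y) (ρ' : φ.obj y' ⟶ y') (i1 : 𝒳.p.IsHomLift (𝟙 T) ρ)
    (i2 : 𝒳.p.IsHomLift (𝟙 T) ρ')
    (hρ : ∀ (w : 𝒳.obj) (m : w ⟶ y) (c : w ⟶ x), φ.map m ≫ ρ = gPull h𝒳 φ g hg c ≫ m)
    (hρ' : ∀ (w : 𝒳.obj) (m : w ⟶ y') (c : w ⟶ x), φ.map m ≫ ρ' = gPull h𝒳 φ g hg c ≫ m) :
    φ.map f ≫ ρ' = ρ ≫ f := by
  obtain ⟨G, θ, hθ⟩ := exists_chart_of_obj h𝒳 y hyT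
  have hcov : mapSieve G x ∈ J T := mapSieve_mem J h𝒳 hst.2.2 ht G
  have hequiv : (resSieve (mapSieve G x) 𝒳).IsEquivalence := hst.1.2 _ hcov
  have hfaith : (resSieve (mapSieve G x) 𝒳).Faithful := inferInstance
  have i3 : 𝒳.p.IsHomLift (𝟙 T) (φ.map f) := inferInstance
  have hA : 𝒳.p.IsHomLift (𝟙 T) (φ.map f ≫ ρ') := by
    have h2 : 𝒳.p.IsHomLift (𝟙 T ≫ 𝟙 T) (φ.map f ≫ ρ') := inferInstance
    simpa using h2
  have hB : 𝒳.p.IsHomLift (𝟙 T) (ρ ≫ f) := by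
    have h2 : 𝒳.p.IsHomLift (𝟙 T ≫ 𝟙 T) (ρ ≫ f) := inferInstance
    simpa using h2
  apply hom_ext_of_cover h𝒳 (mapSieve G x) hfaith ((φ.w_obj y).trans hyT) hy' _ _ hA hB
  intro W k hk w m' hm'
  obtain ⟨c⟩ := hk
  have j1 := map_toId_isHomLift G k
  have j2 : 𝒳.p.IsHomLift k (G.map (toId k) ≫ θ.hom) := by
    have h2 : 𝒳.p.IsHomLift (k ≫ 𝟙 T) (G.map (toId k) ≫ θ.hom) := inferInstance
    rw [Category.comp_id] at h2
    exact h2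
  have j3 : 𝒳.p.IsHomLift k (φ.map (G.map (toId k) ≫ θ.hom)) := inferInstance
  obtain ⟨ι, -, hι⟩ := exists_iso_fac h𝒳 k (φ.map (G.map (toId k) ≫ θ.hom)) m'
  rw [← hι]
  simp only [Category.assoc]
  congr 1
  have e1 := hρ' _ ((G.map (toId k) ≫ θ.hom) ≫ f) c
  have e2 := hρ _ (G.map (toId k) ≫ θ.hom) c
  rw [φ.map_comp, Category.assoc] at e1
  have e2' : φ.map (G.map (toId k) ≫ θ.hom) ≫ ρ ≫ f =
      (gPull h𝒳 φ g hg c ≫ G.map (toId k) ≫ θ.hom) ≫ f := by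
    rw [← Category.assoc, e2]
  rw [e1, e2']
  simp only [Category.assoc]

include h𝒳 hg ht hconj in
theorem main (hst : IsGerbe J 𝒳) :
    ∃ ρ : ∀ y : 𝒳.obj, φ.obj y ⟶ y,
      (∀ y, IsIso (ρ y) ∧ 𝒳.p.IsHomLift (𝟙 (𝒳.p.obj y)) (ρ y)) ∧
      (∀ (y y' : 𝒳.obj) (f : y ⟶ y'), 𝒳.p.IsHomLift (𝟙 (𝒳.p.obj y)) f → φ.map f ≫ ρ y' = ρ y ≫ f) := by
  choose ρ hρ1 hρ2 using fun y => exists_rho_aux J h𝒳 φ ht g hg hconj hst y rfl
  refine ⟨ρ, fun y => ⟨?_, hρ1 y⟩, ?_⟩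
  · have := hρ1 y
    exact isIso_of_isHomLift h𝒳 (𝟙 (𝒳.p.obj y)) (ρ y)
  · intro y y' f hf
    have hy' : 𝒳.p.obj y' = 𝒳.p.obj y := IsHomLift.codomain_eq 𝒳.p (𝟙 (𝒳.p.obj y)) f
    have i2 : 𝒳.p.IsHomLift (𝟙 (𝒳.p.obj y)) (ρ y') := by
      have := hρ1 y'
      exact isHomLift_id_of_eq hy' _
    exact natural_aux J h𝒳 φ ht g hg hconj hst y y' rfl hy' f hf (ρ y) (ρ y') (hρ1 y) i2
      (hρ2 y) (hρ2 y')

end main

end Groth.Agent.Helper26.Gerb3
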