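import Mathlib
import Groth.Prelude.Def_StGerb2
import Groth.Agent.Lib.Helper26.Gerb3

/-!
# Gerbes: `φ ∘ ψ` is fibrewise isomorphic to the identity (helper26)
-/

set_option autoImplicit false
set_option backward.isDefEq.respectTransparency false

universe v u

open CategoryTheory CategoryTheory.Limits Functor

namespace Groth.Agent.Helper26.Gerb4

open FibCat Gerb Stk Groth.Agent.Helper19.FibLib Groth.Agent.Helper25.GerbLib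
  Groth.Agent.Helper19.YonLib Groth.Agent.Helper26.Gerb1 Groth.Agent.Helper26.Gerb2
  Groth.Agent.Helper26.Gerb3

variable {C : Type u} [Category.{v} C] {𝒳 𝒴 : BasedCategory.{v, max u v} C}

theorem conj_transfer (h𝒳 : IsFibGrpd 𝒳.p) (h𝒴 : IsFibGrpd 𝒴.p)
    (φ : 𝒳 ⥤ᵇ 𝒴) (ψ : 𝒴 ⥤ᵇ 𝒳) (x : 𝒳.obj)
    (hφ : ∀ (x' : 𝒳.obj) (c : x' ⟶ x), Function.Surjective (Gerb.autMap φ x'))
    (g : ψ.obj (φ.obj x) ⟶ x) (hg : 𝒳.p.IsHomLift (𝟙 (𝒳.p.obj x)) g)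
    (hconj : ∀ (x' : 𝒳.obj) (c : x' ⟶ x) (g' : ψ.obj (φ.obj x') ⟶ x'),
      𝒳.p.IsHomLift (𝟙 (𝒳.p.obj x')) g' →
      ψ.map (φ.map c) ≫ g = g' ≫ c → ∀ α : Gerb.AutO x', ψ.map (φ.map α.hom.1) ≫ g' = g' ≫ α.hom.1)
    (y' : 𝒴.obj) (c : y' ⟶ φ.obj x) (g'' : φ.obj (ψ.obj y') ⟶ y')
    (hg'' : 𝒴.p.IsHomLift (𝟙 (𝒴.p.obj y')) g'')
    (hc : φ.map (ψ.map c) ≫ φ.map g = g'' ≫ c) (β : Gerb.AutO y') :
    φ.map (ψ.map β.hom.1) ≫ g'' = g'' ≫ β.hom.1 := by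
  set T := 𝒴.p.obj y' with hT
  let k : T ⟶ 𝒳.p.obj x := 𝒴.p.map c ≫ eqToHom (φ.w_obj x)
  obtain ⟨w, cw, hcw⟩ := h𝒳.exists_lift (x := x) k
  have hwT : 𝒳.p.obj w = T := IsHomLift.domain_eq 𝒳.p k cw
  have i1 : 𝒴.p.IsHomLift k (φ.map cw) := inferInstance
  have i2 : 𝒴.p.IsHomLift k c := by
    apply IsHomLift.of_fac' 𝒴.p k c rfl (φ.w_obj x)
    simp [k]
  obtain ⟨ι, hι1, hι2⟩ := exists_iso_fac h𝒴 k (φ.map cw) c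
  have hι3 : ι.inv ≫ c = φ.map cw := by rw [← hι2, Iso.inv_hom_id_assoc]
  have hι1' : 𝒴.p.IsHomLift (𝟙 T) ι.inv := by
    have h2 : 𝒴.p.IsHomLift (inv (𝟙 T)) (inv ι.hom) := inferInstance
    simpa using h2
  -- the pull-back of `g` to `w`
  let Φ : 𝒳 ⥤ᵇ 𝒳 := BasedFunctor.comp φ ψ
  let ρw : ψ.obj (φ.obj w) ⟶ w := gPull h𝒳 Φ g hg cw
  have hρ1 : 𝒳.p.IsHomLift (𝟙 (𝒳.p.obj w)) ρw := gPull_isHomLift h𝒳 Φ g hg cw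
  have hρ1' : 𝒳.p.IsHomLift (𝟙 T) ρw := isHomLift_id_of_eq hwT _
  have hρ2 : ρw ≫ cw = ψ.map (φ.map cw) ≫ g := gPull_comp h𝒳 Φ g hg cw
  -- `g''` is conjugate to `φ ρw`
  have j1 : 𝒴.p.IsHomLift (𝟙 T) (φ.map ρw) := inferInstance
  have j2 : 𝒴.p.IsHomLift (𝟙 T) (φ.map (ψ.map ι.hom)) := inferInstance
  have j3 : 𝒴.p.IsHomLift (𝟙 T) (φ.map (ψ.map ι.hom) ≫ φ.map ρw ≫ ι.inv) := by
    have h2 : 𝒴.p.IsHomLift (𝟙 T ≫ 𝟙 T ≫ 𝟙 T) (φ.map (ψ.map ι.hom) ≫ φ.map ρw ≫ ι.inv) :=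
      inferInstance
    simpa using h2
  have hg''eq : g'' = φ.map (ψ.map ι.hom) ≫ φ.map ρw ≫ ι.inv := by
    apply hom_ext_of_comp_eq h𝒴 k c (𝟙 T)
    rw [← hc]
    simp only [Category.assoc]
    have e1 : φ.map ρw ≫ φ.map cw = φ.map (ψ.map (φ.map cw)) ≫ φ.map g := by
      rw [← φ.map_comp, hρ2, φ.map_comp]
    have e2 : φ.map (ψ.map ι.hom) ≫ φ.map (ψ.map (φ.map cw)) = φ.map (ψ.map c) := by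
      rw [← φ.map_comp, ← ψ.map_comp, hι2]
    rw [hι3, e1, ← Category.assoc, e2]
  -- the automorphism
  have hβ : 𝒴.p.IsHomLift (𝟙 T) β.hom.1 := β.hom.2
  have hγ : 𝒴.p.IsHomLift (𝟙 (𝒴.p.obj (φ.obj w))) (ι.inv ≫ β.hom.1 ≫ ι.hom) := by
    have h2 : 𝒴.p.IsHomLift (𝟙 T ≫ 𝟙 T ≫ 𝟙 T) (ι.inv ≫ β.hom.1 ≫ ι.hom) := inferInstance
    have h3 : 𝒴.p.IsHomLift (𝟙 T) (ι.inv ≫ β.hom.1 ≫ ι.hom) := by simpa using h2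
    exact isHomLift_id_of_eq ((φ.w_obj w).trans hwT).symm _
  obtain ⟨α, hα⟩ := hφ w cw (autOfHom h𝒴 _ hγ)
  have hα' : φ.map α.hom.1 = ι.inv ≫ β.hom.1 ≫ ι.hom := by
    have := congrArg (fun a : AutO (φ.obj w) => a.hom.1) hα
    simpa using this
  have hc7 := hconj w cw ρw hρ1 hρ2.symm α
  have hβι : β.hom.1 ≫ ι.hom = ι.hom ≫ φ.map α.hom.1 := by
    rw [hα', Iso.hom_inv_id_assoc]
  have hβι' : ι.inv ≫ β.hom.1 = φ.map α.hom.1 ≫ ι.inv := by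
    rw [hα']; simp
  rw [hg''eq]
  simp only [Category.assoc]
  rw [hβι', ← Category.assoc (φ.map ρw), ← φ.map_comp, ← hc7, φ.map_comp]
  rw [← Category.assoc, ← φ.map_comp, ← ψ.map_comp, hβι, ψ.map_comp, φ.map_comp]
  simp only [Category.assoc]

theorem main (J : GrothendieckTopology C) (h𝒳 : IsGerbe J 𝒳) (h𝒴 : IsGerbe J 𝒴)
    (φ : 𝒳 ⥤ᵇ 𝒴) (ψ : 𝒴 ⥤ᵇ 𝒳) (x : 𝒳.obj) (ht : IsTerminal (𝒳.p.obj x))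
    (hφ : ∀ (x' : 𝒳.obj) (c : x' ⟶ x), Function.Surjective (Gerb.autMap φ x'))
    (g : ψ.obj (φ.obj x) ⟶ x) (hg : 𝒳.p.IsHomLift (𝟙 (𝒳.p.obj x)) g)
    (hconj : ∀ (x' : 𝒳.obj) (c : x' ⟶ x) (g' : ψ.obj (φ.obj x') ⟶ x'),
      𝒳.p.IsHomLift (𝟙 (𝒳.p.obj x')) g' →
      ψ.map (φ.map c) ≫ g = g' ≫ c → ∀ α : Gerb.AutO x', ψ.map (φ.map α.hom.1) ≫ g' = g' ≫ α.hom.1) :
    ∃ σ : ∀ z : 𝒴.obj, φ.obj (ψ.obj z) ⟶ z,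
      (∀ z, IsIso (σ z) ∧ 𝒴.p.IsHomLift (𝟙 (𝒴.p.obj z)) (σ z)) ∧
      (∀ (z z' : 𝒴.obj) (f : z ⟶ z'), 𝒴.p.IsHomLift (𝟙 (𝒴.p.obj z)) f →
        φ.map (ψ.map f) ≫ σ z' = σ z ≫ f) := by
  have ht' : IsTerminal (𝒴.p.obj (φ.obj x)) := by
    rw [φ.w_obj x]; exact ht
  have hg' : 𝒴.p.IsHomLift (𝟙 (𝒴.p.obj (φ.obj x))) (φ.map g) := by
    have : 𝒴.p.IsHomLift (𝟙 (𝒳.p.obj x)) (φ.map g) := inferInstance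
    exact isHomLift_id_of_eq (φ.w_obj x).symm _
  exact Gerb3.main J h𝒴.1.1 (BasedFunctor.comp ψ φ) ht' (φ.map g) hg'
    (fun y' c g'' hg'' hc β =>
      conj_transfer h𝒳.1.1 h𝒴.1.1 φ ψ x hφ g hg hconj y' c g'' hg'' hc β) h𝒴

end Groth.Agent.Helper26.Gerb4
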