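import Mathlib
import Groth.Prelude.Def_StGerb2
import Groth.Agent.Lib.Helper26.Gerb3

/-!
# Gerbes: a functor bijective on the automorphism sheaf of a global object is faithful (helper26)
-/

set_option autoImplicit false
set_option backward.isDefEq.respectTransparency false

universe v u

open CategoryTheory CategoryTheory.Limits Functor

namespace Groth.Agent.Helper26.Gerb5

open FibCat Gerb Stk Groth.Agent.Helper19.FibLib Groth.Agent.Helper25.GerbLib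
  Groth.Agent.Helper19.YonLib Groth.Agent.Helper26.Gerb1 Groth.Agent.Helper26.Gerb2
  Groth.Agent.Helper26.Gerb3

variable {C : Type u} [Category.{v} C] {𝒳 𝒴 : BasedCategory.{v, max u v} C}

theorem autOfHom_eq_one (h𝒳 : IsFibGrpd 𝒳.p) {z : 𝒳.obj} (α : z ⟶ z)
    (hα : 𝒳.p.IsHomLift (𝟙 (𝒳.p.obj z)) α) (h : autOfHom h𝒳 α hα = 1) : α = 𝟙 z := by
  have := congrArg (fun a : AutO z => a.hom.1) h
  exact this

section

variable (J : GrothendieckTopology C) (h𝒳 : IsGerbe J 𝒳) (h𝒴 : IsFibGrpd 𝒴.p)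
  (φ : 𝒳 ⥤ᵇ 𝒴) (s : 𝒳.obj) (ht : IsTerminal (𝒳.p.obj s))
  (hφ : ∀ (x : 𝒳.obj) (c : x ⟶ s), Function.Injective (Gerb.autMap φ x))

include hφ in
/-- Injectivity on automorphisms for objects mapping to `s`, for plain morphisms. -/
theorem eq_id_of_map_eq_id_of_hom (h𝒳' : IsFibGrpd 𝒳.p) {w : 𝒳.obj} (c : w ⟶ s) {W : C}
    (hw : 𝒳.p.obj w = W)
    (α : w ⟶ w) (hα : 𝒳.p.IsHomLift (𝟙 W) α) (h : φ.map α = 𝟙 (φ.obj w)) : α = 𝟙 w := by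
  subst hw
  apply autOfHom_eq_one h𝒳' α hα
  apply hφ w c
  apply Aut.ext
  apply Functor.Fiber.hom_ext
  change φ.map α = φ.map (𝟙 w)
  rw [h]
  exact (φ.toFunctor.map_id w).symm

include J h𝒳 h𝒴 ht hφ in
theorem eq_id_of_map_eq_id {y : 𝒳.obj} {T : C} (hy : 𝒳.p.obj y = T) (α : y ⟶ y)
    (hα : 𝒳.p.IsHomLift (𝟙 T) α) (h : φ.map α = 𝟙 (φ.obj y)) : α = 𝟙 y := by
  have h𝒳' := h𝒳.1.1
  obtain ⟨G, θ, hθ⟩ := exists_chart_of_obj h𝒳' y hy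
  have hcov : mapSieve G s ∈ J T := mapSieve_mem J h𝒳' h𝒳.2.2 ht G
  have hequiv : (resSieve (mapSieve G s) 𝒳).IsEquivalence := h𝒳.1.2 _ hcov
  have hfaith : (resSieve (mapSieve G s) 𝒳).Faithful := inferInstance
  have hid : 𝒳.p.IsHomLift (𝟙 T) (𝟙 y) := IsHomLift.id hy
  apply hom_ext_of_cover h𝒳' (mapSieve G s) hfaith hy hy α (𝟙 y) hα hid
  intro W k hk w m hm
  obtain ⟨c⟩ := hk
  have j1 := map_toId_isHomLift G k
  have j2 : 𝒳.p.IsHomLift k (G.map (toId k) ≫ θ.hom) := by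
    have h2 : 𝒳.p.IsHomLift (k ≫ 𝟙 T) (G.map (toId k) ≫ θ.hom) := inferInstance
    rw [Category.comp_id] at h2
    exact h2
  obtain ⟨χ, -, -⟩ := exists_iso_fac h𝒳' k (G.map (toId k) ≫ θ.hom) m
  have j3 : 𝒳.p.IsHomLift k (m ≫ α) := by
    have h2 : 𝒳.p.IsHomLift (k ≫ 𝟙 T) (m ≫ α) := inferInstance
    rw [Category.comp_id] at h2
    exact h2
  obtain ⟨αw, ⟨hαw1, hαw2⟩, -⟩ := existsUnique_fac h𝒳' k m (𝟙 W) k (by simp) (m ≫ α)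
  have hW : 𝒳.p.obj w = W := IsHomLift.domain_eq 𝒳.p k m
  have j4 : 𝒴.p.IsHomLift k (φ.map m) := inferInstance
  have j5 : 𝒴.p.IsHomLift (𝟙 W) (φ.map αw) := inferInstance
  have j6 : 𝒴.p.IsHomLift (𝟙 W) (𝟙 (φ.obj w)) := IsHomLift.id ((φ.w_obj w).trans hW)
  have h3 : φ.map αw = 𝟙 (φ.obj w) := by
    apply hom_ext_of_comp_eq h𝒴 k (φ.map m) (𝟙 W)
    rw [← φ.map_comp, hαw2, φ.map_comp, h, Category.comp_id, Category.id_comp]
  have h4 := eq_id_of_map_eq_id_of_hom φ s hφ h𝒳' (χ.hom ≫ c) hW αw hαw1 h3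
  rw [← hαw2, h4, Category.id_comp, Category.comp_id]

include J h𝒳 h𝒴 ht hφ in
theorem map_injective {y y' : 𝒳.obj} (a b : y ⟶ y') (h : φ.map a = φ.map b) : a = b := by
  have h𝒳' := h𝒳.1.1
  have i1 : 𝒴.p.IsHomLift (𝒳.p.map a) (φ.map b) := by
    rw [← h]; infer_instance
  have i2 : 𝒳.p.IsHomLift (𝒳.p.map a) b := (BasedFunctor.isHomLift_iff φ _ b).1 i1
  obtain ⟨α, ⟨hα1, hα2⟩, -⟩ :=
    existsUnique_fac h𝒳' (𝒳.p.map a) a (𝟙 (𝒳.p.obj y)) (𝒳.p.map a) (by simp) b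
  have j5 : 𝒴.p.IsHomLift (𝟙 (𝒳.p.obj y)) (φ.map α) := inferInstance
  have j6 : 𝒴.p.IsHomLift (𝟙 (𝒳.p.obj y)) (𝟙 (φ.obj y)) := IsHomLift.id (φ.w_obj y)
  have j7 : 𝒴.p.IsHomLift (𝒳.p.map a) (φ.map a) := inferInstance
  have h3 : φ.map α = 𝟙 (φ.obj y) := by
    apply hom_ext_of_comp_eq h𝒴 (𝒳.p.map a) (φ.map a) (𝟙 (𝒳.p.obj y))
    rw [← φ.map_comp, hα2, h, Category.id_comp]
  have h4 := eq_id_of_map_eq_id J h𝒳 h𝒴 φ s ht hφ rfl α hα1 h3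
  rw [← hα2, h4, Category.id_comp]

end

end Groth.Agent.Helper26.Gerb5
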