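import Mathlib
import Groth.Prelude.Def_StGerb2
import Groth.Agent.Lib.Helper26.Gerb2

/-!
# Stacks in groupoids: gluing of morphisms over an identity (helper26)
-/

set_option autoImplicit false
set_option backward.isDefEq.respectTransparency false

universe v u

open CategoryTheory CategoryTheory.Limits Functor

namespace Groth.Agent.Helper26.Gerb6

open FibCat Gerb Stk Groth.Agent.Helper19.FibLib Groth.Agent.Helper25.GerbLib
  Groth.Agent.Helper19.YonLib Groth.Agent.Helper26.Gerb2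

variable {C : Type u} [Category.{v} C] {𝒳 : BasedCategory.{v, max u v} C}

/-- Gluing of morphisms: a compatible family of morphisms, given by a functional relation `P` on the
pull-backs of `u` along the members of a sieve `R` for which restriction is full, comes from a
morphism `u ⟶ v` over the identity. -/
theorem exists_glue (h𝒳 : IsFibGrpd 𝒳.p) {T : C} (R : Sieve T) (hfull : (resSieve R 𝒳).Full)
    {u v : 𝒳.obj} (hu : 𝒳.p.obj u = T) (hv : 𝒳.p.obj v = T)
    (P : ∀ ⦃w : 𝒳.obj⦄, (w ⟶ u) → (w ⟶ v) → Prop)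
    (hP_ex : ∀ ⦃W : C⦄ (k : W ⟶ T), R k → ∀ (w : 𝒳.obj) (m : w ⟶ u), 𝒳.p.IsHomLift k m →
      ∃ n : w ⟶ v, 𝒳.p.IsHomLift k n ∧ P m n)
    (hP_uniq : ∀ (w : 𝒳.obj) (m : w ⟶ u) (n n' : w ⟶ v), P m n → P m n' → n = n')
    (hP_comp : ∀ (w w' : 𝒳.obj) (j : w' ⟶ w) (m : w ⟶ u) (n : w ⟶ v), P m n → P (j ≫ m) (j ≫ n)) :
    ∃ a : u ⟶ v, 𝒳.p.IsHomLift (𝟙 T) a ∧
      ∀ ⦃W : C⦄ (k : W ⟶ T), R k → ∀ (w : 𝒳.obj) (m : w ⟶ u), 𝒳.p.IsHomLift k m → P m (m ≫ a) := by
  obtain ⟨Gu, θu, hθu⟩ := exists_chart_of_obj h𝒳 u hu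
  obtain ⟨Gv, θv, hθv⟩ := exists_chart_of_obj h𝒳 v hv
  have hθu' : 𝒳.p.IsHomLift (𝟙 T) θu.inv := by
    have h2 : 𝒳.p.IsHomLift (inv (𝟙 T)) (inv θu.hom) := inferInstance
    simpa using h2
  -- the canonical morphisms to `u` and `v`
  let mu : ∀ a : Over T, Gu.obj a ⟶ u := fun a => Gu.map (toId a.hom) ≫ θu.hom
  let mv : ∀ a : Over T, Gv.obj a ⟶ v := fun a => Gv.map (toId a.hom) ≫ θv.hom
  have hmu : ∀ a : Over T, 𝒳.p.IsHomLift a.hom (mu a) := by
    intro a
    have j1 := map_toId_isHomLift Gu a.hom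
    have h2 : 𝒳.p.IsHomLift (a.hom ≫ 𝟙 T) (Gu.map (toId a.hom) ≫ θu.hom) := inferInstance
    rw [Category.comp_id] at h2
    exact h2
  have hmv : ∀ a : Over T, 𝒳.p.IsHomLift a.hom (mv a) := by
    intro a
    have j1 := map_toId_isHomLift Gv a.hom
    have h2 : 𝒳.p.IsHomLift (a.hom ≫ 𝟙 T) (Gv.map (toId a.hom) ≫ θv.hom) := inferInstance
    rw [Category.comp_id] at h2
    exact h2
  have hmu_nat : ∀ {a b : Over T} (j : a ⟶ b), Gu.map j ≫ mu b = mu a := by
    intro a b j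
    have e1 : j ≫ toId b.hom = toId a.hom := by
      ext
      simp
    change Gu.map j ≫ Gu.map (toId b.hom) ≫ θu.hom = Gu.map (toId a.hom) ≫ θu.hom
    rw [← Category.assoc, ← Gu.map_comp, e1]
  have hmv_nat : ∀ {a b : Over T} (j : a ⟶ b), Gv.map j ≫ mv b = mv a := by
    intro a b j
    have e1 : j ≫ toId b.hom = toId a.hom := by
      ext
      simp
    change Gv.map j ≫ Gv.map (toId b.hom) ≫ θv.hom = Gv.map (toId a.hom) ≫ θv.hom
    rw [← Category.assoc, ← Gv.map_comp, e1]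
  -- the local morphisms
  have hn : ∀ a : (sieveCat R).obj, ∃ n : Gu.obj a.obj ⟶ v, 𝒳.p.IsHomLift a.obj.hom n ∧ P (mu a.obj) n :=
    fun a => hP_ex a.obj.hom a.property _ (mu a.obj) (hmu a.obj)
  choose n hn1 hn2 using hn
  have hσ : ∀ a : (sieveCat R).obj, ∃ σ : Gu.obj a.obj ⟶ Gv.obj a.obj,
      𝒳.p.IsHomLift (𝟙 a.obj.left) σ ∧ σ ≫ mv a.obj = n a := by
    intro a
    have := hmv a.obj
    have := hn1 a
    obtain ⟨σ, ⟨h1, h2⟩, -⟩ :=
      existsUnique_fac h𝒳 a.obj.hom (mv a.obj) (𝟙 a.obj.left) a.obj.hom (by simp) (n a)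
    exact ⟨σ, h1, h2⟩
  choose σ hσ1 hσ2 using hσ
  let σ' : (resSieve R 𝒳).obj Gu ⟶ (resSieve R 𝒳).obj Gv :=
    { app := σ
      naturality := by
        intro a b j
        change Gu.map j.hom ≫ σ b = σ a ≫ Gv.map j.hom
        have i1 := hmv b.obj
        have i2 : 𝒳.p.IsHomLift j.hom.left (Gu.map j.hom) := by
          have h1 : (overCat T).p.IsHomLift j.hom.left j.hom := by
            apply IsHomLift.of_fac (overCat T).p _ _ rfl rfl
            simp only [eqToHom_refl, Category.comp_id, Category.id_comp]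
            rfl
          exact inferInstance
        have i3 : 𝒳.p.IsHomLift j.hom.left (Gv.map j.hom) := by
          have h1 : (overCat T).p.IsHomLift j.hom.left j.hom := by
            apply IsHomLift.of_fac (overCat T).p _ _ rfl rfl
            simp only [eqToHom_refl, Category.comp_id, Category.id_comp]
            rfl
          exact inferInstance
        have i4 := hσ1 a
        have i5 := hσ1 b
        have i6 : 𝒳.p.IsHomLift j.hom.left (Gu.map j.hom ≫ σ b) := by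
          have h2 : 𝒳.p.IsHomLift (j.hom.left ≫ 𝟙 b.obj.left) (Gu.map j.hom ≫ σ b) := inferInstance
          rw [Category.comp_id] at h2
          exact h2
        have i7 : 𝒳.p.IsHomLift j.hom.left (σ a ≫ Gv.map j.hom) := by
          have h2 : 𝒳.p.IsHomLift (𝟙 a.obj.left ≫ j.hom.left) (σ a ≫ Gv.map j.hom) := inferInstance
          rw [Category.id_comp] at h2
          exact h2
        apply hom_ext_of_comp_eq h𝒳 b.obj.hom (mv b.obj) j.hom.left
        rw [Category.assoc, hσ2, Category.assoc, hmv_nat, hσ2]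
        apply hP_uniq _ (mu a.obj) _ _ _ (hn2 a)
        have := hP_comp _ _ (Gu.map j.hom) (mu b.obj) (n b) (hn2 b)
        rw [hmu_nat] at this
        exact this
      isHomLift' := fun a => hσ1 a }
  obtain ⟨τ, hτ⟩ := (resSieve R 𝒳).map_surjective σ'
  have hτ' : ∀ a : (sieveCat R).obj, τ.toNatTrans.app a.obj = σ a := by
    intro a
    have h1 := congrArg (fun s => s.toNatTrans.app a) hτ
    exact h1
  have i0 : 𝒳.p.IsHomLift (𝟙 T) (τ.toNatTrans.app (Over.mk (𝟙 T))) := τ.isHomLift rfl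
  refine ⟨θu.inv ≫ τ.toNatTrans.app (Over.mk (𝟙 T)) ≫ θv.hom, ?_, ?_⟩
  · have h2 : 𝒳.p.IsHomLift (𝟙 T ≫ 𝟙 T ≫ 𝟙 T)
      (θu.inv ≫ τ.toNatTrans.app (Over.mk (𝟙 T)) ≫ θv.hom) := inferInstance
    simpa using h2
  · intro W k hk w m hm
    let a : (sieveCat R).obj := ⟨Over.mk k, hk⟩
    have i1 : 𝒳.p.IsHomLift k (mu a.obj) := hmu a.obj
    obtain ⟨χ, -, hχ⟩ := exists_iso_fac h𝒳 k (mu a.obj) m
    have n1 := τ.toNatTrans.naturality (toId k)
    change Gu.map (toId k) ≫ τ.toNatTrans.app (Over.mk (𝟙 T)) =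
      τ.toNatTrans.app (Over.mk k) ≫ Gv.map (toId k) at n1
    have e1 : m ≫ θu.inv ≫ τ.toNatTrans.app (Over.mk (𝟙 T)) ≫ θv.hom = χ.hom ≫ n a := by
      rw [← hχ, ← hσ2 a, ← hτ' a]
      change (χ.hom ≫ Gu.map (toId k) ≫ θu.hom) ≫ θu.inv ≫ τ.toNatTrans.app (Over.mk (𝟙 T)) ≫ θv.hom =
        χ.hom ≫ τ.toNatTrans.app (Over.mk k) ≫ Gv.map (toId k) ≫ θv.hom
      simp only [Category.assoc, Iso.hom_inv_id_assoc]
      rw [← Category.assoc (Gu.map (toId k)), n1]
      simp only [Category.assoc]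
    rw [e1, ← hχ]
    exact hP_comp _ _ χ.hom (mu a.obj) (n a) (hn2 a)

end Groth.Agent.Helper26.Gerb6
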