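import Mathlib
import Groth.Prelude.Def_StGerb2
import Groth.Agent.Lib.Helper26.Gerb5
import Groth.Agent.Lib.Helper26.Gerb6

/-!
# Gerbes: a functor bijective on the automorphism sheaf of a global object is full (helper26)
-/

set_option autoImplicit false
set_option backward.isDefEq.respectTransparency false

universe v u

open CategoryTheory CategoryTheory.Limits Functor

namespace Groth.Agent.Helper26.Gerb7

open FibCat Gerb Stk Groth.Agent.Helper19.FibLib Groth.Agent.Helper25.GerbLib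
  Groth.Agent.Helper19.YonLib Groth.Agent.Helper26.Gerb1 Groth.Agent.Helper26.Gerb2
  Groth.Agent.Helper26.Gerb3 Groth.Agent.Helper26.Gerb5 Groth.Agent.Helper26.Gerb6

variable {C : Type u} [Category.{v} C] {𝒳 𝒴 : BasedCategory.{v, max u v} C}

section

variable (J : GrothendieckTopology C) (h𝒳 : IsGerbe J 𝒳) (h𝒴 : IsGerbe J 𝒴)
  (φ : 𝒳 ⥤ᵇ 𝒴) (s : 𝒳.obj) (ht : IsTerminal (𝒳.p.obj s))
  (hφ : ∀ (x : 𝒳.obj) (c : x ⟶ s), Function.Bijective (Gerb.autMap φ x))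

include J h𝒳 h𝒴 ht hφ in
/-- Fullness on morphisms over an identity. -/
theorem exists_preimage_fiber {T : C} {y y₀ : 𝒳.obj} (hy : 𝒳.p.obj y = T) (hy₀ : 𝒳.p.obj y₀ = T)
    (b : φ.obj y ⟶ φ.obj y₀) (hb : 𝒴.p.IsHomLift (𝟙 T) b) :
    ∃ a : y ⟶ y₀, 𝒳.p.IsHomLift (𝟙 T) a ∧ φ.map a = b := by
  have h𝒳' := h𝒳.1.1
  have h𝒴' := h𝒴.1.1
  have hinj : ∀ (x : 𝒳.obj) (c : x ⟶ s), Function.Injective (Gerb.autMap φ x) :=
    fun x c => (hφ x c).1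
  obtain ⟨G, θ, hθ⟩ := exists_chart_of_obj h𝒳' y hy
  have hcov₂ : mapSieve G s ∈ J T := mapSieve_mem J h𝒳' h𝒳.2.2 ht G
  -- local isomorphy of `y` and `y₀`
  let b₀ : (toSelf 𝒳).obj y ⟶ (toSelf 𝒳).obj y₀ := eqToHom (hy.trans hy₀.symm)
  have hb₀ : (selfOver C).p.IsHomLift (𝟙 T) b₀ := by
    apply IsHomLift.of_fac (selfOver C).p (𝟙 T) b₀ hy hy₀
    simp only [b₀]
    rw [eqToHom_map]
    simp
  obtain ⟨R₁, hR₁, hR₁'⟩ := (locSurjHom_iff J (toSelf 𝒳)).1 h𝒳.2.2 T y y₀ b₀ hb₀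
  let R : Sieve T := R₁ ⊓ mapSieve G s
  have hR : R ∈ J T := J.intersection_covering hR₁ hcov₂
  have hequiv : (resSieve R 𝒳).IsEquivalence := h𝒳.1.2 _ hR
  have hfull : (resSieve R 𝒳).Full := inferInstance
  have hequiv' : (resSieve R 𝒴).IsEquivalence := h𝒴.1.2 _ hR
  have hfaith' : (resSieve R 𝒴).Faithful := inferInstance
  have hex : ∀ ⦃W : C⦄ (k : W ⟶ T), R k → ∀ (w : 𝒳.obj) (m : w ⟶ y), 𝒳.p.IsHomLift k m →
      ∃ n : w ⟶ y₀, 𝒳.p.IsHomLift k n ∧ φ.map n = φ.map m ≫ b := by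
    intro W k hk w m hm
    obtain ⟨x₀, a₁, a₂, ha₁, ha₂, -⟩ := hR₁' k hk.1
    obtain ⟨c⟩ := hk.2
    have j1 := map_toId_isHomLift G k
    have j2 : 𝒳.p.IsHomLift k (G.map (toId k) ≫ θ.hom) := by
      have h2 : 𝒳.p.IsHomLift (k ≫ 𝟙 T) (G.map (toId k) ≫ θ.hom) := inferInstance
      rw [Category.comp_id] at h2
      exact h2
    obtain ⟨χ, -, -⟩ := exists_iso_fac h𝒳' k (G.map (toId k) ≫ θ.hom) m
    obtain ⟨e, he1, he2⟩ := exists_iso_fac h𝒳' k a₁ m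
    let m₀ : w ⟶ y₀ := e.hom ≫ a₂
    have hm₀ : 𝒳.p.IsHomLift k m₀ := by
      have h2 : 𝒳.p.IsHomLift (𝟙 W ≫ k) (e.hom ≫ a₂) := inferInstance
      rw [Category.id_comp] at h2
      exact h2
    have hW : 𝒳.p.obj w = W := IsHomLift.domain_eq 𝒳.p k m
    have j3 : 𝒴.p.IsHomLift k (φ.map m₀) := inferInstance
    have j4 : 𝒴.p.IsHomLift k (φ.map m ≫ b) := by
      have h2 : 𝒴.p.IsHomLift (k ≫ 𝟙 T) (φ.map m ≫ b) := inferInstance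
      rw [Category.comp_id] at h2
      exact h2
    obtain ⟨β, ⟨hβ1, hβ2⟩, -⟩ :=
      existsUnique_fac h𝒴' k (φ.map m₀) (𝟙 W) k (by simp) (φ.map m ≫ b)
    have hβ1' : 𝒴.p.IsHomLift (𝟙 (𝒴.p.obj (φ.obj w))) β :=
      isHomLift_id_of_eq ((φ.w_obj w).trans hW).symm _
    obtain ⟨α, hα⟩ := (hφ w (χ.hom ≫ c)).2 (autOfHom h𝒴' β hβ1')
    have hα' : φ.map α.hom.1 = β := by
      have := congrArg (fun a : AutO (φ.obj w) => a.hom.1) hα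
      simpa using this
    have hα1 : 𝒳.p.IsHomLift (𝟙 W) α.hom.1 := by
      have := α.hom.2
      exact isHomLift_id_of_eq hW _
    refine ⟨α.hom.1 ≫ m₀, ?_, ?_⟩
    · have h2 : 𝒳.p.IsHomLift (𝟙 W ≫ k) (α.hom.1 ≫ m₀) := inferInstance
      rw [Category.id_comp] at h2
      exact h2
    · change φ.map (α.hom.1 ≫ m₀) = φ.map m ≫ b
      rw [φ.map_comp, hα', hβ2]
  have hun : ∀ (w : 𝒳.obj) (m : w ⟶ y) (n n' : w ⟶ y₀), φ.map n = φ.map m ≫ b →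
      φ.map n' = φ.map m ≫ b → n = n' := by
    intro w m n n' h1 h2
    exact map_injective J h𝒳 h𝒴' φ s ht hinj n n' (h1.trans h2.symm)
  have hco : ∀ (w w' : 𝒳.obj) (j : w' ⟶ w) (m : w ⟶ y) (n : w ⟶ y₀), φ.map n = φ.map m ≫ b →
      φ.map (j ≫ n) = φ.map (j ≫ m) ≫ b := by
    intro w w' j m n h1
    rw [φ.map_comp, h1, φ.map_comp, Category.assoc]
  obtain ⟨a, ha1, ha2⟩ := exists_glue h𝒳' R hfull hy hy₀
    (fun w m n => φ.map n = φ.map m ≫ b) hex hun hco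
  refine ⟨a, ha1, ?_⟩
  have i1 : 𝒴.p.IsHomLift (𝟙 T) (φ.map a) := inferInstance
  apply hom_ext_of_cover h𝒴' R hfaith' ((φ.w_obj y).trans hy) ((φ.w_obj y₀).trans hy₀) _ _ i1 hb
  intro W k hk w' m' hm'
  obtain ⟨w, m, hm⟩ := exists_lift' h𝒳' y hy k
  have i2 : 𝒴.p.IsHomLift k (φ.map m) := inferInstance
  obtain ⟨ι, -, hι⟩ := exists_iso_fac h𝒴' k (φ.map m) m'
  rw [← hι, Category.assoc, Category.assoc, ← φ.map_comp, ha2 k hk w m hm]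

include J h𝒳 h𝒴 ht hφ in
theorem map_surjective {y y' : 𝒳.obj} (b : φ.obj y ⟶ φ.obj y') : ∃ a : y ⟶ y', φ.map a = b := by
  have h𝒳' := h𝒳.1.1
  have h𝒴' := h𝒴.1.1
  let f : 𝒳.p.obj y ⟶ 𝒳.p.obj y' :=
    eqToHom (φ.w_obj y).symm ≫ 𝒴.p.map b ≫ eqToHom (φ.w_obj y')
  obtain ⟨y₀, a₀, ha₀⟩ := h𝒳'.exists_lift (x := y') f
  have hy₀ : 𝒳.p.obj y₀ = 𝒳.p.obj y := IsHomLift.domain_eq 𝒳.p f a₀
  have i1 : 𝒴.p.IsHomLift f (φ.map a₀) := inferInstance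
  have i2 : 𝒴.p.IsHomLift f b := by
    apply IsHomLift.of_fac' 𝒴.p f b (φ.w_obj y) (φ.w_obj y')
    simp [f]
  obtain ⟨b', ⟨hb'1, hb'2⟩, -⟩ :=
    existsUnique_fac h𝒴' f (φ.map a₀) (𝟙 (𝒳.p.obj y)) f (by simp) b
  obtain ⟨a', ha'1, ha'2⟩ := exists_preimage_fiber J h𝒳 h𝒴 φ s ht hφ rfl hy₀ b' hb'1
  exact ⟨a' ≫ a₀, by rw [φ.map_comp, ha'2, hb'2]⟩

end

end Groth.Agent.Helper26.Gerb7
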