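import Mathlib
import Groth.Prelude.Def_StGerb2
import Groth.Agent.Lib.Helper26.Gerb7

/-!
# Gerbes: a functor bijective on the automorphism sheaf of a global object is an equivalence
(helper26)
-/

set_option autoImplicit false
set_option backward.isDefEq.respectTransparency false

universe v u

open CategoryTheory CategoryTheory.Limits Functor

namespace Groth.Agent.Helper26.Gerb8

open FibCat Gerb Stk Groth.Agent.Helper19.FibLib Groth.Agent.Helper25.GerbLib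
  Groth.Agent.Helper19.YonLib Groth.Agent.Helper26.Gerb1 Groth.Agent.Helper26.Gerb2
  Groth.Agent.Helper26.Gerb3 Groth.Agent.Helper26.Gerb5 Groth.Agent.Helper26.Gerb6
  Groth.Agent.Helper26.Gerb7

variable {C : Type u} [Category.{v} C] {𝒳 𝒴 : BasedCategory.{v, max u v} C}

/-- A fully faithful functor over the base between stacks which is locally essentially surjective
is essentially surjective (chart form). -/
theorem exists_chart_preimage (φ : 𝒳 ⥤ᵇ 𝒴)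
    (hinj : ∀ {y y' : 𝒳.obj} (a b : y ⟶ y'), φ.map a = φ.map b → a = b)
    (hsurj : ∀ {y y' : 𝒳.obj} (b : φ.obj y ⟶ φ.obj y'), ∃ a : y ⟶ y', φ.map a = b)
    {T : C} (R : Sieve T) (hess : (resSieve R 𝒳).EssSurj)
    (hfull : (resSieve R 𝒴).Full) (hfaith : (resSieve R 𝒴).Faithful)
    (Z : overCat T ⥤ᵇ 𝒴)
    (hloc : ∀ a : (sieveCat R).obj, ∃ (w : 𝒳.obj) (e : φ.obj w ≅ Z.obj a.obj),
      𝒴.p.IsHomLift (𝟙 a.obj.left) e.hom) :
    ∃ Y : overCat T ⥤ᵇ 𝒳, Nonempty (BasedFunctor.comp Y φ ≅ Z) := by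
  choose Ψ₀ e he using hloc
  have he' : ∀ a, 𝒴.p.IsHomLift (𝟙 a.obj.left) (e a).inv := by
    intro a
    have := he a
    have h2 : 𝒴.p.IsHomLift (inv (𝟙 a.obj.left)) (inv (e a).hom) := inferInstance
    simpa using h2
  have hmapex : ∀ {a b : (sieveCat R).obj} (j : a ⟶ b),
      ∃ f : Ψ₀ a ⟶ Ψ₀ b, φ.map f = (e a).hom ≫ Z.map j.hom ≫ (e b).inv := fun j => hsurj _
  choose Ψm hΨm using @hmapex
  let Ψf : (sieveCat R).obj ⥤ 𝒳.obj :=
    { obj := Ψ₀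
      map := fun j => Ψm j
      map_id := by
        intro a
        apply hinj
        rw [hΨm]
        have : (𝟙 a : a ⟶ a).hom = 𝟙 a.obj := rfl
        rw [this, Z.toFunctor.map_id, Category.id_comp, Iso.hom_inv_id]
        exact (φ.toFunctor.map_id _).symm
      map_comp := by
        intro a b c j j'
        apply hinj
        rw [φ.map_comp, hΨm, hΨm, hΨm]
        have : (j ≫ j').hom = j.hom ≫ j'.hom := rfl
        rw [this, Z.map_comp]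
        simp only [Category.assoc, Iso.inv_hom_id_assoc] }
  have hobj : ∀ a, 𝒳.p.obj (Ψf.obj a) = (sieveCat R).p.obj a := by
    intro a
    have := he a
    have h1 := IsHomLift.domain_eq 𝒴.p (𝟙 a.obj.left) (e a).hom
    rw [φ.w_obj] at h1
    exact h1
  have hjlift : ∀ {a b : (sieveCat R).obj} (j : a ⟶ b), (overCat T).p.IsHomLift j.hom.left j.hom := by
    intro a b j
    apply IsHomLift.of_fac (overCat T).p _ _ rfl rfl
    simp only [eqToHom_refl, Category.comp_id, Category.id_comp]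
    rfl
  have hmap : ∀ {a b : (sieveCat R).obj} (j : a ⟶ b),
      𝒳.p.IsHomLift ((sieveCat R).p.map j) (Ψf.map j) := by
    intro a b j
    rw [← BasedFunctor.isHomLift_iff φ]
    change 𝒴.p.IsHomLift j.hom.left (φ.map (Ψm j))
    rw [hΨm]
    have := he a
    have := he' b
    have := hjlift j
    have h1 : 𝒴.p.IsHomLift j.hom.left (Z.map j.hom) := inferInstance
    have h2 : 𝒴.p.IsHomLift (𝟙 a.obj.left ≫ j.hom.left ≫ 𝟙 b.obj.left)
      ((e a).hom ≫ Z.map j.hom ≫ (e b).inv) := inferInstance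
    simpa using h2
  let Ψ : sieveCat R ⥤ᵇ 𝒳 := mkBased Ψf hobj hmap
  let ε : BasedFunctor.comp Ψ φ ≅ (resSieve R 𝒴).obj Z :=
    mkIso (fun a => e a)
      (by
        intro a b j
        change φ.map (Ψm j) ≫ (e b).hom = (e a).hom ≫ Z.map j.hom
        rw [hΨm]
        simp only [Category.assoc, Iso.inv_hom_id, Category.comp_id])
      (fun a => he a)
  let Y : overCat T ⥤ᵇ 𝒳 := (resSieve R 𝒳).objPreimage Ψ
  let δ : (resSieve R 𝒳).obj Y ≅ Ψ := (resSieve R 𝒳).objObjPreimageIso Ψ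
  let κ : (resSieve R 𝒴).obj (BasedFunctor.comp Y φ) ≅ (resSieve R 𝒴).obj Z :=
    whiskerRightIso δ φ ≪≫ ε
  exact ⟨Y, ⟨(resSieve R 𝒴).preimageIso κ⟩⟩

section

variable (J : GrothendieckTopology C) (h𝒳 : IsGerbe J 𝒳) (h𝒴 : IsGerbe J 𝒴)
  (φ : 𝒳 ⥤ᵇ 𝒴) (s : 𝒳.obj) (ht : IsTerminal (𝒳.p.obj s))
  (hφ : ∀ (x : 𝒳.obj) (c : x ⟶ s), Function.Bijective (Gerb.autMap φ x))

include J h𝒳 h𝒴 ht hφ in
theorem exists_preimage_obj (z : 𝒴.obj) :
    ∃ (y : 𝒳.obj) (e : φ.obj y ≅ z), 𝒴.p.IsHomLift (𝟙 (𝒴.p.obj z)) e.hom := by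
  have h𝒳' := h𝒳.1.1
  have h𝒴' := h𝒴.1.1
  have hinj : ∀ (x : 𝒳.obj) (c : x ⟶ s), Function.Injective (Gerb.autMap φ x) :=
    fun x c => (hφ x c).1
  obtain ⟨T, hzT⟩ : ∃ T, 𝒴.p.obj z = T := ⟨_, rfl⟩
  obtain ⟨Z, θ, hθ⟩ := exists_chart_of_obj h𝒴' z hzT
  obtain ⟨sT, cT, hcT⟩ := h𝒳'.exists_lift (x := s) (ht.from T)
  have hsT : 𝒳.p.obj sT = T := IsHomLift.domain_eq 𝒳.p (ht.from T) cT
  have hφsT : 𝒴.p.obj (φ.obj sT) = T := (φ.w_obj sT).trans hsT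
  let b₀ : (toSelf 𝒴).obj z ⟶ (toSelf 𝒴).obj (φ.obj sT) := eqToHom (hzT.trans hφsT.symm)
  have hb₀ : (selfOver C).p.IsHomLift (𝟙 T) b₀ := by
    apply IsHomLift.of_fac (selfOver C).p (𝟙 T) b₀ hzT hφsT
    simp only [b₀]
    rw [eqToHom_map]
    simp
  obtain ⟨R, hR, hR'⟩ := (locSurjHom_iff J (toSelf 𝒴)).1 h𝒴.2.2 T z (φ.obj sT) b₀ hb₀
  have hequiv : (resSieve R 𝒳).IsEquivalence := h𝒳.1.2 _ hR
  have hess : (resSieve R 𝒳).EssSurj := inferInstance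
  have hequiv' : (resSieve R 𝒴).IsEquivalence := h𝒴.1.2 _ hR
  have hfull' : (resSieve R 𝒴).Full := inferInstance
  have hfaith' : (resSieve R 𝒴).Faithful := inferInstance
  have hloc : ∀ a : (sieveCat R).obj, ∃ (w : 𝒳.obj) (e : φ.obj w ≅ Z.obj a.obj),
      𝒴.p.IsHomLift (𝟙 a.obj.left) e.hom := by
    intro a
    obtain ⟨x₀, a₁, a₂, ha₁, ha₂, -⟩ := hR' a.obj.hom a.property
    obtain ⟨w, m, hm⟩ := exists_lift' h𝒳' sT hsT a.obj.hom
    have i1 : 𝒴.p.IsHomLift a.obj.hom (φ.map m) := inferInstance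
    obtain ⟨χ₁, hχ₁, -⟩ := exists_iso_fac h𝒴' a.obj.hom a₂ (φ.map m)
    have j1 := map_toId_isHomLift Z a.obj.hom
    have j2 : 𝒴.p.IsHomLift a.obj.hom (Z.map (toId a.obj.hom) ≫ θ.hom) := by
      have h2 : 𝒴.p.IsHomLift (a.obj.hom ≫ 𝟙 T) (Z.map (toId a.obj.hom) ≫ θ.hom) := inferInstance
      rw [Category.comp_id] at h2
      exact h2
    obtain ⟨χ₂, hχ₂, -⟩ := exists_iso_fac h𝒴' a.obj.hom (Z.map (toId a.obj.hom) ≫ θ.hom) a₁
    refine ⟨w, χ₁ ≪≫ χ₂, ?_⟩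
    have h2 : 𝒴.p.IsHomLift (𝟙 a.obj.left ≫ 𝟙 a.obj.left) (χ₁.hom ≫ χ₂.hom) := inferInstance
    simpa using h2
  obtain ⟨Y, ⟨κ⟩⟩ := exists_chart_preimage φ
    (fun a b h => map_injective J h𝒳 h𝒴' φ s ht hinj a b h)
    (fun b => map_surjective J h𝒳 h𝒴 φ s ht hφ b) R hess hfull' hfaith' Z hloc
  subst hzT
  refine ⟨Y.obj (Over.mk (𝟙 _)), appIso κ (Over.mk (𝟙 _)) ≪≫ θ, ?_⟩
  have i1 : 𝒴.p.IsHomLift (𝟙 (𝒴.p.obj z)) (κ.hom.toNatTrans.app (Over.mk (𝟙 (𝒴.p.obj z)))) :=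
    κ.hom.isHomLift rfl
  have h2 : 𝒴.p.IsHomLift (𝟙 (𝒴.p.obj z) ≫ 𝟙 (𝒴.p.obj z))
    (κ.hom.toNatTrans.app (Over.mk (𝟙 (𝒴.p.obj z))) ≫ θ.hom) := inferInstance
  simpa using h2

include J h𝒳 h𝒴 ht hφ in
theorem main : IsEquivOver φ := by
  have hinj : ∀ (x : 𝒳.obj) (c : x ⟶ s), Function.Injective (Gerb.autMap φ x) :=
    fun x c => (hφ x c).1
  have : φ.toFunctor.Faithful :=
    ⟨fun {y y'} a b h => map_injective J h𝒳 h𝒴.1.1 φ s ht hinj a b h⟩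
  have : φ.toFunctor.Full :=
    ⟨fun {y y'} b => map_surjective J h𝒳 h𝒴 φ s ht hφ b⟩
  exact isEquivOver_of_fullyFaithful φ (exists_preimage_obj J h𝒳 h𝒴 φ s ht hφ)

end

end Groth.Agent.Helper26.Gerb8
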