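import Mathlib
import Groth.Agent.Lib.Helper13.TensorFinLocFree
import Groth.Agent.Lib.Helper13.StalkBasis3
import Groth.Agent.Lib.Helper26.HomGlob

/-!
# Gluing an isomorphism of modules from compatible local bases
-/

set_option autoImplicit false
set_option maxHeartbeats 400000
set_option linter.unusedSectionVars false
set_option linter.unusedVariables false
universe u
open CategoryTheory CategoryTheory.Limits AlgebraicGeometry Opposite TopologicalSpace
open RefHull Groth.Agent.Helper13.DirImgFull Groth.Agent.Helper13.LocFree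
open Groth.Agent.Helper13.StalkBasis Groth.Agent.Helper13.TensorFinLocFree

namespace Groth.Agent.Helper26.GlueIso

variable {X : Scheme.{u}} {n : ℕ}

/-- the linear equivalence `O_y^n ≃ M_y` attached to sections forming a basis at `y`. -/
noncomputable def combEquiv (M : X.Modules) {U : X.Opens} (s : Fin n → Γ(M, U)) (y : X) (hy : y ∈ U)
    (h : IsBasisAt M s y hy) :
    (Fin n → X.presheaf.stalk y) ≃ₗ[X.presheaf.stalk y] M.presheaf.stalk y :=
  LinearEquiv.ofBijective
    (Fintype.linearCombination (X.presheaf.stalk y) (fun i => M.presheaf.germ U y hy (s i)))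
    (by rw [← comb_eq_linearCombination]; exact h)

lemma combEquiv_apply (M : X.Modules) {U : X.Opens} (s : Fin n → Γ(M, U)) (y : X) (hy : y ∈ U)
    (h : IsBasisAt M s y hy) (c : Fin n → X.presheaf.stalk y) :
    combEquiv M s y hy h c = comb M s y hy c := by
  unfold combEquiv
  rw [LinearEquiv.ofBijective_apply, ← comb_eq_linearCombination]

variable (F E : X.Modules)

/-- the isomorphism of stalks matching two local bases. -/
noncomputable def stalkIso {U : X.Opens} (f : Fin n → Γ(F, U)) (e : Fin n → Γ(E, U)) (y : X)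
    (hy : y ∈ U) (hf : IsBasisAt F f y hy) (he : IsBasisAt E e y hy) :
    F.presheaf.stalk y ≃ₗ[X.presheaf.stalk y] E.presheaf.stalk y :=
  (combEquiv F f y hy hf).symm.trans (combEquiv E e y hy he)

lemma stalkIso_comb {U : X.Opens} (f : Fin n → Γ(F, U)) (e : Fin n → Γ(E, U)) (y : X)
    (hy : y ∈ U) (hf : IsBasisAt F f y hy) (he : IsBasisAt E e y hy)
    (c : Fin n → X.presheaf.stalk y) :
    stalkIso F E f e y hy hf he (comb F f y hy c) = comb E e y hy c := by
  unfold stalkIso
  rw [LinearEquiv.trans_apply, ← combEquiv_apply F f y hy hf, LinearEquiv.symm_apply_apply,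
    combEquiv_apply]

/-- **gluing**: two modules with local bases over an open cover, whose transition functions are
given by the same diagonal matrices, are isomorphic. -/
theorem nonempty_iso_of_local_bases {ι : Type*} (U : ι → X.Opens) (hU : ∀ x : X, ∃ t, x ∈ U t)
    (f : ∀ t, Fin n → Γ(F, U t)) (e : ∀ t, Fin n → Γ(E, U t))
    (hf : ∀ t (y : X) (hy : y ∈ U t), IsBasisAt F (f t) y hy)
    (he : ∀ t (y : X) (hy : y ∈ U t), IsBasisAt E (e t) y hy)
    (compat : ∀ (s t : ι) (y : X) (hs : y ∈ U s) (ht : y ∈ U t),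
      ∃ a : Fin n → X.presheaf.stalk y,
        (∀ j, F.presheaf.germ (U t) y ht (f t j) = a j • F.presheaf.germ (U s) y hs (f s j)) ∧
        (∀ j, E.presheaf.germ (U t) y ht (e t j) = a j • E.presheaf.germ (U s) y hs (e s j))) :
    Nonempty (F ≅ E) := by
  choose t ht using hU
  let g : ∀ y : X, F.presheaf.stalk y ≃ₗ[X.presheaf.stalk y] E.presheaf.stalk y := fun y =>
    stalkIso F E (f (t y)) (e (t y)) y (ht y) (hf _ y (ht y)) (he _ y (ht y))
  have key : ∀ (s : ι) (y : X) (hs : y ∈ U s) (c : Fin n → X.presheaf.stalk y),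
      g y (comb F (f s) y hs c) = comb E (e s) y hs c := by
    intro s y hs c
    obtain ⟨a, ha1, ha2⟩ := compat (t y) s y (ht y) hs
    have e1 : comb F (f s) y hs c = comb F (f (t y)) y (ht y) (fun j => c j * a j) := by
      unfold comb
      refine Finset.sum_congr rfl (fun j _ => ?_)
      rw [ha1 j, smul_smul]
    have e2 : comb E (e s) y hs c = comb E (e (t y)) y (ht y) (fun j => c j * a j) := by
      unfold comb
      refine Finset.sum_congr rfl (fun j _ => ?_)
      rw [ha2 j, smul_smul]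
    rw [e1, e2]
    exact stalkIso_comb F E _ _ y (ht y) _ _ _
  have hloc : IsLocSect F E (U := ⊤) (fun x => (g x.1 : StalkHom F E x.1)) := by
    intro V i m x
    let s := t x.1
    have hs : x.1 ∈ U s := ht x.1
    obtain ⟨c, hc⟩ := (hf s x.1 hs).2 (F.presheaf.germ V x.1 x.2 m)
    obtain ⟨V₁, hxV₁, γ, hγ⟩ := exists_common_germ_ring x.1 c
    let W₀ : X.Opens := V₁ ⊓ U s ⊓ V
    have hxW₀ : x.1 ∈ W₀ := ⟨⟨hxV₁, hs⟩, x.2⟩
    have h1 : W₀ ≤ V₁ := inf_le_left.trans inf_le_left
    have h2 : W₀ ≤ U s := inf_le_left.trans inf_le_right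
    have h3 : W₀ ≤ V := inf_le_right
    let tF : Γ(F, W₀) := ∑ j, X.presheaf.map (homOfLE h1).op (γ j) •
      F.presheaf.map (homOfLE h2).op (f s j)
    have hgerm : F.presheaf.germ W₀ x.1 hxW₀ tF =
        F.presheaf.germ W₀ x.1 hxW₀ (F.presheaf.map (homOfLE h3).op m) := by
      rw [TopCat.Presheaf.germ_res_apply, ← hc, map_sum]
      unfold comb
      refine Finset.sum_congr rfl (fun j _ => ?_)
      rw [Groth.Agent.Helper13.QCoh.germ_smul, TopCat.Presheaf.germ_res_apply,
        TopCat.Presheaf.germ_res_apply, hγ]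
    obtain ⟨W, hxW, i₁, i₂, heq⟩ := TopCat.Presheaf.germ_eq F.presheaf x.1 hxW₀ hxW₀ _ _ hgerm
    let nE : Γ(E, W) := ∑ j, X.presheaf.map (homOfLE (i₁.le.trans h1)).op (γ j) •
      E.presheaf.map (homOfLE (i₁.le.trans h2)).op (e s j)
    refine ⟨W, hxW, homOfLE (i₁.le.trans h3), nE, ?_⟩
    intro y
    have hyW₀ : y.1 ∈ W₀ := i₁.le y.2
    have hyV₁ : y.1 ∈ V₁ := h1 hyW₀
    have hys : y.1 ∈ U s := h2 hyW₀
    have hyV : y.1 ∈ V := h3 hyW₀
    have e1 : F.presheaf.germ V y.1 hyV m =
        comb F (f s) y.1 hys (fun j => X.presheaf.germ V₁ y.1 hyV₁ (γ j)) := by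
      have a1 : F.presheaf.germ V y.1 hyV m =
          F.presheaf.germ W y.1 y.2 (F.presheaf.map i₂.op (F.presheaf.map (homOfLE h3).op m)) := by
        rw [TopCat.Presheaf.germ_res_apply, TopCat.Presheaf.germ_res_apply]
      rw [a1, ← heq, TopCat.Presheaf.germ_res_apply, map_sum]
      unfold comb
      refine Finset.sum_congr rfl (fun j _ => ?_)
      rw [Groth.Agent.Helper13.QCoh.germ_smul, TopCat.Presheaf.germ_res_apply,
        TopCat.Presheaf.germ_res_apply]
    have e2 : E.presheaf.germ W y.1 y.2 nE =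
        comb E (e s) y.1 hys (fun j => X.presheaf.germ V₁ y.1 hyV₁ (γ j)) := by
      rw [map_sum]
      unfold comb
      refine Finset.sum_congr rfl (fun j _ => ?_)
      rw [Groth.Agent.Helper13.QCoh.germ_smul, TopCat.Presheaf.germ_res_apply,
        TopCat.Presheaf.germ_res_apply]
    change g y.1 (F.presheaf.germ V y.1 hyV m) = _
    rw [e1, e2]
    exact key s y.1 hys _
  let sec : Γ(homSh F E, ⊤) := ⟨fun x => (g x.1 : StalkHom F E x.1), hloc⟩
  let φ : F ⟶ E := homOfSec sec
  have hφ : ∀ y : X, stalkMapₗ φ y = (g y : StalkHom F E y) := fun y =>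
    Groth.Agent.Helper26.HomGlob.stalkMapₗ_homOfSec sec y
  have : IsIso φ := by
    apply isIso_of_stalk_bijective
    intro y
    have hb : Function.Bijective (stalkMapₗ φ y) := by
      rw [hφ y]
      exact (g y).bijective
    exact hb
  exact ⟨asIso φ⟩

end Groth.Agent.Helper26.GlueIso
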