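import Mathlib

namespace Groth.Agent.Helper26.GrAttr

open DirectSum

universe u v w u'
variable (R : Type u) [CommRing R]
    (A : Type v) [CommRing A] [Algebra R A] (M : Type w) [AddCommMonoid M] [DecidableEq M]
    (𝒜 : M → Submodule R A) [GradedAlgebra 𝒜] (R' : Type u') [CommRing R']
    [Algebra R R'] (F : A →ₐ[R] R')

/-- piece maps -/
noncomputable def piece (m : M) : 𝒜 m →ₗ[R] AddMonoidAlgebra R' M :=
  ((AddMonoidAlgebra.lsingle m : R' →ₗ[R'] AddMonoidAlgebra R' M).restrictScalars R) ∘ₗ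
    F.toLinearMap ∘ₗ (𝒜 m).subtype

omit [AddCommMonoid M] [DecidableEq M] [GradedAlgebra 𝒜] in
@[simp] theorem piece_apply (m : M) (a : 𝒜 m) :
    piece R A M 𝒜 R' F m a = AddMonoidAlgebra.single m (F a) := rfl

/-- the graded map on the direct sum -/
noncomputable def fDS : (⨁ i, 𝒜 i) →ₐ[R] AddMonoidAlgebra R' M :=
  DirectSum.toAlgebra R (fun i => 𝒜 i) (piece R A M 𝒜 R' F)
    (by
      rw [piece_apply]
      change AddMonoidAlgebra.single 0 (F (1 : A)) = 1
      rw [map_one]; rfl)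
    (by
      intro i j ai aj
      rw [piece_apply, piece_apply, piece_apply, AddMonoidAlgebra.single_mul_single]
      change AddMonoidAlgebra.single (i + j) (F ((ai : A) * (aj : A))) = _
      rw [map_mul])

/-- the graded map -/
noncomputable def f : A →ₐ[R] AddMonoidAlgebra R' M :=
  (fDS R A M 𝒜 R' F).comp (DirectSum.decomposeAlgEquiv 𝒜).toAlgHom

theorem f_apply_of_mem {m : M} {a : A} (ha : a ∈ 𝒜 m) :
    f R A M 𝒜 R' F a = AddMonoidAlgebra.single m (F a) := by
  unfold f fDS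
  simp only [AlgHom.coe_comp, Function.comp_apply]
  have h1 : ((DirectSum.decomposeAlgEquiv 𝒜).toAlgHom : A →ₐ[R] ⨁ i, 𝒜 i) a =
      DirectSum.of (fun i => 𝒜 i) m ⟨a, ha⟩ := by
    change DirectSum.decompose 𝒜 a = _
    exact DirectSum.decompose_of_mem 𝒜 ha
  rw [h1]
  rw [DirectSum.toAlgebra_apply]
  erw [DirectSum.toSemiring_of]
  rfl

omit [DecidableEq M] in
theorem counit_single (m : M) (c : R') :
    Bialgebra.counitAlgHom R' (AddMonoidAlgebra R' M) (AddMonoidAlgebra.single m c) = c := by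
  simp

theorem main (N : AddSubmonoid M) (hF : ∀ m, m ∉ N → ∀ a ∈ 𝒜 m, F a = 0) :
    ∃! f : A →ₐ[R] AddMonoidAlgebra R' M,
      (∀ m, ∀ a ∈ 𝒜 m, f a =
          AddMonoidAlgebra.single m (Bialgebra.counitAlgHom R' (AddMonoidAlgebra R' M) (f a))) ∧
      (∀ m, m ∉ N → ∀ a ∈ 𝒜 m, f a = 0) ∧
      ∀ a, Bialgebra.counitAlgHom R' (AddMonoidAlgebra R' M) (f a) = F a := by
  have h3 : ∀ a, Bialgebra.counitAlgHom R' (AddMonoidAlgebra R' M) (f R A M 𝒜 R' F a) = F a := by
    intro a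
    induction a using DirectSum.Decomposition.inductionOn 𝒜 with
    | zero => simp
    | homogeneous a =>
      rw [f_apply_of_mem R A M 𝒜 R' F a.2, counit_single]
    | add a b ha hb => rw [map_add, map_add, map_add, ha, hb]
  refine ⟨f R A M 𝒜 R' F, ⟨?_, ?_, h3⟩, ?_⟩
  · intro m a ha
    rw [h3, f_apply_of_mem R A M 𝒜 R' F ha]
  · intro m hm a ha
    rw [f_apply_of_mem R A M 𝒜 R' F ha, hF m hm a ha]
    simp
  · rintro g ⟨hg1, -, hg3⟩
    apply AlgHom.ext
    intro a
    induction a using DirectSum.Decomposition.inductionOn 𝒜 with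
    | zero => simp
    | homogeneous a =>
      rw [f_apply_of_mem R A M 𝒜 R' F a.2, hg1 _ _ a.2, hg3]
    | add a b ha hb => rw [map_add, map_add, ha, hb]

end Groth.Agent.Helper26.GrAttr
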