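import Mathlib

set_option autoImplicit false

namespace Groth.Agent.Helper26.GrAway

universe u v

variable {R : Type u} {A : Type v} [CommRing R] [CommRing A] [Algebra R A]
  (𝒜 : ℕ → Submodule R A) [GradedAlgebra 𝒜]

/-- `𝒜 0`-span of products of `d` elements of degree `s`. -/
def Nd (s d : ℕ) : Submodule R A := 𝒜 0 * (𝒜 s) ^ d

theorem zero_mul_zero_le : (𝒜 0) * (𝒜 0) ≤ 𝒜 0 := by
  rw [Submodule.mul_le]
  intro a ha b hb
  have := SetLike.mul_mem_graded ha hb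
  simpa using this

theorem Nd_mul (s d d' : ℕ) : Nd 𝒜 s d * Nd 𝒜 s d' ≤ Nd 𝒜 s (d + d') := by
  unfold Nd
  rw [mul_mul_mul_comm, ← pow_add]
  exact mul_le_mul' (zero_mul_zero_le 𝒜) le_rfl

theorem pow_le_Nd (s d : ℕ) : (𝒜 s) ^ d ≤ Nd 𝒜 s d := by
  intro x hx
  have h1 : (1 : A) ∈ 𝒜 0 := SetLike.GradedOne.one_mem
  have := Submodule.mul_mem_mul h1 hx
  rwa [one_mul] at this

omit [GradedAlgebra 𝒜] in
theorem zero_le_Nd (s : ℕ) : 𝒜 0 ≤ Nd 𝒜 s 0 := by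
  intro x hx
  have h1 : (1 : A) ∈ (𝒜 s) ^ 0 := by
    rw [pow_zero]; exact Submodule.one_le.mp le_rfl
  have := Submodule.mul_mem_mul hx h1
  rwa [mul_one] at this

theorem mul_mem_Nd {s d d' : ℕ} {x y : A} (hx : x ∈ Nd 𝒜 s d) (hy : y ∈ Nd 𝒜 s d') :
    x * y ∈ Nd 𝒜 s (d + d') :=
  Nd_mul 𝒜 s d d' (Submodule.mul_mem_mul hx hy)

theorem pow_mem_Nd {s : ℕ} {x : A} (hx : x ∈ 𝒜 s) (d : ℕ) : x ^ d ∈ Nd 𝒜 s d :=
  pow_le_Nd 𝒜 s d (Submodule.pow_mem_pow _ hx d)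

variable {𝒜}

/-- Step (P): every element of the generated subalgebra has a numerator in some `Nd`. -/
theorem exists_num_of_mem_adjoin {σ : A} {s : ℕ} (hσ : σ ∈ 𝒜 1)
    (z : HomogeneousLocalization.Away 𝒜 σ)
    (hz : z ∈ Algebra.adjoin (𝒜 0)
      {z : HomogeneousLocalization.Away 𝒜 σ |
        ∃ f ∈ 𝒜 s, z.val = Localization.mk f
          ⟨σ ^ s, Submonoid.pow_mem _ (Submonoid.mem_powers σ) s⟩}) :
    ∃ (d : ℕ) (G : A), G ∈ Nd 𝒜 s d ∧
      z.val = Localization.mk G ⟨(σ ^ s) ^ d, Submonoid.pow_mem _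
        (Submonoid.pow_mem _ (Submonoid.mem_powers σ) s) d⟩ := by
  have hσs : σ ^ s ∈ 𝒜 s := by
    have := SetLike.pow_mem_graded s hσ
    simpa using this
  induction hz using Algebra.adjoin_induction with
  | mem z hz =>
    obtain ⟨f, hf, hzf⟩ := hz
    refine ⟨1, f, ?_, ?_⟩
    · have := pow_le_Nd 𝒜 s 1
      rw [pow_one] at this
      exact this hf
    · rw [hzf]
      congr 1
      exact Subtype.ext (pow_one _).symm
  | algebraMap a =>
    refine ⟨0, a.1, zero_le_Nd 𝒜 s a.2, ?_⟩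
    rw [HomogeneousLocalization.algebraMap_eq]
    change Localization.mk a.1 1 = _
    congr 1
    exact Subtype.ext (pow_zero _).symm
  | add x y hx hy ihx ihy =>
    obtain ⟨d, G, hG, hxG⟩ := ihx
    obtain ⟨d', G', hG', hyG'⟩ := ihy
    refine ⟨d + d', G * (σ ^ s) ^ d' + G' * (σ ^ s) ^ d, ?_, ?_⟩
    · refine add_mem (mul_mem_Nd 𝒜 hG (pow_mem_Nd 𝒜 hσs d')) ?_
      rw [add_comm d d']
      exact mul_mem_Nd 𝒜 hG' (pow_mem_Nd 𝒜 hσs d)
    · rw [HomogeneousLocalization.val_add, hxG, hyG', Localization.add_mk]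
      apply Localization.mk_eq_mk_iff.mpr
      rw [Localization.r_iff_exists]
      refine ⟨1, ?_⟩
      simp only [OneMemClass.coe_one, one_mul, Submonoid.coe_mul]
      ring
  | mul x y hx hy ihx ihy =>
    obtain ⟨d, G, hG, hxG⟩ := ihx
    obtain ⟨d', G', hG', hyG'⟩ := ihy
    refine ⟨d + d', G * G', mul_mem_Nd 𝒜 hG hG', ?_⟩
    rw [HomogeneousLocalization.val_mul, hxG, hyG', Localization.mk_mul]
    congr 1
    exact Subtype.ext (pow_add _ _ _).symm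

end Groth.Agent.Helper26.GrAway
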