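import Mathlib
import Groth.Agent.Lib.Helper26.GrAway1

set_option autoImplicit false

namespace Groth.Agent.Helper26.GrAway

universe u v

variable {R : Type u} {A : Type v} [CommRing R] [CommRing A] [Algebra R A]
  {𝒜 : ℕ → Submodule R A} [GradedAlgebra 𝒜]

/-- Step (c). -/
theorem exists_pow_mul_mem {σ : A} {s : ℕ} (hs : 0 < s) (hσ : σ ∈ 𝒜 1)
    (hgen : Algebra.adjoin (𝒜 0)
      {z : HomogeneousLocalization.Away 𝒜 σ |
        ∃ f ∈ 𝒜 s, z.val = Localization.mk f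
          ⟨σ ^ s, Submonoid.pow_mem _ (Submonoid.mem_powers σ) s⟩} = ⊤)
    (m : ℕ) (g : A) (hg : g ∈ 𝒜 (m * s)) : ∃ N, (σ ^ s) ^ N * g ∈ Nd 𝒜 s (m + N) := by
  have hσs : σ ^ s ∈ 𝒜 s := by
    have := SetLike.pow_mem_graded s hσ
    simpa using this
  have hg' : g ∈ 𝒜 ((m * s) • 1) := by simpa using hg
  let z : HomogeneousLocalization.Away 𝒜 σ := HomogeneousLocalization.Away.mk 𝒜 hσ (m * s) g hg'
  have hz : z ∈ Algebra.adjoin (𝒜 0)
      {z : HomogeneousLocalization.Away 𝒜 σ |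
        ∃ f ∈ 𝒜 s, z.val = Localization.mk f
          ⟨σ ^ s, Submonoid.pow_mem _ (Submonoid.mem_powers σ) s⟩} := by
    rw [hgen]; trivial
  obtain ⟨d, G, hG, hval⟩ := exists_num_of_mem_adjoin hσ z hz
  rw [HomogeneousLocalization.Away.val_mk] at hval
  obtain ⟨⟨c, k, rfl⟩, hc⟩ := Localization.r_iff_exists.mp (Localization.mk_eq_mk_iff.mp hval)
  simp only at hc
  refine ⟨k + d, ?_⟩
  have key : (σ ^ s) ^ (k + d) * g = (σ ^ s) ^ (k + m) * G := by
    obtain ⟨t, ht⟩ : ∃ t, s = t + 1 := ⟨s - 1, by omega⟩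
    have h1 : (σ ^ s) ^ (k + d) * g = σ ^ (k * t) * (σ ^ k * ((σ ^ s) ^ d * g)) := by
      rw [ht]; ring
    have h2 : (σ ^ s) ^ (k + m) * G = σ ^ (k * t) * (σ ^ k * (σ ^ (m * s) * G)) := by
      rw [ht]; ring
    rw [h1, h2, hc]
  rw [key]
  have := mul_mem_Nd 𝒜 (pow_mem_Nd 𝒜 hσs (k + m)) hG
  have hidx : k + m + d = m + (k + d) := by omega
  rwa [hidx] at this

/-- Step (Q) for pure powers. -/
theorem exists_mem_adjoin_of_mem_pow {τ : A} {s : ℕ} (hτ : τ ∈ 𝒜 s) (d : ℕ) (G : A)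
    (hG : G ∈ (𝒜 s) ^ d) :
    ∃ w ∈ Algebra.adjoin (𝒜 0) {z : HomogeneousLocalization.Away 𝒜 τ |
        ∃ f ∈ 𝒜 s, z.val = Localization.mk f ⟨τ, Submonoid.mem_powers _⟩},
      w.val = Localization.mk G ⟨τ ^ d, Submonoid.pow_mem _ (Submonoid.mem_powers τ) d⟩ := by
  induction hG using Submodule.pow_induction_on_left' with
  | algebraMap r =>
    have hr : algebraMap R A r ∈ 𝒜 0 := by
      rw [Algebra.algebraMap_eq_smul_one]
      exact Submodule.smul_mem _ _ SetLike.GradedOne.one_mem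
    refine ⟨algebraMap (𝒜 0) _ ⟨algebraMap R A r, hr⟩, Subalgebra.algebraMap_mem _ _, ?_⟩
    rw [HomogeneousLocalization.algebraMap_eq]
    change Localization.mk (algebraMap R A r) 1 = _
    congr 1
    exact Subtype.ext (pow_zero _).symm
  | add x y i hx hy ihx ihy =>
    obtain ⟨w, hw, hwv⟩ := ihx
    obtain ⟨w', hw', hwv'⟩ := ihy
    refine ⟨w + w', add_mem hw hw', ?_⟩
    rw [HomogeneousLocalization.val_add, hwv, hwv', Localization.add_mk_self]
  | mem_mul f hf i x hx ih =>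
    obtain ⟨w, hw, hwv⟩ := ih
    have hf' : f ∈ 𝒜 (1 • s) := by simpa using hf
    let wf : HomogeneousLocalization.Away 𝒜 τ := HomogeneousLocalization.Away.mk 𝒜 hτ 1 f hf'
    have hwf : wf ∈ Algebra.adjoin (𝒜 0) {z : HomogeneousLocalization.Away 𝒜 τ |
        ∃ f ∈ 𝒜 s, z.val = Localization.mk f ⟨τ, Submonoid.mem_powers _⟩} := by
      apply Algebra.subset_adjoin
      refine ⟨f, hf, ?_⟩
      rw [HomogeneousLocalization.Away.val_mk]
      congr 1
      exact Subtype.ext (pow_one _)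
    refine ⟨wf * w, mul_mem hwf hw, ?_⟩
    rw [HomogeneousLocalization.val_mul, hwv, HomogeneousLocalization.Away.val_mk,
      Localization.mk_mul]
    congr 1
    apply Subtype.ext
    change τ ^ 1 * τ ^ i = τ ^ (i + 1)
    ring

/-- Step (Q). -/
theorem exists_mem_adjoin_of_mem_Nd {τ : A} {s : ℕ} (hτ : τ ∈ 𝒜 s) (d : ℕ) (G : A)
    (hG : G ∈ Nd 𝒜 s d) :
    ∃ w ∈ Algebra.adjoin (𝒜 0) {z : HomogeneousLocalization.Away 𝒜 τ |
        ∃ f ∈ 𝒜 s, z.val = Localization.mk f ⟨τ, Submonoid.mem_powers _⟩},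
      w.val = Localization.mk G ⟨τ ^ d, Submonoid.pow_mem _ (Submonoid.mem_powers τ) d⟩ := by
  unfold Nd at hG
  refine Submodule.mul_induction_on hG ?_ ?_
  · intro a ha x hx
    obtain ⟨w, hw, hwv⟩ := exists_mem_adjoin_of_mem_pow hτ d x hx
    refine ⟨algebraMap (𝒜 0) _ ⟨a, ha⟩ * w, mul_mem (Subalgebra.algebraMap_mem _ _) hw, ?_⟩
    rw [HomogeneousLocalization.val_mul, hwv, HomogeneousLocalization.algebraMap_eq]
    change Localization.mk a 1 * _ = _
    rw [Localization.mk_mul, one_mul]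
  · rintro x y ⟨w, hw, hwv⟩ ⟨w', hw', hwv'⟩
    refine ⟨w + w', add_mem hw hw', ?_⟩
    rw [HomogeneousLocalization.val_add, hwv, hwv', Localization.add_mk_self]

end Groth.Agent.Helper26.GrAway
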