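import Mathlib
import Groth.Agent.Lib.Helper26.GrAway2

set_option autoImplicit false

namespace Groth.Agent.Helper26.GrAway

universe u v

variable {R : Type u} {A : Type v} [CommRing R] [CommRing A] [Algebra R A]
  {𝒜 : ℕ → Submodule R A} [GradedAlgebra 𝒜]

omit [GradedAlgebra 𝒜] in
theorem prod_pow_mem_pow {ι : Type*} (t : Finset ι) (x : ι → A) {s : ℕ} (hx : ∀ i, x i ∈ 𝒜 s)
    (k : ι → ℕ) : ∏ i ∈ t, x i ^ k i ∈ (𝒜 s) ^ (∑ i ∈ t, k i) := by
  classical
  induction t using Finset.induction_on with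
  | empty =>
    simp only [Finset.prod_empty, Finset.sum_empty, pow_zero]
    exact Submodule.one_le.mp le_rfl
  | insert a t ha ih =>
    rw [Finset.prod_insert ha, Finset.sum_insert ha, pow_add]
    exact Submodule.mul_mem_mul (Submodule.pow_mem_pow _ (hx a) _) ih

theorem main {n : ℕ} (σ : Fin n → A) (hσ : ∀ i, σ i ∈ 𝒜 1) {s : ℕ} (hs : 0 < s)
    (hgen : ∀ i, Algebra.adjoin (𝒜 0)
      {z : HomogeneousLocalization.Away 𝒜 (σ i) |
        ∃ f ∈ 𝒜 s, z.val = Localization.mk f ⟨σ i ^ s, Submonoid.pow_mem _ (Submonoid.mem_powers (σ i)) s⟩} = ⊤)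
    (K : Fin n → ℕ) (hK : ∑ i, K i = s) :
    Algebra.adjoin (𝒜 0)
      {z : HomogeneousLocalization.Away 𝒜 (∏ i, σ i ^ K i) |
        ∃ f ∈ 𝒜 s, z.val = Localization.mk f ⟨∏ i, σ i ^ K i, Submonoid.mem_powers _⟩} = ⊤ := by
  classical
  set τ : A := ∏ i, σ i ^ K i with hτdef
  have hτ : τ ∈ 𝒜 s := by
    have := SetLike.prod_pow_mem_graded 𝒜 (fun _ : Fin n => 1) σ (F := Finset.univ) K
      (fun i _ => hσ i)
    simpa [hK] using this
  have hσs : ∀ i, σ i ^ s ∈ 𝒜 s := fun i => by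
    have := SetLike.pow_mem_graded s (hσ i)
    simpa using this
  -- choose an index with positive exponent
  obtain ⟨i₀, hi₀⟩ : ∃ i₀, 0 < K i₀ := by
    by_contra hcon
    push Not at hcon
    have : ∑ i, K i = 0 := Finset.sum_eq_zero fun i _ => Nat.le_zero.mp (hcon i)
    omega
  let K' : Fin n → ℕ := Function.update K i₀ (K i₀ - 1)
  have hKK' : ∀ i, K i = K' i + (if i = i₀ then 1 else 0) := by
    intro i
    by_cases h : i = i₀
    · subst h
      simp only [K', Function.update_self, if_true]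
      omega
    · simp [K', h]
  have hK' : ∑ i, K' i + 1 = s := by
    rw [← hK]
    have : ∑ i, K i = ∑ i, (K' i + (if i = i₀ then 1 else 0)) :=
      Finset.sum_congr rfl fun i _ => hKK' i
    rw [this, Finset.sum_add_distrib]
    simp
  let ρ : A := ∏ i, (σ i ^ s) ^ K' i
  have hρ : ρ ∈ (𝒜 s) ^ (∑ i, K' i) := prod_pow_mem_pow Finset.univ (fun i => σ i ^ s) hσs K'
  have hτs : τ ^ s = σ i₀ ^ s * ρ := by
    rw [hτdef, ← Finset.prod_pow]
    have h1 : ∀ i, (σ i ^ K i) ^ s = (σ i ^ s) ^ K' i * (σ i ^ s) ^ (if i = i₀ then 1 else 0) := by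
      intro i
      rw [← pow_add, ← hKK' i, ← pow_mul, ← pow_mul, mul_comm]
    rw [Finset.prod_congr rfl fun i _ => h1 i, Finset.prod_mul_distrib, mul_comm]
    congr 1
    rw [Finset.prod_eq_single i₀]
    · simp
    · intro b _ hb
      simp [hb]
    · intro h
      exact absurd (Finset.mem_univ i₀) h
  -- main step
  rw [eq_top_iff]
  intro z _
  obtain ⟨m, g, hg, rfl⟩ := HomogeneousLocalization.Away.mk_surjective 𝒜 hτ z
  have hg' : g ∈ 𝒜 (m * s) := by simpa using hg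
  obtain ⟨N, hN⟩ := exists_pow_mul_mem hs (hσ i₀) (hgen i₀) m g hg'
  -- τ ^ (s * N) * g ∈ Nd (m + s * N)
  have hmem : τ ^ (s * N) * g ∈ Nd 𝒜 s (m + s * N) := by
    have h1 : τ ^ (s * N) * g = ρ ^ N * ((σ i₀ ^ s) ^ N * g) := by
      rw [pow_mul, hτs, mul_pow]
      ring
    rw [h1]
    have h2 : ρ ^ N ∈ Nd 𝒜 s ((∑ i, K' i) * N) := by
      apply pow_le_Nd
      rw [pow_mul]
      exact Submodule.pow_mem_pow _ hρ N
    have h3 := mul_mem_Nd 𝒜 h2 hN
    have hidx : (∑ i, K' i) * N + (m + N) = m + s * N := by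
      rw [← hK']
      ring
    rwa [hidx] at h3
  obtain ⟨w, hw, hwv⟩ := exists_mem_adjoin_of_mem_Nd hτ (m + s * N) _ hmem
  have hzw : HomogeneousLocalization.Away.mk 𝒜 hτ m g hg = w := by
    apply HomogeneousLocalization.val_injective
    rw [hwv, HomogeneousLocalization.Away.val_mk]
    apply Localization.mk_eq_mk_iff.mpr
    rw [Localization.r_iff_exists]
    refine ⟨1, ?_⟩
    simp only [OneMemClass.coe_one, one_mul]
    ring
  rw [hzw]
  exact hw

end Groth.Agent.Helper26.GrAway
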