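import Mathlib

universe u v w

namespace Groth.Agent.Lib.Helper26.GrJordan1

open Submodule Set

variable {k : Type u} [Field k] {V : Type w} [AddCommGroup V] [Module k V]

/-- Lifting bases through a (restricted) surjection. -/
theorem lift_basis {α β : Type*} (T : V →ₗ[k] V) (U : Submodule k V)
    (x : α → V) (y : β → V) (hx : ∀ a, x a ∈ U)
    (hLIx : LinearIndependent k (fun a => T (x a)))
    (hspx : span k (range (fun a => T (x a))) = U.map T)
    (hLIy : LinearIndependent k y) (hspy : span k (range y) = U ⊓ LinearMap.ker T) :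
    LinearIndependent k (Sum.elim x y) ∧ span k (range (Sum.elim x y)) = U := by
  have hLIx' : LinearIndependent k (T ∘ x) := hLIx
  constructor
  · refine LinearIndependent.sum_type (LinearIndependent.of_comp T hLIx') hLIy ?_
    rw [Submodule.disjoint_def]
    intro z hz1 hz2
    rw [hspy] at hz2
    obtain ⟨c, rfl⟩ := (Finsupp.mem_span_range_iff_exists_finsupp).mp hz1
    have hT : T (Finsupp.linearCombination k x c) = 0 := by
      have := hz2.2
      rw [SetLike.mem_coe, LinearMap.mem_ker] at this
      rwa [Finsupp.linearCombination_apply]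
    rw [Finsupp.apply_linearCombination] at hT
    have hc : c = 0 := (linearIndependent_iff.mp hLIx') c hT
    rw [hc]
    simp
  · apply le_antisymm
    · rw [span_le]
      rintro _ ⟨(a | b), rfl⟩
      · exact hx a
      · have : y b ∈ span k (range y) := subset_span ⟨b, rfl⟩
        rw [hspy] at this
        exact this.1
    · intro u hu
      have hTu : T u ∈ span k (range (T ∘ x)) := by
        show T u ∈ span k (range (fun a => T (x a)))
        rw [hspx]
        exact Submodule.mem_map_of_mem hu
      obtain ⟨c, hc⟩ := (Finsupp.mem_span_range_iff_exists_finsupp).mp hTu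
      rw [← Finsupp.linearCombination_apply, ← Finsupp.apply_linearCombination] at hc
      set z := Finsupp.linearCombination k x c with hz
      have hzU : z ∈ U := by
        rw [hz, Finsupp.linearCombination_apply]
        exact Submodule.sum_mem _ (fun a _ => Submodule.smul_mem _ _ (hx a))
      have hzsp : z ∈ span k (range x) := by
        rw [hz]
        exact (Finsupp.mem_span_range_iff_exists_finsupp).mpr
          ⟨c, (Finsupp.linearCombination_apply k c).symm⟩
      have hker : u - z ∈ U ⊓ LinearMap.ker T := by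
        refine ⟨U.sub_mem hu hzU, ?_⟩
        rw [SetLike.mem_coe, LinearMap.mem_ker, map_sub, hc, sub_self]
      rw [← hspy] at hker
      have h1 : u - z ∈ span k (range (Sum.elim x y)) := by
        refine span_mono ?_ hker
        rintro _ ⟨b, rfl⟩
        exact ⟨Sum.inr b, rfl⟩
      have h2 : z ∈ span k (range (Sum.elim x y)) := by
        refine span_mono ?_ hzsp
        rintro _ ⟨a, rfl⟩
        exact ⟨Sum.inl a, rfl⟩
      have := Submodule.add_mem _ h1 h2
      rwa [sub_add_cancel] at this

/-- Extending a linearly independent family inside `K` to a basis of `K` using vectors from a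
spanning set `S`. -/
theorem extend_basis [FiniteDimensional k V] {ι : Type w} (K : Submodule k V) (S : Set V)
    (hSK : S ⊆ K) (hKS : K ≤ span k S)
    (y₀ : ι → V) (hy₀ : LinearIndependent k y₀) (hy₀K : ∀ i, y₀ i ∈ K) :
    ∃ (J : Type w) (_ : Fintype J) (g : J → V), (∀ j, g j ∈ S) ∧
      LinearIndependent k (Sum.elim y₀ g) ∧ span k (range (Sum.elim y₀ g)) = K := by
  classical
  have hs : LinearIndepOn k id (range y₀) := hy₀.linearIndepOn_id
  obtain ⟨b, hbt, hsb, htb, hb⟩ :=
    exists_linearIndepOn_id_extension hs (subset_union_left : range y₀ ⊆ range y₀ ∪ S)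
  have hbfin : Finite ↥b := LinearIndependent.finite hb
  have hJfin : Finite ↥(b \ range y₀) :=
    Finite.of_injective (fun z : ↥(b \ range y₀) => (⟨z.1, z.2.1⟩ : ↥b))
      (fun z z' h => Subtype.ext (by simpa using congrArg Subtype.val h))
  have hbK : b ⊆ K := by
    intro z hz
    rcases hbt hz with ⟨i, rfl⟩ | hzS
    · exact hy₀K i
    · exact hSK hzS
  refine ⟨↥(b \ range y₀), Fintype.ofFinite _, Subtype.val, ?_, ?_, ?_⟩
  · intro j
    rcases hbt j.2.1 with h | h
    · exact absurd h j.2.2
    · exact h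
  · refine LinearIndependent.sum_type hy₀ ?_ ?_
    · exact (hb.mono (sdiff_subset : b \ range y₀ ⊆ b))
    · have hdisj := LinearIndependent.disjoint_span_image hb
        (s := {z : ↥b | z.1 ∈ range y₀}) (t := {z : ↥b | z.1 ∉ range y₀})
        (by
          rw [Set.disjoint_left]
          intro z hz hz'
          exact hz' hz)
      have e1 : (fun z : ↥b => id z.1) '' {z : ↥b | z.1 ∈ range y₀} = range y₀ := by
        ext z
        constructor
        · rintro ⟨z', hz', rfl⟩
          exact hz'
        · intro hz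
          exact ⟨⟨z, hsb hz⟩, hz, rfl⟩
      have e2 : (fun z : ↥b => id z.1) '' {z : ↥b | z.1 ∉ range y₀} =
          range (Subtype.val : ↥(b \ range y₀) → V) := by
        ext z
        constructor
        · rintro ⟨z', hz', rfl⟩
          exact ⟨⟨z'.1, z'.2, hz'⟩, rfl⟩
        · rintro ⟨z', rfl⟩
          exact ⟨⟨z'.1, z'.2.1⟩, z'.2.2, rfl⟩
      rw [e1, e2] at hdisj
      exact hdisj
  · have hrange : range (Sum.elim y₀ (Subtype.val : ↥(b \ range y₀) → V)) = b := by
      rw [Set.Sum.elim_range, Subtype.range_coe]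
      exact Set.union_sdiff_cancel hsb
    rw [hrange]
    apply le_antisymm
    · exact span_le.mpr hbK
    · refine hKS.trans ?_
      rw [span_le]
      exact fun z hz => htb (Or.inr hz)

/-- the chain family -/
def fam (A : Module.End k V) {ι : Type*} (n : ι → ℕ) (v : ι → V) : (Σ i, Fin (n i + 1)) → V :=
  fun p => (A ^ (p.2 : ℕ)) (v p.1)

/-- the reindexing map -/
def reidx {ι J : Type*} (n : ι → ℕ) :
    (Σ i, Fin (n i + 1)) ⊕ (ι ⊕ J) →
      Σ i' : ι ⊕ J, Fin (Sum.elim (fun i => n i + 1) (fun _ => 0) i' + 1)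
  | Sum.inl ⟨i, l⟩ => ⟨Sum.inl i, l.castSucc⟩
  | Sum.inr (Sum.inl i) => ⟨Sum.inl i, Fin.last _⟩
  | Sum.inr (Sum.inr j) => ⟨Sum.inr j, 0⟩

theorem reidx_bijective {ι J : Type*} (n : ι → ℕ) :
    Function.Bijective (reidx (J := J) n) := by
  constructor
  · rintro (⟨i, l⟩ | i | j) (⟨i', l'⟩ | i' | j') h
    · obtain ⟨h1, h2⟩ := Sigma.mk.inj_iff.mp h
      cases Sum.inl.inj h1
      have := Fin.castSucc_injective _ (eq_of_heq h2)
      rw [this]
    · obtain ⟨h1, h2⟩ := Sigma.mk.inj_iff.mp h
      cases Sum.inl.inj h1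
      exact absurd (eq_of_heq h2) (Fin.castSucc_lt_last l).ne
    · obtain ⟨h1, h2⟩ := Sigma.mk.inj_iff.mp h
      exact absurd h1 (by simp)
    · obtain ⟨h1, h2⟩ := Sigma.mk.inj_iff.mp h
      cases Sum.inl.inj h1
      exact absurd (eq_of_heq h2).symm (Fin.castSucc_lt_last l').ne
    · obtain ⟨h1, h2⟩ := Sigma.mk.inj_iff.mp h
      cases Sum.inl.inj h1
      rfl
    · obtain ⟨h1, h2⟩ := Sigma.mk.inj_iff.mp h
      exact absurd h1 (by simp)
    · obtain ⟨h1, h2⟩ := Sigma.mk.inj_iff.mp h
      exact absurd h1 (by simp)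
    · obtain ⟨h1, h2⟩ := Sigma.mk.inj_iff.mp h
      exact absurd h1 (by simp)
    · obtain ⟨h1, h2⟩ := Sigma.mk.inj_iff.mp h
      cases Sum.inr.inj h1
      rfl
  · rintro ⟨(i | j), l⟩
    · refine Fin.lastCases ?_ (fun l' => ?_) l
      · exact ⟨Sum.inr (Sum.inl i), rfl⟩
      · exact ⟨Sum.inl ⟨i, l'⟩, rfl⟩
    · refine ⟨Sum.inr (Sum.inr j), ?_⟩
      have : l = (0 : Fin (0 + 1)) := Subsingleton.elim (α := Fin 1) _ _
      rw [this]
      rfl

end Groth.Agent.Lib.Helper26.GrJordan1
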