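import Mathlib
import Groth.Agent.Lib.Helper26.GrJordan1

universe u v w

namespace Groth.Agent.Lib.Helper26.GrJordan2

open Submodule Set Groth.Agent.Lib.Helper26.GrJordan1

variable {k : Type u} [Field k] {V : Type w} [AddCommGroup V] [Module k V]
variable {Λ : Type v} [AddCommGroup Λ]

/-- A system of projections adapted to the grading and to `A`. -/
structure GrSys (𝒱 : Λ → Submodule k V) (A : Module.End k V) (χ : Λ) (π : Λ → V →ₗ[k] V) : Prop where
  mem : ∀ μ v, π μ v ∈ 𝒱 μ
  same : ∀ μ v, v ∈ 𝒱 μ → π μ v = v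
  span : ∀ v, v ∈ span k (range fun μ => π μ v)
  comm : ∀ μ v, A (π μ v) = π (μ + χ) (A v)

theorem exists_grSys [DecidableEq Λ] (𝒱 : Λ → Submodule k V) (h𝒱 : DirectSum.IsInternal 𝒱)
    (A : Module.End k V) (χ : Λ) (hhom : ∀ (μ : Λ) (v : V), v ∈ 𝒱 μ → A v ∈ 𝒱 (μ + χ)) :
    ∃ π : Λ → V →ₗ[k] V, GrSys 𝒱 A χ π := by
  classical
  let _ : DirectSum.Decomposition 𝒱 := h𝒱.chooseDecomposition
  let π : Λ → V →ₗ[k] V := fun μ =>
    { toFun := fun v => ((DirectSum.decompose 𝒱 v) μ : V)
      map_add' := fun x y => by simp [DirectSum.decompose_add]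
      map_smul' := fun c x => by
        simp only [DirectSum.decompose_smul, DirectSum.smul_apply, Submodule.coe_smul,
          RingHom.id_apply] }
  have hπ : ∀ μ v, π μ v = ((DirectSum.decompose 𝒱 v) μ : V) := fun _ _ => rfl
  have hsum : ∀ v, ∑ i ∈ (DirectSum.decompose 𝒱 v).support, π i v = v := fun v =>
    DirectSum.sum_support_decompose 𝒱 v
  refine ⟨π, ⟨?_, ?_, ?_, ?_⟩⟩
  · intro μ v
    rw [hπ]
    exact ((DirectSum.decompose 𝒱 v) μ).2
  · intro μ v hv
    rw [hπ]
    exact DirectSum.decompose_of_mem_same 𝒱 hv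
  · intro v
    have h := hsum v
    have h' : ∑ i ∈ (DirectSum.decompose 𝒱 v).support, π i v ∈
        span k (range fun μ => π μ v) :=
      Submodule.sum_mem (span k (range fun μ => π μ v))
        (fun i _ => subset_span (Set.mem_range_self i))
    rwa [h] at h'
  · intro μ v
    have key : ∀ ν x, x ∈ 𝒱 ν → π (μ + χ) (A x) = if ν = μ then A x else 0 := by
      intro ν x hx
      have hAx := hhom ν x hx
      split_ifs with h
      · subst h
        rw [hπ]
        exact DirectSum.decompose_of_mem_same 𝒱 hAx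
      · rw [hπ]
        refine DirectSum.decompose_of_mem_ne 𝒱 hAx ?_
        intro h'
        exact h (add_right_cancel h')
    have h := hsum v
    calc A (π μ v) = if μ ∈ (DirectSum.decompose 𝒱 v).support then A (π μ v) else 0 := by
          split_ifs with hμ
          · rfl
          · rw [DFinsupp.notMem_support_iff] at hμ
            have : π μ v = 0 := by rw [hπ, hμ]; rfl
            rw [this, map_zero]
      _ = ∑ ν ∈ (DirectSum.decompose 𝒱 v).support, (if ν = μ then A (π ν v) else 0) := by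
          rw [Finset.sum_ite_eq']
      _ = ∑ ν ∈ (DirectSum.decompose 𝒱 v).support, π (μ + χ) (A (π ν v)) := by
          refine Finset.sum_congr rfl (fun ν _ => ?_)
          rw [key ν (π ν v) (by rw [hπ]; exact ((DirectSum.decompose 𝒱 v) ν).2)]
      _ = π (μ + χ) (A v) := by
          rw [← map_sum, ← map_sum, h]

variable {𝒱 : Λ → Submodule k V} {A : Module.End k V} {χ : Λ} {π : Λ → V →ₗ[k] V}

/-- graded submodules -/
def Graded (π : Λ → V →ₗ[k] V) (U : Submodule k V) : Prop := ∀ μ, ∀ u ∈ U, π μ u ∈ U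

theorem graded_map (h : GrSys 𝒱 A χ π) {U : Submodule k V} (hU : Graded π U) :
    Graded π (U.map A) := by
  rintro μ _ ⟨u, hu, rfl⟩
  have := h.comm (μ - χ) u
  rw [sub_add_cancel] at this
  rw [← this]
  exact Submodule.mem_map_of_mem (hU _ u hu)

theorem graded_inf_ker (h : GrSys 𝒱 A χ π) {U : Submodule k V} (hU : Graded π U) :
    Graded π (U ⊓ LinearMap.ker A) := by
  rintro μ u ⟨hu1, hu2⟩
  refine ⟨hU μ u hu1, ?_⟩
  rw [SetLike.mem_coe, LinearMap.mem_ker] at hu2 ⊢
  rw [h.comm, hu2, map_zero]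

theorem le_span_hom (h : GrSys 𝒱 A χ π) {K : Submodule k V} (hK : Graded π K) :
    K ≤ span k {x | x ∈ K ∧ ∃ μ, x ∈ 𝒱 μ} := by
  intro u hu
  refine span_mono ?_ (h.span u)
  rintro _ ⟨μ, rfl⟩
  exact ⟨hK μ u hu, μ, h.mem μ u⟩

theorem exists_lift (h : GrSys 𝒱 A χ π) {U : Submodule k V} (hU : Graded π U) (e : V)
    (he : e ∈ U.map A) (hehom : ∃ μ, e ∈ 𝒱 μ) : ∃ f, f ∈ U ∧ (∃ μ, f ∈ 𝒱 μ) ∧ A f = e := by
  obtain ⟨f₀, hf₀, rfl⟩ := he
  obtain ⟨μ, hμ⟩ := hehom
  refine ⟨π (μ - χ) f₀, hU _ _ hf₀, ⟨μ - χ, h.mem _ _⟩, ?_⟩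
  rw [h.comm, sub_add_cancel, h.same _ _ hμ]

theorem pow_mem_of_stable {U : Submodule k V} (hst : ∀ u ∈ U, A u ∈ U) (l : ℕ) :
    ∀ u ∈ U, (A ^ l) u ∈ U := by
  induction l with
  | zero => intro u hu; simpa using hu
  | succ l ih =>
    intro u hu
    rw [pow_succ', Module.End.mul_apply]
    exact hst _ (ih u hu)

theorem map_pow_eq {U : Submodule k V} (h : U.map A = U) (m : ℕ) : U.map (A ^ m) = U := by
  induction m with
  | zero => simp [Module.End.one_eq_id]
  | succ m ih =>
    rw [pow_succ, Module.End.mul_eq_comp, Submodule.map_comp, h, ih]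

theorem exists_chains [FiniteDimensional k V] (h : GrSys 𝒱 A χ π) (hnil : IsNilpotent A) :
    ∀ d : ℕ, ∀ U : Submodule k V, (∀ u ∈ U, A u ∈ U) → Graded π U → Module.finrank k U = d →
      ∃ (ι : Type w) (_ : Fintype ι) (n : ι → ℕ) (v : ι → V),
        (∀ i, ∃ μ, v i ∈ 𝒱 μ) ∧ (∀ i, (A ^ (n i + 1)) (v i) = 0) ∧
        LinearIndependent k (fam A n v) ∧ span k (range (fam A n v)) = U := by
  intro d
  induction d using Nat.strong_induction_on with
  | _ d ih =>
    intro U hst hgr hd
    by_cases hU0 : U = ⊥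
    · refine ⟨PEmpty, inferInstance, PEmpty.elim, PEmpty.elim, fun i => i.elim, fun i => i.elim,
        ?_, ?_⟩
      · have : IsEmpty (Σ i : PEmpty.{w+1}, Fin ((PEmpty.elim i : ℕ) + 1)) :=
          ⟨fun p => p.1.elim⟩
        exact linearIndependent_empty_type
      · have : IsEmpty (Σ i : PEmpty.{w+1}, Fin ((PEmpty.elim i : ℕ) + 1)) :=
          ⟨fun p => p.1.elim⟩
        rw [Set.range_eq_empty, span_empty, hU0]
    · -- the image
      have hle : U.map A ≤ U := by
        rintro _ ⟨u, hu, rfl⟩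
        exact hst u hu
      have hne : U.map A ≠ U := by
        intro heq
        obtain ⟨m, hm⟩ := hnil
        have := map_pow_eq heq m
        rw [hm, Submodule.map_zero] at this
        exact hU0 this.symm
      have hlt : Module.finrank k (U.map A) < d := by
        rw [← hd]
        exact Submodule.finrank_lt_finrank_of_lt (lt_of_le_of_ne hle hne)
      have hst' : ∀ u ∈ U.map A, A u ∈ U.map A := by
        rintro _ ⟨u, hu, rfl⟩
        exact Submodule.mem_map_of_mem (hst u hu)
      obtain ⟨ι, _, n, v, hvhom, hvtop, hLI, hspan⟩ :=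
        ih _ hlt (U.map A) hst' (graded_map h hgr) rfl
      have hfamU' : ∀ p, fam A n v p ∈ U.map A := by
        intro p
        rw [← hspan]
        exact subset_span ⟨p, rfl⟩
      have hvU' : ∀ i, v i ∈ U.map A := by
        intro i
        have := hfamU' ⟨i, 0⟩
        simpa [fam] using this
      choose f hfU hfhom hAf using fun i => exists_lift h hgr (v i) (hvU' i) (hvhom i)
      -- the kernel part
      have hy₀LI : LinearIndependent k (fun i => (A ^ (n i)) (v i)) := by
        have := hLI.comp (fun i => (⟨i, Fin.last (n i)⟩ : Σ i, Fin (n i + 1)))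
          (fun i j hij => (Sigma.mk.inj_iff.mp hij).1)
        exact this
      have hy₀K : ∀ i, (A ^ (n i)) (v i) ∈ U ⊓ LinearMap.ker A := by
        intro i
        refine ⟨hle (by simpa [fam] using hfamU' ⟨i, Fin.last (n i)⟩), ?_⟩
        rw [SetLike.mem_coe, LinearMap.mem_ker, ← Module.End.mul_apply, ← pow_succ']
        exact hvtop i
      obtain ⟨J, _, g, hgS, hLIy, hspy⟩ := extend_basis (U ⊓ LinearMap.ker A)
        {x | x ∈ U ⊓ LinearMap.ker A ∧ ∃ μ, x ∈ 𝒱 μ} (fun x hx => hx.1)
        (le_span_hom h (graded_inf_ker h hgr)) _ hy₀LI hy₀K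
      -- apply the lifting lemma
      have hcomm : ∀ (l : ℕ) (i : ι), A ((A ^ l) (f i)) = (A ^ l) (v i) := by
        intro l i
        rw [← Module.End.mul_apply, ← pow_succ', pow_succ, Module.End.mul_apply, hAf]
      have hTx : (fun p => A (fam A n f p)) = fam A n v := by
        funext p
        exact hcomm _ _
      obtain ⟨hLInew, hspnew⟩ := lift_basis A U (fam A n f)
        (Sum.elim (fun i => (A ^ (n i)) (v i)) g)
        (fun p => pow_mem_of_stable hst _ _ (hfU p.1))
        (by rw [hTx]; exact hLI) (by rw [hTx]; exact hspan) hLIy hspy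
      -- reindex
      have hcompF : fam A (Sum.elim (fun i => n i + 1) (fun _ => 0)) (Sum.elim f g) ∘
          reidx (J := J) n = Sum.elim (fam A n f) (Sum.elim (fun i => (A ^ (n i)) (v i)) g) := by
        funext p
        rcases p with ⟨i, l⟩ | i | j
        · rfl
        · show (A ^ (n i + 1)) (f i) = (A ^ (n i)) (v i)
          rw [pow_succ, Module.End.mul_apply, hAf]
        · show (A ^ 0) (g j) = g j
          simp
      refine ⟨ι ⊕ J, inferInstance, Sum.elim (fun i => n i + 1) (fun _ => 0), Sum.elim f g,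
        ?_, ?_, ?_, ?_⟩
      · rintro (i | j)
        · exact hfhom i
        · exact (hgS j).2
      · rintro (i | j)
        · show (A ^ (n i + 1 + 1)) (f i) = 0
          rw [pow_succ, Module.End.mul_apply, hAf]
          exact hvtop i
        · show (A ^ (0 + 1)) (g j) = 0
          have := (hgS j).1.2
          rw [SetLike.mem_coe, LinearMap.mem_ker] at this
          simpa using this
      · have hLI' : LinearIndependent k
            (fam A (Sum.elim (fun i => n i + 1) (fun _ => 0)) (Sum.elim f g) ∘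
              ⇑(Equiv.ofBijective _ (reidx_bijective (J := J) n))) := by
          change LinearIndependent k
            (fam A (Sum.elim (fun i => n i + 1) (fun _ => 0)) (Sum.elim f g) ∘ reidx (J := J) n)
          rw [hcompF]
          exact hLInew
        exact (linearIndependent_equiv (Equiv.ofBijective _ (reidx_bijective (J := J) n))).mp hLI'
      · rw [← (reidx_bijective (J := J) n).surjective.range_comp, hcompF]
        exact hspnew

end Groth.Agent.Lib.Helper26.GrJordan2
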