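import Mathlib
import Groth.Agent.Lib.Helper26.GrJordan2

universe u v w

namespace Groth.Agent.Lib.Helper26.GrJordan3

open Submodule Set Groth.Agent.Lib.Helper26.GrJordan1 Groth.Agent.Lib.Helper26.GrJordan2

theorem pow_mem_graded {k : Type u} [Field k] {Λ : Type v} [AddCommGroup Λ]
    {V : Type w} [AddCommGroup V] [Module k V] (𝒱 : Λ → Submodule k V)
    (A : Module.End k V) (χ : Λ)
    (hhom : ∀ (μ : Λ) (v : V), v ∈ 𝒱 μ → A v ∈ 𝒱 (μ + χ)) (m : ℕ) :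
    ∀ (μ : Λ) (v : V), v ∈ 𝒱 μ → (A ^ m) v ∈ 𝒱 (μ + m • χ) := by
  induction m with
  | zero => intro μ v hv; simpa using hv
  | succ m ih =>
    intro μ v hv
    rw [pow_succ', Module.End.mul_apply, succ_nsmul, ← add_assoc]
    exact hhom _ _ (ih μ v hv)

theorem main (k : Type u) [Field k] (Λ : Type v) [AddCommGroup Λ] [DecidableEq Λ]
    (V : Type w) [AddCommGroup V] [Module k V] [FiniteDimensional k V]
    (𝒱 : Λ → Submodule k V) (h𝒱 : DirectSum.IsInternal 𝒱)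
    (A : Module.End k V) (hA : IsNilpotent A) (χ : Λ)
    (hhom : ∀ (μ : Λ) (v : V), v ∈ 𝒱 μ → A v ∈ 𝒱 (μ + χ)) :
    ∃ (ι : Type w) (_ : Finite ι) (n : ι → ℕ) (b : Module.Basis (Σ i : ι, Fin (n i + 1)) k V),
      (∀ (i : ι) (l : Fin (n i + 1)), ∃ μ : Λ, b ⟨i, l⟩ ∈ 𝒱 μ) ∧
      (∀ i : ι, A (b ⟨i, 0⟩) = 0) ∧
      ∀ (i : ι) (l : Fin (n i)), A (b ⟨i, l.succ⟩) = b ⟨i, l.castSucc⟩ := by
  obtain ⟨π, hπ⟩ := exists_grSys 𝒱 h𝒱 A χ hhom
  obtain ⟨ι, _, n, v, hvhom, hvtop, hLI, hspan⟩ :=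
    exists_chains hπ hA _ ⊤ (fun _ _ => mem_top) (fun _ _ _ => mem_top) rfl
  let b₀ : Module.Basis (Σ i : ι, Fin (n i + 1)) k V := Module.Basis.mk hLI (by rw [hspan])
  let b := b₀.reindex (Equiv.sigmaCongrRight (fun i => (Fin.revPerm : Equiv.Perm (Fin (n i + 1)))))
  have hb : ∀ (i : ι) (l : Fin (n i + 1)), b ⟨i, l⟩ = (A ^ (n i - l.val)) (v i) := by
    intro i l
    simp only [b, b₀, Module.Basis.reindex_apply, Module.Basis.mk_apply]
    show fam A n v ⟨i, Fin.rev l⟩ = _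
    simp only [fam, Fin.val_rev]
    congr 2
    omega
  refine ⟨ι, Finite.of_fintype ι, n, b, ?_, ?_, ?_⟩
  · intro i l
    obtain ⟨μ, hμ⟩ := hvhom i
    rw [hb]
    exact ⟨_, pow_mem_graded 𝒱 A χ hhom _ μ _ hμ⟩
  · intro i
    rw [hb, ← Module.End.mul_apply, ← pow_succ']
    simpa using hvtop i
  · intro i l
    rw [hb, hb, ← Module.End.mul_apply, ← pow_succ']
    congr 2
    simp only [Fin.val_succ, Fin.val_castSucc]
    have := l.isLt
    omega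

end Groth.Agent.Lib.Helper26.GrJordan3
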