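import Mathlib
import Groth.Prelude.Def_Curv2
import Groth.Agent.Lib.Helper26.GGDeg
import Groth.Agent.Lib.Helper26.LesDim

/-!
# `h⁰(L) ≤ deg L + 1` on an integral proper curve, with equality only in genus zero (helper26)

Duality-free and without base-point-free pencils: in the equality case `L` is generated by its
global sections, a diagram chase on `0 → M → O^n → L → 0` shows that multiplication by a section
stays injective on `H¹` after tensoring with `L`, so `L ⊗ L` is again in the equality case.
-/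

set_option autoImplicit false
set_option maxHeartbeats 1600000
set_option linter.style.haveILetI false
set_option linter.unusedSectionVars false
set_option linter.unusedVariables false
universe u
open CategoryTheory CategoryTheory.Limits AlgebraicGeometry Opposite TopologicalSpace

namespace Groth.Agent.Helper26.H0Deg

open Groth.Agent.Helper13.CurveSV Groth.Agent.Helper3.CurveHopf Groth.Agent.Helper26.DualFun
open Groth.Agent.Helper13.CurveRR Groth.Agent.Helper13.QCoh Groth.Agent.Helper13.FinType
open Groth.Agent.Helper13.ToAbExact Groth.Agent.Helper13 Groth.Agent.Helper13.TwistSES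
open Groth.Agent.Helper26.GGDeg Groth.Agent.Helper26.LesDim Groth.Agent.Helper26.PnFin

section Nat

variable {X : Scheme.{u}}

/-- naturality of the right unitor. -/
theorem rid_naturality {N N' : X.Modules} (f : N ⟶ N') :
    Tensor.map f (𝟙 (Coh.structureModule X)) ≫ (Tensor.rid N').hom = (Tensor.rid N).hom ≫ f := by
  apply Tensor.hom_ext
  intro U m r
  rw [Scheme.Modules.Hom.comp_app, Scheme.Modules.Hom.comp_app, ConcreteCategory.comp_apply,
    ConcreteCategory.comp_apply, Tensor.map_app_tmul, Tensor.rid_hom_app_tmul,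
    Tensor.rid_hom_app_tmul]
  exact (Scheme.Modules.Hom.app_smul f _ m).symm

/-- naturality of multiplication by a section. -/
theorem mulBy_naturality {N N' L : X.Modules} (f : N ⟶ N') (t : Coh.structureModule X ⟶ L) :
    mulBy N t ≫ Tensor.map f (𝟙 L) = f ≫ mulBy N' t := by
  unfold mulBy
  have hrid' : (Tensor.rid N).inv ≫ Tensor.map f (𝟙 (Coh.structureModule X)) =
      f ≫ (Tensor.rid N').inv := by
    rw [Iso.inv_comp_eq, ← Category.assoc, Iso.eq_comp_inv]
    exact rid_naturality f
  have h1 : Tensor.map (𝟙 N) t ≫ Tensor.map f (𝟙 L) =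
      Tensor.map f (𝟙 (Coh.structureModule X)) ≫ Tensor.map (𝟙 N') t := by
    rw [← Tensor.map_comp, ← Tensor.map_comp, Category.id_comp, Category.comp_id,
      Category.comp_id, Category.id_comp]
  rw [Category.assoc, h1, ← Category.assoc, hrid', Category.assoc]

end Nat

variable (k : Type u) [Field k] (X : Scheme.{u}) [X.Over (Spec (CommRingCat.of k))]
  [IsIntegral X] [IsProper (X ↘ Spec (CommRingCat.of k))]

/-- injectivity of multiplication on `H¹` passes from `O` to `O^n`. -/
theorem inj_free (n : ℕ) {L : X.Modules} (t : Coh.structureModule X ⟶ L)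
    (hinj : Function.Injective (Canon.HHlin k (mulBy (Coh.structureModule X) t) 1)) :
    Function.Injective (Canon.HHlin k (mulBy (FlatMod.freeMod X n) t) 1) := by
  rw [injective_iff_map_eq_zero]
  intro ξ hξ
  have hπ : ∀ i : Fin n, Canon.HHlin k (LocFree.π n i) 1 ξ = 0 := by
    intro i
    apply hinj
    rw [map_zero]
    have h1 : Canon.HHlin k (mulBy (Coh.structureModule X) t) 1
        (Canon.HHlin k (LocFree.π n i) 1 ξ) =
        Canon.HHlin k (LocFree.π n i ≫ mulBy (Coh.structureModule X) t) 1 ξ := by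
      rw [HHlin_comp]
      rfl
    rw [h1, ← mulBy_naturality, HHlin_comp, LinearMap.comp_apply, hξ, map_zero]
  have htot := LocFree.total (X := X) n
  have h2 : ξ = Canon.HHlin k (𝟙 (FlatMod.freeMod X n)) 1 ξ := by
    rw [HHlin_id]
    rfl
  rw [h2, ← htot, HHlin_sum, LinearMap.sum_apply]
  apply Finset.sum_eq_zero
  intro i _
  rw [HHlin_comp, LinearMap.comp_apply, hπ i, map_zero]

/-- the diagram chase: if `L` is generated by finitely many global sections and multiplication by
`s` is injective on `H¹(O)`, it is injective on `H¹(L)`. -/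
theorem inj_step (hdim : topologicalKrullDim X = 1) (L : X.Modules) (hL : PicF.IsInvertible L)
    (s : Coh.structureModule X ⟶ L) (hs : s ≠ 0) (n : ℕ) (ev : FlatMod.freeMod X n ⟶ L) [Epi ev]
    (hinj : Function.Injective (Canon.HHlin k (mulBy (Coh.structureModule X) s) 1)) :
    Function.Injective (Canon.HHlin k (mulBy L s) 1) := by
  haveI : IsNoetherian X := Groth.Agent.Lead.EulerK0.isNoetherian_of_proper' k X
  have hLc : Coh.IsCoh L := Groth.Agent.Helper13.CurveDeg.isCoh_of_isInvertible L hL
  have hFc : Coh.IsCoh (FlatMod.freeMod X n) :=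
    Groth.Agent.Helper9.ResVan.isCoh_of_isFinLocFree _
      (Groth.Agent.Helper13.LocFree.isFinLocFree_freeMod _)
  have hMc : Coh.IsCoh (kernel ev) := (Groth.Agent.S9514.result X hFc hLc ev).1
  haveI := hMc.1
  let S : ShortComplex X.Modules := ShortComplex.mk (kernel.ι ev) ev (kernel.condition ev)
  have hS : S.ShortExact :=
    { exact := ShortComplex.exact_kernel ev
      mono_f := inferInstanceAs (Mono (kernel.ι ev))
      epi_g := inferInstanceAs (Epi ev) }
  have hT : (tensorSC S L).ShortExact := tensorSC_shortExact S hS L hL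
  have hinjF := inj_free k X n s hinj
  have hsurjM : Function.Surjective (Canon.HHlin k (mulBy (kernel ev) s) 1) :=
    HHlin_mulBy_surjective k X hdim (kernel ev) L hL s hs
  have hH2 : Subsingleton (Coh.HH X S.X₁ (1 + 1)) :=
    Groth.Agent.Helper13.CurveVan.HH_subsingleton_of_two_le k X hdim.le (kernel ev) 2 le_rfl
  rw [injective_iff_map_eq_zero]
  intro ξ hξ
  -- (a) lift to `H¹(O^n)`
  obtain ⟨ξ', hξ'⟩ := HHlin_surjective_of_vanish k 1 S hS hH2 ξ
  have hξ'' : Canon.HHlin k ev 1 ξ' = ξ := hξ'
  -- (b)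
  have hb : Canon.HHlin k (Tensor.map ev (𝟙 L)) 1
      (Canon.HHlin k (mulBy (FlatMod.freeMod X n) s) 1 ξ') = 0 := by
    have hnat : mulBy (FlatMod.freeMod X n) s ≫ Tensor.map ev (𝟙 L) = ev ≫ mulBy L s :=
      mulBy_naturality ev s
    have h := LinearMap.congr_fun (HHlin_comp k (mulBy (FlatMod.freeMod X n) s)
      (Tensor.map ev (𝟙 L)) 1) ξ'
    rw [LinearMap.comp_apply] at h
    rw [← h, hnat, HHlin_comp, LinearMap.comp_apply, hξ'', hξ]
  obtain ⟨μ, hμ⟩ : ∃ μ : Coh.HH X (CohB1.tensorMod (kernel ev) L) 1,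
      Canon.HHlin k (Tensor.map (kernel.ι ev) (𝟙 L)) 1 μ =
        Canon.HHlin k (mulBy (FlatMod.freeMod X n) s) 1 ξ' :=
    exact₂ k (tensorSC S L) hT 1 (Canon.HHlin k (mulBy (FlatMod.freeMod X n) s) 1 ξ') hb
  -- (c)
  obtain ⟨μ', rfl⟩ := hsurjM μ
  -- (d)
  have hd : Canon.HHlin k (mulBy (FlatMod.freeMod X n) s) 1 (Canon.HHlin k (kernel.ι ev) 1 μ') =
      Canon.HHlin k (mulBy (FlatMod.freeMod X n) s) 1 ξ' := by
    have hnat : mulBy (kernel ev) s ≫ Tensor.map (kernel.ι ev) (𝟙 L) =
        kernel.ι ev ≫ mulBy (FlatMod.freeMod X n) s := mulBy_naturality (kernel.ι ev) s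
    have h1 := LinearMap.congr_fun (HHlin_comp k (kernel.ι ev)
      (mulBy (FlatMod.freeMod X n) s) 1) μ'
    have h2 := LinearMap.congr_fun (HHlin_comp k (mulBy (kernel ev) s)
      (Tensor.map (kernel.ι ev) (𝟙 L)) 1) μ'
    rw [LinearMap.comp_apply] at h1 h2
    rw [← h1, ← hnat, h2]
    exact hμ
  have he : Canon.HHlin k (kernel.ι ev) 1 μ' = ξ' := hinjF hd
  -- (e)
  rw [← hξ'', ← he]
  exact HHlin_g_f k S 1 μ'

/-- if every coherent submodule of `L` carrying all global sections has Euler characteristic at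
least `χ(L)`, then `L` is generated by finitely many global sections. -/
theorem exists_epi_free (hdim : topologicalKrullDim X = 1) (L : X.Modules)
    (hL : PicF.IsInvertible L) (hnpos : 0 < Module.finrank k (Coh.HH X L 0))
    (hbound : ∀ (M : X.Modules) (j : M ⟶ L), Mono j → Coh.IsCoh M →
      Function.Surjective (Canon.HHlin k j 0) → Curv2.euler k X L ≤ Curv2.euler k X M) :
    ∃ (n : ℕ) (ev : FlatMod.freeMod X n ⟶ L), Epi ev := by
  haveI : IsNoetherian X := Groth.Agent.Lead.EulerK0.isNoetherian_of_proper' k X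
  have hO : PicF.IsInvertible (Coh.structureModule X) :=
    Groth.Agent.Helper13.Inv.isInvertible_structureModule
  have hLc : Coh.IsCoh L := Groth.Agent.Helper13.CurveDeg.isCoh_of_isInvertible L hL
  haveI := hLc.1
  haveI hfinL0 : Module.Finite k (Coh.HH X L 0) :=
    Groth.Agent.Helper13.FinProj.finite_HH_of_isProper k X _ hLc 0
  let b := Module.finBasis k (Coh.HH X L 0)
  let s : Fin (Module.finrank k (Coh.HH X L 0)) → Γ(L, ⊤) := fun i => e0 L (b i)
  let ev : FlatMod.freeMod X (Module.finrank k (Coh.HH X L 0)) ⟶ L :=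
    Groth.Agent.Helper13.LocFree.descSec L s
  let j : Abelian.image ev ⟶ L := Abelian.image.ι ev
  let q : FlatMod.freeMod X (Module.finrank k (Coh.HH X L 0)) ⟶ Abelian.image ev :=
    Abelian.factorThruImage ev
  have hfac : q ≫ j = ev := Abelian.image.fac ev
  haveI hjm : Mono j := inferInstanceAs (Mono (Abelian.image.ι ev))
  haveI hqe : Epi q := inferInstanceAs (Epi (Abelian.factorThruImage ev))
  have hFc : Coh.IsCoh (FlatMod.freeMod X (Module.finrank k (Coh.HH X L 0))) :=
    Groth.Agent.Helper9.ResVan.isCoh_of_isFinLocFree _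
      (Groth.Agent.Helper13.LocFree.isFinLocFree_freeMod _)
  have hCc : Coh.IsCoh (cokernel ev) := (Groth.Agent.S9514.result X hFc hLc ev).2
  have hL'c : Coh.IsCoh (Abelian.image ev) :=
    (Groth.Agent.S9514.result X hLc hCc (cokernel.π ev)).1
  haveI := hL'c.1
  have hti : ∀ i, (Groth.Agent.Helper13.LocFree.ι _ i ≫ q) ≫ j = secHom L (b i) := by
    intro i
    rw [Category.assoc, hfac, Groth.Agent.Helper13.LocFree.ι_descSec]
    rfl
  have hsurj0 : Function.Surjective (Canon.HHlin k j 0) := by
    have hrange : ∀ i, b i ∈ LinearMap.range (Canon.HHlin k j 0) := by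
      intro i
      refine ⟨(e0 (Abelian.image ev)).symm
        ((Groth.Agent.Helper13.LocFree.ι _ i ≫ q).app ⊤
          (Groth.Agent.Helper13.LocFree.toO ⊤ 1)), ?_⟩
      apply (e0 L).injective
      rw [e0_HHlin, AddEquiv.apply_symm_apply]
      have h4 : j.app ⊤ ((Groth.Agent.Helper13.LocFree.ι _ i ≫ q).app ⊤
          (Groth.Agent.Helper13.LocFree.toO ⊤ 1)) =
          ((Groth.Agent.Helper13.LocFree.ι _ i ≫ q) ≫ j).app ⊤
            (Groth.Agent.Helper13.LocFree.toO ⊤ 1) := rfl
      rw [h4, hti i]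
      have h2 := Groth.Agent.Helper13.LocFree.homOfSec_app_one L (e0 L (b i)) ⊤
      have h3 : L.presheaf.map (homOfLE (le_top : (⊤ : X.Opens) ≤ ⊤)).op (e0 L (b i)) =
          e0 L (b i) := by
        have : (homOfLE (le_top : (⊤ : X.Opens) ≤ ⊤)).op = 𝟙 _ := rfl
        rw [this, L.presheaf.map_id]
        rfl
      rw [h3] at h2
      exact h2
    intro u
    have hu : u ∈ Submodule.span k (Set.range b) := by
      rw [b.span_eq]
      trivial
    have hle : Submodule.span k (Set.range b) ≤ LinearMap.range (Canon.HHlin k j 0) := by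
      rw [Submodule.span_le]
      rintro _ ⟨i, rfl⟩
      exact hrange i
    exact LinearMap.mem_range.1 (hle hu)
  have hb0 : b ⟨0, hnpos⟩ ≠ 0 := b.ne_zero _
  have ht0j : (Groth.Agent.Helper13.LocFree.ι _ ⟨0, hnpos⟩ ≫ q) ≫ j ≠ 0 := by
    rw [hti]
    exact secHom_ne_zero L _ hb0
  have hgenQ : Subsingleton ((cokernel j).presheaf.stalk (genericPoint X)) := by
    apply stalk_cokernel_subsingleton j (genericPoint X)
    have h1 := Groth.Agent.Helper13.CurveDeg.stalkMap_genericPoint_surjective
      (Coh.structureModule X) L hO hL _ ht0j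
    intro m
    obtain ⟨a, ha⟩ := h1 m
    refine ⟨stalkMap (Groth.Agent.Helper13.LocFree.ι _ ⟨0, hnpos⟩ ≫ q) (genericPoint X) a, ?_⟩
    rw [← ha]
    exact (Groth.Agent.Helper13.SerreCrit.stalkMap_comp'
      (Groth.Agent.Helper13.LocFree.ι _ ⟨0, hnpos⟩ ≫ q) j (genericPoint X) a).symm
  have hm := Groth.Agent.Helper24.DegMono.main15028 k X hdim (Abelian.image ev) L hL'c hLc 1 j hgenQ
  have hχ := hbound (Abelian.image ev) j hjm hL'c hsurj0
  have heq : Curv2.deg k X (Abelian.image ev) 1 = Curv2.deg k X L 1 := by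
    refine le_antisymm hm.1 ?_
    unfold Curv2.deg
    linarith
  haveI hjiso : IsIso j := hm.2.1 heq
  have hevepi : Epi ev := by
    rw [← hfac]
    exact epi_comp q j
  exact ⟨_, ev, hevepi⟩

/-- `h¹(M) ≤ g` for a quasi-coherent submodule `M` of an invertible module with a nonzero
section. -/
theorem h1_le_genus (hdim : topologicalKrullDim X = 1) (L : X.Modules) (hL : PicF.IsInvertible L)
    (M : X.Modules) [M.IsQuasicoherent] (j : M ⟶ L) [Mono j]
    (t : Coh.structureModule X ⟶ M) (ht : t ≠ 0) :
    Module.finrank k (Coh.HH X M 1) ≤ Curv2.genus k X := by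
  have hOc : Coh.IsCoh (Coh.structureModule X) :=
    Groth.Agent.Helper13.CohRoof.isCoh_structureModule X
  haveI := hOc.1
  haveI hfinO : Module.Finite k (Coh.HH X (Coh.structureModule X) 1) :=
    Groth.Agent.Helper13.FinProj.finite_HH_of_isProper k X _ hOc 1
  have hsurj := HHlin_mulBy_surjective' k X hdim (Coh.structureModule X) M L hL j t ht
  have h1 := LinearMap.finrank_le_finrank_of_surjective hsurj
  rw [Groth.Agent.Helper26.HomVan.finrank_HH_of_iso k (Tensor.lid M) 1] at h1
  exact h1

/-- the basic Euler characteristic identity `h⁰(L) - h¹(L) = deg L + 1 - g`. -/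
theorem h0_sub_h1 (hdim : topologicalKrullDim X = 1)
    (h0 : Module.finrank k (Coh.HH X (Coh.structureModule X) 0) = 1)
    (L : X.Modules) [L.IsQuasicoherent] :
    (Module.finrank k (Coh.HH X L 0) : ℤ) - (Module.finrank k (Coh.HH X L 1) : ℤ) =
      Curv2.deg k X L 1 + 1 - (Curv2.genus k X : ℤ) := by
  have hχO := euler_structure k X hdim h0
  have hχL := Groth.Agent.Helper13.CurveVan.euler_eq_sub k X hdim.le L
  unfold Curv2.deg
  rw [← hχL, hχO]
  push_cast
  ring

/-- in the equality case `L ⊗ L` is again in the equality case. -/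
theorem equality_tensor (hdim : topologicalKrullDim X = 1)
    (h0 : Module.finrank k (Coh.HH X (Coh.structureModule X) 0) = 1)
    (L : X.Modules) (hL : PicF.IsInvertible L) (hdeg : 0 < Curv2.deg k X L 1)
    (heq : (Module.finrank k (Coh.HH X L 0) : ℤ) = Curv2.deg k X L 1 + 1) :
    (Module.finrank k (Coh.HH X (CohB1.tensorMod L L) 0) : ℤ) =
      Curv2.deg k X (CohB1.tensorMod L L) 1 + 1 := by
  haveI : IsNoetherian X := Groth.Agent.Lead.EulerK0.isNoetherian_of_proper' k X
  have hLc : Coh.IsCoh L := Groth.Agent.Helper13.CurveDeg.isCoh_of_isInvertible L hL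
  haveI := hLc.1
  have hL2 : PicF.IsInvertible (CohB1.tensorMod L L) :=
    Groth.Agent.Helper13.Inv.isInvertible_tensorMod L L hL hL
  have hL2c : Coh.IsCoh (CohB1.tensorMod L L) :=
    Groth.Agent.Helper13.CurveDeg.isCoh_of_isInvertible _ hL2
  haveI := hL2c.1
  have hOc : Coh.IsCoh (Coh.structureModule X) :=
    Groth.Agent.Helper13.CohRoof.isCoh_structureModule X
  haveI := hOc.1
  haveI hfinO : Module.Finite k (Coh.HH X (Coh.structureModule X) 1) :=
    Groth.Agent.Helper13.FinProj.finite_HH_of_isProper k X _ hOc 1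
  haveI hfinL0 : Module.Finite k (Coh.HH X L 0) :=
    Groth.Agent.Helper13.FinProj.finite_HH_of_isProper k X _ hLc 0
  haveI hfinL1 : Module.Finite k (Coh.HH X L 1) :=
    Groth.Agent.Helper13.FinProj.finite_HH_of_isProper k X _ hLc 1
  haveI hfinL21 : Module.Finite k (Coh.HH X (CohB1.tensorMod L L) 1) :=
    Groth.Agent.Helper13.FinProj.finite_HH_of_isProper k X _ hL2c 1
  have hRR := h0_sub_h1 k X hdim h0 L
  have hRR2 := h0_sub_h1 k X hdim h0 (CohB1.tensorMod L L)
  have hgen : (Curv2.genus k X : ℤ) =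
      (Module.finrank k (Coh.HH X (Coh.structureModule X) 1) : ℤ) := rfl
  -- `h¹(L) = g`
  have hh1 : (Module.finrank k (Coh.HH X L 1) : ℤ) = (Curv2.genus k X : ℤ) := by linarith
  have hh1' : Module.finrank k (Coh.HH X L 1) =
      Module.finrank k (Coh.HH X (Coh.structureModule X) 1) := by
    have : (Module.finrank k (Coh.HH X L 1) : ℤ) =
        (Module.finrank k (Coh.HH X (Coh.structureModule X) 1) : ℤ) := hh1.trans hgen
    exact_mod_cast this
  have hnpos : 0 < Module.finrank k (Coh.HH X L 0) := by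
    have : (0 : ℤ) < (Module.finrank k (Coh.HH X L 0) : ℤ) := by linarith
    exact_mod_cast this
  -- a nonzero section
  have hnt : Nontrivial (Coh.HH X L 0) := Module.nontrivial_of_finrank_pos (R := k) hnpos
  obtain ⟨s, hs⟩ := Groth.Agent.Helper13.CurveVan.exists_hom_ne_zero L hnt
  -- multiplication by `s` is injective on `H¹(O)`
  have hsurjO := HHlin_mulBy_surjective k X hdim (Coh.structureModule X) L hL s hs
  haveI hfinOL : Module.Finite k (Coh.HH X (CohB1.tensorMod (Coh.structureModule X) L) 1) :=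
    Module.Finite.of_surjective _ hsurjO
  have hfr : Module.finrank k (Coh.HH X (Coh.structureModule X) 1) =
      Module.finrank k (Coh.HH X (CohB1.tensorMod (Coh.structureModule X) L) 1) := by
    rw [Groth.Agent.Helper26.HomVan.finrank_HH_of_iso k (Tensor.lid L) 1, hh1']
  have hinjO : Function.Injective (Canon.HHlin k (mulBy (Coh.structureModule X) s) 1) :=
    (LinearMap.injective_iff_surjective_of_finrank_eq_finrank hfr).2 hsurjO
  -- `L` is generated by global sections
  obtain ⟨n, ev, hev⟩ := exists_epi_free k X hdim L hL hnpos (by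
    intro M j hj hMc hsurj
    haveI := hj
    haveI := hMc.1
    haveI hfinM0 : Module.Finite k (Coh.HH X M 0) :=
      Groth.Agent.Helper13.FinProj.finite_HH_of_isProper k X _ hMc 0
    have hge : Module.finrank k (Coh.HH X L 0) ≤ Module.finrank k (Coh.HH X M 0) :=
      LinearMap.finrank_le_finrank_of_surjective hsurj
    have hMpos : 0 < Module.finrank k (Coh.HH X M 0) := lt_of_lt_of_le hnpos hge
    have hMnt : Nontrivial (Coh.HH X M 0) := Module.nontrivial_of_finrank_pos (R := k) hMpos
    obtain ⟨t, ht⟩ := Groth.Agent.Helper13.CurveVan.exists_hom_ne_zero M hMnt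
    have hle := h1_le_genus k X hdim L hL M j t ht
    have hχM := Groth.Agent.Helper13.CurveVan.euler_eq_sub k X hdim.le M
    have hχL := Groth.Agent.Helper13.CurveVan.euler_eq_sub k X hdim.le L
    have hge' : (Module.finrank k (Coh.HH X L 0) : ℤ) ≤ (Module.finrank k (Coh.HH X M 0) : ℤ) := by
      exact_mod_cast hge
    have hle' : (Module.finrank k (Coh.HH X M 1) : ℤ) ≤ (Curv2.genus k X : ℤ) := by
      exact_mod_cast hle
    rw [hχM, hχL]
    linarith)
  haveI := hev
  -- injectivity on `H¹(L)`
  have hinjL := inj_step k X hdim L hL s hs n ev hinjO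
  have hsurjL := HHlin_mulBy_surjective k X hdim L L hL s hs
  have h1 := LinearMap.finrank_le_finrank_of_injective hinjL
  have h2 := LinearMap.finrank_le_finrank_of_surjective hsurjL
  have h12 : (Module.finrank k (Coh.HH X (CohB1.tensorMod L L) 1) : ℤ) =
      (Module.finrank k (Coh.HH X L 1) : ℤ) := by
    have := le_antisymm h2 h1
    exact_mod_cast this
  linarith

/-- the equality case forces genus zero (induction on `2g - deg L`). -/
theorem genus_zero_aux (hdim : topologicalKrullDim X = 1)
    (h0 : Module.finrank k (Coh.HH X (Coh.structureModule X) 0) = 1) :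
    ∀ (N : ℕ) (L : X.Modules), PicF.IsInvertible L →
      2 * (Curv2.genus k X : ℤ) - Curv2.deg k X L 1 ≤ N → 0 < Curv2.deg k X L 1 →
      (Module.finrank k (Coh.HH X L 0) : ℤ) = Curv2.deg k X L 1 + 1 → Curv2.genus k X = 0 := by
  intro N
  induction N with
  | zero =>
    intro L hL hN hdeg heq
    haveI : IsNoetherian X := Groth.Agent.Lead.EulerK0.isNoetherian_of_proper' k X
    have hLc : Coh.IsCoh L := Groth.Agent.Helper13.CurveDeg.isCoh_of_isInvertible L hL
    haveI := hLc.1
    have hOc : Coh.IsCoh (Coh.structureModule X) :=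
      Groth.Agent.Helper13.CohRoof.isCoh_structureModule X
    haveI := hOc.1
    haveI hfinO : Module.Finite k (Coh.HH X (Coh.structureModule X) 1) :=
      Groth.Agent.Helper13.FinProj.finite_HH_of_isProper k X _ hOc 1
    haveI hfinL1 : Module.Finite k (Coh.HH X L 1) :=
      Groth.Agent.Helper13.FinProj.finite_HH_of_isProper k X _ hLc 1
    have hRR := h0_sub_h1 k X hdim h0 L
    have hh1 : (Module.finrank k (Coh.HH X L 1) : ℤ) = (Curv2.genus k X : ℤ) := by linarith
    by_contra hg
    have hgpos : 0 < Curv2.genus k X := Nat.pos_of_ne_zero hg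
    have hh1pos : 0 < Module.finrank k (Coh.HH X L 1) := by
      have : (0 : ℤ) < (Module.finrank k (Coh.HH X L 1) : ℤ) := by
        rw [hh1]
        exact_mod_cast hgpos
      exact_mod_cast this
    have hnt : Nontrivial (Coh.HH X L 1) := Module.nontrivial_of_finrank_pos (R := k) hh1pos
    have hne := nontrivial_H1_unit_tensor k X L hLc hnt
    have hle := finrank_H0_le_finrank_H1 k X hdim (Coh.structureModule X) L hL hne
    have hle' : (Module.finrank k (Coh.HH X L 0) : ℤ) ≤ (Curv2.genus k X : ℤ) := by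
      exact_mod_cast hle
    push_cast at hN
    linarith
  | succ N ih =>
    intro L hL hN hdeg heq
    have hL2 : PicF.IsInvertible (CohB1.tensorMod L L) :=
      Groth.Agent.Helper13.Inv.isInvertible_tensorMod L L hL hL
    have hd2 := Groth.Agent.Helper13.CurveRR.deg_tensor k X hdim.le L L hL hL
    have heq2 := equality_tensor k X hdim h0 L hL hdeg heq
    refine ih (CohB1.tensorMod L L) hL2 ?_ ?_ heq2
    · rw [hd2]
      push_cast at hN
      linarith
    · rw [hd2]
      linarith

/-- the main statement. -/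
theorem main (hdim : topologicalKrullDim X = 1)
    (h0 : Module.finrank k (Coh.HH X (Coh.structureModule X) 0) = 1)
    (L : X.Modules) (hL : PicF.IsInvertible L) (hs : Nontrivial (Coh.HH X L 0)) :
    (Module.finrank k (Coh.HH X L 0) : ℤ) ≤ Curv2.deg k X L 1 + 1 ∧
      ((Module.finrank k (Coh.HH X L 0) : ℤ) = Curv2.deg k X L 1 + 1 → 0 < Curv2.deg k X L 1 →
        Curv2.genus k X = 0) := by
  haveI : IsNoetherian X := Groth.Agent.Lead.EulerK0.isNoetherian_of_proper' k X
  have hLc : Coh.IsCoh L := Groth.Agent.Helper13.CurveDeg.isCoh_of_isInvertible L hL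
  haveI := hLc.1
  refine ⟨?_, fun heq hdeg => ?_⟩
  · obtain ⟨s, hs'⟩ := Groth.Agent.Helper13.CurveVan.exists_hom_ne_zero L hs
    have hle := h1_le_genus k X hdim L hL L (𝟙 L) s hs'
    have hRR := h0_sub_h1 k X hdim h0 L
    have hle' : (Module.finrank k (Coh.HH X L 1) : ℤ) ≤ (Curv2.genus k X : ℤ) := by
      exact_mod_cast hle
    linarith
  · obtain ⟨N, hN⟩ : ∃ N : ℕ, 2 * (Curv2.genus k X : ℤ) - Curv2.deg k X L 1 ≤ N :=
      ⟨(2 * (Curv2.genus k X : ℤ) - Curv2.deg k X L 1).toNat, Int.self_le_toNat _⟩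
    exact genus_zero_aux k X hdim h0 N L hL hN hdeg heq

end Groth.Agent.Helper26.H0Deg
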