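import Mathlib
import Groth.Prelude.Def_ModFun2
import Groth.Agent.Lib.Helper20.IndecSub2
import Groth.Agent.Lib.Helper20.H0Rank
import Groth.Agent.Lib.Helper26.StabCurve
import Groth.Agent.Lib.Helper26.DegTensor
import Groth.Agent.Lib.Helper26.HomVan
import Groth.Agent.S0002

/-!
# `h⁰(G) ≤ r · max(⌊μ(G)⌋ + 1, 0)` for a slope-semistable bundle on a smooth proper curve (helper26)
-/

set_option autoImplicit false
set_option maxHeartbeats 1600000
set_option linter.style.haveILetI false
set_option linter.unusedSectionVars false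
set_option linter.unusedVariables false
universe u
open CategoryTheory CategoryTheory.Limits AlgebraicGeometry Opposite TopologicalSpace
open Groth.Agent.Helper20.RankFn Groth.Agent.Helper13 Groth.Agent.Helper13.TwistSES
open Groth.Agent.Helper13.QCoh Groth.Agent.Helper13.FinType Groth.Agent.Helper13.LocFree
open Groth.Agent.Helper20.VBMap Groth.Agent.Helper20.Untwist Groth.Agent.Helper20.StablePair
open Groth.Agent.Helper13.PnFin Groth.Agent.Helper24.LinLES

namespace Groth.Agent.Helper26.H0Slope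

variable (k : Type u) [Field k] {X : Scheme.{u}} [X.Over (Spec (CommRingCat.of k))] [IsIntegral X]
  [IsProper (X ↘ Spec (CommRingCat.of k))]

/-- a coherent module with zero generic stalk on a proper integral curve has `χ = h⁰`. -/
theorem euler_eq_h0_of_generic_stalk (hdim : topologicalKrullDim X = 1) (Q : X.Modules)
    (hQ : Coh.IsCoh Q) (hη : Subsingleton (Q.presheaf.stalk (genericPoint X))) :
    Curv2.euler k X Q = (Module.finrank k (Coh.HH X Q 0) : ℤ) := by
  have hN : IsLocallyNoetherian X := by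
    have : IsLocallyNoetherian (Spec (CommRingCat.of k)) := inferInstance
    exact LocallyOfFiniteType.isLocallyNoetherian (X ↘ Spec (CommRingCat.of k))
  set T : Set X := CohB1.support Q with hTdef
  have hT : IsClosed T := Groth.Agent.Helper26.DevD.isClosed_support Q hQ
  have hηT : genericPoint X ∉ T := fun h => h hη
  let U : X.Opens := ⟨Tᶜ, hT.isOpen_compl⟩
  have hUd : Dense (U : Set X) := hT.isOpen_compl.dense ⟨genericPoint X, hηT⟩
  have h0 : ∀ x ∈ T, IsClosed ({x} : Set X) := fun x hx =>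
    Groth.Agent.Helper13.CurveGen.isClosed_singleton_of_notMem_dense hdim.le U hUd x
      (fun hxU => hxU hx)
  have hsupp : ∀ x : X, x ∉ T → Subsingleton (Q.presheaf.stalk x) := fun x hx => not_not.mp hx
  have hvan : ∀ q : ℕ, 0 < q → Subsingleton (Coh.HH X Q q) := fun q hq =>
    Groth.Agent.Helper13.CurveGen.HH_subsingleton_of_support_subset Q T hT h0 hsupp q hq
  unfold Curv2.euler
  rw [finsum_eq_single _ 0]
  · simp
  · intro i hi
    have := hvan i (Nat.pos_of_ne_zero hi)
    rw [Module.finrank_zero_of_subsingleton]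
    simp

variable [Smooth (X ↘ Spec (CommRingCat.of k))]

/-- for a subbundle of full rank, `h⁰` grows at most by the difference of Euler characteristics. -/
theorem h0_le_of_mono_of_rank (hdim : topologicalKrullDim X = 1) {I G : X.Modules} (r : ℕ)
    (hI : FlatMod.IsFinLocFreeOfRank r I) (hG : FlatMod.IsFinLocFreeOfRank r G) (ι : I ⟶ G)
    [Mono ι] : (Module.finrank k (Coh.HH X G 0) : ℤ) ≤
      (Module.finrank k (Coh.HH X I 0) : ℤ) + (Curv2.euler k X G - Curv2.euler k X I) := by
  have hN : IsLocallyNoetherian X := isLocallyNoetherian_of_proper k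
  have hIl := Groth.Agent.Helper20.VBIndec.isFinLocFree_of_rank r I hI
  have hGl := Groth.Agent.Helper20.VBIndec.isFinLocFree_of_rank r G hG
  have hIc : Coh.IsCoh I := Groth.Agent.Helper9.ResVan.isCoh_of_isFinLocFree I hIl
  have hGc : Coh.IsCoh G := Groth.Agent.Helper9.ResVan.isCoh_of_isFinLocFree G hGl
  have hQc : Coh.IsCoh (cokernel ι) := by
    have h1 : I.IsQuasicoherent := hIc.1
    have h2 : G.IsQuasicoherent := hGc.1
    have h3 : SheafOfModules.IsFiniteType (R := X.ringCatSheaf) G := hGc.2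
    exact ⟨Groth.Agent.Helper13.QCohLocal.isQuasicoherent_cokernel ι,
      Groth.Agent.Helper13.FinType.isFiniteType_of_epi (cokernel.π ι)⟩
  let S : ShortComplex X.Modules := ShortComplex.mk ι (cokernel.π ι) (cokernel.condition _)
  have hS : S.ShortExact :=
    { exact := ShortComplex.exact_cokernel ι
      mono_f := (inferInstance : Mono ι)
      epi_g := (inferInstance : Epi (cokernel.π ι)) }
  have hfin : Module.Finite (X.presheaf.stalk (genericPoint X))
      (S.X₂.presheaf.stalk (genericPoint X)) := (free_finite_stalk G hGl _).2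
  have hrk := rk_shortExact S hS (genericPoint X)
  have h1 : rk G (genericPoint X) = r := rk_eq_of_isFinLocFreeOfRank G r hG _
  have h2 : rk I (genericPoint X) = r := rk_eq_of_isFinLocFreeOfRank I r hI _
  have h3 : rk (cokernel ι) (genericPoint X) = 0 := by
    change rk G _ = rk I _ + rk (cokernel ι) _ at hrk
    omega
  have hfield : IsField (X.presheaf.stalk (genericPoint X)) :=
    Field.toIsField (X.functionField)
  have hfinQ : Module.Finite (X.presheaf.stalk (genericPoint X))
      ((cokernel ι).presheaf.stalk (genericPoint X)) := by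
    haveI hft : SheafOfModules.IsFiniteType (R := X.ringCatSheaf) (cokernel ι) := hQc.2
    haveI hqc : (cokernel ι).IsQuasicoherent := hQc.1
    exact @finite_stalk_of_isFiniteType _ (cokernel ι) hqc hft _
  have hη : Subsingleton ((cokernel ι).presheaf.stalk (genericPoint X)) :=
    subsingleton_of_finrank_eq_zero_of_isField hfield h3
  have heul := Groth.Agent.S1524.result k X S hS hIc hGc hQc
  change Curv2.euler k X G = Curv2.euler k X I + Curv2.euler k X (cokernel ι) at heul
  have hQ0 := euler_eq_h0_of_generic_stalk k hdim (cokernel ι) hQc hη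
  haveI f1 : Module.Finite k (Coh.HH X S.X₁ 0) := Groth.Agent.S0002.result k X _ hIc 0
  haveI f2 : Module.Finite k (Coh.HH X S.X₂ 0) := Groth.Agent.S0002.result k X _ hGc 0
  haveI f3 : Module.Finite k (Coh.HH X S.X₃ 0) := Groth.Agent.S0002.result k X _ hQc 0
  have hle := Groth.Agent.Helper20.H0Rank.finrank_h0_le_of_shortExact k S hS
  change Module.finrank k (Coh.HH X G 0) ≤
    Module.finrank k (Coh.HH X I 0) + Module.finrank k (Coh.HH X (cokernel ι) 0) at hle
  have hle' : (Module.finrank k (Coh.HH X G 0) : ℤ) ≤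
      (Module.finrank k (Coh.HH X I 0) : ℤ) +
        (Module.finrank k (Coh.HH X (cokernel ι) 0) : ℤ) := by exact_mod_cast hle
  linarith

variable [IsAlgClosed k]

/-- the ideal sheaf of a closed point: invertible of degree `-1`, with its inclusion into `O`. -/
theorem exists_point_ideal (hdim : topologicalKrullDim X = 1) :
    ∃ (I : X.Modules) (ι : I ⟶ Coh.structureModule X), PicF.IsInvertible I ∧ Mono ι ∧
      Curv2.deg k X I 1 = -1 := by
  have hN : IsLocallyNoetherian X := isLocallyNoetherian_of_proper k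
  haveI : CompactSpace X :=
    QuasiCompact.compactSpace_of_compactSpace (X ↘ Spec (CommRingCat.of k))
  obtain ⟨P, -, hP⟩ := IsClosed.exists_closed_singleton
    (isClosed_univ : IsClosed (Set.univ : Set X)) Set.univ_nonempty
  let I : X.IdealSheafData :=
    Scheme.IdealSheafData.vanishingIdeal (⟨{P}, hP⟩ : TopologicalSpace.Closeds X)
  have hIc : Coh.IsCoh (ClSub.idealMod I) := Groth.Agent.Helper24.PtIdeal.isCoh_idealMod I
  haveI hmono : Mono (ClSub.idealModι I) :=
    inferInstanceAs (Mono (kernel.ι (ClSub.toSubscheme I)))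
  have hO1 : FlatMod.IsFinLocFreeOfRank 1 (Coh.structureModule X) :=
    Groth.Agent.Helper26.IntLF.isFinLocFreeOfRank_one_of_isInvertible _
      (Groth.Agent.Helper13.Inv.isInvertible_structureModule (X := X))
  have hIf : FlatMod.IsFinLocFree (ClSub.idealMod I) :=
    isFinLocFree_of_mono (hreg_of_smooth k) hdim.le hIc
      (Groth.Agent.Helper20.VBIndec.isFinLocFree_of_rank 1 _ hO1) (ClSub.idealModι I)
  have hη : genericPoint X ∉ (I.support : Set X) := by
    rw [Scheme.IdealSheafData.coe_support_vanishingIdeal]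
    intro hmem
    have heq : genericPoint X = P := Set.mem_singleton_iff.1 hmem
    have h1 : ({P} : Set X) = Set.univ := by
      rw [← hP.closure_eq, ← heq]
      exact genericPoint_spec X
    haveI : Subsingleton X := by
      refine ⟨fun a b => ?_⟩
      have ha : a ∈ ({P} : Set X) := h1 ▸ Set.mem_univ a
      have hb : b ∈ ({P} : Set X) := h1 ▸ Set.mem_univ b
      rw [Set.mem_singleton_iff.1 ha, Set.mem_singleton_iff.1 hb]
    have h2 := Groth.Agent.Helper24.PtIdeal.topologicalKrullDim_le_zero_of_subsingleton X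
    rw [hdim] at h2
    exact lt_irrefl _ (lt_of_lt_of_le zero_lt_one h2)
  have hrk : rk (ClSub.idealMod I) (genericPoint X) = 1 :=
    Groth.Agent.Helper24.PtDeg.finrank_stalk_idealMod I _ hη
  have hI1 : FlatMod.IsFinLocFreeOfRank 1 (ClSub.idealMod I) := by
    have := isFinLocFreeOfRank_of_preconnected (ClSub.idealMod I) hIf (genericPoint X)
    rwa [hrk] at this
  exact ⟨_, ClSub.idealModι I, Groth.Agent.Helper26.NefExt.isInvertible_of_rank_one _ hI1, hmono,
    Groth.Agent.Helper24.PtDeg.deg_idealMod_point k X P hP⟩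

omit [IsAlgClosed k] in
/-- twisting down by an invertible ideal of degree `-1` drops `h⁰` by at most the rank. -/
theorem h0_le_twist_add_rank (hdim : topologicalKrullDim X = 1) (I : X.Modules)
    (ι : I ⟶ Coh.structureModule X) (hI : PicF.IsInvertible I) [Mono ι]
    (hdI : Curv2.deg k X I 1 = -1) (r : ℕ) (G : X.Modules) (hG : FlatMod.IsFinLocFreeOfRank r G) :
    (Module.finrank k (Coh.HH X G 0) : ℤ) ≤
      (Module.finrank k (Coh.HH X (CohB1.tensorMod I G) 0) : ℤ) + r := by
  have hI1 := Groth.Agent.Helper26.IntLF.isFinLocFreeOfRank_one_of_isInvertible I hI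
  have hGl := Groth.Agent.Helper20.VBIndec.isFinLocFree_of_rank r G hG
  let S : ShortComplex X.Modules := ShortComplex.mk ι (cokernel.π ι) (cokernel.condition _)
  have hS : S.ShortExact :=
    { exact := ShortComplex.exact_cokernel ι
      mono_f := (inferInstance : Mono ι)
      epi_g := (inferInstance : Epi (cokernel.π ι)) }
  have hT := Groth.Agent.Helper26.DegTensor.tensorSC_shortExact_of_isFinLocFree S hS G hGl
  haveI hm : Mono (Tensor.map ι (𝟙 G)) := hT.mono_f
  have hIG : FlatMod.IsFinLocFreeOfRank r (CohB1.tensorMod I G) := by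
    have := Groth.Agent.Helper26.HiggsSS.isFinLocFreeOfRank_tensorMod I G 1 r hI1 hG
    simpa using this
  haveI : Mono (Tensor.map ι (𝟙 G) ≫ (Tensor.lid G).hom) := mono_comp _ _
  have h1 := h0_le_of_mono_of_rank k hdim r hIG hG (Tensor.map ι (𝟙 G) ≫ (Tensor.lid G).hom)
  have hd := Groth.Agent.Helper26.DegTensor.deg_tensor k X hdim.le I G 1 r hI1 hG
  simp only [Nat.cast_one, one_mul] at hd
  rw [hdI] at hd
  unfold Curv2.deg at hd
  linarith

omit [IsAlgClosed k] in
/-- invertible modules tensor to invertible modules, and degrees add. -/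
theorem tensor_invertible' (hdim : topologicalKrullDim X = 1) (M A : X.Modules)
    (hM : PicF.IsInvertible M) (hA : PicF.IsInvertible A) :
    PicF.IsInvertible (CohB1.tensorMod M A) ∧
      Curv2.deg k X (CohB1.tensorMod M A) 1 = Curv2.deg k X M 1 + Curv2.deg k X A 1 :=
  Groth.Agent.Helper20.IndecSub.tensor_invertible k hdim M A hM hA

/-- iterated twisting down. -/
theorem exists_twist (hdim : topologicalKrullDim X = 1) (n : ℕ) :
    ∃ M : X.Modules, PicF.IsInvertible M ∧ Curv2.deg k X M 1 = -(n : ℤ) ∧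
      ∀ (r : ℕ) (G : X.Modules), FlatMod.IsFinLocFreeOfRank r G →
        (Module.finrank k (Coh.HH X G 0) : ℤ) ≤
          (Module.finrank k (Coh.HH X (CohB1.tensorMod M G) 0) : ℤ) + (r : ℤ) * (n : ℤ) := by
  induction n with
  | zero =>
    refine ⟨Coh.structureModule X, Groth.Agent.Helper13.Inv.isInvertible_structureModule (X := X),
      by simpa using Groth.Agent.Helper13.CurveDeg.deg_structureModule (k := k) (X := X), ?_⟩
    intro r G hG
    rw [Groth.Agent.Helper26.HomVan.finrank_HH_of_iso k (Tensor.lid G) 0]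
    simp
  | succ n ih =>
    obtain ⟨M, hM, hdM, hMG⟩ := ih
    obtain ⟨I, ι, hI, hι, hdI⟩ := exists_point_ideal k hdim
    obtain ⟨h1, h2⟩ := tensor_invertible' k hdim I M hI hM
    refine ⟨CohB1.tensorMod I M, h1, by rw [h2, hdI, hdM]; push_cast; ring, ?_⟩
    intro r G hG
    have hM1 := Groth.Agent.Helper26.IntLF.isFinLocFreeOfRank_one_of_isInvertible M hM
    have hMGr : FlatMod.IsFinLocFreeOfRank r (CohB1.tensorMod M G) := by
      have := Groth.Agent.Helper26.HiggsSS.isFinLocFreeOfRank_tensorMod M G 1 r hM1 hG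
      simpa using this
    have h3 := hMG r G hG
    have h4 := h0_le_twist_add_rank k hdim I ι hI hdI r (CohB1.tensorMod M G) hMGr
    rw [← Groth.Agent.Helper26.HomVan.finrank_HH_of_iso k (Tensor.assoc I M G) 0] at h4
    push_cast
    linarith

/-- **`h⁰(G) ≤ r · max(⌊μ(G)⌋ + 1, 0)` for slope-semistable `G` of rank `r`.** -/
theorem main (hdim : topologicalKrullDim X = 1)
    (r : ℕ) (hr : 0 < r) (G : X.Modules) (hG : FlatMod.IsFinLocFreeOfRank r G)
    (hss : ModFun.IsSlopeSemistable k X G r) :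
    (Module.finrank k (Coh.HH X G 0) : ℤ) ≤
      (r : ℤ) * max (⌊(Curv2.deg k X G r : ℚ) / (r : ℚ)⌋ + 1) 0 := by
  have hN : IsLocallyNoetherian X := isLocallyNoetherian_of_proper k
  set m : ℤ := max (⌊(Curv2.deg k X G r : ℚ) / (r : ℚ)⌋ + 1) 0 with hm
  have hm0 : 0 ≤ m := le_max_right _ _
  obtain ⟨n, hn⟩ : ∃ n : ℕ, (n : ℤ) = m := ⟨m.toNat, Int.toNat_of_nonneg hm0⟩
  rw [← hn]
  by_contra hcon
  push Not at hcon
  obtain ⟨M, hM, hdM, hMG⟩ := exists_twist k hdim n
  have h1 := hMG r G hG
  have hpos : (0 : ℤ) < (Module.finrank k (Coh.HH X (CohB1.tensorMod M G) 0) : ℤ) := by linarith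
  obtain ⟨z, hz⟩ : ∃ z : Coh.HH X (CohB1.tensorMod M G) 0, z ≠ 0 := by
    by_contra hall
    push Not at hall
    haveI : Subsingleton (Coh.HH X (CohB1.tensorMod M G) 0) :=
      ⟨fun a b => by rw [hall a, hall b]⟩
    rw [Module.finrank_zero_of_subsingleton] at hpos
    exact lt_irrefl _ hpos
  have hM1 := Groth.Agent.Helper26.IntLF.isFinLocFreeOfRank_one_of_isInvertible M hM
  have hO1 : FlatMod.IsFinLocFreeOfRank 1 (Coh.structureModule X) :=
    Groth.Agent.Helper26.IntLF.isFinLocFreeOfRank_one_of_isInvertible _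
      (Groth.Agent.Helper13.Inv.isInvertible_structureModule (X := X))
  have hMGr : FlatMod.IsFinLocFreeOfRank r (CohB1.tensorMod M G) := by
    have := Groth.Agent.Helper26.HiggsSS.isFinLocFreeOfRank_tensorMod M G 1 r hM1 hG
    simpa using this
  have hFl : FlatMod.IsFinLocFree (CohB1.tensorMod M G) :=
    Groth.Agent.Helper20.VBIndec.isFinLocFree_of_rank r _ hMGr
  have hs := homOfH0_ne_zero (CohB1.tensorMod M G) z hz
  haveI : Mono (homOfH0 (CohB1.tensorMod M G) z) :=
    Groth.Agent.Helper20.VeryStable.mono_of_ne_zero_of_rank_one k hdim hO1 hFl _ hs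
  obtain ⟨Mi, hMi, ⟨eMMi⟩, ⟨eMiM⟩⟩ := Groth.Agent.Helper13.InvDual.exists_inverse M hM
  have hdMi : Curv2.deg k X Mi 1 = - Curv2.deg k X M 1 :=
    Groth.Agent.Helper26.HiggsSS.deg_inverse k hdim M Mi hM hMi eMMi
  have hMi1 := Groth.Agent.Helper26.IntLF.isFinLocFreeOfRank_one_of_isInvertible Mi hMi
  haveI : Mono (homOfH0 (CohB1.tensorMod M G) z ≫ (Tensor.braid M G).hom) := mono_comp _ _
  haveI : Mono (Tensor.map (homOfH0 (CohB1.tensorMod M G) z ≫ (Tensor.braid M G).hom) (𝟙 Mi)) :=
    mono_map_id _ Mi hMi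
  let φ : Mi ⟶ G := (Tensor.lid Mi).inv ≫
    Tensor.map (homOfH0 (CohB1.tensorMod M G) z ≫ (Tensor.braid M G).hom) (𝟙 Mi) ≫
      (rho G M Mi eMMi).hom
  haveI : Mono φ := by
    haveI : Mono (Tensor.map (homOfH0 (CohB1.tensorMod M G) z ≫ (Tensor.braid M G).hom) (𝟙 Mi) ≫
      (rho G M Mi eMMi).hom) := mono_comp _ _
    exact mono_comp _ _
  have h2 := hss Mi 1 φ inferInstance one_pos hMi1
  rw [hdMi, hdM] at h2
  simp only [neg_neg, Nat.cast_one, mul_one] at h2
  -- h2 : n * r ≤ deg G
  have hrQ : (0 : ℚ) < (r : ℚ) := by exact_mod_cast hr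
  have hfl : (Curv2.deg k X G r : ℚ) / (r : ℚ) < (⌊(Curv2.deg k X G r : ℚ) / (r : ℚ)⌋ : ℚ) + 1 :=
    Int.lt_floor_add_one _
  have hle : ⌊(Curv2.deg k X G r : ℚ) / (r : ℚ)⌋ + 1 ≤ (n : ℤ) := by
    rw [hn]
    exact le_max_left _ _
  have hleQ : ((⌊(Curv2.deg k X G r : ℚ) / (r : ℚ)⌋ : ℤ) : ℚ) + 1 ≤ (n : ℚ) := by
    exact_mod_cast hle
  have h3 : (Curv2.deg k X G r : ℚ) < (n : ℚ) * (r : ℚ) := by
    rw [div_lt_iff₀ hrQ] at hfl
    calc (Curv2.deg k X G r : ℚ) < ((⌊(Curv2.deg k X G r : ℚ) / (r : ℚ)⌋ : ℚ) + 1) * r := hfl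
      _ ≤ (n : ℚ) * r := by
        apply mul_le_mul_of_nonneg_right hleQ hrQ.le
  have h4 : ((n : ℤ) * (r : ℤ) : ℤ) ≤ Curv2.deg k X G r := h2
  have h5 : ((n : ℚ) * (r : ℚ)) ≤ (Curv2.deg k X G r : ℚ) := by exact_mod_cast h4
  linarith

end Groth.Agent.Helper26.H0Slope
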