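import Mathlib
import Groth.Prelude.Def_W4c2azumayainvolQEt

/-! Rings with involution whose fixed ring is local: at most two maximal ideals. -/

namespace Groth.Agent.Lib.Helper26.HDiag

universe u v

variable {B : Type u} {A : Type v} [CommRing B] [CommRing A] [Algebra B A] (lam : A ≃+* A)

section basic

variable (hlam : Function.Involutive lam) (hB : RInv.IsFixedRing B A lam)
include hlam hB

theorem exists_norm (a : A) : ∃ b : B, algebraMap B A b = a * lam a := by
  have h : lam (a * lam a) = a * lam a := by rw [map_mul, hlam a, mul_comm]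
  obtain ⟨b, hb⟩ := (hB.2 _).mp h
  exact ⟨b, hb⟩

theorem exists_trace (a : A) : ∃ b : B, algebraMap B A b = a + lam a := by
  have h : lam (a + lam a) = a + lam a := by rw [map_add, hlam a, add_comm]
  obtain ⟨b, hb⟩ := (hB.2 _).mp h
  exact ⟨b, hb⟩

omit hlam in
theorem lam_algebraMap (b : B) : lam (algebraMap B A b) = algebraMap B A b :=
  (hB.2 _).mpr ⟨b, rfl⟩

omit hlam in
theorem isUnit_of_isUnit_algebraMap (b : B) (h : IsUnit (algebraMap B A b)) : IsUnit b := by
  obtain ⟨a, ha⟩ := h.exists_right_inv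
  have h1 : algebraMap B A b * lam a = 1 := by
    have := congrArg lam ha
    rwa [map_mul, map_one, lam_algebraMap lam hB] at this
  have h2 : lam a = a := by
    calc lam a = (a * algebraMap B A b) * lam a := by rw [mul_comm a, ha, one_mul]
      _ = a * (algebraMap B A b * lam a) := by ring
      _ = a := by rw [h1, mul_one]
  obtain ⟨c, hc⟩ := (hB.2 _).mp h2
  refine IsUnit.of_mul_eq_one c ?_
  apply hB.1
  rw [map_mul, hc, ha, map_one]

variable [IsLocalRing B]

theorem algebraMap_mem_jacobson (b : B) (hb : b ∈ IsLocalRing.maximalIdeal B) :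
    algebraMap B A b ∈ Ring.jacobson A := by
  rw [← Ideal.jacobson_bot, Ideal.mem_jacobson_bot]
  intro c
  obtain ⟨n, hn⟩ := exists_norm lam hlam hB c
  obtain ⟨t, ht⟩ := exists_trace lam hlam hB c
  have h1 : (algebraMap B A b * c + 1) * lam (algebraMap B A b * c + 1) =
      algebraMap B A (1 + b * (b * n + t)) := by
    rw [map_add, map_mul, map_one, lam_algebraMap lam hB]
    simp only [map_add, map_mul, map_one, hn, ht]
    ring
  have h2 : IsUnit (1 + b * (b * n + t)) := by
    by_contra h
    have h3 : 1 + b * (b * n + t) ∈ IsLocalRing.maximalIdeal B := h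
    have h4 : b * (b * n + t) ∈ IsLocalRing.maximalIdeal B := Ideal.mul_mem_right _ _ hb
    have h5 : (1 : B) ∈ IsLocalRing.maximalIdeal B := by
      have := Ideal.sub_mem _ h3 h4
      simp at this
    exact (Ideal.ne_top_iff_one _).mp (IsLocalRing.maximalIdeal.isMaximal B).ne_top h5
  have h3 := h2.map (algebraMap B A)
  rw [← h1] at h3
  exact isUnit_of_mul_isUnit_left h3

theorem mem_or_lam_mem (M M' : Ideal A) [M.IsMaximal] (hM' : M' ≠ ⊤) (a : A) (ha : a ∈ M') :
    a ∈ M ∨ lam a ∈ M := by
  obtain ⟨b, hb⟩ := exists_norm lam hlam hB a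
  have hbm : b ∈ IsLocalRing.maximalIdeal B := by
    by_contra h
    have hu : IsUnit b := by
      by_contra h'
      exact h h'
    have h1 : algebraMap B A b ∈ M' := by rw [hb]; exact M'.mul_mem_right _ ha
    exact hM' (Ideal.eq_top_of_isUnit_mem _ h1 (hu.map _))
  have h1 : algebraMap B A b ∈ M := by
    have := algebraMap_mem_jacobson lam hlam hB b hbm
    rw [← Ideal.jacobson_bot] at this
    exact (Ideal.mem_sInf.mp this) ⟨bot_le, inferInstance⟩
  rw [hb] at h1
  exact (Ideal.IsMaximal.isPrime inferInstance).mem_or_mem h1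

omit hlam hB in
theorem comap_isMaximal (M : Ideal A) [M.IsMaximal] : (M.comap (lam : A →+* A)).IsMaximal :=
  Ideal.comap_isMaximal_of_surjective _ lam.surjective

theorem eq_or_eq_comap (M M' : Ideal A) [M.IsMaximal] [hM' : M'.IsMaximal] :
    M' = M ∨ M' = M.comap (lam : A →+* A) := by
  have h : (M' : Set A) ⊆ (M : Set A) ∪ (M.comap (lam : A →+* A) : Set A) := by
    intro a ha
    rcases mem_or_lam_mem lam hlam hB M M' hM'.ne_top a ha with h | h
    · exact Or.inl h
    · exact Or.inr h
  rcases Ideal.subset_union.mp h with h | h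
  · exact Or.inl (hM'.eq_of_le (Ideal.IsMaximal.ne_top inferInstance) h)
  · have := comap_isMaximal lam M
    exact Or.inr (hM'.eq_of_le this.ne_top h)

theorem isUnit_iff (M : Ideal A) [hM : M.IsMaximal] (a : A) :
    IsUnit a ↔ a ∉ M ∧ lam a ∉ M := by
  constructor
  · intro h
    exact ⟨fun h' => hM.ne_top (Ideal.eq_top_of_isUnit_mem _ h' h),
      fun h' => hM.ne_top (Ideal.eq_top_of_isUnit_mem _ h' (h.map lam))⟩
  · rintro ⟨h1, h2⟩
    by_contra hu
    obtain ⟨M', hM', haM'⟩ := exists_max_ideal_of_mem_nonunits hu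
    rcases eq_or_eq_comap lam hlam hB M M' with h | h
    · exact h1 (h ▸ haM')
    · rw [h] at haM'
      exact h2 haM'

theorem mem_jacobson_iff (M : Ideal A) [hM : M.IsMaximal] (a : A) :
    a ∈ Ring.jacobson A ↔ a ∈ M ∧ lam a ∈ M := by
  rw [← Ideal.jacobson_bot]
  constructor
  · intro h
    have h' := Ideal.mem_sInf.mp h
    have := comap_isMaximal lam M
    exact ⟨h' ⟨bot_le, hM⟩, h' (I := M.comap (lam : A →+* A)) ⟨bot_le, this⟩⟩
  · rintro ⟨h1, h2⟩
    apply Ideal.mem_sInf.mpr
    rintro M' ⟨-, hM'⟩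
    rcases eq_or_eq_comap lam hlam hB M M' with h | h
    · rw [h]; exact h1
    · rw [h]; exact h2

end basic

end Groth.Agent.Lib.Helper26.HDiag
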