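import Mathlib

/-! Quadratic forms given by square matrices: basic calculus. -/

namespace Groth.Agent.Lib.Helper26.QSplit

open Matrix

variable {ι : Type*} [Fintype ι] [DecidableEq ι]
variable {R S : Type*} [CommRing R] [CommRing S]

/-- the bilinear map `(x, y) ↦ xᵀ c y` -/
noncomputable def bf (c : Matrix ι ι R) : (ι → R) →ₗ[R] (ι → R) →ₗ[R] R := Matrix.toLinearMap₂' R c

theorem bf_apply (c : Matrix ι ι R) (x y : ι → R) : bf c x y = x ⬝ᵥ (c *ᵥ y) := by
  simp [bf, Matrix.toLinearMap₂'_apply']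

/-- the quadratic form `x ↦ xᵀ c x` -/
noncomputable def qf (c : Matrix ι ι R) (x : ι → R) : R := bf c x x

/-- the polar form -/
noncomputable def bl (c : Matrix ι ι R) : (ι → R) →ₗ[R] (ι → R) →ₗ[R] R := bf (c + cᵀ)

theorem bf_transpose (c : Matrix ι ι R) (x y : ι → R) : bf cᵀ x y = bf c y x := by
  rw [bf_apply, bf_apply, Matrix.mulVec_transpose, dotProduct_comm, Matrix.dotProduct_mulVec]

theorem bl_apply (c : Matrix ι ι R) (x y : ι → R) : bl c x y = bf c x y + bf c y x := by
  unfold bl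
  rw [← bf_transpose c x y]
  simp [bf, map_add]

theorem bl_comm (c : Matrix ι ι R) (x y : ι → R) : bl c x y = bl c y x := by
  rw [bl_apply, bl_apply, add_comm]

theorem bl_self (c : Matrix ι ι R) (x : ι → R) : bl c x x = 2 * qf c x := by
  rw [bl_apply, qf]; ring

theorem qf_add (c : Matrix ι ι R) (x y : ι → R) : qf c (x + y) = qf c x + qf c y + bl c x y := by
  rw [bl_apply]
  simp only [qf, map_add, LinearMap.add_apply]
  ring

theorem qf_smul (c : Matrix ι ι R) (a : R) (x : ι → R) : qf c (a • x) = a * a * qf c x := by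
  simp only [qf, map_smul, LinearMap.smul_apply, smul_eq_mul]
  ring

theorem qf_zero (c : Matrix ι ι R) : qf c 0 = 0 := by simp [qf]

theorem qf_neg (c : Matrix ι ι R) (x : ι → R) : qf c (-x) = qf c x := by
  simp [qf]

theorem qf_sub (c : Matrix ι ι R) (x y : ι → R) : qf c (x - y) = qf c x + qf c y - bl c x y := by
  rw [sub_eq_add_neg, qf_add, qf_neg, map_neg]; ring

theorem bf_map (f : R →+* S) (c : Matrix ι ι R) (x y : ι → R) :
    bf (c.map f) (f ∘ x) (f ∘ y) = f (bf c x y) := by
  simp only [bf_apply, dotProduct, mulVec, map_sum, map_mul, Matrix.map_apply, Function.comp_apply]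

theorem qf_map (f : R →+* S) (c : Matrix ι ι R) (x : ι → R) :
    qf (c.map f) (f ∘ x) = f (qf c x) := bf_map f c x x

theorem bl_map (f : R →+* S) (c : Matrix ι ι R) (x y : ι → R) :
    bl (c.map f) (f ∘ x) (f ∘ y) = f (bl c x y) := by
  rw [bl_apply, bl_apply, bf_map, bf_map, map_add]

theorem polar_map (f : R →+* S) (c : Matrix ι ι R) :
    (c + cᵀ).map f = c.map f + (c.map f)ᵀ := by
  ext i j; simp

theorem bl_single (c : Matrix ι ι R) (i j : ι) :
    bl c (Pi.single i 1) (Pi.single j 1) = (c + cᵀ) i j := by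
  simp [bl, bf_apply]

/-- the discriminant-type quantity `b(x,y)² - 4 q(x) q(y)` -/
noncomputable def dd (c : Matrix ι ι R) (x y : ι → R) : R := bl c x y ^ 2 - 4 * qf c x * qf c y

theorem dd_comm (c : Matrix ι ι R) (x y : ι → R) : dd c x y = dd c y x := by
  unfold dd; rw [bl_comm]; ring

theorem dd_add_right_self (c : Matrix ι ι R) (x y : ι → R) : dd c x (x + y) = dd c x y := by
  unfold dd
  rw [map_add, qf_add, bl_self]
  ring

theorem dd_map (f : R →+* S) (c : Matrix ι ι R) (x y : ι → R) :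
    dd (c.map f) (f ∘ x) (f ∘ y) = f (dd c x y) := by
  unfold dd
  rw [bl_map, qf_map, qf_map]
  simp [map_ofNat]

end Groth.Agent.Lib.Helper26.QSplit
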