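import Mathlib
import Groth.Agent.Lib.Helper26.QSplit1

/-! Sesquilinear forms given by matrices over a ring with involution; orthogonal families. -/

namespace Groth.Agent.Lib.Helper26.HDiag

open Matrix Groth.Agent.Lib.Helper26.QSplit

universe v

variable {ι : Type*} [Fintype ι] [DecidableEq ι]
variable {A : Type v} [CommRing A] (lam : A ≃+* A)

/-- the sesquilinear form `(x, y) ↦ (lam x)ᵀ h y` -/
noncomputable def sf (h : Matrix ι ι A) (x y : ι → A) : A := bf h (lam ∘ x) y

variable {lam}

theorem lam_comp_add (x y : ι → A) : lam ∘ (x + y) = lam ∘ x + lam ∘ y := by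
  ext i; simp

theorem lam_comp_sub (x y : ι → A) : lam ∘ (x - y) = lam ∘ x - lam ∘ y := by
  ext i; simp

theorem lam_comp_smul (a : A) (x : ι → A) : lam ∘ (a • x) = lam a • (lam ∘ x) := by
  ext i; simp

theorem lam_comp_sum {κ : Type*} (s : Finset κ) (f : κ → ι → A) :
    lam ∘ (∑ k ∈ s, f k) = ∑ k ∈ s, lam ∘ f k := by
  ext i; simp [Finset.sum_apply]

theorem lam_comp_zero : lam ∘ (0 : ι → A) = 0 := by
  ext i; simp

variable (h : Matrix ι ι A)

theorem sf_add_left (x x' y : ι → A) : sf lam h (x + x') y = sf lam h x y + sf lam h x' y := by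
  simp [sf, lam_comp_add, LinearMap.map_add₂]

theorem sf_sub_left (x x' y : ι → A) : sf lam h (x - x') y = sf lam h x y - sf lam h x' y := by
  simp [sf, lam_comp_sub, LinearMap.map_sub₂]

theorem sf_smul_left (a : A) (x y : ι → A) : sf lam h (a • x) y = lam a * sf lam h x y := by
  simp [sf, lam_comp_smul, LinearMap.map_smul₂]

theorem sf_sum_left {κ : Type*} (s : Finset κ) (f : κ → ι → A) (y : ι → A) :
    sf lam h (∑ k ∈ s, f k) y = ∑ k ∈ s, sf lam h (f k) y := by
  simp [sf, lam_comp_sum, LinearMap.map_sum₂]

theorem sf_zero_left (y : ι → A) : sf lam h 0 y = 0 := by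
  simp [sf, lam_comp_zero]

theorem sf_add_right (x y y' : ι → A) : sf lam h x (y + y') = sf lam h x y + sf lam h x y' := by
  simp [sf]

theorem sf_sub_right (x y y' : ι → A) : sf lam h x (y - y') = sf lam h x y - sf lam h x y' := by
  simp [sf]

theorem sf_smul_right (a : A) (x y : ι → A) : sf lam h x (a • y) = a * sf lam h x y := by
  simp [sf]

theorem sf_sum_right {κ : Type*} (s : Finset κ) (x : ι → A) (f : κ → ι → A) :
    sf lam h x (∑ k ∈ s, f k) = ∑ k ∈ s, sf lam h x (f k) := by
  simp [sf]

theorem sf_zero_right (x : ι → A) : sf lam h x 0 = 0 := by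
  simp [sf]

theorem sf_apply (x y : ι → A) : sf lam h x y = ∑ i, ∑ j, lam (x i) * h i j * y j := by
  simp only [sf, bf_apply, dotProduct, mulVec, Function.comp_apply, Finset.mul_sum, mul_assoc]

theorem sf_single (i j : ι) (a b : A) :
    sf lam h (Pi.single i a) (Pi.single j b) = lam a * h i j * b := by
  rw [sf_apply]
  rw [Finset.sum_eq_single i, Finset.sum_eq_single j]
  · simp
  · intro l _ hl; simp [Pi.single_eq_of_ne hl]
  · intro hj; exact absurd (Finset.mem_univ _) hj
  · intro k _ hk
    apply Finset.sum_eq_zero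
    intro l _
    simp [Pi.single_eq_of_ne hk]
  · intro hi; exact absurd (Finset.mem_univ _) hi

/-- hermitian symmetry -/
theorem sf_herm (hlam : Function.Involutive lam) (ε : A) (hε : ε = 1 ∨ ε = -1)
    (herm : ε • (h.map lam).transpose = h) (x y : ι → A) :
    sf lam h y x = ε * lam (sf lam h x y) := by
  have hε' : lam ε = ε := by rcases hε with rfl | rfl <;> simp
  have hij : ∀ i j, h i j = ε * lam (h j i) := by
    intro i j
    have := congrFun (congrFun herm i) j
    simp only [Matrix.smul_apply, Matrix.transpose_apply, Matrix.map_apply, smul_eq_mul] at this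
    exact this.symm
  rw [sf_apply, sf_apply, map_sum, Finset.mul_sum, Finset.sum_comm]
  apply Finset.sum_congr rfl; intro i _
  rw [map_sum, Finset.mul_sum]
  apply Finset.sum_congr rfl; intro j _
  rw [map_mul, map_mul, hlam (x i), hij j i]
  ring

variable (lam)

/-- an orthogonal family with unit norms -/
structure OFam (h : Matrix ι ι A) (r : ℕ) where
  x : Fin r → ι → A
  d : Fin r → A
  di : Fin r → A
  hd : ∀ k, d k * di k = 1
  orth : ∀ k l, sf lam h (x k) (x l) = if k = l then d k else 0

namespace OFam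

variable {lam h} {r : ℕ} (F : OFam lam h r)

/-- orthogonality to the family -/
def IsOrth (v : ι → A) : Prop := ∀ k, sf lam h (F.x k) v = 0

/-- the projection onto the orthogonal complement -/
noncomputable def proj (z : ι → A) : ι → A :=
  z - ∑ k, (F.di k * sf lam h (F.x k) z) • F.x k

theorem proj_isOrth (z : ι → A) : F.IsOrth (F.proj z) := by
  intro l
  unfold proj
  rw [sf_sub_right, sf_sum_right]
  simp only [sf_smul_right, F.orth, mul_ite, mul_zero]
  rw [Finset.sum_ite_eq Finset.univ l]
  simp only [Finset.mem_univ, if_true]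
  linear_combination (-(sf lam h (F.x l) z)) * F.hd l

theorem proj_eq_self {v : ι → A} (hv : F.IsOrth v) : F.proj v = v := by
  unfold proj
  rw [Finset.sum_eq_zero, sub_zero]
  intro k _
  rw [hv k, mul_zero, zero_smul]

theorem isOrth_add {v w : ι → A} (hv : F.IsOrth v) (hw : F.IsOrth w) : F.IsOrth (v + w) := by
  intro k; rw [sf_add_right, hv k, hw k, add_zero]

theorem isOrth_smul (a : A) {v : ι → A} (hv : F.IsOrth v) : F.IsOrth (a • v) := by
  intro k; rw [sf_smul_right, hv k, mul_zero]

section herm

variable (hlam : Function.Involutive lam) (ε : A) (hε : ε = 1 ∨ ε = -1)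
  (herm : ε • (h.map lam).transpose = h)
include hlam hε herm

theorem sf_left_of_isOrth {v : ι → A} (hv : F.IsOrth v) (k : Fin r) : sf lam h v (F.x k) = 0 := by
  rw [sf_herm h hlam ε hε herm, hv k, map_zero, mul_zero]

theorem sf_proj_left (z w : ι → A) :
    sf lam h (F.proj z) w = sf lam h z w -
      ∑ k, lam (F.di k * sf lam h (F.x k) z) * sf lam h (F.x k) w := by
  unfold proj
  rw [sf_sub_left, sf_sum_left]
  simp only [sf_smul_left]

theorem sf_proj_proj (z w : ι → A) :
    sf lam h (F.proj z) (F.proj w) = sf lam h z w -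
      ∑ k, lam (F.di k * sf lam h (F.x k) z) * sf lam h (F.x k) w := by
  rw [← sf_proj_left F hlam ε hε herm]
  conv_lhs => rw [show F.proj w = w - ∑ k, (F.di k * sf lam h (F.x k) w) • F.x k from rfl]
  rw [sf_sub_right, sf_sum_right, Finset.sum_eq_zero, sub_zero]
  intro k _
  rw [sf_smul_right, sf_left_of_isOrth F hlam ε hε herm (F.proj_isOrth z), mul_zero]

/-- adding a new orthogonal vector of unit norm -/
noncomputable def cons (v : ι → A) (hv : F.IsOrth v) (d' di' : A) (hvv : sf lam h v v = d')
    (hd' : d' * di' = 1) : OFam lam h (r + 1) where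
  x := Fin.cons v F.x
  d := Fin.cons d' F.d
  di := Fin.cons di' F.di
  hd := by
    intro k
    refine Fin.cases ?_ (fun k => ?_) k
    · simpa using hd'
    · simpa using F.hd k
  orth := by
    intro k l
    refine Fin.cases ?_ (fun k => ?_) k <;> refine Fin.cases ?_ (fun l => ?_) l
    · simpa using hvv
    · simp only [Fin.cons_succ, Fin.cons_zero]
      rw [sf_left_of_isOrth F hlam ε hε herm hv, if_neg (Fin.succ_ne_zero l).symm]
    · simp only [Fin.cons_succ, Fin.cons_zero]
      rw [hv k, if_neg (Fin.succ_ne_zero k)]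
    · simp only [Fin.cons_succ, F.orth, Fin.succ_inj]

end herm

/-- the empty family -/
def empty (lam : A ≃+* A) (h : Matrix ι ι A) : OFam lam h 0 where
  x := fun k => k.elim0
  d := fun k => k.elim0
  di := fun k => k.elim0
  hd := fun k => k.elim0
  orth := fun k => k.elim0

end OFam

end Groth.Agent.Lib.Helper26.HDiag
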