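import Mathlib
import Groth.Agent.Lib.Helper26.HDiag2

/-! Rank argument, final matrix, and existence of anisotropic combinations. -/

namespace Groth.Agent.Lib.Helper26.HDiag

open Matrix Groth.Agent.Lib.Helper26.QSplit

universe v

variable {ι : Type*} [Fintype ι] [DecidableEq ι]
variable {A : Type v} [CommRing A] {lam : A ≃+* A} {h : Matrix ι ι A}

section herm

variable (hlam : Function.Involutive lam) (ε : A) (hε : ε = 1 ∨ ε = -1)
  (herm : ε • (h.map lam).transpose = h)
include hlam hε herm

theorem OFam.exists_entry_notMem {r : ℕ} (F : OFam lam h r) (M : Ideal A) [hM : M.IsMaximal]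
    (hh : IsUnit h) (hr : r < Fintype.card ι) :
    ∃ i j, sf lam h (F.proj (Pi.single i 1)) (F.proj (Pi.single j 1)) ∉ M := by
  by_contra hcon
  push Not at hcon
  let _ : Field (A ⧸ M) := Ideal.Quotient.field M
  let φ : A →+* A ⧸ M := Ideal.Quotient.mk M
  let X : Matrix ι (Fin r) (A ⧸ M) := Matrix.of fun i k =>
    φ (lam (F.di k * sf lam h (F.x k) (Pi.single i 1)))
  let Y : Matrix (Fin r) ι (A ⧸ M) := Matrix.of fun k j => φ (sf lam h (F.x k) (Pi.single j 1))
  have hXY : h.map φ = X * Y := by
    ext i j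
    have h1 := hcon i j
    rw [F.sf_proj_proj hlam ε hε herm, sf_single, map_one, one_mul, mul_one] at h1
    have h2 : φ (h i j - ∑ k, lam (F.di k * sf lam h (F.x k) (Pi.single i 1)) *
        sf lam h (F.x k) (Pi.single j 1)) = 0 := Ideal.Quotient.eq_zero_iff_mem.mpr h1
    rw [map_sub, sub_eq_zero, map_sum] at h2
    rw [Matrix.map_apply, h2, Matrix.mul_apply]
    apply Finset.sum_congr rfl
    intro k _
    simp [X, Y]
  have hunit : IsUnit (h.map φ) := hh.map (RingHom.mapMatrix φ)
  have h1 := Matrix.rank_of_isUnit _ hunit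
  rw [hXY] at h1
  have h2 : (X * Y).rank ≤ Fintype.card (Fin r) :=
    (Matrix.rank_mul_le_left X Y).trans (Matrix.rank_le_card_width X)
  simp only [Fintype.card_fin] at h2
  omega

/-- the value `sf v v` is `ε`-hermitian, hence outside `M` iff its conjugate is -/
theorem lam_sf_self_notMem (M : Ideal A) (v : ι → A) (hv : sf lam h v v ∉ M) :
    lam (sf lam h v v) ∉ M := by
  intro hmem
  apply hv
  rw [sf_herm h hlam ε hε herm v v]
  exact M.mul_mem_left _ hmem

end herm

/-- the final matrix of a full orthogonal family -/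
theorem OFam.final {n : ℕ} {h : Matrix (Fin n) (Fin n) A} (F : OFam lam h n) :
    ∃ v : Matrix (Fin n) (Fin n) A, IsUnit v ∧
      ∃ d : Fin n → A, (v.map lam).transpose * h * v = Matrix.diagonal d := by
  let v : Matrix (Fin n) (Fin n) A := Matrix.of fun i k => F.x k i
  have hv : (v.map lam).transpose * h * v = Matrix.diagonal F.d := by
    ext k l
    rw [Matrix.diagonal_apply, ← F.orth k l, sf_apply, Matrix.mul_apply]
    simp only [Matrix.mul_apply, Matrix.transpose_apply, Matrix.map_apply, Finset.sum_mul, v,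
      Matrix.of_apply]
    rw [Finset.sum_comm]
  refine ⟨v, ?_, F.d, hv⟩
  have hdu : IsUnit (Matrix.diagonal F.d).det := by
    rw [Matrix.det_diagonal]
    have : ∀ k ∈ Finset.univ, IsUnit (F.d k) := fun k _ => IsUnit.of_mul_eq_one _ (F.hd k)
    exact (IsUnit.prod_univ_iff.mpr fun k => this k (Finset.mem_univ k))
  rw [← hv, Matrix.det_mul, Matrix.det_mul] at hdu
  rw [Matrix.isUnit_iff_isUnit_det]
  exact (IsUnit.mul_iff.mp hdu).2

theorem sf_comb (p q : ι → A) (a b : A) :
    sf lam h (b • p + a • q) (b • p + a • q) =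
      lam b * b * sf lam h p p + lam b * a * sf lam h p q + lam a * b * sf lam h q p +
        lam a * a * sf lam h q q := by
  simp only [sf_add_left, sf_add_right, sf_smul_left, sf_smul_right]
  ring

/-- two maximal ideals: a non-zero entry gives an anisotropic combination -/
theorem exists_comb_two (M : Ideal A) [hM : M.IsMaximal]
    (hne : M.comap (lam : A →+* A) ≠ M) (p q : ι → A) (hpq : sf lam h p q ∉ M) :
    ∃ a b : A, sf lam h (b • p + a • q) (b • p + a • q) ∉ M := by
  have hmax : (M.comap (lam : A →+* A)).IsMaximal :=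
    Ideal.comap_isMaximal_of_surjective _ lam.surjective
  have hsup : M ⊔ M.comap (lam : A →+* A) = ⊤ := Ideal.IsMaximal.coprime_of_ne hM hmax hne.symm
  have h1 : (1 : A) ∈ M ⊔ M.comap (lam : A →+* A) := by rw [hsup]; trivial
  obtain ⟨m, hm, a, ha, hma⟩ := Submodule.mem_sup.mp h1
  have ha' : lam a ∈ M := ha
  -- b = m = 1 - a
  refine ⟨a, m, ?_⟩
  rw [sf_comb]
  intro hmem
  apply hpq
  have e : sf lam h p q = (lam m * m * sf lam h p p + lam m * a * sf lam h p q +
      lam a * m * sf lam h q p + lam a * a * sf lam h q q) -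
      m * (lam m * sf lam h p p) - lam a * (m * sf lam h q p + a * sf lam h q q) +
      (1 - lam m * a) * sf lam h p q := by ring
  rw [e]
  refine M.add_mem (M.sub_mem (M.sub_mem hmem (M.mul_mem_right _ hm)) (M.mul_mem_right _ ha')) ?_
  apply M.mul_mem_right
  have hm' : lam m = 1 - lam a := by
    rw [← map_one lam, ← hma, map_add]; ring
  have e2 : 1 - lam m * a = lam a * a + m := by
    rw [hm']
    linear_combination (-1 : A) * hma
  rw [e2]
  exact M.add_mem (M.mul_mem_right _ ha') hm

/-- one maximal ideal stable under `lam`, with an element of unit `ε`-trace -/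
theorem exists_comb_one (hlam : Function.Involutive lam) (ε : A) (hε : ε = 1 ∨ ε = -1)
    (herm : ε • (h.map lam).transpose = h) (M : Ideal A) [hM : M.IsMaximal]
    (hMl : ∀ a, a ∈ M → lam a ∈ M) (t : A) (ht : t + ε * lam t ∉ M)
    (p q : ι → A) (hpq : sf lam h p q ∉ M) :
    ∃ a b : A, sf lam h (b • p + a • q) (b • p + a • q) ∉ M := by
  by_cases hp : sf lam h p p ∉ M
  · refine ⟨0, 1, ?_⟩
    simpa using hp
  by_cases hq : sf lam h q q ∉ M
  · refine ⟨1, 0, ?_⟩
    simpa using hq
  push Not at hp hq
  obtain ⟨u', i, hi, hu'⟩ := hM.exists_inv hpq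
  set u := sf lam h p q with hu
  have hqp : sf lam h q p = ε * lam u := sf_herm h hlam ε hε herm p q
  refine ⟨t * u', 1, ?_⟩
  rw [sf_comb, hqp]
  intro hmem
  apply ht
  have hu1 : u' * u = 1 - i := by rw [← hu']; ring
  have e : t + ε * lam t = (lam 1 * 1 * sf lam h p p + lam 1 * (t * u') * u +
      lam (t * u') * 1 * (ε * lam u) + lam (t * u') * (t * u') * sf lam h q q) -
      sf lam h p p - lam (t * u') * (t * u') * sf lam h q q + t * i + ε * lam t * lam i := by
    have e1 : lam (t * u') * lam u = lam t * (1 - lam i) := by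
      rw [← map_mul, mul_assoc, hu1, map_mul, map_sub, map_one]
    simp only [map_one, one_mul, mul_one]
    have e2 : t * u' * u = t * (1 - i) := by rw [mul_assoc, hu1]
    linear_combination (-1 : A) * e2 - ε * e1
  rw [e]
  refine M.add_mem (M.add_mem (M.sub_mem (M.sub_mem hmem hp) (M.mul_mem_left _ hq))
    (M.mul_mem_left _ hi)) (M.mul_mem_left _ (hMl i hi))

end Groth.Agent.Lib.Helper26.HDiag
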