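import Mathlib
import Groth.Agent.Lib.Helper26.HDiag1
import Groth.Agent.Lib.Helper26.HDiag3

/-! Alternating matrices of odd size are singular; the local step; the main theorem. -/

namespace Groth.Agent.Lib.Helper26.HDiag

open Matrix Groth.Agent.Lib.Helper26.QSplit

universe u v

section alt

/-- the generic alternating matrix -/
noncomputable def genAlt (n : ℕ) : Matrix (Fin n) (Fin n) (MvPolynomial (Fin n × Fin n) ℤ) :=
  Matrix.of fun i j => if i < j then MvPolynomial.X (i, j) else
    if j < i then -MvPolynomial.X (j, i) else 0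

theorem genAlt_transpose (n : ℕ) : (genAlt n).transpose = -genAlt n := by
  ext i j
  simp only [genAlt, Matrix.transpose_apply, Matrix.of_apply, Matrix.neg_apply]
  rcases lt_trichotomy i j with hij | hij | hij
  · rw [if_neg (not_lt.mpr hij.le), if_pos hij, if_pos hij]
  · subst hij; simp
  · rw [if_pos hij, if_neg (not_lt.mpr hij.le), if_pos hij, neg_neg]

theorem genAlt_det {n : ℕ} (hn : Odd n) : (genAlt n).det = 0 := by
  have h1 : (genAlt n).det = -(genAlt n).det := by
    conv_lhs => rw [← Matrix.det_transpose, genAlt_transpose, Matrix.det_neg, Fintype.card_fin,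
      hn.neg_one_pow]
    ring
  have h2 : (2 : MvPolynomial (Fin n × Fin n) ℤ) * (genAlt n).det = 0 := by
    linear_combination h1
  rcases mul_eq_zero.mp h2 with h | h
  · exact absurd h two_ne_zero
  · exact h

theorem det_eq_zero_of_alt_odd {R : Type*} [CommRing R] {n : ℕ} (hn : Odd n)
    (N : Matrix (Fin n) (Fin n) R) (hN : ∀ i j, N j i = -N i j) (hd : ∀ i, N i i = 0) :
    N.det = 0 := by
  let ev : MvPolynomial (Fin n × Fin n) ℤ →+* R :=
    MvPolynomial.eval₂Hom (Int.castRingHom R) (fun p => N p.1 p.2)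
  have h1 : (genAlt n).map ev = N := by
    ext i j
    simp only [genAlt, Matrix.map_apply, Matrix.of_apply]
    rcases lt_trichotomy i j with hij | hij | hij
    · rw [if_pos hij]; simp [ev]
    · subst hij; simp [hd]
    · rw [if_neg (not_lt.mpr hij.le), if_pos hij]
      simp [ev, hN j i]
  rw [← h1, show (genAlt n).map ev = ev.mapMatrix (genAlt n) from rfl, ← RingHom.map_det,
    genAlt_det hn, map_zero]

end alt

variable {ι : Type*} [Fintype ι] [DecidableEq ι]
variable {A : Type v} [CommRing A] {lam : A ≃+* A} {h : Matrix ι ι A}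

section herm

variable (hlam : Function.Involutive lam) (ε : A) (hε : ε = 1 ∨ ε = -1)
  (herm : ε • (h.map lam).transpose = h)
include hlam hε herm

theorem OFam.cons_isOrth_iff {r : ℕ} (F : OFam lam h r) (v : ι → A) (hv : F.IsOrth v) (d' di' : A)
    (hvv : sf lam h v v = d') (hd' : d' * di' = 1) (w : ι → A) :
    (F.cons hlam ε hε herm v hv d' di' hvv hd').IsOrth w ↔ sf lam h v w = 0 ∧ F.IsOrth w := by
  constructor
  · intro hw
    refine ⟨?_, fun k => ?_⟩
    · have := hw 0
      simpa [OFam.cons] using this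
    · have := hw k.succ
      simpa [OFam.cons] using this
  · rintro ⟨h0, hw⟩ k
    refine Fin.cases ?_ (fun k => ?_) k
    · simpa [OFam.cons] using h0
    · simpa [OFam.cons] using hw k

theorem step_local (M : Ideal A) [hM : M.IsMaximal] (hMl : ∀ a, a ∈ M ↔ lam a ∈ M)
    (hunit : ∀ a, a ∉ M → IsUnit a) (hh : IsUnit h) {r : ℕ} (F : OFam lam h r)
    (v₀ : ι → A) (hv₀ : F.IsOrth v₀) (hn : sf lam h v₀ v₀ ∉ M) (hr : r + 1 < Fintype.card ι) :
    ∃ F' : OFam lam h (r + 1), ∃ v₁, F'.IsOrth v₁ ∧ sf lam h v₁ v₁ ∉ M := by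
  have hprime : M.IsPrime := hM.isPrime
  obtain ⟨di, hdi⟩ := (hunit _ hn).exists_right_inv
  set d := sf lam h v₀ v₀ with hd
  let F₁ := F.cons hlam ε hε herm v₀ hv₀ d di rfl hdi
  by_cases hex : ∃ w, F₁.IsOrth w ∧ sf lam h w w ∉ M
  · exact ⟨F₁, hex⟩
  push Not at hex
  obtain ⟨i, j, hij⟩ := F₁.exists_entry_notMem hlam ε hε herm M hh hr
  set y := F₁.proj (Pi.single i 1) with hy
  set u' := F₁.proj (Pi.single j 1) with hu'
  have hy₁ : F₁.IsOrth y := F₁.proj_isOrth _
  have hu₁ : F₁.IsOrth u' := F₁.proj_isOrth _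
  obtain ⟨hxy, hyF⟩ := (F.cons_isOrth_iff hlam ε hε herm v₀ hv₀ d di rfl hdi y).mp hy₁
  obtain ⟨hxu, huF⟩ := (F.cons_isOrth_iff hlam ε hε herm v₀ hv₀ d di rfl hdi u').mp hu₁
  have hyy : sf lam h y y ∈ M := hex y hy₁
  have huu : sf lam h u' u' ∈ M := hex u' hu₁
  have hyx : sf lam h y v₀ = 0 := by
    rw [sf_herm h hlam ε hε herm, hxy, map_zero, mul_zero]
  have hux : sf lam h u' v₀ = 0 := by
    rw [sf_herm h hlam ε hε herm, hxu, map_zero, mul_zero]
  -- the new vector
  have hx'F : F.IsOrth (v₀ + y) := F.isOrth_add hv₀ hyF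
  have hx'n : sf lam h (v₀ + y) (v₀ + y) = d + sf lam h y y := by
    simp only [sf_add_left, sf_add_right, hxy, hyx, ← hd]; ring
  have hx'nm : sf lam h (v₀ + y) (v₀ + y) ∉ M := by
    rw [hx'n]
    intro hmem
    apply hn
    have := M.sub_mem hmem hyy
    simpa using this
  obtain ⟨di', hdi'⟩ := (hunit _ hx'nm).exists_right_inv
  let F₂ := F.cons hlam ε hε herm (v₀ + y) hx'F _ di' rfl hdi'
  set α := -(sf lam h y u') * di with hα
  refine ⟨F₂, α • v₀ + u', ?_, ?_⟩
  · rw [F.cons_isOrth_iff hlam ε hε herm]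
    refine ⟨?_, F.isOrth_add (F.isOrth_smul α hv₀) huF⟩
    simp only [sf_add_left, sf_add_right, sf_smul_right, hxu, hyx, ← hd]
    rw [hα]
    linear_combination (-(sf lam h y u')) * hdi
  · have e : sf lam h (α • v₀ + u') (α • v₀ + u') = lam α * α * d + sf lam h u' u' := by
      simp only [sf_add_left, sf_add_right, sf_smul_left, sf_smul_right, hxu, hux, ← hd]; ring
    rw [e]
    intro hmem
    have h1 : lam α * α * d ∈ M := by
      have := M.sub_mem hmem huu
      simpa using this
    have hdiM : di ∉ M := by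
      intro hdim
      have : d * di ∈ M := M.mul_mem_left _ hdim
      rw [hdi] at this
      exact hM.ne_top ((Ideal.eq_top_iff_one _).mpr this)
    have hαM : α ∉ M := by
      rw [hα]
      intro hmem'
      rcases hprime.mem_or_mem hmem' with h2 | h2
      · exact hij (by simpa using M.neg_mem h2)
      · exact hdiM h2
    rcases hprime.mem_or_mem h1 with h2 | h2
    · rcases hprime.mem_or_mem h2 with h3 | h3
      · exact hαM ((hMl α).mpr h3)
      · exact hαM h3
    · exact hn h2

end herm

theorem main {B : Type u} {A : Type v} [CommRing B] [CommRing A] [Algebra B A] (lam : A ≃+* A)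
    (hlam : Function.Involutive lam) (hB : RInv.IsFixedRing B A lam) [IsLocalRing B] (n : ℕ)
    (ε : A) (hε : ε = 1 ∨ ε = -1) (h : Matrix (Fin n) (Fin n) A) (hh : IsUnit h)
    (herm : ε • (h.map lam).transpose = h)
    (hcase : (∃ a : A, lam a - a ∉ Ring.jacobson A) ∨ ε + 1 ∉ Ring.jacobson A ∨ Odd n) :
    ∃ v : Matrix (Fin n) (Fin n) A, IsUnit v ∧
      ∃ d : Fin n → A, (v.map lam).transpose * h * v = Matrix.diagonal d := by
  suffices hF : Nonempty (OFam lam h n) by
    obtain ⟨F⟩ := hF
    exact F.final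
  have hnt : Nontrivial A := hB.1.nontrivial
  obtain ⟨M, hM⟩ := Ideal.exists_maximal A
  have hprime : M.IsPrime := hM.isPrime
  have hunitM : ∀ a : A, IsUnit a ↔ a ∉ M ∧ lam a ∉ M := isUnit_iff lam hlam hB M
  have hjac : ∀ a : A, a ∈ Ring.jacobson A ↔ a ∈ M ∧ lam a ∈ M := mem_jacobson_iff lam hlam hB M
  -- units from hermitian norms
  have hnormunit : ∀ v : Fin n → A, sf lam h v v ∉ M → IsUnit (sf lam h v v) := by
    intro v hv
    rw [hunitM]
    exact ⟨hv, lam_sf_self_notMem hlam ε hε herm M v hv⟩
  by_cases hMM : M.comap (lam : A →+* A) = M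
  · -- local case
    have hMl : ∀ a, a ∈ M ↔ lam a ∈ M := by
      intro a
      constructor
      · intro ha; rw [← hMM] at ha; exact ha
      · intro ha
        have : a ∈ M.comap (lam : A →+* A) := ha
        rwa [hMM] at this
    have hunit : ∀ a, a ∉ M → IsUnit a := by
      intro a ha
      rw [hunitM]
      exact ⟨ha, fun h' => ha ((hMl a).mpr h')⟩
    have hjac' : ∀ a : A, a ∈ Ring.jacobson A ↔ a ∈ M := by
      intro a
      rw [hjac]
      exact ⟨fun h' => h'.1, fun h' => ⟨h', (hMl a).mp h'⟩⟩
    rcases Nat.eq_zero_or_pos n with hn0 | hnpos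
    · subst hn0; exact ⟨OFam.empty lam h⟩
    -- initial witness
    have hinit : ∃ v₀ : Fin n → A, sf lam h v₀ v₀ ∉ M := by
      by_cases hT : ∃ t : A, t + ε * lam t ∉ M
      · obtain ⟨t, ht⟩ := hT
        obtain ⟨i, j, hij⟩ := (OFam.empty lam h).exists_entry_notMem hlam ε hε herm M hh
          (by simpa using hnpos)
        obtain ⟨a, b, hab⟩ := exists_comb_one hlam ε hε herm M (fun a ha => (hMl a).mp ha) t ht
          _ _ hij
        exact ⟨_, hab⟩
      · push Not at hT
        -- then ε + 1 ∈ M and lam a - a ∈ M for all a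
        have h1 : ε + 1 ∈ M := by
          have := hT 1
          simpa [add_comm] using this
        have h2 : ∀ a, lam a - a ∈ M := by
          intro a
          have h3 := hT a
          have e : lam a - a = (ε + 1) * lam a - (a + ε * lam a) := by ring
          rw [e]
          exact M.sub_mem (M.mul_mem_right _ h1) h3
        have hodd : Odd n := by
          rcases hcase with ⟨a, ha⟩ | hb | hodd
          · exact absurd ((hjac' _).mpr (h2 a)) ha
          · exact absurd ((hjac' _).mpr h1) hb
          · exact hodd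
        by_contra hcon
        push Not at hcon
        have hdiag : ∀ i, h i i ∈ M := by
          intro i
          have := hcon (Pi.single i 1)
          rwa [sf_single, map_one, one_mul, mul_one] at this
        let _ : Field (A ⧸ M) := Ideal.Quotient.field M
        let φ : A →+* A ⧸ M := Ideal.Quotient.mk M
        have hskew : ∀ i j, (h.map φ) j i = -(h.map φ) i j := by
          intro i j
          have h3 : h j i = ε * lam (h i j) := by
            have := congrFun (congrFun herm j) i
            simp only [Matrix.smul_apply, Matrix.transpose_apply, Matrix.map_apply,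
              smul_eq_mul] at this
            exact this.symm
          simp only [Matrix.map_apply]
          rw [h3, ← sub_eq_zero, sub_neg_eq_add, ← map_add]
          apply Ideal.Quotient.eq_zero_iff_mem.mpr
          have e : ε * lam (h i j) + h i j = (ε + 1) * lam (h i j) - (lam (h i j) - h i j) := by
            ring
          rw [e]
          exact M.sub_mem (M.mul_mem_right _ h1) (h2 _)
        have hd0 : ∀ i, (h.map φ) i i = 0 := fun i =>
          Ideal.Quotient.eq_zero_iff_mem.mpr (hdiag i)
        have hdet := det_eq_zero_of_alt_odd hodd (h.map φ) hskew hd0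
        have hunit' : IsUnit (h.map φ) := hh.map (RingHom.mapMatrix φ)
        rw [Matrix.isUnit_iff_isUnit_det, hdet] at hunit'
        exact not_isUnit_zero hunit'
    -- induction
    have hQ : ∀ r, r + 1 ≤ n → ∃ F : OFam lam h r, ∃ v₀, F.IsOrth v₀ ∧ sf lam h v₀ v₀ ∉ M := by
      intro r
      induction r with
      | zero =>
        intro _
        obtain ⟨v₀, hv₀⟩ := hinit
        exact ⟨OFam.empty lam h, v₀, fun k => k.elim0, hv₀⟩
      | succ r ih =>
        intro hr
        obtain ⟨F, v₀, hv₀, hnv⟩ := ih (by omega)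
        exact step_local hlam ε hε herm M hMl hunit hh F v₀ hv₀ hnv (by simpa using hr)
    obtain ⟨m, rfl⟩ : ∃ m, n = m + 1 := ⟨n - 1, by omega⟩
    obtain ⟨F, v₀, hv₀, hnv⟩ := hQ m le_rfl
    obtain ⟨di, hdi⟩ := (hunit _ hnv).exists_right_inv
    exact ⟨F.cons hlam ε hε herm v₀ hv₀ _ di rfl hdi⟩
  · -- two maximal ideals
    have hP : ∀ r, r ≤ n → Nonempty (OFam lam h r) := by
      intro r
      induction r with
      | zero => intro _; exact ⟨OFam.empty lam h⟩
      | succ r ih =>
        intro hr
        obtain ⟨F⟩ := ih (by omega)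
        obtain ⟨i, j, hij⟩ := F.exists_entry_notMem hlam ε hε herm M hh (by simpa using hr)
        obtain ⟨a, b, hab⟩ := exists_comb_two M hMM _ _ hij
        obtain ⟨di, hdi⟩ := (hnormunit _ hab).exists_right_inv
        exact ⟨F.cons hlam ε hε herm _
          (F.isOrth_add (F.isOrth_smul b (F.proj_isOrth _)) (F.isOrth_smul a (F.proj_isOrth _)))
          _ di rfl hdi⟩
    exact hP n le_rfl

end Groth.Agent.Lib.Helper26.HDiag
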