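import Mathlib
import Groth.Agent.Lib.Helper26.HDiag3

/-! Families of mutually orthogonal "symplectic" pairs for a skew-hermitian form. -/

namespace Groth.Agent.Lib.Helper26.HDiag

open Matrix Groth.Agent.Lib.Helper26.QSplit

universe v

variable {ι : Type*} [Fintype ι] [DecidableEq ι]
variable {A : Type v} [CommRing A] (lam : A ≃+* A) (h : Matrix ι ι A)

/-- a family of `r` mutually orthogonal pairs `(x k, y k)` with `⟨x k, y k⟩ = 1` -/
structure PFam (r : ℕ) where
  x : Fin r → ι → A
  y : Fin r → ι → A
  Di : Fin r → A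
  xy : ∀ k l, sf lam h (x k) (y l) = if k = l then 1 else 0
  xx : ∀ k l, k ≠ l → sf lam h (x k) (x l) = 0
  yy : ∀ k l, k ≠ l → sf lam h (y k) (y l) = 0
  hD : ∀ k, (sf lam h (x k) (x k) * sf lam h (y k) (y k) + 1) * Di k = 1

namespace PFam

variable {lam h} {r : ℕ} (F : PFam lam h r)

/-- `a k = ⟨x k, x k⟩` -/
noncomputable def a (k : Fin r) : A := sf lam h (F.x k) (F.x k)
/-- `b k = ⟨y k, y k⟩` -/
noncomputable def b (k : Fin r) : A := sf lam h (F.y k) (F.y k)

/-- coefficient of `x k` in the hyperbolic part of `z` -/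
noncomputable def al (k : Fin r) (z : ι → A) : A :=
  F.Di k * (F.b k * sf lam h (F.x k) z - sf lam h (F.y k) z)
/-- coefficient of `y k` in the hyperbolic part of `z` -/
noncomputable def be (k : Fin r) (z : ι → A) : A :=
  F.Di k * (F.a k * sf lam h (F.y k) z + sf lam h (F.x k) z)

/-- projection onto the orthogonal complement -/
noncomputable def proj (z : ι → A) : ι → A :=
  z - ∑ k, (F.al k z • F.x k + F.be k z • F.y k)

/-- orthogonality to the family -/
def IsOrth (v : ι → A) : Prop := ∀ k, sf lam h (F.x k) v = 0 ∧ sf lam h (F.y k) v = 0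

theorem isOrth_smul (c : A) {v : ι → A} (hv : F.IsOrth v) : F.IsOrth (c • v) := by
  intro k; rw [sf_smul_right, sf_smul_right, (hv k).1, (hv k).2, mul_zero]; exact ⟨rfl, rfl⟩

/-- the matrix of the family, columns `x k` then `y k` -/
def mat : Matrix ι (Fin r ⊕ Fin r) A :=
  Matrix.of fun i s => Sum.elim (fun k => F.x k i) (fun k => F.y k i) s

section herm

variable (hlam : Function.Involutive lam) (herm : (-1 : A) • (h.map lam).transpose = h)
include hlam herm

theorem yx (k l : Fin r) : sf lam h (F.y k) (F.x l) = if k = l then -1 else 0 := by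
  rw [sf_herm h hlam (-1) (Or.inr rfl) herm, F.xy]
  by_cases hkl : k = l
  · subst hkl; simp
  · rw [if_neg hkl, if_neg (Ne.symm hkl)]; simp

theorem proj_isOrth (z : ι → A) : F.IsOrth (F.proj z) := by
  intro l
  have hD := F.hD l
  constructor
  · unfold proj
    rw [sf_sub_right, sf_sum_right, Finset.sum_eq_single l]
    · simp only [sf_add_right, sf_smul_right, F.xy, if_true, al, be, a, b] at hD ⊢
      linear_combination (-(sf lam h (F.x l) z)) * hD
    · intro k _ hk
      simp only [sf_add_right, sf_smul_right, F.xx l k (Ne.symm hk), F.xy, if_neg (Ne.symm hk),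
        mul_zero, add_zero]
    · intro hl; exact absurd (Finset.mem_univ _) hl
  · unfold proj
    rw [sf_sub_right, sf_sum_right, Finset.sum_eq_single l]
    · simp only [sf_add_right, sf_smul_right, F.yx hlam herm, if_true, al, be, a, b] at hD ⊢
      linear_combination (-(sf lam h (F.y l) z)) * hD
    · intro k _ hk
      simp only [sf_add_right, sf_smul_right, F.yy l k (Ne.symm hk), F.yx hlam herm,
        if_neg (Ne.symm hk), mul_zero, add_zero]
    · intro hl; exact absurd (Finset.mem_univ _) hl

theorem sf_left_of_isOrth {v : ι → A} (hv : F.IsOrth v) (k : Fin r) :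
    sf lam h v (F.x k) = 0 ∧ sf lam h v (F.y k) = 0 := by
  constructor
  · rw [sf_herm h hlam (-1) (Or.inr rfl) herm, (hv k).1, map_zero, mul_zero]
  · rw [sf_herm h hlam (-1) (Or.inr rfl) herm, (hv k).2, map_zero, mul_zero]

theorem sf_proj_proj (z w : ι → A) :
    sf lam h (F.proj z) (F.proj w) = sf lam h z w -
      ∑ k, (lam (F.al k z) * sf lam h (F.x k) w + lam (F.be k z) * sf lam h (F.y k) w) := by
  have h1 : sf lam h (F.proj z) w = sf lam h z w -
      ∑ k, (lam (F.al k z) * sf lam h (F.x k) w + lam (F.be k z) * sf lam h (F.y k) w) := by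
    unfold proj
    rw [sf_sub_left, sf_sum_left]
    simp only [sf_add_left, sf_smul_left]
  rw [← h1]
  conv_lhs => rw [show F.proj w = w - ∑ k, (F.al k w • F.x k + F.be k w • F.y k) from rfl]
  rw [sf_sub_right, sf_sum_right, Finset.sum_eq_zero, sub_zero]
  intro k _
  have := F.sf_left_of_isOrth hlam herm (F.proj_isOrth hlam herm z) k
  rw [sf_add_right, sf_smul_right, sf_smul_right, this.1, this.2]
  simp

theorem exists_entry_notMem (M : Ideal A) [hM : M.IsMaximal] (hh : IsUnit h)
    (hr : 2 * r < Fintype.card ι) :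
    ∃ i j, sf lam h (F.proj (Pi.single i 1)) (F.proj (Pi.single j 1)) ∉ M := by
  by_contra hcon
  push Not at hcon
  let _ : Field (A ⧸ M) := Ideal.Quotient.field M
  let φ : A →+* A ⧸ M := Ideal.Quotient.mk M
  let X : Matrix ι (Fin r ⊕ Fin r) (A ⧸ M) := Matrix.of fun i =>
    Sum.elim (fun k => φ (lam (F.al k (Pi.single i 1)))) (fun k => φ (lam (F.be k (Pi.single i 1))))
  let Y : Matrix (Fin r ⊕ Fin r) ι (A ⧸ M) := Matrix.of fun t j =>
    Sum.elim (fun k => φ (sf lam h (F.x k) (Pi.single j 1)))
      (fun k => φ (sf lam h (F.y k) (Pi.single j 1))) t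
  have hXY : h.map φ = X * Y := by
    ext i j
    have h1 := hcon i j
    rw [F.sf_proj_proj hlam herm, sf_single, map_one, one_mul, mul_one] at h1
    have h2 := Ideal.Quotient.eq_zero_iff_mem.mpr h1
    rw [map_sub, sub_eq_zero, map_sum] at h2
    rw [Matrix.map_apply, h2, Matrix.mul_apply, Fintype.sum_sum_type, ← Finset.sum_add_distrib]
    apply Finset.sum_congr rfl
    intro k _
    simp [X, Y, φ]
  have hunit : IsUnit (h.map φ) := hh.map (RingHom.mapMatrix φ)
  have h1 := Matrix.rank_of_isUnit _ hunit
  rw [hXY] at h1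
  have h2 : (X * Y).rank ≤ Fintype.card (Fin r ⊕ Fin r) :=
    (Matrix.rank_mul_le_left X Y).trans (Matrix.rank_le_card_width X)
  simp only [Fintype.card_sum, Fintype.card_fin] at h2
  omega

theorem gram : (F.mat.map lam).transpose * h * F.mat =
    Matrix.fromBlocks (Matrix.diagonal F.a) 1 (-1) (Matrix.diagonal F.b) := by
  ext s t
  have key : ∀ p q : Fin r ⊕ Fin r, ((F.mat.map lam).transpose * h * F.mat) p q =
      sf lam h (Sum.elim F.x F.y p) (Sum.elim F.x F.y q) := by
    intro p q
    rw [sf_apply, Matrix.mul_apply]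
    simp only [Matrix.mul_apply, Matrix.transpose_apply, Matrix.map_apply, Finset.sum_mul, mat,
      Matrix.of_apply]
    rw [Finset.sum_comm]
    apply Finset.sum_congr rfl; intro i _
    apply Finset.sum_congr rfl; intro j _
    cases p <;> cases q <;> simp
  rw [key]
  rcases s with k | k <;> rcases t with l | l
  · simp only [Sum.elim_inl, Matrix.fromBlocks_apply₁₁, Matrix.diagonal_apply]
    by_cases hkl : k = l
    · subst hkl; simp [a]
    · rw [if_neg hkl, F.xx k l hkl]
  · simp only [Sum.elim_inl, Sum.elim_inr, Matrix.fromBlocks_apply₁₂, F.xy, Matrix.one_apply]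
  · simp only [Sum.elim_inl, Sum.elim_inr, Matrix.fromBlocks_apply₂₁, F.yx hlam herm,
      Matrix.neg_apply, Matrix.one_apply]
    split_ifs <;> simp
  · simp only [Sum.elim_inr, Matrix.fromBlocks_apply₂₂, Matrix.diagonal_apply]
    by_cases hkl : k = l
    · subst hkl; simp [b]
    · rw [if_neg hkl, F.yy k l hkl]

omit hlam herm in
theorem isUnit_gramMat : IsUnit (Matrix.fromBlocks (Matrix.diagonal F.a) (1 : Matrix (Fin r) (Fin r) A)
    (-1) (Matrix.diagonal F.b)) := by
  have hD : ∀ k, (F.a k * F.b k + 1) * F.Di k = 1 := F.hD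
  have e1 : (1 : Matrix (Fin r) (Fin r) A) = Matrix.diagonal (fun _ => 1) :=
    Matrix.diagonal_one.symm
  have e2 : (-1 : Matrix (Fin r) (Fin r) A) = Matrix.diagonal (fun _ => -1) := by
    rw [e1, Matrix.diagonal_neg]
  have e0 : (0 : Matrix (Fin r) (Fin r) A) = Matrix.diagonal (fun _ => 0) :=
    Matrix.diagonal_zero.symm
  have hmul : Matrix.fromBlocks (Matrix.diagonal F.a) (1 : Matrix (Fin r) (Fin r) A) (-1)
      (Matrix.diagonal F.b) *
      Matrix.fromBlocks (Matrix.diagonal fun k => F.Di k * F.b k) (Matrix.diagonal fun k => -F.Di k)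
        (Matrix.diagonal F.Di) (Matrix.diagonal fun k => F.Di k * F.a k) = 1 := by
    rw [← Matrix.fromBlocks_one, e2, e1, e0, Matrix.fromBlocks_multiply]
    simp only [Matrix.diagonal_mul_diagonal, Matrix.diagonal_add]
    congr 1
    · congr 1; ext k
      linear_combination hD k
    · congr 1; ext k; ring
    · congr 1; ext k; ring
    · congr 1; ext k
      linear_combination hD k
  exact IsUnit.of_mul_eq_one _ hmul

theorem two_mul_le (F : PFam lam h r) (M : Ideal A) [hM : M.IsMaximal] :
    2 * r ≤ Fintype.card ι := by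
  let _ : Field (A ⧸ M) := Ideal.Quotient.field M
  let φ : A →+* A ⧸ M := Ideal.Quotient.mk M
  have h1 : IsUnit (((F.mat.map lam).transpose * h * F.mat).map φ) := by
    rw [F.gram hlam herm]
    exact F.isUnit_gramMat.map (RingHom.mapMatrix φ)
  have h2 := Matrix.rank_of_isUnit _ h1
  have e : ((F.mat.map lam).transpose * h * F.mat).map φ =
      ((F.mat.map lam).transpose.map φ) * ((h * F.mat).map φ) := by
    rw [Matrix.mul_assoc, Matrix.map_mul]
  rw [e] at h2
  have h3 := (Matrix.rank_mul_le_left ((F.mat.map lam).transpose.map φ) ((h * F.mat).map φ)).trans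
    (Matrix.rank_le_card_width _)
  simp only [Fintype.card_sum, Fintype.card_fin] at h2
  omega

/-- adding a new pair -/
noncomputable def cons (p q : ι → A) (hp : F.IsOrth p) (hq : F.IsOrth q)
    (hpq : sf lam h p q = 1) (Di' : A)
    (hD' : (sf lam h p p * sf lam h q q + 1) * Di' = 1) : PFam lam h (r + 1) where
  x := Fin.cons p F.x
  y := Fin.cons q F.y
  Di := Fin.cons Di' F.Di
  xy := by
    intro k l
    refine Fin.cases ?_ (fun k => ?_) k <;> refine Fin.cases ?_ (fun l => ?_) l
    · simpa using hpq
    · simp only [Fin.cons_succ, Fin.cons_zero]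
      rw [(F.sf_left_of_isOrth hlam herm hp l).2, if_neg (Fin.succ_ne_zero l).symm]
    · simp only [Fin.cons_succ, Fin.cons_zero]
      rw [(hq k).1, if_neg (Fin.succ_ne_zero k)]
    · simp only [Fin.cons_succ, F.xy, Fin.succ_inj]
  xx := by
    intro k l
    refine Fin.cases ?_ (fun k => ?_) k <;> refine Fin.cases ?_ (fun l => ?_) l
    · intro hne; exact absurd rfl hne
    · intro _; simp only [Fin.cons_succ, Fin.cons_zero]
      exact (F.sf_left_of_isOrth hlam herm hp l).1
    · intro _; simp only [Fin.cons_succ, Fin.cons_zero]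
      exact (hp k).1
    · intro hne; simp only [Fin.cons_succ]
      exact F.xx k l (fun e => hne (congrArg Fin.succ e))
  yy := by
    intro k l
    refine Fin.cases ?_ (fun k => ?_) k <;> refine Fin.cases ?_ (fun l => ?_) l
    · intro hne; exact absurd rfl hne
    · intro _; simp only [Fin.cons_succ, Fin.cons_zero]
      exact (F.sf_left_of_isOrth hlam herm hq l).2
    · intro _; simp only [Fin.cons_succ, Fin.cons_zero]
      exact (hq k).2
    · intro hne; simp only [Fin.cons_succ]
      exact F.yy k l (fun e => hne (congrArg Fin.succ e))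
  hD := by
    intro k
    refine Fin.cases ?_ (fun k => ?_) k
    · simpa using hD'
    · simpa using F.hD k

end herm

/-- the empty family -/
def empty (lam : A ≃+* A) (h : Matrix ι ι A) : PFam lam h 0 where
  x := fun k => k.elim0
  y := fun k => k.elim0
  Di := fun k => k.elim0
  xy := fun k => k.elim0
  xx := fun k => k.elim0
  yy := fun k => k.elim0
  hD := fun k => k.elim0

end PFam

end Groth.Agent.Lib.Helper26.HDiag
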