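import Mathlib
import Groth.Agent.Lib.Helper26.HDiag1
import Groth.Agent.Lib.Helper26.HDiag5

/-! Symplectic block form of skew-hermitian matrices (alternating case). -/

namespace Groth.Agent.Lib.Helper26.HDiag

open Matrix Groth.Agent.Lib.Helper26.QSplit

universe u v

/-- interleaving equivalence `2k ↦ inl k`, `2k+1 ↦ inr k` -/
def pairEquiv (m : ℕ) : Fin (2 * m) ≃ Fin m ⊕ Fin m where
  toFun i := if Even i.val then Sum.inl ⟨i.val / 2, by have := i.isLt; omega⟩
    else Sum.inr ⟨i.val / 2, by have := i.isLt; omega⟩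
  invFun s := Sum.elim (fun k => ⟨2 * k.val, by have := k.isLt; omega⟩)
    (fun k => ⟨2 * k.val + 1, by have := k.isLt; omega⟩) s
  left_inv i := by
    by_cases hi : Even i.val
    · simp only [hi, if_true, Sum.elim_inl]
      apply Fin.ext
      obtain ⟨t, ht⟩ := hi
      simp only; omega
    · simp only [hi, if_false, Sum.elim_inr]
      apply Fin.ext
      obtain ⟨t, ht⟩ := Nat.not_even_iff_odd.mp hi
      simp only; omega
  right_inv s := by
    rcases s with k | k
    · have h1 : Even (2 * k.val) := even_two_mul _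
      simp only [Sum.elim_inl, h1, if_true]
      congr 1
      apply Fin.ext
      simp
    · have h1 : ¬ Even (2 * k.val + 1) := by
        rw [Nat.not_even_iff_odd]; exact odd_two_mul_add_one _
      simp only [Sum.elim_inr, h1, if_false]
      congr 1
      apply Fin.ext
      simp only; omega

theorem pairEquiv_even {m : ℕ} (i : Fin (2 * m)) (hi : Even i.val) :
    pairEquiv m i = Sum.inl ⟨i.val / 2, by have := i.isLt; omega⟩ := by
  simp [pairEquiv, hi]

theorem pairEquiv_odd {m : ℕ} (i : Fin (2 * m)) (hi : ¬ Even i.val) :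
    pairEquiv m i = Sum.inr ⟨i.val / 2, by have := i.isLt; omega⟩ := by
  simp [pairEquiv, hi]

theorem main_skew {B : Type u} {A : Type v} [CommRing B] [CommRing A] [Algebra B A]
    (lam : A ≃+* A) (hlam : Function.Involutive lam) (hB : RInv.IsFixedRing B A lam)
    [IsLocalRing B] (n : ℕ) (hid : ∀ a : A, lam a - a ∈ Ring.jacobson A) (h2 : IsUnit (2 : A))
    (h : Matrix (Fin n) (Fin n) A) (hh : IsUnit h) (herm : -(h.map lam).transpose = h) :
    Even n ∧ ∃ v : Matrix (Fin n) (Fin n) A, IsUnit v ∧
      ∀ i j : Fin n,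
        (i.val / 2 ≠ j.val / 2 → ((v.map lam).transpose * h * v) i j = 0) ∧
        (i.val / 2 = j.val / 2 → (Even i.val ↔ Even j.val) →
          ((v.map lam).transpose * h * v) i j ∈ Ring.jacobson A) ∧
        (i.val / 2 = j.val / 2 → Even i.val → ¬ Even j.val →
          ((v.map lam).transpose * h * v) i j - 1 ∈ Ring.jacobson A) ∧
        (i.val / 2 = j.val / 2 → ¬ Even i.val → Even j.val →
          ((v.map lam).transpose * h * v) i j + 1 ∈ Ring.jacobson A) := by
  have herm' : (-1 : A) • (h.map lam).transpose = h := by rw [neg_one_smul]; exact herm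
  have hnt : Nontrivial A := hB.1.nontrivial
  obtain ⟨M, hM⟩ := Ideal.exists_maximal A
  have hprime : M.IsPrime := hM.isPrime
  have hunitM : ∀ a : A, IsUnit a ↔ a ∉ M ∧ lam a ∉ M := isUnit_iff lam hlam hB M
  have hjac : ∀ a : A, a ∈ Ring.jacobson A ↔ a ∈ M ∧ lam a ∈ M := mem_jacobson_iff lam hlam hB M
  have hMl : ∀ a, a ∈ M → lam a ∈ M := by
    intro a ha
    have := ((hjac _).mp (hid a)).1
    have e : lam a = (lam a - a) + a := by ring
    rw [e]; exact M.add_mem this ha
  have hMl' : ∀ a, lam a ∈ M → a ∈ M := by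
    intro a ha
    have := hMl _ ha
    rwa [hlam a] at this
  have hunit : ∀ a, a ∉ M → IsUnit a := by
    intro a ha
    rw [hunitM]
    exact ⟨ha, fun h' => ha (hMl' a h')⟩
  have hjac' : ∀ a : A, a ∈ M → a ∈ Ring.jacobson A := fun a ha => (hjac a).mpr ⟨ha, hMl a ha⟩
  have h2M : (2 : A) ∉ M := fun h' => hM.ne_top (Ideal.eq_top_of_isUnit_mem _ h' h2)
  have halt : ∀ v : Fin n → A, sf lam h v v ∈ M := by
    intro v
    have h1 : sf lam h v v = -1 * lam (sf lam h v v) := sf_herm h hlam (-1) (Or.inr rfl) herm' v v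
    have h3 := ((hjac _).mp (hid (sf lam h v v))).1
    have h4 : 2 * sf lam h v v ∈ M := by
      have e : 2 * sf lam h v v = -(lam (sf lam h v v) - sf lam h v v) := by
        linear_combination h1
      rw [e]; exact M.neg_mem h3
    exact (hprime.mem_or_mem h4).resolve_left h2M
  have hone : (1 : A) ∉ M := fun h' => hM.ne_top ((Ideal.eq_top_iff_one _).mpr h')
  -- induction
  have hP : ∀ r, 2 * r ≤ n + 1 → Nonempty (PFam lam h r) := by
    intro r
    induction r with
    | zero => intro _; exact ⟨PFam.empty lam h⟩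
    | succ r ih =>
      intro hr
      obtain ⟨F⟩ := ih (by omega)
      obtain ⟨i, j, hij⟩ := F.exists_entry_notMem hlam herm' M hh (by simp; omega)
      obtain ⟨ci, hci⟩ := (hunit _ hij).exists_right_inv
      set p := F.proj (Pi.single i 1) with hp
      set q := F.proj (Pi.single j 1) with hq
      have hpq : sf lam h p (ci • q) = 1 := by
        rw [sf_smul_right, mul_comm]; exact hci
      have hDn : sf lam h p p * sf lam h (ci • q) (ci • q) + 1 ∉ M := by
        intro hmem
        apply hone
        have := M.sub_mem hmem (M.mul_mem_right (sf lam h (ci • q) (ci • q)) (halt p))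
        simpa using this
      obtain ⟨Di', hDi'⟩ := (hunit _ hDn).exists_right_inv
      exact ⟨F.cons hlam herm' p (ci • q) (F.proj_isOrth hlam herm' _)
        (F.isOrth_smul ci (F.proj_isOrth hlam herm' _)) hpq Di' hDi'⟩
  have heven : Even n := by
    by_contra hodd
    obtain ⟨m, hm⟩ := Nat.not_even_iff_odd.mp hodd
    obtain ⟨F⟩ := hP (m + 1) (by omega)
    have := F.two_mul_le hlam herm' M
    simp at this
    omega
  refine ⟨heven, ?_⟩
  obtain ⟨m, hm⟩ := heven
  obtain rfl : n = 2 * m := by omega
  obtain ⟨F⟩ := hP m (by omega)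
  let e := pairEquiv m
  let v : Matrix (Fin (2 * m)) (Fin (2 * m)) A := F.mat.submatrix id e
  have hG : (v.map lam).transpose * h * v =
      (Matrix.fromBlocks (Matrix.diagonal F.a) 1 (-1) (Matrix.diagonal F.b)).submatrix e e := by
    rw [← F.gram hlam herm']
    ext i j
    simp [v, Matrix.mul_apply, Matrix.submatrix_apply]
  refine ⟨v, ?_, ?_⟩
  · have hdu : IsUnit ((v.map lam).transpose * h * v).det := by
      rw [hG, Matrix.det_submatrix_equiv_self, ← Matrix.isUnit_iff_isUnit_det]
      exact F.isUnit_gramMat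
    rw [Matrix.det_mul, Matrix.det_mul] at hdu
    rw [Matrix.isUnit_iff_isUnit_det]
    exact (IsUnit.mul_iff.mp hdu).2
  · intro i j
    rw [hG]
    simp only [Matrix.submatrix_apply]
    have hai : ∀ k, F.a k ∈ Ring.jacobson A := fun k => hjac' _ (halt _)
    have hbi : ∀ k, F.b k ∈ Ring.jacobson A := fun k => hjac' _ (halt _)
    by_cases hi : Even i.val <;> by_cases hj : Even j.val
    · rw [show e i = _ from pairEquiv_even i hi, show e j = _ from pairEquiv_even j hj]
      simp only [Matrix.fromBlocks_apply₁₁, Matrix.diagonal_apply, Fin.mk.injEq]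
      refine ⟨fun hne => by rw [if_neg hne], fun heq _ => ?_, fun _ _ hnj => absurd hj hnj,
        fun _ hni _ => absurd hi hni⟩
      rw [if_pos heq]; exact hai _
    · rw [show e i = _ from pairEquiv_even i hi, show e j = _ from pairEquiv_odd j hj]
      simp only [Matrix.fromBlocks_apply₁₂, Matrix.one_apply, Fin.mk.injEq]
      refine ⟨fun hne => by rw [if_neg hne], fun _ hiff => absurd (hiff.mp hi) hj,
        fun heq _ _ => ?_, fun _ hni _ => absurd hi hni⟩
      rw [if_pos heq, sub_self]; exact Ideal.zero_mem _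
    · rw [show e i = _ from pairEquiv_odd i hi, show e j = _ from pairEquiv_even j hj]
      simp only [Matrix.fromBlocks_apply₂₁, Matrix.neg_apply, Matrix.one_apply, Fin.mk.injEq]
      refine ⟨fun hne => by rw [if_neg hne, neg_zero], fun _ hiff => absurd (hiff.mpr hj) hi,
        fun _ hi' _ => absurd hi' hi, fun heq _ _ => ?_⟩
      rw [if_pos heq, neg_add_cancel]; exact Ideal.zero_mem _
    · rw [show e i = _ from pairEquiv_odd i hi, show e j = _ from pairEquiv_odd j hj]
      simp only [Matrix.fromBlocks_apply₂₂, Matrix.diagonal_apply, Fin.mk.injEq]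
      refine ⟨fun hne => by rw [if_neg hne], fun heq _ => ?_, fun _ hi' _ => absurd hi' hi,
        fun _ _ hj' => absurd hj' hj⟩
      rw [if_pos heq]; exact hbi _

end Groth.Agent.Lib.Helper26.HDiag
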