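import Mathlib

universe u

namespace Groth.Agent.Lib.Helper26.HNF1

open PowerSeries

variable {k : Type u} [Field k]

/-- Entry reduced modulo `X^e`: no coefficients in degrees `≥ e`. -/
def Red (e : ℕ) (p : PowerSeries k) : Prop := ∀ n, e ≤ n → coeff n p = 0

theorem red_zero (e : ℕ) : Red e (0 : PowerSeries k) := fun n _ => by simp

theorem Red.sub {e : ℕ} {p q : PowerSeries k} (hp : Red e p) (hq : Red e q) : Red e (p - q) := by
  intro n hn
  rw [map_sub, hp n hn, hq n hn, sub_zero]

/-- Division with remainder by `X^e`. -/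
theorem exists_quot (e : ℕ) (p : PowerSeries k) : ∃ q : PowerSeries k, Red e (p - X ^ e * q) := by
  refine ⟨PowerSeries.mk (fun n => coeff (n + e) p), ?_⟩
  intro n hn
  rw [map_sub, coeff_X_pow_mul', if_pos hn, coeff_mk, Nat.sub_add_cancel hn, sub_self]

theorem eq_zero_of_red_X_pow_mul {e : ℕ} {u : PowerSeries k} (h : Red e (X ^ e * u)) : u = 0 := by
  ext m
  have := h (m + e) (Nat.le_add_left _ _)
  rw [coeff_X_pow_mul] at this
  rw [this, map_zero]

theorem X_pow_ne_zero' (e : ℕ) : (X : PowerSeries k) ^ e ≠ 0 := by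
  intro h
  have := congrArg (coeff e) h
  rw [coeff_X_pow_self, map_zero] at this
  exact one_ne_zero this

theorem le_of_X_pow_dvd {a b : ℕ} (h : (X : PowerSeries k) ^ a ∣ X ^ b) : a ≤ b := by
  by_contra hlt
  push Not at hlt
  have := (X_pow_dvd_iff.mp h) b hlt
  rw [coeff_X_pow_self] at this
  exact one_ne_zero this

theorem exists_span_X_pow (I : Ideal (PowerSeries k)) (hI : I ≠ ⊥) :
    ∃ e : ℕ, I = Ideal.span {(X : PowerSeries k) ^ e} :=
  IsDiscreteValuationRing.ideal_eq_span_pow_irreducible hI X_irreducible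

end Groth.Agent.Lib.Helper26.HNF1
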