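import Mathlib
import Groth.Agent.Lib.Helper26.HNF1

universe u

namespace Groth.Agent.Lib.Helper26.HNF3

open PowerSeries Groth.Agent.Lib.Helper26.HNF1

variable {k : Type u} [Field k] {r : ℕ}

/-- Row-reduced matrices. -/
def RowRed (H : Matrix (Fin r) (Fin r) (PowerSeries k)) (e : Fin r → ℕ) : Prop :=
  (∀ i, H i i = X ^ e i) ∧ (∀ i j, j < i → H i j = 0) ∧ (∀ i j, i < j → Red (e j) (H i j))

/-- Column computation. -/
theorem mul_apply_col {U H : Matrix (Fin r) (Fin r) (PowerSeries k)} {e : Fin r → ℕ}
    (hH : RowRed H e) (j : Fin r)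
    (hU : ∀ l : Fin r, l < j → ∀ i, U i l = if i = l then 1 else 0) (i : Fin r) :
    (U * H) i j = (if i < j then H i j else 0) + U i j * X ^ e j := by
  classical
  rw [Matrix.mul_apply, ← Finset.add_sum_erase Finset.univ _ (Finset.mem_univ j), hH.1 j, add_comm]
  congr 1
  by_cases hij : i < j
  · rw [if_pos hij, Finset.sum_eq_single_of_mem i (Finset.mem_erase.mpr ⟨ne_of_lt hij, Finset.mem_univ _⟩)]
    · rw [hU i hij i, if_pos rfl, one_mul]
    · intro l hl hli
      have hlj : l ≠ j := (Finset.mem_erase.mp hl).1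
      rcases lt_or_gt_of_ne hlj with h | h
      · rw [hU l h i, if_neg (Ne.symm hli), zero_mul]
      · rw [hH.2.1 l j h, mul_zero]
  · rw [if_neg hij]
    apply Finset.sum_eq_zero
    intro l hl
    have hlj : l ≠ j := (Finset.mem_erase.mp hl).1
    rcases lt_or_gt_of_ne hlj with h | h
    · have : i ≠ l := by
        intro h'; rw [h'] at hij; exact hij h
      rw [hU l h i, if_neg this, zero_mul]
    · rw [hH.2.1 l j h, mul_zero]

theorem diag_eq {U H H' : Matrix (Fin r) (Fin r) (PowerSeries k)} {e e' : Fin r → ℕ}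
    (hH : RowRed H e) (hH' : RowRed H' e') (hUH : U * H = H') (j : Fin r)
    (hU : ∀ l : Fin r, l < j → ∀ i, U i l = if i = l then 1 else 0) :
    U j j * X ^ e j = X ^ e' j := by
  have := mul_apply_col hH j hU j
  rw [hUH, hH'.1 j, if_neg (lt_irrefl j), zero_add] at this
  exact this.symm

theorem col_eq {U H H' : Matrix (Fin r) (Fin r) (PowerSeries k)} {e e' : Fin r → ℕ}
    (hH : RowRed H e) (hH' : RowRed H' e') (hUH : U * H = H') (j : Fin r)
    (hU : ∀ l : Fin r, l < j → ∀ i, U i l = if i = l then 1 else 0) (hee : e j = e' j) (i : Fin r) :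
    U i j = if i = j then 1 else 0 := by
  have h := mul_apply_col hH j hU i
  rw [hUH] at h
  rcases lt_trichotomy i j with hij | hij | hij
  · rw [if_neg (ne_of_lt hij)]
    rw [if_pos hij] at h
    apply eq_zero_of_red_X_pow_mul (e := e j)
    have : X ^ e j * U i j = H' i j - H i j := by rw [h]; ring
    rw [this]
    have h1 : Red (e j) (H' i j) := by rw [hee]; exact hH'.2.2 i j hij
    exact h1.sub (hH.2.2 i j hij)
  · subst hij
    rw [if_pos rfl]
    have := diag_eq hH hH' hUH i hU
    rw [← hee] at this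
    have h2 : U i i * X ^ e i = 1 * X ^ e i := by rw [this, one_mul]
    exact mul_right_cancel₀ (X_pow_ne_zero' (e i)) h2
  · rw [if_neg (ne_of_gt hij)]
    rw [if_neg (not_lt.mpr (le_of_lt hij)), zero_add, hH'.2.1 i j hij] at h
    rcases mul_eq_zero.mp h.symm with h0 | h0
    · exact h0
    · exact absurd h0 (X_pow_ne_zero' (e j))

theorem unique {H H' U V : Matrix (Fin r) (Fin r) (PowerSeries k)} {e e' : Fin r → ℕ}
    (hH : RowRed H e) (hH' : RowRed H' e') (hUH : U * H = H') (hVH : V * H' = H) : H = H' := by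
  have key : ∀ n : ℕ, ∀ j : Fin r, (j : ℕ) < n →
      (∀ i, U i j = if i = j then 1 else 0) ∧ (∀ i, V i j = if i = j then 1 else 0) := by
    intro n
    induction n with
    | zero => intro j hj; exact absurd hj (Nat.not_lt_zero _)
    | succ n ih =>
      intro j hj
      by_cases hjn : (j : ℕ) < n
      · exact ih j hjn
      · have hjn' : (j : ℕ) = n := by omega
        have hU : ∀ l : Fin r, l < j → ∀ i, U i l = if i = l then 1 else 0 := by
          intro l hl
          exact (ih l (by rw [← hjn']; exact hl)).1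
        have hV : ∀ l : Fin r, l < j → ∀ i, V i l = if i = l then 1 else 0 := by
          intro l hl
          exact (ih l (by rw [← hjn']; exact hl)).2
        have d1 := diag_eq hH hH' hUH j hU
        have d2 := diag_eq hH' hH hVH j hV
        have hee : e j = e' j := by
          apply le_antisymm
          · exact le_of_X_pow_dvd ⟨U j j, by rw [← d1]; ring⟩
          · exact le_of_X_pow_dvd ⟨V j j, by rw [← d2]; ring⟩
        exact ⟨col_eq hH hH' hUH j hU hee, col_eq hH' hH hVH j hV hee.symm⟩
  have hU1 : U = 1 := by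
    ext i j
    rw [(key (j + 1) j (Nat.lt_succ_self _)).1 i, Matrix.one_apply]
  rw [← hUH, hU1, one_mul]

end Groth.Agent.Lib.Helper26.HNF3
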