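import Mathlib
import Groth.Agent.Lib.Helper26.HNF3

universe u

namespace Groth.Agent.Lib.Helper26.HNF2

open PowerSeries Groth.Agent.Lib.Helper26.HNF1 Groth.Agent.Lib.Helper26.HNF3

variable {k : Type u} [Field k] {r : ℕ}

/-- Row lattice of a matrix. -/
noncomputable def Lat (M : Matrix (Fin r) (Fin r) (PowerSeries k)) : Submodule (PowerSeries k) (Fin r → PowerSeries k) :=
  LinearMap.range M.vecMulLinear

theorem mem_Lat {M : Matrix (Fin r) (Fin r) (PowerSeries k)} {v : Fin r → PowerSeries k} :
    v ∈ Lat M ↔ ∃ c : Fin r → PowerSeries k, Matrix.vecMul c M = v := by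
  unfold Lat
  rw [LinearMap.mem_range]
  rfl

theorem row_mem_Lat (M : Matrix (Fin r) (Fin r) (PowerSeries k)) (i : Fin r) : M i ∈ Lat M := by
  rw [mem_Lat]
  refine ⟨Pi.single i 1, ?_⟩
  rw [Matrix.single_vecMul, one_smul]
  rfl

theorem det_single_mem_Lat (M : Matrix (Fin r) (Fin r) (PowerSeries k)) (j : Fin r) :
    (Pi.single j M.det : Fin r → PowerSeries k) ∈ Lat M := by
  rw [mem_Lat]
  refine ⟨Matrix.vecMul (Pi.single j 1) M.adjugate, ?_⟩
  rw [Matrix.vecMul_vecMul, Matrix.adjugate_mul, Matrix.vecMul_smul, Matrix.vecMul_one]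
  ext l
  simp [Pi.single_apply]

/-- Step A. -/
theorem exists_pivot (M : Matrix (Fin r) (Fin r) (PowerSeries k)) (hM : M.det ≠ 0) (j : Fin r) :
    ∃ e : ℕ, (∀ v ∈ Lat M, (∀ l, l < j → v l = 0) → (X : PowerSeries k) ^ e ∣ v j) ∧
      ∃ h ∈ Lat M, (∀ l, l < j → h l = 0) ∧ h j = X ^ e := by
  let I : Ideal (PowerSeries k) :=
    { carrier := {a | ∃ v ∈ Lat M, (∀ l, l < j → v l = 0) ∧ v j = a}
      add_mem' := by
        rintro a b ⟨v, hv, hv0, rfl⟩ ⟨w, hw, hw0, rfl⟩
        refine ⟨v + w, (Lat M).add_mem hv hw, ?_, rfl⟩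
        intro l hl
        rw [Pi.add_apply, hv0 l hl, hw0 l hl, add_zero]
      zero_mem' := ⟨0, (Lat M).zero_mem, fun _ _ => rfl, rfl⟩
      smul_mem' := by
        rintro c a ⟨v, hv, hv0, rfl⟩
        refine ⟨c • v, (Lat M).smul_mem c hv, ?_, rfl⟩
        intro l hl
        rw [Pi.smul_apply, hv0 l hl, smul_zero] }
  have hI : I ≠ ⊥ := by
    intro h
    have hmem : M.det ∈ I := by
      refine ⟨Pi.single j M.det, det_single_mem_Lat M j, ?_, by simp⟩
      intro l hl
      simp [Pi.single_apply, ne_of_lt hl]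
    rw [h] at hmem
    exact hM hmem
  obtain ⟨e, he⟩ := exists_span_X_pow I hI
  refine ⟨e, ?_, ?_⟩
  · intro v hv hv0
    have : v j ∈ I := ⟨v, hv, hv0, rfl⟩
    rw [he, Ideal.mem_span_singleton] at this
    exact this
  · have : (X : PowerSeries k) ^ e ∈ I := by
      rw [he]; exact Ideal.mem_span_singleton_self _
    obtain ⟨h, hh, hh0, hhj⟩ := this
    exact ⟨h, hh, hh0, hhj⟩

/-- Step B. -/
theorem exists_reduced_row (M : Matrix (Fin r) (Fin r) (PowerSeries k)) (e : Fin r → ℕ)
    (h : Fin r → (Fin r → PowerSeries k)) (hh : ∀ j, h j ∈ Lat M)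
    (hh0 : ∀ j l, l < j → h j l = 0) (hhj : ∀ j, h j j = X ^ e j) (i : Fin r) (m : ℕ) :
    ∃ v ∈ Lat M, (∀ l, l < i → v l = 0) ∧ v i = X ^ e i ∧
      ∀ j : Fin r, i < j → (j : ℕ) < m → Red (e j) (v j) := by
  induction m with
  | zero =>
    exact ⟨h i, hh i, hh0 i, hhj i, fun j _ hj => absurd hj (Nat.not_lt_zero _)⟩
  | succ m ih =>
    obtain ⟨v, hv, hv0, hvi, hvred⟩ := ih
    by_cases hm : (i : ℕ) < m ∧ m < r
    · let j₀ : Fin r := ⟨m, hm.2⟩
      have hij₀ : i < j₀ := hm.1
      obtain ⟨q, hq⟩ := exists_quot (e j₀) (v j₀)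
      refine ⟨v - q • h j₀, (Lat M).sub_mem hv ((Lat M).smul_mem q (hh j₀)), ?_, ?_, ?_⟩
      · intro l hl
        rw [Pi.sub_apply, Pi.smul_apply, hv0 l hl, hh0 j₀ l (lt_trans hl hij₀), smul_zero, sub_zero]
      · rw [Pi.sub_apply, Pi.smul_apply, hvi, hh0 j₀ i hij₀, smul_zero, sub_zero]
      · intro j hij hjm
        by_cases hjm' : (j : ℕ) < m
        · have hjj₀ : j < j₀ := hjm'
          rw [Pi.sub_apply, Pi.smul_apply, hh0 j₀ j hjj₀, smul_zero, sub_zero]
          exact hvred j hij hjm'
        · have hjeq : j = j₀ := by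
            apply Fin.ext
            change (j : ℕ) = m
            omega
          rw [hjeq, Pi.sub_apply, Pi.smul_apply, hhj j₀, smul_eq_mul, mul_comm]
          exact hq
    · refine ⟨v, hv, hv0, hvi, ?_⟩
      intro j hij hjm
      by_cases hjm' : (j : ℕ) < m
      · exact hvred j hij hjm'
      · exfalso
        apply hm
        have hjeq : (j : ℕ) = m := by omega
        refine ⟨?_, ?_⟩
        · rw [← hjeq]; exact hij
        · rw [← hjeq]; exact j.2

/-- Existence of a row-reduced matrix with the same row lattice. -/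
theorem exists_rowRed (M : Matrix (Fin r) (Fin r) (PowerSeries k)) (hM : M.det ≠ 0) :
    ∃ (H : Matrix (Fin r) (Fin r) (PowerSeries k)) (e : Fin r → ℕ), RowRed H e ∧
      (∀ i, H i ∈ Lat M) ∧ ∀ v ∈ Lat M, v ∈ Lat H := by
  choose e he1 h hh hh0 hhj using fun j => exists_pivot M hM j
  choose H hH hH0 hHi hHred using fun i => exists_reduced_row M e h hh hh0 hhj i r
  refine ⟨Matrix.of H, e, ⟨?_, ?_, ?_⟩, ?_, ?_⟩
  · intro i; exact hHi i
  · intro i j hji; exact hH0 i j hji
  · intro i j hij; exact hHred i j hij j.2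
  · intro i; exact hH i
  · -- every vector of the lattice is a combination of the rows of H
    have key : ∀ d : ℕ, ∀ v ∈ Lat M, (∀ l : Fin r, (l : ℕ) + d < r → v l = 0) →
        v ∈ Lat (Matrix.of H) := by
      intro d
      induction d with
      | zero =>
        intro v _ hv0
        have : v = 0 := by
          funext l
          exact hv0 l (by simp)
        rw [this]
        exact (Lat _).zero_mem
      | succ d ih =>
        intro v hv hv0
        by_cases hd : d + 1 ≤ r
        · let j : Fin r := ⟨r - (d + 1), by omega⟩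
          have hvj : ∀ l, l < j → v l = 0 := by
            intro l hl
            apply hv0
            have : (l : ℕ) < r - (d + 1) := hl
            omega
          obtain ⟨a, ha⟩ := he1 j v hv hvj
          have hv' : v - a • H j ∈ Lat M := (Lat M).sub_mem hv ((Lat M).smul_mem a (hH j))
          have hv'0 : ∀ l : Fin r, (l : ℕ) + d < r → (v - a • H j) l = 0 := by
            intro l hl
            have hlj : (l : ℕ) ≤ r - (d + 1) := by omega
            rcases Nat.lt_or_eq_of_le hlj with hlt | heq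
            · have hlt' : l < j := hlt
              rw [Pi.sub_apply, Pi.smul_apply, hvj l hlt', hH0 j l hlt', smul_zero, sub_zero]
            · have hlj' : l = j := Fin.ext heq
              rw [hlj', Pi.sub_apply, Pi.smul_apply, hHi j, ha, smul_eq_mul, mul_comm, sub_self]
          have h1 := ih _ hv' hv'0
          have h2 : a • H j ∈ Lat (Matrix.of H) :=
            (Lat _).smul_mem a (row_mem_Lat (Matrix.of H) j)
          have : v = (v - a • H j) + a • H j := by abel
          rw [this]
          exact (Lat _).add_mem h1 h2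
        · apply ih v hv
          intro l hl
          omega
    intro v hv
    exact key r v hv (fun l hl => by omega)

end Groth.Agent.Lib.Helper26.HNF2
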