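import Mathlib
import Groth.Agent.Lib.Helper26.HNF2

universe u

namespace Groth.Agent.Lib.Helper26.HNF4

open PowerSeries Groth.Agent.Lib.Helper26.HNF1 Groth.Agent.Lib.Helper26.HNF3
  Groth.Agent.Lib.Helper26.HNF2

variable {k : Type u} [Field k] {r : ℕ}

theorem exists_mul_eq_of_rows_mem (A B : Matrix (Fin r) (Fin r) (PowerSeries k))
    (h : ∀ i, B i ∈ Lat A) : ∃ N : Matrix (Fin r) (Fin r) (PowerSeries k), N * A = B := by
  choose c hc using fun i => (mem_Lat.mp (h i))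
  refine ⟨Matrix.of c, ?_⟩
  refine Matrix.ext (fun i j => ?_)
  rw [← hc i]
  simp [Matrix.mul_apply, Matrix.vecMul, dotProduct]

theorem eq_zero_of_mul_eq_zero (A X' : Matrix (Fin r) (Fin r) (PowerSeries k)) (hA : A.det ≠ 0)
    (h : X' * A = 0) : X' = 0 := by
  have h1 : X' * A * A.adjugate = 0 := by rw [h, zero_mul]
  rw [mul_assoc, Matrix.mul_adjugate, Matrix.mul_smul, mul_one] at h1
  refine Matrix.ext (fun i j => ?_)
  have := congrFun (congrFun h1 i) j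
  rw [Matrix.smul_apply, smul_eq_mul, Matrix.zero_apply] at this
  rcases mul_eq_zero.mp this with h0 | h0
  · exact absurd h0 hA
  · exact h0

theorem main (M : Matrix (Fin r) (Fin r) (PowerSeries k)) (hM : M.det ≠ 0) :
    ∃! H : Matrix (Fin r) (Fin r) (PowerSeries k),
      (∃ e : Fin r → ℕ, (∀ i, H i i = PowerSeries.X ^ e i) ∧ (∀ i j, j < i → H i j = 0) ∧
        (∀ i j, i < j → ∀ n, e j ≤ n → PowerSeries.coeff n (H i j) = 0)) ∧
      ∃ N : Matrix (Fin r) (Fin r) (PowerSeries k), IsUnit N ∧ N * M = H := by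
  obtain ⟨H, e, hH, hrows, hsub⟩ := exists_rowRed M hM
  obtain ⟨N, hN⟩ := exists_mul_eq_of_rows_mem M H hrows
  obtain ⟨N', hN'⟩ := exists_mul_eq_of_rows_mem H M (fun i => hsub _ (row_mem_Lat M i))
  have hNN : N' * N = 1 := by
    have h1 : (N' * N - 1) * M = 0 := by
      rw [sub_mul, mul_assoc, hN, hN', one_mul, sub_self]
    exact sub_eq_zero.mp (eq_zero_of_mul_eq_zero M _ hM h1)
  have hNunit : IsUnit N :=
    (Matrix.isUnit_iff_isUnit_det N).mpr (Matrix.isUnit_det_of_left_inverse hNN)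
  refine ⟨H, ⟨⟨e, hH.1, hH.2.1, hH.2.2⟩, N, hNunit, hN⟩, ?_⟩
  rintro H' ⟨⟨e', h1, h2, h3⟩, N₁, hN₁unit, hN₁⟩
  have hH' : RowRed H' e' := ⟨h1, h2, h3⟩
  obtain ⟨u, hu⟩ := hNunit
  obtain ⟨u₁, hu₁⟩ := hN₁unit
  have hUH : (N₁ * (↑u⁻¹ : Matrix (Fin r) (Fin r) (PowerSeries k))) * H = H' := by
    rw [← hN, ← hu, mul_assoc, ← mul_assoc (↑u⁻¹ : Matrix (Fin r) (Fin r) (PowerSeries k)),
      Units.inv_mul, one_mul, hN₁]
  have hVH : ((u : Matrix (Fin r) (Fin r) (PowerSeries k)) * (↑u₁⁻¹ : Matrix (Fin r) (Fin r) (PowerSeries k))) * H' = H := by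
    rw [← hN₁, ← hu₁, mul_assoc, ← mul_assoc (↑u₁⁻¹ : Matrix (Fin r) (Fin r) (PowerSeries k)),
      Units.inv_mul, one_mul, hu, hN]
  exact (unique hH hH' hUH hVH).symm

end Groth.Agent.Lib.Helper26.HNF4
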