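import Mathlib
import Groth.Agent.Lib.Helper26.HNF4

universe u

namespace Groth.Agent.Lib.Helper26.HNF5

open PowerSeries

variable {k : Type u} [Field k] {r : ℕ}

/-- power series in `t^p`. -/
def InP (p : ℕ) (f : PowerSeries k) : Prop := ∀ n, ¬ p ∣ n → coeff n f = 0

theorem InP.zero (p : ℕ) : InP p (0 : PowerSeries k) := fun n _ => by simp

theorem InP.one (p : ℕ) : InP p (1 : PowerSeries k) := fun n hn => by
  rw [coeff_one]
  rw [if_neg]
  rintro rfl
  exact hn (dvd_zero p)

theorem InP.add {p : ℕ} {f g : PowerSeries k} (hf : InP p f) (hg : InP p g) : InP p (f + g) :=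
  fun n hn => by rw [map_add, hf n hn, hg n hn, add_zero]

theorem InP.neg {p : ℕ} {f : PowerSeries k} (hf : InP p f) : InP p (-f) :=
  fun n hn => by rw [map_neg, hf n hn, neg_zero]

theorem InP.mul {p : ℕ} {f g : PowerSeries k} (hf : InP p f) (hg : InP p g) : InP p (f * g) :=
  fun n hn => by
    rw [coeff_mul]
    refine Finset.sum_eq_zero (fun x hx => ?_)
    have hx : x.1 + x.2 = n := by simpa using hx
    by_cases h1 : p ∣ x.1
    · have h2 : ¬ p ∣ x.2 := fun h2 => hn (hx ▸ dvd_add h1 h2)
      rw [hg _ h2, mul_zero]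
    · rw [hf _ h1, zero_mul]

theorem InP.sum {p : ℕ} {ι : Type*} (s : Finset ι) (f : ι → PowerSeries k)
    (hf : ∀ i ∈ s, InP p (f i)) : InP p (∑ i ∈ s, f i) := by
  classical
  induction s using Finset.induction_on with
  | empty => simpa using InP.zero p
  | insert a s ha ih =>
    rw [Finset.sum_insert ha]
    exact (hf a (Finset.mem_insert_self a s)).add
      (ih (fun i hi => hf i (Finset.mem_insert_of_mem hi)))

/-- the reducedness condition on a single entry. -/
def Cond (p ei ej : ℕ) (f : PowerSeries k) : Prop :=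
  ∀ n, (ej ≤ n ∨ (ei ≤ n ∧ n % p = ei % p)) → coeff n f = 0

theorem exists_single (p : ℕ) (q : PowerSeries k) (ei ej : ℕ) :
    ∃ a c : PowerSeries k, InP p c ∧ Cond p ei ej (q + a * X ^ ej + X ^ ei * c) := by
  refine ⟨-PowerSeries.mk (fun n => coeff (n + ej) q),
    -PowerSeries.mk (fun n => if p ∣ n then (if n + ei < ej then coeff (n + ei) q else 0) else 0),
    ?_, ?_⟩
  · intro n hn
    rw [map_neg, coeff_mk, if_neg hn, neg_zero]
  · intro n hn
    rw [map_add, map_add, coeff_mul_X_pow', coeff_X_pow_mul']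
    by_cases h1 : ej ≤ n
    · rw [if_pos h1, map_neg, coeff_mk, Nat.sub_add_cancel h1]
      by_cases h2 : ei ≤ n
      · rw [if_pos h2, map_neg, coeff_mk]
        have h3 : ¬ (n - ei + ei < ej) := by omega
        rw [if_neg h3]
        simp
      · rw [if_neg h2]; simp
    · rw [if_neg h1]
      rcases hn with hn | ⟨h2, h3⟩
      · exact absurd hn h1
      · rw [if_pos h2, map_neg, coeff_mk]
        have h4 : p ∣ n - ei := (Nat.modEq_iff_dvd' h2).mp h3.symm
        have h5 : n - ei + ei < ej := by omega
        rw [if_pos h4, if_pos h5, Nat.sub_add_cancel h2]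
        ring

/-- upper triangular with diagonal `X ^ e i`. -/
def UT (G : Matrix (Fin r) (Fin r) (PowerSeries k)) (e : Fin r → ℕ) : Prop :=
  (∀ i, G i i = X ^ e i) ∧ (∀ i j, j < i → G i j = 0)

theorem exists_row (p : ℕ) (G : Matrix (Fin r) (Fin r) (PowerSeries k)) (e : Fin r → ℕ)
    (hG : UT G e) (m : Fin r) (s : ℕ) :
    ∃ a c : Fin r → PowerSeries k, (∀ j, j ≤ m → a j = 0 ∧ c j = 0) ∧
      (∀ j : Fin r, s ≤ j.val → a j = 0 ∧ c j = 0) ∧ (∀ j, InP p (c j)) ∧
      ∀ j, m < j → j.val < s →
        Cond p (e m) (e j) (G m j + ∑ l, a l * G l j + X ^ e m * c j) := by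
  induction s with
  | zero =>
    refine ⟨0, 0, fun j _ => ⟨rfl, rfl⟩, fun j _ => ⟨rfl, rfl⟩, fun j => InP.zero p, ?_⟩
    intro j _ hj
    exact absurd hj (Nat.not_lt_zero _)
  | succ s ih =>
    obtain ⟨a, c, h1, h2, h3, h4⟩ := ih
    by_cases hs : s < r ∧ m.val < s
    · obtain ⟨hsr, hms⟩ := hs
      set js : Fin r := ⟨s, hsr⟩ with hjs
      obtain ⟨a', c', hc', hcond⟩ := exists_single p (G m js + ∑ l, a l * G l js) (e m) (e js)
      refine ⟨fun l => a l + if l = js then a' else 0, fun l => c l + if l = js then c' else 0,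
        ?_, ?_, ?_, ?_⟩
      · intro j hj
        have hne : j ≠ js := by
          intro h
          rw [h] at hj
          have : js.val ≤ m.val := hj
          simp only [hjs] at this
          omega
        simp only [if_neg hne, add_zero]
        exact h1 j hj
      · intro j hj
        have hne : j ≠ js := by
          intro h
          rw [h] at hj
          simp only [hjs] at hj
          omega
        simp only [if_neg hne, add_zero]
        exact h2 j (by omega)
      · intro j
        by_cases hj : j = js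
        · simp only [if_pos hj]
          exact (h3 j).add hc'
        · simp only [if_neg hj, add_zero]
          exact h3 j
      · intro j hmj hjs'
        have hsum : ∑ l, (a l + if l = js then a' else 0) * G l j =
            ∑ l, a l * G l j + a' * G js j := by
          simp only [add_mul, Finset.sum_add_distrib, ite_mul, zero_mul, Finset.sum_ite_eq',
            Finset.mem_univ, if_true]
        rw [hsum]
        beta_reduce
        by_cases hj : j = js
        · subst hj
          rw [if_pos rfl]
          have ha0 : a js = 0 := (h2 js (le_refl _)).1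
          have hc0 : c js = 0 := (h2 js (le_refl _)).2
          rw [hc0, zero_add, hG.1 js]
          convert hcond using 1
          ring
        · rw [if_neg hj, add_zero]
          have hlt : j.val < s := by
            have : j.val ≠ s := fun h => hj (Fin.ext h)
            omega
          have : G js j = 0 := hG.2 js j (by
            rw [Fin.lt_def]; exact hlt)
          rw [this, mul_zero, add_zero]
          exact h4 j hmj hlt
    · refine ⟨a, c, h1, fun j hj => h2 j (by omega), h3, ?_⟩
      intro j hmj hjs'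
      refine h4 j hmj ?_
      have hmj' : m.val < j.val := hmj
      have hjr := j.isLt
      by_contra hcon
      exact hs ⟨by omega, by omega⟩

/-- The elementary matrix `1 + (row m = a)`. -/
noncomputable def U (m : Fin r) (a : Fin r → PowerSeries k) : Matrix (Fin r) (Fin r) (PowerSeries k) :=
  1 + Matrix.of (fun i j => if i = m then a j else 0)

theorem U_mul_apply (m : Fin r) (a : Fin r → PowerSeries k)
    (G : Matrix (Fin r) (Fin r) (PowerSeries k)) (i j : Fin r) :
    (U m a * G) i j = G i j + if i = m then ∑ l, a l * G l j else 0 := by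
  rw [U, Matrix.add_mul, Matrix.one_mul, Matrix.add_apply, Matrix.mul_apply]
  congr 1
  by_cases h : i = m
  · simp [h]
  · simp [h]

theorem mul_U_apply (m : Fin r) (c : Fin r → PowerSeries k)
    (G : Matrix (Fin r) (Fin r) (PowerSeries k)) (i j : Fin r) :
    (G * U m c) i j = G i j + G i m * c j := by
  rw [U, Matrix.mul_add, Matrix.mul_one, Matrix.add_apply, Matrix.mul_apply]
  congr 1
  simp only [Matrix.of_apply, mul_ite, mul_zero, Finset.sum_ite_eq', Finset.mem_univ, if_true]

theorem isUnit_U (m : Fin r) (a : Fin r → PowerSeries k) (ha : ∀ j, j ≤ m → a j = 0) :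
    IsUnit (U m a) := by
  rw [Matrix.isUnit_iff_isUnit_det]
  have hT : (U m a).BlockTriangular id := by
    intro i j hij
    simp only [id] at hij
    rw [U, Matrix.add_apply, Matrix.one_apply_ne (ne_of_gt hij), zero_add, Matrix.of_apply]
    split_ifs with h
    · exact ha j (h ▸ le_of_lt hij)
    · rfl
  rw [Matrix.det_of_isUpperTriangular hT]
  have : ∀ i, U m a i i = 1 := by
    intro i
    rw [U, Matrix.add_apply, Matrix.one_apply_eq, Matrix.of_apply]
    split_ifs with h
    · rw [ha i (h ▸ le_refl _), add_zero]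
    · rw [add_zero]
  simp [this]

/-- The invariant. -/
def Inv (p : ℕ) (M : Matrix (Fin r) (Fin r) (PowerSeries k)) (m : ℕ) : Prop :=
  ∃ (N P : Matrix (Fin r) (Fin r) (PowerSeries k)) (e : Fin r → ℕ), IsUnit N ∧ IsUnit P ∧
    (∀ i j, InP p (P i j)) ∧ UT (N * M * P) e ∧
    ∀ i j : Fin r, m ≤ i.val → i < j → Cond p (e i) (e j) ((N * M * P) i j)

theorem inv_base (p : ℕ) (M : Matrix (Fin r) (Fin r) (PowerSeries k)) (hM : M.det ≠ 0) :
    Inv p M r := by
  obtain ⟨H, ⟨⟨e, h1, h2, -⟩, N, hN, hNM⟩, -⟩ := HNF4.main M hM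
  refine ⟨N, 1, e, hN, isUnit_one, ?_, ?_, ?_⟩
  · intro i j
    by_cases h : i = j
    · rw [h, Matrix.one_apply_eq]; exact InP.one p
    · rw [Matrix.one_apply_ne h]; exact InP.zero p
  · rw [Matrix.mul_one, hNM]
    exact ⟨h1, h2⟩
  · intro i j hi
    exact absurd i.isLt (by omega)

theorem inv_step (p : ℕ) (M : Matrix (Fin r) (Fin r) (PowerSeries k)) (m : Fin r)
    (h : Inv p M (m.val + 1)) : Inv p M m.val := by
  obtain ⟨N, P, e, hN, hP, hPP, hUT, hC⟩ := h
  set G := N * M * P with hG
  obtain ⟨a, c, h1, -, h3, h4⟩ := exists_row p G e hUT m r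
  have hUa : IsUnit (U m a) := isUnit_U m a (fun j hj => (h1 j hj).1)
  have hUc : IsUnit (U m c) := isUnit_U m c (fun j hj => (h1 j hj).2)
  have hG1 : U m a * N * M * (P * U m c) = U m a * G * U m c := by
    rw [hG]; simp only [Matrix.mul_assoc]
  -- entries of the new matrix
  have hent : ∀ i j, (U m a * G * U m c) i j =
      (G i j + if i = m then ∑ l, a l * G l j else 0) +
        (G i m + if i = m then ∑ l, a l * G l m else 0) * c j := by
    intro i j
    rw [mul_U_apply, U_mul_apply, U_mul_apply]
  have hsum0 : ∀ j, j ≤ m → ∑ l, a l * G l j = 0 := by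
    intro j hj
    refine Finset.sum_eq_zero (fun l _ => ?_)
    by_cases hl : l ≤ m
    · rw [(h1 l hl).1, zero_mul]
    · rw [hUT.2 l j (lt_of_le_of_lt hj (not_le.mp hl)), mul_zero]
  refine ⟨U m a * N, P * U m c, e, hUa.mul hN, hP.mul hUc, ?_, ?_, ?_⟩
  · intro i j
    rw [mul_U_apply]
    exact (hPP i j).add ((hPP i m).mul (h3 j))
  · rw [hG1]
    refine ⟨fun i => ?_, fun i j hji => ?_⟩
    · rw [hent]
      by_cases him : i = m
      · subst him
        rw [if_pos rfl, hsum0 i le_rfl, (h1 i le_rfl).2, mul_zero, add_zero, add_zero, hUT.1]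
      · simp only [if_neg him, add_zero]
        rcases lt_or_gt_of_ne him with hlt | hgt
        · rw [(h1 i hlt.le).2, mul_zero, add_zero, hUT.1]
        · rw [hUT.2 i m hgt, zero_mul, add_zero, hUT.1]
    · rw [hent]
      by_cases him : i = m
      · subst him
        rw [if_pos rfl, hsum0 j hji.le, (h1 j hji.le).2, mul_zero, add_zero, add_zero,
          hUT.2 i j hji]
      · simp only [if_neg him, add_zero]
        rw [hUT.2 i j hji, zero_add]
        rcases lt_or_gt_of_ne him with hlt | hgt
        · rw [(h1 j (hji.le.trans hlt.le)).2, mul_zero]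
        · rw [hUT.2 i m hgt, zero_mul]
  · rw [hG1]
    intro i j hmi hij
    rw [hent]
    by_cases him : i = m
    · subst him
      rw [hsum0 i le_rfl]
      simp only [if_true, ite_self, add_zero]
      rw [hUT.1]
      exact h4 j hij j.isLt
    · have hgt : m < i := by
        rw [Fin.lt_def]
        have : i.val ≠ m.val := fun h => him (Fin.ext h)
        omega
      simp only [if_neg him, add_zero]
      rw [hUT.2 i m hgt, zero_mul, add_zero]
      exact hC i j (by rw [Fin.lt_def] at hgt; omega) hij

theorem inv_all (p : ℕ) (M : Matrix (Fin r) (Fin r) (PowerSeries k)) (hM : M.det ≠ 0) :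
    ∀ d, d ≤ r → Inv p M (r - d) := by
  intro d
  induction d with
  | zero => intro _; exact inv_base p M hM
  | succ d ih =>
    intro hd
    have h1 := ih (by omega)
    have hlt : r - (d + 1) < r := by omega
    have := inv_step p M ⟨r - (d + 1), hlt⟩ (by
      have : r - (d + 1) + 1 = r - d := by omega
      simpa [this] using h1)
    exact this

theorem main (p : ℕ) (M : Matrix (Fin r) (Fin r) (PowerSeries k)) (hM : M.det ≠ 0) :
    ∃ (N P : Matrix (Fin r) (Fin r) (PowerSeries k)) (e : Fin r → ℕ), IsUnit N ∧ IsUnit P ∧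
      (∀ i j n, ¬ p ∣ n → PowerSeries.coeff n (P i j) = 0) ∧
      (∀ i, (N * M * P) i i = PowerSeries.X ^ e i) ∧ (∀ i j, j < i → (N * M * P) i j = 0) ∧
      (∀ i j, i < j → ∀ n, (e j ≤ n ∨ (e i ≤ n ∧ n % p = e i % p)) →
        PowerSeries.coeff n ((N * M * P) i j) = 0) := by
  obtain ⟨N, P, e, hN, hP, hPP, hUT, hC⟩ := (by simpa using inv_all p M hM r le_rfl : Inv p M 0)
  exact ⟨N, P, e, hN, hP, hPP, hUT.1, hUT.2, fun i j hij => hC i j (Nat.zero_le _) hij⟩

end Groth.Agent.Lib.Helper26.HNF5
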