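import Mathlib

namespace Groth.Agent.Helper26.HensIdem

open Polynomial

universe u
variable {A : Type u} [CommRing A] (I : Ideal A)

theorem div_X_sub_C (P : A[X]) (a : A) : P = (X - C a) * (P /ₘ (X - C a)) + C (P.eval a) := by
  have := Polynomial.modByMonic_add_div P (X - C a)
  rw [Polynomial.modByMonic_X_sub_C_eq_C_eval, add_comm] at this
  exact this.symm

/-- elements of `I·B` are killed by any `A`-algebra map to `A/I`. -/
theorem ev_eq_zero_of_mem {B : Type u} [CommRing B] [Algebra A B] (ev : B →ₐ[A] A ⧸ I) {z : B}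
    (hz : z ∈ Ideal.map (algebraMap A B) I) : ev z = 0 := by
  have : Ideal.map (algebraMap A B) I ≤ RingHom.ker ev.toRingHom := by
    rw [Ideal.map_le_iff_le_comap]
    intro i hi
    simp only [Ideal.mem_comap, RingHom.mem_ker, AlgHom.toRingHom_eq_coe, RingHom.coe_coe,
      AlgHom.commutes, Ideal.Quotient.algebraMap_eq]
    exact Ideal.Quotient.eq_zero_iff_mem.2 hi
  have := this hz
  simpa using this

theorem partA (hI : I ≤ Ideal.jacobson ⊥)
    {B : Type u} [CommRing B] [Algebra A B] [Module.Finite A B] [Module.Projective A B]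
    (t : B) (ht : Algebra.adjoin A {t} = ⊤) (a₀ : A) (e : B) (he : IsIdempotentElem e)
    (ev : B →ₐ[A] A ⧸ I) (hevt : ev t = Ideal.Quotient.mk I a₀) (heve : ev e = 1)
    (hte : (t - algebraMap A B a₀) * e ∈ Ideal.map (algebraMap A B) I) :
    ∃ a : A, (t - algebraMap A B a) * e = 0 ∧ a - a₀ ∈ I ∧ ∀ c : A, c • e = 0 → c = 0 := by
  set p : B →ₗ[A] B := LinearMap.mulRight A e with hp
  have hpp : ∀ y, p (p y) = p y := by
    intro y
    simp only [hp, LinearMap.mulRight_apply, mul_assoc, he.eq]
  set M : Submodule A B := LinearMap.range p with hM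
  set N : Submodule A B := Submodule.span A {e} with hN
  have hMfg : M.FG := by
    rw [hM, LinearMap.range_eq_map]
    exact Submodule.FG.map _ Module.Finite.fg_top
  -- image of IB under p lies in I • M
  have hIM : ∀ z ∈ Ideal.map (algebraMap A B) I, z * e ∈ I • M := by
    intro z hz
    have h1 : z ∈ (I • (⊤ : Submodule A B)) := by
      rw [Ideal.smul_top_eq_map]; exact hz
    have h2 : p z ∈ (I • (⊤ : Submodule A B)).map p := Submodule.mem_map_of_mem h1
    rw [Submodule.map_smul'', Submodule.map_top] at h2
    exact h2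
  have hsup : M ≤ N ⊔ I • M := by
    rintro _ ⟨y, rfl⟩
    have hy : y ∈ Algebra.adjoin A {t} := ht ▸ Algebra.mem_top
    rw [Algebra.adjoin_singleton_eq_range_aeval] at hy
    obtain ⟨P, hP⟩ := hy
    have hP' : y = aeval t P := hP.symm
    rw [hP']
    have hdiv := div_X_sub_C P a₀
    have hval : p (aeval t P) = (P.eval a₀) • e +
        (aeval t (P /ₘ (X - C a₀))) * ((t - algebraMap A B a₀) * e) * e := by
      conv_lhs => rw [hdiv]
      simp only [hp, LinearMap.mulRight_apply, map_add, map_mul, map_sub, aeval_X, aeval_C,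
        Algebra.smul_def]
      have := he.eq
      linear_combination (-(aeval t (P /ₘ (X - C a₀))) * (t - algebraMap A B a₀)) * this
    rw [hval]
    apply Submodule.add_mem_sup
    · exact Submodule.smul_mem _ _ (Submodule.mem_span_singleton_self e)
    · exact hIM _ (Ideal.mul_mem_left _ _ hte)
  have hMN : M ≤ N := Submodule.le_of_le_smul_of_le_jacobson_bot hMfg hI hsup
  have hteM : t * e ∈ N := hMN ⟨t, rfl⟩
  rw [hN, Submodule.mem_span_singleton] at hteM
  obtain ⟨a, ha⟩ := hteM
  have h1 : (t - algebraMap A B a) * e = 0 := by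
    rw [sub_mul, ← ha, Algebra.smul_def, sub_self]
  refine ⟨a, h1, ?_, ?_⟩
  · have := congrArg ev h1
    simp only [map_mul, map_sub, hevt, heve, mul_one, AlgHom.commutes, map_zero,
      Ideal.Quotient.algebraMap_eq] at this
    rw [← Ideal.Quotient.eq_zero_iff_mem, map_sub]
    linear_combination (-1 : A ⧸ I) * this
  · -- annihilator
    have hprojM : Module.Projective A M := by
      refine Module.Projective.of_split M.subtype p.rangeRestrict ?_
      ext ⟨y, z, rfl⟩
      simp only [LinearMap.coe_comp, Function.comp_apply, Submodule.coe_subtype,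
        LinearMap.id_coe, id_eq]
      simp only [LinearMap.codRestrict_apply, hpp]
    let g : A →ₗ[A] M := LinearMap.toSpanSingleton A M ⟨e, ⟨e, by simp [hp, he.eq]⟩⟩
    have hg : Function.Surjective g := by
      rintro ⟨y, hy⟩
      have := hMN hy
      rw [hN, Submodule.mem_span_singleton] at this
      obtain ⟨c, hc⟩ := this
      refine ⟨c, ?_⟩
      apply Subtype.ext
      simp only [g, LinearMap.toSpanSingleton_apply, Submodule.coe_smul, hc]
    obtain ⟨s, hs⟩ := Module.projective_lifting_property g LinearMap.id hg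
    set e' : M := ⟨e, ⟨e, by simp [hp, he.eq]⟩⟩ with he'
    set j₀ : A := s e' with hj₀
    have hj₀e : j₀ • e = e := by
      have := congrArg (fun f => ((f e' : M) : B)) hs
      simpa [g] using this
    have h1j : 1 - j₀ ∈ I := by
      have h2 : (1 - j₀) • e = 0 := by rw [sub_smul, one_smul, hj₀e, sub_self]
      have := congrArg ev h2
      rw [map_smul, heve, map_zero, Algebra.smul_def, mul_one, Ideal.Quotient.algebraMap_eq] at this
      exact Ideal.Quotient.eq_zero_iff_mem.1 this
    have hunit : IsUnit j₀ := by
      have := (Ideal.mem_jacobson_bot.1 (hI h1j)) (-1)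
      simpa using this
    intro c hc
    have hc' : c • e' = 0 := by
      apply Subtype.ext
      simpa using hc
    have : c * j₀ = 0 := by
      have := congrArg s hc'
      rw [map_smul, map_zero, smul_eq_mul] at this
      exact this
    exact (hunit.mul_left_eq_zero).1 this

theorem root_of_partA {B : Type u} [CommRing B] [Algebra A B] (t : B) (e : B) (a : A)
    (h1 : (t - algebraMap A B a) * e = 0) (hann : ∀ c : A, c • e = 0 → c = 0)
    (f : A[X]) (hf : aeval t f = 0) : f.eval a = 0 := by
  apply hann
  have hdiv := div_X_sub_C f a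
  have := congrArg (fun q => aeval t q * e) hdiv
  simp only [hf, zero_mul, map_add, map_mul, map_sub, aeval_X, aeval_C] at this
  rw [Algebra.smul_def]
  linear_combination (-1 : B) * this - (aeval t (f /ₘ (X - C a))) * h1

end Groth.Agent.Helper26.HensIdem
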