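import Mathlib
import Groth.Agent.Lib.Helper26.HensIdem1

namespace Groth.Agent.Helper26.HensIdem

open Polynomial

universe u
variable {A : Type u} [CommRing A] (I : Ideal A)

theorem exists_b (f : A[X]) (a₀ : A) (hfa : f.eval a₀ ∈ I)
    (hu : IsUnit (Ideal.Quotient.mk I (f.derivative.eval a₀)))
    {B : Type u} [CommRing B] [Algebra A B] (t : B) (hft : aeval t f = 0)
    (ev : B →ₐ[A] A ⧸ I) (hevt : ev t = Ideal.Quotient.mk I a₀) :
    ∃ b : B, b * b - b ∈ Ideal.map (algebraMap A B) I ∧
      (t - algebraMap A B a₀) * b ∈ Ideal.map (algebraMap A B) I ∧ ev b = 1 := by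
  set g := f /ₘ (X - C a₀) with hg
  set h := g /ₘ (X - C a₀) with hh
  have hdf : f = (X - C a₀) * g + C (f.eval a₀) := div_X_sub_C f a₀
  have hdg : g = (X - C a₀) * h + C (g.eval a₀) := div_X_sub_C g a₀
  have hga : g.eval a₀ = f.derivative.eval a₀ := by
    have := congrArg (fun q => (derivative q).eval a₀) hdf
    simp only [derivative_add, derivative_mul, derivative_sub, derivative_X, derivative_C,
      sub_zero, one_mul, eval_add, eval_mul, eval_sub, eval_X, eval_C, sub_self, zero_mul,
      add_zero] at this
    exact this.symm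
  obtain ⟨v, hv⟩ := hu.exists_left_inv
  obtain ⟨u', rfl⟩ := Ideal.Quotient.mk_surjective v
  have hu'I : u' * g.eval a₀ - 1 ∈ I := by
    rw [← Ideal.Quotient.eq_zero_iff_mem, map_sub, map_mul, map_one, hga, hv, sub_self]
  have hft' : (t - algebraMap A B a₀) * aeval t g = - algebraMap A B (f.eval a₀) := by
    have := congrArg (aeval t) hdf
    simp only [hft, map_add, map_mul, map_sub, aeval_X, aeval_C] at this
    linear_combination (-1 : B) * this
  have hgt : aeval t g = (t - algebraMap A B a₀) * aeval t h + algebraMap A B (g.eval a₀) := by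
    have := congrArg (aeval t) hdg
    simpa only [map_add, map_mul, map_sub, aeval_X, aeval_C] using this
  set b : B := algebraMap A B u' * aeval t g with hb
  have h2 : (t - algebraMap A B a₀) * b = algebraMap A B (- (u' * f.eval a₀)) := by
    rw [hb, map_neg, map_mul]
    linear_combination (algebraMap A B u') * hft'
  have h2' : (t - algebraMap A B a₀) * b ∈ Ideal.map (algebraMap A B) I := by
    rw [h2]
    exact Ideal.mem_map_of_mem _ (I.neg_mem (I.mul_mem_left _ hfa))
  refine ⟨b, ?_, h2', ?_⟩
  · have : b * b - b = algebraMap A B (u' * g.eval a₀ - 1) * b +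
        (algebraMap A B u' * aeval t h) * ((t - algebraMap A B a₀) * b) := by
      rw [map_sub, map_mul, map_one]
      conv_lhs => rw [hb]
      rw [hb] at *
      linear_combination (algebraMap A B u' * (algebraMap A B u' * aeval t g)) * hgt
    rw [this]
    exact Ideal.add_mem _ (Ideal.mul_mem_right _ _ (Ideal.mem_map_of_mem _ hu'I))
      (Ideal.mul_mem_left _ _ h2')
  · rw [hb, map_mul, AlgHom.commutes, ← Polynomial.aeval_algHom_apply, hevt,
      Ideal.Quotient.algebraMap_eq]
    have : aeval (Ideal.Quotient.mk I a₀) g = Ideal.Quotient.mk I (g.eval a₀) := by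
      rw [← Ideal.Quotient.algebraMap_eq, Polynomial.aeval_algebraMap_apply_eq_algebraMap_eval]
    rw [this, hga, hv]

end Groth.Agent.Helper26.HensIdem

namespace Groth.Agent.Helper26.HensIdem

open Polynomial

universe u
variable {A : Type u} [CommRing A] (I : Ideal A)

theorem exists_p {B : Type u} [CommRing B] [Algebra A B] [Module.Finite A B] (b : B)
    (hb : b * b - b ∈ Ideal.map (algebraMap A B) I) :
    ∃ (m : ℕ) (p : A[X]), p.Monic ∧
      p.map (Ideal.Quotient.mk I) = Polynomial.map (Ideal.Quotient.mk I) ((X ^ 2 - X) ^ m) ∧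
      aeval b p = 0 := by
  set x : B := b * b - b with hx
  have hrange : LinearMap.range (Algebra.lmul A B x) ≤ I • (⊤ : Submodule A B) := by
    rintro _ ⟨y, rfl⟩
    rw [Ideal.smul_top_eq_map]
    exact Ideal.mul_mem_right _ _ hb
  obtain ⟨q, hqm, -, hqc, hq0⟩ :=
    LinearMap.exists_monic_and_natDegree_eq_and_coeff_mem_pow_and_aeval_eq_zero A
      (Algebra.lmul A B x) I hrange
  have hq0' : aeval x q = 0 := by
    rw [Polynomial.aeval_algHom_apply (Algebra.lmul A B) x q] at hq0
    have := congrArg (fun f => f 1) hq0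
    simpa using this
  refine ⟨q.natDegree, q.comp (X ^ 2 - X), ?_, ?_, ?_⟩
  · rcases subsingleton_or_nontrivial A with hA | hA
    · exact Subsingleton.elim _ _
    · apply hqm.comp
      · exact Polynomial.monic_X_pow_sub (by rw [degree_X]; norm_num)
      · rw [Polynomial.natDegree_sub_eq_left_of_natDegree_lt] <;> simp
  · have hqmap : q.map (Ideal.Quotient.mk I) = X ^ q.natDegree := by
      ext k
      rw [coeff_map, coeff_X_pow]
      split_ifs with hk
      · rw [hk, hqm.coeff_natDegree, map_one]
      · rcases lt_or_gt_of_ne hk with hlt | hgt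
        · rw [Ideal.Quotient.eq_zero_iff_mem]
          exact Ideal.pow_le_self (by omega) (hqc k)
        · rw [Polynomial.coeff_eq_zero_of_natDegree_lt hgt, map_zero]
    rw [Polynomial.map_comp, hqmap, Polynomial.X_pow_comp, Polynomial.map_pow]
  · rw [Polynomial.aeval_comp]
    have : aeval b (X ^ 2 - X : A[X]) = x := by
      simp only [map_sub, map_pow, aeval_X, hx]; ring
    rw [this, hq0']

end Groth.Agent.Helper26.HensIdem
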