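import Mathlib
import Groth.Agent.Lib.Helper26.HensIdem2

namespace Groth.Agent.Helper26.HensIdem

open Polynomial

universe u
variable {A : Type u} [CommRing A] (I : Ideal A)

theorem aeval_mem_map {B : Type u} [CommRing B] [Algebra A B] (r : A[X])
    (hr : ∀ k, r.coeff k ∈ I) (y : B) : aeval y r ∈ Ideal.map (algebraMap A B) I := by
  rw [Polynomial.aeval_eq_sum_range]
  apply Ideal.sum_mem
  intro k _
  rw [Algebra.smul_def]
  exact Ideal.mul_mem_right _ _ (Ideal.mem_map_of_mem _ (hr k))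

theorem algHom_mem_map {B B' : Type u} [CommRing B] [Algebra A B] [CommRing B'] [Algebra A B']
    (φ : B' →ₐ[A] B) {z : B'} (hz : z ∈ Ideal.map (algebraMap A B') I) :
    φ z ∈ Ideal.map (algebraMap A B) I := by
  have h1 : φ z ∈ Ideal.map φ.toRingHom (Ideal.map (algebraMap A B') I) :=
    Ideal.mem_map_of_mem φ.toRingHom hz
  rw [Ideal.map_map] at h1
  have : φ.toRingHom.comp (algebraMap A B') = algebraMap A B := φ.comp_algebraMap
  rw [this] at h1
  exact h1

/-- the idempotent lifting `b` -/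
theorem exists_e
    (h : ∀ (m : ℕ) (p : Polynomial A), p.Monic →
      Polynomial.map (Ideal.Quotient.mk I) p =
        Polynomial.map (Ideal.Quotient.mk I) ((Polynomial.X ^ 2 - Polynomial.X) ^ m) →
      Set.SurjOn (Ideal.Quotient.mk (Ideal.map (algebraMap A (AdjoinRoot p)) I))
        {e : AdjoinRoot p | IsIdempotentElem e} {e | IsIdempotentElem e})
    {B : Type u} [CommRing B] [Algebra A B] [Module.Finite A B] (b : B)
    (hb : b * b - b ∈ Ideal.map (algebraMap A B) I) :
    ∃ e : B, IsIdempotentElem e ∧ e - b ∈ Ideal.map (algebraMap A B) I := by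
  obtain ⟨m, p, hpm, hpmap, hpb⟩ := exists_p I b hb
  set B' := AdjoinRoot p with hB'
  set IB' := Ideal.map (algebraMap A B') I with hIB'
  set τ : B' := AdjoinRoot.root p with hτ
  have hτ0 : aeval τ p = 0 := by rw [hτ, AdjoinRoot.aeval_eq, AdjoinRoot.mk_self]
  have hnil : (τ * τ - τ) ^ m ∈ IB' := by
    have h1 : aeval τ ((X ^ 2 - X) ^ m - p : A[X]) ∈ IB' := by
      apply aeval_mem_map
      intro k
      rw [← Ideal.Quotient.eq_zero_iff_mem, ← Polynomial.coeff_map, Polynomial.map_sub, hpmap,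
        sub_self, coeff_zero]
    have h2 : aeval τ ((X ^ 2 - X) ^ m - p : A[X]) = (τ * τ - τ) ^ m := by
      simp only [map_sub, map_pow, aeval_X, hτ0, sub_zero]; ring
    rwa [h2] at h1
  set π := Ideal.Quotient.mk IB' with hπ
  set n := π τ * π τ - π τ with hn
  have hnm : n ^ m = 0 := by
    rw [hn, ← map_mul, ← map_sub, ← map_pow]
    exact Ideal.Quotient.eq_zero_iff_mem.2 hnil
  set K := Ideal.span {n} with hK
  set ψ := Ideal.Quotient.mk K with hψ
  have hker : ∀ x ∈ RingHom.ker ψ, IsNilpotent x := by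
    intro x hx
    rw [hψ, Ideal.mk_ker, hK, Ideal.mem_span_singleton] at hx
    obtain ⟨y, rfl⟩ := hx
    exact ⟨m, by rw [mul_pow, hnm, zero_mul]⟩
  have hidem : IsIdempotentElem (ψ (π τ)) := by
    unfold IsIdempotentElem
    rw [← map_mul, ← sub_eq_zero, ← map_sub, hψ, Ideal.Quotient.eq_zero_iff_mem]
    exact Ideal.subset_span rfl
  obtain ⟨εb, hεb, hεb'⟩ := exists_isIdempotentElem_eq_of_ker_isNilpotent ψ hker (ψ (π τ))
    ⟨π τ, rfl⟩ hidem
  have hmemK : εb - π τ ∈ K := by
    rw [← Ideal.Quotient.eq_zero_iff_mem, ← hψ, map_sub, hεb', sub_self]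
  rw [hK, Ideal.mem_span_singleton] at hmemK
  obtain ⟨yb, hyb⟩ := hmemK
  obtain ⟨ε, hε, hεπ⟩ := h m p hpm hpmap hεb
  obtain ⟨y, rfl⟩ := Ideal.Quotient.mk_surjective yb
  have hmem : ε - τ - (τ * τ - τ) * y ∈ IB' := by
    rw [← Ideal.Quotient.eq_zero_iff_mem]
    simp only [map_sub, map_mul]
    change π ε - π τ - (π τ * π τ - π τ) * π y = 0
    rw [hεπ, hyb, hn, sub_self]
  set φ : B' →ₐ[A] B := AdjoinRoot.liftAlgHom p (Algebra.ofId A B) b
    (by rw [← hpb]; rfl) with hφ
  have hφτ : φ τ = b := AdjoinRoot.liftAlgHom_root _ _ _ _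
  refine ⟨φ ε, hε.map φ, ?_⟩
  have h1 := algHom_mem_map I φ hmem
  simp only [map_sub, map_mul, hφτ] at h1
  have h2 : φ ε - b = (φ ε - b - (b * b - b) * φ y) + (b * b - b) * φ y := by ring
  rw [h2]
  exact Ideal.add_mem _ h1 (Ideal.mul_mem_right _ _ hb)

theorem main (hI : I ≤ Ideal.jacobson ⊥)
    (h : ∀ (m : ℕ) (p : Polynomial A), p.Monic →
      Polynomial.map (Ideal.Quotient.mk I) p =
        Polynomial.map (Ideal.Quotient.mk I) ((Polynomial.X ^ 2 - Polynomial.X) ^ m) →
      Set.SurjOn (Ideal.Quotient.mk (Ideal.map (algebraMap A (AdjoinRoot p)) I))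
        {e : AdjoinRoot p | IsIdempotentElem e} {e | IsIdempotentElem e}) :
    HenselianRing A I := by
  refine ⟨hI, ?_⟩
  intro f hf a₀ hfa hu
  set B := AdjoinRoot f with hB
  have hfin : Module.Finite A B := hf.finite_adjoinRoot
  have hfree : Module.Free A B := hf.free_adjoinRoot
  set t : B := AdjoinRoot.root f with ht
  have hft : aeval t f = 0 := by rw [ht, AdjoinRoot.aeval_eq, AdjoinRoot.mk_self]
  set ev : B →ₐ[A] A ⧸ I := AdjoinRoot.liftAlgHom f (Algebra.ofId A (A ⧸ I)) (Ideal.Quotient.mk I a₀)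
    (by
      have : aeval (Ideal.Quotient.mk I a₀) f = Ideal.Quotient.mk I (f.eval a₀) := by
        rw [← Ideal.Quotient.algebraMap_eq, Polynomial.aeval_algebraMap_apply_eq_algebraMap_eval]
      have h0 : aeval (Ideal.Quotient.mk I a₀) f = 0 := by
        rw [this]; exact Ideal.Quotient.eq_zero_iff_mem.2 hfa
      rw [← h0]; rfl) with hev
  have hevt : ev t = Ideal.Quotient.mk I a₀ := AdjoinRoot.liftAlgHom_root _ _ _ _
  obtain ⟨b, hb1, hb2, hb3⟩ := exists_b I f a₀ hfa hu t hft ev hevt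
  obtain ⟨e, he, heb⟩ := exists_e I h b hb1
  have heve : ev e = 1 := by
    have := ev_eq_zero_of_mem I ev heb
    rw [map_sub, hb3, sub_eq_zero] at this
    exact this
  have hte : (t - algebraMap A B a₀) * e ∈ Ideal.map (algebraMap A B) I := by
    have : (t - algebraMap A B a₀) * e = (t - algebraMap A B a₀) * b +
        (t - algebraMap A B a₀) * (e - b) := by ring
    rw [this]
    exact Ideal.add_mem _ hb2 (Ideal.mul_mem_left _ _ heb)
  obtain ⟨a, ha1, ha2, ha3⟩ := partA I hI t AdjoinRoot.adjoinRoot_eq_top a₀ e he ev hevt heve hte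
  exact ⟨a, root_of_partA t e a ha1 ha3 f hft, ha2⟩

end Groth.Agent.Helper26.HensIdem
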