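import Mathlib
import Groth.Agent.Lib.Helper1.TP3

/-!
# Henselian local rings via finiteness of quasi-finite localizations (helper26)
-/

set_option autoImplicit false
set_option linter.unusedSectionVars false
set_option linter.style.haveILetI false

namespace Groth.Agent.Helper26.HensQF

universe u
open IsLocalRing Polynomial

theorem aeval_sub_mem' {R S : Type u} [CommRing R] [CommRing S] [Algebra R S]
    (I : Ideal S) (ξ : S) (x₀ : R) (h : ξ - algebraMap R S x₀ ∈ I) (p : R[X]) :
    aeval ξ p - algebraMap R S (p.eval x₀) ∈ I := by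
  have h1 : aeval ξ p = (p.map (algebraMap R S)).eval ξ := by
    rw [Polynomial.eval_map, Polynomial.aeval_def]
  have h2 : algebraMap R S (p.eval x₀) = (p.map (algebraMap R S)).eval (algebraMap R S x₀) := by
    rw [Polynomial.eval_map, Polynomial.eval₂_at_apply]
  rw [h1, h2]
  exact Ideal.mem_of_dvd I (Polynomial.sub_dvd_eval_sub _ _ _) h

/-- a local ring is henselian if localizations of finite free algebras at primes over the
maximal ideal are finite -/
theorem henselian_of_finite_localization (R : Type u) [CommRing R] [IsLocalRing R]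
    (H : ∀ (T : Type u) [CommRing T] [Algebra R T] [Module.Finite R T] [Module.Free R T]
      (q : Ideal T) [q.IsPrime], q.LiesOver (maximalIdeal R) →
      Module.Finite R (Localization.AtPrime q)) : HenselianLocalRing R := by
  refine ⟨fun f hf a₀ h₁ h₂ => ?_⟩
  let k := ResidueField R
  let T := AdjoinRoot f
  haveI : Module.Finite R T := hf.finite_adjoinRoot
  haveI : Module.Free R T := hf.free_adjoinRoot
  have hχ0 : f.eval₂ (Algebra.ofId R k) (residue R a₀) = 0 := by
    have : f.eval₂ (Algebra.ofId R k) (residue R a₀) = residue R (f.eval a₀) := by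
      change f.eval₂ (algebraMap R k) (algebraMap R k a₀) = algebraMap R k (f.eval a₀)
      rw [Polynomial.eval₂_at_apply]
    rw [this]
    exact (residue_eq_zero_iff _).2 h₁
  let χ : T →ₐ[R] k := AdjoinRoot.liftAlgHom f (Algebra.ofId R k) (residue R a₀) hχ0
  have hχroot : χ (AdjoinRoot.root f) = residue R a₀ := AdjoinRoot.liftAlgHom_root f _ _ _
  let q : Ideal T := RingHom.ker χ.toRingHom
  haveI : q.IsPrime := RingHom.ker_isPrime _
  have hqover : q.LiesOver (maximalIdeal R) := by
    constructor
    ext r
    change r ∈ maximalIdeal R ↔ χ (algebraMap R T r) = 0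
    rw [χ.commutes]
    exact (residue_eq_zero_iff r).symm
  let Tq := Localization.AtPrime q
  haveI hfinTq : Module.Finite R Tq := H T q hqover
  let x : Tq := algebraMap T Tq (AdjoinRoot.root f)
  let a₀' : Tq := algebraMap R Tq a₀
  let I : Ideal Tq := (maximalIdeal R).map (algebraMap R Tq)
  -- `I` lies in the maximal ideal
  have hI : I ≤ maximalIdeal Tq := by
    rw [Ideal.map_le_iff_le_comap]
    intro r hr
    rw [Ideal.mem_comap, IsScalarTower.algebraMap_apply R T Tq,
      ← Localization.AtPrime.map_eq_maximalIdeal]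
    apply Ideal.mem_map_of_mem
    change χ (algebraMap R T r) = 0
    rw [χ.commutes]
    exact (residue_eq_zero_iff r).2 hr
  have hy_max : x - a₀' ∈ maximalIdeal Tq := by
    rw [← Localization.AtPrime.map_eq_maximalIdeal]
    have : x - a₀' = algebraMap T Tq (AdjoinRoot.root f - algebraMap R T a₀) := by
      rw [map_sub, ← IsScalarTower.algebraMap_apply]
    rw [this]
    apply Ideal.mem_map_of_mem
    change χ (AdjoinRoot.root f - algebraMap R T a₀) = 0
    rw [map_sub, hχroot, χ.commutes]
    exact sub_self (residue R a₀)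
  -- the Taylor expansion
  have hy : x - a₀' ∈ I := by
    obtain ⟨c, hc⟩ := Polynomial.binomExpansion (f.map (algebraMap R Tq)) a₀' (x - a₀')
    have h0 : (f.map (algebraMap R Tq)).eval (a₀' + (x - a₀')) = 0 := by
      rw [add_sub_cancel, Polynomial.eval_map, ← Polynomial.aeval_def]
      change aeval (algebraMap T Tq (AdjoinRoot.root f)) f = 0
      rw [Polynomial.aeval_algebraMap_apply, AdjoinRoot.aeval_eq, AdjoinRoot.mk_self, map_zero]
    rw [h0] at hc
    have h3 : (f.map (algebraMap R Tq)).eval a₀' = algebraMap R Tq (f.eval a₀) := by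
      rw [Polynomial.eval_map, Polynomial.eval₂_at_apply]
    have h4 : (f.map (algebraMap R Tq)).derivative.eval a₀' =
        algebraMap R Tq (f.derivative.eval a₀) := by
      rw [Polynomial.derivative_map, Polynomial.eval_map, Polynomial.eval₂_at_apply]
    rw [h3, h4] at hc
    set u : Tq := algebraMap R Tq (f.derivative.eval a₀) + c * (x - a₀') with hu
    have huu : IsUnit u := by
      by_contra hnu
      have h5 : u ∈ maximalIdeal Tq := (IsLocalRing.mem_maximalIdeal _).2 hnu
      have h6 : algebraMap R Tq (f.derivative.eval a₀) ∈ maximalIdeal Tq := by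
        have : algebraMap R Tq (f.derivative.eval a₀) = u - c * (x - a₀') := by rw [hu]; ring
        rw [this]
        exact Ideal.sub_mem _ h5 (Ideal.mul_mem_left _ _ hy_max)
      exact (IsLocalRing.mem_maximalIdeal _).1 h6 (h₂.map _)
    have h7 : (x - a₀') * u = -algebraMap R Tq (f.eval a₀) := by
      rw [hu]
      linear_combination -hc
    obtain ⟨v, hv⟩ := huu.exists_right_inv
    have h8 : x - a₀' = -algebraMap R Tq (f.eval a₀) * v := by
      rw [← h7, mul_assoc, hv, mul_one]
    rw [h8]
    exact Ideal.mul_mem_right _ _ ((Ideal.neg_mem_iff _).2 (Ideal.mem_map_of_mem _ h₁))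
  -- every element of `T` is congruent to an element of `R`
  have hT : ∀ t : T, ∃ r : R, algebraMap T Tq t - algebraMap R Tq r ∈ I := by
    intro t
    obtain ⟨p, rfl⟩ := AdjoinRoot.mk_surjective t
    refine ⟨p.eval a₀, ?_⟩
    have : algebraMap T Tq (AdjoinRoot.mk f p) = aeval x p := by
      rw [← AdjoinRoot.aeval_eq, ← Polynomial.aeval_algebraMap_apply]
    rw [this]
    exact aeval_sub_mem' I x a₀ hy p
  -- `R → Tq` is local
  haveI hlocal : IsLocalHom (algebraMap R Tq) := ⟨fun r hr => by
    by_contra hnu
    have h1 : r ∈ maximalIdeal R := (IsLocalRing.mem_maximalIdeal _).2 hnu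
    exact (IsLocalRing.mem_maximalIdeal _).1 (hI (Ideal.mem_map_of_mem _ h1)) hr⟩
  have hTq : ∀ z : Tq, ∃ r : R, z - algebraMap R Tq r ∈ I := by
    intro z
    obtain ⟨t, s, rfl⟩ := IsLocalization.exists_mk'_eq q.primeCompl z
    obtain ⟨r, hr⟩ := hT t
    obtain ⟨r', hr'⟩ := hT s
    have hsu : IsUnit (algebraMap T Tq s) := IsLocalization.map_units Tq s
    have hr'u : IsUnit (algebraMap R Tq r') := by
      by_contra hnu
      have h5 : algebraMap R Tq r' ∈ maximalIdeal Tq := (IsLocalRing.mem_maximalIdeal _).2 hnu
      have h6 : algebraMap T Tq s ∈ maximalIdeal Tq := by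
        have : algebraMap T Tq s = (algebraMap T Tq s - algebraMap R Tq r') + algebraMap R Tq r' := by
          ring
        rw [this]
        exact Ideal.add_mem _ (hI hr') h5
      exact (IsLocalRing.mem_maximalIdeal _).1 h6 hsu
    have hr'R : IsUnit r' := isUnit_of_map_unit (algebraMap R Tq) r' hr'u
    obtain ⟨w, hw⟩ := hr'R.exists_right_inv
    refine ⟨r * w, ?_⟩
    set z := IsLocalization.mk' Tq t s with hz
    have hzs : z * algebraMap T Tq s = algebraMap T Tq t := IsLocalization.mk'_spec Tq t s
    have hww : algebraMap R Tq r' * algebraMap R Tq w = 1 := by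
      rw [← map_mul, hw, map_one]
    have key : z - algebraMap R Tq (r * w) =
        algebraMap R Tq w * ((algebraMap T Tq t - algebraMap R Tq r) -
          z * (algebraMap T Tq s - algebraMap R Tq r')) := by
      rw [map_mul, ← hzs]
      linear_combination (-z) * hww
    rw [key]
    exact Ideal.mul_mem_left _ _ (Ideal.sub_mem _ hr (Ideal.mul_mem_left _ _ hr'))
  -- surjectivity by Nakayama
  have hsurj : Function.Surjective (algebraMap R Tq) := by
    let N : Submodule R Tq := LinearMap.range (Algebra.linearMap R Tq)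
    have hle : (⊤ : Submodule R Tq) ≤ N ⊔ (maximalIdeal R) • (⊤ : Submodule R Tq) := by
      intro z _
      obtain ⟨r, hr⟩ := hTq z
      have h1 : z - algebraMap R Tq r ∈ (maximalIdeal R) • (⊤ : Submodule R Tq) := by
        have h2 : ((maximalIdeal R) • (⊤ : Submodule R Tq)) =
            I.restrictScalars R := by
          rw [Ideal.smul_top_eq_map]
        rw [h2]
        exact hr
      have : z = algebraMap R Tq r + (z - algebraMap R Tq r) := by ring
      rw [this]
      exact Submodule.add_mem _ (Submodule.mem_sup_left ⟨r, rfl⟩) (Submodule.mem_sup_right h1)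
    have hN : (⊤ : Submodule R Tq) ≤ N :=
      Submodule.le_of_le_smul_of_le_jacobson_bot (Module.Finite.fg_top)
        (IsLocalRing.maximalIdeal_le_jacobson _) hle
    intro z
    obtain ⟨r, hr⟩ := hN (Submodule.mem_top (x := z))
    exact ⟨r, hr⟩
  -- injectivity by faithful flatness
  haveI : Module.Flat R Tq := Module.Flat.trans R T Tq
  haveI : Module.FaithfullyFlat R Tq := Module.FaithfullyFlat.of_flat_of_isLocalHom
  have hinj : Function.Injective (algebraMap R Tq) := FaithfulSMul.algebraMap_injective R Tq
  obtain ⟨a, ha⟩ := hsurj x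
  refine ⟨a, ?_, ?_⟩
  · apply hinj
    rw [map_zero]
    have : algebraMap R Tq (f.eval a) = (f.map (algebraMap R Tq)).eval (algebraMap R Tq a) := by
      rw [Polynomial.eval_map, Polynomial.eval₂_at_apply]
    rw [this, ha, Polynomial.eval_map, ← Polynomial.aeval_def]
    change aeval (algebraMap T Tq (AdjoinRoot.root f)) f = 0
    rw [Polynomial.aeval_algebraMap_apply, AdjoinRoot.aeval_eq, AdjoinRoot.mk_self, map_zero]
  · by_contra hnm
    have hu : IsUnit (a - a₀) := by
      by_contra hnu
      exact hnm ((IsLocalRing.mem_maximalIdeal _).2 hnu)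
    have h9 : IsUnit (algebraMap R Tq (a - a₀)) := hu.map _
    rw [map_sub, ha] at h9
    exact (IsLocalRing.mem_maximalIdeal _).1 hy_max h9

end Groth.Agent.Helper26.HensQF
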