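import Mathlib

set_option autoImplicit false
universe u

namespace Groth.Agent.Lib.Helper26.Herm2

open Matrix

/-- core computation: a skew-hermitian `2 × 2` form with suitable square root is standard -/
theorem core {C : Type u} [CommRing C] (Λ : C →+* C) (hΛ : ∀ x, Λ (Λ x) = x)
    (a b c d η u binv ηinv half : C)
    (ha : Λ a = -a) (hd : Λ d = -d) (hc : c = -Λ b)
    (hη : Λ η = η) (hu : Λ u = u) (hηinv : Λ ηinv = ηinv) (hhalf : Λ half = half)
    (hb : b * binv = 1) (hηη : η * ηinv = 1) (h2 : 2 * half = 1)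
    (hsq : η * η = 1 + a * (d * Λ binv * binv)) (hu1 : (1 + η) * u = 1) :
    ∃ v : Matrix (Fin 2) (Fin 2) C, IsUnit v ∧
      (v.map Λ)ᵀ * !![a, b; c, d] * v = !![0, 1; -1, 0] := by
  have hΛb : Λ b * Λ binv = 1 := by rw [← map_mul, hb, map_one]
  obtain ⟨x, hx⟩ : ∃ x : C, x = -a * u * binv := ⟨_, rfl⟩
  have hΛx : Λ x = a * u * Λ binv := by
    rw [hx, map_mul, map_mul, map_neg, ha, hu]; ring
  obtain ⟨βinv, hβinv⟩ : ∃ y : C, y = binv * ηinv := ⟨_, rfl⟩
  have hΛβinv : Λ βinv = Λ binv * ηinv := by rw [hβinv, map_mul, hηinv]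
  obtain ⟨e, he⟩ : ∃ y : C, y = Λ βinv * d * βinv := ⟨_, rfl⟩
  have hΛe : Λ e = -e := by
    rw [he, map_mul, map_mul, hΛ, hd]; ring
  obtain ⟨z, hz⟩ : ∃ y : C, y = e * half := ⟨_, rfl⟩
  have hΛz : Λ z = -z := by rw [hz, map_mul, hΛe, hhalf]; ring
  -- key identities
  have k1 : a * u * Λ binv * d = b * (η - 1) := by
    have : (η - 1) = a * (d * Λ binv * binv) * u := by
      have h1 : (η - 1) * ((1 + η) * u) = η - 1 := by rw [hu1, mul_one]
      have h2' : (η - 1) * (1 + η) = a * (d * Λ binv * binv) := by linear_combination hsq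
      calc η - 1 = (η - 1) * ((1 + η) * u) := h1.symm
        _ = ((η - 1) * (1 + η)) * u := by ring
        _ = a * (d * Λ binv * binv) * u := by rw [h2']
    rw [this]
    linear_combination (-(a * u * Λ binv * d)) * hb
  have hβ : b + Λ x * d = b * η := by rw [hΛx, k1]; ring
  have h11 : a + b * x + Λ x * c + Λ x * d * x = 0 := by
    rw [hΛx, hc, hx]
    have e1 : a * u * Λ binv * (-Λ b) = -(a * u) := by linear_combination (-(a * u)) * hΛb
    have e2 : b * (-a * u * binv) = -(a * u) := by linear_combination (-(a * u)) * hb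
    have e3 : a * u * Λ binv * d * (-a * u * binv) = -(a * u * u) * (a * (d * Λ binv * binv)) := by ring
    have hP : a * (d * Λ binv * binv) = η * η - 1 := by linear_combination (-1 : C) * hsq
    rw [e1, e2, e3, hP]
    linear_combination (-(a * (u * (η - 1) + 1))) * hu1
  have hββ : (b * η) * βinv = 1 := by
    rw [hβinv]
    linear_combination (η * ηinv) * hb + hηη
  have hΛββ : Λ (b * η) * Λ βinv = 1 := by rw [← map_mul, hββ, map_one]
  -- the four entries
  have E12 : (a + Λ x * c) * z + (b + Λ x * d) * (βinv + z * x) = 1 := by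
    have : (a + Λ x * c) * z + (b + Λ x * d) * (βinv + z * x) =
        z * (a + b * x + Λ x * c + Λ x * d * x) + (b + Λ x * d) * βinv := by ring
    rw [this, h11, hβ, hββ]; ring
  have hcd : c + d * x = -Λ (b * η) := by
    rw [← hβ, map_add, map_mul, hΛ, hd, hc, hx]; ring
  have E21 : (Λ z * a + Λ (βinv + z * x) * c) + (Λ z * b + Λ (βinv + z * x) * d) * x = -1 := by
    have : (Λ z * a + Λ (βinv + z * x) * c) + (Λ z * b + Λ (βinv + z * x) * d) * x =
        Λ z * (a + b * x + Λ x * c + Λ x * d * x) + Λ βinv * (c + d * x) := by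
      simp only [map_add, map_mul]; ring
    rw [this, h11, hcd]
    linear_combination (-1 : C) * hΛββ
  have E22 : (Λ z * a + Λ (βinv + z * x) * c) * z + (Λ z * b + Λ (βinv + z * x) * d) * (βinv + z * x) = 0 := by
    have : (Λ z * a + Λ (βinv + z * x) * c) * z + (Λ z * b + Λ (βinv + z * x) * d) * (βinv + z * x) =
        Λ z * z * (a + b * x + Λ x * c + Λ x * d * x) + Λ z * ((b + Λ x * d) * βinv)
          + z * (Λ βinv * (c + d * x)) + Λ βinv * d * βinv := by
      simp only [map_add, map_mul]; ring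
    rw [this, h11, hβ, hββ, hcd, hΛz]
    have h3 : Λ βinv * -Λ (b * η) = -1 := by linear_combination (-1 : C) * hΛββ
    rw [h3, ← he, hz]
    linear_combination (-e) * h2
  refine ⟨!![1, z; x, βinv + z * x], ?_, ?_⟩
  · rw [Matrix.isUnit_iff_isUnit_det, Matrix.det_fin_two_of]
    have : (1 : C) * (βinv + z * x) - z * x = βinv := by ring
    rw [this]
    exact IsUnit.of_mul_eq_one _ (by rw [mul_comm]; exact hββ)
  · ext i j
    fin_cases i <;> fin_cases j
    · have h11' : a + Λ x * c + (b + Λ x * d) * x = 0 := by linear_combination h11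
      simpa [Matrix.mul_apply, Fin.sum_univ_two] using h11'
    · simpa [Matrix.mul_apply, Fin.sum_univ_two] using E12
    · simpa [Matrix.mul_apply, Fin.sum_univ_two] using E21
    · simpa [Matrix.mul_apply, Fin.sum_univ_two] using E22

end Groth.Agent.Lib.Helper26.Herm2
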