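import Mathlib
import Groth.Prelude.Def_W4c2azumayainvolQEt
import Groth.Agent.Lib.Helper26.Herm2a

set_option autoImplicit false
universe u v

namespace Groth.Agent.Lib.Helper26.Herm2

open Matrix
open scoped TensorProduct

section fixed

variable {B : Type u} {A : Type v} [CommRing B] [CommRing A] [Algebra B A] (lam : A ≃ₐ[B] A)
  (hB : RInv.IsFixedRing B A lam.toRingEquiv)

include hB in
theorem exists_of_fixed (x : A) (hx : lam x = x) : ∃ y : B, algebraMap B A y = x :=
  (hB.2 x).mp hx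

theorem lam_inv_of_fixed (x y : A) (hx : lam x = x) (hxy : x * y = 1) : lam y = y := by
  have h1 : x * lam y = 1 := by rw [← hx, ← map_mul, hxy, map_one]
  calc lam y = (y * x) * lam y := by rw [mul_comm y x, hxy, one_mul]
    _ = y * (x * lam y) := by ring
    _ = y := by rw [h1, mul_one]

include hB in
/-- a fixed unit comes from a unit of `B` -/
theorem exists_unit_of_fixed (x y : A) (hx : lam x = x) (hxy : x * y = 1) :
    ∃ s : Bˣ, algebraMap B A s = x := by
  obtain ⟨s₀, hs₀⟩ := exists_of_fixed lam hB x hx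
  obtain ⟨s₁, hs₁⟩ := exists_of_fixed lam hB y (lam_inv_of_fixed lam x y hx hxy)
  have h : s₀ * s₁ = 1 := hB.1 (by rw [map_mul, hs₀, hs₁, hxy, map_one])
  exact ⟨⟨s₀, s₁, h, by rw [mul_comm]; exact h⟩, hs₀⟩

end fixed

section quot

variable {B : Type u} [CommRing B] (s t : B)

/-- the ring `B[X, Y]/(X² - s, Y² - t)` -/
abbrev Bq : Type u := MvPolynomial (Fin 2) B ⧸ Ideal.span ({MvPolynomial.X 0 ^ 2 - MvPolynomial.C s,
  MvPolynomial.X 1 ^ 2 - MvPolynomial.C t} : Set (MvPolynomial (Fin 2) B))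

/-- the class of `X` -/
noncomputable def Xb : Bq s t := Ideal.Quotient.mk _ (MvPolynomial.X 0)

theorem Xb_sq : Xb s t * Xb s t = algebraMap B (Bq s t) s := by
  unfold Xb
  rw [← map_mul, ← pow_two]
  change _ = Ideal.Quotient.mk _ (MvPolynomial.C s)
  rw [Ideal.Quotient.eq]
  exact Ideal.subset_span (by simp)

end quot

end Groth.Agent.Lib.Helper26.Herm2

namespace Groth.Agent.Lib.Helper26.Herm2

open Matrix
open scoped TensorProduct

section tensor

variable {B : Type u} {A : Type v} [CommRing B] [CommRing A] [Algebra B A] (lam : A ≃ₐ[B] A)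
  (hlam : ∀ a, lam (lam a) = a)
  (L : Type u) [CommRing L] [Algebra B L]

/-- the involution on `L ⊗ A` -/
noncomputable abbrev Lam : (L ⊗[B] A) ≃ₐ[L] (L ⊗[B] A) :=
  Algebra.TensorProduct.congr (AlgEquiv.refl : L ≃ₐ[L] L) lam

theorem Lam_tmul (p : L) (x : A) : Lam lam L (p ⊗ₜ[B] x) = p ⊗ₜ[B] lam x := by
  simp [Lam]

include hlam in
theorem Lam_Lam (x : L ⊗[B] A) : Lam lam L (Lam lam L x) = x := by
  induction x using TensorProduct.induction_on with
  | zero => simp
  | tmul p a => rw [Lam_tmul, Lam_tmul, hlam]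
  | add x y hx hy => rw [map_add, map_add, hx, hy]

/-- the map `A → L ⊗ A` -/
noncomputable abbrev inc : A →ₐ[B] L ⊗[B] A := Algebra.TensorProduct.includeRight

theorem Lam_inc (x : A) : Lam lam L (inc L x) = inc L (lam x) := by
  change Lam lam L ((1 : L) ⊗ₜ[B] x) = (1 : L) ⊗ₜ[B] lam x
  rw [Lam_tmul]

theorem Lam_left (p : L) : Lam lam L (p ⊗ₜ[B] (1 : A)) = p ⊗ₜ[B] (1 : A) := by
  rw [Lam_tmul, map_one]

theorem algebraMap_tmul_one (s : B) :
    (algebraMap B L s) ⊗ₜ[B] (1 : A) = (1 : L) ⊗ₜ[B] algebraMap B A s := by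
  rw [Algebra.algebraMap_eq_smul_one (A := L), Algebra.algebraMap_eq_smul_one (A := A),
    TensorProduct.smul_tmul]

include hlam in
theorem local_solution (h : Matrix (Fin 2) (Fin 2) A)
    (herm : -(h.map lam).transpose = h) (binv hA sA : A) (s : B)
    (hb : h 0 1 * binv = 1) (h2 : 2 * hA = 1) (hlamhA : lam hA = hA)
    (hsA : sA = 1 + h 0 0 * (h 1 1 * lam binv * binv)) (hs : algebraMap B A s = sA)
    (η u ηinv : L) (hηη : η * η = algebraMap B L s) (hu : (1 + η) * u = 1) (hηinv : η * ηinv = 1) :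
    ∃ v : Matrix (Fin 2) (Fin 2) (L ⊗[B] A), IsUnit v ∧
      (v.map (Lam lam L)).transpose * h.map (inc L) * v =
        (Matrix.of ![![(0 : A), 1], ![-1, 0]]).map (inc L) := by
  have e00 := congrFun (congrFun herm 0) 0
  have e11 := congrFun (congrFun herm 1) 1
  have e10 := congrFun (congrFun herm 1) 0
  simp only [Matrix.neg_apply, Matrix.transpose_apply, Matrix.map_apply] at e00 e11 e10
  have ha : lam (h 0 0) = -h 0 0 := by linear_combination (-1 : A) * e00
  have hd : lam (h 1 1) = -h 1 1 := by linear_combination (-1 : A) * e11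
  have hc : h 1 0 = -lam (h 0 1) := e10.symm
  obtain ⟨v, hv, hvv⟩ := core (C := L ⊗[B] A) (Lam lam L : (L ⊗[B] A) →+* (L ⊗[B] A))
    (Lam_Lam lam hlam L)
    (inc L (h 0 0)) (inc L (h 0 1)) (inc L (h 1 0)) (inc L (h 1 1))
    (η ⊗ₜ[B] 1) (u ⊗ₜ[B] 1) (inc L binv) (ηinv ⊗ₜ[B] 1) (inc L hA)
    (by change Lam lam L _ = _; rw [Lam_inc, ha, map_neg])
    (by change Lam lam L _ = _; rw [Lam_inc, hd, map_neg])
    (by change _ = -(Lam lam L _); rw [Lam_inc, hc, map_neg])
    (Lam_left lam L η) (Lam_left lam L u) (Lam_left lam L ηinv)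
    (by change Lam lam L _ = _; rw [Lam_inc, hlamhA])
    (by rw [← map_mul, hb, map_one])
    (by rw [Algebra.TensorProduct.tmul_mul_tmul, hηinv, mul_one]; rfl)
    (by
      have : (2 : L ⊗[B] A) = inc L (2 : A) := by rw [map_ofNat]
      rw [this, ← map_mul, h2, map_one])
    (by
      change _ = 1 + _ * (_ * (Lam lam L _) * _)
      rw [Lam_inc, ← map_mul, ← map_mul, ← map_mul, ← map_one (inc L), ← map_add, ← hsA, ← hs,
        Algebra.TensorProduct.tmul_mul_tmul, hηη, mul_one]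
      exact algebraMap_tmul_one L s)
    (by
      have : (1 : L ⊗[B] A) = (1 : L) ⊗ₜ[B] (1 : A) := rfl
      rw [this, ← TensorProduct.add_tmul, Algebra.TensorProduct.tmul_mul_tmul, hu, mul_one])
  refine ⟨v, hv, ?_⟩
  have h1 : h.map (inc (B := B) L) = !![inc (B := B) L (h 0 0), inc (B := B) L (h 0 1);
      inc (B := B) L (h 1 0), inc (B := B) L (h 1 1)] := by
    ext i j; fin_cases i <;> fin_cases j <;> rfl
  have h2' : (Matrix.of ![![(0 : A), 1], ![-1, 0]]).map (inc (B := B) L) = !![0, 1; -1, 0] := by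
    ext i j; fin_cases i <;> fin_cases j <;>
      simp [Algebra.TensorProduct.one_def, TensorProduct.tmul_neg]
  rw [h1, h2']
  exact hvv

end tensor

end Groth.Agent.Lib.Helper26.Herm2
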