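import Mathlib
import Groth.Prelude.Def_W4c2azumayainvolQEt
import Groth.Agent.Lib.Helper26.Herm2b

set_option autoImplicit false
universe u v

namespace Groth.Agent.Lib.Helper26.Herm2

open Matrix
open scoped TensorProduct

section

variable {B : Type u} [CommRing B] (s t : B)

theorem neg_Xb_sq : -Xb s t * -Xb s t = algebraMap B (Bq s t) s := by
  have h : -Xb s t * -Xb s t = Xb s t * Xb s t := by ring
  exact h.trans (Xb_sq s t)

theorem local_data (η₀ : Bq s t) (hη₀ : η₀ * η₀ = algebraMap B (Bq s t) s) (sinv : B) (hs : s * sinv = 1) :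
    ∃ η u ηinv : Localization.Away (1 + η₀),
      η * η = algebraMap B (Localization.Away (1 + η₀)) s ∧ (1 + η) * u = 1 ∧ η * ηinv = 1 := by
  refine ⟨algebraMap _ _ η₀, IsLocalization.Away.invSelf (1 + η₀),
    algebraMap _ _ (η₀ * algebraMap B (Bq s t) sinv), ?_, ?_, ?_⟩
  · rw [← map_mul, hη₀, ← IsScalarTower.algebraMap_apply]
  · have := IsLocalization.Away.mul_invSelf (S := Localization.Away (1 + η₀)) (1 + η₀)
    rwa [map_add, map_one] at this
  · rw [← map_mul]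
    have : η₀ * (η₀ * algebraMap B (Bq s t) sinv) = 1 := by
      rw [← mul_assoc, hη₀, ← map_mul, hs, map_one]
    rw [this, map_one]

end

set_option maxHeartbeats 1000000 in
theorem main (B : Type u) (A : Type v) [CommRing B] [CommRing A]
    [Algebra B A] (lam : A ≃ₐ[B] A) (hlam : ∀ a, lam (lam a) = a) (hB : RInv.IsFixedRing B A lam.toRingEquiv)
    [IsLocalRing B] (hid : ∀ a : A, lam a - a ∈ Ring.jacobson A) (h2 : IsUnit (2 : A))
    (h : Matrix (Fin 2) (Fin 2) A) (hh : IsUnit h) (herm : -(h.map lam).transpose = h)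
    (hJ : ∀ i j : Fin 2, h i j - Matrix.of ![![(0 : A), 1], ![-1, 0]] i j ∈ Ring.jacobson A) :
    ∃ (s t : Bˣ) (r : ℕ) (f : Fin r → (MvPolynomial (Fin 2) B ⧸ Ideal.span ({MvPolynomial.X 0 ^ 2 - MvPolynomial.C (s : B), MvPolynomial.X 1 ^ 2 - MvPolynomial.C (t : B)} : Set (MvPolynomial (Fin 2) B)))),
      Ideal.span (Set.range f) = ⊤ ∧
      ∀ i : Fin r, ∃ v : Matrix (Fin 2) (Fin 2) (Localization.Away (f i) ⊗[B] A), IsUnit v ∧
        (v.map (Algebra.TensorProduct.congr (AlgEquiv.refl : Localization.Away (f i) ≃ₐ[Localization.Away (f i)] Localization.Away (f i)) lam)).transpose * h.map (Algebra.TensorProduct.includeRight : A →ₐ[B] Localization.Away (f i) ⊗[B] A) * v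
          = (Matrix.of ![![(0 : A), 1], ![-1, 0]]).map (Algebra.TensorProduct.includeRight : A →ₐ[B] Localization.Away (f i) ⊗[B] A) := by
  have hJ00 : h 0 0 ∈ Ideal.jacobson (⊥ : Ideal A) := by
    rw [Ideal.jacobson_bot]; simpa using hJ 0 0
  have hJ01 : h 0 1 - 1 ∈ Ideal.jacobson (⊥ : Ideal A) := by
    rw [Ideal.jacobson_bot]; simpa using hJ 0 1
  obtain ⟨binv, hb⟩ := (Ideal.isUnit_of_sub_one_mem_jacobson_bot _ hJ01).exists_right_inv
  obtain ⟨hA, h2A⟩ := h2.exists_right_inv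
  have hlamhA : lam hA = hA := lam_inv_of_fixed lam 2 hA (map_ofNat lam 2) h2A
  have e00 := congrFun (congrFun herm 0) 0
  have e11 := congrFun (congrFun herm 1) 1
  simp only [Matrix.neg_apply, Matrix.transpose_apply, Matrix.map_apply] at e00 e11
  have ha : lam (h 0 0) = -h 0 0 := by linear_combination (-1 : A) * e00
  have hd : lam (h 1 1) = -h 1 1 := by linear_combination (-1 : A) * e11
  obtain ⟨sA, hsA⟩ : ∃ sA : A, sA = 1 + h 0 0 * (h 1 1 * lam binv * binv) := ⟨_, rfl⟩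
  have hsA_fixed : lam sA = sA := by
    rw [hsA, map_add, map_one, map_mul, map_mul, map_mul, hlam, ha, hd]; ring
  have hsA_unit : IsUnit sA := by
    refine Ideal.isUnit_of_sub_one_mem_jacobson_bot _ ?_
    have : sA - 1 = h 0 0 * (h 1 1 * lam binv * binv) := by rw [hsA]; ring
    rw [this]
    exact Ideal.mul_mem_right _ _ hJ00
  obtain ⟨sAinv, hsAinv⟩ := hsA_unit.exists_right_inv
  obtain ⟨s, hs⟩ := exists_unit_of_fixed lam hB sA sAinv hsA_fixed hsAinv
  obtain ⟨w, hw⟩ := exists_of_fixed lam hB hA hlamhA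
  have h2w : (2 : B) * w = 1 := hB.1 (by rw [map_mul, hw, map_ofNat, h2A, map_one])
  refine ⟨s, 1, 2, ![1 + Xb (s : B) ((1 : Bˣ) : B), 1 + -Xb (s : B) ((1 : Bˣ) : B)], ?_, ?_⟩
  · rw [Ideal.eq_top_iff_one]
    have h1 : (1 : Bq (s : B) ((1 : Bˣ) : B)) = algebraMap B _ w *
        ((1 + Xb (s : B) ((1 : Bˣ) : B)) + (1 + -Xb (s : B) ((1 : Bˣ) : B))) := by
      have : (algebraMap B (Bq (s : B) ((1 : Bˣ) : B)) ((2 : B) * w)) = 1 := by rw [h2w, map_one]
      rw [map_mul, map_ofNat] at this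
      linear_combination (-1 : Bq (s : B) ((1 : Bˣ) : B)) * this
    have hmem : algebraMap B _ w *
        ((1 + Xb (s : B) ((1 : Bˣ) : B)) + (1 + -Xb (s : B) ((1 : Bˣ) : B))) ∈
        Ideal.span (Set.range ![1 + Xb (s : B) ((1 : Bˣ) : B), 1 + -Xb (s : B) ((1 : Bˣ) : B)]) := by
      refine Ideal.mul_mem_left _ _ (Ideal.add_mem _ ?_ ?_)
      · exact Ideal.subset_span (Set.mem_range.mpr ⟨(0 : Fin 2), Matrix.cons_val_zero _ _⟩)
      · exact Ideal.subset_span (Set.mem_range.mpr ⟨(1 : Fin 2), Matrix.cons_val_one _ _⟩)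
    rwa [← h1] at hmem
  · intro i
    fin_cases i
    · obtain ⟨η, u, ηinv, h1, h2', h3⟩ := local_data (s : B) ((1 : Bˣ) : B)
        (Xb (s : B) ((1 : Bˣ) : B)) (Xb_sq _ _) (↑s⁻¹ : B) (Units.mul_inv s)
      exact local_solution lam hlam _ h herm binv hA sA s hb h2A hlamhA hsA hs η u ηinv h1 h2' h3
    · obtain ⟨η, u, ηinv, h1, h2', h3⟩ := local_data (s : B) ((1 : Bˣ) : B)
        (-Xb (s : B) ((1 : Bˣ) : B)) (neg_Xb_sq (s : B) ((1 : Bˣ) : B)) (↑s⁻¹ : B)
        (Units.mul_inv s)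
      exact local_solution lam hlam _ h herm binv hA sA s hb h2A hlamhA hsA hs η u ηinv h1 h2' h3

end Groth.Agent.Lib.Helper26.Herm2
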