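import Mathlib
import Groth.Agent.Lib.Helper26.HiggsSS

/-!
# A semistable twisted pair with nonzero twisted endomorphism has a twist of nonnegative degree
-/

set_option autoImplicit false
set_option maxHeartbeats 800000
set_option linter.style.haveILetI false
set_option linter.unusedSectionVars false
set_option linter.unusedVariables false
universe u
open CategoryTheory CategoryTheory.Limits AlgebraicGeometry Opposite TopologicalSpace TensorProduct
open Groth.Agent.Helper13.Tensor Groth.Agent.Helper13.TwistSES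
open Groth.Agent.Helper20.RankFn Groth.Agent.Helper20.VBMap Groth.Agent.Helper26.DegTensor

namespace Groth.Agent.Helper26.HiggsSS

/-- for `L ⊗ N ≅ O`: `(E ⊗ L) ⊗ N ≅ E`. -/
noncomputable def untwist {X : Scheme.{u}} (E L N : X.Modules)
    (e : CohB1.tensorMod L N ≅ Coh.structureModule X) :
    CohB1.tensorMod (CohB1.tensorMod E L) N ≅ E :=
  Groth.Agent.Helper13.Tensor.assoc E L N ≪≫
    Groth.Agent.Helper13.Tensor.mapIso (Iso.refl E) e ≪≫ Groth.Agent.Helper13.Tensor.rid E

section Main2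

variable (k : Type u) [Field k] {X : Scheme.{u}} [X.Over (Spec (CommRingCat.of k))] [IsIntegral X]
  [IsProper (X ↘ Spec (CommRingCat.of k))] [Smooth (X ↘ Spec (CommRingCat.of k))]

theorem main16003 (hdim : topologicalKrullDim X = 1) (L : X.Modules)
    (hL : PicF.IsInvertible L) (r : ℕ) (hr : 0 < r) (E : X.Modules)
    (hE : FlatMod.IsFinLocFreeOfRank r E) (φ : E ⟶ CohB1.tensorMod E L)
    (hss : ∀ (G : X.Modules) (n : ℕ) (j : G ⟶ E) (χ : G ⟶ CohB1.tensorMod G L), Mono j → 0 < n →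
      FlatMod.IsFinLocFreeOfRank n G →
      χ ≫ Groth.Agent.Helper13.Tensor.map j (𝟙 L) = j ≫ φ →
      Curv2.deg k X G n * (r : ℤ) ≤ Curv2.deg k X E r * (n : ℤ))
    (hφ : φ ≠ 0) : 0 ≤ Curv2.deg k X L 1 := by
  by_contra hneg0
  have hneg : Curv2.deg k X L 1 < 0 := not_le.1 hneg0
  have hEss := main16004 k hdim L hL hneg.le r hr E hE φ hss
  have hL1 := Groth.Agent.Helper26.IntLF.isFinLocFreeOfRank_one_of_isInvertible L hL
  have hELr : FlatMod.IsFinLocFreeOfRank (r * 1) (CohB1.tensorMod E L) :=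
    isFinLocFreeOfRank_tensorMod E L r 1 hE hL1
  have hELl := Groth.Agent.Helper20.VBIndec.isFinLocFree_of_rank _ _ hELr
  obtain ⟨rK, rI, hKr, hIr, hrk, hdeg, hK0, hI0, hKdeg0, hIdeg0⟩ :=
    ker_coim_pkg k hdim r hE hELl φ
  have hIpos : 0 < rI := by
    rcases Nat.eq_zero_or_pos rI with h0 | h
    · exfalso
      apply hφ
      rw [← Abelian.coimage.fac φ, (hI0 h0).eq_of_tgt (Abelian.coimage.π φ) 0, zero_comp]
    · exact h
  obtain ⟨N, hNinv, ⟨eLN⟩, -⟩ := Groth.Agent.Helper13.InvDual.exists_inverse L hL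
  have hN1 := Groth.Agent.Helper26.IntLF.isFinLocFreeOfRank_one_of_isInvertible N hNinv
  have hdN : Curv2.deg k X N 1 = - Curv2.deg k X L 1 := deg_inverse k hdim L N hL hNinv eLN
  haveI : Mono (Groth.Agent.Helper13.Tensor.map (Abelian.factorThruCoimage φ) (𝟙 N)) :=
    mono_map_id _ N hNinv
  have hmono : Mono (Groth.Agent.Helper13.Tensor.map (Abelian.factorThruCoimage φ) (𝟙 N) ≫
      (untwist E L N eLN).hom) := mono_comp _ _
  have hI''r : FlatMod.IsFinLocFreeOfRank (rI * 1) (CohB1.tensorMod (Abelian.coimage φ) N) :=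
    isFinLocFreeOfRank_tensorMod _ N rI 1 hIr hN1
  have hdt := deg_tensor k X hdim.le (Abelian.coimage φ) N rI 1 hIr hN1
  have h1 := hEss _ (rI * 1) _ hmono (by omega) hI''r
  have hK : Curv2.deg k X (kernel φ) rK * (r : ℤ) ≤ Curv2.deg k X E r * (rK : ℤ) := by
    rcases Nat.eq_zero_or_pos rK with h0 | hpos
    · rw [hKdeg0 h0, h0]
      simp
    · exact hEss _ rK (kernel.ι φ) inferInstance hpos hKr
  rw [hdt, hdN] at h1
  push_cast at h1
  have hr' : (r : ℤ) = (rK : ℤ) + (rI : ℤ) := by exact_mod_cast hrk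
  have hposI : (0 : ℤ) < (rI : ℤ) := by exact_mod_cast hIpos
  have hposr : (0 : ℤ) < (r : ℤ) := by exact_mod_cast hr
  have hpos : 0 < (rI : ℤ) * (-(Curv2.deg k X L 1)) * (r : ℤ) :=
    mul_pos (mul_pos hposI (neg_pos.2 hneg)) hposr
  have h2 : Curv2.deg k X (Abelian.coimage φ) rI * (r : ℤ) =
      Curv2.deg k X E r * (r : ℤ) - Curv2.deg k X (kernel φ) rK * (r : ℤ) := by
    rw [hdeg]; ring
  have h3 : Curv2.deg k X E r * (r : ℤ) =
      Curv2.deg k X E r * (rK : ℤ) + Curv2.deg k X E r * (rI : ℤ) := by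
    rw [hr']; ring
  nlinarith

end Main2

end Groth.Agent.Helper26.HiggsSS
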