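import Mathlib
import Groth.Prelude.Def_Hoch

namespace Groth.Agent.Helper26.HochInt

open TensorProduct

universe u v

section general
variable (k : Type u) [CommRing k] (A : Type v) [Ring A] [Bialgebra k A]
variable (V : Type v) [AddCommGroup V] [Module k V] [HopfRep.Comod k A V]

/-- contraction of the last factor against a functional -/
noncomputable def contr (M : Type v) [AddCommGroup M] [Module k M] (l : A →ₗ[k] k) : M ⊗[k] A →ₗ[k] M :=
  (TensorProduct.rid k M).toLinearMap ∘ₗ LinearMap.lTensor M l

@[simp] theorem contr_tmul (M : Type v) [AddCommGroup M] [Module k M] (l : A →ₗ[k] k) (m : M) (a : A) :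
    contr k A M l (m ⊗ₜ a) = l a • m := by
  simp [contr]

theorem key (l : A →ₗ[k] k) (hl1 : l 1 = 1)
    (hl : ∀ a : A, contr k A A l (Coalgebra.comul (R := k) a) = l a • (1 : A)) :
    contr k A (V ⊗[k] A) l ∘ₗ Hoch.d k A V 1 =
      Hoch.d k A V 0 ∘ₗ contr k A V l + LinearMap.id := by
  refine TensorProduct.ext' fun v a => ?_
  simp only [LinearMap.comp_apply, LinearMap.add_apply, LinearMap.id_apply, contr_tmul]
  rw [Hoch.d_succ]
  simp only [LinearMap.add_apply, LinearMap.rTensor_tmul, LinearMap.smul_apply, Hoch.tail_tmul,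
    zero_add, pow_one, neg_smul, one_smul, map_add, map_neg, contr_tmul]
  -- the tail term
  have htail : contr k A (V ⊗[k] A) l
      ((TensorProduct.assoc k V A A).symm (v ⊗ₜ (Coalgebra.comul (R := k) a - a ⊗ₜ 1 - 1 ⊗ₜ a))) =
      l a • (v ⊗ₜ (1 : A)) - v ⊗ₜ a - l a • (v ⊗ₜ (1 : A)) := by
    have h1 : ∀ z : A ⊗[k] A, contr k A (V ⊗[k] A) l ((TensorProduct.assoc k V A A).symm (v ⊗ₜ z)) =
        v ⊗ₜ (contr k A A l z) := by
      intro z
      induction z using TensorProduct.induction_on with
      | zero => simp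
      | tmul b c => simp [TensorProduct.tmul_smul]
      | add z w hz hw => simp only [TensorProduct.tmul_add, map_add, hz, hw]
    rw [h1]
    simp only [map_sub, contr_tmul, hl, hl1, one_smul, TensorProduct.tmul_sub, TensorProduct.tmul_smul]
  rw [htail, map_smul]
  abel

theorem cocycles_le (l : A →ₗ[k] k) (hl1 : l 1 = 1)
    (hl : ∀ a : A, contr k A A l (Coalgebra.comul (R := k) a) = l a • (1 : A)) :
    Hoch.cocycles k A V 1 ≤ Hoch.coboundaries k A V 1 := by
  intro x hx
  have hx0 : Hoch.d k A V 1 x = 0 := hx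
  have h := LinearMap.congr_fun (key k A V l hl1 hl) x
  simp only [LinearMap.comp_apply, LinearMap.add_apply, LinearMap.id_apply] at h
  rw [hx0, map_zero] at h
  refine ⟨-(contr k A V l x), ?_⟩
  rw [map_neg]
  exact (eq_neg_of_add_eq_zero_right h.symm).symm

end general

section monoid
variable (k : Type u) [CommRing k] (M : Type u) [AddCommMonoid M]

/-- coefficient at zero -/
noncomputable def lam : AddMonoidAlgebra k M →ₗ[k] k :=
  (Finsupp.lapply (0 : M)) ∘ₗ (AddMonoidAlgebra.coeffLinearEquiv k).toLinearMap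

theorem lam_single (m : M) (c : k) [Decidable (m = 0)] :
    lam k M (AddMonoidAlgebra.single m c) = if m = 0 then c else 0 := by
  simp [lam, Finsupp.single_apply]

theorem lam_one : lam k M 1 = 1 := by
  classical
  rw [AddMonoidAlgebra.one_def, lam_single]
  simp

theorem lam_int (a : AddMonoidAlgebra k M) :
    contr k (AddMonoidAlgebra k M) (AddMonoidAlgebra k M) (lam k M) (Coalgebra.comul (R := k) a) =
      lam k M a • (1 : AddMonoidAlgebra k M) := by
  classical
  induction a using AddMonoidAlgebra.induction_linear with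
  | zero => simp
  | add f g hf hg => simp only [map_add, hf, hg, add_smul]
  | single m c =>
    rw [AddMonoidAlgebra.comul_single, CommSemiring.comul_apply]
    simp only [TensorProduct.map_tmul, contr_tmul]
    have e1 : (AddMonoidAlgebra.lsingle m : k →ₗ[k] AddMonoidAlgebra k M) c =
        AddMonoidAlgebra.single m c := rfl
    have e2 : (AddMonoidAlgebra.lsingle m : k →ₗ[k] AddMonoidAlgebra k M) 1 =
        AddMonoidAlgebra.single m 1 := rfl
    rw [e1, e2, lam_single]
    by_cases hm : m = 0
    · subst hm
      simp [AddMonoidAlgebra.one_def]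
    · simp [hm]

theorem main (V : Type u) [AddCommGroup V] [Module k V]
    [HopfRep.Comod k (AddMonoidAlgebra k M) V] :
    Hoch.cocycles k (AddMonoidAlgebra k M) V 1 ≤ Hoch.coboundaries k (AddMonoidAlgebra k M) V 1 :=
  cocycles_le k (AddMonoidAlgebra k M) V (lam k M) (lam_one k M) (lam_int k M)

end monoid

end Groth.Agent.Helper26.HochInt
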