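import Mathlib
import Groth.Agent.Lib.Helper26.HopfTr

namespace Groth.Agent.Helper26.HopfRed

open Groth.Agent.Helper26.HopfTr

universe u v

/-- Every maximal ideal of a finite algebra over an algebraically closed field is the kernel of
a character. -/
theorem exists_char {k : Type u} [Field k] [IsAlgClosed k] {A : Type v} [CommRing A] [Algebra k A]
    [Module.Finite k A] (m : Ideal A) [hm : m.IsMaximal] :
    ∃ g : A →ₐ[k] k, RingHom.ker g = m := by
  let _ : Field (A ⧸ m) := Ideal.Quotient.field m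
  have : Algebra.IsIntegral k (A ⧸ m) := Algebra.IsIntegral.of_finite k _
  have hbij : Function.Bijective (algebraMap k (A ⧸ m)) :=
    IsAlgClosed.algebraMap_bijective_of_isIntegral (k := k) (K := A ⧸ m)
  let e0 : k ≃ₐ[k] (A ⧸ m) := AlgEquiv.ofBijective (Algebra.ofId k (A ⧸ m)) hbij
  refine ⟨(e0.symm : (A ⧸ m) →ₐ[k] k).comp (Ideal.Quotient.mkₐ k m), ?_⟩
  ext a
  simp only [RingHom.mem_ker, AlgHom.coe_comp, Function.comp_apply, Ideal.Quotient.mkₐ_eq_mk]
  constructor
  · intro h
    have : Ideal.Quotient.mk m a = 0 := by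
      have := congrArg e0 h
      simpa using this
    exact Ideal.Quotient.eq_zero_iff_mem.1 this
  · intro h
    rw [Ideal.Quotient.eq_zero_iff_mem.2 h]
    simp

/-- If all maximal ideals of a Noetherian ring are idempotent, the ring is reduced. -/
theorem isReduced_of_maximal_idem {A : Type v} [CommRing A] [IsNoetherianRing A]
    (h : ∀ m : Ideal A, m.IsMaximal → IsIdempotentElem m) : IsReduced A := by
  constructor
  intro x hx
  by_contra hx0
  let Ann : Ideal A := (Ideal.span {x}).annihilator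
  have hAnn : ∀ a, a ∈ Ann ↔ a * x = 0 := by
    intro a
    simp only [Ann]
    rw [Ideal.span, Submodule.mem_annihilator_span_singleton, smul_eq_mul]
  have hne : Ann ≠ ⊤ := by
    intro htop
    have : (1 : A) ∈ Ann := htop ▸ Submodule.mem_top
    rw [hAnn, one_mul] at this
    exact hx0 this
  obtain ⟨m, hm, hle⟩ := Ideal.exists_le_maximal Ann hne
  obtain ⟨e, he, hme⟩ := (Ideal.isIdempotentElem_iff_of_fg m
    ((isNoetherianRing_iff_ideal_fg A).1 inferInstance m)).1 (h m hm)
  have hxm : x ∈ m := by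
    obtain ⟨j, hj⟩ := hx
    exact hm.isPrime.mem_of_pow_mem j (hj ▸ zero_mem _)
  rw [hme, Ideal.mem_span_singleton'] at hxm
  obtain ⟨y, hy⟩ := hxm
  have h1 : (1 - e) ∈ Ann := by
    rw [hAnn, ← hy]
    have : (1 - e) * (y * e) = y * (e - e * e) := by ring
    rw [this, he.eq, sub_self, mul_zero]
  have h2 : e ∈ m := by
    rw [hme]; exact Ideal.mem_span_singleton_self e
  have h3 : (1 : A) ∈ m := by
    have : (1 : A) = (1 - e) + e := by ring
    rw [this]
    exact add_mem (hle h1) h2
  exact hm.ne_top ((Ideal.eq_top_iff_one m).2 h3)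

section hopf
variable (k : Type u) [Field k] [IsAlgClosed k]
  (A : Type v) [CommRing A] [HopfAlgebra k A] [Module.Finite k A]

theorem maximal_idem (hI : IsIdempotentElem (RingHom.ker (Bialgebra.counitAlgHom k A)))
    (m : Ideal A) (hm : m.IsMaximal) : IsIdempotentElem m := by
  obtain ⟨g, hg⟩ := exists_char (k := k) m
  have hinj := tau_injective g
  have hsurj : Function.Surjective (tau (chi g)) :=
    (LinearMap.injective_iff_surjective (f := (tau (chi g)).toLinearMap)).1 hinj
  let e : A ≃ₐ[k] A := AlgEquiv.ofBijective (tau (chi g)) ⟨hinj, hsurj⟩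
  set I := RingHom.ker (Bialgebra.counitAlgHom k A) with hIdef
  have hm1 : m = Ideal.comap (e.toRingEquiv : A →+* A) I := by
    ext a
    rw [← hg, Ideal.mem_comap, RingHom.mem_ker, hIdef, RingHom.mem_ker]
    have := congrArg (fun f => f a) (counit_comp_tau g)
    simp only [AlgHom.comp_apply] at this
    constructor
    · intro h; rw [← h, ← this]; rfl
    · intro h; rw [← this]; exact h
  have hm2 : m = Ideal.map (e.symm.toRingEquiv : A →+* A) I := by
    rw [hm1, Ideal.map_comap_of_equiv]
    rfl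
  unfold IsIdempotentElem
  rw [hm2, ← Ideal.map_mul, hI.eq]

theorem forward (p : ℕ) [hp : Fact p.Prime] (n : ℕ) (hn : 1 ≤ n)
    (h : Ideal.span ((fun f : A => f ^ p ^ n) '' (RingHom.ker (Bialgebra.counitAlgHom k A) : Set A)) =
      RingHom.ker (Bialgebra.counitAlgHom k A)) : IsReduced A := by
  have : IsNoetherianRing A := IsNoetherianRing.of_finite k A
  set I := RingHom.ker (Bialgebra.counitAlgHom k A) with hIdef
  have hI : IsIdempotentElem I := by
    unfold IsIdempotentElem
    refine le_antisymm Ideal.mul_le_right ?_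
    conv_lhs => rw [← h]
    refine Ideal.span_le.2 ?_
    rintro _ ⟨f, hf, rfl⟩
    have h2 : 2 ≤ p ^ n := by
      calc 2 ≤ p := hp.out.two_le
        _ = p ^ 1 := (pow_one p).symm
        _ ≤ p ^ n := Nat.pow_le_pow_right hp.out.pos hn
    obtain ⟨j, hj⟩ : ∃ j, p ^ n = j + 2 := ⟨p ^ n - 2, by omega⟩
    simp only [hj]
    rw [pow_succ]
    exact Ideal.mul_mem_mul (Ideal.pow_mem_of_mem _ hf _ (by omega)) hf
  exact isReduced_of_maximal_idem (maximal_idem k A hI)

end hopf

/-- The converse does not need the Hopf structure. -/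
theorem backward (k : Type u) [Field k] (A : Type v) [CommRing A] [Algebra k A] [Module.Finite k A]
    [IsReduced A] (I : Ideal A) (N : ℕ) (hN : N ≠ 0) :
    Ideal.span ((fun f : A => f ^ N) '' (I : Set A)) = I := by
  have : IsArtinianRing A := IsArtinianRing.of_finite k A
  refine le_antisymm ?_ ?_
  · refine Ideal.span_le.2 ?_
    rintro _ ⟨f, hf, rfl⟩
    exact Ideal.pow_mem_of_mem _ hf _ (Nat.pos_of_ne_zero hN)
  · intro x hx
    obtain ⟨j, y, hy⟩ := IsArtinian.exists_pow_succ_smul_dvd x (1 : A)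
    have hy' : x ^ (j + 1) * y = x ^ j := by simpa using hy
    have hz : IsNilpotent (x - x ^ 2 * y) := by
      refine ⟨j + 1, ?_⟩
      have hfac : x - x ^ 2 * y = x * (1 - x * y) := by ring
      rw [hfac, mul_pow]
      calc x ^ (j + 1) * (1 - x * y) ^ (j + 1)
          = (x ^ (j + 1) - x * (x ^ (j + 1) * y)) * (1 - x * y) ^ j := by ring
        _ = (x ^ (j + 1) - x * x ^ j) * (1 - x * y) ^ j := by rw [hy']
        _ = 0 := by rw [← pow_succ', sub_self, zero_mul]
    have hz0 : x - x ^ 2 * y = 0 := IsReduced.eq_zero _ hz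
    have hxe : x = x * (x * y) := by
      have : x = x ^ 2 * y := sub_eq_zero.1 hz0
      calc x = x ^ 2 * y := this
        _ = x * (x * y) := by ring
    have he : IsIdempotentElem (x * y) := by
      unfold IsIdempotentElem
      calc x * y * (x * y) = (x * (x * y)) * y := by ring
        _ = x * y := by rw [← hxe]
    obtain ⟨N', rfl⟩ : ∃ N', N = N' + 1 := ⟨N - 1, by omega⟩
    have hpow : (x * y) ^ (N' + 1) = x * y := he.pow_succ_eq N'
    rw [hxe]
    refine Ideal.mul_mem_left _ _ ?_
    rw [← hpow]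
    exact Ideal.subset_span ⟨x * y, Ideal.mul_mem_right _ _ hx, rfl⟩

theorem main (k : Type u) [Field k] [IsAlgClosed k]
    (p : ℕ) [hp : Fact p.Prime] (A : Type v) [CommRing A] [HopfAlgebra k A] [Module.Finite k A]
    (n : ℕ) (hn : 1 ≤ n) :
    Ideal.span ((fun f : A => f ^ p ^ n) '' (RingHom.ker (Bialgebra.counitAlgHom k A) : Set A)) =
      RingHom.ker (Bialgebra.counitAlgHom k A) ↔ IsReduced A :=
  ⟨forward k A p n hn, fun _ => backward k A _ (p ^ n) (pow_ne_zero _ hp.out.ne_zero)⟩

end Groth.Agent.Helper26.HopfRed
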