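import Mathlib
import Groth.Prelude.Def_PBC
import Groth.Agent.Lib.Helper26.IndEtLift1

/-!
# Maps from ind-étale algebras into henselian local rings, II (helper26)
-/

set_option autoImplicit false
set_option linter.unusedSectionVars false
set_option linter.style.haveILetI false

namespace Groth.Agent.Helper26.IndEtLift

universe u
open CategoryTheory Limits IsLocalRing

section cat

variable {R : Type u} [CommRing R]

/-- the object of `Under R` attached to an algebra -/
noncomputable abbrev obj (S : Type u) [CommRing S] [Algebra R S] : Under (CommRingCat.of R) :=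
  Under.mk (CommRingCat.ofHom (algebraMap R S))

/-- the morphism of `Under R` attached to an algebra map -/
noncomputable def homOf {S S' : Type u} [CommRing S] [Algebra R S] [CommRing S'] [Algebra R S']
    (f : S →ₐ[R] S') : obj (R := R) S ⟶ obj S' :=
  Under.homMk (CommRingCat.ofHom f.toRingHom) (by
    ext r
    exact f.commutes r)

theorem homOf_right {S S' : Type u} [CommRing S] [Algebra R S] [CommRing S'] [Algebra R S']
    (f : S →ₐ[R] S') (x : S) : (homOf f).right.hom x = f x := rfl

/-- the algebra map attached to a morphism of `Under R` -/
noncomputable def algOf {S S' : Type u} [CommRing S] [Algebra R S] [CommRing S'] [Algebra R S']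
    (F : obj (R := R) S ⟶ obj S') : S →ₐ[R] S' :=
  { F.right.hom with
    commutes' := fun r => by
      have := Under.w F
      exact congrArg (fun g => g.hom r) this }

theorem algOf_apply {S S' : Type u} [CommRing S] [Algebra R S] [CommRing S'] [Algebra R S']
    (F : obj (R := R) S ⟶ obj S') (x : S) : algOf F x = F.right.hom x := rfl

theorem homOf_algOf {S S' : Type u} [CommRing S] [Algebra R S] [CommRing S'] [Algebra R S']
    (F : obj (R := R) S ⟶ obj S') : homOf (algOf F) = F := by
  ext x
  rfl

theorem algOf_homOf {S S' : Type u} [CommRing S] [Algebra R S] [CommRing S'] [Algebra R S']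
    (f : S →ₐ[R] S') : algOf (homOf f) = f := by
  apply AlgHom.ext
  intro x
  rfl

theorem under_hom_ext {X Y : Under (CommRingCat.of R)} (F G : X ⟶ Y)
    (h : ∀ x, F.right.hom x = G.right.hom x) : F = G := by
  ext x
  exact h x

end cat

section main

variable {R S : Type u} [CommRing R] [CommRing S] [Algebra R S] (hS : EtPBC.IsIndEtale R S)
  (T K : Type u) [CommRing T] [HenselianLocalRing T] [Algebra R T]
  [Field K] [Algebra R K] (v : T →ₐ[R] K) (hv : Function.Surjective v)
  (hker : RingHom.ker v.toRingHom = maximalIdeal T)

include hS hv hker in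
theorem existsUnique_morphism (W : obj (R := R) S ⟶ obj K) :
    ∃! G : obj (R := R) S ⟶ obj T, G ≫ homOf v = W := by
  obtain ⟨J, _, _, D, c, hc, hD, ⟨iso⟩⟩ := hS
  -- the maps to the residue field
  let σ : ∀ j : J, (D.obj j).right →+* K := fun j => (c.ι.app j ≫ iso.hom ≫ W).right.hom
  have hσ : ∀ j, (σ j).comp (D.obj j).hom.hom = algebraMap R K := by
    intro j
    have := Under.w (c.ι.app j ≫ iso.hom ≫ W)
    apply RingHom.ext
    intro r
    exact congrArg (fun g => g.hom r) this
  have hlift := fun j => existsUnique_lift_ringHom T K v hv hker (D.obj j).right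
    (D.obj j).hom.hom (hD j) (σ j) (hσ j)
  choose τ hτ hτu using hlift
  let lift : ∀ j, D.obj j ⟶ obj (R := R) T := fun j =>
    Under.homMk (CommRingCat.ofHom (τ j)) (by
      ext r
      exact congrArg (fun g => g r) (hτ j).1)
  have hlift_right : ∀ j x, (lift j).right.hom x = τ j x := fun j x => rfl
  -- characterization of the lifts
  have hchar : ∀ (j : J) (F : D.obj j ⟶ obj (R := R) T),
      F ≫ homOf v = c.ι.app j ≫ iso.hom ≫ W → F = lift j := by
    intro j F hF
    have h1 : F.right.hom = τ j := by
      apply hτu
      constructor
      · have := Under.w F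
        apply RingHom.ext
        intro r
        exact congrArg (fun g => g.hom r) this
      · apply RingHom.ext
        intro x
        have := congrArg (fun g => g.right.hom x) hF
        exact this
    apply under_hom_ext
    intro x
    rw [hlift_right, h1]
  have hlift_comp : ∀ j, lift j ≫ homOf v = c.ι.app j ≫ iso.hom ≫ W := by
    intro j
    apply under_hom_ext
    intro x
    have := congrArg (fun g => g x) (hτ j).2
    exact this
  let s : Cocone D :=
    { pt := obj T
      ι :=
        { app := lift
          naturality := by
            intro j j' f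
            have h1 : D.map f ≫ lift j' = lift j := by
              apply hchar
              rw [Category.assoc, hlift_comp j', ← Category.assoc, c.w f]
            rw [h1]
            exact (Category.comp_id _).symm } }
  let g₀ : c.pt ⟶ obj T := hc.desc s
  have hg₀ : ∀ j, c.ι.app j ≫ g₀ = lift j := fun j => hc.fac s j
  refine ⟨iso.inv ≫ g₀, ?_, ?_⟩
  · have h1 : g₀ ≫ homOf v = iso.hom ≫ W := by
      apply hc.hom_ext
      intro j
      rw [← Category.assoc, hg₀ j, hlift_comp j]
    change (iso.inv ≫ g₀) ≫ homOf v = W
    rw [Category.assoc, h1, ← Category.assoc, Iso.inv_hom_id, Category.id_comp]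
  · intro G hG
    have h1 : iso.hom ≫ G = g₀ := by
      apply hc.uniq s
      intro j
      change c.ι.app j ≫ iso.hom ≫ G = lift j
      apply hchar
      rw [Category.assoc, Category.assoc, hG]
    rw [← h1, ← Category.assoc, Iso.inv_hom_id, Category.id_comp]

include hS hv hker in
theorem existsUnique_algHom (w : S →ₐ[R] K) : ∃! g : S →ₐ[R] T, v.comp g = w := by
  obtain ⟨G, hG, hGu⟩ := existsUnique_morphism hS T K v hv hker (homOf w)
  refine ⟨algOf G, ?_, ?_⟩
  · apply AlgHom.ext
    intro x
    have := congrArg (fun F => F.right.hom x) hG
    exact this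
  · intro g hg
    have : homOf g = G := by
      apply hGu
      apply under_hom_ext
      intro x
      exact DFunLike.congr_fun hg x
    rw [← this, algOf_homOf]

end main

end Groth.Agent.Helper26.IndEtLift
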