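import Mathlib
import Groth.Prelude.Def_PBC
import Groth.Agent.Lib.Helper26.IndEtLift2

/-!
# Uniqueness of henselian ind-étale local algebras with given residue field (helper26)
-/

set_option autoImplicit false
set_option linter.unusedSectionVars false
set_option linter.style.haveILetI false

namespace Groth.Agent.Helper26.IndEtLift

universe u
open CategoryTheory Limits IsLocalRing

theorem existsUnique_algEquiv (R S S' K : Type u) [CommRing R]
    [CommRing S] [CommRing S'] [Field K] [HenselianLocalRing S] [HenselianLocalRing S']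
    [Algebra R S] [Algebra R S'] [Algebra R K] (hS : EtPBC.IsIndEtale R S)
    (hS' : EtPBC.IsIndEtale R S')
    (u : S →ₐ[R] K) (u' : S' →ₐ[R] K) (hu : Function.Surjective u) (hu' : Function.Surjective u')
    (hku : RingHom.ker u.toRingHom = IsLocalRing.maximalIdeal S)
    (hku' : RingHom.ker u'.toRingHom = IsLocalRing.maximalIdeal S') :
    ∃! e : S ≃ₐ[R] S', u'.comp (e : S →ₐ[R] S') = u := by
  obtain ⟨g, hg, hgu⟩ := existsUnique_algHom hS S' K u' hu' hku' u
  obtain ⟨g', hg', -⟩ := existsUnique_algHom hS' S K u hu hku u'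
  have h1 : g'.comp g = AlgHom.id R S := by
    obtain ⟨k, -, hk⟩ := existsUnique_algHom hS S K u hu hku u
    rw [hk (g'.comp g) (by change u.comp (g'.comp g) = u; rw [← AlgHom.comp_assoc, hg', hg]), hk (AlgHom.id R S) (AlgHom.comp_id u)]
  have h2 : g.comp g' = AlgHom.id R S' := by
    obtain ⟨k, -, hk⟩ := existsUnique_algHom hS' S' K u' hu' hku' u'
    rw [hk (g.comp g') (by change u'.comp (g.comp g') = u'; rw [← AlgHom.comp_assoc, hg, hg']),
      hk (AlgHom.id R S') (AlgHom.comp_id u')]
  refine ⟨AlgEquiv.ofAlgHom g g' h2 h1, ?_, ?_⟩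
  · apply AlgHom.ext
    intro x
    exact DFunLike.congr_fun hg x
  · intro e he
    have h3 : (e : S →ₐ[R] S') = g := hgu _ he
    apply AlgEquiv.ext
    intro x
    exact DFunLike.congr_fun h3 x

end Groth.Agent.Helper26.IndEtLift
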