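import Mathlib
import Groth.Prelude.Def_PBC
import Groth.Agent.Lib.Helper26.IndEtRec2
import Groth.Agent.Lib.Helper26.EtFlat2

/-!
# Recognising ind-étale algebras: flat local algebras (helper26)
-/

set_option autoImplicit false
set_option linter.unusedSectionVars false
set_option linter.style.haveILetI false

namespace Groth.Agent.Helper26.IndEtRec

universe u
open IsLocalRing

variable (R : Type u) [CommRing R] (B : Type u) [CommRing B] [Algebra R B]

/-- for a flat local `R`-algebra kernel elements die after a localization -/
theorem kerDies_of_flat_of_isLocalRing [Module.Flat R B] [IsLocalRing B] : KerDies R B := by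
  intro S _ _ _ f s hs
  obtain ⟨t, htu, hts⟩ := EtFlat.exists_mul_eq_zero_of_map_eq_zero R S B f s hs
  let S' := Localization.Away t
  haveI : Algebra.Etale R S' := Algebra.Etale.comp R S S'
  have hunits : ∀ y : Submonoid.powers t, IsUnit (f y) := by
    rintro ⟨_, n, rfl⟩
    change IsUnit (f (t ^ n))
    rw [map_pow]
    exact htu.pow n
  let f' : S' →ₐ[R] B := IsLocalization.liftAlgHom (M := Submonoid.powers t) (f := f) hunits
  have hf' : ∀ y : S, f' (algebraMap S S' y) = f y := fun y => IsLocalization.lift_eq hunits y
  let φ : S →ₐ[R] S' := IsScalarTower.toAlgHom R S S'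
  refine ⟨S', inferInstance, inferInstance, inferInstance, φ, f', ?_, ?_⟩
  · apply AlgHom.ext
    intro y
    exact hf' y
  · change algebraMap S S' s = 0
    have h1 : algebraMap S S' t * algebraMap S S' s = 0 := by
      rw [← map_mul, hts, map_zero]
    have h2 : IsUnit (algebraMap S S' t) := IsLocalization.Away.algebraMap_isUnit t
    exact (h2.mul_right_eq_zero).1 h1

/-- a flat local `R`-algebra all of whose elements come from étale algebras is ind-étale -/
theorem isIndEtale_of_flat_of_isLocalRing [Module.Flat R B] [IsLocalRing B]
    (hsurj : ∀ b : B, EtSub.IsEt R B b) : EtPBC.IsIndEtale R B :=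
  isIndEtale_of_kerDies (kerDies_of_flat_of_isLocalRing R B) hsurj

end Groth.Agent.Helper26.IndEtRec
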