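import Mathlib
import Groth.Prelude.Def_W4c5pointsetsdelpezzoInv

universe u

namespace Groth.Agent.Lib.Helper26.InvNormal

open Function

/-- A subalgebra of an integrally closed domain which is closed under exact division is
integrally closed. -/
theorem isIntegrallyClosed_of_div_closed {k S : Type*} [CommRing k] [CommRing S] [IsDomain S]
    [IsIntegrallyClosed S] [Algebra k S] (R : Subalgebra k S)
    (h : ∀ a b s : S, a ∈ R → b ∈ R → b ≠ 0 → s * b = a → s ∈ R) : IsIntegrallyClosed R := by
  rw [isIntegrallyClosed_iff (FractionRing R)]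
  intro x hx
  have hinj : Injective (algebraMap R (FractionRing S)) := by
    have : algebraMap R (FractionRing S) = (algebraMap S (FractionRing S)).comp R.subtype := rfl
    rw [this]
    exact (IsFractionRing.injective S (FractionRing S)).comp Subtype.val_injective
  let g : R →ₐ[R] FractionRing S := Algebra.ofId R (FractionRing S)
  have hg : Injective g := hinj
  let j : FractionRing R →ₐ[R] FractionRing S := IsFractionRing.liftAlgHom hg
  have hjx : IsIntegral R (j x) := hx.map j
  have hjx' : IsIntegral S (j x) := hjx.tower_top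
  obtain ⟨s, hs⟩ := IsIntegrallyClosed.algebraMap_eq_of_integral hjx'
  obtain ⟨a, b, hb, rfl⟩ := IsFractionRing.div_surjective (A := R) x
  have hb0 : (b : S) ≠ 0 := by
    intro hb0
    have : b = 0 := Subtype.ext hb0
    rw [this] at hb
    exact zero_notMem_nonZeroDivisors hb
  have hja : j (algebraMap R (FractionRing R) a) = algebraMap S (FractionRing S) (a : S) := by
    rw [AlgHom.commutes]; rfl
  have hjb : j (algebraMap R (FractionRing R) b) = algebraMap S (FractionRing S) (b : S) := by
    rw [AlgHom.commutes]; rfl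
  have hb0' : algebraMap S (FractionRing S) (b : S) ≠ 0 := by
    rw [Ne, map_eq_zero_iff _ (IsFractionRing.injective S (FractionRing S))]
    exact hb0
  rw [map_div₀, hja, hjb, eq_div_iff hb0', ← map_mul] at hs
  have hsb : s * (b : S) = (a : S) := IsFractionRing.injective S (FractionRing S) hs
  have hsR : s ∈ R := h a b s a.2 b.2 hb0 hsb
  refine ⟨⟨s, hsR⟩, ?_⟩
  have hb0'' : algebraMap R (FractionRing R) b ≠ 0 := by
    rw [Ne, map_eq_zero_iff _ (IsFractionRing.injective R (FractionRing R))]
    intro hb'
    rw [hb'] at hb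
    exact zero_notMem_nonZeroDivisors hb
  rw [eq_div_iff hb0'', ← map_mul]
  congr 1
  exact Subtype.ext hsb

open W4c5pointsetsdelpezzo in
theorem main (k : Type u) [Field k] (n m : ℕ) :
    IsIntegrallyClosed (W4c5pointsetsdelpezzo.invRing k n m) := by
  apply isIntegrallyClosed_of_div_closed
  intro a b s ha hb hb0 hsb
  have key : ∀ σ : TupleRing k n m →ₐ[k] TupleRing k n m, σ a = a → σ b = b → σ s = s := by
    intro σ hσa hσb
    have h1 : σ s * b = s * b := by
      calc σ s * b = σ s * σ b := by rw [hσb]
        _ = σ (s * b) := (map_mul σ s b).symm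
        _ = s * b := by rw [hsb, hσa, ← hsb]
    exact mul_right_cancel₀ hb0 h1
  unfold invRing at ha hb ⊢
  rw [Algebra.mem_inf, Algebra.mem_iInf, Algebra.mem_iInf] at ha hb ⊢
  constructor
  · intro g
    rw [AlgHom.mem_equalizer]
    exact key _ ((AlgHom.mem_equalizer _ _ _).mp (ha.1 g)) ((AlgHom.mem_equalizer _ _ _).mp (hb.1 g))
  · intro t
    rw [AlgHom.mem_equalizer]
    exact key _ ((AlgHom.mem_equalizer _ _ _).mp (ha.2 t)) ((AlgHom.mem_equalizer _ _ _).mp (hb.2 t))

end Groth.Agent.Lib.Helper26.InvNormal
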