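import Mathlib
open TensorProduct

namespace Groth.Agent.Lib.Helper26.IterEq

variable {A : Type*} [CommRing A]

/-- If a finite `A`-algebra `C` is "epi after localizing at `S`", then it is
"surjective after localizing at `S`". -/
theorem local_surj (S : Submonoid A) (C : Type*) [CommRing C] [Algebra A C] [Module.Finite A C]
    (h : ∀ b : C, ∃ s ∈ S, ((s • b) ⊗ₜ[A] (1 : C) : C ⊗[A] C) = (1 : C) ⊗ₜ[A] (s • b)) :
    ∀ b : C, ∃ s ∈ S, ∃ a : A, algebraMap A C a = s • b := by
  classical
  let R := Localization S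
  let M := Algebra.algebraMapSubmonoid C S
  let C' := Localization M
  let ι : C →+* C' := algebraMap C C'
  have hcomm : ∀ a : A, ι (algebraMap A C a) = algebraMap R C' (algebraMap A R a) := by
    intro a
    rw [← IsScalarTower.algebraMap_apply A C C', ← IsScalarTower.algebraMap_apply A R C']
  have hfin : Module.Finite R C' := Module.Finite.of_isLocalization A C S
  -- the additive map `C ⊗[A] C → C' ⊗[R] C'`
  let f : C →+ C →+ C' ⊗[R] C' :=
    AddMonoidHom.mk' (fun c => AddMonoidHom.mk' (fun d => ι c ⊗ₜ[R] ι d)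
      (by intro d d'; simp [tmul_add]))
      (by intro c c'; ext d; simp [add_tmul])
  have hf : ∀ (a : A) (c d : C), f (a • c) d = f c (a • d) := by
    intro a c d
    simp only [f, AddMonoidHom.mk'_apply, Algebra.smul_def, map_mul, hcomm]
    rw [← Algebra.smul_def, ← Algebra.smul_def, smul_tmul]
  let Φ : C ⊗[A] C →+ C' ⊗[R] C' := TensorProduct.liftAddHom f hf
  have hΦ : ∀ c d : C, Φ (c ⊗ₜ d) = ι c ⊗ₜ[R] ι d := fun c d => by
    simp [Φ, f]
  have hepi : Algebra.IsEpi R C' := by
    rw [Algebra.isEpi_iff_forall_one_tmul_eq]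
    intro x
    obtain ⟨c, t, rfl⟩ := IsLocalization.exists_mk'_eq M x
    obtain ⟨t0, ht0, ht⟩ := t.2
    -- first: the statement for `ι c`
    have h1 : (1 : C') ⊗ₜ[R] ι c = ι c ⊗ₜ[R] 1 := by
      obtain ⟨s, hs, hsc⟩ := h c
      have h2 := congrArg Φ hsc
      rw [hΦ, hΦ, map_one, Algebra.smul_def, map_mul, hcomm, ← Algebra.smul_def,
        ← smul_tmul', tmul_smul] at h2
      have hu : IsUnit (algebraMap A R s) := IsLocalization.map_units R ⟨s, hs⟩
      exact (hu.smul_left_cancel.mp h2).symm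
    set ρ : R := algebraMap A R t0 with hρ
    have hu : IsUnit ρ := IsLocalization.map_units R ⟨t0, ht0⟩
    have hx : ρ • (IsLocalization.mk' C' c t) = ι c := by
      rw [Algebra.smul_def, hρ, ← hcomm, ht, mul_comm]
      exact IsLocalization.mk'_spec C' c t
    apply hu.smul_left_cancel.mp
    rw [← tmul_smul, smul_tmul', hx, h1]
  have hsurj := (Algebra.isEpi_iff_surjective_algebraMap_of_finite).mp hepi
  intro b
  obtain ⟨r, hr⟩ := hsurj (ι b)
  obtain ⟨a, s, rfl⟩ := IsLocalization.exists_mk'_eq S r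
  have h4 : algebraMap R C' (algebraMap A R (s : A)) * ι b = ι (algebraMap A C a) := by
    rw [← hr, ← map_mul, mul_comm, IsLocalization.mk'_spec, hcomm]
  rw [← hcomm, ← map_mul] at h4
  obtain ⟨u, hu⟩ := (IsLocalization.eq_iff_exists M C').mp h4
  obtain ⟨u0, hu0, hu0'⟩ := u.2
  refine ⟨u0 * s, S.mul_mem hu0 s.2, u0 * a, ?_⟩
  rw [map_mul, hu0', ← hu, mul_smul, Algebra.smul_def, Algebra.smul_def, hu0']

end Groth.Agent.Lib.Helper26.IterEq
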