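import Mathlib
import Groth.Agent.Lib.Helper26.IterEq1
open TensorProduct

namespace Groth.Agent.Lib.Helper26.IterEq

universe u
variable {A B : Type u} [CommRing A] [CommRing B] [Algebra A B]

/-- the conductor-type ideal of a subalgebra: elements of `A` multiplying `D` into the image of `A`. -/
def cond (D : Subalgebra A B) : Ideal A where
  carrier := {a | ∀ b ∈ D, a • b ∈ (⊥ : Subalgebra A B)}
  add_mem' := fun {a a'} ha ha' b hb => by
    rw [add_smul]; exact add_mem (ha b hb) (ha' b hb)
  zero_mem' := fun b _ => by rw [zero_smul]; exact zero_mem _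
  smul_mem' := fun c a ha b hb => by
    rw [smul_eq_mul, mul_smul]; exact Subalgebra.smul_mem _ (ha b hb) c

theorem mem_cond {D : Subalgebra A B} {a : A} :
    a ∈ cond D ↔ ∀ b ∈ D, a • b ∈ (⊥ : Subalgebra A B) := Iff.rfl

theorem common_den [IsNoetherian A B] (D : Subalgebra A B) (S : Submonoid A)
    (h : ∀ b ∈ D, ∃ s ∈ S, s • b ∈ (⊥ : Subalgebra A B)) : ∃ s ∈ S, s ∈ cond D := by
  classical
  obtain ⟨G, hG⟩ : (Subalgebra.toSubmodule D).FG := IsNoetherian.noetherian _
  have h' : ∀ b : B, ∃ s ∈ S, b ∈ D → s • b ∈ (⊥ : Subalgebra A B) := by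
    intro b
    by_cases hb : b ∈ D
    · obtain ⟨s, hs, hsb⟩ := h b hb
      exact ⟨s, hs, fun _ => hsb⟩
    · exact ⟨1, S.one_mem, fun hb' => absurd hb' hb⟩
  choose σ hσS hσ using h'
  refine ⟨∏ g ∈ G, σ g, Submonoid.prod_mem _ fun g _ => hσS g, ?_⟩
  intro b hb
  have hb' : b ∈ Submodule.span A (G : Set B) := by rw [hG]; exact hb
  induction hb' using Submodule.span_induction with
  | mem g hg =>
    have hgD : g ∈ D := by
      have : g ∈ Submodule.span A (G : Set B) := Submodule.subset_span hg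
      rw [hG] at this; exact this
    rw [← Finset.mul_prod_erase G σ hg, mul_comm, mul_smul]
    exact Subalgebra.smul_mem _ (hσ g hgD) _
  | zero => rw [smul_zero]; exact zero_mem _
  | add x y hx hy ihx ihy =>
    have hxD : x ∈ D := by rw [← Subalgebra.mem_toSubmodule, ← hG]; exact hx
    have hyD : y ∈ D := by rw [← Subalgebra.mem_toSubmodule, ← hG]; exact hy
    rw [smul_add]; exact add_mem (ihx hxD) (ihy hyD)
  | smul a x hx ihx =>
    have hxD : x ∈ D := by rw [← Subalgebra.mem_toSubmodule, ← hG]; exact hx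
    rw [smul_comm]; exact Subalgebra.smul_mem _ (ihx hxD) _

end Groth.Agent.Lib.Helper26.IterEq
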