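import Mathlib
import Groth.Agent.Lib.Helper26.IterEq2
open TensorProduct

namespace Groth.Agent.Lib.Helper26.IterEq

universe u
variable {A B : Type u} [CommRing A] [CommRing B] [Algebra A B]

/-- A finitely generated module over a Noetherian local ring `R`, killed by an ideal `I` over which
the maximal ideal is minimal, is Artinian. -/
theorem artinian_of_killed {R : Type*} [CommRing R] [IsNoetherianRing R] [IsLocalRing R]
    (I : Ideal R) (hI : IsLocalRing.maximalIdeal R ∈ I.minimalPrimes)
    (M : Type*) [AddCommGroup M] [Module R M] [Module.Finite R M]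
    (hM : ∀ r ∈ I, ∀ x : M, r • x = 0) : IsArtinian R M := by
  have hart : IsArtinianRing (R ⧸ I) :=
    IsLocalRing.quotient_artinian_of_mem_minimalPrimes_of_isLocalRing I hI
  have hT : Module.IsTorsionBySet R M (I : Set R) := fun x r => hM r.1 r.2 x
  let _ : Module (R ⧸ I) M := hT.module
  have : IsScalarTower R (R ⧸ I) M := hT.isScalarTower
  have : Module.Finite (R ⧸ I) M := Module.Finite.of_restrictScalars_finite R (R ⧸ I) M
  have : IsArtinian (R ⧸ I) M := inferInstance
  exact isArtinian_of_surjective_algebraMap (R := R ⧸ I) (S := R) Ideal.Quotient.mk_surjective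


theorem main [IsNoetherianRing A] [Module.Finite A B]
    (C : ℕ → Subalgebra A B)
    (hstep : ∀ (i : ℕ) (b : B), b ∈ C (i + 1) → ∃ hb : b ∈ C i,
      ((⟨b, hb⟩ : C i) ⊗ₜ[A] (1 : C i) : C i ⊗[A] C i) = (1 : C i) ⊗ₜ[A] (⟨b, hb⟩ : C i)) :
    ∃ m : ℕ, C m = ⊥ := by
  classical
  have hNB : IsNoetherian A B := isNoetherian_of_isNoetherianRing_of_finite A B
  have hanti : Antitone C := antitone_nat_of_succ_le fun i b hb => (hstep i b hb).1
  have hmono : Monotone fun i => cond (C i) := fun i j hij a ha b hb => ha b (hanti hij hb)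
  obtain ⟨n, hn⟩ := monotone_stabilizes_iff_noetherian.mpr inferInstance ⟨_, hmono⟩
  by_cases htop : cond (C n) = ⊤
  · refine ⟨n, le_bot_iff.mp fun b hb => ?_⟩
    have : (1 : A) ∈ cond (C n) := htop ▸ Submodule.mem_top
    simpa using this b hb
  exfalso
  obtain ⟨p, hp⟩ := Ideal.nonempty_minimalPrimes htop
  have hpp : p.IsPrime := hp.1.1
  let S := p.primeCompl
  -- key local statement
  have hkey : ∀ i, n ≤ i → ¬ (∀ b ∈ C i, ∃ s ∈ S, s • b ∈ C (i + 1)) := by
    intro i hi hall
    have h1 : ∀ b : C i, ∃ s ∈ S,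
        ((s • b) ⊗ₜ[A] (1 : C i) : C i ⊗[A] C i) = (1 : C i) ⊗ₜ[A] (s • b) := by
      intro b
      obtain ⟨s, hs, hsb⟩ := hall b.1 b.2
      obtain ⟨hb', e⟩ := hstep i _ hsb
      exact ⟨s, hs, e⟩
    have hfin : Module.Finite A (C i) :=
      Module.Finite.of_fg (IsNoetherian.noetherian (Subalgebra.toSubmodule (C i)))
    have h2 := local_surj S (C i) h1
    have h3 : ∀ b ∈ C i, ∃ s ∈ S, s • b ∈ (⊥ : Subalgebra A B) := by
      intro b hb
      obtain ⟨s, hs, a, ha⟩ := h2 ⟨b, hb⟩
      refine ⟨s, hs, ?_⟩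
      rw [Algebra.mem_bot]
      exact ⟨a, by simpa using congrArg Subtype.val ha⟩
    obtain ⟨s, hs, hsc⟩ := common_den (C i) S h3
    have hle : cond (C i) ≤ p := by
      have := hn i hi
      simp only [OrderHom.coe_mk] at this
      rw [← this]; exact hp.1.2
    exact hs (hle hsc)
  -- the Artinian argument
  let R := Localization.AtPrime p
  have hRN : IsNoetherianRing R := IsLocalization.isNoetherianRing S R inferInstance
  let W : Submodule A B := Subalgebra.toSubmodule (⊥ : Subalgebra A B)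
  let Q := B ⧸ W
  let T := LocalizedModule S Q
  let fQ : Q →ₗ[A] T := LocalizedModule.mkLinearMap S Q
  let N : ℕ → Submodule A Q := fun j => (Subalgebra.toSubmodule (C (n + j))).map W.mkQ
  let U : ℕ → Submodule R T := fun j => (N j).localized' R S fQ
  have hmemU : ∀ j (x : T), x ∈ U j ↔ ∃ c ∈ C (n + j), ∃ s : S, LocalizedModule.mk (W.mkQ c) s = x := by
    intro j x
    rw [Submodule.mem_localized']
    constructor
    · rintro ⟨m, ⟨c, hc, rfl⟩, s, rfl⟩
      exact ⟨c, hc, s, IsLocalizedModule.mk_eq_mk' s _⟩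
    · rintro ⟨c, hc, s, rfl⟩
      exact ⟨W.mkQ c, ⟨c, hc, rfl⟩, s, (IsLocalizedModule.mk_eq_mk' s _).symm⟩
  have hU_anti : Antitone U := by
    intro i j hij x hx
    rw [hmemU] at hx ⊢
    obtain ⟨c, hc, s, rfl⟩ := hx
    exact ⟨c, hanti (Nat.add_le_add_left hij n) hc, s, rfl⟩
  have hTfin : Module.Finite R T := Module.Finite.of_isLocalizedModule S fQ
  have hTN : IsNoetherian R T := isNoetherian_of_isNoetherianRing_of_finite R T
  have hU0fin : Module.Finite R (U 0) := Module.Finite.of_fg (IsNoetherian.noetherian (U 0))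
  let I : Ideal R := (cond (C n)).map (algebraMap A R)
  have hI : IsLocalRing.maximalIdeal R ∈ I.minimalPrimes := by
    rw [IsLocalization.minimalPrimes_map S R (cond (C n)), Set.mem_preimage,
      IsLocalization.AtPrime.under_maximalIdeal R p]
    exact hp
  have hkill : ∀ r ∈ I, ∀ x : U 0, r • x = 0 := by
    have hle : I ≤ Module.annihilator R (U 0) := by
      rw [Ideal.map_le_iff_le_comap]
      intro a ha
      rw [Ideal.mem_comap, Module.mem_annihilator]
      rintro ⟨x, hx⟩
      obtain ⟨c, hc, s, rfl⟩ := (hmemU 0 x).mp hx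
      apply Subtype.ext
      change algebraMap A R a • LocalizedModule.mk (W.mkQ c) s = 0
      rw [algebraMap_smul, LocalizedModule.smul'_mk, ← map_smul]
      have : W.mkQ (a • c) = 0 := by
        rw [Submodule.mkQ_apply, Submodule.Quotient.mk_eq_zero]
        exact ha c hc
      rw [this, LocalizedModule.zero_mk]
    intro r hr x
    exact Module.mem_annihilator.mp (hle hr) x
  have hart : IsArtinian R (U 0) := artinian_of_killed I hI (U 0) hkill
  let g : ℕ →o (Submodule R (U 0))ᵒᵈ :=
    ⟨fun j => OrderDual.toDual ((U j).comap (U 0).subtype), fun i j hij =>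
      OrderDual.toDual_le_toDual.mpr (Submodule.comap_mono (hU_anti hij))⟩
  obtain ⟨k, hk⟩ := IsArtinian.monotone_stabilizes g
  have hUk : U k = U (k + 1) := by
    have h1 : (U k).comap (U 0).subtype = (U (k + 1)).comap (U 0).subtype :=
      OrderDual.toDual.injective (hk (k + 1) (Nat.le_succ k))
    have h2 := congrArg (Submodule.map (U 0).subtype) h1
    rw [Submodule.map_comap_subtype, Submodule.map_comap_subtype,
      inf_eq_right.mpr (hU_anti (Nat.zero_le k)),
      inf_eq_right.mpr (hU_anti (Nat.zero_le (k + 1)))] at h2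
    exact h2
  apply hkey (n + k) (Nat.le_add_right _ _)
  intro b hb
  have hmem : LocalizedModule.mk (W.mkQ b) (1 : S) ∈ U k := (hmemU k _).mpr ⟨b, hb, 1, rfl⟩
  rw [hUk] at hmem
  obtain ⟨c, hc, s, hcs⟩ := (hmemU (k + 1) _).mp hmem
  rw [LocalizedModule.mk_eq] at hcs
  obtain ⟨u, hu⟩ := hcs
  refine ⟨u * s, S.mul_mem u.2 s.2, ?_⟩
  have hc' : c ∈ C (n + k + 1) := hc
  have h5 : W.mkQ ((u : A) • c - ((u : A) * (s : A)) • b) = 0 := by
    rw [map_sub, map_smul, map_smul, mul_smul, sub_eq_zero]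
    simpa [Submonoid.smul_def] using hu
  rw [Submodule.mkQ_apply, Submodule.Quotient.mk_eq_zero] at h5
  have h6 : (u : A) • c - ((u : A) * (s : A)) • b ∈ C (n + k + 1) :=
    (bot_le : (⊥ : Subalgebra A B) ≤ C (n + k + 1)) h5
  have h7 : ((u : A) * (s : A)) • b = (u : A) • c - ((u : A) • c - ((u : A) * (s : A)) • b) := by
    abel
  rw [h7]
  exact sub_mem (Subalgebra.smul_mem _ hc' _) h6

end Groth.Agent.Lib.Helper26.IterEq
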