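import Mathlib

/-!
# Kaplansky dévissage I: a direct sum dévissage gives a direct sum decomposition
-/

set_option autoImplicit false
universe u

namespace Groth.Agent.Lib.Helper26.Kap

open scoped Classical
open DirectSum

section

variable {R : Type u} [CommRing R] {M : Type u} [AddCommGroup M] [Module R M]
variable {S : Type u} [LinearOrder S] [WellFoundedLT S]

/-- index type of successor steps -/
abbrev Step (S : Type u) [LinearOrder S] : Type u := {p : S × S // p.1 ⋖ p.2}

/-- a complement `C` of `A` in `B` is isomorphic to the quotient `B / A`. -/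
noncomputable def complEquiv (A B C : Submodule R M) (h1 : A ⊓ C = ⊥) (h2 : A ⊔ C = B) :
    C ≃ₗ[R] (↥B ⧸ Submodule.comap B.subtype A) := by
  have hCB : C ≤ B := h2 ▸ le_sup_right
  refine LinearEquiv.ofBijective
    ((Submodule.mkQ (Submodule.comap B.subtype A)).comp (Submodule.inclusion hCB)) ⟨?_, ?_⟩
  · rw [injective_iff_map_eq_zero]
    intro c hc
    have : (c : M) ∈ A := by
      have := (Submodule.Quotient.mk_eq_zero _).mp hc
      simpa using this
    have hc0 : (c : M) ∈ A ⊓ C := ⟨this, c.2⟩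
    rw [h1] at hc0
    exact Subtype.ext ((Submodule.mem_bot R).mp hc0)
  · intro y
    obtain ⟨⟨b, hb⟩, rfl⟩ := Submodule.Quotient.mk_surjective _ y
    rw [← h2] at hb
    obtain ⟨a, ha, c, hc, rfl⟩ := Submodule.mem_sup.mp hb
    refine ⟨⟨c, hc⟩, ?_⟩
    simp only [LinearMap.comp_apply, Submodule.mkQ_apply]
    rw [Submodule.Quotient.eq]
    simp only [Submodule.mem_comap, Submodule.subtype_apply, AddSubgroupClass.coe_sub,
      Submodule.coe_inclusion]
    have : c - (a + c) = -a := by abel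
    rw [this]
    exact A.neg_mem ha

variable (Mf : S → Submodule R M) (hmono : Monotone Mf)
  (C : Step S → Submodule R M)
  (hC1 : ∀ p : Step S, Mf p.1.1 ⊓ C p = ⊥)
  (hC2 : ∀ p : Step S, Mf p.1.1 ⊔ C p = Mf p.1.2)

include hmono hC2 in
theorem C_le (p : Step S) {s : S} (h : p.1.2 ≤ s) : C p ≤ Mf s :=
  (hC2 p ▸ le_sup_right : C p ≤ Mf p.1.2).trans (hmono h)

include hmono hC2 in
theorem Mf_le_iSup (hlim : ∀ s : S, Order.IsSuccPrelimit s → Mf s = ⨆ t : {t : S // t < s}, Mf t.1)
    (s : S) : Mf s ≤ ⨆ (p : Step S) (_ : p.1.2 ≤ s), C p := by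
  induction s using WellFoundedLT.induction with
  | ind s ih =>
    by_cases hs : Order.IsSuccPrelimit s
    · rw [hlim s hs]
      refine iSup_le fun t => ?_
      refine (ih t.1 t.2).trans ?_
      refine iSup₂_le fun p hp => ?_
      exact le_iSup₂_of_le p (hp.trans t.2.le) le_rfl
    · rw [Order.IsSuccPrelimit] at hs
      push Not at hs
      obtain ⟨a, ha⟩ := hs
      have h2 := hC2 ⟨(a, s), ha⟩
      simp only at h2
      rw [← h2]
      refine sup_le ?_ ?_
      · refine (ih a ha.lt).trans ?_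
        refine iSup₂_le fun p hp => ?_
        exact le_iSup₂_of_le p (hp.trans ha.lt.le) le_rfl
      · exact le_iSup₂_of_le ⟨(a, s), ha⟩ le_rfl le_rfl

include hmono hC2 in
theorem iSup_C_eq_top (hlim : ∀ s : S, Order.IsSuccPrelimit s → Mf s = ⨆ t : {t : S // t < s}, Mf t.1)
    (htop : (⨆ s, Mf s) = ⊤) : (⨆ p, C p) = ⊤ := by
  rw [eq_top_iff, ← htop]
  refine iSup_le fun s => ?_
  refine (Mf_le_iSup Mf hmono C hC2 hlim s).trans ?_
  exact iSup₂_le fun p _ => le_iSup C p

include hmono hC1 hC2 in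
theorem coe_injective : Function.Injective (DirectSum.coeLinearMap C) := by
  rw [injective_iff_map_eq_zero]
  intro x hx
  by_contra hne
  have hsupp : (DFinsupp.support x).Nonempty := by
    rw [Finset.nonempty_iff_ne_empty, Ne, DFinsupp.support_eq_empty]
    exact hne
  obtain ⟨p₀, hp₀, hmax⟩ := Finset.exists_max_image (DFinsupp.support x) (fun p : Step S => p.1.2) hsupp
  have hsum : (∑ p ∈ DFinsupp.support x, ((x p : C p) : M)) = 0 := by
    rw [← hx, DirectSum.coeLinearMap_eq_dfinsuppSum, DFinsupp.sum]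
  rw [← Finset.add_sum_erase _ _ hp₀] at hsum
  have hmem : ((x p₀ : C p₀) : M) ∈ Mf p₀.1.1 := by
    rw [eq_neg_of_add_eq_zero_left hsum]
    refine Submodule.neg_mem _ (Submodule.sum_mem _ fun q hq => ?_)
    have hq' := Finset.mem_erase.mp hq
    have hle : q.1.2 ≤ p₀.1.2 := hmax q hq'.2
    have hlt : q.1.2 < p₀.1.2 := by
      refine lt_of_le_of_ne hle fun heq => hq'.1 ?_
      -- predecessor is unique
      have h1 : q.1.1 = p₀.1.1 := by
        have hq2 := q.2
        have hp2 := p₀.2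
        rw [heq] at hq2
        by_contra hne'
        rcases lt_or_gt_of_ne hne' with h | h
        · exact hq2.2 h hp2.lt
        · exact hp2.2 h hq2.lt
      exact Subtype.ext (Prod.ext h1 heq)
    have hle' : q.1.2 ≤ p₀.1.1 := by
      by_contra hcon
      push Not at hcon
      exact p₀.2.2 hcon hlt
    exact C_le Mf hmono C hC2 q hle' (x q).2
  have h0 : ((x p₀ : C p₀) : M) ∈ Mf p₀.1.1 ⊓ C p₀ := ⟨hmem, (x p₀).2⟩
  rw [hC1] at h0
  have : x p₀ = 0 := Subtype.ext ((Submodule.mem_bot R).mp h0)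
  exact (DFinsupp.mem_support_iff.mp hp₀) this

include hmono hC1 hC2 in
theorem isInternal (hlim : ∀ s : S, Order.IsSuccPrelimit s → Mf s = ⨆ t : {t : S // t < s}, Mf t.1)
    (htop : (⨆ s, Mf s) = ⊤) : DirectSum.IsInternal C := by
  refine DirectSum.isInternal_submodule_of_iSupIndep_of_iSup_eq_top ?_
    (iSup_C_eq_top Mf hmono C hC2 hlim htop)
  refine iSupIndep_of_dfinsupp_lsum_injective C ?_
  exact coe_injective Mf hmono C hC1 hC2

end

theorem main (R : Type u) [CommRing R] (M : Type u)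
    [AddCommGroup M] [Module R M] (S : Type u) [LinearOrder S] [WellFoundedLT S] (Mf : S → Submodule R M)
    (hmono : Monotone Mf) :
    (∀ s : S, Order.IsSuccPrelimit s → Mf s = ⨆ t : {t : S // t < s}, Mf t.1) →
      (⨆ s, Mf s) = ⊤ →
      (∀ s t : S, s ⋖ t → ∃ C : Submodule R M, Mf s ⊓ C = ⊥ ∧ Mf s ⊔ C = Mf t) →
      Nonempty (M ≃ₗ[R] DirectSum {p : S × S // p.1 ⋖ p.2}
        fun p => ↥(Mf p.1.2) ⧸ Submodule.comap (Mf p.1.2).subtype (Mf p.1.1)) := by
  intro hlim htop hsucc
  choose C hC1 hC2 using fun p : Step S => hsucc p.1.1 p.1.2 p.2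
  have hint := isInternal Mf hmono C hC1 hC2 hlim htop
  have e1 : (⨁ p, C p) ≃ₗ[R] M := LinearEquiv.ofBijective (DirectSum.coeLinearMap C) hint
  have e2 : (⨁ p, C p) ≃ₗ[R] DirectSum (Step S)
      fun p => ↥(Mf p.1.2) ⧸ Submodule.comap (Mf p.1.2).subtype (Mf p.1.1) :=
    DFinsupp.mapRange.linearEquiv fun p => complEquiv (Mf p.1.1) (Mf p.1.2) (C p) (hC1 p) (hC2 p)
  exact ⟨e1.symm.trans e2⟩

end Groth.Agent.Lib.Helper26.Kap
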