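import Mathlib
import Groth.Prelude.Def_Found
import Groth.Agent.Lib.Helper26.Kap1

/-!
# Kaplansky dévissage II: direct sums of countably generated modules ↔ Kaplansky dévissage
-/

set_option autoImplicit false
universe u

namespace Groth.Agent.Lib.Helper26.Kap

open scoped Classical
open DirectSum

theorem isCountablyGenerated_of_surjective {R : Type u} [CommRing R] {M N : Type u}
    [AddCommGroup M] [Module R M] [AddCommGroup N] [Module R N] (f : M →ₗ[R] N)
    (hf : Function.Surjective f) (h : CAlg.IsCountablyGenerated R M) :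
    CAlg.IsCountablyGenerated R N := by
  obtain ⟨s, hs, hspan⟩ := h
  refine ⟨f '' s, hs.image f, ?_⟩
  rw [← Submodule.map_span, hspan, Submodule.map_top, LinearMap.range_eq_top.mpr hf]

section

variable {R : Type u} [CommRing R] {M : Type u} [AddCommGroup M] [Module R M]
variable {ι : Type u} [LinearOrder ι] (N : ι → Submodule R M)

/-- the filtration attached to a well-ordered direct sum decomposition -/
noncomputable def filt (s : WithTop ι) : Submodule R M := ⨆ (i : ι) (_ : (i : WithTop ι) < s), N i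

theorem filt_mono : Monotone (filt N) := by
  intro s t hst
  refine iSup₂_le fun i hi => ?_
  exact le_iSup₂_of_le i (hi.trans_le hst) le_rfl

theorem filt_top : filt N ⊤ = ⨆ i, N i := by
  unfold filt
  refine le_antisymm (iSup₂_le fun i _ => le_iSup N i) (iSup_le fun i => ?_)
  exact le_iSup₂_of_le i (WithTop.coe_lt_top i) le_rfl

theorem filt_lim (s : WithTop ι) (hs : Order.IsSuccPrelimit s) :
    filt N s = ⨆ t : {t : WithTop ι // t < s}, filt N t.1 := by
  refine le_antisymm ?_ (iSup_le fun t => filt_mono N t.2.le)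
  refine iSup₂_le fun i hi => ?_
  have hnc : ¬ ((i : WithTop ι) ⋖ s) := hs _
  rw [not_covBy_iff hi] at hnc
  obtain ⟨c, hc1, hc2⟩ := hnc
  refine le_trans ?_ (le_iSup (fun t : {t : WithTop ι // t < s} => filt N t.1) ⟨c, hc2⟩)
  exact le_iSup₂_of_le i hc1 le_rfl

theorem filt_succ (i : ι) (t : WithTop ι) (h : (i : WithTop ι) ⋖ t) :
    filt N i ⊔ N i = filt N t := by
  refine le_antisymm (sup_le (filt_mono N h.lt.le) (le_iSup₂_of_le i h.lt le_rfl)) ?_
  refine iSup₂_le fun j hj => ?_
  have hji : j ≤ i := by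
    by_contra hcon
    push Not at hcon
    exact h.2 (WithTop.coe_lt_coe.mpr hcon) hj
  rcases hji.lt_or_eq with hlt | rfl
  · exact le_sup_of_le_left (le_iSup₂_of_le j (WithTop.coe_lt_coe.mpr hlt) le_rfl)
  · exact le_sup_right

theorem filt_inf (hind : iSupIndep N) (i : ι) : filt N i ⊓ N i = ⊥ := by
  have := hind i
  rw [disjoint_iff, inf_comm] at this
  refine le_bot_iff.mp (this ▸ ?_)
  refine inf_le_inf_right _ ?_
  refine iSup₂_le fun j hj => ?_
  have : j ≠ i := (WithTop.coe_lt_coe.mp hj).ne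
  exact le_iSup₂_of_le j this le_rfl

end

theorem main2 (R : Type u) [CommRing R] (M : Type u)
    [AddCommGroup M] [Module R M] :
    (∃ (ι : Type u) (N : ι → Submodule R M), DirectSum.IsInternal N ∧ ∀ i, CAlg.IsCountablyGenerated R (N i)) ↔
      ∃ (S : Type u) (_ : LinearOrder S) (_ : WellFoundedLT S) (Mf : S → Submodule R M), Monotone Mf ∧
        (∀ s : S, Order.IsSuccPrelimit s → Mf s = ⨆ t : {t : S // t < s}, Mf t.1) ∧
        (⨆ s, Mf s) = ⊤ ∧
        (∀ s t : S, s ⋖ t → ∃ C : Submodule R M, Mf s ⊓ C = ⊥ ∧ Mf s ⊔ C = Mf t ∧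
          CAlg.IsCountablyGenerated R (↥(Mf t) ⧸ Submodule.comap (Mf t).subtype (Mf s))) := by
  constructor
  · rintro ⟨ι, N, hint, hcg⟩
    have htop' := hint.submodule_iSup_eq_top
    have hind := hint.submodule_iSupIndep
    clear hint
    obtain ⟨_, hwf⟩ := exists_wellOrder ι
    refine ⟨WithTop ι, inferInstance, inferInstance, filt N, filt_mono N, filt_lim N, ?_, ?_⟩
    · rw [eq_top_iff, ← htop', ← filt_top N]
      exact le_iSup (filt N) ⊤
    · intro s t hst
      have hs : s ≠ ⊤ := (hst.lt.trans_le le_top).ne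
      obtain ⟨i, rfl⟩ := WithTop.ne_top_iff_exists.mp hs
      have h1 := filt_inf N hind i
      have h2 := filt_succ N i t hst
      refine ⟨N i, h1, h2, ?_⟩
      exact isCountablyGenerated_of_surjective (complEquiv _ _ _ h1 h2).toLinearMap
        (complEquiv _ _ _ h1 h2).surjective (hcg i)
  · rintro ⟨S, _, _, Mf, hmono, hlim, htop, hsucc⟩
    choose C hC1 hC2 hC3 using fun p : Step S => hsucc p.1.1 p.1.2 p.2
    refine ⟨Step S, C, ?_, fun p => ?_⟩
    · convert isInternal Mf hmono C hC1 hC2 hlim htop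
    · exact isCountablyGenerated_of_surjective (complEquiv _ _ _ (hC1 p) (hC2 p)).symm.toLinearMap
        (complEquiv _ _ _ (hC1 p) (hC2 p)).symm.surjective (hC3 p)

end Groth.Agent.Lib.Helper26.Kap
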