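import Mathlib

set_option autoImplicit false
universe u
set_option linter.unusedSectionVars false

namespace Groth.Agent.Helper26.Kempf

variable {E : Type*} [NormedAddCommGroup E] [InnerProductSpace ℝ E] [FiniteDimensional ℝ E]
  (F : Finset (Module.Dual ℝ E)) (hF : F.Nonempty)

/-- the minimum of finitely many functionals -/
noncomputable def minF (v : E) : ℝ := F.inf' hF (fun f => f v)

theorem minF_le {f : Module.Dual ℝ E} (hf : f ∈ F) (v : E) : minF F hF v ≤ f v :=
  Finset.inf'_le (fun f => f v) hf

theorem le_minF {a : ℝ} {v : E} (h : ∀ f ∈ F, a ≤ f v) : a ≤ minF F hF v :=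
  (Finset.le_inf'_iff hF _).2 h

theorem le_minF_iff {a : ℝ} {v : E} : a ≤ minF F hF v ↔ ∀ f ∈ F, a ≤ f v :=
  Finset.le_inf'_iff hF _

theorem exists_minF_eq (v : E) : ∃ f ∈ F, minF F hF v = f v :=
  Finset.exists_mem_eq_inf' hF (fun f => f v)

theorem minF_zero : minF F hF (0 : E) = 0 := by
  obtain ⟨f, -, h⟩ := exists_minF_eq F hF (0 : E)
  rw [h, map_zero]

theorem minF_smul {c : ℝ} (hc : 0 ≤ c) (v : E) : minF F hF (c • v) = c * minF F hF v := by
  apply le_antisymm
  · obtain ⟨f, hf, h⟩ := exists_minF_eq F hF v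
    rw [h, ← smul_eq_mul, ← map_smul]
    exact minF_le F hF hf _
  · apply le_minF
    intro f hf
    rw [map_smul, smul_eq_mul]
    exact mul_le_mul_of_nonneg_left (minF_le F hF hf v) hc

theorem minF_add_le (u v : E) : minF F hF u + minF F hF v ≤ minF F hF (u + v) := by
  apply le_minF
  intro f hf
  rw [map_add]
  exact add_le_add (minF_le F hF hf u) (minF_le F hF hf v)

theorem continuous_minF : Continuous (minF F hF) := by
  unfold minF
  exact Continuous.finset_inf'_apply hF
    (fun f _ => LinearMap.continuous_of_finiteDimensional f)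

end Groth.Agent.Helper26.Kempf
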