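import Mathlib
import Groth.Agent.Lib.Helper26.Kempf1

set_option autoImplicit false
universe u
set_option linter.unusedSectionVars false

namespace Groth.Agent.Helper26.Kempf

variable {E : Type*} [NormedAddCommGroup E] [InnerProductSpace ℝ E] [FiniteDimensional ℝ E]
  (F : Finset (Module.Dual ℝ E)) (hF : F.Nonempty)
  (G : Finset (Module.Dual ℝ E)) (hG : G.Nonempty)

theorem minF_normalize (v : E) : minF G hG (‖v‖⁻¹ • v) = minF G hG v / ‖v‖ := by
  rw [minF_smul G hG (inv_nonneg.2 (norm_nonneg v)), div_eq_inv_mul]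

theorem norm_normalize {v : E} (hv : v ≠ 0) : ‖‖v‖⁻¹ • v‖ = 1 := by
  rw [norm_smul, norm_inv, norm_norm, inv_mul_cancel₀ (norm_ne_zero_iff.2 hv)]

theorem exists_max (hpos : ∃ v : E, 0 ≤ minF F hF v ∧ 0 < minF G hG v) :
    ∃ u : E, ‖u‖ = 1 ∧ 0 ≤ minF F hF u ∧ 0 < minF G hG u ∧
      ∀ v : E, v ≠ 0 → 0 ≤ minF F hF v → minF G hG v / ‖v‖ ≤ minF G hG u := by
  obtain ⟨v₁, hv₁F, hv₁G⟩ := hpos
  have hv₁0 : v₁ ≠ 0 := by
    rintro rfl
    rw [minF_zero] at hv₁G
    exact lt_irrefl _ hv₁G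
  let K : Set E := Metric.sphere (0 : E) 1 ∩ {u | 0 ≤ minF F hF u}
  have hKc : IsCompact K := by
    apply (isCompact_sphere (0 : E) 1).inter_right
    exact isClosed_le continuous_const (continuous_minF F hF)
  have hmemK : ∀ v : E, v ≠ 0 → 0 ≤ minF F hF v → ‖v‖⁻¹ • v ∈ K := by
    intro v hv hvF
    refine ⟨?_, ?_⟩
    · rw [mem_sphere_zero_iff_norm]
      exact norm_normalize hv
    · show 0 ≤ minF F hF (‖v‖⁻¹ • v)
      rw [minF_normalize]
      exact div_nonneg hvF (norm_nonneg v)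
  have hKne : K.Nonempty := ⟨_, hmemK v₁ hv₁0 hv₁F⟩
  obtain ⟨u, huK, humax⟩ := hKc.exists_isMaxOn hKne (continuous_minF G hG).continuousOn
  have hu1 : ‖u‖ = 1 := mem_sphere_zero_iff_norm.1 huK.1
  have hmax : ∀ v : E, v ≠ 0 → 0 ≤ minF F hF v → minF G hG v / ‖v‖ ≤ minF G hG u := by
    intro v hv hvF
    have := humax (hmemK v hv hvF)
    rw [Set.mem_ofPred_eq, minF_normalize] at this
    exact this
  refine ⟨u, hu1, huK.2, ?_, hmax⟩
  exact lt_of_lt_of_le (div_pos hv₁G (norm_pos_iff.2 hv₁0)) (hmax v₁ hv₁0 hv₁F)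

theorem ray_unique (u : E) (hu1 : ‖u‖ = 1) (huF : 0 ≤ minF F hF u) (hM : 0 < minF G hG u)
    (hmax : ∀ v : E, v ≠ 0 → 0 ≤ minF F hF v → minF G hG v / ‖v‖ ≤ minF G hG u)
    (v : E) (hv0 : v ≠ 0) (hvF : 0 ≤ minF F hF v) (hv : minF G hG v / ‖v‖ = minF G hG u) :
    v = ‖v‖ • u := by
  set v' := ‖v‖⁻¹ • v with hv'
  have hv'1 : ‖v'‖ = 1 := norm_normalize hv0
  have hv'G : minF G hG v' = minF G hG u := by rw [hv', minF_normalize, hv]
  have hv'F : 0 ≤ minF F hF v' := by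
    rw [hv', minF_normalize]; exact div_nonneg hvF (norm_nonneg v)
  have key : v' = u := by
    by_contra hne
    have hnr : ¬ SameRay ℝ v' u := (not_sameRay_iff_of_norm_eq (hv'1.trans hu1.symm)).2 hne
    have hlt : ‖v' + u‖ < 2 := by
      have := norm_add_lt_of_not_sameRay hnr
      rw [hv'1, hu1] at this
      linarith
    have hsG : 2 * minF G hG u ≤ minF G hG (v' + u) := by
      have := minF_add_le G hG v' u
      rw [hv'G] at this
      linarith
    have hs0 : v' + u ≠ 0 := by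
      intro h0
      rw [h0, minF_zero] at hsG
      linarith
    have hsF : 0 ≤ minF F hF (v' + u) := by
      have := minF_add_le F hF v' u
      linarith
    have h1 := hmax (v' + u) hs0 hsF
    have hpos : 0 < ‖v' + u‖ := norm_pos_iff.2 hs0
    rw [div_le_iff₀ hpos] at h1
    nlinarith
  rw [← key, hv', smul_smul, mul_inv_cancel₀ (norm_ne_zero_iff.2 hv0), one_smul]

end Groth.Agent.Helper26.Kempf
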