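import Mathlib

set_option autoImplicit false
universe u
set_option linter.unusedSectionVars false

namespace Groth.Agent.Helper26.Kempf

open scoped RealInnerProductSpace

theorem exists_eps {ι : Type*} (T : Finset ι) (δ : ι → ℝ) (P : ι → Prop)
    (h : ∀ i ∈ T, P i → 0 < δ i) : ∃ ε > 0, ∀ i ∈ T, P i → ε ≤ δ i := by
  classical
  induction T using Finset.induction_on with
  | empty => exact ⟨1, one_pos, by simp⟩
  | insert a s ha ih =>
    obtain ⟨ε, hε, hε'⟩ := ih (fun i hi hP => h i (Finset.mem_insert_of_mem hi) hP)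
    by_cases hPa : P a
    · have hδa := h a (Finset.mem_insert_self a s) hPa
      refine ⟨min ε (δ a), lt_min hε hδa, ?_⟩
      intro i hi hP
      rcases Finset.mem_insert.1 hi with rfl | hi
      · exact min_le_right _ _
      · exact (min_le_left _ _).trans (hε' i hi hP)
    · refine ⟨ε, hε, ?_⟩
      intro i hi hP
      rcases Finset.mem_insert.1 hi with rfl | hi
      · exact absurd hP hPa
      · exact hε' i hi hP

variable {E : Type*} [NormedAddCommGroup E] [InnerProductSpace ℝ E]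
  (F G : Finset (Module.Dual ℝ E))

/-- small perturbations stay in the polyhedron -/
theorem exists_eps_mem (w d : E) (hwF : ∀ f ∈ F, 0 ≤ f w) (hwG : ∀ g ∈ G, 1 ≤ g w)
    (hdF : ∀ f ∈ F, f w = 0 → f d = 0) (hdG : ∀ g ∈ G, g w = 1 → g d = 0) :
    ∃ ε > 0, ∀ t : ℝ, 0 ≤ t → t ≤ ε → (∀ f ∈ F, 0 ≤ f (w - t • d)) ∧ (∀ g ∈ G, 1 ≤ g (w - t • d)) := by
  obtain ⟨ε₁, hε₁, h₁⟩ := exists_eps F (fun f => f w / (|f d| + 1)) (fun f => f w ≠ 0)
    (fun f hf hne => div_pos (lt_of_le_of_ne (hwF f hf) (Ne.symm hne)) (by positivity))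
  obtain ⟨ε₂, hε₂, h₂⟩ := exists_eps G (fun g => (g w - 1) / (|g d| + 1)) (fun g => g w ≠ 1)
    (fun g hg hne => div_pos (sub_pos.2 (lt_of_le_of_ne (hwG g hg) (Ne.symm hne)))
      (by positivity))
  refine ⟨min ε₁ ε₂, lt_min hε₁ hε₂, ?_⟩
  intro t ht0 ht
  have ht1 : t ≤ ε₁ := ht.trans (min_le_left _ _)
  have ht2 : t ≤ ε₂ := ht.trans (min_le_right _ _)
  constructor
  · intro f hf
    rw [map_sub, map_smul, smul_eq_mul]
    by_cases h0 : f w = 0
    · rw [h0, hdF f hf h0]; simp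
    · have h3 := h₁ f hf h0
      have hpos : 0 < |f d| + 1 := by positivity
      have h4 : t * (|f d| + 1) ≤ f w := by
        have := ht1.trans h3
        rwa [le_div_iff₀ hpos] at this
      have h5 : t * f d ≤ t * |f d| := mul_le_mul_of_nonneg_left (le_abs_self _) ht0
      nlinarith
  · intro g hg
    rw [map_sub, map_smul, smul_eq_mul]
    by_cases h0 : g w = 1
    · rw [h0, hdG g hg h0]; simp
    · have h3 := h₂ g hg h0
      have hpos : 0 < |g d| + 1 := by positivity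
      have h4 : t * (|g d| + 1) ≤ g w - 1 := by
        have := ht2.trans h3
        rwa [le_div_iff₀ hpos] at this
      have h5 : t * g d ≤ t * |g d| := mul_le_mul_of_nonneg_left (le_abs_self _) ht0
      nlinarith

theorem inner_le_zero (w d : E) (hwF : ∀ f ∈ F, 0 ≤ f w) (hwG : ∀ g ∈ G, 1 ≤ g w)
    (hmin : ∀ v : E, (∀ f ∈ F, 0 ≤ f v) → (∀ g ∈ G, 1 ≤ g v) → ‖w‖ ≤ ‖v‖)
    (hdF : ∀ f ∈ F, f w = 0 → f d = 0) (hdG : ∀ g ∈ G, g w = 1 → g d = 0) :
    ⟪w, d⟫ ≤ 0 := by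
  by_contra hcon
  rw [not_le] at hcon
  obtain ⟨ε, hε, hmem⟩ := exists_eps_mem F G w d hwF hwG hdF hdG
  set a := ⟪w, d⟫ with ha
  set b := ‖d‖ ^ 2 with hb
  have hb0 : 0 ≤ b := by positivity
  set t := min ε (a / (b + 1)) with ht
  have htpos : 0 < t := lt_min hε (div_pos hcon (by positivity))
  have hta : t * (b + 1) ≤ a := by
    have : t ≤ a / (b + 1) := min_le_right _ _
    rwa [le_div_iff₀ (by positivity)] at this
  obtain ⟨h1, h2⟩ := hmem t htpos.le (min_le_left _ _)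
  have h3 := hmin (w - t • d) h1 h2
  have h4 : ‖w - t • d‖ ^ 2 = ‖w‖ ^ 2 - 2 * t * a + t ^ 2 * b := by
    rw [norm_sub_sq_real, inner_smul_right, norm_smul, mul_pow, Real.norm_eq_abs, sq_abs]
    ring
  have h5 : ‖w‖ ^ 2 ≤ ‖w - t • d‖ ^ 2 := by
    apply pow_le_pow_left₀ (norm_nonneg w) h3
  nlinarith

theorem inner_eq_zero (w d : E) (hwF : ∀ f ∈ F, 0 ≤ f w) (hwG : ∀ g ∈ G, 1 ≤ g w)
    (hmin : ∀ v : E, (∀ f ∈ F, 0 ≤ f v) → (∀ g ∈ G, 1 ≤ g v) → ‖w‖ ≤ ‖v‖)
    (hdF : ∀ f ∈ F, f w = 0 → f d = 0) (hdG : ∀ g ∈ G, g w = 1 → g d = 0) :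
    ⟪w, d⟫ = 0 := by
  apply le_antisymm (inner_le_zero F G w d hwF hwG hmin hdF hdG)
  have := inner_le_zero F G w (-d) hwF hwG hmin
    (fun f hf h0 => by rw [map_neg, hdF f hf h0, neg_zero])
    (fun g hg h0 => by rw [map_neg, hdG g hg h0, neg_zero])
  rw [inner_neg_right] at this
  linarith

end Groth.Agent.Helper26.Kempf
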