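import Mathlib

set_option autoImplicit false
universe u
set_option linter.unusedSectionVars false

namespace Groth.Agent.Helper26.Kempf

open scoped RealInnerProductSpace
open Module

theorem exists_retraction : ∃ π : ℝ →ₗ[ℚ] ℚ, ∀ q : ℚ, π (q : ℝ) = q := by
  obtain ⟨g, hg⟩ := LinearMap.exists_leftInverse_of_injective (Algebra.linearMap ℚ ℝ)
    (LinearMap.ker_eq_bot.2 (algebraMap ℚ ℝ).injective)
  refine ⟨g, fun q => ?_⟩
  have := LinearMap.congr_fun hg q
  simpa using this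

theorem rat_solve (π : ℝ →ₗ[ℚ] ℚ) (hπ : ∀ q : ℚ, π (q : ℝ) = q) {ι : Type*} (T : Finset ι)
    (x : ι → ℝ) (A : ι → ℚ) (a : ℚ) (h : ∑ i ∈ T, x i * (A i : ℝ) = a) :
    ∑ i ∈ T, ((π (x i) : ℚ) : ℝ) * (A i : ℝ) = a := by
  have h1 := congrArg π h
  rw [map_sum, hπ] at h1
  have h2 : ∀ i ∈ T, π (x i * (A i : ℝ)) = π (x i) * A i := by
    intro i _
    have : x i * (A i : ℝ) = A i • x i := by rw [Rat.smul_def, mul_comm]
    rw [this, map_smul, smul_eq_mul, mul_comm]
  rw [Finset.sum_congr rfl h2] at h1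
  have := congrArg (fun q : ℚ => (q : ℝ)) h1
  simpa using this

section
variable {E : Type*} [NormedAddCommGroup E] [InnerProductSpace ℝ E] [FiniteDimensional ℝ E]
  (L : Submodule ℤ E)

/-- rational vectors -/
def IsRat (v : E) : Prop := ∃ N : ℕ, 0 < N ∧ N • v ∈ L

theorem isRat_of_mem {v : E} (hv : v ∈ L) : IsRat L v := ⟨1, one_pos, by simpa using hv⟩

theorem IsRat.add {v v' : E} (h : IsRat L v) (h' : IsRat L v') : IsRat L (v + v') := by
  obtain ⟨N, hN, hv⟩ := h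
  obtain ⟨M, hM, hv'⟩ := h'
  refine ⟨N * M, Nat.mul_pos hN hM, ?_⟩
  rw [smul_add]
  apply L.add_mem
  · rw [mul_comm, mul_smul]; exact nsmul_mem hv M
  · rw [mul_smul]; exact nsmul_mem hv' N

theorem IsRat.smul_rat {v : E} (h : IsRat L v) (q : ℚ) : IsRat L ((q : ℝ) • v) := by
  obtain ⟨N, hN, hv⟩ := h
  refine ⟨q.den * N, Nat.mul_pos q.den_pos hN, ?_⟩
  have : (q.den * N) • ((q : ℝ) • v) = q.num • (N • v) := by
    rw [← Nat.cast_smul_eq_nsmul ℝ, ← Int.cast_smul_eq_zsmul ℝ, ← Nat.cast_smul_eq_nsmul ℝ N v,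
      smul_smul, smul_smul]
    congr 1
    have h1 : (q : ℝ) * (q.den : ℝ) = (q.num : ℝ) := by
      have := Rat.mul_den_eq_num q
      exact_mod_cast this
    push_cast
    rw [← h1]; ring
  rw [this]; exact zsmul_mem hv _

theorem IsRat.sum {ι : Type*} (T : Finset ι) (v : ι → E) (h : ∀ i ∈ T, IsRat L (v i)) :
    IsRat L (∑ i ∈ T, v i) :=
  Finset.sum_induction _ _ (fun _ _ => IsRat.add L) ⟨1, one_pos, by simp⟩ h

theorem IsRat.apply_rat {v : E} (h : IsRat L v) (s : Module.Dual ℝ E)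
    (hs : ∀ x ∈ L, ∃ n : ℤ, s x = n) : ∃ q : ℚ, s v = q := by
  obtain ⟨N, hN, hv⟩ := h
  obtain ⟨n, hn⟩ := hs _ hv
  refine ⟨(n : ℚ) / (N : ℚ), ?_⟩
  rw [← Nat.cast_smul_eq_nsmul ℝ, map_smul, smul_eq_mul] at hn
  have hN' : (N : ℝ) ≠ 0 := by exact_mod_cast hN.ne'
  push_cast
  rw [eq_div_iff hN', mul_comm]; exact hn

noncomputable def riesz (s : Module.Dual ℝ E) : E :=
  (InnerProductSpace.toDual ℝ E).symm (LinearMap.toContinuousLinearMap s)

theorem inner_riesz (s : Module.Dual ℝ E) (x : E) : ⟪riesz s, x⟫ = s x := by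
  rw [riesz, InnerProductSpace.toDual_symm_apply]; rfl

variable [DiscreteTopology L] [IsZLattice ℝ L]

theorem isRat_riesz (hint : ∀ x ∈ L, ∀ y ∈ L, ∃ n : ℤ, inner ℝ x y = (n : ℝ))
    (s : Module.Dual ℝ E) (hs : ∀ x ∈ L, ∃ n : ℤ, s x = n) :
    IsRat L (riesz s) := by
  classical
  obtain ⟨π, hπ⟩ := exists_retraction
  let b := Module.Free.chooseBasis ℤ L
  let e := b.ofZLatticeBasis ℝ L
  have he : ∀ i, e i ∈ L := fun i => by
    rw [Basis.ofZLatticeBasis_apply]; exact (b i).2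
  set r := riesz s with hr
  let r' : E := ∑ i, ((π (e.repr r i) : ℚ) : ℝ) • e i
  have hr' : r' = r := by
    apply InnerProductSpace.ext_inner_right_basis e
    intro j
    obtain ⟨m, hm⟩ := hs (e j) (he j)
    choose A hA using fun i => hint (e i) (he i) (e j) (he j)
    have h1 : ∑ i, e.repr r i * (((A i : ℤ) : ℚ) : ℝ) = ((m : ℚ) : ℝ) := by
      have h0 : ⟪r, e j⟫ = m := by rw [hr, inner_riesz, hm]
      rw [← e.sum_repr r, sum_inner] at h0
      push_cast
      rw [← h0]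
      apply Finset.sum_congr rfl
      intro i _
      rw [real_inner_smul_left, hA]
    have h2 := rat_solve π hπ Finset.univ _ _ _ h1
    have h3 : ⟪r, e j⟫ = m := by rw [hr, inner_riesz, hm]
    rw [h3]
    push_cast at h2
    rw [← h2, sum_inner]
    apply Finset.sum_congr rfl
    intro i _
    rw [real_inner_smul_left, hA]
  rw [← hr']
  apply IsRat.sum
  intro i _
  exact (isRat_of_mem L (he i)).smul_rat L _

theorem isRat_of_mem_span (hint : ∀ x ∈ L, ∀ y ∈ L, ∃ n : ℤ, inner ℝ x y = (n : ℝ))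
    (S : Finset (Module.Dual ℝ E)) (hS : ∀ s ∈ S, ∀ x ∈ L, ∃ n : ℤ, s x = n)
    (w : E) (hw : w ∈ Submodule.span ℝ (Set.range (fun s : S => riesz (E := E) s.1)))
    (hwS : ∀ s ∈ S, ∃ q : ℚ, s w = q) : IsRat L w := by
  classical
  obtain ⟨π, hπ⟩ := exists_retraction
  obtain ⟨c, hc⟩ := (Submodule.mem_span_range_iff_exists_fun ℝ).1 hw
  have hrat : ∀ s : S, IsRat L (riesz (E := E) s.1) := fun s => isRat_riesz L hint s.1 (hS s.1 s.2)
  let w' : E := ∑ s : S, ((π (c s) : ℚ) : ℝ) • riesz (E := E) s.1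
  have hw'rat : IsRat L w' := by
    apply IsRat.sum
    intro s _
    exact (hrat s).smul_rat L _
  have hval : ∀ s' : S, s'.1 w' = s'.1 w := by
    intro s'
    choose B hB using fun s : S => (hrat s).apply_rat L s'.1 (hS s'.1 s'.2)
    obtain ⟨a, ha⟩ := hwS s'.1 s'.2
    have h1 : ∑ s : S, c s * ((B s : ℚ) : ℝ) = (a : ℝ) := by
      rw [← ha, ← hc, map_sum]
      apply Finset.sum_congr rfl
      intro s _
      rw [map_smul, smul_eq_mul, hB]
    have h2 := rat_solve π hπ Finset.univ _ _ _ h1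
    rw [ha, ← h2, map_sum]
    apply Finset.sum_congr rfl
    intro s _
    rw [map_smul, smul_eq_mul, hB]
  have hdiff : w - w' = ∑ s : S, (c s - ((π (c s) : ℚ) : ℝ)) • riesz (E := E) s.1 := by
    rw [← hc]
    simp only [w', sub_smul, Finset.sum_sub_distrib]
  have hzero : ⟪w - w', w - w'⟫ = 0 := by
    have h5 : ∀ x : E, ⟪w - w', x⟫ = ∑ s : S, (c s - ((π (c s) : ℚ) : ℝ)) * s.1 x := by
      intro x
      rw [hdiff, sum_inner]
      apply Finset.sum_congr rfl
      intro s _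
      rw [real_inner_smul_left, inner_riesz]
    rw [h5]
    apply Finset.sum_eq_zero
    intro s _
    rw [map_sub, hval s, sub_self, mul_zero]
  have : w = w' := by
    rw [inner_self_eq_zero] at hzero
    exact sub_eq_zero.1 hzero
  rw [this]; exact hw'rat

end

end Groth.Agent.Helper26.Kempf
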