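import Mathlib
import Groth.Agent.Lib.Helper26.Kempf1
import Groth.Agent.Lib.Helper26.Kempf2
import Groth.Agent.Lib.Helper26.Kempf3
import Groth.Agent.Lib.Helper26.Kempf4

set_option autoImplicit false
universe u
set_option linter.unusedSectionVars false

namespace Groth.Agent.Helper26.Kempf

open scoped RealInnerProductSpace
open Module

variable {E : Type*} [NormedAddCommGroup E] [InnerProductSpace ℝ E] [FiniteDimensional ℝ E]
  (L : Submodule ℤ E)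

theorem exists_prim (hint : ∀ x ∈ L, ∀ y ∈ L, ∃ n : ℤ, inner ℝ x y = (n : ℝ))
    (u : E) (hu : ‖u‖ = 1) (t₁ : ℝ) (ht₁ : 0 < t₁) (h₁ : t₁ • u ∈ L) :
    ∃ t₀ : ℝ, 0 < t₀ ∧ t₀ • u ∈ L ∧ ∀ t : ℝ, 0 < t → t • u ∈ L → ∃ n : ℤ, t = n * t₀ := by
  classical
  have hsq : ∀ t : ℝ, t • u ∈ L → ∃ n : ℕ, t ^ 2 = n := by
    intro t ht
    obtain ⟨m, hm⟩ := hint _ ht _ ht
    rw [real_inner_smul_left, real_inner_smul_right, real_inner_self_eq_norm_sq, hu] at hm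
    have hm0 : (0:ℝ) ≤ m := by
      rw [← hm]; nlinarith [mul_self_nonneg t]
    have hm0' : 0 ≤ m := by exact_mod_cast hm0
    obtain ⟨k, rfl⟩ := Int.eq_ofNat_of_zero_le hm0'
    refine ⟨k, ?_⟩
    push_cast at hm
    rw [← hm]; ring
  let P : ℕ → Prop := fun n => ∃ t : ℝ, 0 < t ∧ t • u ∈ L ∧ t ^ 2 = n
  have hP : ∃ n, P n := by
    obtain ⟨n, hn⟩ := hsq t₁ h₁
    exact ⟨n, t₁, ht₁, h₁, hn⟩
  obtain ⟨t₀, ht₀, h₀, hn₀⟩ := Nat.find_spec hP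
  have hmin : ∀ t : ℝ, 0 < t → t • u ∈ L → t₀ ≤ t := by
    intro t ht htL
    obtain ⟨n, hn⟩ := hsq t htL
    have h1 : Nat.find hP ≤ n := Nat.find_min' hP ⟨t, ht, htL, hn⟩
    have h' : (Nat.find hP : ℝ) ≤ n := by exact_mod_cast h1
    rw [← hn₀, ← hn] at h'
    exact (sq_le_sq₀ ht₀.le ht.le).1 h'
  refine ⟨t₀, ht₀, h₀, ?_⟩
  intro t ht htL
  set k := ⌊t / t₀⌋ with hk
  refine ⟨k, ?_⟩
  by_contra hne
  have hk1 : (k : ℝ) ≤ t / t₀ := Int.floor_le _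
  have hk2 : t / t₀ < k + 1 := Int.lt_floor_add_one _
  have hρ0 : 0 ≤ t - k * t₀ := by rw [le_div_iff₀ ht₀] at hk1; linarith
  have hρ1 : t - k * t₀ < t₀ := by rw [div_lt_iff₀ ht₀] at hk2; linarith
  have hρpos : 0 < t - k * t₀ := lt_of_le_of_ne hρ0 (fun h => hne (by linarith))
  have hρL : (t - k * t₀) • u ∈ L := by
    rw [sub_smul, mul_smul, Int.cast_smul_eq_zsmul]
    exact L.sub_mem htL (zsmul_mem h₀ k)
  have := hmin _ hρpos hρL
  linarith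

variable [DiscreteTopology L] [IsZLattice ℝ L]

theorem main' (hint : ∀ x ∈ L, ∀ y ∈ L, ∃ n : ℤ, inner ℝ x y = (n : ℝ))
    (F G : Finset (Module.Dual ℝ E)) (hF : F.Nonempty) (hG : G.Nonempty)
    (hFi : ∀ f ∈ F, ∀ x ∈ L, ∃ n : ℤ, f x = (n : ℝ)) (hGi : ∀ g ∈ G, ∀ x ∈ L, ∃ n : ℤ, g x = (n : ℝ))
    (hpos : ∃ v : E, 0 ≤ minF F hF v ∧ 0 < minF G hG v) :
    ∃ M : ℝ, IsGreatest ((fun v => minF G hG v / ‖v‖) ''
        {v : E | v ≠ 0 ∧ 0 ≤ minF F hF v}) M ∧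
      ∃! v₀ : E, v₀ ∈ L ∧ v₀ ≠ 0 ∧ 0 ≤ minF F hF v₀ ∧
        minF G hG v₀ / ‖v₀‖ = M ∧
        ∀ v ∈ L, v ≠ 0 → 0 ≤ minF F hF v → minF G hG v / ‖v‖ = M →
          ∃ n : ℤ, v = n • v₀ := by
  classical
  obtain ⟨u, hu1, huF, hM, hmax⟩ := exists_max F hF G hG hpos
  set M := minF G hG u with hMdef
  have hu0 : u ≠ 0 := by
    intro h; rw [h, norm_zero] at hu1; exact zero_ne_one hu1
  have hMinv : 0 ≤ M⁻¹ := inv_nonneg.2 hM.le
  set w := M⁻¹ • u with hw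
  have hwG : minF G hG w = 1 := by
    rw [hw, minF_smul G hG hMinv, ← hMdef, inv_mul_cancel₀ hM.ne']
  have hwF : 0 ≤ minF F hF w := by
    rw [hw, minF_smul F hF hMinv]; exact mul_nonneg hMinv huF
  have hwnorm : ‖w‖ = M⁻¹ := by
    rw [hw, norm_smul, hu1, mul_one, Real.norm_of_nonneg hMinv]
  have hwF' : ∀ f ∈ F, 0 ≤ f w := (le_minF_iff F hF).1 hwF
  have hwG' : ∀ g ∈ G, 1 ≤ g w := (le_minF_iff G hG).1 hwG.ge
  have hmin : ∀ v : E, (∀ f ∈ F, 0 ≤ f v) → (∀ g ∈ G, 1 ≤ g v) → ‖w‖ ≤ ‖v‖ := by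
    intro v hvF hvG
    have hvF' : 0 ≤ minF F hF v := le_minF F hF hvF
    have hvG' : 1 ≤ minF G hG v := le_minF G hG hvG
    have hv0 : v ≠ 0 := by
      rintro rfl; rw [minF_zero] at hvG'; linarith
    have h1 := hmax v hv0 hvF'
    have hvpos : 0 < ‖v‖ := norm_pos_iff.2 hv0
    rw [hwnorm]
    rw [div_le_iff₀ hvpos] at h1
    rw [inv_le_iff_one_le_mul₀' hM]
    linarith
  let S : Finset (Module.Dual ℝ E) := F.filter (fun f => f w = 0) ∪ G.filter (fun g => g w = 1)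
  have hwspan : w ∈ Submodule.span ℝ (Set.range (fun s : S => riesz (E := E) s.1)) := by
    set U := Submodule.span ℝ (Set.range (fun s : S => riesz (E := E) s.1)) with hU
    rw [← Submodule.orthogonal_orthogonal U, Submodule.mem_orthogonal]
    intro d hd
    rw [real_inner_comm]
    apply inner_eq_zero F G w d hwF' hwG' hmin
    · intro f hf hf0
      have hfS : f ∈ S := Finset.mem_union_left _ (Finset.mem_filter.2 ⟨hf, hf0⟩)
      have := (Submodule.mem_orthogonal U d).1 hd (riesz f)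
        (Submodule.subset_span ⟨⟨f, hfS⟩, rfl⟩)
      rwa [inner_riesz] at this
    · intro g hg hg1
      have hgS : g ∈ S := Finset.mem_union_right _ (Finset.mem_filter.2 ⟨hg, hg1⟩)
      have := (Submodule.mem_orthogonal U d).1 hd (riesz g)
        (Submodule.subset_span ⟨⟨g, hgS⟩, rfl⟩)
      rwa [inner_riesz] at this
  have hS : ∀ s ∈ S, ∀ x ∈ L, ∃ n : ℤ, s x = n := by
    intro s hs
    rcases Finset.mem_union.1 hs with h | h
    · exact hFi s (Finset.mem_filter.1 h).1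
    · exact hGi s (Finset.mem_filter.1 h).1
  have hwS : ∀ s ∈ S, ∃ q : ℚ, s w = q := by
    intro s hs
    rcases Finset.mem_union.1 hs with h | h
    · exact ⟨0, by rw [(Finset.mem_filter.1 h).2]; simp⟩
    · exact ⟨1, by rw [(Finset.mem_filter.1 h).2]; simp⟩
  obtain ⟨N, hN, hNw⟩ := isRat_of_mem_span L hint S hS w hwspan hwS
  have hNw' : ((N : ℝ) * M⁻¹) • u ∈ L := by
    rw [mul_smul, Nat.cast_smul_eq_nsmul]; exact hNw
  have hN' : (0:ℝ) < N := by exact_mod_cast hN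
  obtain ⟨t₀, ht₀, h₀, hprim⟩ := exists_prim L hint u hu1 _ (mul_pos hN' (inv_pos.2 hM)) hNw'
  -- properties of points on the ray
  have hrayF : ∀ t : ℝ, 0 < t → 0 ≤ minF F hF (t • u) := by
    intro t ht; rw [minF_smul F hF ht.le]; exact mul_nonneg ht.le huF
  have hrayG : ∀ t : ℝ, 0 < t → minF G hG (t • u) / ‖t • u‖ = M := by
    intro t ht
    rw [minF_smul G hG ht.le, norm_smul, hu1, mul_one, Real.norm_of_nonneg ht.le, ← hMdef]
    field_simp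
  have hray0 : ∀ t : ℝ, 0 < t → t • u ≠ 0 := fun t ht => smul_ne_zero ht.ne' hu0
  have hstar : ∀ v ∈ L, v ≠ 0 → 0 ≤ minF F hF v → minF G hG v / ‖v‖ = M →
      ∃ n : ℤ, ‖v‖ = n * t₀ ∧ v = n • (t₀ • u) := by
    intro v hvL hv0 hvF hvM
    have hv := ray_unique F hF G hG u hu1 huF hM hmax v hv0 hvF hvM
    have hvpos : 0 < ‖v‖ := norm_pos_iff.2 hv0
    obtain ⟨n, hn⟩ := hprim ‖v‖ hvpos (hv ▸ hvL)
    refine ⟨n, hn, ?_⟩
    rw [← Int.cast_smul_eq_zsmul ℝ, smul_smul, ← hn]; exact hv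
  refine ⟨M, ⟨⟨u, ⟨hu0, huF⟩, ?_⟩, ?_⟩, ?_⟩
  · show minF G hG u / ‖u‖ = M
    rw [hu1, div_one]
  · rintro _ ⟨v, ⟨hv0, hvF⟩, rfl⟩
    exact hmax v hv0 hvF
  · refine ⟨t₀ • u, ⟨h₀, hray0 t₀ ht₀, hrayF t₀ ht₀, hrayG t₀ ht₀, ?_⟩, ?_⟩
    · intro v hvL hv0 hvF hvM
      obtain ⟨n, _, hn⟩ := hstar v hvL hv0 hvF hvM
      exact ⟨n, hn⟩
    · rintro y ⟨hyL, hy0, hyF, hyM, hyprop⟩
      obtain ⟨m, hm1, hm2⟩ := hstar y hyL hy0 hyF hyM
      obtain ⟨n, hn⟩ := hyprop (t₀ • u) h₀ (hray0 t₀ ht₀) (hrayF t₀ ht₀) (hrayG t₀ ht₀)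
      have hypos : 0 < ‖y‖ := norm_pos_iff.2 hy0
      have hmpos : (0:ℝ) < m := by
        rw [hm1] at hypos
        by_contra hcon
        rw [not_lt] at hcon
        have := mul_nonpos_of_nonpos_of_nonneg hcon ht₀.le
        linarith
      have hmpos' : 0 < m := by exact_mod_cast hmpos
      have hnm : n * m = 1 := by
        have h1 : ((n * m : ℤ) : ℝ) • (t₀ • u) = (1:ℝ) • (t₀ • u) := by
          rw [one_smul, Int.cast_smul_eq_zsmul, mul_smul, ← hm2]; exact hn.symm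
        have h2 := smul_left_injective ℝ (hray0 t₀ ht₀) h1
        exact_mod_cast h2
      have hm1' : m = 1 := Int.eq_one_of_dvd_one hmpos'.le (Dvd.intro_left n hnm)
      rw [hm2, hm1', one_smul]

end Groth.Agent.Helper26.Kempf
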