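import Mathlib
import Groth.Prelude.Def_CohB1

/-!
# The coordinate rings of the standard charts of `P^1_k`

`Away 𝒜 X₀ ≃ k[T]`, `Away 𝒜 X₁ ≃ k[T]`, `Away 𝒜 (X₀X₁) ≃ k[T;T⁻¹]` with `T = X₁/X₀`, compatibly with
the localization maps.
-/

set_option autoImplicit false
set_option maxHeartbeats 400000
set_option linter.unusedSectionVars false
set_option linter.unusedVariables false
universe u
open Polynomial LaurentPolynomial HomogeneousLocalization

namespace Groth.Agent.Helper26.P1Ring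

section General

variable {A : Type*} [CommRing A] (𝒜 : ℕ → Submodule ℤ A) [GradedRing 𝒜]

end General

variable (k : Type u) [Field k]

local notation "𝔖" => MvPolynomial (Fin 2) k
local notation "𝒜" => CohB1.polyGrading 1 k

section Psi

variable {k} {B : Type*} [CommRing B]

/-- the map `A_{(f)} → B` induced by a ring map `φ : A → B` inverting `f`. -/
noncomputable def Psi (φ : 𝔖 →+* B) (f : 𝔖) (hu : IsUnit (φ f)) : Away 𝒜 f →+* B :=
  (IsLocalization.Away.lift (S := Localization.Away f) f hu).comp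
    (algebraMap (Away 𝒜 f) (Localization.Away f))

lemma Psi_mul_pow (φ : 𝔖 →+* B) (f : 𝔖) (hu : IsUnit (φ f)) {d : ℕ} (hf : f ∈ 𝒜 d) (n : ℕ) (x : 𝔖)
    (hx : x ∈ 𝒜 (n • d)) :
    Psi φ f hu (Away.mk 𝒜 hf n x hx) * φ f ^ n = φ x := by
  unfold Psi
  rw [RingHom.comp_apply, HomogeneousLocalization.algebraMap_apply, Away.val_mk]
  have h1 : (Localization.mk x ⟨f ^ n, ⟨n, rfl⟩⟩ : Localization.Away f) *
      algebraMap 𝔖 (Localization.Away f) (f ^ n) = algebraMap 𝔖 (Localization.Away f) x := by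
    rw [← Localization.mk_one_eq_algebraMap, ← Localization.mk_one_eq_algebraMap,
      Localization.mk_mul, Localization.mk_eq_mk_iff, Localization.r_iff_exists]
    exact ⟨1, by simp; ring⟩
  have h2 := congrArg (IsLocalization.Away.lift (S := Localization.Away f) f hu) h1
  rw [map_mul, IsLocalization.Away.lift_eq, IsLocalization.Away.lift_eq, map_pow] at h2
  exact h2

lemma Psi_comp {B' : Type*} [CommRing B'] (g : B →+* B') (φ : 𝔖 →+* B) (f : 𝔖)
    (hu : IsUnit (φ f)) :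
    g.comp (Psi φ f hu) = Psi (g.comp φ) f (hu.map g) := by
  unfold Psi
  rw [← RingHom.comp_assoc]
  congr 1
  apply IsLocalization.ringHom_ext (Submonoid.powers f)
  refine RingHom.ext (fun y => ?_)
  simp only [RingHom.comp_apply, IsLocalization.Away.lift_eq]

lemma Psi_awayMap (φ : 𝔖 →+* B) {e : ℕ} {f g x : 𝔖} (hg : g ∈ 𝒜 e) (hx : x = f * g)
    (hux : IsUnit (φ x)) (huf : IsUnit (φ f)) (z : Away 𝒜 f) :
    Psi φ x hux (awayMap 𝒜 hg hx z) = Psi φ f huf z := by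
  unfold Psi
  rw [RingHom.comp_apply, RingHom.comp_apply, HomogeneousLocalization.algebraMap_apply,
    HomogeneousLocalization.algebraMap_apply, val_awayMap]
  have h : (IsLocalization.Away.lift (S := Localization.Away x) x hux).comp
      (Localization.awayLift (algebraMap 𝔖 (Localization.Away x)) f
        (isUnit_of_dvd_unit (map_dvd _ ⟨_, hx⟩) (IsLocalization.Away.algebraMap_isUnit x))) =
      IsLocalization.Away.lift (S := Localization.Away f) f huf := by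
    apply IsLocalization.ringHom_ext (Submonoid.powers f)
    refine RingHom.ext (fun y => ?_)
    simp only [RingHom.comp_apply, Localization.awayLift, IsLocalization.Away.lift_eq]
  exact congrArg (fun ψ : Localization.Away f →+* B => ψ z.val) h

lemma Psi_injective (φ : 𝔖 →+* B) (f : 𝔖) (hu : IsUnit (φ f)) {d : ℕ} (hf : f ∈ 𝒜 d)
    (hφ : ∀ (n : ℕ) (x : 𝔖), x ∈ 𝒜 n → φ x = 0 → x = 0) :
    Function.Injective (Psi φ f hu) := by
  rw [injective_iff_map_eq_zero]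
  intro z hz
  obtain ⟨n, x, hx, rfl⟩ := Away.mk_surjective 𝒜 hf z
  have h1 := Psi_mul_pow φ f hu hf n x hx
  rw [hz, zero_mul] at h1
  have h2 := hφ _ x hx h1.symm
  subst h2
  apply HomogeneousLocalization.val_injective
  rw [Away.val_mk, HomogeneousLocalization.val_zero, Localization.mk_zero]

end Psi

section Charts

/-- `X₀ ↦ 1`, `X₁ ↦ X`. -/
noncomputable def ev0 : 𝔖 →+* k[X] := MvPolynomial.eval₂Hom Polynomial.C ![1, Polynomial.X]

/-- `X₀ ↦ X`, `X₁ ↦ 1`. -/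
noncomputable def ev1 : 𝔖 →+* k[X] := MvPolynomial.eval₂Hom Polynomial.C ![Polynomial.X, 1]

/-- `X₀ ↦ a`, `X₁ ↦ b` into Laurent polynomials. -/
noncomputable def evL (a b : k[T;T⁻¹]) : 𝔖 →+* k[T;T⁻¹] :=
  MvPolynomial.eval₂Hom LaurentPolynomial.C ![a, b]

/-- `X₀ ↦ 1`, `X₁ ↦ T`. -/
noncomputable abbrev ev : 𝔖 →+* k[T;T⁻¹] := evL k 1 (T 1)

@[simp] lemma ev0_X0 : ev0 k (MvPolynomial.X 0) = 1 := by simp [ev0]
@[simp] lemma ev0_X1 : ev0 k (MvPolynomial.X 1) = Polynomial.X := by simp [ev0]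
@[simp] lemma ev0_C (c : k) : ev0 k (MvPolynomial.C c) = Polynomial.C c := by simp [ev0]
@[simp] lemma ev1_X0 : ev1 k (MvPolynomial.X 0) = Polynomial.X := by simp [ev1]
@[simp] lemma ev1_X1 : ev1 k (MvPolynomial.X 1) = 1 := by simp [ev1]
@[simp] lemma ev1_C (c : k) : ev1 k (MvPolynomial.C c) = Polynomial.C c := by simp [ev1]
@[simp] lemma evL_X0 (a b : k[T;T⁻¹]) : evL k a b (MvPolynomial.X 0) = a := by simp [evL]
@[simp] lemma evL_X1 (a b : k[T;T⁻¹]) : evL k a b (MvPolynomial.X 1) = b := by simp [evL]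
@[simp] lemma evL_C (a b : k[T;T⁻¹]) (c : k) :
    evL k a b (MvPolynomial.C c) = LaurentPolynomial.C c := by simp [evL]

lemma toLaurent_comp_ev0 : (Polynomial.toLaurent).comp (ev0 k) = ev k := by
  apply MvPolynomial.ringHom_ext
  · intro c
    simp
  · intro i
    fin_cases i
    · simp
    · simp

lemma invert_toLaurent_comp_ev1 :
    ((LaurentPolynomial.invert (R := k) : k[T;T⁻¹] →+* k[T;T⁻¹]).comp Polynomial.toLaurent).comp
      (ev1 k) = evL k (T (-1)) 1 := by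
  apply MvPolynomial.ringHom_ext
  · intro c
    simp
  · intro i
    fin_cases i
    · simp
    · simp

lemma degree_of_mem (n : ℕ) (x : 𝔖) (hx : x ∈ 𝒜 n) (d : Fin 2 →₀ ℕ) (hd : d ∈ x.support) :
    d 0 + d 1 = n := by
  have h := hx (MvPolynomial.mem_support_iff.1 hd)
  have h2 : Finsupp.degree d = d 0 + d 1 := by
    rw [Finsupp.degree_eq_sum, Fin.sum_univ_two]
  rw [← h2, Finsupp.degree_eq_weight_one, ← Pi.one_def]
  exact h

lemma evL_apply (a b : k[T;T⁻¹]) (x : 𝔖) :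
    evL k a b x = ∑ d ∈ x.support, LaurentPolynomial.C (x.coeff d) * (a ^ d 0 * b ^ d 1) := by
  unfold evL
  rw [MvPolynomial.coe_eval₂Hom, MvPolynomial.eval₂_eq']
  refine Finset.sum_congr rfl (fun d _ => ?_)
  rw [Fin.prod_univ_two]
  rfl

/-- scaling the values of the variables by `t` multiplies homogeneous polynomials by `t ^ n`. -/
lemma evL_scale (a b t : k[T;T⁻¹]) (n : ℕ) (x : 𝔖) (hx : x ∈ 𝒜 n) :
    evL k (t * a) (t * b) x = t ^ n * evL k a b x := by
  rw [evL_apply, evL_apply, Finset.mul_sum]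
  refine Finset.sum_congr rfl (fun d hd => ?_)
  have hdeg := degree_of_mem k n x hx d hd
  rw [mul_pow, mul_pow, ← hdeg, pow_add]
  ring

lemma ev0_apply (x : 𝔖) :
    ev0 k x = ∑ d ∈ x.support, Polynomial.C (x.coeff d) * Polynomial.X ^ d 1 := by
  unfold ev0
  rw [MvPolynomial.coe_eval₂Hom, MvPolynomial.eval₂_eq']
  refine Finset.sum_congr rfl (fun d _ => ?_)
  rw [Fin.prod_univ_two]
  simp

/-- `ev0` is injective on homogeneous polynomials. -/
lemma ev0_eq_zero (n : ℕ) (x : 𝔖) (hx : x ∈ 𝒜 n) (h : ev0 k x = 0) : x = 0 := by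
  by_contra hne
  obtain ⟨d₀, hd₀⟩ := MvPolynomial.support_nonempty.2 hne
  have h1 := ev0_apply k x
  rw [h] at h1
  have h2 := congrArg (fun p : k[X] => p.coeff (d₀ 1)) h1
  simp only [Polynomial.coeff_zero, Polynomial.finsetSum_coeff, Polynomial.coeff_C_mul,
    Polynomial.coeff_X_pow] at h2
  rw [Finset.sum_eq_single d₀] at h2
  · simp at h2
    exact (MvPolynomial.mem_support_iff.1 hd₀) h2.symm
  · intro d hd hne'
    rw [if_neg, mul_zero]
    intro heq
    apply hne'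
    have e0 : d 0 = d₀ 0 := by
      have := degree_of_mem k n x hx d hd
      have := degree_of_mem k n x hx d₀ hd₀
      omega
    ext i
    fin_cases i
    · exact e0
    · exact heq.symm
  · intro hd
    exact absurd hd₀ hd

lemma ev_eq_zero (n : ℕ) (x : 𝔖) (hx : x ∈ 𝒜 n) (h : ev k x = 0) : x = 0 := by
  apply ev0_eq_zero k n x hx
  apply Polynomial.toLaurent_injective
  rw [map_zero]
  have := congrArg (fun φ : 𝔖 →+* k[T;T⁻¹] => φ x) (toLaurent_comp_ev0 k)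
  exact this.trans h

lemma ev_eq_pow_mul (n : ℕ) (x : 𝔖) (hx : x ∈ 𝒜 n) :
    ev k x = T 1 ^ n * evL k (T (-1)) 1 x := by
  have h := evL_scale k (T (-1)) 1 (T 1) n x hx
  rw [← h]
  have e1 : (T 1 : k[T;T⁻¹]) * T (-1) = 1 := by
    rw [← T_add]
    simp
  rw [e1, mul_one]

lemma ev1_eq_zero (n : ℕ) (x : 𝔖) (hx : x ∈ 𝒜 n) (h : ev1 k x = 0) : x = 0 := by
  apply ev_eq_zero k n x hx
  rw [ev_eq_pow_mul k n x hx]
  have := congrArg (fun φ : 𝔖 →+* k[T;T⁻¹] => φ x) (invert_toLaurent_comp_ev1 k)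
  simp only [RingHom.comp_apply] at this
  rw [← this, h]
  simp

lemma X0_mem : (MvPolynomial.X 0 : 𝔖) ∈ 𝒜 1 := MvPolynomial.isHomogeneous_X _ _
lemma X1_mem : (MvPolynomial.X 1 : 𝔖) ∈ 𝒜 1 := MvPolynomial.isHomogeneous_X _ _
lemma X01_mem : (MvPolynomial.X 0 * MvPolynomial.X 1 : 𝔖) ∈ 𝒜 (1 + 1) :=
  SetLike.mul_mem_graded (X0_mem k) (X1_mem k)

lemma isUnit_ev0_X0 : IsUnit (ev0 k (MvPolynomial.X 0)) := by rw [ev0_X0]; exact isUnit_one
lemma isUnit_ev1_X1 : IsUnit (ev1 k (MvPolynomial.X 1)) := by rw [ev1_X1]; exact isUnit_one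
lemma isUnit_ev_X01 : IsUnit (ev k (MvPolynomial.X 0 * MvPolynomial.X 1)) := by
  rw [map_mul, evL_X0, evL_X1, one_mul]
  exact isUnit_T 1

/-- the chart ring of `D₊(X₀)`. -/
noncomputable def psi0 : Away 𝒜 (MvPolynomial.X 0 : 𝔖) →+* k[X] :=
  Psi (ev0 k) _ (isUnit_ev0_X0 k)

/-- the chart ring of `D₊(X₁)`. -/
noncomputable def psi1 : Away 𝒜 (MvPolynomial.X 1 : 𝔖) →+* k[X] :=
  Psi (ev1 k) _ (isUnit_ev1_X1 k)

/-- the chart ring of `D₊(X₀X₁)`. -/
noncomputable def psi01 : Away 𝒜 (MvPolynomial.X 0 * MvPolynomial.X 1 : 𝔖) →+* k[T;T⁻¹] :=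
  Psi (ev k) _ (isUnit_ev_X01 k)

lemma psi0_injective : Function.Injective (psi0 k) :=
  Psi_injective _ _ _ (X0_mem k) (ev0_eq_zero k)

lemma psi1_injective : Function.Injective (psi1 k) :=
  Psi_injective _ _ _ (X1_mem k) (ev1_eq_zero k)

lemma psi01_injective : Function.Injective (psi01 k) :=
  Psi_injective _ _ _ (X01_mem k) (ev_eq_zero k)

lemma psi0_surjective : Function.Surjective (psi0 k) := by
  have hC : ∀ c : k, Polynomial.C c ∈ (psi0 k).range := by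
    intro c
    have hmem : (MvPolynomial.C c : 𝔖) ∈ 𝒜 (0 • 1) := MvPolynomial.isHomogeneous_C _ _
    refine ⟨Away.mk 𝒜 (X0_mem k) 0 (MvPolynomial.C c) hmem, ?_⟩
    have := Psi_mul_pow (ev0 k) _ (isUnit_ev0_X0 k) (X0_mem k) 0 _ hmem
    rw [pow_zero, mul_one, ev0_C] at this
    exact this
  have hX : (Polynomial.X : k[X]) ∈ (psi0 k).range := by
    have hmem : (MvPolynomial.X 1 : 𝔖) ∈ 𝒜 (1 • 1) := X1_mem k
    refine ⟨Away.mk 𝒜 (X0_mem k) 1 (MvPolynomial.X 1) hmem, ?_⟩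
    have := Psi_mul_pow (ev0 k) _ (isUnit_ev0_X0 k) (X0_mem k) 1 _ hmem
    rw [ev0_X0, one_pow, mul_one, ev0_X1] at this
    exact this
  intro p
  change p ∈ (psi0 k).range
  induction p using Polynomial.induction_on with
  | C a => exact hC a
  | add p q hp hq => exact Subring.add_mem _ hp hq
  | monomial n a h =>
    rw [pow_succ, ← mul_assoc]
    exact Subring.mul_mem _ h hX

lemma psi1_surjective : Function.Surjective (psi1 k) := by
  have hC : ∀ c : k, Polynomial.C c ∈ (psi1 k).range := by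
    intro c
    have hmem : (MvPolynomial.C c : 𝔖) ∈ 𝒜 (0 • 1) := MvPolynomial.isHomogeneous_C _ _
    refine ⟨Away.mk 𝒜 (X1_mem k) 0 (MvPolynomial.C c) hmem, ?_⟩
    have := Psi_mul_pow (ev1 k) _ (isUnit_ev1_X1 k) (X1_mem k) 0 _ hmem
    rw [pow_zero, mul_one, ev1_C] at this
    exact this
  have hX : (Polynomial.X : k[X]) ∈ (psi1 k).range := by
    have hmem : (MvPolynomial.X 0 : 𝔖) ∈ 𝒜 (1 • 1) := X0_mem k
    refine ⟨Away.mk 𝒜 (X1_mem k) 1 (MvPolynomial.X 0) hmem, ?_⟩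
    have := Psi_mul_pow (ev1 k) _ (isUnit_ev1_X1 k) (X1_mem k) 1 _ hmem
    rw [ev1_X1, one_pow, mul_one, ev1_X0] at this
    exact this
  intro p
  change p ∈ (psi1 k).range
  induction p using Polynomial.induction_on with
  | C a => exact hC a
  | add p q hp hq => exact Subring.add_mem _ hp hq
  | monomial n a h =>
    rw [pow_succ, ← mul_assoc]
    exact Subring.mul_mem _ h hX

lemma psi01_surjective : Function.Surjective (psi01 k) := by
  have hC : ∀ c : k, LaurentPolynomial.C c ∈ (psi01 k).range := by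
    intro c
    have hmem : (MvPolynomial.C c : 𝔖) ∈ 𝒜 (0 • (1 + 1)) := MvPolynomial.isHomogeneous_C _ _
    refine ⟨Away.mk 𝒜 (X01_mem k) 0 (MvPolynomial.C c) hmem, ?_⟩
    have := Psi_mul_pow (ev k) _ (isUnit_ev_X01 k) (X01_mem k) 0 _ hmem
    rw [pow_zero, mul_one, evL_C] at this
    exact this
  have hu : IsUnit (T 1 : k[T;T⁻¹]) := isUnit_T 1
  have hT : (T 1 : k[T;T⁻¹]) ∈ (psi01 k).range := by
    have hmem : (MvPolynomial.X 1 * MvPolynomial.X 1 : 𝔖) ∈ 𝒜 (1 • (1 + 1)) :=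
      SetLike.mul_mem_graded (X1_mem k) (X1_mem k)
    refine ⟨Away.mk 𝒜 (X01_mem k) 1 _ hmem, ?_⟩
    have := Psi_mul_pow (ev k) _ (isUnit_ev_X01 k) (X01_mem k) 1 _ hmem
    rw [map_mul, map_mul, evL_X0, evL_X1, one_mul, pow_one] at this
    exact hu.mul_right_cancel this
  have hT' : (T (-1) : k[T;T⁻¹]) ∈ (psi01 k).range := by
    have hmem : (MvPolynomial.X 0 * MvPolynomial.X 0 : 𝔖) ∈ 𝒜 (1 • (1 + 1)) :=
      SetLike.mul_mem_graded (X0_mem k) (X0_mem k)
    refine ⟨Away.mk 𝒜 (X01_mem k) 1 _ hmem, ?_⟩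
    have := Psi_mul_pow (ev k) _ (isUnit_ev_X01 k) (X01_mem k) 1 _ hmem
    rw [map_mul, map_mul, evL_X0, evL_X1, one_mul, pow_one, one_mul] at this
    apply hu.mul_right_cancel
    refine this.trans ?_
    rw [← T_add]
    simp
  have hTn : ∀ n : ℤ, (T n : k[T;T⁻¹]) ∈ (psi01 k).range := by
    intro n
    rcases Int.le_total 0 n with hn | hn
    · obtain ⟨m, rfl⟩ := Int.eq_ofNat_of_zero_le hn
      have : (T (m : ℤ) : k[T;T⁻¹]) = T 1 ^ m := by
        rw [T_pow, mul_one]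
      rw [this]
      exact Subring.pow_mem _ hT m
    · obtain ⟨m, hm⟩ := Int.eq_ofNat_of_zero_le (neg_nonneg.2 hn)
      have : (T n : k[T;T⁻¹]) = T (-1) ^ m := by
        rw [T_pow, ← hm]
        simp
      rw [this]
      exact Subring.pow_mem _ hT' m
  intro p
  change p ∈ (psi01 k).range
  induction p using LaurentPolynomial.induction_on' with
  | add p q hp hq => exact Subring.add_mem _ hp hq
  | C_mul_T n a => exact Subring.mul_mem _ (hC a) (hTn n)

/-- `Away 𝒜 X₀ ≃ k[X]`. -/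
noncomputable def sigma0 : Away 𝒜 (MvPolynomial.X 0 : 𝔖) ≃+* k[X] :=
  RingEquiv.ofBijective (psi0 k) ⟨psi0_injective k, psi0_surjective k⟩

/-- `Away 𝒜 X₁ ≃ k[X]`. -/
noncomputable def sigma1 : Away 𝒜 (MvPolynomial.X 1 : 𝔖) ≃+* k[X] :=
  RingEquiv.ofBijective (psi1 k) ⟨psi1_injective k, psi1_surjective k⟩

/-- `Away 𝒜 (X₀X₁) ≃ k[T;T⁻¹]`. -/
noncomputable def sigma01 : Away 𝒜 (MvPolynomial.X 0 * MvPolynomial.X 1 : 𝔖) ≃+* k[T;T⁻¹] :=
  RingEquiv.ofBijective (psi01 k) ⟨psi01_injective k, psi01_surjective k⟩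

/-- compatibility of the charts on `D₊(X₀)`: restriction is `toLaurent`. -/
lemma sigma01_awayMap0 (z : Away 𝒜 (MvPolynomial.X 0 : 𝔖)) :
    sigma01 k (awayMap 𝒜 (X1_mem k) rfl z) = Polynomial.toLaurent (sigma0 k z) := by
  change psi01 k _ = Polynomial.toLaurent (psi0 k z)
  unfold psi01 psi0
  have hu : IsUnit (ev k (MvPolynomial.X 0)) := by
    rw [evL_X0]; exact isUnit_one
  rw [Psi_awayMap (ev k) (X1_mem k) rfl (isUnit_ev_X01 k) hu z]
  have h := Psi_comp (Polynomial.toLaurent (R := k)) (ev0 k) _ (isUnit_ev0_X0 k)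
  have h2 := congrArg (fun ψ : Away 𝒜 (MvPolynomial.X 0 : 𝔖) →+* k[T;T⁻¹] => ψ z) h
  simp only [RingHom.comp_apply] at h2
  rw [h2]
  have key : ∀ (φ φ' : 𝔖 →+* k[T;T⁻¹]) (h : φ = φ') (hu : IsUnit (φ (MvPolynomial.X 0)))
      (hu' : IsUnit (φ' (MvPolynomial.X 0))), Psi φ (MvPolynomial.X 0) hu = Psi φ' _ hu' := by
    intro φ φ' h hu hu'
    subst h
    rfl
  rw [key _ _ (toLaurent_comp_ev0 k).symm]

lemma Psi_congr {B : Type*} [CommRing B] (φ φ' : 𝔖 →+* B) (h : φ = φ') (f : 𝔖)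
    (hu : IsUnit (φ f)) (hu' : IsUnit (φ' f)) : Psi φ f hu = Psi φ' f hu' := by
  subst h
  rfl

/-- compatibility of the charts on `D₊(X₁)`: restriction is `invert ∘ toLaurent`. -/
lemma sigma01_awayMap1 (z : Away 𝒜 (MvPolynomial.X 1 : 𝔖)) :
    sigma01 k (awayMap 𝒜 (X0_mem k) (mul_comm _ _) z) =
      LaurentPolynomial.invert (Polynomial.toLaurent (sigma1 k z)) := by
  change psi01 k _ = LaurentPolynomial.invert (Polynomial.toLaurent (psi1 k z))
  unfold psi01 psi1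
  have hu : IsUnit (ev k (MvPolynomial.X 1)) := by
    rw [evL_X1]; exact isUnit_T 1
  rw [Psi_awayMap (ev k) (X0_mem k) (mul_comm _ _) (isUnit_ev_X01 k) hu z]
  have h := Psi_comp ((LaurentPolynomial.invert (R := k) : k[T;T⁻¹] →+* k[T;T⁻¹]).comp
    (Polynomial.toLaurent (R := k))) (ev1 k) _ (isUnit_ev1_X1 k)
  have h2 := congrArg (fun ψ : Away 𝒜 (MvPolynomial.X 1 : 𝔖) →+* k[T;T⁻¹] => ψ z) h
  simp only [RingHom.comp_apply] at h2
  have h3 : LaurentPolynomial.invert (Polynomial.toLaurent (Psi (ev1 k) (MvPolynomial.X 1)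
      (isUnit_ev1_X1 k) z)) = Psi (evL k (T (-1)) 1) (MvPolynomial.X 1)
        (by rw [evL_X1]; exact isUnit_one) z := by
    refine h2.trans ?_
    rw [Psi_congr k _ _ (invert_toLaurent_comp_ev1 k)]
  rw [h3]
  obtain ⟨n, x, hx, rfl⟩ := Away.mk_surjective 𝒜 (X1_mem k) z
  have e1 := Psi_mul_pow (ev k) _ hu (X1_mem k) n x hx
  have e2 := Psi_mul_pow (evL k (T (-1)) 1) _ (by rw [evL_X1]; exact isUnit_one) (X1_mem k) n x hx
  simp only [evL_X1, one_pow, mul_one] at e1 e2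
  have hx' : x ∈ 𝒜 n := by simpa using hx
  rw [ev_eq_pow_mul k n x hx', ← e2, mul_comm] at e1
  exact (isUnit_T 1 |>.pow n).mul_left_cancel e1

end Charts

end Groth.Agent.Helper26.P1Ring
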