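import Mathlib
import Groth.Agent.Lib.Helper26.P1Ring
import Groth.Agent.Lib.Helper26.PnCoh2

/-!
# The two standard charts of `P^1_k`, on the level of the scheme
-/

set_option autoImplicit false
set_option maxHeartbeats 400000
set_option linter.unusedSectionVars false
set_option linter.unusedVariables false
universe u
open CategoryTheory CategoryTheory.Limits AlgebraicGeometry Opposite TopologicalSpace
open Polynomial LaurentPolynomial HomogeneousLocalization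
open Groth.Agent.Helper26.P1Ring

namespace Groth.Agent.Helper26.P1Chart

variable (k : Type u) [Field k]

local notation "𝔖" => MvPolynomial (Fin 2) k
local notation "𝒜" => CohB1.polyGrading 1 k

/-- the projective line. -/
noncomputable abbrev PP : Scheme.{u} := CohB1.ProjSpace 1 k

/-- `D₊(X₀)`. -/
noncomputable def U0 : (PP k).Opens := Proj.basicOpen 𝒜 (MvPolynomial.X 0 : 𝔖)
/-- `D₊(X₁)`. -/
noncomputable def U1 : (PP k).Opens := Proj.basicOpen 𝒜 (MvPolynomial.X 1 : 𝔖)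
/-- `D₊(X₀X₁)`. -/
noncomputable def U01 : (PP k).Opens :=
  Proj.basicOpen 𝒜 (MvPolynomial.X 0 * MvPolynomial.X 1 : 𝔖)

lemma U01_eq : U01 k = U0 k ⊓ U1 k := Proj.basicOpen_mul 𝒜 _ _

lemma U01_le0 : U01 k ≤ U0 k := by rw [U01_eq]; exact inf_le_left
lemma U01_le1 : U01 k ≤ U1 k := by rw [U01_eq]; exact inf_le_right

lemma cover (x : PP k) : x ∈ U0 k ∨ x ∈ U1 k := by
  have h := Groth.Agent.Helper26.PnCoh.Ust_cov 1 k
  have hx : x ∈ (⨆ i, Groth.Agent.Helper26.PnCoh.Ust 1 k i) := by rw [h]; trivial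
  obtain ⟨⟨i⟩, hi⟩ := Opens.mem_iSup.1 hx
  fin_cases i
  · exact Or.inl hi
  · exact Or.inr hi

lemma isAffineOpen_U0 : IsAffineOpen (U0 k) :=
  Proj.isAffineOpen_basicOpen 𝒜 _ (X0_mem k) Nat.one_pos
lemma isAffineOpen_U1 : IsAffineOpen (U1 k) :=
  Proj.isAffineOpen_basicOpen 𝒜 _ (X1_mem k) Nat.one_pos
lemma isAffineOpen_U01 : IsAffineOpen (U01 k) :=
  Proj.isAffineOpen_basicOpen 𝒜 _ (X01_mem k) (by omega)

/-- `Γ(U₀) ≃ k[X]`. -/
noncomputable def r0 : Γ(PP k, U0 k) ≃+* k[X] :=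
  (Proj.basicOpenIsoAway 𝒜 (MvPolynomial.X 0 : 𝔖) (X0_mem k)
    Nat.one_pos).commRingCatIsoToRingEquiv.symm.trans (sigma0 k)

/-- `Γ(U₁) ≃ k[X]`. -/
noncomputable def r1 : Γ(PP k, U1 k) ≃+* k[X] :=
  (Proj.basicOpenIsoAway 𝒜 (MvPolynomial.X 1 : 𝔖) (X1_mem k)
    Nat.one_pos).commRingCatIsoToRingEquiv.symm.trans (sigma1 k)

/-- `Γ(U₀₁) ≃ k[T;T⁻¹]`. -/
noncomputable def r01 : Γ(PP k, U01 k) ≃+* k[T;T⁻¹] :=
  (Proj.basicOpenIsoAway 𝒜 (MvPolynomial.X 0 * MvPolynomial.X 1 : 𝔖) (X01_mem k)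
    (by omega)).commRingCatIsoToRingEquiv.symm.trans (sigma01 k)

lemma r0_awayToSection (w : Away 𝒜 (MvPolynomial.X 0 : 𝔖)) :
    r0 k ((Proj.awayToSection 𝒜 (MvPolynomial.X 0 : 𝔖)).hom w) = sigma0 k w := by
  have h : (Proj.basicOpenIsoAway 𝒜 (MvPolynomial.X 0 : 𝔖) (X0_mem k)
      Nat.one_pos).commRingCatIsoToRingEquiv.symm
        ((Proj.awayToSection 𝒜 (MvPolynomial.X 0 : 𝔖)).hom w) = w := by
    apply (Proj.basicOpenIsoAway 𝒜 (MvPolynomial.X 0 : 𝔖) (X0_mem k)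
      Nat.one_pos).commRingCatIsoToRingEquiv.injective
    rw [RingEquiv.apply_symm_apply]
    rfl
  exact congrArg (sigma0 k) h

lemma r1_awayToSection (w : Away 𝒜 (MvPolynomial.X 1 : 𝔖)) :
    r1 k ((Proj.awayToSection 𝒜 (MvPolynomial.X 1 : 𝔖)).hom w) = sigma1 k w := by
  have h : (Proj.basicOpenIsoAway 𝒜 (MvPolynomial.X 1 : 𝔖) (X1_mem k)
      Nat.one_pos).commRingCatIsoToRingEquiv.symm
        ((Proj.awayToSection 𝒜 (MvPolynomial.X 1 : 𝔖)).hom w) = w := by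
    apply (Proj.basicOpenIsoAway 𝒜 (MvPolynomial.X 1 : 𝔖) (X1_mem k)
      Nat.one_pos).commRingCatIsoToRingEquiv.injective
    rw [RingEquiv.apply_symm_apply]
    rfl
  exact congrArg (sigma1 k) h

lemma r01_awayToSection (w : Away 𝒜 (MvPolynomial.X 0 * MvPolynomial.X 1 : 𝔖)) :
    r01 k ((Proj.awayToSection 𝒜 (MvPolynomial.X 0 * MvPolynomial.X 1 : 𝔖)).hom w) =
      sigma01 k w := by
  have h : (Proj.basicOpenIsoAway 𝒜 (MvPolynomial.X 0 * MvPolynomial.X 1 : 𝔖) (X01_mem k)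
      (by omega)).commRingCatIsoToRingEquiv.symm
        ((Proj.awayToSection 𝒜 (MvPolynomial.X 0 * MvPolynomial.X 1 : 𝔖)).hom w) = w := by
    apply (Proj.basicOpenIsoAway 𝒜 (MvPolynomial.X 0 * MvPolynomial.X 1 : 𝔖) (X01_mem k)
      (by omega)).commRingCatIsoToRingEquiv.injective
    rw [RingEquiv.apply_symm_apply]
    rfl
  exact congrArg (sigma01 k) h

lemma awayToSection_surjective0 (z : Γ(PP k, U0 k)) :
    ∃ w, (Proj.awayToSection 𝒜 (MvPolynomial.X 0 : 𝔖)).hom w = z :=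
  ⟨_, (Proj.basicOpenIsoAway 𝒜 (MvPolynomial.X 0 : 𝔖) (X0_mem k)
    Nat.one_pos).commRingCatIsoToRingEquiv.apply_symm_apply z⟩

lemma awayToSection_surjective1 (z : Γ(PP k, U1 k)) :
    ∃ w, (Proj.awayToSection 𝒜 (MvPolynomial.X 1 : 𝔖)).hom w = z :=
  ⟨_, (Proj.basicOpenIsoAway 𝒜 (MvPolynomial.X 1 : 𝔖) (X1_mem k)
    Nat.one_pos).commRingCatIsoToRingEquiv.apply_symm_apply z⟩

/-- restriction `Γ(U₀) → Γ(U₀₁)`. -/
noncomputable def rho0 : Γ(PP k, U0 k) →+* Γ(PP k, U01 k) :=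
  ((PP k).presheaf.map (homOfLE (U01_le0 k)).op).hom

/-- restriction `Γ(U₁) → Γ(U₀₁)`. -/
noncomputable def rho1 : Γ(PP k, U1 k) →+* Γ(PP k, U01 k) :=
  ((PP k).presheaf.map (homOfLE (U01_le1 k)).op).hom

lemma r01_rho0 (z : Γ(PP k, U0 k)) : r01 k (rho0 k z) = Polynomial.toLaurent (r0 k z) := by
  obtain ⟨w, rfl⟩ := awayToSection_surjective0 k z
  have h := Proj.awayMap_awayToSection 𝒜 (f := (MvPolynomial.X 0 : 𝔖)) (X1_mem k)
    (x := MvPolynomial.X 0 * MvPolynomial.X 1) rfl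
  have h2 := congrArg (fun φ => φ.hom w) h
  have h3 : rho0 k ((Proj.awayToSection 𝒜 (MvPolynomial.X 0 : 𝔖)).hom w) =
      (Proj.awayToSection 𝒜 (MvPolynomial.X 0 * MvPolynomial.X 1 : 𝔖)).hom
        (awayMap 𝒜 (X1_mem k) rfl w) := h2.symm
  rw [h3, r01_awayToSection, r0_awayToSection, sigma01_awayMap0]

lemma r01_rho1 (z : Γ(PP k, U1 k)) :
    r01 k (rho1 k z) = LaurentPolynomial.invert (Polynomial.toLaurent (r1 k z)) := by
  obtain ⟨w, rfl⟩ := awayToSection_surjective1 k z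
  have h := Proj.awayMap_awayToSection 𝒜 (f := (MvPolynomial.X 1 : 𝔖)) (X0_mem k)
    (x := MvPolynomial.X 0 * MvPolynomial.X 1) (mul_comm _ _)
  have h2 := congrArg (fun φ => φ.hom w) h
  have h3 : rho1 k ((Proj.awayToSection 𝒜 (MvPolynomial.X 1 : 𝔖)).hom w) =
      (Proj.awayToSection 𝒜 (MvPolynomial.X 0 * MvPolynomial.X 1 : 𝔖)).hom
        (awayMap 𝒜 (X0_mem k) (mul_comm _ _) w) := h2.symm
  rw [h3, r01_awayToSection, r1_awayToSection, sigma01_awayMap1]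

/-- the function `(X₁/X₀)^d` on `U₀₁`. -/
noncomputable def tauPow (d : ℤ) : Γ(PP k, U01 k) := (r01 k).symm (T d)

lemma r01_tauPow (d : ℤ) : r01 k (tauPow k d) = T d := (r01 k).apply_symm_apply _

lemma tauPow_mul (a b : ℤ) : tauPow k a * tauPow k b = tauPow k (a + b) := by
  apply (r01 k).injective
  rw [map_mul, r01_tauPow, r01_tauPow, r01_tauPow, T_add]

lemma tauPow_zero : tauPow k 0 = 1 := by
  apply (r01 k).injective
  rw [r01_tauPow, map_one, T_zero]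

instance : IsDomain Γ(PP k, U0 k) := (r0 k).toMulEquiv.isDomain _
instance : IsDomain Γ(PP k, U1 k) := (r1 k).toMulEquiv.isDomain _

instance : IsPrincipalIdealRing Γ(PP k, U0 k) :=
  IsPrincipalIdealRing.of_surjective (r0 k).symm.toRingHom (r0 k).symm.surjective
instance : IsPrincipalIdealRing Γ(PP k, U1 k) :=
  IsPrincipalIdealRing.of_surjective (r1 k).symm.toRingHom (r1 k).symm.surjective

end Groth.Agent.Helper26.P1Chart
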