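import Mathlib
import Groth.Agent.Lib.Helper26.P1Chart
import Groth.Agent.Lib.Helper26.BasisSec
import Groth.Agent.Lib.Helper26.GlueIso
import Groth.Agent.Lib.Helper13.K0Tensor
import Groth.Agent.S10849

/-!
# Vector bundles on `P^1_k`: splitting data and Birkhoff factorization
-/

set_option autoImplicit false
set_option maxHeartbeats 400000
set_option linter.unusedSectionVars false
set_option linter.unusedVariables false
universe u
open CategoryTheory CategoryTheory.Limits AlgebraicGeometry Opposite TopologicalSpace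
open Polynomial LaurentPolynomial
open Groth.Agent.Helper26.P1Chart Groth.Agent.Helper26.BasisSec
open Groth.Agent.Helper13.StalkBasis Groth.Agent.Helper13.TensorFinLocFree

namespace Groth.Agent.Helper26.P1Split

section General

variable {X : Scheme.{u}}

/-- over an affine open with principal coordinate ring, a locally free module of rank `r` has
`r` sections which are bases of all stalks. -/
theorem exists_basis_sections (E : X.Modules) (r : ℕ) (hE : FlatMod.IsFinLocFreeOfRank r E)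
    {U : X.Opens} (hU : IsAffineOpen U) [IsDomain Γ(X, U)] [IsPrincipalIdealRing Γ(X, U)]
    (hne : ∃ y : X, y ∈ U) :
    ∃ s : Fin r → Γ(E, U), ∀ (y : X) (hy : y ∈ U), IsBasisAt E s y hy := by
  have hE' := Groth.Agent.Helper13.K0Tensor.isFinLocFree_of_rank E r hE
  have := Groth.Agent.Helper13.ResFinLocFree.isQuasicoherent_of_isFinLocFree E hE'
  obtain ⟨hfin, hproj⟩ := Groth.Agent.Helper13.LocFree.projective_sections_of_isFinLocFree E hE' hU
  have := hfin
  have := hproj
  have : Module.Free Γ(X, U) Γ(E, U) := Module.free_of_finite_type_torsion_free'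
  let b := Module.finBasis Γ(X, U) Γ(E, U)
  have hb := isBasisAt_of_basis_affine E hU b
  obtain ⟨y, hy⟩ := hne
  obtain ⟨V, s, hyV, hs⟩ := Groth.Agent.Helper13.K0Tensor.exists_isBasisAt_of_rank E r hE y
  let b1 := basisOf E (fun i => b i) y hy (hb y hy)
  let b2 := basisOf E s y hyV (hs y hyV)
  have e1 := Module.finrank_eq_card_basis b1
  have e2 := Module.finrank_eq_card_basis b2
  rw [Fintype.card_fin] at e1 e2
  have hm : Module.finrank Γ(X, U) Γ(E, U) = r := e1.symm.trans e2
  let b' : Module.Basis (Fin r) Γ(X, U) Γ(E, U) := b.reindex (finCongr hm)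
  exact ⟨fun i => b' i, isBasisAt_of_basis_affine E hU b'⟩

end General

variable (k : Type u) [Field k]

/-- splitting data of type `d` for a module on `P^1_k`: bases of all stalks over the two
standard charts, with transition functions `(X₁/X₀)^{d j}`. -/
def IsSplitData {r : ℕ} (M : (PP k).Modules) (d : Fin r → ℤ) : Prop :=
  ∃ (e0 : Fin r → Γ(M, U0 k)) (e1 : Fin r → Γ(M, U1 k)),
    (∀ (y : PP k) (hy : y ∈ U0 k), IsBasisAt M e0 y hy) ∧
    (∀ (y : PP k) (hy : y ∈ U1 k), IsBasisAt M e1 y hy) ∧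
    ∀ j, M.presheaf.map (homOfLE (U01_le1 k)).op (e1 j) =
      tauPow k (d j) • M.presheaf.map (homOfLE (U01_le0 k)).op (e0 j)

lemma exists_mem_U0 : ∃ y : PP k, y ∈ U0 k := by
  have hU := isAffineOpen_U0 k
  obtain ⟨p⟩ : Nonempty (PrimeSpectrum Γ(PP k, U0 k)) := inferInstance
  refine ⟨hU.fromSpec p, ?_⟩
  have := hU.range_fromSpec
  have h2 : hU.fromSpec p ∈ Set.range hU.fromSpec := ⟨p, rfl⟩
  rw [this] at h2
  exact h2

lemma exists_mem_U1 : ∃ y : PP k, y ∈ U1 k := by
  have hU := isAffineOpen_U1 k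
  obtain ⟨p⟩ : Nonempty (PrimeSpectrum Γ(PP k, U1 k)) := inferInstance
  refine ⟨hU.fromSpec p, ?_⟩
  have := hU.range_fromSpec
  have h2 : hU.fromSpec p ∈ Set.range hU.fromSpec := ⟨p, rfl⟩
  rw [this] at h2
  exact h2

lemma mulMat_diagonal {X : Scheme.{u}} {n : ℕ} (M : X.Modules) {U : X.Opens}
    (t : Fin n → Γ(M, U)) (c : Fin n → Γ(X, U)) (j : Fin n) :
    mulMat M t (Matrix.diagonal c) j = c j • t j := by
  classical
  unfold mulMat lin
  rw [Finset.sum_eq_single j]
  · change Matrix.diagonal c j j • t j = c j • t j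
    rw [Matrix.diagonal_apply_eq]
  · intro i _ hij
    change Matrix.diagonal c i j • t i = 0
    rw [Matrix.diagonal_apply_ne _ hij, zero_smul]
  · intro hj
    exact absurd (Finset.mem_univ j) hj

/-- **Birkhoff–Grothendieck, existence of splitting data.** -/
theorem exists_splitData (E : (PP k).Modules) (r : ℕ) (hE : FlatMod.IsFinLocFreeOfRank r E) :
    ∃ d : Fin r → ℤ, Antitone d ∧ IsSplitData k E d := by
  obtain ⟨s0, hs0⟩ := exists_basis_sections E r hE (isAffineOpen_U0 k) (exists_mem_U0 k)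
  obtain ⟨s1, hs1⟩ := exists_basis_sections E r hE (isAffineOpen_U1 k) (exists_mem_U1 k)
  let s0' : Fin r → Γ(E, U01 k) := fun j => E.presheaf.map (homOfLE (U01_le0 k)).op (s0 j)
  let s1' : Fin r → Γ(E, U01 k) := fun j => E.presheaf.map (homOfLE (U01_le1 k)).op (s1 j)
  have h0' : ∀ (y : PP k) (hy : y ∈ U01 k), IsBasisAt E s0' y hy := fun y hy =>
    (isBasisAt_res E (homOfLE (U01_le0 k)) s0 y hy).2 (hs0 y _)
  have h1' : ∀ (y : PP k) (hy : y ∈ U01 k), IsBasisAt E s1' y hy := fun y hy =>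
    (isBasisAt_res E (homOfLE (U01_le1 k)) s1 y hy).2 (hs1 y _)
  obtain ⟨A, hA, hAe⟩ := exists_transition E s0' s1' h0' h1'
  have hA' : IsUnit (A.map (r01 k)) := hA.map (RingHom.mapMatrix (r01 k).toRingHom)
  obtain ⟨P, Q, d, hP, hQ, hd, hfac⟩ := Groth.Agent.S10849.result k r (A.map (r01 k)) hA'
  let P0 : Matrix (Fin r) (Fin r) Γ(PP k, U0 k) := P.map (r0 k).symm
  let Q1 : Matrix (Fin r) (Fin r) Γ(PP k, U1 k) := Q.map (r1 k).symm
  have hP0 : IsUnit P0 := hP.map (RingHom.mapMatrix (r0 k).symm.toRingHom)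
  have hQ1 : IsUnit Q1 := hQ.map (RingHom.mapMatrix (r1 k).symm.toRingHom)
  obtain ⟨Q1u, hQ1u⟩ := hQ1
  let Q1i : Matrix (Fin r) (Fin r) Γ(PP k, U1 k) := ↑Q1u⁻¹
  have hQ1i : IsUnit Q1i := ⟨Q1u⁻¹, rfl⟩
  have hQQ : Q1 * Q1i = 1 := by
    rw [← hQ1u]
    exact Q1u.mul_inv
  refine ⟨d, hd, mulMat E s0 P0, mulMat E s1 Q1i,
    fun y hy => isBasisAt_mulMat E s0 P0 hP0 y hy (hs0 y hy),
    fun y hy => isBasisAt_mulMat E s1 Q1i hQ1i y hy (hs1 y hy), ?_⟩
  have key : A = P0.map (rho0 k) * Matrix.diagonal (fun i => tauPow k (d i)) *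
      Q1.map (rho1 k) := by
    have inj : Function.Injective
        (fun M : Matrix (Fin r) (Fin r) Γ(PP k, U01 k) => M.map (r01 k)) := by
      intro M N hMN
      ext i j
      have := congrFun (congrFun hMN i) j
      exact (r01 k).injective this
    apply inj
    change A.map (r01 k) = (P0.map (rho0 k) * Matrix.diagonal (fun i => tauPow k (d i)) *
      Q1.map (rho1 k)).map (r01 k)
    rw [hfac]
    have e1 : (P0.map (rho0 k)).map (r01 k) = P.map Polynomial.toLaurent := by
      refine Matrix.ext (fun i j => ?_)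
      change r01 k (rho0 k ((r0 k).symm (P i j))) = _
      rw [r01_rho0, RingEquiv.apply_symm_apply]
      rfl
    have e2 : (Matrix.diagonal (fun i => tauPow k (d i))).map (r01 k) =
        Matrix.diagonal (fun i => (T (d i) : k[T;T⁻¹])) := by
      rw [Matrix.diagonal_map (map_zero _)]
      congr 1
      funext i
      exact r01_tauPow k (d i)
    have e3 : (Q1.map (rho1 k)).map (r01 k) =
        (Q.map Polynomial.toLaurent).map LaurentPolynomial.invert := by
      refine Matrix.ext (fun i j => ?_)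
      change r01 k (rho1 k ((r1 k).symm (Q i j))) = _
      rw [r01_rho1, RingEquiv.apply_symm_apply]
      rfl
    have m1 : ∀ (M N : Matrix (Fin r) (Fin r) Γ(PP k, U01 k)),
        (M * N).map (r01 k) = M.map (r01 k) * N.map (r01 k) := by
      intro M N
      exact Matrix.map_mul (f := (r01 k).toRingHom)
    rw [m1, m1, e1, e2, e3]
  have hres1 : (fun j => E.presheaf.map (homOfLE (U01_le1 k)).op (mulMat E s1 Q1i j)) =
      mulMat E s1' (Q1i.map (rho1 k)) := res_mulMat E (homOfLE (U01_le1 k)) s1 Q1i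
  have hres0 : (fun j => E.presheaf.map (homOfLE (U01_le0 k)).op (mulMat E s0 P0 j)) =
      mulMat E s0' (P0.map (rho0 k)) := res_mulMat E (homOfLE (U01_le0 k)) s0 P0
  have hprod : A * Q1i.map (rho1 k) =
      P0.map (rho0 k) * Matrix.diagonal (fun i => tauPow k (d i)) := by
    have : Q1.map (rho1 k) * Q1i.map (rho1 k) = 1 := by
      rw [← Matrix.map_mul (f := rho1 k), hQQ]
      exact Matrix.map_one _ (map_zero _) (map_one _)
    rw [key, Matrix.mul_assoc, this, Matrix.mul_one]
  intro j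
  have e1 := congrFun hres1 j
  have e0 := congrFun hres0 j
  dsimp only at e1 e0
  rw [e1, hAe, mulMat_mulMat, hprod, ← mulMat_mulMat, mulMat_diagonal, ← hres0]

lemma mem_U01 {y : PP k} (h0 : y ∈ U0 k) (h1 : y ∈ U1 k) : y ∈ U01 k := by
  rw [U01_eq]; exact ⟨h0, h1⟩

lemma germ_e1 {r : ℕ} (M : (PP k).Modules) (d : Fin r → ℤ) (e0 : Fin r → Γ(M, U0 k))
    (e1 : Fin r → Γ(M, U1 k))
    (h : ∀ j, M.presheaf.map (homOfLE (U01_le1 k)).op (e1 j) =
      tauPow k (d j) • M.presheaf.map (homOfLE (U01_le0 k)).op (e0 j))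
    (y : PP k) (h0 : y ∈ U0 k) (h1 : y ∈ U1 k) (j : Fin r) :
    M.presheaf.germ (U1 k) y h1 (e1 j) =
      (PP k).presheaf.germ (U01 k) y (mem_U01 k h0 h1) (tauPow k (d j)) •
        M.presheaf.germ (U0 k) y h0 (e0 j) := by
  have a1 : M.presheaf.germ (U1 k) y h1 (e1 j) =
      M.presheaf.germ (U01 k) y (mem_U01 k h0 h1)
        (M.presheaf.map (homOfLE (U01_le1 k)).op (e1 j)) := by
    rw [TopCat.Presheaf.germ_res_apply]
  rw [a1, h j, Groth.Agent.Helper13.QCoh.germ_smul, TopCat.Presheaf.germ_res_apply]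

lemma germ_e0 {r : ℕ} (M : (PP k).Modules) (d : Fin r → ℤ) (e0 : Fin r → Γ(M, U0 k))
    (e1 : Fin r → Γ(M, U1 k))
    (h : ∀ j, M.presheaf.map (homOfLE (U01_le1 k)).op (e1 j) =
      tauPow k (d j) • M.presheaf.map (homOfLE (U01_le0 k)).op (e0 j))
    (y : PP k) (h0 : y ∈ U0 k) (h1 : y ∈ U1 k) (j : Fin r) :
    M.presheaf.germ (U0 k) y h0 (e0 j) =
      (PP k).presheaf.germ (U01 k) y (mem_U01 k h0 h1) (tauPow k (-(d j))) •
        M.presheaf.germ (U1 k) y h1 (e1 j) := by
  rw [germ_e1 k M d e0 e1 h y h0 h1 j, smul_smul, ← map_mul, tauPow_mul, neg_add_cancel,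
    tauPow_zero, map_one, one_smul]

/-- the standard cover of `P^1`, indexed by `Bool`. -/
noncomputable def UB : Bool → (PP k).Opens := fun t => bif t then U1 k else U0 k

/-- two modules with splitting data of the same type are isomorphic. -/
theorem nonempty_iso_of_isSplitData {r : ℕ} (M N : (PP k).Modules) (d : Fin r → ℤ)
    (hM : IsSplitData k M d) (hN : IsSplitData k N d) : Nonempty (M ≅ N) := by
  obtain ⟨f0, f1, hf0, hf1, hf⟩ := hM
  obtain ⟨e0, e1, he0, he1, he⟩ := hN
  refine Groth.Agent.Helper26.GlueIso.nonempty_iso_of_local_bases M N (UB k) ?_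
    (fun t => Bool.rec (motive := fun t => Fin r → Γ(M, UB k t)) f0 f1 t)
    (fun t => Bool.rec (motive := fun t => Fin r → Γ(N, UB k t)) e0 e1 t) ?_ ?_ ?_
  · intro x
    rcases cover k x with hx | hx
    · exact ⟨false, hx⟩
    · exact ⟨true, hx⟩
  · intro t y hy
    cases t
    · exact hf0 y hy
    · exact hf1 y hy
  · intro t y hy
    cases t
    · exact he0 y hy
    · exact he1 y hy
  · intro s t y hs ht
    cases s <;> cases t
    · exact ⟨fun _ => 1, fun j => (one_smul _ _).symm, fun j => (one_smul _ _).symm⟩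
    · exact ⟨fun j => (PP k).presheaf.germ (U01 k) y (mem_U01 k hs ht) (tauPow k (d j)),
        fun j => germ_e1 k M d f0 f1 hf y hs ht j, fun j => germ_e1 k N d e0 e1 he y hs ht j⟩
    · exact ⟨fun j => (PP k).presheaf.germ (U01 k) y (mem_U01 k ht hs) (tauPow k (-(d j))),
        fun j => germ_e0 k M d f0 f1 hf y ht hs j, fun j => germ_e0 k N d e0 e1 he y ht hs j⟩
    · exact ⟨fun _ => 1, fun j => (one_smul _ _).symm, fun j => (one_smul _ _).symm⟩

end Groth.Agent.Helper26.P1Split
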