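import Mathlib
import Groth.Agent.Lib.Helper26.P1ESide
import Groth.Agent.Lib.Helper26.PnDual1
import Groth.Agent.Lib.Helper26.HomPre

/-!
# Splitting data of `⨁ O(d_j)` on `P^1_k`
-/

set_option autoImplicit false
set_option maxHeartbeats 400000
set_option linter.unusedSectionVars false
set_option linter.unusedVariables false
universe u
open CategoryTheory CategoryTheory.Limits AlgebraicGeometry Opposite TopologicalSpace
open Polynomial LaurentPolynomial
open Twist Groth.Agent.Helper28.TwistMul RefHull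
open Groth.Agent.Helper26.P1Chart Groth.Agent.Helper26.BasisSec Groth.Agent.Helper26.PnCoh
open Groth.Agent.Helper13.StalkBasis Groth.Agent.Helper13.TensorFinLocFree
open Groth.Agent.Helper26.HomPre

namespace Groth.Agent.Helper26.P1Split

section Gen

variable {R A : Type u} [CommRing R] [CommRing A] [Algebra R A] {𝒜 : ℕ → Submodule R A}
  [GradedAlgebra 𝒜]

/-- the generator `t ^ a` of `O(a)` is not a zero divisor. -/
theorem osmul_genT_injective (a : ℤ) {t : A} (ht : t ∈ 𝒜 1)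
    (T : Opens (ProjectiveSpectrum.top 𝒜)) (hT : ∀ x : T, t ∉ x.1.asHomogeneousIdeal)
    (c : O (𝒜 := 𝒜) (op T)) (h : osmul (op T) c (genT a ht T hT) = 0) : c = 0 := by
  apply Subtype.ext
  funext x
  apply HomogeneousLocalization.val_injective
  have h1 := osmul_val (op T) c (genT a ht T hT) x
  rw [h] at h1
  have h2 : ((((0 : sectN (𝒜 := 𝒜) a (op T))).1 x).1 : Loc 𝒜 x.1) = 0 := rfl
  rw [h2] at h1
  have h3 : (((genT a ht T hT).1 x).1 : Loc 𝒜 x.1) =
      Localization.mk (t ^ a.toNat) ⟨t ^ (-a).toNat, pow_nin hT _ x⟩ := rfl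
  rw [h3] at h1
  have hu : (Localization.mk (t ^ a.toNat) ⟨t ^ (-a).toNat, pow_nin hT _ x⟩ : Loc 𝒜 x.1) *
      Localization.mk (t ^ (-a).toNat) ⟨t ^ a.toNat, pow_nin hT _ x⟩ = 1 := by
    rw [Localization.mk_mul, ← Localization.mk_one, Localization.mk_eq_mk_iff,
      Localization.r_iff_exists]
    refine ⟨1, ?_⟩
    simp only [OneMemClass.coe_one, one_mul, mul_one, Submonoid.coe_mul]
    ring
  have h4 : (c.1 x).val = (c.1 x).val *
      ((Localization.mk (t ^ a.toNat) ⟨t ^ (-a).toNat, pow_nin hT _ x⟩ : Loc 𝒜 x.1) *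
      Localization.mk (t ^ (-a).toNat) ⟨t ^ a.toNat, pow_nin hT _ x⟩) := by
    rw [hu, mul_one]
  rw [h4, ← mul_assoc, ← h1, zero_mul]
  exact HomogeneousLocalization.val_zero.symm

/-- `genT`, as a section of the module `O(a)` on the scheme `Proj`. -/
noncomputable def genS (a : ℤ) {t : A} (ht : t ∈ 𝒜 1) (T : (Proj 𝒜).Opens)
    (hT : ∀ x : T, t ∉ x.1.asHomogeneousIdeal) : Γ(Twist.twist 𝒜 a, T) :=
  genT a ht T hT

lemma res_genS (a : ℤ) {t : A} (ht : t ∈ 𝒜 1) {T T' : (Proj 𝒜).Opens} (hTT : T' ≤ T)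
    (hT : ∀ x : T, t ∉ x.1.asHomogeneousIdeal) :
    (Twist.twist 𝒜 a).presheaf.map (homOfLE hTT).op (genS a ht T hT) =
      genS a ht T' (fun x => hT ⟨x.1, hTT x.2⟩) :=
  resN_genT a ht hTT hT

lemma exists_smul_genS (a : ℤ) {t : A} (ht : t ∈ 𝒜 1) (T : (Proj 𝒜).Opens)
    (hT : ∀ x : T, t ∉ x.1.asHomogeneousIdeal) (s : Γ(Twist.twist 𝒜 a, T)) :
    ∃ c : Γ(Proj 𝒜, T), s = c • genS a ht T hT :=
  exists_osmul_genT a ht T hT s

lemma smul_genS_eq_zero (a : ℤ) {t : A} (ht : t ∈ 𝒜 1) (T : (Proj 𝒜).Opens)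
    (hT : ∀ x : T, t ∉ x.1.asHomogeneousIdeal) (c : Γ(Proj 𝒜, T))
    (h : c • genS a ht T hT = 0) : c = 0 :=
  osmul_genT_injective a ht T hT c h

/-- `t ^ a` is a basis of all stalks of `O(a)` where `t` is invertible. -/
theorem isBasisAt_genS (a : ℤ) {t : A} (ht : t ∈ 𝒜 1) (T : (Proj 𝒜).Opens)
    (hT : ∀ x : T, t ∉ x.1.asHomogeneousIdeal) (y : Proj 𝒜) (hy : y ∈ T) :
    IsBasisAt (Twist.twist 𝒜 a) (fun _ : Fin 1 => genS a ht T hT) y hy := by
  have hcomb : ∀ c : Fin 1 → (Proj 𝒜).presheaf.stalk y,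
      comb (Twist.twist 𝒜 a) (fun _ : Fin 1 => genS a ht T hT) y hy c =
        c 0 • (Twist.twist 𝒜 a).presheaf.germ T y hy (genS a ht T hT) := by
    intro c
    unfold comb
    rw [Fin.sum_univ_one]
  constructor
  · intro c c' hcc
    rw [hcomb, hcomb, ← sub_eq_zero, ← sub_smul] at hcc
    funext i
    have hi : i = 0 := Subsingleton.elim _ _
    subst hi
    rw [← sub_eq_zero]
    generalize c 0 - c' 0 = z at hcc ⊢
    obtain ⟨V, hyV, γ, rfl⟩ := TopCat.Presheaf.exists_germ_eq (Proj 𝒜).presheaf z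
    let W₀ : (Proj 𝒜).Opens := V ⊓ T
    have hyW₀ : y ∈ W₀ := ⟨hyV, hy⟩
    have h1 : W₀ ≤ V := inf_le_left
    have h2 : W₀ ≤ T := inf_le_right
    let m : Γ(Twist.twist 𝒜 a, W₀) := (Proj 𝒜).presheaf.map (homOfLE h1).op γ •
      genS a ht W₀ (fun x => hT ⟨x.1, h2 x.2⟩)
    have hm : (Twist.twist 𝒜 a).presheaf.germ W₀ y hyW₀ m =
        (Twist.twist 𝒜 a).presheaf.germ W₀ y hyW₀ 0 := by
      rw [map_zero, Groth.Agent.Helper13.QCoh.germ_smul, TopCat.Presheaf.germ_res_apply,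
        ← res_genS a ht h2 hT, TopCat.Presheaf.germ_res_apply]
      exact hcc
    obtain ⟨W, hyW, i₁, i₂, heq⟩ :=
      TopCat.Presheaf.germ_eq (Twist.twist 𝒜 a).presheaf y hyW₀ hyW₀ _ _ hm
    rw [map_zero] at heq
    have e1 : (Twist.twist 𝒜 a).presheaf.map i₁.op m =
        (Proj 𝒜).presheaf.map (homOfLE (i₁.le.trans h1)).op γ •
          genS a ht W (fun x => hT ⟨x.1, h2 (i₁.le x.2)⟩) := by
      change (Twist.twist 𝒜 a).presheaf.map i₁.op (_ • _) = _
      rw [Scheme.Modules.map_smul]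
      congr 1
    rw [e1] at heq
    have e2 := smul_genS_eq_zero a ht W _ _ heq
    have e3 : (Proj 𝒜).presheaf.germ V y hyV γ =
        (Proj 𝒜).presheaf.germ W y hyW
          ((Proj 𝒜).presheaf.map (homOfLE (i₁.le.trans h1)).op γ) := by
      rw [TopCat.Presheaf.germ_res_apply]
    rw [e3, e2, map_zero]
  · intro v
    obtain ⟨V, hyV, m, rfl⟩ := TopCat.Presheaf.exists_germ_eq (Twist.twist 𝒜 a).presheaf v
    let W : (Proj 𝒜).Opens := V ⊓ T
    have hyW : y ∈ W := ⟨hyV, hy⟩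
    have h1 : W ≤ V := inf_le_left
    have h2 : W ≤ T := inf_le_right
    obtain ⟨c, hc⟩ := exists_smul_genS a ht W (fun x => hT ⟨x.1, h2 x.2⟩)
      ((Twist.twist 𝒜 a).presheaf.map (homOfLE h1).op m)
    refine ⟨fun _ => (Proj 𝒜).presheaf.germ W y hyW c, ?_⟩
    rw [hcomb]
    have e1 : (Twist.twist 𝒜 a).presheaf.germ V y hyV m =
        (Twist.twist 𝒜 a).presheaf.germ W y hyW
          ((Twist.twist 𝒜 a).presheaf.map (homOfLE h1).op m) := by
      rw [TopCat.Presheaf.germ_res_apply]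
    rw [e1, hc, Groth.Agent.Helper13.QCoh.germ_smul, ← res_genS a ht h2 hT,
      TopCat.Presheaf.germ_res_apply]

end Gen

section Biprod

attribute [local instance] Abelian.hasFiniteBiproducts

variable {X : Scheme.{u}} {r : ℕ}

lemma stalkMapₗ_sum {K E : X.Modules} {ι : Type*} (s : Finset ι) (u : ι → (K ⟶ E)) (x : X) :
    stalkMapₗ (∑ i ∈ s, u i) x = ∑ i ∈ s, stalkMapₗ (u i) x := by
  classical
  induction s using Finset.induction_on with
  | empty => rw [Finset.sum_empty, Finset.sum_empty, stalkMapₗ_zero]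
  | insert a s ha ih => rw [Finset.sum_insert ha, Finset.sum_insert ha, stalkMapₗ_add, ih]

/-- generators of the summands give a basis of the stalks of a finite direct sum. -/
theorem isBasisAt_biproduct (L : Fin r → X.Modules) {U : X.Opens} (g : ∀ j, Γ(L j, U)) (y : X)
    (hy : y ∈ U) (h : ∀ j, IsBasisAt (L j) (fun _ : Fin 1 => g j) y hy) :
    IsBasisAt (⨁ L) (fun j => (biproduct.ι L j).app U (g j)) y hy := by
  classical
  have hgerm : ∀ j, (⨁ L).presheaf.germ U y hy ((biproduct.ι L j).app U (g j)) =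
      stalkMapₗ (biproduct.ι L j) y ((L j).presheaf.germ U y hy (g j)) := fun j =>
    (stalkMapₗ_germ (biproduct.ι L j) y hy (g j)).symm
  have hcomb1 : ∀ (j : Fin r) (c : Fin 1 → X.presheaf.stalk y),
      comb (L j) (fun _ : Fin 1 => g j) y hy c = c 0 • (L j).presheaf.germ U y hy (g j) := by
    intro j c
    unfold comb
    rw [Fin.sum_univ_one]
  have hπι : ∀ (i j : Fin r) (v : (L j).presheaf.stalk y),
      stalkMapₗ (biproduct.π L i) y (stalkMapₗ (biproduct.ι L j) y v) =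
        if j = i then (if h : j = i then h ▸ v else 0) else 0 := by
    intro i j v
    rw [← LinearMap.comp_apply, ← stalkMapₗ_comp]
    by_cases hji : j = i
    · subst hji
      rw [biproduct.ι_π_self, stalkMapₗ_id]
      simp
    · rw [biproduct.ι_π_ne L hji, stalkMapₗ_zero, if_neg hji]
      rfl
  have hπ : ∀ (i : Fin r) (c : Fin r → X.presheaf.stalk y),
      stalkMapₗ (biproduct.π L i) y
        (comb (⨁ L) (fun j => (biproduct.ι L j).app U (g j)) y hy c) =
        c i • (L i).presheaf.germ U y hy (g i) := by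
    intro i c
    unfold comb
    rw [map_sum, Finset.sum_eq_single i]
    · rw [map_smul, hgerm, hπι]
      simp
    · intro j _ hji
      rw [map_smul, hgerm, hπι, if_neg hji, smul_zero]
    · intro hi
      exact absurd (Finset.mem_univ i) hi
  constructor
  · intro c c' hcc
    funext i
    have h1 := congrArg (stalkMapₗ (biproduct.π L i) y) hcc
    rw [hπ, hπ] at h1
    have h2 : comb (L i) (fun _ : Fin 1 => g i) y hy (fun _ => c i) =
        comb (L i) (fun _ : Fin 1 => g i) y hy (fun _ => c' i) := by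
      rw [hcomb1, hcomb1]
      exact h1
    exact congrFun ((h i).1 h2) 0
  · intro v
    have hc : ∀ j, ∃ c : Fin 1 → X.presheaf.stalk y,
        comb (L j) (fun _ : Fin 1 => g j) y hy c = stalkMapₗ (biproduct.π L j) y v :=
      fun j => (h j).2 _
    choose c hc using hc
    refine ⟨fun j => c j 0, ?_⟩
    have htot : v = ∑ j, stalkMapₗ (biproduct.ι L j) y (stalkMapₗ (biproduct.π L j) y v) := by
      have e0 : stalkMapₗ (𝟙 (⨁ L)) y v = v := by
        rw [stalkMapₗ_id]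
        rfl
      rw [← biproduct.total (f := L), stalkMapₗ_sum, LinearMap.sum_apply] at e0
      refine e0.symm.trans ?_
      refine Finset.sum_congr rfl (fun j _ => ?_)
      rw [stalkMapₗ_comp, LinearMap.comp_apply]
    rw [htot]
    unfold comb
    refine Finset.sum_congr rfl (fun j _ => ?_)
    rw [hgerm, ← hc j, hcomb1, map_smul]

end Biprod

section P1

attribute [local instance] Abelian.hasFiniteBiproducts

variable (k : Type u) [Field k]

local notation "𝔖" => MvPolynomial (Fin 2) k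
local notation "𝒜" => CohB1.polyGrading 1 k

open Groth.Agent.Helper26.P1Ring HomogeneousLocalization

lemma app_res {X : Scheme.{u}} {M N : X.Modules} (φ : M ⟶ N) {U V : X.Opens} (i : V ⟶ U)
    (m : Γ(M, U)) :
    N.presheaf.map i.op (φ.app U m) = φ.app V (M.presheaf.map i.op m) := by
  have := φ.mapPresheaf.naturality i.op
  exact (ConcreteCategory.congr_hom this m).symm

lemma nin0 : ∀ x : U0 k, (MvPolynomial.X 0 : 𝔖) ∉ x.1.asHomogeneousIdeal := fun x => x.2
lemma nin1 : ∀ x : U1 k, (MvPolynomial.X 1 : 𝔖) ∉ x.1.asHomogeneousIdeal := fun x => x.2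

/-- the generator `X₀ ^ a` of `O(a)` over `U₀`. -/
noncomputable def gen0 (a : ℤ) : Γ(Twist.twistProjSpace 1 k a, U0 k) :=
  genS a (X0_mem k) (U0 k) (nin0 k)

/-- the generator `X₁ ^ a` of `O(a)` over `U₁`. -/
noncomputable def gen1 (a : ℤ) : Γ(Twist.twistProjSpace 1 k a, U1 k) :=
  genS a (X1_mem k) (U1 k) (nin1 k)

/-- the fraction representing `(X₁/X₀)^a`. -/
noncomputable def zfrac (a : ℤ) : Away 𝒜 (MvPolynomial.X 0 * MvPolynomial.X 1 : 𝔖) :=
  Away.mk 𝒜 (X01_mem k) (a.toNat + (-a).toNat)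
    (MvPolynomial.X 1 ^ (2 * a.toNat) * MvPolynomial.X 0 ^ (2 * (-a).toNat))
    (by
      have h1 := tpow_mem (X1_mem k) (2 * a.toNat)
      have h0 := tpow_mem (X0_mem k) (2 * (-a).toNat)
      have := SetLike.mul_mem_graded h1 h0
      have e : (a.toNat + (-a).toNat) • (1 + 1) = 2 * a.toNat + 2 * (-a).toNat := by
        rw [smul_eq_mul]; ring
      rw [e]
      exact this)

lemma sigma01_zfrac (a : ℤ) : sigma01 k (zfrac k a) = T a := by
  change psi01 k (zfrac k a) = T a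
  have h := Psi_mul_pow (ev k) _ (isUnit_ev_X01 k) (X01_mem k) (a.toNat + (-a).toNat)
    (MvPolynomial.X 1 ^ (2 * a.toNat) * MvPolynomial.X 0 ^ (2 * (-a).toNat)) (by
      have h1 := tpow_mem (X1_mem k) (2 * a.toNat)
      have h0 := tpow_mem (X0_mem k) (2 * (-a).toNat)
      have := SetLike.mul_mem_graded h1 h0
      have e : (a.toNat + (-a).toNat) • (1 + 1) = 2 * a.toNat + 2 * (-a).toNat := by
        rw [smul_eq_mul]; ring
      rw [e]
      exact this)
  rw [map_mul, map_mul, map_pow, map_pow, evL_X0, evL_X1, one_mul, one_pow, mul_one, T_pow,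
    T_pow] at h
  have hu : IsUnit (T ((↑(a.toNat + (-a).toNat) : ℤ) * 1) : k[T;T⁻¹]) := isUnit_T _
  apply hu.mul_right_cancel
  refine h.trans ?_
  rw [← T_add]
  congr 1
  push_cast
  omega

lemma tauPow_eq (a : ℤ) :
    tauPow k a =
      (Proj.awayToSection 𝒜 (MvPolynomial.X 0 * MvPolynomial.X 1 : 𝔖)).hom (zfrac k a) := by
  apply (r01 k).injective
  rw [r01_tauPow, r01_awayToSection, sigma01_zfrac]

lemma nin01_0 : ∀ x : U01 k, (MvPolynomial.X 0 : 𝔖) ∉ x.1.asHomogeneousIdeal :=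
  fun x => nin0 k ⟨x.1, U01_le0 k x.2⟩
lemma nin01_1 : ∀ x : U01 k, (MvPolynomial.X 1 : 𝔖) ∉ x.1.asHomogeneousIdeal :=
  fun x => nin1 k ⟨x.1, U01_le1 k x.2⟩

/-- the transition function of `O(a)` between the two charts. -/
theorem genT_X1_eq (a : ℤ) :
    genT a (X1_mem k) (U01 k) (nin01_1 k) =
      osmul (op (U01 k)) (tauPow k a) (genT a (X0_mem k) (U01 k) (nin01_0 k)) := by
  have hnum : (MvPolynomial.X 1 ^ (2 * a.toNat) * MvPolynomial.X 0 ^ (2 * (-a).toNat) : 𝔖) ∈
      𝒜 ((a.toNat + (-a).toNat) * (1 + 1)) := by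
    have h1 := tpow_mem (X1_mem k) (2 * a.toNat)
    have h0 := tpow_mem (X0_mem k) (2 * (-a).toNat)
    have := SetLike.mul_mem_graded h1 h0
    have e : (a.toNat + (-a).toNat) * (1 + 1) = 2 * a.toNat + 2 * (-a).toNat := by ring
    rw [e]
    exact this
  have hc : osmul (op (U01 k)) (tauPow k a) (oneSec (op (U01 k))) =
      fracSec 0 (DP 𝒜 (MvPolynomial.X 0 * MvPolynomial.X 1 : 𝔖))
        (MvPolynomial.X 1 ^ (2 * a.toNat) * MvPolynomial.X 0 ^ (2 * (-a).toNat)) hnum
        ((MvPolynomial.X 0 * MvPolynomial.X 1 : 𝔖) ^ (a.toNat + (-a).toNat))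
        (SetLike.pow_mem_graded _ (X01_mem k)) (by simp [mul_comm])
        (pow_nin (nin_pbo _) _) := by
    rw [fracSec_zero_eq (X01_mem k), tauPow_eq]
    rfl
  have h2 := osmul_fracSec_of_frac a (U01 k) (tauPow k a) _ hnum _
    (SetLike.pow_mem_graded _ (X01_mem k)) (by simp [mul_comm]) (pow_nin (nin_pbo _) _) hc
    (MvPolynomial.X 0 ^ a.toNat) (tpow_mem (X0_mem k) a.toNat)
    (MvPolynomial.X 0 ^ (-a).toNat) (tpow_mem (X0_mem k) (-a).toNat)
    (toNat_sub_toNat a) (pow_nin (nin01_0 k) _)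
  have h3 : genT a (X0_mem k) (U01 k) (nin01_0 k) =
      fracSec a (U01 k) (MvPolynomial.X 0 ^ a.toNat) (tpow_mem (X0_mem k) a.toNat)
        (MvPolynomial.X 0 ^ (-a).toNat) (tpow_mem (X0_mem k) (-a).toNat)
        (toNat_sub_toNat a) (pow_nin (nin01_0 k) _) := rfl
  rw [h3, h2]
  unfold genT
  apply fracSec_eq_of_mul_eq
  ring

theorem res_gen1 (a : ℤ) :
    (Twist.twistProjSpace 1 k a).presheaf.map (homOfLE (U01_le1 k)).op (gen1 k a) =
      tauPow k a • (Twist.twistProjSpace 1 k a).presheaf.map (homOfLE (U01_le0 k)).op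
        (gen0 k a) := by
  have e1 : (Twist.twistProjSpace 1 k a).presheaf.map (homOfLE (U01_le1 k)).op (gen1 k a) =
      genT a (X1_mem k) (U01 k) (nin01_1 k) := resN_genT a (X1_mem k) (U01_le1 k) (nin1 k)
  have e0 : (Twist.twistProjSpace 1 k a).presheaf.map (homOfLE (U01_le0 k)).op (gen0 k a) =
      genT a (X0_mem k) (U01 k) (nin01_0 k) := resN_genT a (X0_mem k) (U01_le0 k) (nin0 k)
  rw [e1, e0, genT_X1_eq]
  rfl

/-- `⨁ O(d_j)` has splitting data of type `d`. -/
theorem isSplitData_biproduct {r : ℕ} (d : Fin r → ℤ) :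
    IsSplitData k (⨁ fun j => Twist.twistProjSpace 1 k (d j)) d := by
  let L : Fin r → (PP k).Modules := fun j => Twist.twistProjSpace 1 k (d j)
  refine ⟨fun j => (biproduct.ι L j).app (U0 k) (gen0 k (d j)),
    fun j => (biproduct.ι L j).app (U1 k) (gen1 k (d j)), ?_, ?_, ?_⟩
  · intro y hy
    exact isBasisAt_biproduct L (fun j => gen0 k (d j)) y hy
      (fun j => isBasisAt_genS (d j) (X0_mem k) (U0 k) (nin0 k) y hy)
  · intro y hy
    exact isBasisAt_biproduct L (fun j => gen1 k (d j)) y hy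
      (fun j => isBasisAt_genS (d j) (X1_mem k) (U1 k) (nin1 k) y hy)
  · intro j
    rw [app_res, app_res]
    have := res_gen1 k (d j)
    rw [this, Scheme.Modules.Hom.app_smul]

end P1

end Groth.Agent.Helper26.P1Split
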