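import Mathlib
import Groth.Agent.Lib.Helper26.PnRing
import Groth.Agent.Lib.Helper26.PnDual1
import Groth.Agent.Lib.Helper26.PnCoh2

/-!
# The standard charts of `P^n_R` and their overlaps, on the level of the scheme
-/

set_option autoImplicit false
set_option maxHeartbeats 400000
set_option linter.unusedSectionVars false
set_option linter.unusedVariables false
universe u
open CategoryTheory CategoryTheory.Limits AlgebraicGeometry Opposite TopologicalSpace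
open LaurentPolynomial HomogeneousLocalization
open Groth.Agent.Helper26.PnRing

namespace Groth.Agent.Helper26.PnPic

section Gen

open Twist Groth.Agent.Helper28.TwistMul Groth.Agent.Helper26.PnCoh

variable {R A : Type u} [CommRing R] [CommRing A] [Algebra R A] {𝒜 : ℕ → Submodule R A}
  [GradedAlgebra 𝒜]

/-- the transition function of `O(a)` between the charts `D₊(u)` and `D₊(v)`. -/
theorem genT_eq (a : ℤ) {u v : A} (hu : u ∈ 𝒜 1) (hv : v ∈ 𝒜 1) (huv : u * v ∈ 𝒜 2)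
    (N : ℕ) (p : A) (hp : p ∈ 𝒜 (N • 2))
    (hrel : p * u ^ a.toNat * v ^ (-a).toNat = v ^ a.toNat * u ^ (-a).toNat * (u * v) ^ N)
    (ninu : ∀ x : DP 𝒜 (u * v), u ∉ x.1.asHomogeneousIdeal)
    (ninv : ∀ x : DP 𝒜 (u * v), v ∉ x.1.asHomogeneousIdeal) :
    genT a hv (DP 𝒜 (u * v)) ninv =
      osmul (op (DP 𝒜 (u * v)))
        ((ProjectiveSpectrum.Proj.awayToSection 𝒜 (u * v)).hom (Away.mk 𝒜 huv N p hp))
        (genT a hu (DP 𝒜 (u * v)) ninu) := by
  have hnum : p ∈ 𝒜 (N * 2) := hp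
  have hc : osmul (op (DP 𝒜 (u * v)))
      ((ProjectiveSpectrum.Proj.awayToSection 𝒜 (u * v)).hom (Away.mk 𝒜 huv N p hp))
      (oneSec (op (DP 𝒜 (u * v)))) =
      fracSec 0 (DP 𝒜 (u * v)) p hnum ((u * v) ^ N)
        (SetLike.pow_mem_graded _ huv) (by simp)
        (pow_nin (nin_pbo _) _) := by
    rw [fracSec_zero_eq huv]
    rfl
  have h2 := osmul_fracSec_of_frac a (DP 𝒜 (u * v))
    ((ProjectiveSpectrum.Proj.awayToSection 𝒜 (u * v)).hom (Away.mk 𝒜 huv N p hp)) _ hnum _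
    (SetLike.pow_mem_graded _ huv) (by simp) (pow_nin (nin_pbo _) _) hc
    (u ^ a.toNat) (tpow_mem hu a.toNat)
    (u ^ (-a).toNat) (tpow_mem hu (-a).toNat)
    (toNat_sub_toNat a) (pow_nin ninu _)
  have h3 : genT a hu (DP 𝒜 (u * v)) ninu =
      fracSec a (DP 𝒜 (u * v)) (u ^ a.toNat) (tpow_mem hu a.toNat)
        (u ^ (-a).toNat) (tpow_mem hu (-a).toNat)
        (toNat_sub_toNat a) (pow_nin ninu _) := rfl
  rw [h3, h2]
  unfold genT
  apply fracSec_eq_of_mul_eq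
  linear_combination (-1 : A) * hrel

end Gen


section Pn

open MvPolynomial

variable (n : ℕ) (R : Type u) [CommRing R]

local notation "𝔖" => MvPolynomial (Fin (n + 1)) R
local notation "𝒜" => CohB1.polyGrading n R

/-- projective space. -/
noncomputable abbrev PP : Scheme.{u} := CohB1.ProjSpace n R

/-- `D₊(f)`. -/
noncomputable def D (f : 𝔖) : (PP n R).Opens := Proj.basicOpen 𝒜 f

lemma D_mul (f g : 𝔖) : D n R (f * g) = D n R f ⊓ D n R g := Proj.basicOpen_mul 𝒜 f g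

lemma D_le_of_eq {f g x : 𝔖} (hx : x = f * g) : D n R x ≤ D n R f := by
  rw [hx, D_mul]; exact inf_le_left

lemma D_le_of_eq' {f g x : 𝔖} (hx : x = g * f) : D n R x ≤ D n R f := by
  rw [hx, D_mul]; exact inf_le_right

lemma isAffineOpen_D {d : ℕ} {f : 𝔖} (hf : f ∈ 𝒜 d) (hd : 0 < d) : IsAffineOpen (D n R f) :=
  Proj.isAffineOpen_basicOpen 𝒜 f hf hd

/-- `A_(f) → Γ(D₊(f))`. -/
noncomputable def ats (f : 𝔖) : Away 𝒜 f →+* Γ(PP n R, D n R f) :=
  (Proj.awayToSection 𝒜 f).hom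

/-- `A_(f) ≃ Γ(D₊(f))`. -/
noncomputable def atsEquiv {d : ℕ} {f : 𝔖} (hf : f ∈ 𝒜 d) (hd : 0 < d) :
    Away 𝒜 f ≃+* Γ(PP n R, D n R f) :=
  (Proj.basicOpenIsoAway 𝒜 f hf hd).commRingCatIsoToRingEquiv

lemma atsEquiv_apply {d : ℕ} {f : 𝔖} (hf : f ∈ 𝒜 d) (hd : 0 < d) (z : Away 𝒜 f) :
    atsEquiv n R hf hd z = ats n R f z := rfl

lemma ats_surjective {d : ℕ} {f : 𝔖} (hf : f ∈ 𝒜 d) (hd : 0 < d) (w : Γ(PP n R, D n R f)) :
    ∃ z, ats n R f z = w :=
  ⟨(atsEquiv n R hf hd).symm w, (atsEquiv n R hf hd).apply_symm_apply w⟩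

lemma ats_injective {d : ℕ} {f : 𝔖} (hf : f ∈ 𝒜 d) (hd : 0 < d) :
    Function.Injective (ats n R f) := (atsEquiv n R hf hd).injective

lemma isUnit_of_ats {d : ℕ} {f : 𝔖} (hf : f ∈ 𝒜 d) (hd : 0 < d) (z : Away 𝒜 f)
    (h : IsUnit (ats n R f z)) : IsUnit z := by
  have := h.map (atsEquiv n R hf hd).symm.toRingHom
  rwa [← atsEquiv_apply n R hf hd, RingEquiv.toRingHom_eq_coe, RingEquiv.coe_toRingHom,
    RingEquiv.symm_apply_apply] at this

/-- restriction of sections in terms of the coordinate rings. -/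
lemma res_ats {e : ℕ} {f g x : 𝔖} (hg : g ∈ 𝒜 e) (hx : x = f * g) (h : D n R x ≤ D n R f)
    (z : Away 𝒜 f) :
    (PP n R).presheaf.map (homOfLE h).op (ats n R f z) = ats n R x (awayMap 𝒜 hg hx z) := by
  have h1 := Proj.awayMap_awayToSection 𝒜 (f := f) hg (x := x) hx
  have h2 := congrArg (fun φ => φ.hom z) h1
  exact h2.symm

/-- evaluation `X_l ↦ T`, `X_i ↦ 1` on sections over `D₊(f)`. -/
noncomputable def Θ (l : Fin (n + 1)) {d : ℕ} {f : 𝔖} (hf : f ∈ 𝒜 d) (hd : 0 < d)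
    (hu : IsUnit (evl n R l f)) : Γ(PP n R, D n R f) →+* R[T;T⁻¹] :=
  (Psi 𝒜 (evl n R l) f hu).comp (atsEquiv n R hf hd).symm.toRingHom

lemma Θ_ats (l : Fin (n + 1)) {d : ℕ} {f : 𝔖} (hf : f ∈ 𝒜 d) (hd : 0 < d)
    (hu : IsUnit (evl n R l f)) (z : Away 𝒜 f) :
    Θ n R l hf hd hu (ats n R f z) = Psi 𝒜 (evl n R l) f hu z := by
  unfold Θ
  rw [RingHom.comp_apply, ← atsEquiv_apply n R hf hd, RingEquiv.toRingHom_eq_coe,
    RingEquiv.coe_toRingHom, RingEquiv.symm_apply_apply]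

lemma Θ_res (l : Fin (n + 1)) {d e : ℕ} {f g x : 𝔖} (hf : f ∈ 𝒜 d) (hd : 0 < d)
    (hg : g ∈ 𝒜 e) (hx : x = f * g) (hxm : x ∈ 𝒜 (d + e))
    (huf : IsUnit (evl n R l f)) (hux : IsUnit (evl n R l x)) (h : D n R x ≤ D n R f)
    (w : Γ(PP n R, D n R f)) :
    Θ n R l hxm (by omega) hux ((PP n R).presheaf.map (homOfLE h).op w) =
      Θ n R l hf hd huf w := by
  obtain ⟨z, rfl⟩ := ats_surjective n R hf hd w
  rw [res_ats n R hg hx h, Θ_ats, Θ_ats, Psi_awayMap 𝒜 (evl n R l) hg hx hux huf]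

/-- the standard chart `D₊(X_i)`. -/
noncomputable abbrev U (i : Fin (n + 1)) : (PP n R).Opens := D n R (X i : 𝔖)
/-- `D₊(X_s X_t)`. -/
noncomputable abbrev U2 (s t : Fin (n + 1)) : (PP n R).Opens := D n R (X s * X t : 𝔖)
/-- `D₊(X_r X_s X_t)`. -/
noncomputable abbrev U3 (r s t : Fin (n + 1)) : (PP n R).Opens := D n R (X r * X s * X t : 𝔖)

lemma U2_le_left (s t : Fin (n + 1)) : U2 n R s t ≤ U n R s := D_le_of_eq n R rfl
lemma U2_le_right (s t : Fin (n + 1)) : U2 n R s t ≤ U n R t := D_le_of_eq' n R rfl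
lemma U3_le_12 (r s t : Fin (n + 1)) : U3 n R r s t ≤ U2 n R r s := D_le_of_eq n R rfl
lemma U3_le_13 (r s t : Fin (n + 1)) : U3 n R r s t ≤ U2 n R r t :=
  D_le_of_eq n R (g := X s) (by ring)
lemma U3_le_23 (r s t : Fin (n + 1)) : U3 n R r s t ≤ U2 n R s t :=
  D_le_of_eq n R (g := X r) (by ring)

lemma mem_U2 (s t : Fin (n + 1)) (y : PP n R) (hs : y ∈ U n R s) (ht : y ∈ U n R t) :
    y ∈ U2 n R s t := by
  change y ∈ D n R (X s * X t)
  rw [D_mul]
  exact ⟨hs, ht⟩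

lemma cover (y : PP n R) : ∃ i, y ∈ U n R i := by
  have h := Groth.Agent.Helper26.PnCoh.Ust_cov n R
  have hx : y ∈ (⨆ i, Groth.Agent.Helper26.PnCoh.Ust n R i) := by rw [h]; trivial
  obtain ⟨⟨i⟩, hi⟩ := Opens.mem_iSup.1 hx
  exact ⟨i, hi⟩

/-- `Γ(U_i)` is a polynomial ring. -/
noncomputable def chartEquiv (i : Fin (n + 1)) :
    Γ(PP n R, U n R i) ≃+* MvPolynomial {j : Fin (n + 1) // j ≠ i} R :=
  (atsEquiv n R (X_mem n R i) Nat.one_pos).symm.trans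
    (RingEquiv.ofBijective (Groth.Agent.Lib.Helper26.ProjChart.φ n R i)
      (Groth.Agent.Lib.Helper26.ProjChart.φ_bijective n R i)).symm

instance [IsDomain R] (i : Fin (n + 1)) : IsDomain Γ(PP n R, U n R i) :=
  (chartEquiv n R i).toMulEquiv.isDomain _

instance [IsDomain R] [UniqueFactorizationMonoid R] (i : Fin (n + 1)) :
    UniqueFactorizationMonoid Γ(PP n R, U n R i) :=
  (chartEquiv n R i).symm.toMulEquiv.uniqueFactorizationMonoid inferInstance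

end Pn

end Groth.Agent.Helper26.PnPic
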