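import Mathlib
import Groth.Agent.Lib.Helper26.PnChartN
import Groth.Agent.Lib.Lead.UfdPic3
import Groth.Agent.Lib.Helper13.GenLocus

/-!
# Invertible modules on `P^n_R`, `R` a UFD: normalized generators on the standard charts
-/

set_option autoImplicit false
set_option maxHeartbeats 400000
set_option linter.unusedSectionVars false
set_option linter.unusedVariables false
universe u
open CategoryTheory CategoryTheory.Limits AlgebraicGeometry Opposite TopologicalSpace
open LaurentPolynomial HomogeneousLocalization MvPolynomial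
open Groth.Agent.Helper26.PnRing
open Groth.Agent.Helper13.Inv Groth.Agent.Helper23.RegMero Groth.Agent.Lead.UfdPic

namespace Groth.Agent.Helper26.PnPic

variable (n : ℕ) (R : Type u) [CommRing R]

local notation "𝔖" => MvPolynomial (Fin (n + 1)) R
local notation "𝒜" => CohB1.polyGrading n R

lemma CT_inj {a b : R} {m m' : ℤ} (ha : a ≠ 0)
    (h : (LaurentPolynomial.C a * T m : R[T;T⁻¹]) = LaurentPolynomial.C b * T m') :
    m = m' ∧ a = b := by
  rw [← LaurentPolynomial.single_eq_C_mul_T, ← LaurentPolynomial.single_eq_C_mul_T] at h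
  rcases AddMonoidAlgebra.single_inj.1 h with ⟨h1, h2⟩ | ⟨h1, h2⟩
  · exact ⟨h1, h2⟩
  · exact absurd h1 ha

variable (M : (PP n R).Modules)

/-- generators on the standard charts. -/
theorem exists_chart_gen [IsDomain R] [UniqueFactorizationMonoid R] (hM : PicF.IsInvertible M)
    (i : Fin (n + 1)) : ∃ ε : Γ(M, U n R i), IsGenOn M ε := by
  apply exists_isGenOn (isAffineOpen_D n R (X_mem n R i) Nat.one_pos) (U n R i) le_rfl M
  intro x hx
  obtain ⟨W, hxW, s, hs⟩ := (isInvertible_iff_exists_isGen M).1 hM x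
  refine ⟨W ⊓ U n R i, ⟨hxW, hx⟩, inf_le_right, M.presheaf.map (homOfLE inf_le_left).op s, ?_⟩
  exact IsGenOn.res (L := M) (e := s) hs inf_le_left

/-- the transition functions between two generators. -/
theorem exists_transition [IsDomain R] (s t : Fin (n + 1)) (hst : s ≠ t)
    (εs : Γ(M, U n R s)) (εt : Γ(M, U n R t)) (hs : IsGenOn M εs) (ht : IsGenOn M εt) :
    ∃ (c : R) (m : ℤ), IsUnit c ∧
      M.presheaf.map (homOfLE (U2_le_right n R s t)).op εt =
        ats n R (X s * X t) (unitEl n R s t c m) •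
          M.presheaf.map (homOfLE (U2_le_left n R s t)).op εs := by
  obtain ⟨w, hwu, hw⟩ := exists_unit_smul M _ _ (ht.res (U2_le_right n R s t))
    (hs.res (U2_le_left n R s t))
  obtain ⟨z, rfl⟩ := ats_surjective n R (XX_mem n R s t) (by omega) w
  have hz := isUnit_of_ats n R (XX_mem n R s t) (by omega) z hwu
  obtain ⟨c, m, hc, rfl⟩ := exists_eq_unitEl n R s t hst z hz
  exact ⟨c, m, hc, hw⟩


/-- the cocycle relation on a triple overlap. -/
theorem cocycle [IsDomain R] (r s t : Fin (n + 1)) (hrs : r ≠ s) (hrt : r ≠ t) (hst : s ≠ t)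
    (εr : Γ(M, U n R r)) (εs : Γ(M, U n R s)) (εt : Γ(M, U n R t)) (hr : IsGenOn M εr)
    (c_rs c_rt c_st : R) (m_rs m_rt m_st : ℤ) (hc : c_rt ≠ 0)
    (h_rs : M.presheaf.map (homOfLE (U2_le_right n R r s)).op εs =
      ats n R (X r * X s) (unitEl n R r s c_rs m_rs) •
        M.presheaf.map (homOfLE (U2_le_left n R r s)).op εr)
    (h_rt : M.presheaf.map (homOfLE (U2_le_right n R r t)).op εt =
      ats n R (X r * X t) (unitEl n R r t c_rt m_rt) •
        M.presheaf.map (homOfLE (U2_le_left n R r t)).op εr)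
    (h_st : M.presheaf.map (homOfLE (U2_le_right n R s t)).op εt =
      ats n R (X s * X t) (unitEl n R s t c_st m_st) •
        M.presheaf.map (homOfLE (U2_le_left n R s t)).op εs) :
    m_rt = m_rs ∧ m_rt = m_st ∧ c_rt = c_rs * c_st := by
  have E_rs := congrArg (M.presheaf.map (homOfLE (U3_le_12 n R r s t)).op) h_rs
  rw [res_smul', Groth.Agent.Helper23.RegMero.res_res, Groth.Agent.Helper23.RegMero.res_res]
    at E_rs
  have E_rt := congrArg (M.presheaf.map (homOfLE (U3_le_13 n R r s t)).op) h_rt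
  rw [res_smul', Groth.Agent.Helper23.RegMero.res_res, Groth.Agent.Helper23.RegMero.res_res]
    at E_rt
  have E_st := congrArg (M.presheaf.map (homOfLE (U3_le_23 n R r s t)).op) h_st
  rw [res_smul', Groth.Agent.Helper23.RegMero.res_res, Groth.Agent.Helper23.RegMero.res_res]
    at E_st
  have E : ((PP n R).presheaf.map (homOfLE (U3_le_23 n R r s t)).op
        (ats n R (X s * X t) (unitEl n R s t c_st m_st)) *
      (PP n R).presheaf.map (homOfLE (U3_le_12 n R r s t)).op
        (ats n R (X r * X s) (unitEl n R r s c_rs m_rs))) •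
        M.presheaf.map (homOfLE ((U3_le_12 n R r s t).trans (U2_le_left n R r s))).op εr =
      (PP n R).presheaf.map (homOfLE (U3_le_13 n R r s t)).op
        (ats n R (X r * X t) (unitEl n R r t c_rt m_rt)) •
        M.presheaf.map (homOfLE ((U3_le_12 n R r s t).trans (U2_le_left n R r s))).op εr := by
    rw [mul_smul, ← E_rs]
    exact E_st.symm.trans E_rt
  have E' := (hr.res ((U3_le_12 n R r s t).trans (U2_le_left n R r s))).smul_injective _ _ E
  have key : ∀ l : Fin (n + 1),
      (LaurentPolynomial.C c_st * T (m_st * ((if t = l then 1 else 0) - (if s = l then 1 else 0))) :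
        R[T;T⁻¹]) *
      (LaurentPolynomial.C c_rs * T (m_rs * ((if s = l then 1 else 0) - (if r = l then 1 else 0)))) =
      LaurentPolynomial.C c_rt * T (m_rt * ((if t = l then 1 else 0) - (if r = l then 1 else 0))) := by
    intro l
    have T_rs := (Θ_res n R l (XX_mem n R r s) (by omega) (X_mem n R t) rfl (XXX_mem n R r s t)
      (isUnit_evl_XX n R l r s) (isUnit_evl_XXX n R l r s t) (U3_le_12 n R r s t)
      (ats n R (X r * X s) (unitEl n R r s c_rs m_rs))).trans
        ((Θ_ats n R l _ _ _ _).trans (Psi_evl_unitEl n R l r s c_rs m_rs))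
    have T_rt := (Θ_res n R l (XX_mem n R r t) (by omega) (X_mem n R s) (by ring)
      (XXX_mem n R r s t)
      (isUnit_evl_XX n R l r t) (isUnit_evl_XXX n R l r s t) (U3_le_13 n R r s t)
      (ats n R (X r * X t) (unitEl n R r t c_rt m_rt))).trans
        ((Θ_ats n R l _ _ _ _).trans (Psi_evl_unitEl n R l r t c_rt m_rt))
    have T_st := (Θ_res n R l (XX_mem n R s t) (by omega) (X_mem n R r) (by ring)
      (XXX_mem n R r s t)
      (isUnit_evl_XX n R l s t) (isUnit_evl_XXX n R l r s t) (U3_le_23 n R r s t)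
      (ats n R (X s * X t) (unitEl n R s t c_st m_st))).trans
        ((Θ_ats n R l _ _ _ _).trans (Psi_evl_unitEl n R l s t c_st m_st))
    rw [← T_rs, ← T_rt, ← T_st, ← map_mul, E']
  have k1 := key r
  simp only [hrt.symm, hrs.symm, ↓reduceIte] at k1
  rw [sub_self, mul_zero, T_zero, mul_one, ← mul_assoc, ← map_mul] at k1
  obtain ⟨e1, e2⟩ := CT_inj R hc k1.symm
  have k2 := key t
  simp only [hrt, hst, ↓reduceIte] at k2
  rw [sub_self, mul_zero, T_zero, mul_one, mul_right_comm, ← map_mul] at k2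
  obtain ⟨e3, e4⟩ := CT_inj R hc k2.symm
  refine ⟨by omega, by omega, ?_⟩
  rw [e2, mul_comm]


/-- **normalized generators**: an invertible module on `P^n_R` (`R` a UFD) has generators on the
standard charts whose transition functions are `(X_t / X_s) ^ d`. -/
theorem exists_normalized_gens [IsDomain R] [UniqueFactorizationMonoid R]
    (hM : PicF.IsInvertible M) :
    ∃ (d : ℤ) (e : ∀ i, Γ(M, U n R i)), (∀ i, IsGenOn M (e i)) ∧
      ∀ s t, s < t → M.presheaf.map (homOfLE (U2_le_right n R s t)).op (e t) =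
        ats n R (X s * X t) (unitEl n R s t 1 d) •
          M.presheaf.map (homOfLE (U2_le_left n R s t)).op (e s) := by
  choose ε hε using exists_chart_gen n R M hM
  have key : ∀ s t, s ≠ t → ∃ (c : R) (m : ℤ), IsUnit c ∧
      M.presheaf.map (homOfLE (U2_le_right n R s t)).op (ε t) =
        ats n R (X s * X t) (unitEl n R s t c m) •
          M.presheaf.map (homOfLE (U2_le_left n R s t)).op (ε s) :=
    fun s t hst => exists_transition n R M s t hst (ε s) (ε t) (hε s) (hε t)
  choose c m hc hw using key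
  have coc : ∀ r s t (hrs : r ≠ s) (hrt : r ≠ t) (hst : s ≠ t),
      m r t hrt = m r s hrs ∧ m r t hrt = m s t hst ∧ c r t hrt = c r s hrs * c s t hst :=
    fun r s t hrs hrt hst => cocycle n R M r s t hrs hrt hst (ε r) (ε s) (ε t) (hε r) _ _ _ _ _ _
      (hc r t hrt).ne_zero (hw r s hrs) (hw r t hrt) (hw s t hst)
  obtain ⟨d, hd⟩ : ∃ d : ℤ, ∀ t (h : (0 : Fin (n + 1)) ≠ t), m 0 t h = d := by
    by_cases hex : ∃ t : Fin (n + 1), 0 ≠ t
    · obtain ⟨t₁, h₁⟩ := hex
      refine ⟨m 0 t₁ h₁, fun t h => ?_⟩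
      by_cases e : t₁ = t
      · subst e; rfl
      · exact (coc 0 t₁ t h₁ h e).1
    · exact ⟨0, fun t h => absurd ⟨t, h⟩ hex⟩
  obtain ⟨γ, hγ0, hγ⟩ : ∃ γ : Fin (n + 1) → Rˣ, γ 0 = 1 ∧
      ∀ t (h : (0 : Fin (n + 1)) ≠ t), (γ t : R) = c 0 t h := by
    refine ⟨fun t => if h : (0 : Fin (n + 1)) = t then 1 else (hc 0 t h).unit, ?_, ?_⟩
    · simp
    · intro t h
      simp only [dif_neg h]
      rfl
  have hm : ∀ s t (hst : s < t), m s t hst.ne = d := by
    intro s t hst
    by_cases hs : (0 : Fin (n + 1)) = s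
    · subst hs
      exact hd t hst.ne
    · have ht : (0 : Fin (n + 1)) ≠ t := by
        intro h; subst h; exact absurd hst (Fin.not_lt_zero _)
      rw [← (coc 0 s t hs ht hst.ne).2.1]
      exact hd t ht
  have hcγ : ∀ s t (hst : s < t), c s t hst.ne * (γ s : R) = γ t := by
    intro s t hst
    by_cases hs : (0 : Fin (n + 1)) = s
    · subst hs
      rw [hγ0, Units.val_one, mul_one, hγ t hst.ne]
    · have ht : (0 : Fin (n + 1)) ≠ t := by
        intro h; subst h; exact absurd hst (Fin.not_lt_zero _)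
      rw [hγ s hs, hγ t ht, (coc 0 s t hs ht hst.ne).2.2, mul_comm]
  refine ⟨d, fun t => ats n R (X t) (cst n R (X_mem n R t) ((γ t)⁻¹ : Rˣ)) • ε t, ?_, ?_⟩
  · intro t y hy
    refine (Groth.Agent.Helper13.GenLoc.isGen_smul_iff M (ε t) _ y hy (hε t y hy)).2 ?_
    have hu : IsUnit (ats n R (X t) (cst n R (X_mem n R t) ((γ t)⁻¹ : Rˣ))) := by
      refine ⟨⟨_, ats n R (X t) (cst n R (X_mem n R t) (γ t : Rˣ)), ?_, ?_⟩, rfl⟩
      · rw [← map_mul, cst_mul_cst, Units.inv_mul, cst_one, map_one]
      · rw [← map_mul, cst_mul_cst, Units.mul_inv, cst_one, map_one]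
    rw [(PP n R).basicOpen_of_isUnit hu]
    exact hy
  · intro s t hst
    have e1 : (PP n R).presheaf.map (homOfLE (U2_le_right n R s t)).op
        (ats n R (X t) (cst n R (X_mem n R t) ((γ t)⁻¹ : Rˣ))) =
        ats n R (X s * X t) (cst n R (XX_mem n R s t) ((γ t)⁻¹ : Rˣ)) := by
      rw [res_ats n R (X_mem n R s) (mul_comm (X s) (X t)) (U2_le_right n R s t),
        awayMap_cst n R (X_mem n R t) (X_mem n R s) (mul_comm (X s) (X t)) (XX_mem n R s t)]
    have e2 : (PP n R).presheaf.map (homOfLE (U2_le_left n R s t)).op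
        (ats n R (X s) (cst n R (X_mem n R s) ((γ s)⁻¹ : Rˣ))) =
        ats n R (X s * X t) (cst n R (XX_mem n R s t) ((γ s)⁻¹ : Rˣ)) := by
      rw [res_ats n R (X_mem n R t) rfl (U2_le_left n R s t),
        awayMap_cst n R (X_mem n R s) (X_mem n R t) rfl (XX_mem n R s t)]
    rw [res_smul', res_smul', e1, e2, hw s t hst.ne, hm s t hst, ← mul_smul, ← mul_smul,
      ← map_mul, ← map_mul, cst_mul_unitEl, unitEl_mul_cst]
    congr 3
    rw [one_mul]
    have hcs : c s t hst.ne = (γ t : R) * ((γ s)⁻¹ : Rˣ) := by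
      rw [← hcγ s t hst, mul_assoc, Units.mul_inv, mul_one]
    rw [hcs, ← mul_assoc, Units.inv_mul, one_mul]

end Groth.Agent.Helper26.PnPic
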