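import Mathlib
import Groth.Agent.Lib.Helper26.PnPicL
import Groth.Agent.Lib.Helper26.P1FSide
import Groth.Agent.Lib.Helper26.GlueIso

/-!
# `Pic(P^n_R) = ℤ` for a UFD `R`: every invertible module is `O(d)`
-/

set_option autoImplicit false
set_option maxHeartbeats 400000
set_option linter.unusedSectionVars false
set_option linter.unusedVariables false
universe u
open CategoryTheory CategoryTheory.Limits AlgebraicGeometry Opposite TopologicalSpace
open LaurentPolynomial HomogeneousLocalization MvPolynomial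
open Groth.Agent.Helper26.PnRing
open Groth.Agent.Helper13.Inv Groth.Agent.Helper23.RegMero Groth.Agent.Lead.UfdPic
open Groth.Agent.Helper13.StalkBasis Groth.Agent.Helper26.PnCoh Groth.Agent.Helper26.P1Split

namespace Groth.Agent.Helper26.PnPic

section Stalk

variable {X : Scheme.{u}}

lemma isBasisAt_of_isGen (M : X.Modules) {U : X.Opens} (s : Γ(M, U)) (y : X) (hy : y ∈ U)
    (h : IsGen M s y hy) : IsBasisAt M (fun _ : Fin 1 => s) y hy := by
  have e : comb M (fun _ : Fin 1 => s) y hy =
      (fun r : X.presheaf.stalk y => r • M.presheaf.germ U y hy s) ∘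
        (fun c : Fin 1 → X.presheaf.stalk y => c 0) := by
    funext c
    unfold comb
    rw [Fin.sum_univ_one]
    rfl
  unfold IsBasisAt
  rw [e]
  exact h.comp (Equiv.funUnique (Fin 1) (X.presheaf.stalk y)).bijective

lemma isGen_of_isBasisAt (M : X.Modules) {U : X.Opens} (s : Γ(M, U)) (y : X) (hy : y ∈ U)
    (h : IsBasisAt M (fun _ : Fin 1 => s) y hy) : IsGen M s y hy := by
  have e : (fun r : X.presheaf.stalk y => r • M.presheaf.germ U y hy s) =
      comb M (fun _ : Fin 1 => s) y hy ∘
        (Equiv.funUnique (Fin 1) (X.presheaf.stalk y)).symm := by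
    funext r
    unfold comb
    rw [Function.comp_apply, Fin.sum_univ_one]
    rfl
  unfold IsGen
  rw [e]
  exact Function.Bijective.comp h (Equiv.funUnique (Fin 1) (X.presheaf.stalk y)).symm.bijective

/-- a transition relation between generators can be inverted. -/
lemma compat_symm {A : Type*} [CommRing A] {P Q : Type*} [AddCommGroup P] [Module A P]
    [AddCommGroup Q] [Module A Q] (fs ft : P) (es et : Q)
    (hfs : Function.Bijective (fun r : A => r • fs))
    (α : A) (h1 : fs = α • ft) (h2 : es = α • et) :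
    ∃ β : A, ft = β • fs ∧ et = β • es := by
  obtain ⟨β, hβ⟩ := hfs.2 ft
  simp only at hβ
  have h3 : (α * β) • fs = (1 : A) • fs := by
    rw [mul_smul, hβ, one_smul, ← h1]
  have h4 : α * β = 1 := hfs.1 h3
  refine ⟨β, hβ.symm, ?_⟩
  rw [h2, ← mul_smul, mul_comm, h4, one_smul]

end Stalk


section Pn

variable (n : ℕ) (R : Type u) [CommRing R]

local notation "𝔖" => MvPolynomial (Fin (n + 1)) R
local notation "𝒜" => CohB1.polyGrading n R

lemma ninU (i : Fin (n + 1)) : ∀ x : U n R i, (X i : 𝔖) ∉ x.1.asHomogeneousIdeal := fun x => x.2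

lemma ninU2_left (s t : Fin (n + 1)) :
    ∀ x : U2 n R s t, (X s : 𝔖) ∉ x.1.asHomogeneousIdeal :=
  fun x => ninU n R s ⟨x.1, U2_le_left n R s t x.2⟩

lemma ninU2_right (s t : Fin (n + 1)) :
    ∀ x : U2 n R s t, (X t : 𝔖) ∉ x.1.asHomogeneousIdeal :=
  fun x => ninU n R t ⟨x.1, U2_le_right n R s t x.2⟩

/-- the generator `X_i ^ d` of `O(d)` over `U_i`. -/
noncomputable def gen (d : ℤ) (i : Fin (n + 1)) : Γ(Twist.twistProjSpace n R d, U n R i) :=
  genS d (X_mem n R i) (U n R i) (ninU n R i)

lemma isBasisAt_gen (d : ℤ) (i : Fin (n + 1)) (y : PP n R) (hy : y ∈ U n R i) :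
    IsBasisAt (Twist.twistProjSpace n R d) (fun _ : Fin 1 => gen n R d i) y hy :=
  isBasisAt_genS d (X_mem n R i) (U n R i) (ninU n R i) y hy

/-- the transition functions of `O(d)`. -/
theorem res_gen (d : ℤ) (s t : Fin (n + 1)) :
    (Twist.twistProjSpace n R d).presheaf.map (homOfLE (U2_le_right n R s t)).op (gen n R d t) =
      ats n R (X s * X t) (unitEl n R s t 1 d) •
        (Twist.twistProjSpace n R d).presheaf.map (homOfLE (U2_le_left n R s t)).op
          (gen n R d s) := by
  have e1 : (Twist.twistProjSpace n R d).presheaf.map (homOfLE (U2_le_right n R s t)).op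
      (gen n R d t) = genT d (X_mem n R t) (U2 n R s t) (ninU2_right n R s t) :=
    resN_genT d (X_mem n R t) (U2_le_right n R s t) (ninU n R t)
  have e0 : (Twist.twistProjSpace n R d).presheaf.map (homOfLE (U2_le_left n R s t)).op
      (gen n R d s) = genT d (X_mem n R s) (U2 n R s t) (ninU2_left n R s t) :=
    resN_genT d (X_mem n R s) (U2_le_left n R s t) (ninU n R s)
  rw [e1, e0]
  have h := @genT_eq R (MvPolynomial (Fin (n + 1)) R) _ _ _ (CohB1.polyGrading n R) _ d (X s) (X t)
    (X_mem n R s) (X_mem n R t) (XX_mem n R s t)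
    (d.toNat + (-d).toNat)
    (MvPolynomial.C 1 * (X t ^ (2 * d.toNat) * X s ^ (2 * (-d).toNat))) (num_mem n R s t 1 d)
    (by rw [map_one, one_mul, mul_pow]; ring)
    (ninU2_left n R s t) (ninU2_right n R s t)
  exact h


/-- **`Pic(P^n_R) = ℤ`**: every invertible module on projective space over a UFD is some `O(d)`. -/
theorem exists_iso_twist [IsDomain R] [UniqueFactorizationMonoid R] (M : (PP n R).Modules)
    (hM : PicF.IsInvertible M) : ∃ d : ℤ, Nonempty (M ≅ Twist.twistProjSpace n R d) := by
  obtain ⟨d, e, he, hrel⟩ := exists_normalized_gens n R M hM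
  refine ⟨d, ?_⟩
  apply Groth.Agent.Helper26.GlueIso.nonempty_iso_of_local_bases M (Twist.twistProjSpace n R d)
    (U n R) (cover n R) (fun t _ => e t) (fun t _ => gen n R d t)
    (fun t y hy => isBasisAt_of_isGen M (e t) y hy (he t y hy))
    (fun t y hy => isBasisAt_gen n R d t y hy)
  intro s t y hs ht
  have key : ∀ s t, s < t → ∀ (hs : y ∈ U n R s) (ht : y ∈ U n R t),
      ∃ a : (PP n R).presheaf.stalk y,
        M.presheaf.germ (U n R t) y ht (e t) = a • M.presheaf.germ (U n R s) y hs (e s) ∧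
        (Twist.twistProjSpace n R d).presheaf.germ (U n R t) y ht (gen n R d t) =
          a • (Twist.twistProjSpace n R d).presheaf.germ (U n R s) y hs (gen n R d s) := by
    intro s t hst hs ht
    have hy2 : y ∈ U2 n R s t := mem_U2 n R s t y hs ht
    refine ⟨(PP n R).presheaf.germ (U2 n R s t) y hy2
      (ats n R (X s * X t) (unitEl n R s t 1 d)), ?_, ?_⟩
    · rw [← TopCat.Presheaf.germ_res_apply M.presheaf (homOfLE (U2_le_right n R s t)) y hy2 (e t),
        hrel s t hst, Groth.Agent.Helper13.QCoh.germ_smul, TopCat.Presheaf.germ_res_apply]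
    · rw [← TopCat.Presheaf.germ_res_apply (Twist.twistProjSpace n R d).presheaf
          (homOfLE (U2_le_right n R s t)) y hy2 (gen n R d t),
        res_gen n R d s t, Groth.Agent.Helper13.QCoh.germ_smul, TopCat.Presheaf.germ_res_apply]
  rcases lt_trichotomy s t with h | h | h
  · obtain ⟨a, h1, h2⟩ := key s t h hs ht
    exact ⟨fun _ => a, fun _ => h1, fun _ => h2⟩
  · subst h
    exact ⟨fun _ => 1, fun _ => (one_smul _ _).symm, fun _ => (one_smul _ _).symm⟩
  · obtain ⟨a, h1, h2⟩ := key t s h ht hs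
    obtain ⟨β, h3, h4⟩ := compat_symm _ _ _ _ (he s y hs) a h1 h2
    exact ⟨fun _ => β, fun _ => h3, fun _ => h4⟩

end Pn

end Groth.Agent.Helper26.PnPic
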