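import Mathlib

/-!
# Kernels of rank one maps out of a free module of rank two over a UFD
-/

set_option autoImplicit false
set_option linter.unusedSectionVars false
universe u

namespace Groth.Agent.Helper26.UFDKer

variable {R : Type*} [CommRing R] [IsDomain R]
  {F : Type*} [AddCommGroup F] [Module R F] {P : Type*} [AddCommGroup P] [Module R P]

/-- the `2 × 2` determinant in coordinates with respect to a basis. -/
noncomputable def wd (b : Module.Basis (Fin 2) R F) (x y : F) : R :=
  b.repr x 0 * b.repr y 1 - b.repr x 1 * b.repr y 0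

/-- Cramer's rule. -/
lemma cramer (b : Module.Basis (Fin 2) R F) (x y z : F) :
    wd b x z • y = wd b y z • x + wd b x y • z := by
  apply b.repr.injective
  ext i
  fin_cases i
  · simp only [wd, map_add, map_smul, Finsupp.coe_add, Finsupp.coe_smul, Pi.add_apply,
      Pi.smul_apply, smul_eq_mul, Fin.zero_eta]
    ring
  · simp only [wd, map_add, map_smul, Finsupp.coe_add, Finsupp.coe_smul, Pi.add_apply,
      Pi.smul_apply, smul_eq_mul, Fin.mk_one]
    ring

lemma eq_of_coords (b : Module.Basis (Fin 2) R F) (x : F) :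
    x = b.repr x 0 • b 0 + b.repr x 1 • b 1 := by
  conv_lhs => rw [← b.sum_repr x]
  rw [Fin.sum_univ_two]

/-- **kernel of a nonzero linear map out of a free module of rank two over a UFD which kills a
nonzero vector is free of rank one.** -/
theorem exists_ker_eq_span [UniqueFactorizationMonoid R] [Module.IsTorsionFree R P]
    (b : Module.Basis (Fin 2) R F) (T : F →ₗ[R] P) (hT : T ≠ 0) (z : F) (hz : z ≠ 0)
    (hTz : T z = 0) :
    ∃ κ : F, κ ≠ 0 ∧ T κ = 0 ∧ ∀ x, T x = 0 → ∃ t : R, x = t • κ := by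
  have hF : Module.IsTorsionFree R F := b.isTorsionFree
  -- a primitive vector proportional to `z`
  obtain ⟨a', b', c', hrel, ha, hb⟩ : ∃ a' b' c' : R, IsRelPrime a' b' ∧
      c' * a' = b.repr z 0 ∧ c' * b' = b.repr z 1 := by
    by_cases h0 : b.repr z 0 = 0
    · exact ⟨0, 1, b.repr z 1, isRelPrime_one_right, by rw [mul_zero, h0], mul_one _⟩
    · obtain ⟨a', b', c', h1, h2, h3⟩ :=
        UniqueFactorizationMonoid.exists_reduced_factors (b.repr z 0) h0 (b.repr z 1)
      exact ⟨a', b', c', h1, h2, h3⟩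
  let κ : F := a' • b 0 + b' • b 1
  have hκ0 : b.repr κ 0 = a' := by simp [κ]
  have hκ1 : b.repr κ 1 = b' := by simp [κ]
  have hzκ : z = c' • κ := by
    rw [eq_of_coords b z, ← ha, ← hb]
    simp only [κ, smul_add, smul_smul]
  have hc' : c' ≠ 0 := by
    rintro rfl
    exact hz (by rw [hzκ, zero_smul])
  have hκne : κ ≠ 0 := by
    intro h
    exact hz (by rw [hzκ, h, smul_zero])
  have hTκ : T κ = 0 := by
    have h1 : c' • T κ = 0 := by rw [← map_smul, ← hzκ, hTz]
    exact (smul_eq_zero.1 h1).resolve_left hc'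
  refine ⟨κ, hκne, hTκ, fun x hx => ?_⟩
  -- some vector is not killed
  obtain ⟨y, hy⟩ : ∃ y, T y ≠ 0 := by
    by_contra hcon
    exact hT (LinearMap.ext (fun y => by
      by_contra hy
      exact hcon ⟨y, hy⟩))
  have hw : wd b x κ = 0 := by
    have h1 := congrArg T (cramer b x y κ)
    rw [map_smul, map_add, map_smul, map_smul, hx, hTκ, smul_zero, smul_zero, add_zero] at h1
    exact (smul_eq_zero.1 h1).resolve_right hy
  unfold wd at hw
  rw [hκ0, hκ1] at hw
  have hw' : b.repr x 0 * b' = b.repr x 1 * a' := sub_eq_zero.1 hw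
  -- `a' ∣ x₀`
  have hdvd : a' ∣ b.repr x 0 := by
    apply hrel.dvd_of_dvd_mul_right
    exact ⟨b.repr x 1, by rw [hw', mul_comm]⟩
  obtain ⟨t, ht⟩ := hdvd
  by_cases ha0 : a' = 0
  · -- then `b'` is a unit
    have hu : IsUnit b' := by
      have h9 : b' ∣ a' := by rw [ha0]; exact dvd_zero _
      exact hrel h9 dvd_rfl
    obtain ⟨u, rfl⟩ := hu
    have hx0 : b.repr x 0 = 0 := by rw [ht, ha0, zero_mul]
    refine ⟨b.repr x 1 * ↑u⁻¹, (eq_of_coords b x).trans ?_⟩
    rw [hx0, zero_smul, zero_add]
    simp only [κ, ha0, zero_smul, zero_add, smul_smul]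
    rw [mul_assoc, Units.inv_mul, mul_one]
  · refine ⟨t, ?_⟩
    have hx1 : b.repr x 1 = t * b' := by
      have h2 : a' * (b.repr x 1) = a' * (t * b') := by
        rw [mul_comm a' (b.repr x 1), ← hw', ht]
        ring
      exact mul_left_cancel₀ ha0 h2
    refine (eq_of_coords b x).trans ?_
    rw [hx1, ht]
    simp only [κ, smul_add, smul_smul]
    rw [mul_comm a' t]

end Groth.Agent.Helper26.UFDKer
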