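import Mathlib
import Groth.Agent.Lib.Helper26.UFDKer
import Groth.Agent.Lib.Helper26.IntLF
import Groth.Agent.Lib.Helper26.IntPn
import Groth.Agent.Lib.Helper26.Wedge
import Groth.Agent.Lib.Helper26.PnPicMain
import Groth.Agent.Lib.Helper13.QCohKer
import Groth.Agent.Lib.Helper13.KerSec
import Groth.Agent.Lib.Helper13.InvGen
import Groth.Agent.Lib.Helper13.QCohStalk
import Groth.Agent.Lib.Helper5.FPC1

/-!
# Kernels of rank one endomorphisms of rank two bundles on `P^n_k` are invertible
-/

set_option autoImplicit false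
set_option maxHeartbeats 400000
set_option linter.unusedSectionVars false
set_option linter.unusedVariables false
set_option linter.style.haveILetI false
universe u
open CategoryTheory CategoryTheory.Limits AlgebraicGeometry Opposite TopologicalSpace
open Groth.Agent.Helper13.StalkBasis Groth.Agent.Helper26.BasisSec Groth.Agent.Helper26.IntLF
open Groth.Agent.Helper24.KoszMap Groth.Agent.Helper26.PnPic Groth.Agent.Helper26.PnRing
open MvPolynomial

namespace Groth.Agent.Helper26.KerInv

variable (k : Type u) [Field k] (n : ℕ)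

theorem isFinLocFree_of_rank {X : Scheme.{u}} (E : X.Modules) (r : ℕ)
    (hE : FlatMod.IsFinLocFreeOfRank r E) : FlatMod.IsFinLocFree E := fun x => by
  obtain ⟨U, hx, e⟩ := hE x
  exact ⟨U, r, hx, e⟩

/-- **the kernel of an endomorphism `T ≠ 0` of a rank two bundle on `P^n_k` which kills the image
of a nonzero endomorphism is invertible.** -/
theorem isInvertible_kernel (E : (PP n k).Modules) (hE : FlatMod.IsFinLocFreeOfRank 2 E)
    (s T : E ⟶ E) (hs : s ≠ 0) (hT : T ≠ 0) (hsT : s ≫ T = 0) :
    PicF.IsInvertible (kernel T) := by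
  haveI : IsIntegral (PP n k) := Groth.Agent.Helper26.IntPn.isIntegral_PP n k
  haveI : E.IsQuasicoherent :=
    Groth.Agent.Helper5.FPC.isQuasicoherent_of_isFinLocFree E (isFinLocFree_of_rank E 2 hE)
  haveI : (kernel T).IsQuasicoherent := Groth.Agent.Helper13.QCohLocal.isQuasicoherent_kernel T
  rw [Groth.Agent.Helper13.Inv.isInvertible_iff_exists_isGen]
  intro y
  obtain ⟨i, hi⟩ := cover n k y
  obtain ⟨V, e₁, hyV, he₁⟩ := Groth.Agent.Helper13.K0Tensor.exists_isBasisAt_of_rank E 2 hE y
  have hUi : IsAffineOpen (U n k i) := isAffineOpen_D n k (X_mem n k i) Nat.one_pos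
  obtain ⟨f, hfV, hyf⟩ := hUi.exists_basicOpen_le ⟨y, hyV⟩ hi
  have hW : IsAffineOpen ((PP n k).basicOpen f) := hUi.basicOpen f
  have hne : Nonempty ((PP n k).basicOpen f) := ⟨⟨y, hyf⟩⟩
  haveI : IsDomain Γ(PP n k, (PP n k).basicOpen f) :=
    @IsIntegral.component_integral (PP n k) _ ((PP n k).basicOpen f) hne
  haveI : UniqueFactorizationMonoid Γ(PP n k, (PP n k).basicOpen f) := by
    haveI := hUi.isLocalization_basicOpen f
    exact UniqueFactorizationMonoid.of_isLocalization (Submonoid.powers f) _
  -- the restricted basis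
  let e : Fin 2 → Γ(E, (PP n k).basicOpen f) := fun j => res E hfV (e₁ j)
  have he : ∀ (z : PP n k) (hz : z ∈ (PP n k).basicOpen f), IsBasisAt E e z hz :=
    fun z hz => (isBasisAt_res E (homOfLE hfV) e₁ z hz).2 (he₁ z _)
  let b := Groth.Agent.Helper26.Wedge.basisOfSec E e he
  have hb : ∀ j, b j = e j := fun j => by
    change Module.Basis.mk _ _ j = e j
    rw [Module.Basis.mk_apply]
  let TW := appLin T ((PP n k).basicOpen f)
  have hTW : TW ≠ 0 := by
    intro h0
    apply hT
    refine hom_eq_zero_of_basis E E 2 hE ⟨y, hyf⟩ e he T (fun j => ?_)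
    have := congrArg (fun l => l (e j)) h0
    exact this
  obtain ⟨j, hj⟩ : ∃ j, s.app ((PP n k).basicOpen f) (e j) ≠ 0 := by
    by_contra hcon
    apply hs
    refine hom_eq_zero_of_basis E E 2 hE ⟨y, hyf⟩ e he s (fun j => ?_)
    by_contra hj
    exact hcon ⟨j, hj⟩
  have hTz : TW (s.app ((PP n k).basicOpen f) (e j)) = 0 := by
    have := congrArg (fun θ : E ⟶ E => θ.app ((PP n k).basicOpen f) (e j)) hsT
    exact this
  haveI : Module.IsTorsionFree Γ(PP n k, (PP n k).basicOpen f) Γ(E, (PP n k).basicOpen f) :=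
    b.isTorsionFree
  obtain ⟨κ, hκ, hTκ, hker⟩ :=
    Groth.Agent.Helper26.UFDKer.exists_ker_eq_span b TW hTW _ hj hTz
  obtain ⟨k₀, hk₀⟩ := Groth.Agent.Helper13.KerSec.exists_kernel_section T
    ((PP n k).basicOpen f) κ hTκ
  have hinj : Function.Injective ((kernel.ι T).app ((PP n k).basicOpen f)) :=
    (Groth.Agent.Helper13.QCoh.mono_iff_app_injective (kernel.ι T)).1 inferInstance _
  -- the basis of the kernel
  let bK : Module.Basis (Fin 1) Γ(PP n k, (PP n k).basicOpen f)
      Γ(kernel T, (PP n k).basicOpen f) :=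
    Module.Basis.mk (v := fun _ : Fin 1 => k₀)
      (Fintype.linearIndependent_iff.2 (fun g hg l => by
        rw [Fin.sum_univ_one] at hg
        have h1 := congrArg ((kernel.ι T).app ((PP n k).basicOpen f)) hg
        rw [Scheme.Modules.Hom.app_smul, hk₀, map_zero] at h1
        have h2 := (smul_eq_zero.1 h1).resolve_right hκ
        have hl : l = 0 := Subsingleton.elim _ _
        rw [hl]
        exact h2))
      (fun m _ => by
        have hm : TW ((kernel.ι T).app ((PP n k).basicOpen f) m) = 0 :=
          Groth.Agent.Helper13.KerSec.kernel_ι_app_comp T _ m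
        obtain ⟨t, ht⟩ := hker _ hm
        have h3 : m = t • k₀ := by
          apply hinj
          rw [Scheme.Modules.Hom.app_smul, hk₀]
          exact ht
        rw [h3]
        exact Submodule.smul_mem _ _ (Submodule.subset_span ⟨0, rfl⟩))
  have hbK : (fun l => bK l) = fun _ : Fin 1 => k₀ := by
    funext l
    change Module.Basis.mk _ _ l = k₀
    rw [Module.Basis.mk_apply]
  refine ⟨(PP n k).basicOpen f, hyf, k₀, fun z hz => ?_⟩
  apply isGen_of_isBasisAt
  rw [← hbK]
  exact isBasisAt_of_basis_affine (kernel T) hW bK z hz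

end Groth.Agent.Helper26.KerInv
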