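import Mathlib
import Groth.Prelude.Def_CAlg

namespace Groth.Agent.Lib.Helper26.Kollar1

open IsLocalRing

universe u

/-- The conclusion of the tetrachotomy statement. -/
def Concl (R : Type u) [CommRing R] [IsLocalRing R] : Prop :=
  ∃ (R' : Type u) (_ : CommRing R') (_ : Algebra R R'), Nontrivial R' ∧ Module.Finite R R' ∧
      ¬ Function.Bijective (algebraMap R R') ∧
      (∃ n : ℕ, (∀ x : R, algebraMap R R' x = 0 → ∀ a ∈ IsLocalRing.maximalIdeal R ^ n, a * x = 0) ∧
        (∀ y : R', ∀ a ∈ IsLocalRing.maximalIdeal R ^ n, a • y ∈ Set.range (algebraMap R R'))) ∧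
      IsLocalRing.maximalIdeal R ∉ associatedPrimes R R'

variable {R : Type u} [CommRing R] [IsLocalRing R]

/-- The ideal of `𝔪`-power torsion elements. -/
def tors (R : Type u) [CommRing R] [IsLocalRing R] : Ideal R where
  carrier := {r | ∃ n : ℕ, ∀ a ∈ maximalIdeal R ^ n, a * r = 0}
  zero_mem' := ⟨0, fun a _ => mul_zero a⟩
  add_mem' := by
    rintro r s ⟨n, hn⟩ ⟨m, hm⟩
    refine ⟨max n m, fun a ha => ?_⟩
    rw [mul_add, hn a (Ideal.pow_le_pow_right (le_max_left n m) ha),
      hm a (Ideal.pow_le_pow_right (le_max_right n m) ha), add_zero]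
  smul_mem' := by
    rintro c r ⟨n, hn⟩
    exact ⟨n, fun a ha => by rw [smul_eq_mul, mul_left_comm, hn a ha, mul_zero]⟩

theorem mem_tors {r : R} : r ∈ tors R ↔ ∃ n : ℕ, ∀ a ∈ maximalIdeal R ^ n, a * r = 0 := Iff.rfl

variable [IsNoetherianRing R]

theorem exists_uniform : ∃ N : ℕ, ∀ r ∈ tors R, ∀ a ∈ maximalIdeal R ^ N, a * r = 0 := by
  classical
  obtain ⟨T, hT⟩ := (isNoetherianRing_iff_ideal_fg R).mp inferInstance (tors R)
  have hT' : ∀ t ∈ T, ∃ n : ℕ, ∀ a ∈ maximalIdeal R ^ n, a * t = 0 := fun t ht => by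
    have : t ∈ tors R := hT ▸ Ideal.subset_span ht
    exact this
  choose! n hn using hT'
  refine ⟨T.sup n, fun r hr a ha => ?_⟩
  rw [← hT] at hr
  induction hr using Submodule.span_induction with
  | mem t ht => exact hn t ht a (Ideal.pow_le_pow_right (Finset.le_sup ht) ha)
  | zero => exact mul_zero a
  | add y z _ _ iy iz => rw [mul_add, iy, iz, add_zero]
  | smul c y _ iy => rw [smul_eq_mul, mul_left_comm, iy, mul_zero]

theorem mem_tors_of_mul_mem {y : R} (h : ∀ m ∈ maximalIdeal R, m * y ∈ tors R) : y ∈ tors R := by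
  obtain ⟨N, hN⟩ := exists_uniform (R := R)
  refine ⟨N + 1, fun b hb => ?_⟩
  rw [pow_succ] at hb
  refine Submodule.mul_induction_on hb ?_ ?_
  · intro a ha m hm
    rw [mul_assoc]; exact hN _ (h m hm) a ha
  · intro c d ic id
    rw [add_mul, ic, id, add_zero]

theorem caseA (h1 : ¬ IsArtinianRing R) (hI : tors R ≠ ⊥) : Concl R := by
  obtain ⟨N, hN⟩ := exists_uniform (R := R)
  have hne : tors R ≠ ⊤ := by
    intro htop
    have h1' : (1 : R) ∈ tors R := htop ▸ Submodule.mem_top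
    obtain ⟨n, hn⟩ := h1'
    apply h1
    rw [isArtinianRing_iff_isNilpotent_maximalIdeal]
    refine ⟨n, ?_⟩
    rw [Ideal.zero_eq_bot, eq_bot_iff]
    intro a ha
    have := hn a ha
    rw [mul_one] at this
    exact this
  refine ⟨R ⧸ tors R, inferInstance, inferInstance, Ideal.Quotient.nontrivial_iff.mpr hne,
    inferInstance, ?_, ⟨N, ?_, ?_⟩, ?_⟩
  · intro hb
    apply hI
    rw [eq_bot_iff]
    intro r hr
    have : algebraMap R (R ⧸ tors R) r = algebraMap R (R ⧸ tors R) 0 := by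
      rw [map_zero, Ideal.Quotient.algebraMap_eq, Ideal.Quotient.eq_zero_iff_mem]; exact hr
    exact hb.1 this
  · intro x hx a ha
    rw [Ideal.Quotient.algebraMap_eq, Ideal.Quotient.eq_zero_iff_mem] at hx
    exact hN x hx a ha
  · intro y a _
    obtain ⟨r, rfl⟩ := Ideal.Quotient.mk_surjective y
    exact ⟨a * r, by rw [Ideal.Quotient.algebraMap_eq, map_mul]; rfl⟩
  · intro h
    rw [AssociatedPrimes.mem_iff, isAssociatedPrime_iff] at h
    obtain ⟨_, ybar, hy⟩ := h
    obtain ⟨y, rfl⟩ := Ideal.Quotient.mk_surjective ybar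
    have hmy : ∀ m ∈ maximalIdeal R, m * y ∈ tors R := by
      intro m hm
      rw [hy, Submodule.mem_colon_singleton, Submodule.mem_bot] at hm
      rw [← Ideal.Quotient.eq_zero_iff_mem, map_mul]
      exact hm
    have hyt : y ∈ tors R := mem_tors_of_mul_mem hmy
    have h0 : (Ideal.Quotient.mk (tors R)) y = 0 := Ideal.Quotient.eq_zero_iff_mem.mpr hyt
    have h1m : (1 : R) ∈ maximalIdeal R := by
      rw [hy, Submodule.mem_colon_singleton, h0, smul_zero]
      exact Submodule.zero_mem _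
    exact (Ideal.ne_top_iff_one _).mp (IsLocalRing.maximalIdeal.isMaximal R).ne_top h1m

end Groth.Agent.Lib.Helper26.Kollar1
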