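import Mathlib
import Groth.Prelude.Def_CAlg
import Groth.Agent.Lib.Helper26.Kollar1

namespace Groth.Agent.Lib.Helper26.Kollar2

open IsLocalRing Groth.Agent.Lib.Helper26.Kollar1

universe u

variable {R : Type u} [CommRing R] [IsLocalRing R] [IsNoetherianRing R]

theorem mem_ass_of_forall_zeroDivisor (M : Type*) [AddCommGroup M] [Module R M] [Module.Finite R M]
    (h : ∀ m ∈ maximalIdeal R, ∃ y : M, y ≠ 0 ∧ m • y = 0) :
    maximalIdeal R ∈ associatedPrimes R M := by
  classical
  have hsub : ((maximalIdeal R : Ideal R) : Set R) ⊆ ⋃ p ∈ associatedPrimes R M, (p : Set R) := by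
    rw [biUnion_associatedPrimes_eq_zero_divisors]
    intro m hm
    exact h m hm
  have hfin := associatedPrimes.finite R M
  have hsub' : ((maximalIdeal R : Ideal R) : Set R) ⊆
      ⋃ p ∈ (↑hfin.toFinset : Set (Ideal R)), ((id p : Ideal R) : Set R) := by
    rw [Set.Finite.coe_toFinset]; exact hsub
  rw [Ideal.subset_union_prime (⊥ : Ideal R) ⊥] at hsub'
  · obtain ⟨p, hp, hle⟩ := hsub'
    rw [Set.Finite.mem_toFinset] at hp
    have hpp : p.IsPrime := hp.isPrime
    have : maximalIdeal R = p :=
      (IsLocalRing.maximalIdeal.isMaximal R).eq_of_le hpp.ne_top hle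
    rw [this]; exact hp
  · intro p hp _ _
    rw [Set.Finite.mem_toFinset] at hp
    exact hp.isPrime

theorem exists_regular (M : Type*) [AddCommGroup M] [Module R M] [Module.Finite R M]
    (h : maximalIdeal R ∉ associatedPrimes R M) :
    ∃ x ∈ maximalIdeal R, IsSMulRegular M x := by
  by_contra hcon
  push Not at hcon
  apply h
  refine mem_ass_of_forall_zeroDivisor M ?_
  intro m hm
  have := hcon m hm
  rw [isSMulRegular_iff_right_eq_zero_of_smul] at this
  push Not at this
  obtain ⟨y, hy, hy0⟩ := this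
  exact ⟨y, hy0, hy⟩

theorem mem_ass_quot_of_depth_le_one (h3 : LocCoh.depth R R ≤ 1) {x : R} (hx : x ∈ maximalIdeal R)
    (hreg : IsSMulRegular R x) : maximalIdeal R ∈ associatedPrimes R (QuotSMulTop x R) := by
  by_contra h
  obtain ⟨y, hy, hyreg⟩ := exists_regular (QuotSMulTop x R) h
  have hw : RingTheory.Sequence.IsWeaklyRegular R [x, y] := by
    rw [RingTheory.Sequence.isWeaklyRegular_cons_iff]
    refine ⟨hreg, ?_⟩
    rw [RingTheory.Sequence.isWeaklyRegular_cons_iff]
    exact ⟨hyreg, RingTheory.Sequence.IsWeaklyRegular.nil _ _⟩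
  have h2 : (2 : ℕ∞) ≤ LocCoh.depth R R := by
    unfold LocCoh.depth LocCoh.idealDepth
    split_ifs with htop
    · exact le_top
    · have hmem : ∀ r ∈ [x, y], r ∈ maximalIdeal R := by
        intro r hr
        simp only [List.mem_cons, List.not_mem_nil, or_false] at hr
        rcases hr with rfl | rfl
        · exact hx
        · exact hy
      have := le_iSup₂ (f := fun (rs : List R)
        (_ : RingTheory.Sequence.IsWeaklyRegular R rs ∧ ∀ r ∈ rs, r ∈ maximalIdeal R) =>
          (rs.length : ℕ∞)) [x, y] ⟨hw, hmem⟩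
      simpa using this
  have : (2 : ℕ∞) ≤ 1 := h2.trans h3
  exact absurd this (by decide)

end Groth.Agent.Lib.Helper26.Kollar2
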