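import Mathlib
import Groth.Prelude.Def_CAlg
import Groth.Agent.Lib.Helper26.Kollar2

namespace Groth.Agent.Lib.Helper26.Kollar3

open IsLocalRing Groth.Agent.Lib.Helper26.Kollar1 Groth.Agent.Lib.Helper26.Kollar2

universe u

variable {R : Type u} [CommRing R] [IsLocalRing R] [IsNoetherianRing R]

/-- The multiplier ring of the maximal ideal inside the total ring of fractions. -/
def mult (R : Type u) [CommRing R] [IsLocalRing R] : Subalgebra R (FractionRing R) where
  carrier := {w | ∀ m ∈ maximalIdeal R, ∃ r ∈ maximalIdeal R,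
    w * algebraMap R (FractionRing R) m = algebraMap R (FractionRing R) r}
  mul_mem' := by
    intro w w' hw hw' m hm
    obtain ⟨r, hr, e⟩ := hw' m hm
    obtain ⟨r', hr', e'⟩ := hw r hr
    exact ⟨r', hr', by rw [mul_assoc, e, e']⟩
  one_mem' := fun m hm => ⟨m, hm, one_mul _⟩
  add_mem' := by
    intro w w' hw hw' m hm
    obtain ⟨r, hr, e⟩ := hw m hm
    obtain ⟨r', hr', e'⟩ := hw' m hm
    exact ⟨r + r', add_mem hr hr', by rw [add_mul, e, e', map_add]⟩
  zero_mem' := fun m _ => ⟨0, zero_mem _, by rw [zero_mul, map_zero]⟩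
  algebraMap_mem' := fun c m hm => ⟨c * m, Ideal.mul_mem_left _ c hm, by rw [map_mul]⟩

theorem mem_mult {w : FractionRing R} : w ∈ mult R ↔ ∀ m ∈ maximalIdeal R,
    ∃ r ∈ maximalIdeal R, w * algebraMap R (FractionRing R) m = algebraMap R (FractionRing R) r :=
  Iff.rfl

theorem finite_mult {x : R} (hx : x ∈ maximalIdeal R) (hreg : x ∈ nonZeroDivisors R) :
    Module.Finite R (mult R) := by
  have hu : IsUnit (algebraMap R (FractionRing R) x) :=
    IsLocalization.map_units (FractionRing R) (⟨x, hreg⟩ : nonZeroDivisors R)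
  let g : mult R →ₗ[R] FractionRing R :=
    (LinearMap.mulRight R (algebraMap R (FractionRing R) x)).comp (mult R).val.toLinearMap
  have hg : ∀ w, g w ∈ LinearMap.range (Algebra.linearMap R (FractionRing R)) := by
    intro w
    obtain ⟨r, _, e⟩ := w.2 x hx
    exact ⟨r, e.symm⟩
  let g' := g.codRestrict _ hg
  have hinj : Function.Injective g' := by
    intro w w' h
    have h' : g w = g w' := congrArg Subtype.val h
    exact Subtype.ext (hu.mul_left_injective h')
  have : IsNoetherian R (LinearMap.range (Algebra.linearMap R (FractionRing R))) :=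
    isNoetherian_of_surjective (Algebra.linearMap R (FractionRing R)).rangeRestrict
      (LinearMap.range_rangeRestrict _)
  exact Module.Finite.of_injective g' hinj

theorem colon_zero_eq_top (M : Type*) [AddCommGroup M] [Module R M] :
    Submodule.colon (⊥ : Submodule R M) {(0 : M)} = ⊤ := by
  rw [eq_top_iff]
  intro r _
  rw [Submodule.mem_colon_singleton, smul_zero]
  exact Submodule.zero_mem _

theorem not_colon_zero (M : Type*) [AddCommGroup M] [Module R M] :
    maximalIdeal R ≠ Submodule.colon (⊥ : Submodule R M) {(0 : M)} := by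
  rw [colon_zero_eq_top]
  exact (IsLocalRing.maximalIdeal.isMaximal R).ne_top

theorem caseB_mult {x y : R} (hx : x ∈ maximalIdeal R) (hreg : x ∈ nonZeroDivisors R)
    (hy1 : ∀ m ∈ maximalIdeal R, ∃ r, m * y = x * r) (hy2 : ¬ ∃ r, y = x * r)
    (hJ : ∀ m ∈ maximalIdeal R, ∀ r, m * y = x * r → r ∈ maximalIdeal R) : Concl R := by
  have hu : IsUnit (algebraMap R (FractionRing R) x) :=
    IsLocalization.map_units (FractionRing R) (⟨x, hreg⟩ : nonZeroDivisors R)
  have hinj : Function.Injective (algebraMap R (FractionRing R)) :=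
    IsFractionRing.injective R (FractionRing R)
  obtain ⟨ux, hux⟩ := hu
  have hz : algebraMap R (FractionRing R) y * ↑ux⁻¹ ∈ mult R := by
    intro m hm
    obtain ⟨r, hr⟩ := hy1 m hm
    refine ⟨r, hJ m hm r hr, ?_⟩
    have e : algebraMap R (FractionRing R) m * algebraMap R (FractionRing R) y =
        (ux : FractionRing R) * algebraMap R (FractionRing R) r := by
      rw [hux, ← map_mul, ← map_mul, hr]
    calc algebraMap R (FractionRing R) y * ↑ux⁻¹ * algebraMap R (FractionRing R) m
        = ↑ux⁻¹ * (algebraMap R (FractionRing R) m * algebraMap R (FractionRing R) y) := by ring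
      _ = algebraMap R (FractionRing R) r := by rw [e, Units.inv_mul_cancel_left]
  refine ⟨mult R, inferInstance, inferInstance, inferInstance, finite_mult hx hreg, ?_,
    ⟨1, ?_, ?_⟩, ?_⟩
  · intro hb
    obtain ⟨c, hc⟩ := hb.2 ⟨_, hz⟩
    have hc' : algebraMap R (FractionRing R) c = algebraMap R (FractionRing R) y * ↑ux⁻¹ :=
      congrArg Subtype.val hc
    apply hy2
    refine ⟨c, hinj ?_⟩
    rw [map_mul, hc', ← hux]
    calc algebraMap R (FractionRing R) y
        = (ux : FractionRing R) * (↑ux⁻¹ * algebraMap R (FractionRing R) y) := by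
          rw [Units.mul_inv_cancel_left]
      _ = _ := by ring
  · intro r hr a _
    have hr' : algebraMap R (FractionRing R) r = 0 := congrArg Subtype.val hr
    have : r = 0 := hinj (by rw [hr', map_zero])
    rw [this, mul_zero]
  · intro w a ha
    rw [pow_one] at ha
    obtain ⟨r, _, e⟩ := w.2 a ha
    refine ⟨r, Subtype.ext ?_⟩
    change algebraMap R (FractionRing R) r = a • (w : FractionRing R)
    rw [Algebra.smul_def, mul_comm, e]
  · intro h
    rw [AssociatedPrimes.mem_iff, isAssociatedPrime_iff] at h
    obtain ⟨_, w, hw⟩ := h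
    have hxw : x ∈ Submodule.colon (⊥ : Submodule R (mult R)) {w} := hw ▸ hx
    rw [Submodule.mem_colon_singleton, Submodule.mem_bot] at hxw
    have hxw' : algebraMap R (FractionRing R) x * (w : FractionRing R) = 0 := by
      have := congrArg Subtype.val hxw
      rwa [Subalgebra.coe_smul, Algebra.smul_def] at this
    have hw0 : (w : FractionRing R) = 0 := by
      rw [← hux] at hxw'
      exact (Units.mul_right_eq_zero ux).mp hxw'
    have : w = 0 := Subtype.ext hw0
    rw [this] at hw
    exact not_colon_zero (mult R) hw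

end Groth.Agent.Lib.Helper26.Kollar3
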