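import Mathlib
import Groth.Prelude.Def_CAlg
import Groth.Agent.Lib.Helper26.Kollar3

namespace Groth.Agent.Lib.Helper26.Kollar4

open IsLocalRing Groth.Agent.Lib.Helper26.Kollar1 Groth.Agent.Lib.Helper26.Kollar2
  Groth.Agent.Lib.Helper26.Kollar3

universe u

variable {R : Type u} [CommRing R] [IsLocalRing R] [IsNoetherianRing R]

theorem regular_dim_one_of_principal (h1 : ¬ IsArtinianRing R) {t : R}
    (ht : maximalIdeal R = Ideal.span {t}) : IsRegularLocalRing R ∧ ringKrullDim R = 1 := by
  have hspan : (maximalIdeal R).spanFinrank ≤ 1 := by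
    rw [ht]
    have := Submodule.spanFinrank_span_le_ncard_of_finite (R := R) (Set.finite_singleton t)
    rwa [Set.ncard_singleton] at this
  have hle : ringKrullDim R ≤ 1 := by
    refine (ringKrullDim_le_spanFinrank_maximalIdeal R).trans ?_
    exact_mod_cast hspan
  have hnot : ¬ ringKrullDim R ≤ 0 := by
    intro h0
    apply h1
    rw [isArtinianRing_iff_krullDimLE_zero]
    exact (Ring.krullDimLE_iff).mpr h0
  have hdim : ringKrullDim R = 1 := by
    refine le_antisymm hle ?_
    by_contra hlt
    apply hnot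
    have hbot : ringKrullDim R ≠ ⊥ := ringKrullDim_ne_bot
    obtain ⟨d, hd⟩ := WithBot.ne_bot_iff_exists.mp hbot
    rw [← hd] at hlt hle ⊢
    have hle' : d ≤ 1 := by exact_mod_cast hle
    have hlt' : ¬ (1 : ℕ∞) ≤ d := by
      intro h; apply hlt; exact_mod_cast h
    have : d = 0 := by
      rw [not_le] at hlt'
      exact Order.lt_one_iff.mp hlt'
    rw [this]; rfl
  refine ⟨IsRegularLocalRing.of_spanFinrank_maximalIdeal_le R ?_, hdim⟩
  rw [hdim]
  exact_mod_cast hspan

theorem main (h1 : ¬ IsArtinianRing R) (h2 : ¬ (IsRegularLocalRing R ∧ ringKrullDim R = 1))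
    (h3 : LocCoh.depth R R ≤ 1) : Concl R := by
  by_cases hI : tors R = ⊥
  swap
  · exact caseA h1 hI
  -- the maximal ideal is not associated to `R`
  have hass : maximalIdeal R ∉ associatedPrimes R R := by
    intro h
    rw [AssociatedPrimes.mem_iff, isAssociatedPrime_iff] at h
    obtain ⟨_, r, hr⟩ := h
    have hrt : r ∈ tors R := by
      refine ⟨1, fun a ha => ?_⟩
      rw [pow_one, hr, Submodule.mem_colon_singleton, Submodule.mem_bot] at ha
      exact ha
    rw [hI, Ideal.mem_bot] at hrt
    rw [hrt] at hr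
    exact not_colon_zero R hr
  obtain ⟨x, hx, hreg⟩ := exists_regular R hass
  have hxnz : x ∈ nonZeroDivisors R := by
    rw [mem_nonZeroDivisors_iff_right]
    intro c hc
    rw [isSMulRegular_iff_right_eq_zero_of_smul] at hreg
    exact hreg c (by rw [smul_eq_mul, mul_comm]; exact hc)
  have hq := mem_ass_quot_of_depth_le_one h3 hx hreg
  rw [AssociatedPrimes.mem_iff, isAssociatedPrime_iff] at hq
  obtain ⟨_, qbar, hq⟩ := hq
  obtain ⟨y, rfl⟩ := Submodule.Quotient.mk_surjective _ qbar
  have hy1 : ∀ m ∈ maximalIdeal R, ∃ r, m * y = x * r := by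
    intro m hm
    rw [hq, Submodule.mem_colon_singleton, Submodule.mem_bot, ← Submodule.Quotient.mk_smul,
      Submodule.Quotient.mk_eq_zero, Submodule.mem_smul_pointwise_iff_exists] at hm
    obtain ⟨r, _, hr⟩ := hm
    exact ⟨r, by rw [← smul_eq_mul, ← smul_eq_mul (a := x), hr]⟩
  have hy2 : ¬ ∃ r, y = x * r := by
    rintro ⟨r, hr⟩
    have h0 : (Submodule.Quotient.mk y : QuotSMulTop x R) = 0 := by
      rw [Submodule.Quotient.mk_eq_zero, Submodule.mem_smul_pointwise_iff_exists]
      exact ⟨r, Submodule.mem_top, by rw [smul_eq_mul, hr]⟩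
    rw [h0] at hq
    exact not_colon_zero (QuotSMulTop x R) hq
  by_cases hJ : ∀ m ∈ maximalIdeal R, ∀ r, m * y = x * r → r ∈ maximalIdeal R
  · exact caseB_mult hx hxnz hy1 hy2 hJ
  · exfalso
    push Not at hJ
    obtain ⟨m, hm, r, hr, hrm⟩ := hJ
    have hru : IsUnit r := by
      by_contra hnu
      exact hrm ((IsLocalRing.mem_maximalIdeal r).mpr hnu)
    obtain ⟨ur, rfl⟩ := hru
    set t : R := m * ↑ur⁻¹ with ht
    have htm : t ∈ maximalIdeal R := Ideal.mul_mem_right _ _ hm
    have hty : t * y = x := by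
      rw [ht, mul_right_comm, hr, mul_assoc, Units.mul_inv, mul_one]
    have hyreg : ∀ c, y * c = 0 → c = 0 := by
      intro c hc
      rw [isSMulRegular_iff_right_eq_zero_of_smul] at hreg
      refine hreg c ?_
      rw [smul_eq_mul, ← hty, mul_assoc, hc, mul_zero]
    apply h2
    refine regular_dim_one_of_principal h1 (t := t) ?_
    apply le_antisymm
    · intro m' hm'
      obtain ⟨r', hr'⟩ := hy1 m' hm'
      have : y * (m' - t * r') = 0 := by
        rw [mul_sub, mul_comm y m', hr', ← hty]; ring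
      have := hyreg _ this
      rw [sub_eq_zero] at this
      rw [this]
      exact Ideal.mul_mem_right _ _ (Ideal.mem_span_singleton_self t)
    · rw [Ideal.span_le, Set.singleton_subset_iff]
      exact htm

end Groth.Agent.Lib.Helper26.Kollar4
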