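import Mathlib
import Groth.Agent.Lib.Helper26.KosB

set_option autoImplicit false
set_option linter.unusedSectionVars false
set_option linter.style.haveILetI false
set_option linter.unusedVariables false
universe u
open CategoryTheory CategoryTheory.Limits AlgebraicGeometry Opposite TopologicalSpace

namespace Groth.Agent.Helper26.Kos

section Plain
variable {X : Scheme.{u}} {ι : Type} (L : ℤ → X.Modules) (x : ι → ∀ a : ℤ, L a ⟶ L (a + 1))
  (hx : ∀ (i j : ι) (a : ℤ), x i a ≫ x j (a + 1) = x j a ≫ x i (a + 1))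
  (hloc : ∀ p : X, ∃ (i : ι) (U : X.Opens), p ∈ U ∧
    ∀ a : ℤ, IsIso ((Scheme.Modules.restrictFunctor U.ι).map (x i a)))
  (l : List ι) (hl : ∀ i, i ∈ l)

include hx hloc hl in
/-- the Koszul complex of the twisting sheaves, in cohomological degrees `0, …, N`. -/
theorem exists_koszul_complex (a : ℤ) :
    ∃ C : CochainComplex X.Modules ℤ, (∀ i : ℤ, C.ExactAt i) ∧
      (∀ i : ℕ, i ≤ l.length →
        Nonempty (C.X (i : ℤ) ≅ ∐ fun _ : Fin (Nat.choose l.length i) => L (a + i))) ∧
      (∀ i : ℤ, i < 0 ∨ (l.length : ℤ) < i → IsZero (C.X i)) := by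
  let K := ((plainSys L x hx).kos l).K a
  refine ⟨K⟦-(l.length : ℤ)⟧, fun i => ?_, fun i hi => ?_, fun i hi => ?_⟩
  · rw [HomologicalComplex.exactAt_iff_isZero_homology]
    have e := (CochainComplex.ShiftSequence.shiftIso X.Modules (-(l.length : ℤ)) i
      (-(l.length : ℤ) + i) rfl).app K
    refine IsZero.of_iso ?_ e
    exact (exactAt_plain L x hx hloc l hl a _).isZero_homology
  · have h := isCopies_kos_X L x hx l a ((i : ℤ) + -(l.length : ℤ)) (l.length - i) (a + i)
      (by push_cast [Nat.cast_sub hi]; ring) (by push_cast [Nat.cast_sub hi]; ring)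
    rw [Nat.choose_symm hi] at h
    exact h
  · change IsZero (K.X (i + -(l.length : ℤ)))
    rcases hi with hi | hi
    · have h := isCopies_kos_X L x hx l a (i + -(l.length : ℤ)) (-(i + -(l.length : ℤ))).toNat
        (a + l.length - ((-(i + -(l.length : ℤ))).toNat : ℤ)) (by omega) rfl
      rw [Nat.choose_eq_zero_of_lt (by omega)] at h
      exact h.isZero
    · exact isZero_kos_X_pos L x hx l a _ (by omega)

end Plain

end Groth.Agent.Helper26.Kos
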