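import Mathlib
import Groth.Agent.Lib.Helper26.KosPlain
import Groth.Agent.Lib.Helper26.KosPn

set_option autoImplicit false
set_option linter.unusedSectionVars false
set_option linter.style.haveILetI false
set_option linter.unusedVariables false
universe u
open CategoryTheory CategoryTheory.Limits AlgebraicGeometry Opposite TopologicalSpace

namespace Groth.Agent.Helper26.Kos

theorem main1071 (n : ℕ) (A : Type u) [CommRing A] (a : ℤ) :
    ∃ C : CochainComplex (CohB1.ProjSpace n A).Modules ℤ, (∀ i : ℤ, C.ExactAt i) ∧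
      (∀ i : ℕ, i ≤ n + 1 → Nonempty (C.X (i : ℤ) ≅
        ∐ fun _ : Fin (Nat.choose (n + 1) i) => Twist.twistProjSpace n A (a + i))) ∧
      (∀ i : ℤ, i < 0 ∨ (n : ℤ) + 1 < i → IsZero (C.X i)) := by
  obtain ⟨C, h1, h2, h3⟩ := exists_koszul_complex (fun a => Twist.twistProjSpace n A a)
    (xmul n A) (xmul_comm n A) (hloc n A) (List.finRange (n + 1)) List.mem_finRange a
  rw [List.length_finRange] at h2 h3
  refine ⟨C, h1, h2, fun i hi => h3 i ?_⟩
  push_cast at hi ⊢
  exact hi

end Groth.Agent.Helper26.Kos
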