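import Mathlib
import Groth.Prelude.Def_W4c1nerontoraddGraph

set_option autoImplicit false
set_option linter.unusedSectionVars false
universe u v

namespace Groth.Agent.Helper26.LabCirc

open LabGraph

variable {V E : Type u} [Fintype V] [Fintype E] [DecidableEq V] [DecidableEq E]

/-- weight of an edge at a vertex -/
def wt (ends : E → V × V) (e : E) (x : V) : ℕ :=
  (if (ends e).1 = x then 1 else 0) + (if (ends e).2 = x then 1 else 0)

theorem endCount_eq (ends : E → V × V) (C : Finset E) (x : V) :
    endCount ends C x = ∑ e ∈ C, wt ends e x := rfl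

/-- parity of the number of edge-ends -/
def par (ends : E → V × V) (C : Finset E) (x : V) : ZMod 2 := (endCount ends C x : ZMod 2)

theorem par_eq_zero_iff (ends : E → V × V) (C : Finset E) (x : V) :
    par ends C x = 0 ↔ Even (endCount ends C x) :=
  ZMod.natCast_eq_zero_iff_even

theorem par_empty (ends : E → V × V) (x : V) : par ends ∅ x = 0 := by
  simp [par, endCount_eq]

theorem par_insert (ends : E → V × V) {C : Finset E} {e : E} (h : e ∉ C) (x : V) :
    par ends (insert e C) x = (wt ends e x : ZMod 2) + par ends C x := by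
  simp only [par, endCount_eq]
  rw [Finset.sum_insert h]; push_cast; rfl

theorem two_eq_zero' (a : ZMod 2) : a + a = 0 := by
  have : (2 : ZMod 2) = 0 := by decide
  rw [← two_mul, this, zero_mul]

theorem par_erase (ends : E → V × V) {C : Finset E} {e : E} (h : e ∈ C) (x : V) :
    par ends (C.erase e) x = (wt ends e x : ZMod 2) + par ends C x := by
  have h1 := par_insert ends (Finset.notMem_erase e C) x
  rw [Finset.insert_erase h] at h1
  rw [h1, ← add_assoc, two_eq_zero', zero_add]

theorem par_sdiff (ends : E → V × V) {C D : Finset E} (h : C ⊆ D) (x : V) :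
    par ends (D \ C) x = par ends D x + par ends C x := by
  have h1 : endCount ends (D \ C) x + endCount ends C x = endCount ends D x := by
    simp only [endCount_eq]
    exact Finset.sum_sdiff h
  have h2 : par ends (D \ C) x + par ends C x = par ends D x := by
    simp only [par]; rw [← h1]; push_cast; rfl
  rw [← h2, add_assoc, two_eq_zero', add_zero]

theorem par_singleton (ends : E → V × V) (e : E) (x : V) :
    par ends {e} x = (wt ends e x : ZMod 2) := by
  simp [par, endCount_eq]

/-- an even edge set -/
def IsEven (ends : E → V × V) (C : Finset E) : Prop := ∀ x, par ends C x = 0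

theorem isCircuit_iff (ends : E → V × V) (C : Finset E) :
    IsCircuit ends C ↔ C.Nonempty ∧ IsEven ends C ∧
      ∀ C' : Finset E, C' ⊂ C → C'.Nonempty → ¬ IsEven ends C' := by
  unfold IsCircuit IsEven
  simp only [par_eq_zero_iff, not_forall]

/-- every edge of a nonempty even set lies on a circuit contained in it -/
theorem exists_circuit (ends : E → V × V) :
    ∀ (n : ℕ) (D : Finset E), D.card = n → IsEven ends D → ∀ e ∈ D,
      ∃ C ⊆ D, IsCircuit ends C ∧ e ∈ C := by
  intro n
  induction n using Nat.strong_induction_on with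
  | _ n ih =>
    intro D hn hD e he
    by_cases hmin : ∀ C' : Finset E, C' ⊂ D → C'.Nonempty → ¬ IsEven ends C'
    · exact ⟨D, Finset.Subset.refl D, (isCircuit_iff ends D).2 ⟨⟨e, he⟩, hD, hmin⟩, he⟩
    · push Not at hmin
      obtain ⟨C', hC'D, hC'ne, hC'ev⟩ := hmin
      have hlt1 : C'.card < n := hn ▸ Finset.card_lt_card hC'D
      have hsd : IsEven ends (D \ C') := by
        intro x
        rw [par_sdiff ends hC'D.subset, hD x, hC'ev x, add_zero]
      have hlt2 : (D \ C').card < n := by
        rw [← hn]
        apply Finset.card_lt_card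
        refine ⟨Finset.sdiff_subset, fun h => ?_⟩
        obtain ⟨c, hc⟩ := hC'ne
        have := h (hC'D.subset hc)
        exact (Finset.mem_sdiff.1 this).2 hc
      by_cases heC : e ∈ C'
      · obtain ⟨C, hCC', hC, heC⟩ := ih _ hlt1 C' rfl hC'ev e heC
        exact ⟨C, hCC'.trans hC'D.subset, hC, heC⟩
      · obtain ⟨C, hCC', hC, heC⟩ := ih _ hlt2 (D \ C') rfl hsd e (Finset.mem_sdiff.2 ⟨he, heC⟩)
        exact ⟨C, hCC'.trans Finset.sdiff_subset, hC, heC⟩

end Groth.Agent.Helper26.LabCirc
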