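import Mathlib
import Groth.Prelude.Def_W4c1nerontoraddGraph
import Groth.Agent.Lib.Helper26.LabCirc1

set_option autoImplicit false
set_option linter.unusedSectionVars false
universe u v

namespace Groth.Agent.Helper26.LabCirc

open LabGraph

variable {V E : Type u} [Fintype V] [Fintype E] [DecidableEq V] [DecidableEq E]

/-- adjacency via an edge of `D` -/
def AdjIn (ends : E → V × V) (D : Finset E) (a b : V) : Prop :=
  ∃ e ∈ D, ends e = (a, b) ∨ ends e = (b, a)

/-- connectedness inside the edge set `D` -/
def Conn (ends : E → V × V) (D : Finset E) (v w : V) : Prop :=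
  Relation.ReflTransGen (AdjIn ends D) v w

theorem AdjIn.symm {ends : E → V × V} {D : Finset E} {a b : V} (h : AdjIn ends D a b) :
    AdjIn ends D b a := by
  obtain ⟨e, he, h⟩ := h
  exact ⟨e, he, h.symm⟩

theorem Conn.symm {ends : E → V × V} {D : Finset E} {a b : V} (h : Conn ends D a b) :
    Conn ends D b a := by
  induction h with
  | refl => exact Relation.ReflTransGen.refl
  | tail _ hbc ih => exact Relation.ReflTransGen.head hbc.symm ih

theorem Conn.trans {ends : E → V × V} {D : Finset E} {a b c : V} (h : Conn ends D a b)
    (h' : Conn ends D b c) : Conn ends D a c :=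
  Relation.ReflTransGen.trans h h'

theorem Conn.mono {ends : E → V × V} {D D' : Finset E} (hD : D ⊆ D') {a b : V}
    (h : Conn ends D a b) : Conn ends D' a b := by
  induction h with
  | refl => exact Relation.ReflTransGen.refl
  | tail _ hbc ih =>
    obtain ⟨e, he, h⟩ := hbc
    exact Relation.ReflTransGen.tail ih ⟨e, hD he, h⟩

theorem conn_univ_of_connected {ends : E → V × V} (h : Connected ends) (v w : V) :
    Conn ends Finset.univ v w := by
  have h1 := h.2 v w
  induction h1 with
  | refl => exact Relation.ReflTransGen.refl
  | tail _ hbc ih =>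
    obtain ⟨e, h⟩ := hbc
    exact Relation.ReflTransGen.tail ih ⟨e, Finset.mem_univ e, h⟩

/-- indicator in `ZMod 2` -/
def ind (a x : V) : ZMod 2 := if a = x then 1 else 0

theorem wt_cast (ends : E → V × V) (e : E) (x : V) :
    (wt ends e x : ZMod 2) = ind (ends e).1 x + ind (ends e).2 x := by
  unfold wt ind
  push_cast
  rfl

theorem wt_cast_of_adj {ends : E → V × V} {e : E} {a b : V}
    (h : ends e = (a, b) ∨ ends e = (b, a)) (x : V) :
    (wt ends e x : ZMod 2) = ind a x + ind b x := by
  rw [wt_cast]
  rcases h with h | h
  · rw [h]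
  · rw [h, add_comm]

/-- P3: a walk gives an edge set with prescribed odd vertices -/
theorem exists_par_of_conn {ends : E → V × V} {D : Finset E} {v w : V} (h : Conn ends D v w) :
    ∃ D' ⊆ D, ∀ x, par ends D' x = ind v x + ind w x := by
  induction h with
  | refl => exact ⟨∅, Finset.empty_subset _, fun x => by rw [par_empty, two_eq_zero']⟩
  | @tail b c _ hbc ih =>
    obtain ⟨D', hD', hpar⟩ := ih
    obtain ⟨e, he, hends⟩ := hbc
    by_cases heD' : e ∈ D'
    · refine ⟨D'.erase e, (Finset.erase_subset _ _).trans hD', fun x => ?_⟩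
      rw [par_erase ends heD', hpar, wt_cast_of_adj hends]
      have := two_eq_zero' (ind b x)
      linear_combination this
    · refine ⟨insert e D', Finset.insert_subset he hD', fun x => ?_⟩
      rw [par_insert ends heD', hpar, wt_cast_of_adj hends]
      have := two_eq_zero' (ind b x)
      linear_combination this

/-- P4: handshake -/
theorem conn_of_par {ends : E → V × V} {F : Finset E} {v w : V}
    (h : ∀ x, par ends F x = ind v x + ind w x) : Conn ends F v w := by
  classical
  let K : Finset V := Finset.univ.filter (fun x => Conn ends F v x)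
  have hvK : v ∈ K := Finset.mem_filter.2 ⟨Finset.mem_univ _, Relation.ReflTransGen.refl⟩
  by_contra hw
  have hwK : w ∉ K := fun h => hw (Finset.mem_filter.1 h).2
  -- left side
  have h1 : ∑ x ∈ K, par ends F x = 1 := by
    simp_rw [h]
    rw [Finset.sum_add_distrib]
    unfold ind
    rw [Finset.sum_ite_eq, Finset.sum_ite_eq, if_pos hvK, if_neg hwK, add_zero]
  -- right side
  have h2 : ∑ x ∈ K, par ends F x = 0 := by
    have h3 : ∑ x ∈ K, par ends F x = ((∑ e ∈ F, ∑ x ∈ K, wt ends e x : ℕ) : ZMod 2) := by
      unfold par
      simp_rw [endCount_eq]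
      rw [← Nat.cast_sum, Finset.sum_comm]
    rw [h3, ZMod.natCast_eq_zero_iff_even]
    apply Finset.even_sum
    intro e he
    have hK : (ends e).1 ∈ K ↔ (ends e).2 ∈ K := by
      simp only [K, Finset.mem_filter, Finset.mem_univ, true_and]
      constructor
      · intro hc
        exact hc.tail ⟨e, he, Or.inl rfl⟩
      · intro hc
        exact hc.tail ⟨e, he, Or.inr rfl⟩
    unfold wt
    rw [Finset.sum_add_distrib, Finset.sum_ite_eq, Finset.sum_ite_eq]
    by_cases hc : (ends e).1 ∈ K
    · rw [if_pos hc, if_pos (hK.1 hc)]; decide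
    · rw [if_neg hc, if_neg (fun h => hc (hK.2 h))]; decide
  rw [h1] at h2
  exact absurd h2 (by decide)

/-- the key claim: an edge joining two vertices connected in `D` has its ends connected inside
the edges of `D` with the same label, if labels are constant along circuits -/
theorem conn_filter {L : Type v} {ends : E → V × V} (lab : E → L) [DecidableEq L]
    (hcirc : ∀ C : Finset E, IsCircuit ends C → ∀ e ∈ C, ∀ e' ∈ C, lab e = lab e')
    {D : Finset E} {e : E} (heD : e ∉ D) {v w : V} (hends : ends e = (v, w))
    (h : Conn ends D v w) : Conn ends (D.filter (fun e' => lab e' = lab e)) v w := by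
  obtain ⟨D', hD', hpar⟩ := exists_par_of_conn h
  have heD' : e ∉ D' := fun h => heD (hD' h)
  have hev : IsEven ends (insert e D') := by
    intro x
    rw [par_insert ends heD', hpar, wt_cast_of_adj (Or.inl hends)]
    have h1 := two_eq_zero' (ind v x)
    have h2 := two_eq_zero' (ind w x)
    linear_combination h1 + h2
  obtain ⟨C, hCsub, hC, heC⟩ := exists_circuit ends _ (insert e D') rfl hev e
    (Finset.mem_insert_self e D')
  have hCev : IsEven ends C := ((isCircuit_iff ends C).1 hC).2.1
  have hF : ∀ x, par ends (C.erase e) x = ind v x + ind w x := by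
    intro x
    rw [par_erase ends heC, hCev x, add_zero, wt_cast_of_adj (Or.inl hends)]
  have hsub : C.erase e ⊆ D.filter (fun e' => lab e' = lab e) := by
    intro e' he'
    rw [Finset.mem_erase] at he'
    refine Finset.mem_filter.2 ⟨?_, hcirc C hC e' he'.2 e heC⟩
    rcases Finset.mem_insert.1 (hCsub he'.2) with h | h
    · exact absurd h he'.1
    · exact hD' h
  exact (conn_of_par hF).mono hsub

end Groth.Agent.Helper26.LabCirc
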