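import Mathlib
import Groth.Prelude.Def_W4c1nerontoraddGraph
import Groth.Agent.Lib.Helper26.LabCirc1
import Groth.Agent.Lib.Helper26.LabCirc2

set_option autoImplicit false
set_option linter.unusedSectionVars false
universe u v

namespace Groth.Agent.Helper26.LabCirc

open LabGraph

variable {V E : Type u} [Fintype V] [Fintype E] [DecidableEq V] [DecidableEq E]

/-- telescoping -/
theorem eq_of_conn {ends : E → V × V} {F : Finset E} (h : V → ℤ)
    (hF : ∀ e ∈ F, h (ends e).1 = h (ends e).2) {a b : V} (hab : Conn ends F a b) : h a = h b := by
  induction hab with
  | refl => rfl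
  | tail _ hbc ih =>
    obtain ⟨e, he, hends⟩ := hbc
    rw [ih]
    have := hF e he
    rcases hends with hends | hends
    · rw [hends] at this; exact this
    · rw [hends] at this; exact this.symm

theorem exists_potential {L : Type v} [DecidableEq L] (ends : E → V × V) (lab : E → L)
    (hcirc : ∀ C : Finset E, IsCircuit ends C → ∀ e ∈ C, ∀ e' ∈ C, lab e = lab e')
    (f : V → ℤ) (lam : L) :
    ∀ D : Finset E, ∃ g : V → ℤ,
      (∀ e ∈ D, lab e = lam → g (ends e).1 - g (ends e).2 = f (ends e).1 - f (ends e).2) ∧
      (∀ e ∈ D, lab e ≠ lam → g (ends e).1 = g (ends e).2) := by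
  classical
  intro D
  induction D using Finset.induction_on with
  | empty => exact ⟨0, by simp, by simp⟩
  | insert e D heD ih =>
    obtain ⟨g, hg1, hg2⟩ := ih
    obtain ⟨v, w, hends⟩ : ∃ v w, ends e = (v, w) := ⟨_, _, rfl⟩
    by_cases hc : Conn ends D v w
    · -- already fine
      have hc' := conn_filter lab hcirc heD hends hc
      refine ⟨g, ?_, ?_⟩
      · intro e' he' hlab
        rcases Finset.mem_insert.1 he' with rfl | he'
        · rw [hends]
          have := eq_of_conn (fun x => g x - f x) (F := D.filter (fun e'' => lab e'' = lab e')) (by
            intro e'' he''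
            rw [Finset.mem_filter] at he''
            have := hg1 e'' he''.1 (he''.2.trans hlab)
            show g (ends e'').1 - f (ends e'').1 = g (ends e'').2 - f (ends e'').2
            linarith) hc'
          linarith
        · exact hg1 e' he' hlab
      · intro e' he' hlab
        rcases Finset.mem_insert.1 he' with rfl | he'
        · rw [hends]
          exact eq_of_conn g (F := D.filter (fun e'' => lab e'' = lab e')) (by
            intro e'' he''
            rw [Finset.mem_filter] at he''
            exact hg2 e'' he''.1 (fun h => hlab (he''.2.symm.trans h))) hc'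
        · exact hg2 e' he' hlab
    · -- shift on the component of w
      let δ₀ : ℤ := if lab e = lam then f v - f w else 0
      let c : ℤ := (g v - g w) - δ₀
      let g' : V → ℤ := fun x => if Conn ends D w x then g x + c else g x
      have hv : ¬ Conn ends D w v := fun h => hc h.symm
      have hw : Conn ends D w w := Relation.ReflTransGen.refl
      have hg'v : g' v = g v := if_neg hv
      have hg'w : g' w = g w + c := if_pos hw
      have hclosed : ∀ e' ∈ D, (Conn ends D w (ends e').1 ↔ Conn ends D w (ends e').2) := by
        intro e' he'
        constructor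
        · intro h; exact h.tail ⟨e', he', Or.inl rfl⟩
        · intro h; exact h.tail ⟨e', he', Or.inr rfl⟩
      have hdiff : ∀ e' ∈ D, g' (ends e').1 - g' (ends e').2 = g (ends e').1 - g (ends e').2 := by
        intro e' he'
        by_cases h1 : Conn ends D w (ends e').1
        · have h2 := (hclosed e' he').1 h1
          show (if Conn ends D w (ends e').1 then _ else _) - (if Conn ends D w (ends e').2 then _ else _) = _
          rw [if_pos h1, if_pos h2]; ring
        · have h2 : ¬ Conn ends D w (ends e').2 := fun h => h1 ((hclosed e' he').2 h)
          show (if Conn ends D w (ends e').1 then _ else _) - (if Conn ends D w (ends e').2 then _ else _) = _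
          rw [if_neg h1, if_neg h2]
      refine ⟨g', ?_, ?_⟩
      · intro e' he' hlab
        rcases Finset.mem_insert.1 he' with rfl | he'
        · rw [hends]
          show g' v - g' w = f v - f w
          rw [hg'v, hg'w]
          simp only [c, δ₀, if_pos hlab]; ring
        · rw [hdiff e' he']; exact hg1 e' he' hlab
      · intro e' he' hlab
        rcases Finset.mem_insert.1 he' with rfl | he'
        · rw [hends]
          show g' v = g' w
          rw [hg'v, hg'w]
          simp only [c, δ₀, if_neg hlab]; ring
        · have := hdiff e' he'
          have h2 := hg2 e' he' hlab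
          linarith

theorem main {L : Type v} (ends : E → V × V) (lab : E → L) (n : E → ℕ)
    (hconn : Connected ends)
    (hcirc : ∀ C : Finset E, IsCircuit ends C → ∀ e ∈ C, ∀ e' ∈ C, lab e = lab e')
    (f : V → ℤ) (hf : IsCartier ends n f) (v₀ : V) :
    ∃ (T : Finset L) (g : L → V → ℤ),
      (∀ lam ∈ T, IsCartier ends n (g lam) ∧
        (∀ e, lab e ≠ lam → g lam (ends e).1 = g lam (ends e).2) ∧ g lam v₀ = 0) ∧
      ∀ x, f x = f v₀ + ∑ lam ∈ T, g lam x := by
  classical
  choose g₀ hg1 hg2 using fun lam => exists_potential ends lab hcirc f lam Finset.univ
  let g : L → V → ℤ := fun lam x => g₀ lam x - g₀ lam v₀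
  refine ⟨Finset.univ.image lab, g, ?_, ?_⟩
  · intro lam _
    refine ⟨?_, ?_, ?_⟩
    · intro e
      by_cases hlab : lab e = lam
      · have := hg1 lam e (Finset.mem_univ e) hlab
        have h2 : g lam (ends e).1 - g lam (ends e).2 = f (ends e).1 - f (ends e).2 := by
          simp only [g]; linarith
        rw [h2]; exact hf e
      · have := hg2 lam e (Finset.mem_univ e) hlab
        have h2 : g lam (ends e).1 - g lam (ends e).2 = 0 := by
          simp only [g]; linarith
        rw [h2]; exact dvd_zero _
    · intro e hlab
      have := hg2 lam e (Finset.mem_univ e) hlab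
      simp only [g]; linarith
    · simp only [g]; ring
  · intro x
    let h : V → ℤ := fun x => f x - ∑ lam ∈ Finset.univ.image lab, g lam x
    have hh : ∀ e ∈ (Finset.univ : Finset E), h (ends e).1 = h (ends e).2 := by
      intro e _
      have hsum : ∑ lam ∈ Finset.univ.image lab, (g lam (ends e).1 - g lam (ends e).2) =
          f (ends e).1 - f (ends e).2 := by
        rw [Finset.sum_eq_single (lab e)]
        · have := hg1 (lab e) e (Finset.mem_univ e) rfl
          simp only [g]; linarith
        · intro lam _ hne
          have := hg2 lam e (Finset.mem_univ e) (fun h => hne h.symm)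
          simp only [g]; linarith
        · intro hne
          exact absurd (Finset.mem_image_of_mem lab (Finset.mem_univ e)) hne
      rw [Finset.sum_sub_distrib] at hsum
      show f (ends e).1 - _ = f (ends e).2 - _
      linarith
    have := eq_of_conn h hh (conn_univ_of_connected hconn x v₀)
    have h0 : ∑ lam ∈ Finset.univ.image lab, g lam v₀ = 0 := by
      apply Finset.sum_eq_zero
      intro lam _
      simp only [g]; ring
    simp only [h] at this
    rw [h0] at this
    linarith

end Groth.Agent.Helper26.LabCirc
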