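import Groth.Prelude.Def_W4c1nerontoraddGraph
import Mathlib

set_option autoImplicit false
universe u

namespace Groth.Agent.Helper26.LabG

open Finset

variable {V E : Type u} [Fintype V] [Fintype E] [DecidableEq V] [DecidableEq E]

/-- the set of elementary-Cartier functions. -/
def Elem (ends : E → V × V) (l : E → ℕ) : Set (V → ℤ) :=
  {g : V → ℤ | ∃ n : ℕ, 0 < n ∧ (∀ v, (n : ℤ) ∣ g v) ∧
      ∀ e, ¬ (l e ∣ n) → g (ends e).1 = g (ends e).2}

/-- the relation "joined by an edge whose label is divisible by p". -/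
def rel (ends : E → V × V) (l : E → ℕ) (p : ℕ) (v w : V) : Prop :=
  ∃ e : E, p ∣ l e ∧ (ends e = (v, w) ∨ ends e = (w, v))

lemma dvd_sub_of_eqvGen (ends : E → V × V) (l : E → ℕ) (p : ℕ) (f : V → ℤ)
    (hf : LabGraph.IsCartier ends l f) {v w : V} (h : Relation.EqvGen (rel ends l p) v w) :
    (p : ℤ) ∣ f v - f w := by
  induction h with
  | rel a b hab =>
    obtain ⟨e, hpe, he⟩ := hab
    have h1 := hf e
    have h2 : (p : ℤ) ∣ (l e : ℤ) := Int.natCast_dvd_natCast.2 hpe
    rcases he with he | he
    · rw [he] at h1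
      exact h2.trans h1
    · rw [he] at h1
      have := h2.trans h1
      rw [← neg_sub]
      exact (dvd_neg).2 this
  | refl a => simp
  | symm a b _ ih => rw [← neg_sub]; exact (dvd_neg).2 ih
  | trans a b c _ _ ih1 ih2 =>
    have : f a - f c = (f a - f b) + (f b - f c) := by ring
    rw [this]
    exact dvd_add ih1 ih2

end Groth.Agent.Helper26.LabG
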