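import Groth.Prelude.Def_W4c1nerontoraddGraph
import Mathlib
import Groth.Agent.Lib.Helper26.LabG

set_option autoImplicit false
universe u

namespace Groth.Agent.Helper26.LabG

open Finset

variable {V E : Type u} [Fintype V] [Fintype E] [DecidableEq V] [DecidableEq E]

theorem main (ends : E → V × V) :
    ∀ (N : ℕ) (l : E → ℕ), (∀ e, 0 < l e) → ∏ e, l e = N → ∀ f : V → ℤ,
      LabGraph.IsCartier ends l f → f ∈ Submodule.span ℤ (Elem ends l) := by
  intro N
  induction N using Nat.strong_induction_on with
  | _ N ih =>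
  intro l hl hN f hf
  by_cases hone : ∀ e, l e = 1
  · apply Submodule.subset_span
    refine ⟨1, one_pos, fun v => by simp, fun e he => ?_⟩
    exact absurd (by rw [hone e]) he
  · push Not at hone
    obtain ⟨e₀, he₀⟩ := hone
    have h1 : 1 < l e₀ := by have := hl e₀; omega
    set p := (l e₀).minFac with hp_def
    have hp : p.Prime := Nat.minFac_prime (by omega)
    have hpe₀ : p ∣ l e₀ := Nat.minFac_dvd _
    have hpZ : Prime (p : ℤ) := Nat.prime_iff_prime_int.1 hp
    -- new labelling
    let l' : E → ℕ := fun e => if p ∣ l e then l e / p else l e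
    have hl'1 : ∀ e, p ∣ l e → l e = p * l' e := by
      intro e h
      simp only [l', if_pos h]
      exact (Nat.mul_div_cancel' h).symm
    have hl'2 : ∀ e, ¬ p ∣ l e → l' e = l e := by
      intro e h
      simp only [l', if_neg h]
    have hl' : ∀ e, 0 < l' e := by
      intro e
      by_cases h : p ∣ l e
      · have := hl'1 e h
        have h3 := hl e
        rw [this] at h3
        exact Nat.pos_of_mul_pos_left h3
      · rw [hl'2 e h]; exact hl e
    have hl'_le : ∀ e, l' e ≤ l e := by
      intro e
      by_cases h : p ∣ l e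
      · rw [hl'1 e h]; exact Nat.le_mul_of_pos_left _ hp.pos
      · rw [hl'2 e h]
    have hlt : ∏ e, l' e < N := by
      rw [← hN]
      refine Finset.prod_lt_prod (fun e _ => hl' e) (fun e _ => hl'_le e) ⟨e₀, mem_univ _, ?_⟩
      have := hl'1 e₀ hpe₀
      have h3 := hl' e₀
      have h4 := hp.one_lt
      nlinarith
    -- components
    let s : Setoid V := Relation.EqvGen.setoid (rel ends l p)
    let rep : V → V := fun v => (Quotient.mk s v).out
    have hrep1 : ∀ v, Relation.EqvGen (rel ends l p) (rep v) v := by
      intro v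
      have : s.r (rep v) v := Quotient.exact (Quotient.out_eq (Quotient.mk s v))
      exact this
    have hrep2 : ∀ v w, rel ends l p v w → rep v = rep w := by
      intro v w h
      have : Quotient.mk s v = Quotient.mk s w := Quotient.sound (Relation.EqvGen.rel _ _ h)
      simp only [rep, this]
    -- the constant c
    let Q : ℕ := ∏ e ∈ univ.filter (fun e => ¬ p ∣ l e), l e
    have hQpos : 0 < Q := Finset.prod_pos (fun e _ => hl e)
    have hQp : ¬ p ∣ Q := by
      intro h
      rw [hp.prime.dvd_finsetProd_iff] at h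
      obtain ⟨e, he, hpe⟩ := h
      exact (mem_filter.1 he).2 hpe
    have hQdvd : ∀ e, ¬ p ∣ l e → l e ∣ Q := by
      intro e he
      exact Finset.dvd_prod_of_mem _ (mem_filter.2 ⟨mem_univ _, he⟩)
    let c : ℕ := Q ^ (p - 1)
    have hcpos : 0 < c := pow_pos hQpos _
    have hcdvd : ∀ e, ¬ p ∣ l e → l e ∣ c := by
      intro e he
      exact (hQdvd e he).trans (dvd_pow_self _ (by have := hp.two_le; omega))
    have hc1 : (p : ℤ) ∣ 1 - (c : ℤ) := by
      have hcop : IsCoprime (Q : ℤ) (p : ℤ) := by
        rw [Int.isCoprime_iff_gcd_eq_one, Int.gcd_natCast_natCast]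
        exact (Nat.Coprime.symm ((Nat.Prime.coprime_iff_not_dvd hp).2 hQp))
      have := Int.ModEq.pow_card_sub_one_eq_one hp hcop
      have h2 := (Int.modEq_iff_dvd.1 this)
      simpa [c] using h2
    -- g₀
    let g₀ : V → ℤ := fun v => (c : ℤ) * f (rep v)
    have hg₀ : g₀ ∈ Elem ends l := by
      refine ⟨c, hcpos, fun v => Dvd.intro _ rfl, fun e he => ?_⟩
      have hpe : p ∣ l e := by
        by_contra h
        exact he (hcdvd e h)
      have : rep (ends e).1 = rep (ends e).2 := hrep2 _ _ ⟨e, hpe, Or.inl rfl⟩
      simp only [g₀, this]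
    -- divisibility of f - g₀ by p
    have hdiv : ∀ v, (p : ℤ) ∣ f v - g₀ v := by
      intro v
      have h2 : (p : ℤ) ∣ f v - f (rep v) := by
        have := dvd_sub_of_eqvGen ends l p f hf (hrep1 v)
        rw [← neg_sub]
        exact (dvd_neg).2 this
      have : f v - g₀ v = (f v - f (rep v)) + (1 - (c : ℤ)) * f (rep v) := by
        simp only [g₀]; ring
      rw [this]
      exact dvd_add h2 (Dvd.dvd.mul_right hc1 _)
    choose f₁ hf₁ using hdiv
    -- f₁ is l'-Cartier
    have hf₁C : LabGraph.IsCartier ends l' f₁ := by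
      intro e
      have hkey : (p : ℤ) * (f₁ (ends e).1 - f₁ (ends e).2) =
          (f (ends e).1 - f (ends e).2) - (g₀ (ends e).1 - g₀ (ends e).2) := by
        rw [mul_sub, ← hf₁, ← hf₁]; ring
      by_cases hpe : p ∣ l e
      · have hrr : rep (ends e).1 = rep (ends e).2 := hrep2 _ _ ⟨e, hpe, Or.inl rfl⟩
        have hg : g₀ (ends e).1 = g₀ (ends e).2 := by simp only [g₀, hrr]
        rw [hg, sub_self, sub_zero] at hkey
        have h3 := hf e
        rw [← hkey, hl'1 e hpe] at h3
        push_cast at h3
        exact (mul_dvd_mul_iff_left (by exact_mod_cast hp.ne_zero)).1 h3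
      · rw [hl'2 e hpe]
        have h3 : (l e : ℤ) ∣ (p : ℤ) * (f₁ (ends e).1 - f₁ (ends e).2) := by
          rw [hkey]
          apply dvd_sub (hf e)
          have : g₀ (ends e).1 - g₀ (ends e).2 = (c : ℤ) * (f (rep (ends e).1) - f (rep (ends e).2)) := by
            simp only [g₀]; ring
          rw [this]
          exact Dvd.dvd.mul_right (Int.natCast_dvd_natCast.2 (hcdvd e hpe)) _
        have hcop : IsCoprime (l e : ℤ) (p : ℤ) := by
          rw [Int.isCoprime_iff_gcd_eq_one, Int.gcd_natCast_natCast]
          exact (Nat.Coprime.symm ((Nat.Prime.coprime_iff_not_dvd hp).2 hpe))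
        exact hcop.dvd_of_dvd_mul_left h3
    have hf₁span := ih (∏ e, l' e) hlt l' hl' rfl f₁ hf₁C
    -- p • (l'-elementary) is l-elementary
    have hmul : ∀ h ∈ Submodule.span ℤ (Elem ends l'), (p : ℤ) • h ∈ Submodule.span ℤ (Elem ends l) := by
      intro h hh
      induction hh using Submodule.span_induction with
      | mem h hh =>
        apply Submodule.subset_span
        obtain ⟨n, hn, hdv, hconst⟩ := hh
        refine ⟨p * n, Nat.mul_pos hp.pos hn, fun v => ?_, fun e he => ?_⟩
        · simp only [Pi.smul_apply, smul_eq_mul]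
          push_cast
          exact mul_dvd_mul_left _ (hdv v)
        · have hne : ¬ l' e ∣ n := by
            intro hd
            apply he
            by_cases hpe : p ∣ l e
            · rw [hl'1 e hpe]; exact Nat.mul_dvd_mul_left _ hd
            · rw [← hl'2 e hpe]; exact hd.trans (Dvd.intro_left _ rfl)
          simp only [Pi.smul_apply, smul_eq_mul, hconst e hne]
      | zero => rw [smul_zero]; exact Submodule.zero_mem _
      | add a b _ _ ha hb => rw [smul_add]; exact Submodule.add_mem _ ha hb
      | smul r a _ ha => rw [smul_comm]; exact Submodule.smul_mem _ _ ha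
    have hfeq : f = g₀ + (p : ℤ) • f₁ := by
      funext v
      simp only [Pi.add_apply, Pi.smul_apply, smul_eq_mul, ← hf₁ v]
      ring
    rw [hfeq]
    exact Submodule.add_mem _ (Submodule.subset_span hg₀) (hmul f₁ hf₁span)

end Groth.Agent.Helper26.LabG
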