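import Mathlib

set_option autoImplicit false

namespace Groth.Agent.Helper26.LatProj

open PowerSeries

universe u
variable {R : Type u} [CommRing R]

/-- decomposition into the first `M` coefficients and the rest. -/
theorem eq_X_pow_mul_add_sum (M : ℕ) (p : R⟦X⟧) :
    p = X ^ M * (PowerSeries.mk fun i => coeff (i + M) p) +
      ∑ j ∈ Finset.range M, C (coeff j p) * X ^ j := by
  conv_lhs => rw [eq_X_pow_mul_shift_add_trunc M p]
  congr 1
  rw [trunc_apply, ← Polynomial.coeToPowerSeries.ringHom_apply, map_sum, Nat.Ico_zero_eq_range]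
  refine Finset.sum_congr rfl fun j _ => ?_
  rw [Polynomial.coeToPowerSeries.ringHom_apply, Polynomial.coe_monomial,
    monomial_eq_C_mul_X_pow]

theorem coeff_mem_of_mem_map (I : Ideal R) {p : R⟦X⟧}
    (hp : p ∈ Ideal.map (C : R →+* R⟦X⟧) I) (k : ℕ) : coeff k p ∈ I := by
  unfold Ideal.map at hp
  induction hp using Submodule.span_induction generalizing k with
  | mem x hx =>
    obtain ⟨a, ha, rfl⟩ := hx
    rw [coeff_C]
    split_ifs
    · exact ha
    · exact I.zero_mem
  | zero => simp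
  | add x y _ _ hx hy => rw [map_add]; exact I.add_mem (hx k) (hy k)
  | smul f x _ hx =>
    rw [smul_eq_mul, coeff_mul]
    exact I.sum_mem fun ij _ => I.mul_mem_left _ (hx _)

theorem mem_map_of_coeff_mem (I : Ideal R) (hI : I.FG) {p : R⟦X⟧}
    (hp : ∀ k, coeff k p ∈ I) : p ∈ Ideal.map (C : R →+* R⟦X⟧) I := by
  obtain ⟨s, rfl⟩ := hI
  classical
  have h : ∀ k, ∃ r : R → R, coeff k p = ∑ a ∈ s, r a * a := by
    intro k
    have := hp k
    rw [← Submodule.span_eq (p := Ideal.span (s : Set R))] at this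
    rw [Ideal.span, ← Set.image_id (s : Set R)] at this
    obtain ⟨r, hr⟩ := (Submodule.mem_span_finset).1 (by simpa using hp k)
    exact ⟨r, by rw [← hr.2]; simp [smul_eq_mul]⟩
  choose r hr using h
  have hsum : p = ∑ a ∈ s, C a * PowerSeries.mk (fun k => r k a) := by
    ext k
    rw [hr k, map_sum]
    refine Finset.sum_congr rfl fun a _ => ?_
    rw [coeff_C_mul, coeff_mk, mul_comm]
  rw [hsum]
  refine Ideal.sum_mem _ fun a ha => Ideal.mul_mem_right _ _ ?_
  exact Ideal.mem_map_of_mem _ (Ideal.subset_span ha)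

theorem mem_map_of_X_pow_mul_mem (I : Ideal R) (hI : I.FG) (M : ℕ) {p : R⟦X⟧}
    (hp : X ^ M * p ∈ Ideal.map (C : R →+* R⟦X⟧) I) : p ∈ Ideal.map (C : R →+* R⟦X⟧) I := by
  apply mem_map_of_coeff_mem I hI
  intro k
  have := coeff_mem_of_mem_map I hp (k + M)
  rw [coeff_X_pow_mul] at this
  exact this

end Groth.Agent.Helper26.LatProj
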