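import Mathlib
import Groth.Agent.Lib.Helper26.LatProj1

set_option autoImplicit false

namespace Groth.Agent.Helper26.LatProj

open PowerSeries TensorProduct

universe u

section General
variable {P : Type*} [CommRing P] (J : Ideal P) {N : Type*} [AddCommGroup N] [Module P N]

/-- For flat `N`, an element whose class is a nonzerodivisor of `P/J` is regular on `N/JN`. -/
theorem mem_smul_top_of_smul_mem_of_flat [Module.Flat P N] {r : P}
    (hc : Ideal.Quotient.mk J r ∈ nonZeroDivisors (P ⧸ J)) {n : N}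
    (h : r • n ∈ (J • ⊤ : Submodule P N)) : n ∈ (J • ⊤ : Submodule P N) := by
  have hreg : ∀ a b : (P ⧸ J) ⊗[P] N,
      (Ideal.Quotient.mk J r) • a = (Ideal.Quotient.mk J r) • b → a = b := by
    have := Module.Flat.isSMulRegular_of_nonZeroDivisors (M := (P ⧸ J) ⊗[P] N) hc
    intro a b hab
    exact this hab
  have h1 : (Ideal.Quotient.mk J r) • ((1 : P ⧸ J) ⊗ₜ[P] n) = (0 : (P ⧸ J) ⊗[P] N) := by
    apply (TensorProduct.quotTensorEquivQuotSMul N J).injective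
    rw [TensorProduct.smul_tmul', smul_eq_mul, mul_one,
      TensorProduct.quotTensorEquivQuotSMul_mk_tmul, map_zero]
    exact (Submodule.Quotient.mk_eq_zero _).2 h
  have h2 : ((1 : P ⧸ J) ⊗ₜ[P] n) = (0 : (P ⧸ J) ⊗[P] N) := by
    apply hreg
    rw [h1, smul_zero]
  have h3 := congrArg (TensorProduct.quotTensorEquivQuotSMul N J) h2
  rw [← map_one (Ideal.Quotient.mk J), TensorProduct.quotTensorEquivQuotSMul_mk_tmul, map_zero,
    one_smul] at h3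
  exact (Submodule.Quotient.mk_eq_zero _).1 h3

end General

variable {R : Type u} [CommRing R]

theorem mk_X_pow_mem_nonZeroDivisors (I : Ideal R) (hI : I.FG) (M : ℕ) :
    Ideal.Quotient.mk (Ideal.map (C : R →+* R⟦X⟧) I) ((X : R⟦X⟧) ^ M) ∈
      nonZeroDivisors (R⟦X⟧ ⧸ Ideal.map (C : R →+* R⟦X⟧) I) := by
  rw [mem_nonZeroDivisors_iff_right]
  intro z hz
  obtain ⟨p, rfl⟩ := Ideal.Quotient.mk_surjective z
  rw [← map_mul, Ideal.Quotient.eq_zero_iff_mem, mul_comm] at hz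
  rw [Ideal.Quotient.eq_zero_iff_mem]
  exact mem_map_of_X_pow_mul_mem I hI M hz

variable {n : ℕ} (Λ : Submodule R⟦X⟧ (Fin n → R⟦X⟧)) (M : ℕ)

/-- (1), in terms of submodules of `F`. -/
theorem mem_smul_of_X_pow_smul_mem [Module.Flat R⟦X⟧ Λ] (I : Ideal R) (hI : I.FG)
    (v : Fin n → R⟦X⟧) (hv : v ∈ Λ)
    (h : ((X : R⟦X⟧) ^ M) • v ∈ (Ideal.map (C : R →+* R⟦X⟧) I) • Λ) :
    v ∈ (Ideal.map (C : R →+* R⟦X⟧) I) • Λ := by
  have key : ∀ w : Λ, (w : Fin n → R⟦X⟧) ∈ (Ideal.map (C : R →+* R⟦X⟧) I) • Λ ↔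
      w ∈ (Ideal.map (C : R →+* R⟦X⟧) I) • (⊤ : Submodule R⟦X⟧ Λ) := by
    intro w
    have h1 : Submodule.map Λ.subtype ((Ideal.map (C : R →+* R⟦X⟧) I) • (⊤ : Submodule R⟦X⟧ Λ)) =
        (Ideal.map (C : R →+* R⟦X⟧) I) • Λ := by
      rw [Submodule.map_smul'', Submodule.map_subtype_top]
    rw [← h1]
    constructor
    · rintro ⟨w', hw', hww'⟩
      have : w' = w := Subtype.ext hww'
      rw [← this]
      exact hw'
    · intro hw
      exact ⟨w, hw, rfl⟩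
  have h2 := (key ⟨v, hv⟩).1
  have h3 : ((X : R⟦X⟧) ^ M) • (⟨v, hv⟩ : Λ) ∈
      (Ideal.map (C : R →+* R⟦X⟧) I) • (⊤ : Submodule R⟦X⟧ Λ) := by
    rw [← key]
    exact h
  have h4 := mem_smul_top_of_smul_mem_of_flat (Ideal.map (C : R →+* R⟦X⟧) I)
    (mk_X_pow_mem_nonZeroDivisors I hI M) h3
  exact (key ⟨v, hv⟩).2 h4

/-- (2) -/
theorem mem_smul_of_mem_smul_top [Module.Flat R⟦X⟧ Λ]
    (hΛ : ∀ v : Fin n → R⟦X⟧, ((X : R⟦X⟧) ^ M) • v ∈ Λ) (I : Ideal R) (hI : I.FG)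
    (v : Fin n → R⟦X⟧) (hv : v ∈ Λ)
    (h : v ∈ (Ideal.map (C : R →+* R⟦X⟧) I) • (⊤ : Submodule R⟦X⟧ (Fin n → R⟦X⟧))) :
    v ∈ (Ideal.map (C : R →+* R⟦X⟧) I) • Λ := by
  apply mem_smul_of_X_pow_smul_mem Λ M I hI v hv
  refine Submodule.smul_induction_on h ?_ ?_
  · intro c hc f _
    rw [smul_comm]
    exact Submodule.smul_mem_smul hc (hΛ f)
  · intro x y hx hy
    rw [smul_add]
    exact Submodule.add_mem _ hx hy

end Groth.Agent.Helper26.LatProj
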