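import Mathlib

set_option autoImplicit false

namespace Groth.Agent.Helper26.LatProj

open TensorProduct

universe u

/-- flatness criterion for a quotient of a flat module. -/
theorem flat_quotient_of_inf_le {R : Type u} [CommRing R] {L : Type u} [AddCommGroup L] [Module R L]
    [Module.Flat R L] (K : Submodule R L)
    (h : ∀ I : Ideal R, I.FG → K ⊓ (I • (⊤ : Submodule R L)) ≤ I • K) :
    Module.Flat R (L ⧸ K) := by
  rw [Module.Flat.iff_rTensor_injective]
  intro I hI
  rw [injective_iff_map_eq_zero]
  intro z hz
  obtain ⟨y, rfl⟩ := LinearMap.lTensor_surjective I (Submodule.mkQ_surjective K) z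
  have hsq : ∀ y : I ⊗[R] L, (I.subtype.rTensor (L ⧸ K)) ((K.mkQ.lTensor I) y) =
      (K.mkQ.lTensor R) ((I.subtype.rTensor L) y) := by
    intro y
    induction y using TensorProduct.induction_on with
    | zero => simp
    | tmul a b => simp
    | add a b ha hb => simp only [map_add, ha, hb]
  rw [hsq] at hz
  set ℓ : L := TensorProduct.lid R L ((I.subtype.rTensor L) y) with hℓ
  have hℓK : ℓ ∈ K := by
    have h1 := congrArg (TensorProduct.lid R (L ⧸ K)) hz
    rw [map_zero] at h1
    have h2 : ∀ t : R ⊗[R] L, TensorProduct.lid R (L ⧸ K) ((K.mkQ.lTensor R) t) =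
        K.mkQ (TensorProduct.lid R L t) := by
      intro t
      induction t using TensorProduct.induction_on with
      | zero => simp
      | tmul a b => simp
      | add a b ha hb => simp only [map_add, ha, hb]
    rw [h2] at h1
    exact (Submodule.Quotient.mk_eq_zero K).1 h1
  have hℓI : ∀ y : I ⊗[R] L, TensorProduct.lid R L ((I.subtype.rTensor L) y) ∈
      I • (⊤ : Submodule R L) := by
    intro y
    induction y using TensorProduct.induction_on with
    | zero => simp
    | tmul a b =>
      simp only [LinearMap.rTensor_tmul, Submodule.subtype_apply, TensorProduct.lid_tmul]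
      exact Submodule.smul_mem_smul a.2 Submodule.mem_top
    | add a b ha hb =>
      simp only [map_add]
      exact Submodule.add_mem _ ha hb
  have hmem : ℓ ∈ I • K := h I hI ⟨hℓK, hℓI y⟩
  have hw : ∃ w : I ⊗[R] K,
      TensorProduct.lid R L ((I.subtype.rTensor L) ((K.subtype.lTensor I) w)) = ℓ := by
    refine Submodule.smul_induction_on hmem ?_ ?_
    · intro i hi κ hκ
      exact ⟨(⟨i, hi⟩ : I) ⊗ₜ[R] (⟨κ, hκ⟩ : K), by simp⟩
    · rintro x x' ⟨w, hw⟩ ⟨w', hw'⟩
      exact ⟨w + w', by simp only [map_add, hw, hw']⟩
  obtain ⟨w, hw⟩ := hw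
  have hflat : Function.Injective (I.subtype.rTensor L) :=
    Module.Flat.rTensor_preserves_injective_linearMap _ Subtype.val_injective
  have hy : y = (K.subtype.lTensor I) w := by
    apply hflat
    apply (TensorProduct.lid R L).injective
    rw [hw]
  rw [hy, ← LinearMap.comp_apply, ← LinearMap.lTensor_comp]
  have : K.mkQ ∘ₗ K.subtype = 0 := by
    ext κ
    simp
  rw [this, LinearMap.lTensor_zero, LinearMap.zero_apply]

end Groth.Agent.Helper26.LatProj
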