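import Mathlib
import Groth.Agent.Lib.Helper26.LatProj2
import Groth.Agent.Lib.Helper26.LatProj3

set_option autoImplicit false

namespace Groth.Agent.Helper26.LatProj

open PowerSeries TensorProduct

universe u
variable {R : Type u} [CommRing R] (n M : ℕ)

/-- the coefficient map `R⟦X⟧^n → R^(n × M)`. -/
noncomputable def cmap : (Fin n → R⟦X⟧) →ₗ[R] (Fin n × Fin M → R) where
  toFun v := fun a => coeff (a.2 : ℕ) (v a.1)
  map_add' v w := by ext a; simp
  map_smul' r v := by ext a; simp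

@[simp] theorem cmap_apply (v : Fin n → R⟦X⟧) (a : Fin n × Fin M) :
    cmap n M v a = coeff (a.2 : ℕ) (v a.1) := rfl

theorem cmap_surjective : Function.Surjective (cmap (R := R) n M) := by
  intro ℓ
  refine ⟨fun i => PowerSeries.mk fun j => if h : j < M then ℓ (i, ⟨j, h⟩) else 0, ?_⟩
  ext a
  rw [cmap_apply, coeff_mk, dif_pos a.2.2]

theorem cmap_X_pow_smul (g : Fin n → R⟦X⟧) : cmap n M (((X : R⟦X⟧) ^ M) • g) = 0 := by
  ext a
  rw [cmap_apply, Pi.smul_apply, smul_eq_mul, coeff_X_pow_mul', if_neg (by have := a.2.2; omega)]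
  rfl

/-- the shift of a vector. -/
noncomputable def shiftV (v : Fin n → R⟦X⟧) : Fin n → R⟦X⟧ :=
  fun i => PowerSeries.mk fun j => coeff (j + M) (v i)

/-- the truncation of a vector. -/
noncomputable def truncV (v : Fin n → R⟦X⟧) : Fin n → R⟦X⟧ :=
  fun i => ∑ j ∈ Finset.range M, C (coeff j (v i)) * X ^ j

theorem eq_shift_add_trunc (v : Fin n → R⟦X⟧) :
    v = ((X : R⟦X⟧) ^ M) • shiftV n M v + truncV n M v := by
  ext1 i
  rw [Pi.add_apply, Pi.smul_apply, smul_eq_mul]
  exact eq_X_pow_mul_add_sum M (v i)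

theorem truncV_eq_zero_of_cmap_eq_zero (v : Fin n → R⟦X⟧) (h : cmap n M v = 0) :
    truncV n M v = 0 := by
  ext1 i
  unfold truncV
  rw [Pi.zero_apply]
  refine Finset.sum_eq_zero fun j hj => ?_
  have := congrFun h (i, ⟨j, Finset.mem_range.1 hj⟩)
  rw [cmap_apply] at this
  simp only at this
  rw [this, Pi.zero_apply, map_zero, zero_mul]

theorem cmap_truncV (v : Fin n → R⟦X⟧) : cmap n M (truncV n M v) = cmap n M v := by
  have h := congrArg (cmap n M) (eq_shift_add_trunc n M v)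
  rw [map_add, cmap_X_pow_smul, zero_add] at h
  exact h.symm

/-- a vector all of whose coefficients below `M` lie in `I` has truncation in `I·F`. -/
theorem truncV_mem (I : Ideal R) (v : Fin n → R⟦X⟧) (h : ∀ a, cmap n M v a ∈ I) :
    truncV n M v ∈ (Ideal.map (C : R →+* R⟦X⟧) I) • (⊤ : Submodule R⟦X⟧ (Fin n → R⟦X⟧)) := by
  have h1 : truncV n M v = ∑ i, (truncV n M v i) • (Pi.single i (1 : R⟦X⟧) : Fin n → R⟦X⟧) := by
    ext1 k
    rw [Finset.sum_apply]
    simp [Pi.single_apply]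
  rw [h1]
  refine Submodule.sum_mem _ fun i _ => Submodule.smul_mem_smul ?_ Submodule.mem_top
  unfold truncV
  refine Ideal.sum_mem _ fun j hj => Ideal.mul_mem_right _ _ (Ideal.mem_map_of_mem _ ?_)
  exact h (i, ⟨j, Finset.mem_range.1 hj⟩)

end Groth.Agent.Helper26.LatProj
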