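import Mathlib
import Groth.Agent.Lib.Helper26.LatProj4

set_option autoImplicit false

namespace Groth.Agent.Helper26.LatProj

open PowerSeries TensorProduct

universe u
variable {R : Type u} [CommRing R] {n : ℕ} (M : ℕ) (Λ : Submodule R⟦X⟧ (Fin n → R⟦X⟧))

/-- image of the lattice in `R^(n×M)`. -/
noncomputable def KK : Submodule R (Fin n × Fin M → R) :=
  (Λ.restrictScalars R).map (cmap n M)

theorem mem_KK_iff (ℓ : Fin n × Fin M → R) : ℓ ∈ KK M Λ ↔ ∃ v ∈ Λ, cmap n M v = ℓ := by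
  unfold KK
  rw [Submodule.mem_map]
  rfl

/-- `c(J Λ) ⊆ I K`. -/
theorem cmap_mem_smul_KK (I : Ideal R) (w : Fin n → R⟦X⟧)
    (hw : w ∈ (Ideal.map (C : R →+* R⟦X⟧) I) • Λ) : cmap n M w ∈ I • KK M Λ := by
  refine Submodule.smul_induction_on hw ?_ ?_
  · intro b hb
    unfold Ideal.map at hb
    induction hb using Submodule.span_induction with
    | mem x hx =>
      obtain ⟨a, ha, rfl⟩ := hx
      intro v hv
      have : cmap n M (C a • v) = a • cmap n M v := by
        rw [← map_smul]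
        congr 1
        ext i k
        simp
      rw [this]
      exact Submodule.smul_mem_smul ha ((mem_KK_iff M Λ _).2 ⟨v, hv, rfl⟩)
    | zero =>
      intro v _
      rw [zero_smul, map_zero]
      exact Submodule.zero_mem _
    | add x y _ _ hx hy =>
      intro v hv
      rw [add_smul, map_add]
      exact Submodule.add_mem _ (hx v hv) (hy v hv)
    | smul g x _ hx =>
      intro v hv
      rw [smul_eq_mul, mul_comm, mul_smul]
      exact hx (g • v) (Λ.smul_mem g hv)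
  · intro x y hx hy
    rw [map_add]
    exact Submodule.add_mem _ hx hy

theorem mem_of_mem_smul_top (I : Ideal R) (ℓ : Fin n × Fin M → R)
    (h : ℓ ∈ I • (⊤ : Submodule R (Fin n × Fin M → R))) (a : Fin n × Fin M) : ℓ a ∈ I := by
  refine Submodule.smul_induction_on h ?_ ?_
  · intro r hr m _
    rw [Pi.smul_apply, smul_eq_mul]
    exact I.mul_mem_right _ hr
  · intro x y hx hy
    rw [Pi.add_apply]
    exact I.add_mem hx hy

/-- claim (3). -/
theorem KK_inf_le [Module.Flat R⟦X⟧ Λ]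
    (hΛ : ∀ v : Fin n → R⟦X⟧, ((X : R⟦X⟧) ^ M) • v ∈ Λ) (I : Ideal R) (hI : I.FG) :
    KK M Λ ⊓ (I • (⊤ : Submodule R (Fin n × Fin M → R))) ≤ I • KK M Λ := by
  rintro ℓ ⟨hℓK, hℓI⟩
  obtain ⟨v, hv, rfl⟩ := (mem_KK_iff M Λ ℓ).1 hℓK
  have ht : truncV n M v ∈ Λ := by
    have h1 := eq_shift_add_trunc n M v
    have h2 : truncV n M v = v - ((X : R⟦X⟧) ^ M) • shiftV n M v := by
      rw [eq_sub_iff_add_eq, add_comm]
      exact h1.symm
    rw [h2]
    exact Λ.sub_mem hv (hΛ _)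
  have h3 := truncV_mem n M I v (mem_of_mem_smul_top M I _ hℓI)
  have h4 := mem_smul_of_mem_smul_top Λ M hΛ I hI _ ht h3
  rw [← cmap_truncV]
  exact cmap_mem_smul_KK M Λ I _ h4

/-- the quotient is `L/K`. -/
noncomputable def quotEquiv (hΛ : ∀ v : Fin n → R⟦X⟧, ((X : R⟦X⟧) ^ M) • v ∈ Λ) :
    ((Fin n → R⟦X⟧) ⧸ Λ) ≃ₗ[R] ((Fin n × Fin M → R) ⧸ KK M Λ) := by
  let q : (Fin n → R⟦X⟧) →ₗ[R] ((Fin n × Fin M → R) ⧸ KK M Λ) := (KK M Λ).mkQ ∘ₗ cmap n M
  have hq : Function.Surjective q :=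
    (Submodule.mkQ_surjective _).comp (cmap_surjective n M)
  have hker : Λ.restrictScalars R = LinearMap.ker q := by
    ext v
    rw [LinearMap.mem_ker, LinearMap.comp_apply, Submodule.mkQ_apply,
      Submodule.Quotient.mk_eq_zero, mem_KK_iff, Submodule.restrictScalars_mem]
    constructor
    · intro hv
      exact ⟨v, hv, rfl⟩
    · rintro ⟨w, hw, hwv⟩
      have h1 : cmap n M (v - w) = 0 := by rw [map_sub, hwv, sub_self]
      have h2 := eq_shift_add_trunc n M (v - w)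
      rw [truncV_eq_zero_of_cmap_eq_zero n M _ h1, add_zero] at h2
      have h3 : v = w + ((X : R⟦X⟧) ^ M) • shiftV n M (v - w) := by
        rw [← h2]; abel
      rw [h3]
      exact Λ.add_mem hw (hΛ _)
  exact (Submodule.Quotient.restrictScalarsEquiv R Λ).symm ≪≫ₗ
    (Submodule.quotEquivOfEq _ _ hker) ≪≫ₗ (q.quotKerEquivOfSurjective hq)

end Groth.Agent.Helper26.LatProj
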