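import Mathlib
import Groth.Agent.Lib.Helper26.LatProj5

set_option autoImplicit false

namespace Groth.Agent.Helper26.LatProj

open PowerSeries TensorProduct

universe u
variable {R : Type u} [CommRing R] {n : ℕ} (M : ℕ) (Λ : Submodule R⟦X⟧ (Fin n → R⟦X⟧))

theorem cmap_C_smul (a : R) (v : Fin n → R⟦X⟧) : cmap n M (C a • v) = a • cmap n M v := by
  rw [← map_smul]
  congr 1
  ext i k
  simp

theorem KK_fg [Module.Finite R⟦X⟧ Λ] : (KK M Λ).FG := by
  classical
  obtain ⟨s, hs⟩ := (Module.Finite.iff_fg (N := Λ)).1 inferInstance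
  set T : Set (Fin n × Fin M → R) :=
    (fun wj : (Fin n → R⟦X⟧) × ℕ => cmap n M (((X : R⟦X⟧) ^ wj.2) • wj.1)) ''
      ((s : Set (Fin n → R⟦X⟧)) ×ˢ (Finset.range M : Set ℕ)) with hT
  have hTfin : T.Finite := by
    apply Set.Finite.image
    exact Set.Finite.prod s.finite_toSet (Finset.finite_toSet _)
  have hTK : T ⊆ KK M Λ := by
    rintro _ ⟨⟨w, j⟩, ⟨hw, _⟩, rfl⟩
    refine (mem_KK_iff M Λ _).2 ⟨_, ?_, rfl⟩
    apply Λ.smul_mem
    rw [← hs]
    exact Submodule.subset_span hw
  have key : ∀ w ∈ Λ, ∀ p : R⟦X⟧, cmap n M (p • w) ∈ Submodule.span R T := by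
    intro w hw
    rw [← hs] at hw
    induction hw using Submodule.span_induction with
    | mem w hw =>
      intro p
      have hp := eq_X_pow_mul_add_sum M p
      rw [hp, add_smul, map_add, mul_smul, cmap_X_pow_smul, zero_add, Finset.sum_smul, map_sum]
      refine Submodule.sum_mem _ fun j hj => ?_
      rw [mul_smul, cmap_C_smul]
      refine Submodule.smul_mem _ _ (Submodule.subset_span ?_)
      exact ⟨(w, j), ⟨hw, hj⟩, rfl⟩
    | zero =>
      intro p
      rw [smul_zero, map_zero]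
      exact Submodule.zero_mem _
    | add x y _ _ hx hy =>
      intro p
      rw [smul_add, map_add]
      exact Submodule.add_mem _ (hx p) (hy p)
    | smul g x _ hx =>
      intro p
      rw [← mul_smul]
      exact hx _
  have hK : KK M Λ = Submodule.span R T := by
    apply le_antisymm
    · intro ℓ hℓ
      obtain ⟨v, hv, rfl⟩ := (mem_KK_iff M Λ ℓ).1 hℓ
      have := key v hv 1
      rwa [one_smul] at this
    · exact Submodule.span_le.2 hTK
  rw [hK]
  exact Submodule.fg_span hTfin

/-- (⇒) direction. -/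
theorem projective_quotient [Module.Finite R⟦X⟧ Λ] [Module.Projective R⟦X⟧ Λ]
    (hΛ : ∀ v : Fin n → R⟦X⟧, ((X : R⟦X⟧) ^ M) • v ∈ Λ) :
    Module.Projective R ((Fin n → R⟦X⟧) ⧸ Λ) := by
  have hflat : Module.Flat R ((Fin n × Fin M → R) ⧸ KK M Λ) :=
    flat_quotient_of_inf_le (KK M Λ) (fun I hI => KK_inf_le M Λ hΛ I hI)
  have hfp : Module.FinitePresentation R ((Fin n × Fin M → R) ⧸ KK M Λ) := by
    apply Module.finitePresentation_of_free_of_surjective (KK M Λ).mkQ
      (Submodule.mkQ_surjective _)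
    rw [Submodule.ker_mkQ]
    exact KK_fg M Λ
  have hproj : Module.Projective R ((Fin n × Fin M → R) ⧸ KK M Λ) :=
    Module.Flat.projective_of_finitePresentation
  exact Module.Projective.of_equiv (quotEquiv M Λ hΛ).symm

end Groth.Agent.Helper26.LatProj
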