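import Mathlib
import Groth.Agent.Lib.Helper26.LatProj1

set_option autoImplicit false

namespace Groth.Agent.Helper26.LatProj

open PowerSeries TensorProduct

universe u
variable {R : Type u} [CommRing R] {Q : Type u} [AddCommGroup Q] [Module R⟦X⟧ Q] [Module R Q]
  [IsScalarTower R R⟦X⟧ Q] (M : ℕ)

variable (R Q) in
/-- multiplication by `X` on `Q`, as an `R`-linear map. -/
noncomputable def xR : Module.End R Q :=
  ((X : R⟦X⟧) • (LinearMap.id : Q →ₗ[R⟦X⟧] Q)).restrictScalars R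

theorem xR_apply (q : Q) : xR R Q q = (X : R⟦X⟧) • q := rfl

theorem xR_pow_apply (k : ℕ) (q : Q) : (xR R Q ^ k) q = ((X : R⟦X⟧) ^ k) • q := by
  induction k generalizing q with
  | zero => simp
  | succ k ih => rw [pow_succ, Module.End.mul_apply, ih, xR_apply, pow_succ, mul_smul]

variable (R Q) in
/-- `1 ⊗ x` on `P ⊗ Q`. -/
noncomputable def xT : Module.End R⟦X⟧ (R⟦X⟧ ⊗[R] Q) := (xR R Q).baseChange R⟦X⟧

variable (R Q) in
/-- `X ⊗ 1` on `P ⊗ Q`. -/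
noncomputable def XT : Module.End R⟦X⟧ (R⟦X⟧ ⊗[R] Q) :=
  algebraMap R⟦X⟧ (Module.End R⟦X⟧ (R⟦X⟧ ⊗[R] Q)) X

variable (R Q) in
/-- the characteristic map `X ⊗ 1 - 1 ⊗ x`. -/
noncomputable def θ : Module.End R⟦X⟧ (R⟦X⟧ ⊗[R] Q) := XT R Q - xT R Q

variable (R Q) in
/-- the evaluation map. -/
noncomputable def ε : (R⟦X⟧ ⊗[R] Q) →ₗ[R⟦X⟧] Q :=
  (LinearMap.id : Q →ₗ[R] Q).liftBaseChange R⟦X⟧

theorem ε_tmul (p : R⟦X⟧) (q : Q) : ε R Q (p ⊗ₜ[R] q) = p • q := rfl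

theorem XT_pow_apply (k : ℕ) (z : R⟦X⟧ ⊗[R] Q) : (XT R Q ^ k) z = ((X : R⟦X⟧) ^ k) • z := by
  unfold XT
  rw [← map_pow]
  rfl

theorem xT_pow_tmul (k : ℕ) (p : R⟦X⟧) (q : Q) :
    (xT R Q ^ k) (p ⊗ₜ[R] q) = p ⊗ₜ[R] (((X : R⟦X⟧) ^ k) • q) := by
  unfold xT
  rw [← LinearMap.baseChange_pow, LinearMap.baseChange_tmul, xR_pow_apply]

theorem commute_XT_xT : Commute (XT R Q) (xT R Q) := Algebra.commutes _ _

theorem xT_pow_eq_zero (hQ : ∀ q : Q, ((X : R⟦X⟧) ^ M) • q = 0) : xT R Q ^ M = 0 := by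
  apply TensorProduct.AlgebraTensorModule.ext
  intro p q
  rw [xT_pow_tmul, hQ, tmul_zero, LinearMap.zero_apply]

theorem ε_surjective : Function.Surjective (ε R Q) := fun q => ⟨1 ⊗ₜ q, by rw [ε_tmul, one_smul]⟩

theorem ε_θ (z : R⟦X⟧ ⊗[R] Q) : ε R Q (θ R Q z) = 0 := by
  induction z using TensorProduct.induction_on with
  | zero => simp
  | tmul p q =>
    have h1 : θ R Q (p ⊗ₜ[R] q) = (X * p) ⊗ₜ[R] q - p ⊗ₜ[R] ((X : R⟦X⟧) • q) := by
      unfold θ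
      rw [LinearMap.sub_apply]
      congr 1
    rw [h1, map_sub, ε_tmul, ε_tmul, mul_smul, smul_comm, sub_self]
  | add a b ha hb => rw [map_add, map_add, ha, hb, add_zero]

end Groth.Agent.Helper26.LatProj
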