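import Mathlib
import Groth.Agent.Lib.Helper26.LatProj7

set_option autoImplicit false
set_option linter.unusedSectionVars false

namespace Groth.Agent.Helper26.LatProj

open PowerSeries TensorProduct

universe u
variable {R : Type u} [CommRing R] {Q : Type u} [AddCommGroup Q] [Module R⟦X⟧ Q] [Module R Q]
  [IsScalarTower R R⟦X⟧ Q] (M : ℕ)

variable (R Q) in
/-- the geometric sum. -/
noncomputable def GG (k : ℕ) : Module.End R⟦X⟧ (R⟦X⟧ ⊗[R] Q) :=
  ∑ i ∈ Finset.range k, XT R Q ^ i * xT R Q ^ (k - 1 - i)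

set_option backward.isDefEq.respectTransparency false in
theorem θ_mul_GG (k : ℕ) : θ R Q * GG R Q k = XT R Q ^ k - xT R Q ^ k := by
  unfold θ GG
  exact Commute.mul_geom_sum₂ (R := Module.End R⟦X⟧ (R⟦X⟧ ⊗[R] Q)) commute_XT_xT k

set_option backward.isDefEq.respectTransparency false in
theorem GG_mul_θ (k : ℕ) : GG R Q k * θ R Q = XT R Q ^ k - xT R Q ^ k := by
  unfold θ GG
  exact Commute.geom_sum₂_mul (R := Module.End R⟦X⟧ (R⟦X⟧ ⊗[R] Q)) commute_XT_xT k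

set_option backward.isDefEq.respectTransparency false in
theorem θ_mul_GG' (hQ : ∀ q : Q, ((X : R⟦X⟧) ^ M) • q = 0) :
    θ R Q * GG R Q M = XT R Q ^ M := by
  rw [θ_mul_GG, xT_pow_eq_zero M hQ]
  exact sub_zero (XT R Q ^ M)

set_option backward.isDefEq.respectTransparency false in
theorem GG_mul_θ' (hQ : ∀ q : Q, ((X : R⟦X⟧) ^ M) • q = 0) :
    GG R Q M * θ R Q = XT R Q ^ M := by
  rw [GG_mul_θ, xT_pow_eq_zero M hQ]
  exact sub_zero (XT R Q ^ M)

theorem C_mul_eq_smul (a : R) (p : R⟦X⟧) : C a * p = a • p := by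
  ext k
  simp

theorem C_smul_eq_smul (a : R) (z : R⟦X⟧ ⊗[R] Q) : (C a : R⟦X⟧) • z = a • z := by
  induction z using TensorProduct.induction_on with
  | zero => simp
  | tmul p q => rw [TensorProduct.smul_tmul', TensorProduct.smul_tmul', smul_eq_mul, C_mul_eq_smul]
  | add x y hx hy => rw [smul_add, smul_add, hx, hy]

theorem X_pow_smul_injective [Module.Flat R Q] (z : R⟦X⟧ ⊗[R] Q)
    (hz : ((X : R⟦X⟧) ^ M) • z = 0) : z = 0 := by
  let μ : R⟦X⟧ →ₗ[R] R⟦X⟧ := (LinearMap.mulLeft R ((X : R⟦X⟧) ^ M))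
  have hμ : Function.Injective μ := by
    intro a b hab
    ext k
    have := congrArg (coeff (k + M)) hab
    simpa [μ, coeff_X_pow_mul] using this
  have h1 : Function.Injective (μ.rTensor Q) :=
    Module.Flat.rTensor_preserves_injective_linearMap μ hμ
  have h2 : ∀ z : R⟦X⟧ ⊗[R] Q, (μ.rTensor Q) z = ((X : R⟦X⟧) ^ M) • z := by
    intro z
    induction z using TensorProduct.induction_on with
    | zero => simp
    | tmul p q => rw [LinearMap.rTensor_tmul, TensorProduct.smul_tmul', smul_eq_mul]; rfl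
    | add a b ha hb => rw [map_add, ha, hb, smul_add]
  apply h1
  rw [h2, hz, map_zero]

theorem θ_injective [Module.Flat R Q] (hQ : ∀ q : Q, ((X : R⟦X⟧) ^ M) • q = 0) :
    Function.Injective (θ R Q) := by
  rw [injective_iff_map_eq_zero]
  intro z hz
  apply X_pow_smul_injective M z
  have h1 : GG R Q M * θ R Q = XT R Q ^ M := GG_mul_θ' M hQ
  have h2 := congrArg (fun f => f z) h1
  simp only [Module.End.mul_apply] at h2
  rw [hz, map_zero, XT_pow_apply] at h2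
  exact h2.symm

theorem X_pow_smul_mem_range (hQ : ∀ q : Q, ((X : R⟦X⟧) ^ M) • q = 0) (z : R⟦X⟧ ⊗[R] Q) :
    ((X : R⟦X⟧) ^ M) • z ∈ LinearMap.range (θ R Q) := by
  have h1 : θ R Q * GG R Q M = XT R Q ^ M := θ_mul_GG' M hQ
  have h2 := congrArg (fun f => f z) h1
  simp only [Module.End.mul_apply] at h2
  rw [XT_pow_apply] at h2
  exact ⟨_, h2⟩

theorem X_pow_tmul_sub_mem_range (k : ℕ) (q : Q) :
    ((X : R⟦X⟧) ^ k) ⊗ₜ[R] q - (1 : R⟦X⟧) ⊗ₜ[R] (((X : R⟦X⟧) ^ k) • q) ∈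
      LinearMap.range (θ R Q) := by
  have h1 := θ_mul_GG (R := R) (Q := Q) k
  have h2 := congrArg (fun f => f ((1 : R⟦X⟧) ⊗ₜ[R] q)) h1
  simp only [Module.End.mul_apply, LinearMap.sub_apply] at h2
  rw [XT_pow_apply, xT_pow_tmul, TensorProduct.smul_tmul', smul_eq_mul, mul_one] at h2
  exact ⟨_, h2⟩

/-- exactness in the middle. -/
theorem sub_mem_range (hQ : ∀ q : Q, ((X : R⟦X⟧) ^ M) • q = 0) (z : R⟦X⟧ ⊗[R] Q) :
    z - (1 : R⟦X⟧) ⊗ₜ[R] (ε R Q z) ∈ LinearMap.range (θ R Q) := by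
  induction z using TensorProduct.induction_on with
  | zero => simp
  | tmul p q =>
    rw [ε_tmul]
    have hp := eq_X_pow_mul_add_sum M p
    have h1 : p ⊗ₜ[R] q = ((X : R⟦X⟧) ^ M) • ((PowerSeries.mk fun i => coeff (i + M) p) ⊗ₜ[R] q) +
        ∑ j ∈ Finset.range M, (coeff j p) • (((X : R⟦X⟧) ^ j) ⊗ₜ[R] q) := by
      conv_lhs => rw [hp]
      rw [TensorProduct.add_tmul, TensorProduct.sum_tmul, TensorProduct.smul_tmul', smul_eq_mul]
      congr 1
      refine Finset.sum_congr rfl fun j _ => ?_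
      rw [TensorProduct.smul_tmul', C_mul_eq_smul]
    have h2 : p • q = ∑ j ∈ Finset.range M, (coeff j p) • (((X : R⟦X⟧) ^ j) • q) := by
      conv_lhs => rw [hp]
      rw [add_smul, mul_smul, smul_comm, hQ, smul_zero, zero_add, Finset.sum_smul]
      refine Finset.sum_congr rfl fun j _ => ?_
      rw [mul_smul, ← algebraMap_smul R⟦X⟧ (coeff j p) (((X : R⟦X⟧) ^ j) • q)]
      rfl
    rw [h1, h2, TensorProduct.tmul_sum, add_sub_assoc, ← Finset.sum_sub_distrib]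
    refine Submodule.add_mem _ (X_pow_smul_mem_range M hQ _) (Submodule.sum_mem _ fun j _ => ?_)
    have h3 := X_pow_tmul_sub_mem_range (R := R) j q
    have h4 : (coeff j p) • (((X : R⟦X⟧) ^ j) ⊗ₜ[R] q) -
        (1 : R⟦X⟧) ⊗ₜ[R] ((coeff j p) • (((X : R⟦X⟧) ^ j) • q)) =
        (C (coeff j p) : R⟦X⟧) • (((X : R⟦X⟧) ^ j) ⊗ₜ[R] q -
          (1 : R⟦X⟧) ⊗ₜ[R] (((X : R⟦X⟧) ^ j) • q)) := by
      rw [C_smul_eq_smul, smul_sub, TensorProduct.tmul_smul]
    rw [h4]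
    exact Submodule.smul_mem _ _ h3
  | add a b ha hb =>
    rw [map_add, TensorProduct.tmul_add]
    have : a + b - ((1 : R⟦X⟧) ⊗ₜ[R] (ε R Q a) + (1 : R⟦X⟧) ⊗ₜ[R] (ε R Q b)) =
        (a - (1 : R⟦X⟧) ⊗ₜ[R] (ε R Q a)) + (b - (1 : R⟦X⟧) ⊗ₜ[R] (ε R Q b)) := by abel
    rw [this]
    exact Submodule.add_mem _ ha hb

theorem ker_ε_le_range (hQ : ∀ q : Q, ((X : R⟦X⟧) ^ M) • q = 0) :
    LinearMap.ker (ε R Q) ≤ LinearMap.range (θ R Q) := by
  intro z hz
  have := sub_mem_range M hQ z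
  rw [LinearMap.mem_ker.1 hz, tmul_zero, sub_zero] at this
  exact this

end Groth.Agent.Helper26.LatProj
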