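import Mathlib
import Groth.Agent.Lib.Helper26.LatProj6
import Groth.Agent.Lib.Helper26.LatProj8

set_option autoImplicit false

namespace Groth.Agent.Helper26.LatProj

open PowerSeries TensorProduct

universe u

section Split
variable {P : Type*} [CommRing P] {F T Q : Type*} [AddCommGroup F] [AddCommGroup T]
  [AddCommGroup Q] [Module P F] [Module P T] [Module P Q]

/-- The kernel of a surjection from a finite projective module onto a module with a length one
finite projective resolution is finite projective. -/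
theorem finite_projective_ker [Module.Projective P F] [Module.Finite P F] [Module.Projective P T]
    [Module.Finite P T] (π : F →ₗ[P] Q) (ε : T →ₗ[P] Q)
    (hε : Function.Surjective ε) (hπ : Function.Surjective π) (θ : T →ₗ[P] T)
    (hθ : Function.Injective θ) (hεθ : ∀ z, ε (θ z) = 0)
    (hex : LinearMap.ker ε ≤ LinearMap.range θ) :
    Module.Finite P (LinearMap.ker π) ∧ Module.Projective P (LinearMap.ker π) := by
  obtain ⟨a, ha⟩ := Module.projective_lifting_property ε π hε
  obtain ⟨b, hb⟩ := Module.projective_lifting_property π ε hπ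
  have ha' : ∀ f, ε (a f) = π f := fun f => LinearMap.congr_fun ha f
  have hb' : ∀ t, π (b t) = ε t := fun t => LinearMap.congr_fun hb t
  let e : T ≃ₗ[P] LinearMap.range θ := LinearEquiv.ofInjective θ hθ
  have he : ∀ y : LinearMap.range θ, θ (e.symm y) = y := by
    intro y
    have := e.apply_symm_apply y
    exact congrArg Subtype.val this
  let aK : LinearMap.ker π →ₗ[P] LinearMap.range θ :=
    LinearMap.codRestrict (LinearMap.range θ) (a ∘ₗ (LinearMap.ker π).subtype) (by
      intro w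
      apply hex
      rw [LinearMap.mem_ker, LinearMap.comp_apply, ha']
      exact w.2)
  let i : LinearMap.ker π →ₗ[P] F × T :=
    (LinearMap.ker π).subtype.prod (-(e.symm.toLinearMap ∘ₗ aK))
  let r : F × T →ₗ[P] LinearMap.ker π :=
    LinearMap.codRestrict (LinearMap.ker π)
      (LinearMap.fst P F T - b ∘ₗ (θ ∘ₗ LinearMap.snd P F T + a ∘ₗ LinearMap.fst P F T)) (by
      intro w
      rw [LinearMap.mem_ker]
      simp only [LinearMap.sub_apply, LinearMap.comp_apply, LinearMap.add_apply, map_sub, map_add,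
        hb', hεθ, ha', LinearMap.fst_apply, zero_add, sub_self])
  have hri' : ∀ w, r (i w) = w := by
    intro w
    apply Subtype.ext
    have h1 : θ (e.symm (aK w)) = a w := by rw [he]; rfl
    change (w : F) - b (θ (-(e.symm (aK w))) + a w) = w
    rw [map_neg, h1, neg_add_cancel, map_zero, sub_zero]
  have hri : r ∘ₗ i = LinearMap.id := LinearMap.ext hri'
  constructor
  · refine Module.Finite.of_surjective r ?_
    intro w
    exact ⟨i w, LinearMap.congr_fun hri w⟩
  · exact Module.Projective.of_split i r hri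

end Split

variable {R : Type u} [CommRing R] {n : ℕ} (M : ℕ) (Λ : Submodule R⟦X⟧ (Fin n → R⟦X⟧))

/-- (⇐) direction. -/
theorem finite_projective_of_quotient [Module.Projective R ((Fin n → R⟦X⟧) ⧸ Λ)]
    (hΛ : ∀ v : Fin n → R⟦X⟧, ((X : R⟦X⟧) ^ M) • v ∈ Λ) :
    Module.Finite R⟦X⟧ Λ ∧ Module.Projective R⟦X⟧ Λ := by
  have hfin : Module.Finite R ((Fin n → R⟦X⟧) ⧸ Λ) :=
    Module.Finite.equiv (quotEquiv M Λ hΛ).symm
  have hQ : ∀ q : (Fin n → R⟦X⟧) ⧸ Λ, ((X : R⟦X⟧) ^ M) • q = 0 := by
    intro q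
    obtain ⟨v, rfl⟩ := Submodule.Quotient.mk_surjective Λ q
    rw [← Submodule.Quotient.mk_smul, Submodule.Quotient.mk_eq_zero]
    exact hΛ v
  have h := finite_projective_ker (P := R⟦X⟧) Λ.mkQ (ε R ((Fin n → R⟦X⟧) ⧸ Λ)) ε_surjective
    (Submodule.mkQ_surjective Λ) (θ R ((Fin n → R⟦X⟧) ⧸ Λ)) (θ_injective M hQ) ε_θ
    (ker_ε_le_range M hQ)
  have e : LinearMap.ker Λ.mkQ ≃ₗ[R⟦X⟧] Λ := LinearEquiv.ofEq _ _ (Submodule.ker_mkQ Λ)
  have h1 := h.1
  have h2 := h.2
  exact ⟨Module.Finite.equiv e, Module.Projective.of_equiv e⟩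

theorem main (k : Type u) [Field k] (R : Type u) [CommRing R] [Algebra k R] (n M : ℕ)
    (Λ : Submodule R⟦X⟧ (Fin n → R⟦X⟧))
    (hΛ : ∀ v : Fin n → R⟦X⟧, ((PowerSeries.X : R⟦X⟧) ^ M) • v ∈ Λ) :
    (Module.Finite R⟦X⟧ Λ ∧ Module.Projective R⟦X⟧ Λ) ↔
      Module.Projective R ((Fin n → R⟦X⟧) ⧸ Λ) := by
  constructor
  · rintro ⟨h1, h2⟩
    exact projective_quotient M Λ hΛ
  · intro h
    exact finite_projective_of_quotient M Λ hΛ

end Groth.Agent.Helper26.LatProj
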