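import Mathlib

/-!
# `(k₀(K₀^p))((T)) = k₀(K₀^p((T)))` (EGA 0_IV 21.8 support)
-/

set_option autoImplicit false
universe u

namespace Groth.Agent.Lib.Helper26.LaurentAdj

variable (p : ℕ) [Fact p.Prime] {k₀ K₀ : Type u} [Field k₀] [Field K₀] [Algebra k₀ K₀]

/-- the subfield `K₀^p` -/
abbrev Fp (K₀ : Type u) [Field K₀] : Subfield K₀ := Subfield.closure (Set.range fun y : K₀ => y ^ p)

/-- the subfield `k₀(K₀^p)` -/
abbrev Ep (k₀ K₀ : Type u) [Field k₀] [Field K₀] [Algebra k₀ K₀] : Subfield K₀ :=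
  Subfield.closure (Set.range (algebraMap k₀ K₀) ∪ Set.range fun y : K₀ => y ^ p)

omit [Fact p.Prime] in
theorem map_mem_Fp {a : k₀} (ha : a ∈ Fp p k₀) : algebraMap k₀ K₀ a ∈ Fp p K₀ := by
  induction ha using Subfield.closure_induction with
  | mem x hx =>
    obtain ⟨y, rfl⟩ := hx
    exact Subfield.subset_closure ⟨algebraMap k₀ K₀ y, (map_pow _ _ _).symm⟩
  | one => rw [map_one]; exact one_mem _
  | add x y _ _ hx hy => rw [map_add]; exact add_mem hx hy
  | neg x _ hx => rw [map_neg]; exact neg_mem hx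
  | inv x _ hx => rw [map_inv₀]; exact inv_mem hx
  | mul x y _ _ hx hy => rw [map_mul]; exact mul_mem hx hy

variable {m : ℕ} (b : Fin m → k₀)

/-- the `K₀^p`-span of the images of the `b i` -/
def W : Submodule (Fp p K₀) K₀ :=
  Submodule.span (Fp p K₀) (Set.range fun i => algebraMap k₀ K₀ (b i))

variable (hb : Submodule.span (Fp p k₀) (Set.range b) = ⊤)

include hb in
theorem map_mem_W (x : k₀) : algebraMap k₀ K₀ x ∈ W p b := by
  have hx : x ∈ Submodule.span (Fp p k₀) (Set.range b) := by rw [hb]; trivial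
  obtain ⟨c, rfl⟩ := (Submodule.mem_span_range_iff_exists_fun _).1 hx
  rw [map_sum]
  refine sum_mem fun i _ => ?_
  have : algebraMap k₀ K₀ (c i • b i) =
      (⟨algebraMap k₀ K₀ (c i : k₀), map_mem_Fp p (c i).2⟩ : Fp p K₀) • algebraMap k₀ K₀ (b i) := by
    rw [Subfield.smul_def, Subfield.smul_def, smul_eq_mul, smul_eq_mul, map_mul]
  rw [this]
  exact Submodule.smul_mem _ _ (Submodule.subset_span ⟨i, rfl⟩)

include hb in
theorem one_mem_W : (1 : K₀) ∈ W p b := by
  have := map_mem_W (K₀ := K₀) p b hb 1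
  rwa [map_one] at this

include hb in
theorem Fp_le_W {c : K₀} (hc : c ∈ Fp p K₀) : c ∈ W p b := by
  have h1 : c = (⟨c, hc⟩ : Fp p K₀) • (1 : K₀) := by rw [Subfield.smul_def, smul_eq_mul, mul_one]
  rw [h1]
  exact Submodule.smul_mem _ _ (one_mem_W p b hb)

include hb in
theorem mul_mem_W {w w' : K₀} (hw : w ∈ W p b) (hw' : w' ∈ W p b) : w * w' ∈ W p b := by
  induction hw using Submodule.span_induction with
  | mem x hx =>
    obtain ⟨i, rfl⟩ := hx
    induction hw' using Submodule.span_induction with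
    | mem y hy =>
      obtain ⟨j, rfl⟩ := hy
      rw [← map_mul]
      exact map_mem_W p b hb _
    | zero => rw [mul_zero]; exact zero_mem _
    | add y z _ _ hy hz => rw [mul_add]; exact add_mem hy hz
    | smul c y _ hy =>
      rw [mul_smul_comm]
      exact Submodule.smul_mem _ _ hy
  | zero => rw [zero_mul]; exact zero_mem _
  | add y z _ _ hy hz => rw [add_mul]; exact add_mem hy hz
  | smul c y _ hy =>
    rw [smul_mul_assoc]
    exact Submodule.smul_mem _ _ hy

include hb in
theorem pow_mem_W {w : K₀} (hw : w ∈ W p b) (n : ℕ) : w ^ n ∈ W p b := by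
  induction n with
  | zero => rw [pow_zero]; exact one_mem_W p b hb
  | succ n ih => rw [pow_succ]; exact mul_mem_W p b hb ih hw

include hb in
theorem inv_mem_W {w : K₀} (hw : w ∈ W p b) : w⁻¹ ∈ W p b := by
  by_cases h0 : w = 0
  · rw [h0, inv_zero]; exact zero_mem _
  have hp : 0 < p := (Fact.out : p.Prime).pos
  have hwp : (w ^ p)⁻¹ ∈ Fp p K₀ := inv_mem (Subfield.subset_closure ⟨w, rfl⟩)
  have h1 : w⁻¹ = (⟨(w ^ p)⁻¹, hwp⟩ : Fp p K₀) • w ^ (p - 1) := by
    rw [Subfield.smul_def, smul_eq_mul]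
    have : w ^ p = w ^ (p - 1) * w := by rw [← pow_succ, Nat.sub_add_cancel hp]
    change w⁻¹ = (w ^ p)⁻¹ * w ^ (p - 1)
    rw [this, mul_inv, mul_comm (w ^ (p - 1))⁻¹, mul_assoc,
      inv_mul_cancel₀ (pow_ne_zero _ h0), mul_one]
  rw [h1]
  exact Submodule.smul_mem _ _ (pow_mem_W p b hb hw _)

include hb in
theorem Ep_le_W {e : K₀} (he : e ∈ Ep p k₀ K₀) : e ∈ W p b := by
  induction he using Subfield.closure_induction with
  | mem x hx =>
    rcases hx with ⟨a, rfl⟩ | ⟨y, rfl⟩
    · exact map_mem_W p b hb a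
    · exact Fp_le_W p b hb (Subfield.subset_closure ⟨y, rfl⟩)
  | one => exact one_mem_W p b hb
  | add x y _ _ hx hy => exact add_mem hx hy
  | neg x _ hx => exact neg_mem hx
  | inv x _ hx => exact inv_mem_W p b hb hx
  | mul x y _ _ hx hy => exact mul_mem_W p b hb hx hy

omit [Fact p.Prime] in
theorem main' [Fact p.Prime]
    (hfin : Module.Finite (Subfield.closure (Set.range fun x : k₀ => x ^ p)) k₀) (r : ℕ) :
    Subfield.closure (algebraMap (MvPowerSeries (Fin r) K₀)
        (FractionRing (MvPowerSeries (Fin r) K₀)) ''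
        {f | ∀ n, MvPowerSeries.coeff n f ∈
          Subfield.closure (Set.range (algebraMap k₀ K₀) ∪ Set.range fun y : K₀ => y ^ p)}) =
      Subfield.closure
        (Set.range (algebraMap k₀ (FractionRing (MvPowerSeries (Fin r) K₀))) ∪
          (Subfield.closure (algebraMap (MvPowerSeries (Fin r) K₀)
            (FractionRing (MvPowerSeries (Fin r) K₀)) ''
            {f | ∀ n, MvPowerSeries.coeff n f ∈
              Subfield.closure (Set.range fun y : K₀ => y ^ p)}) :
            Set (FractionRing (MvPowerSeries (Fin r) K₀)))) := by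
  have hmap : ∀ a : k₀, algebraMap k₀ (FractionRing (MvPowerSeries (Fin r) K₀)) a =
      algebraMap (MvPowerSeries (Fin r) K₀) (FractionRing (MvPowerSeries (Fin r) K₀))
        (MvPowerSeries.C (algebraMap k₀ K₀ a)) := by
    intro a
    rw [IsScalarTower.algebraMap_apply k₀ (MvPowerSeries (Fin r) K₀)
      (FractionRing (MvPowerSeries (Fin r) K₀)), MvPowerSeries.algebraMap_apply]
  apply le_antisymm
  · rw [Subfield.closure_le]
    rintro _ ⟨f, hf, rfl⟩
    obtain ⟨m, b, hb⟩ := Module.Finite.exists_fin (R := Fp p k₀) (M := k₀)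
    have hW : ∀ n, MvPowerSeries.coeff n f ∈ W p b := fun n => Ep_le_W p b hb (hf n)
    choose c hc using fun n => (Submodule.mem_span_range_iff_exists_fun _).1 (hW n)
    let g : Fin m → MvPowerSeries (Fin r) K₀ := fun i n => (c n i : K₀)
    have hg : ∀ i n, MvPowerSeries.coeff n (g i) = (c n i : K₀) := fun i n => rfl
    have hfg : f = ∑ i, MvPowerSeries.C (algebraMap k₀ K₀ (b i)) * g i := by
      ext n
      rw [map_sum, ← hc n]
      refine Finset.sum_congr rfl fun i _ => ?_
      rw [MvPowerSeries.coeff_C_mul, hg, Subfield.smul_def, smul_eq_mul, mul_comm]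
    rw [hfg, map_sum]
    refine sum_mem fun i _ => ?_
    rw [map_mul]
    refine mul_mem ?_ ?_
    · apply Subfield.subset_closure
      left
      exact ⟨b i, hmap (b i)⟩
    · apply Subfield.subset_closure
      right
      exact Subfield.subset_closure ⟨g i, fun n => (c n i).2, rfl⟩
  · rw [Subfield.closure_le]
    rintro x (⟨a, rfl⟩ | hx)
    · apply Subfield.subset_closure
      refine ⟨MvPowerSeries.C (algebraMap k₀ K₀ a), ?_, (hmap a).symm⟩
      intro n
      classical
      rw [MvPowerSeries.coeff_C]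
      split_ifs
      · exact Subfield.subset_closure (Or.inl ⟨a, rfl⟩)
      · exact zero_mem _
    · have hsub : {f : MvPowerSeries (Fin r) K₀ | ∀ n, MvPowerSeries.coeff n f ∈
            Subfield.closure (Set.range fun y : K₀ => y ^ p)} ⊆
          {f | ∀ n, MvPowerSeries.coeff n f ∈
            Subfield.closure (Set.range (algebraMap k₀ K₀) ∪ Set.range fun y : K₀ => y ^ p)} :=
        fun f hf n => Subfield.closure_mono Set.subset_union_right (hf n)
      exact Subfield.closure_mono (Set.image_mono hsub) hx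

end Groth.Agent.Lib.Helper26.LaurentAdj
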