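import Mathlib
import Groth.Agent.Lib.Helper26.LenB

universe u

namespace Groth.Agent.Lib.Helper26.LenC

open Function IsLocalRing Groth.Agent.Lib.Helper26.LenA Groth.Agent.Lib.Helper26.LenB
  Groth.Agent.Lib.Helper26.CycSeq1
open scoped Pointwise

variable {R : Type u} [CommRing R]

/-- for finite length modules kernel and cokernel of multiplication have equal length -/
theorem length_C_eq_length_K (x : R) (N : Type*) [AddCommGroup N] [Module R N]
    (h : Module.length R N ≠ ⊤) :
    Module.length R (N ⧸ x • (⊤ : Submodule R N)) = Module.length R (K x N) := by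
  have e1 := length_eq_ker_add_range (mulx x N)
  have e2 := Module.length_eq_add_of_exact (LinearMap.range (mulx x N)).subtype
    (LinearMap.range (mulx x N)).mkQ (Submodule.subtype_injective _) (Submodule.mkQ_surjective _)
    (LinearMap.exact_subtype_mkQ _)
  have hr : Module.length R (LinearMap.range (mulx x N)) ≠ ⊤ := by
    intro htop
    rw [htop, add_top] at e1
    exact h e1
  rw [e1] at e2
  have e3 : Module.length R (N ⧸ LinearMap.range (mulx x N)) = Module.length R (K x N) := by
    apply ENat.add_right_injective_of_ne_top hr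
    change Module.length R (LinearMap.range (mulx x N)) + _ =
      Module.length R (LinearMap.range (mulx x N)) + _
    rw [← e2, add_comm]
  rw [← e3]
  have := range_mulx x N
  rw [← this]

variable [IsNoetherianRing R] [IsLocalRing R]

section step

variable (x : R) (Z : Set (PrimeSpectrum R)) (T : Finset (PrimeSpectrum R))
  (hT : ∀ p, p ∈ T ↔ (p ∈ Z ∧ p.asIdeal ≠ maximalIdeal R))
  (hA : ∀ p ∈ Z, x ∈ p.asIdeal → p.asIdeal = maximalIdeal R)

include hT hA in
theorem step {N₁ N₂ N₃ : Type u} [AddCommGroup N₁] [Module R N₁] [Module.Finite R N₁]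
    [AddCommGroup N₂] [Module R N₂] [Module.Finite R N₂]
    [AddCommGroup N₃] [Module R N₃] [Module.Finite R N₃]
    (f : N₁ →ₗ[R] N₂) (g : N₂ →ₗ[R] N₃)
    (hf : Injective f) (hg : Surjective g) (H : Exact f g) (hN : Module.support R N₂ ⊆ Z)
    (F1 : Module.length R (N₁ ⧸ x • (⊤ : Submodule R N₁)) = Module.length R (K x N₁) + S x N₁)
    (F3 : Module.length R (N₃ ⧸ x • (⊤ : Submodule R N₃)) = Module.length R (K x N₃) + S x N₃) :
    Module.length R (N₂ ⧸ x • (⊤ : Submodule R N₂)) = Module.length R (K x N₂) + S x N₂ := by
  have hN1 : Module.support R N₁ ⊆ Z := (Module.support_subset_of_injective f hf).trans hN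
  have hN3 : Module.support R N₃ ⊆ Z := (Module.support_subset_of_surjective g hg).trans hN
  have hk1 := length_K_ne_top x Z hA N₁ hN1
  have hk3 := length_K_ne_top x Z hA N₃ hN3
  have hsn := snake_length x f g hf hg H
  have hS := S_exact x Z T hT f g hf hg H hN
  have hne : Module.length R (K x N₁) + Module.length R (K x N₃) ≠ ⊤ :=
    WithTop.add_ne_top.mpr ⟨hk1, hk3⟩
  apply ENat.add_right_injective_of_ne_top hne
  change (Module.length R (K x N₁) + Module.length R (K x N₃)) + _ =
    (Module.length R (K x N₁) + Module.length R (K x N₃)) + _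
  rw [hsn, F1, F3, hS]
  ring

end step

section base

variable (x : R)

theorem support_quotient_ideal (I : Ideal R) :
    Module.support R (R ⧸ I) = PrimeSpectrum.zeroLocus (I : Set R) := by
  rw [Module.support_eq_zeroLocus, Ideal.annihilator_quotient]

theorem formula_subsingleton (N : Type u) [AddCommGroup N] [Module R N] [Subsingleton N] :
    Module.length R (N ⧸ x • (⊤ : Submodule R N)) = Module.length R (K x N) + S x N := by
  have h1 : Module.length R (N ⧸ x • (⊤ : Submodule R N)) = 0 := Module.length_eq_zero
  have h2 : Module.length R (K x N) = 0 := Module.length_eq_zero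
  have h3 : S x N = 0 := by
    unfold S
    refine finsum_mem_eq_zero_of_forall_eq_zero
      (s := {p | p ∈ Module.support R N ∧ p.asIdeal ≠ maximalIdeal R}) (fun p h => ?_)
    have := h.1
    rw [Module.support_eq_empty] at this
    exact absurd this (Set.notMem_empty p)
  rw [h1, h2, h3, add_zero]

theorem formula_residue :
    Module.length R ((R ⧸ maximalIdeal R) ⧸ x • (⊤ : Submodule R (R ⧸ maximalIdeal R))) =
      Module.length R (K x (R ⧸ maximalIdeal R)) + S x (R ⧸ maximalIdeal R) := by
  have hsimple : IsSimpleModule R (R ⧸ maximalIdeal R) :=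
    isSimpleModule_iff_isCoatom.mpr (Ideal.isMaximal_def.mp (maximalIdeal.isMaximal R))
  have hlen : Module.length R (R ⧸ maximalIdeal R) ≠ ⊤ := by
    rw [Module.length_eq_one]
    exact ENat.one_ne_top
  have h3 : S x (R ⧸ maximalIdeal R) = 0 := by
    unfold S
    refine finsum_mem_eq_zero_of_forall_eq_zero
      (s := {p | p ∈ Module.support R (R ⧸ maximalIdeal R) ∧ p.asIdeal ≠ maximalIdeal R})
      (fun p h => ?_)
    exfalso
    have h1 := h.1
    rw [support_quotient_ideal, PrimeSpectrum.mem_zeroLocus] at h1
    exact h.2 ((maximalIdeal.isMaximal R).eq_of_le p.2.ne_top h1).symm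
  rw [h3, add_zero]
  exact length_C_eq_length_K x _ hlen

end base

end Groth.Agent.Lib.Helper26.LenC
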