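import Mathlib
import Groth.Agent.Lib.Helper26.LenC

universe u

namespace Groth.Agent.Lib.Helper26.LenD

open Function IsLocalRing Groth.Agent.Lib.Helper26.LenA Groth.Agent.Lib.Helper26.LenB
  Groth.Agent.Lib.Helper26.LenC Groth.Agent.Lib.Helper26.CycSeq1
open scoped Pointwise

variable {R : Type u} [CommRing R] [IsNoetherianRing R] [IsLocalRing R]

section prime

variable (x : R) (Z : Set (PrimeSpectrum R)) (T : Finset (PrimeSpectrum R))
  (hT : ∀ p, p ∈ T ↔ (p ∈ Z ∧ p.asIdeal ≠ maximalIdeal R))
  (hA : ∀ p ∈ Z, x ∈ p.asIdeal → p.asIdeal = maximalIdeal R)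
  (hB : ∀ q ∈ Z, ∀ p ∈ Z, q < p → p.asIdeal = maximalIdeal R)
  (hZup : ∀ p ∈ Z, ∀ q : PrimeSpectrum R, p ≤ q → q ∈ Z)

omit [IsNoetherianRing R] [IsLocalRing R] in
theorem length_C_quot_eq_ord (p : Ideal R) :
    Module.length R ((R ⧸ p) ⧸ x • (⊤ : Submodule R (R ⧸ p))) =
      Ring.ord (R ⧸ p) (Ideal.Quotient.mk p x) := by
  unfold Ring.ord
  have heq : x • (⊤ : Submodule R (R ⧸ p)) =
      (Ideal.span {Ideal.Quotient.mk p x} : Submodule (R ⧸ p) (R ⧸ p)).restrictScalars R := by
    ext a
    rw [Submodule.mem_smul_pointwise_iff_exists, Submodule.restrictScalars_mem,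
      Ideal.mem_span_singleton']
    constructor
    · rintro ⟨b, -, rfl⟩
      refine ⟨b, ?_⟩
      rw [Algebra.smul_def, mul_comm]
      rfl
    · rintro ⟨b, rfl⟩
      refine ⟨b, Submodule.mem_top, ?_⟩
      rw [Algebra.smul_def, mul_comm]
      rfl
  have e1 := Submodule.quotEquivOfEq _ _ heq
  have e2 := Submodule.Quotient.restrictScalarsEquiv R
    (Ideal.span {Ideal.Quotient.mk p x} : Submodule (R ⧸ p) (R ⧸ p))
  rw [(e1.trans e2).length_eq]
  exact Module.length_eq_of_surjective (S := R) (R := R ⧸ p) Ideal.Quotient.mk_surjective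

include hT hA hB hZup in
theorem formula_prime (p : PrimeSpectrum R) (hpZ : p ∈ Z) (hpm : p.asIdeal ≠ maximalIdeal R) :
    Module.length R ((R ⧸ p.asIdeal) ⧸ x • (⊤ : Submodule R (R ⧸ p.asIdeal))) =
      Module.length R (K x (R ⧸ p.asIdeal)) + S x (R ⧸ p.asIdeal) := by
  have hx : x ∉ p.asIdeal := fun h => hpm (hA p hpZ h)
  have hK : K x (R ⧸ p.asIdeal) = ⊥ := by
    rw [K, LinearMap.ker_eq_bot']
    intro n hn
    obtain ⟨r, rfl⟩ := Ideal.Quotient.mk_surjective n
    have h1 : Ideal.Quotient.mk p.asIdeal (x * r) = 0 := by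
      rw [← hn]
      rfl
    rw [Ideal.Quotient.eq_zero_iff_mem] at h1 ⊢
    exact (p.2.mem_or_mem h1).resolve_left hx
  have hsupp : Module.support R (R ⧸ p.asIdeal) ⊆ Z := by
    intro q hq
    rw [support_quotient_ideal, PrimeSpectrum.mem_zeroLocus] at hq
    exact hZup p hpZ q hq
  have hS : S x (R ⧸ p.asIdeal) = Ring.ord (R ⧸ p.asIdeal) (Ideal.Quotient.mk p.asIdeal x) := by
    rw [S_eq_sum x Z T hT _ hsupp,
      Finset.sum_eq_single_of_mem p ((hT p).mpr ⟨hpZ, hpm⟩)]
    · rw [Sterm_eq, ell_quot_self, mul_one]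
    · intro q hq hqp
      by_contra hne
      have hq' := mem_support_of_Sterm_ne_zero x _ q hne
      rw [support_quotient_ideal, PrimeSpectrum.mem_zeroLocus] at hq'
      have hlt : p < q := lt_of_le_of_ne hq' (Ne.symm hqp)
      exact ((hT q).mp hq).2 (hB p hpZ q ((hT q).mp hq).1 hlt)
  rw [hK, Module.length_bot, zero_add, hS]
  exact length_C_quot_eq_ord x p.asIdeal

end prime

theorem main (R : Type u) [CommRing R] [IsNoetherianRing R] [IsLocalRing R] (M : Type u)
    [AddCommGroup M] [Module R M] [Module.Finite R M] (x : R)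
    (h1 : Module.supportDim R M ≤ 1)
    (h0 : Module.supportDim R (M ⧸ x • (⊤ : Submodule R M)) ≤ 0) :
    Module.length R (M ⧸ x • (⊤ : Submodule R M)) =
      Module.length R (LinearMap.ker (LinearMap.lsmul R M x)) +
        ∑ᶠ (p : PrimeSpectrum R)
          (_ : p ∈ Module.support R M ∧ p.asIdeal ≠ IsLocalRing.maximalIdeal R),
          Ring.ord (R ⧸ p.asIdeal) (Ideal.Quotient.mk p.asIdeal x) *
            Module.length (Localization.AtPrime p.asIdeal)
              (LocalizedModule p.asIdeal.primeCompl M) := by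
  have hA : ∀ p ∈ Module.support R M, x ∈ p.asIdeal → p.asIdeal = maximalIdeal R := by
    intro p hp hxp
    refine eq_maximal_of_supportDim_le_zero (M ⧸ x • (⊤ : Submodule R M)) h0 p ?_
    change p ∈ Module.support R (QuotSMulTop x M)
    rw [Module.support_quotSMulTop]
    refine ⟨hp, ?_⟩
    rw [PrimeSpectrum.mem_zeroLocus, Set.singleton_subset_iff]
    exact hxp
  have hB := eq_maximal_of_lt_of_supportDim_le_one M h1
  have hZup : ∀ p ∈ Module.support R M, ∀ q : PrimeSpectrum R, p ≤ q →
      q ∈ Module.support R M := fun p hp q hpq => Module.mem_support_mono hpq hp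
  have hfin := finite_nonmaximal_support M hB
  have hT : ∀ p, p ∈ hfin.toFinset ↔
      (p ∈ Module.support R M ∧ p.asIdeal ≠ maximalIdeal R) := fun p => by
    rw [Set.Finite.mem_toFinset]; rfl
  have key : ∀ (N : Type u) [AddCommGroup N] [Module R N] [Module.Finite R N],
      Module.support R N ⊆ Module.support R M →
      Module.length R (N ⧸ x • (⊤ : Submodule R N)) = Module.length R (K x N) + S x N := by
    intro N _ _ hN
    induction hN using IsNoetherianRing.induction_on_isQuotientEquivQuotientPrime R with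
    | subsingleton N => intro _; exact formula_subsingleton x N
    | quotient N p e =>
      intro hsub
      have hsupp : Module.support R (R ⧸ p.asIdeal) ⊆ Module.support R M := by
        rw [← e.support_eq]; exact hsub
      have hpZ : p ∈ Module.support R M := by
        apply hsupp
        rw [support_quotient_ideal, PrimeSpectrum.mem_zeroLocus]
      have F1 : Module.length R ((R ⧸ p.asIdeal) ⧸ x • (⊤ : Submodule R (R ⧸ p.asIdeal))) =
          Module.length R (K x (R ⧸ p.asIdeal)) + S x (R ⧸ p.asIdeal) := by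
        by_cases hpm : p.asIdeal = maximalIdeal R
        · rw [hpm]; exact formula_residue x
        · exact formula_prime x _ _ hT hA hB hZup p hpZ hpm
      have F3 := formula_subsingleton x PUnit.{u+1}
      refine step x _ _ hT hA (e.symm : (R ⧸ p.asIdeal) →ₗ[R] N) (0 : N →ₗ[R] PUnit.{u+1})
        e.symm.injective (fun _ => ⟨0, Subsingleton.elim _ _⟩) ?_ hsub F1 F3
      intro n
      constructor
      · intro _
        exact ⟨e n, e.symm_apply_apply n⟩
      · intro _
        rfl
    | exact N₁ N₂ N₃ f g hf hg H ih1 ih3 =>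
      intro hsub
      exact step x _ _ hT hA f g hf hg H hsub
        (ih1 ((Module.support_subset_of_injective f hf).trans hsub))
        (ih3 ((Module.support_subset_of_surjective g hg).trans hsub))
  exact key M subset_rfl

end Groth.Agent.Lib.Helper26.LenD
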