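import Mathlib
import Groth.Agent.Lib.Helper26.LenD

universe u

namespace Groth.Agent.Lib.Helper26.LenE

open Function IsLocalRing Groth.Agent.Lib.Helper26.LenA Groth.Agent.Lib.Helper26.LenB
  Groth.Agent.Lib.Helper26.LenC Groth.Agent.Lib.Helper26.LenD Groth.Agent.Lib.Helper26.CycSeq1
open scoped Pointwise

section general

variable {A : Type*} [CommRing A] {M : Type*} [AddCommGroup M] [Module A M]

/-- colength additivity for `x • T ≤ T ≤ M`. -/
theorem colength_add (x : A) (T : Submodule A M) :
    Module.length A (M ⧸ x • T) =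
      Module.length A (M ⧸ T) + Module.length A (↥T ⧸ x • (⊤ : Submodule A ↥T)) := by
  have hle : x • T ≤ T := by
    intro m hm
    obtain ⟨t, ht, rfl⟩ := (Submodule.mem_smul_pointwise_iff_exists _ _ _).mp hm
    exact T.smul_mem x ht
  have hcomap : x • (⊤ : Submodule A ↥T) ≤ (x • T).comap T.subtype := by
    intro t ht
    obtain ⟨t', -, rfl⟩ := (Submodule.mem_smul_pointwise_iff_exists _ _ _).mp ht
    rw [Submodule.mem_comap, map_smul]
    exact Submodule.smul_mem_pointwise_smul _ _ _ t'.2
  have hinj : Injective (Submodule.mapQ _ _ T.subtype hcomap) := by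
    rw [← LinearMap.ker_eq_bot, LinearMap.ker_eq_bot']
    intro c hc
    obtain ⟨t, rfl⟩ := Submodule.mkQ_surjective _ c
    rw [Submodule.mkQ_apply, Submodule.mapQ_apply, Submodule.Quotient.mk_eq_zero] at hc
    obtain ⟨t', ht', htt'⟩ := (Submodule.mem_smul_pointwise_iff_exists _ _ _).mp hc
    rw [Submodule.mkQ_apply, Submodule.Quotient.mk_eq_zero]
    rw [Submodule.mem_smul_pointwise_iff_exists]
    exact ⟨⟨t', ht'⟩, Submodule.mem_top, Subtype.ext htt'⟩
  have hex : Exact (Submodule.mapQ _ _ T.subtype hcomap) (Submodule.factor hle) := by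
    intro c
    constructor
    · intro hc
      obtain ⟨m, rfl⟩ := Submodule.mkQ_surjective _ c
      rw [Submodule.factor_mk, Submodule.mkQ_apply, Submodule.Quotient.mk_eq_zero] at hc
      exact ⟨Submodule.mkQ _ ⟨m, hc⟩, rfl⟩
    · rintro ⟨c', rfl⟩
      obtain ⟨t, rfl⟩ := Submodule.mkQ_surjective _ c'
      rw [Submodule.mkQ_apply, Submodule.mapQ_apply]
      change Submodule.factor hle (Submodule.mkQ _ (t : M)) = 0
      rw [Submodule.factor_mk, Submodule.mkQ_apply, Submodule.Quotient.mk_eq_zero]
      exact t.2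
  have hsurj : Surjective (Submodule.factor hle) := by
    intro c
    obtain ⟨m, rfl⟩ := Submodule.mkQ_surjective _ c
    exact ⟨Submodule.mkQ _ m, Submodule.factor_mk hle m⟩
  rw [Module.length_eq_add_of_exact _ _ hinj hsurj hex, add_comm]

theorem K_eq_bot_of_regular (x : A) (hx : IsSMulRegular M x) (T : Submodule A M) :
    K x ↥T = ⊥ := by
  rw [K, LinearMap.ker_eq_bot']
  intro t ht
  apply Subtype.ext
  apply hx
  have : x • (t : M) = 0 := congrArg Subtype.val ht
  simpa using this

end general

section ell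

variable {A : Type u} [CommRing A] {M : Type u} [AddCommGroup M] [Module A M]

theorem ell_submodule_eq (q : Ideal A) [q.IsPrime] (s : A) (hs : s ∉ q) (T : Submodule A M)
    (hT : s • (⊤ : Submodule A M) ≤ T) : ell q ↥T = ell q M := by
  have : Subsingleton (LocalizedModule q.primeCompl (M ⧸ T)) := by
    rw [LocalizedModule.subsingleton_iff]
    intro c
    obtain ⟨m, rfl⟩ := Submodule.mkQ_surjective _ c
    refine ⟨s, hs, ?_⟩
    rw [← map_smul, Submodule.mkQ_apply, Submodule.Quotient.mk_eq_zero]
    exact hT (Submodule.smul_mem_pointwise_smul _ _ _ Submodule.mem_top)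
  rw [ell_quotient q M T, ell_eq_zero_of_subsingleton q (M ⧸ T), add_zero]

end ell

section dimone

variable {A : Type u} [CommRing A] [IsNoetherianRing A] [IsLocalRing A]
  (hA : ringKrullDim A = 1)

theorem notMem_of_mem_minimalPrimes {x : A} (hx : x ∈ nonZeroDivisors A) {p : Ideal A}
    (hp : p ∈ minimalPrimes A) : x ∉ p := fun h =>
  Set.disjoint_left.mp (Ideal.disjoint_nonZeroDivisors_of_mem_minimalPrimes hp) h hx

theorem mem_support_self (p : PrimeSpectrum A) : p ∈ Module.support A A := by
  rw [Module.mem_support_iff_of_finite, Module.annihilator_eq_bot.mpr inferInstance]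
  exact bot_le

include hA in
theorem eq_maximal_of_not_minimal (p : PrimeSpectrum A) (hp : p.asIdeal ∉ minimalPrimes A) :
    p.asIdeal = maximalIdeal A := by
  obtain ⟨q, hq, hqp⟩ := Ideal.exists_minimalPrimes_le (bot_le : (⊥ : Ideal A) ≤ p.asIdeal)
  have hqprime : q.IsPrime := hq.1.1
  have hne : q ≠ p.asIdeal := fun h => hp (h ▸ hq)
  have hlt : (⟨q, hqprime⟩ : PrimeSpectrum A) < p := lt_of_le_of_ne hqp (fun h => hne (by rw [← h]))
  have h1 : Module.supportDim A A ≤ 1 := by
    rw [Module.supportDim_self_eq_ringKrullDim, hA]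
  exact eq_maximal_of_lt_of_supportDim_le_one A h1 _ (mem_support_self _) p (mem_support_self _) hlt

include hA in
theorem ne_maximal_of_minimal (p : PrimeSpectrum A) (hp : p.asIdeal ∈ minimalPrimes A) :
    p.asIdeal ≠ maximalIdeal A := by
  intro hpm
  have hsub : Subsingleton (PrimeSpectrum A) := by
    refine ⟨fun p₁ p₂ => ?_⟩
    have key : ∀ p' : PrimeSpectrum A, p'.asIdeal = maximalIdeal A := by
      intro p'
      have hle : p'.asIdeal ≤ p.asIdeal := by
        rw [hpm]; exact IsLocalRing.le_maximalIdeal p'.2.ne_top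
      have := hp.2 ⟨p'.2, bot_le⟩ hle
      rw [← hpm]
      exact le_antisymm hle this
    exact PrimeSpectrum.ext ((key p₁).trans (key p₂).symm)
  have : ringKrullDim A ≤ 0 := Order.krullDim_nonpos_of_subsingleton
  rw [hA] at this
  exact absurd this (by norm_num)

include hA in
theorem supportDim_quot_le_zero {x : A} (hx : x ∈ nonZeroDivisors A)
    (N : Type*) [AddCommGroup N] [Module A N] [Module.Finite A N] :
    Module.supportDim A (N ⧸ x • (⊤ : Submodule A N)) ≤ 0 := by
  rw [Module.supportDim, Order.krullDim_nonpos_iff_forall_isMax]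
  rintro ⟨p, hp⟩ ⟨p', hp'⟩ _
  have hp2 : p ∈ Module.support A (QuotSMulTop x N) := hp
  rw [Module.support_quotSMulTop] at hp2
  have hxp : x ∈ p.asIdeal := by
    have := hp2.2
    rw [PrimeSpectrum.mem_zeroLocus, Set.singleton_subset_iff] at this
    exact this
  have hpm : p.asIdeal = maximalIdeal A :=
    eq_maximal_of_not_minimal hA p (fun hmin => notMem_of_mem_minimalPrimes hx hmin hxp)
  change p' ≤ p
  change p'.asIdeal ≤ p.asIdeal
  rw [hpm]
  exact IsLocalRing.le_maximalIdeal p'.2.ne_top

include hA in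
/-- the length formula for a regular element -/
theorem formula_regular {x : A} (hx : x ∈ nonZeroDivisors A)
    (N : Type u) [AddCommGroup N] [Module A N] [Module.Finite A N]
    (hK : K x N = ⊥) :
    Module.length A (N ⧸ x • (⊤ : Submodule A N)) =
      ∑ᶠ (q : PrimeSpectrum A) (_ : q.asIdeal ∈ minimalPrimes A),
        Ring.ord (A ⧸ q.asIdeal) (Ideal.Quotient.mk q.asIdeal x) * ell q.asIdeal N := by
  have h1 : Module.supportDim A N ≤ 1 := by
    rw [← hA]; exact Module.supportDim_le_ringKrullDim A N
  have h0 := supportDim_quot_le_zero hA hx N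
  have hmain := LenD.main A N x h1 h0
  have hK' : Module.length A (LinearMap.ker (LinearMap.lsmul A N x)) = 0 := by
    change Module.length A (K x N) = 0
    rw [hK, Module.length_bot]
  rw [hmain, hK', zero_add]
  refine finsum_mem_inter_support_eq (Sterm x N)
    {p | p ∈ Module.support A N ∧ p.asIdeal ≠ maximalIdeal A}
    {q | q.asIdeal ∈ minimalPrimes A} ?_
  ext p
  constructor
  · rintro ⟨⟨h1, h2⟩, h3⟩
    refine ⟨?_, h3⟩
    by_contra hmin
    exact h2 (eq_maximal_of_not_minimal hA p hmin)
  · rintro ⟨h1, h3⟩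
    exact ⟨⟨mem_support_of_Sterm_ne_zero x N p h3, ne_maximal_of_minimal hA p h1⟩, h3⟩

end dimone

end Groth.Agent.Lib.Helper26.LenE
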