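import Mathlib
import Groth.Prelude.Def_Tame
import Groth.Agent.Lib.Helper26.LenE

universe u

namespace Groth.Agent.Lib.Helper26.LenF

open Function IsLocalRing Groth.Agent.Lib.Helper26.LenA Groth.Agent.Lib.Helper26.LenB
  Groth.Agent.Lib.Helper26.LenC Groth.Agent.Lib.Helper26.LenD Groth.Agent.Lib.Helper26.LenE
  Groth.Agent.Lib.Helper26.CycSeq1
open scoped Pointwise

variable {A : Type u} [CommRing A] [IsNoetherianRing A] [IsLocalRing A]

theorem ell_ne_top (q : Ideal A) [q.IsPrime] (hq : q ∈ minimalPrimes A)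
    (M : Type u) [AddCommGroup M] [Module A M] [Module.Finite A M] : ell q M ≠ ⊤ := by
  unfold ell
  have hdim : Ring.KrullDimLE 0 (Localization.AtPrime q) := by
    rw [Ring.krullDimLE_iff, IsLocalization.AtPrime.ringKrullDim_eq_height q,
      Ideal.height_eq_zero_iff.mpr hq]
    rfl
  have : IsArtinianRing (Localization.AtPrime q) := isArtinianRing_iff_krullDimLE_zero.mpr hdim
  rw [Module.length_ne_top_iff]
  exact isFiniteLength_iff_isNoetherian_isArtinian.mpr ⟨inferInstance, inferInstance⟩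

section ordfrac

variable (hA : ringKrullDim A = 1)

include hA in
theorem krullDimLE_quot (q : Ideal A) : Ring.KrullDimLE 1 (A ⧸ q) := by
  rw [Ring.krullDimLE_iff]
  exact (ringKrullDim_quotient_le q).trans (by rw [hA]; rfl)

include hA in
theorem ord_ne_top (q : Ideal A) [q.IsPrime] {a : A} (ha : a ∉ q) :
    Ring.ord (A ⧸ q) (Ideal.Quotient.mk q a) ≠ ⊤ := by
  have := krullDimLE_quot hA q
  apply Ring.ord_ne_top
  rw [mem_nonZeroDivisors_iff_ne_zero, Ne, Ideal.Quotient.eq_zero_iff_mem]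
  exact ha

include hA in
theorem ordFrac_eq (q : Ideal A) [q.IsPrime] {a b : A} (ha : a ∉ q) (hb : b ∉ q) :
    CycAlg.ordFrac (A ⧸ q) q.ResidueField
        (algebraMap A q.ResidueField a / algebraMap A q.ResidueField b) =
      ((Ring.ord (A ⧸ q) (Ideal.Quotient.mk q a)).toNat : ℤ) -
        ((Ring.ord (A ⧸ q) (Ideal.Quotient.mk q b)).toNat : ℤ) := by
  have hK := krullDimLE_quot hA q
  have hcond : IsNoetherianRing (A ⧸ q) ∧ Ring.KrullDimLE 1 (A ⧸ q) ∧ Nontrivial (A ⧸ q) ∧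
      IsFractionRing (A ⧸ q) q.ResidueField := ⟨inferInstance, hK, inferInstance, inferInstance⟩
  have ha0 : Ideal.Quotient.mk q a ≠ 0 := by
    rw [Ne, Ideal.Quotient.eq_zero_iff_mem]; exact ha
  have hb0 : Ideal.Quotient.mk q b ≠ 0 := by
    rw [Ne, Ideal.Quotient.eq_zero_iff_mem]; exact hb
  have hanzd : Ideal.Quotient.mk q a ∈ nonZeroDivisors (A ⧸ q) :=
    mem_nonZeroDivisors_iff_ne_zero.mpr ha0
  have hbnzd : Ideal.Quotient.mk q b ∈ nonZeroDivisors (A ⧸ q) :=
    mem_nonZeroDivisors_iff_ne_zero.mpr hb0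
  unfold CycAlg.ordFrac
  rw [dif_pos hcond]
  change WithZero.log (Ring.ordFrac (A ⧸ q) _) = _
  rw [IsScalarTower.algebraMap_apply A (A ⧸ q) q.ResidueField a,
    IsScalarTower.algebraMap_apply A (A ⧸ q) q.ResidueField b, map_div₀,
    Ideal.Quotient.algebraMap_eq, Ring.ordFrac_eq_ord (A ⧸ q) ha0,
    Ring.ordFrac_eq_ord (A ⧸ q) hb0,
    Ring.ordMonoidWithZeroHom_eq_coe (A ⧸ q) hanzd (ENat.natCast_toNat (ord_ne_top hA q ha)).symm,
    Ring.ordMonoidWithZeroHom_eq_coe (A ⧸ q) hbnzd (ENat.natCast_toNat (ord_ne_top hA q hb)).symm]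
  change WithZero.log (WithZero.exp _ / WithZero.exp _) = _
  rw [← WithZero.exp_sub, WithZero.log_exp]

end ordfrac

end Groth.Agent.Lib.Helper26.LenF
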