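import Mathlib
import Groth.Prelude.Def_Tame
import Groth.Agent.Lib.Helper26.LenF

universe u

namespace Groth.Agent.Lib.Helper26.LenG

open Function IsLocalRing Groth.Agent.Lib.Helper26.LenA Groth.Agent.Lib.Helper26.LenB
  Groth.Agent.Lib.Helper26.LenC Groth.Agent.Lib.Helper26.LenD Groth.Agent.Lib.Helper26.LenE
  Groth.Agent.Lib.Helper26.LenF Groth.Agent.Lib.Helper26.CycSeq1
open scoped Pointwise

variable {A : Type u} [CommRing A] [IsNoetherianRing A] [IsLocalRing A]

theorem finite_minimal :
    {q : PrimeSpectrum A | q.asIdeal ∈ minimalPrimes A}.Finite := by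
  have hfin := Ideal.finite_minimalPrimes_of_isNoetherianRing A (⊥ : Ideal A)
  refine (hfin.preimage (f := PrimeSpectrum.asIdeal) ?_).subset ?_
  · intro p _ q _ hpq
    exact PrimeSpectrum.ext hpq
  · intro p hp
    exact hp

theorem finsum_min_eq {β : Type*} [AddCommMonoid β] (f : PrimeSpectrum A → β) :
    ∑ᶠ (q : PrimeSpectrum A) (_ : q.asIdeal ∈ minimalPrimes A), f q =
      ∑ q ∈ (finite_minimal (A := A)).toFinset, f q :=
  finsum_mem_eq_finite_toFinset_sum f finite_minimal

theorem length_quot_ne_top (hA : ringKrullDim A = 1) {M : Type u} [AddCommGroup M] [Module A M]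
    [Module.Finite A M] {x : A} (hx : x ∈ nonZeroDivisors A) (T : Submodule A M)
    (hT : x • (⊤ : Submodule A M) ≤ T) : Module.length A (M ⧸ T) ≠ ⊤ := by
  have h0 := supportDim_quot_le_zero hA hx M
  have hfl : IsFiniteLength A (M ⧸ x • (⊤ : Submodule A M)) := by
    apply isFiniteLength_of_support
    intro p hp
    rw [eq_maximal_of_supportDim_le_zero _ h0 p hp]
    infer_instance
  have hsurj : Surjective (Submodule.factor hT) := by
    intro c
    obtain ⟨m, rfl⟩ := Submodule.mkQ_surjective _ c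
    exact ⟨Submodule.mkQ _ m, Submodule.factor_mk hT m⟩
  rw [Module.length_ne_top_iff]
  exact hfl.of_surjective hsurj

theorem main (hA : ringKrullDim A = 1) {M : Type u} [AddCommGroup M] [Module A M]
    [Module.Finite A M] (a b : A) (ha : a ∈ nonZeroDivisors A) (hb : b ∈ nonZeroDivisors A)
    (hMemb : ∀ p ∈ associatedPrimes A M, p ∈ minimalPrimes A)
    (I : Ideal A) (hI : I = (Ideal.span {b}).colon (Ideal.span {a})) (P : Submodule A M)
    (hP : P = Submodule.comap (LinearMap.lsmul A M b)
      ((Ideal.span {a} * I) • (⊤ : Submodule A M))) :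
    (Ideal.span {a} * I) • (⊤ : Submodule A M) ≤ LinearMap.range (LinearMap.lsmul A M b) ∧
    ((Module.length A (M ⧸ P)).toNat : ℤ) -
        ((Module.length A (M ⧸ I • (⊤ : Submodule A M))).toNat : ℤ) =
      ∑ᶠ (q : PrimeSpectrum A) (_ : q.asIdeal ∈ minimalPrimes A),
        ((Module.length (Localization.AtPrime q.asIdeal)
          (LocalizedModule q.asIdeal.primeCompl M)).toNat : ℤ) *
          CycAlg.ordFrac (A ⧸ q.asIdeal) q.asIdeal.ResidueField
            (algebraMap A q.asIdeal.ResidueField a / algebraMap A q.asIdeal.ResidueField b) := by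
  -- basic facts about I
  have hIa : ∀ y ∈ I, y * a ∈ Ideal.span {b} := by
    intro y hy
    rw [hI, Submodule.mem_colon] at hy
    have := hy a (Ideal.mem_span_singleton_self a)
    simpa [smul_eq_mul] using this
  have hbI : b ∈ I := by
    rw [hI, Submodule.mem_colon]
    intro p _
    rw [smul_eq_mul]
    exact Ideal.mul_mem_right p _ (Ideal.mem_span_singleton_self b)
  have hmul : Ideal.span {a} * I ≤ Ideal.span {b} := by
    rw [Ideal.mul_le]
    intro r hr s hs
    obtain ⟨c, rfl⟩ := Ideal.mem_span_singleton'.mp hr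
    have := Ideal.mul_mem_left _ c (hIa s hs)
    convert this using 1
    ring
  have hQle : (Ideal.span {a} * I) • (⊤ : Submodule A M) ≤
      LinearMap.range (LinearMap.lsmul A M b) := by
    rw [Submodule.smul_le]
    intro r hr n _
    obtain ⟨d, rfl⟩ := Ideal.mem_span_singleton'.mp (hmul hr)
    exact ⟨d • n, by simp [smul_smul, mul_comm]⟩
  refine ⟨hQle, ?_⟩
  -- regularity
  have hreg : ∀ x ∈ nonZeroDivisors A, IsSMulRegular M x := by
    intro x hx
    by_contra h
    have hmem : x ∈ {r : A | IsSMulRegular M r}ᶜ := h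
    rw [← biUnion_associatedPrimes_eq_compl_regular A M] at hmem
    obtain ⟨p, hp, hxp⟩ := Set.mem_iUnion₂.mp hmem
    exact notMem_of_mem_minimalPrimes hx (hMemb p hp) hxp
  -- the submodules
  have hT₁ : a • (I • (⊤ : Submodule A M)) = (Ideal.span {a} * I) • (⊤ : Submodule A M) := by
    rw [Submodule.mul_smul, Submodule.ideal_span_singleton_smul]
  have hPb : b • P = (Ideal.span {a} * I) • (⊤ : Submodule A M) := by
    ext m
    rw [Submodule.mem_smul_pointwise_iff_exists]
    constructor
    · rintro ⟨p, hp, rfl⟩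
      rw [hP, Submodule.mem_comap] at hp
      exact hp
    · intro hm
      obtain ⟨n, rfl⟩ := hQle hm
      refine ⟨n, ?_, rfl⟩
      rw [hP, Submodule.mem_comap]
      exact hm
  have hbT : b • (⊤ : Submodule A M) ≤ I • (⊤ : Submodule A M) := by
    intro m hm
    obtain ⟨n, -, rfl⟩ := (Submodule.mem_smul_pointwise_iff_exists _ _ _).mp hm
    exact Submodule.smul_mem_smul hbI Submodule.mem_top
  have haP : a • (⊤ : Submodule A M) ≤ P := by
    intro m hm
    obtain ⟨n, -, rfl⟩ := (Submodule.mem_smul_pointwise_iff_exists _ _ _).mp hm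
    rw [hP, Submodule.mem_comap]
    change b • a • n ∈ _
    rw [smul_smul, mul_comm b a]
    exact Submodule.smul_mem_smul (Ideal.mul_mem_mul (Ideal.mem_span_singleton_self a) hbI)
      Submodule.mem_top
  -- colength additivity
  have c1 := colength_add a (I • (⊤ : Submodule A M))
  rw [hT₁] at c1
  have c2 := colength_add b P
  rw [hPb] at c2
  -- the formula for the two submodules
  have f1 := formula_regular hA ha ↥(I • (⊤ : Submodule A M))
    (K_eq_bot_of_regular a (hreg a ha) _)
  have f2 := formula_regular hA hb ↥P (K_eq_bot_of_regular b (hreg b hb) _)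
  have hfin := finite_minimal (A := A)
  rw [finsum_min_eq] at f1 f2
  have hmemT : ∀ q ∈ hfin.toFinset, q.asIdeal ∈ minimalPrimes A := fun q hq =>
    (Set.Finite.mem_toFinset hfin).mp hq
  have f1' : Module.length A (↥(I • (⊤ : Submodule A M)) ⧸
      a • (⊤ : Submodule A ↥(I • (⊤ : Submodule A M)))) =
      ∑ q ∈ hfin.toFinset, Ring.ord (A ⧸ q.asIdeal) (Ideal.Quotient.mk q.asIdeal a) *
        ell q.asIdeal M := by
    rw [f1]
    refine Finset.sum_congr rfl (fun q hq => ?_)
    rw [ell_submodule_eq q.asIdeal b (notMem_of_mem_minimalPrimes hb (hmemT q hq)) _ hbT]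
  have f2' : Module.length A (↥P ⧸ b • (⊤ : Submodule A ↥P)) =
      ∑ q ∈ hfin.toFinset, Ring.ord (A ⧸ q.asIdeal) (Ideal.Quotient.mk q.asIdeal b) *
        ell q.asIdeal M := by
    rw [f2]
    refine Finset.sum_congr rfl (fun q hq => ?_)
    rw [ell_submodule_eq q.asIdeal a (notMem_of_mem_minimalPrimes ha (hmemT q hq)) _ haP]
  -- finiteness
  have hTfin := length_quot_ne_top hA hb (I • (⊤ : Submodule A M)) hbT
  have hPfin := length_quot_ne_top hA ha P haP
  -- the equation in ℕ∞
  have hE : Module.length A (M ⧸ I • (⊤ : Submodule A M)) +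
      ∑ q ∈ hfin.toFinset, Ring.ord (A ⧸ q.asIdeal) (Ideal.Quotient.mk q.asIdeal a) *
        ell q.asIdeal M =
      Module.length A (M ⧸ P) +
      ∑ q ∈ hfin.toFinset, Ring.ord (A ⧸ q.asIdeal) (Ideal.Quotient.mk q.asIdeal b) *
        ell q.asIdeal M := by
    rw [← f1', ← f2', ← c1, ← c2]
  -- to natural numbers
  have hsumcast : ∀ x : A, x ∈ nonZeroDivisors A →
      ∑ q ∈ hfin.toFinset, Ring.ord (A ⧸ q.asIdeal) (Ideal.Quotient.mk q.asIdeal x) *
        ell q.asIdeal M =
      ((∑ q ∈ hfin.toFinset, (Ring.ord (A ⧸ q.asIdeal) (Ideal.Quotient.mk q.asIdeal x)).toNat *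
        (ell q.asIdeal M).toNat : ℕ) : ℕ∞) := by
    intro x hx
    rw [Nat.cast_sum]
    refine Finset.sum_congr rfl (fun q hq => ?_)
    rw [Nat.cast_mul,
      ENat.natCast_toNat (LenF.ord_ne_top hA q.asIdeal
        (notMem_of_mem_minimalPrimes hx (hmemT q hq))),
      ENat.natCast_toNat (ell_ne_top q.asIdeal (hmemT q hq) M)]
  rw [hsumcast a ha, hsumcast b hb, ← ENat.natCast_toNat hTfin, ← ENat.natCast_toNat hPfin,
    ← Nat.cast_add, ← Nat.cast_add, Nat.cast_inj] at hE
  -- the final computation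
  rw [finsum_min_eq]
  have hterm : ∀ q ∈ hfin.toFinset,
      ((Module.length (Localization.AtPrime q.asIdeal)
          (LocalizedModule q.asIdeal.primeCompl M)).toNat : ℤ) *
          CycAlg.ordFrac (A ⧸ q.asIdeal) q.asIdeal.ResidueField
            (algebraMap A q.asIdeal.ResidueField a / algebraMap A q.asIdeal.ResidueField b) =
      (((Ring.ord (A ⧸ q.asIdeal) (Ideal.Quotient.mk q.asIdeal a)).toNat *
        (ell q.asIdeal M).toNat : ℕ) : ℤ) -
      (((Ring.ord (A ⧸ q.asIdeal) (Ideal.Quotient.mk q.asIdeal b)).toNat *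
        (ell q.asIdeal M).toNat : ℕ) : ℤ) := by
    intro q hq
    rw [ordFrac_eq hA q.asIdeal (notMem_of_mem_minimalPrimes ha (hmemT q hq))
      (notMem_of_mem_minimalPrimes hb (hmemT q hq))]
    change ((ell q.asIdeal M).toNat : ℤ) * _ = _
    push_cast
    ring
  rw [Finset.sum_congr rfl hterm, Finset.sum_sub_distrib, ← Nat.cast_sum, ← Nat.cast_sum]
  have hE' := congrArg (Nat.cast : ℕ → ℤ) hE
  push_cast at hE' ⊢
  linarith

end Groth.Agent.Lib.Helper26.LenG
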