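import Mathlib

set_option linter.unusedSectionVars false
set_option linter.style.haveILetI false

namespace Groth.Agent.Helper26.LocBij

open IsLocalRing

theorem localRingHom_bijective {R S : Type*} [CommRing R] [CommRing S] [Algebra R S]
    [Module.Finite R S] [FaithfulSMul R S]
    {p : Ideal R} [p.IsPrime] {q : Ideal S} [q.IsPrime] (hq : p.primesOver S = {q})
    (H : ∀ x : Localization.AtPrime q, ∃ a : Localization.AtPrime p,
       x - Localization.localRingHom p q (algebraMap R S) (hq.ge rfl).2.1 a ∈
        p.map (algebraMap R (Localization.AtPrime q))) :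
    Function.Bijective (Localization.localRingHom p q (algebraMap R S) (hq.ge rfl).2.1) := by
  refine ⟨Localization.localRingHom_injective_of_primesOver_eq_singleton hq, ?_⟩
  have hlies : q.LiesOver p := (hq.ge rfl).2
  letI := Localization.AtPrime.algebraOfLiesOver p q
  have hfin : Module.Finite (Localization.AtPrime p) (Localization.AtPrime q) :=
    Localization.finite_of_primesOver_eq_singleton hq
  change Function.Surjective (algebraMap (Localization.AtPrime p) (Localization.AtPrime q))
  change Function.Surjective (Algebra.linearMap _ _)
  rw [← LinearMap.range_eq_top, ← top_le_iff]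
  apply Submodule.le_of_le_smul_of_le_jacobson_bot Module.Finite.fg_top
    (maximalIdeal_le_jacobson _)
  rw [Ideal.smul_top_eq_map]
  rintro x -
  obtain ⟨a, ha⟩ := H x
  rw [← sub_add_cancel x (Localization.localRingHom p q (algebraMap R S) (hq.ge rfl).2.1 a)]
  refine add_mem (Submodule.mem_sup_right ?_) (Submodule.mem_sup_left ⟨a, rfl⟩)
  have hle : p.map (algebraMap R (Localization.AtPrime q)) ≤
      (maximalIdeal (Localization.AtPrime p)).map
        (algebraMap (Localization.AtPrime p) (Localization.AtPrime q)) := by
    rw [← Localization.AtPrime.map_eq_maximalIdeal, Ideal.map_map,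
      ← IsScalarTower.algebraMap_eq]
  exact hle ha

end Groth.Agent.Helper26.LocBij
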