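import Mathlib
import Groth.Agent.Lib.Helper26.LocBij1

set_option linter.unusedSectionVars false
set_option linter.style.haveILetI false

namespace Groth.Agent.Helper26.LocBij

open IsLocalRing

theorem adjoin_bijective (A C : Type*) [CommRing A] [IsLocalRing A]
    [CommRing C] [Algebra A C] [Module.Finite A C] (r : Ideal C) [r.IsMaximal] (u : C)
    (hu₁ : ∀ r' : Ideal C, r'.IsMaximal → r' ≠ r → u ∈ r') (hu₂ : u ∉ r)
    (hu₃ : Subalgebra.toSubmodule (Algebra.adjoin A {algebraMap C (Localization.AtPrime r) u}) ⊔
        Submodule.restrictScalars A (Ideal.map (algebraMap A (Localization.AtPrime r))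
          (IsLocalRing.maximalIdeal A)) = ⊤) :
    Function.Bijective (Localization.localRingHom
      (Ideal.comap (Algebra.adjoin A ({u} : Set C)).val.toRingHom r) r
      (Algebra.adjoin A ({u} : Set C)).val.toRingHom rfl) := by
  set B : Subalgebra A C := Algebra.adjoin A ({u} : Set C) with hB
  have hfin : Module.Finite B C := Module.Finite.of_restrictScalars_finite A B C
  have hint : Algebra.IsIntegral B C := inferInstance
  have hfaith : FaithfulSMul B C :=
    (faithfulSMul_iff_algebraMap_injective B C).mpr Subtype.val_injective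
  set n : Ideal B := Ideal.comap B.val.toRingHom r with hn
  have hnmax : n.IsMaximal := Ideal.isMaximal_comap_of_isIntegral_of_isMaximal (R := B) r
  have hlies : r.LiesOver n := ⟨rfl⟩
  have hq : n.primesOver C = {r} := by
    ext q
    simp only [Set.mem_singleton_iff]
    constructor
    · rintro ⟨hqp, hqo⟩
      by_contra hne
      have hqmax : q.IsMaximal := Ideal.IsMaximal.of_liesOver_isMaximal q n
      have huq : u ∈ q := hu₁ q hqmax hne
      have : (⟨u, Algebra.subset_adjoin (Set.mem_singleton u)⟩ : B) ∈ n := by
        rw [hqo.over]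
        exact huq
      exact hu₂ this
    · rintro rfl
      exact ⟨inferInstance, hlies⟩
  have hmr : ∀ a ∈ maximalIdeal A, algebraMap A C a ∈ r := by
    intro a ha
    have hmax : (r.under A).IsMaximal := Ideal.isMaximal_comap_of_isIntegral_of_isMaximal r
    have : r.under A = maximalIdeal A := IsLocalRing.eq_maximalIdeal hmax
    rw [← this] at ha
    exact ha
  have key := localRingHom_bijective (R := B) (S := C) (p := n) (q := r) hq ?_
  · exact key
  intro x
  have hx : x ∈ Subalgebra.toSubmodule
        (Algebra.adjoin A {algebraMap C (Localization.AtPrime r) u}) ⊔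
        Submodule.restrictScalars A (Ideal.map (algebraMap A (Localization.AtPrime r))
          (IsLocalRing.maximalIdeal A)) := by
    rw [hu₃]; trivial
  obtain ⟨y, hy, z, hz, rfl⟩ := Submodule.mem_sup.mp hx
  let g : B →ₐ[A] Localization.AtPrime r :=
    (IsScalarTower.toAlgHom A C (Localization.AtPrime r)).comp B.val
  have hle : Algebra.adjoin A {algebraMap C (Localization.AtPrime r) u} ≤ g.range := by
    rw [Algebra.adjoin_le_iff]
    rintro _ rfl
    exact ⟨⟨u, Algebra.subset_adjoin (Set.mem_singleton u)⟩, rfl⟩
  obtain ⟨b, rfl⟩ := hle hy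
  refine ⟨algebraMap B (Localization.AtPrime n) b, ?_⟩
  rw [Localization.localRingHom_to_map]
  have h1 : g.toRingHom b = algebraMap C (Localization.AtPrime r) (algebraMap B C b) := rfl
  rw [h1, add_sub_cancel_left]
  have hle2 : Ideal.map (algebraMap A (Localization.AtPrime r)) (maximalIdeal A) ≤
      Ideal.map (algebraMap B (Localization.AtPrime r)) n := by
    rw [Ideal.map_le_iff_le_comap]
    intro a ha
    rw [Ideal.mem_comap, IsScalarTower.algebraMap_apply A B (Localization.AtPrime r)]
    exact Ideal.mem_map_of_mem _ (hmr a ha)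
  exact hle2 hz

end Groth.Agent.Helper26.LocBij
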