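import Mathlib

set_option autoImplicit false

open CategoryTheory CategoryTheory.Limits AlgebraicGeometry

namespace Groth.Agent.Helper26.LocSpec

universe u

/-- A morphism from the spectrum of a local ring whose closed point lands in an open `V`
has range in `V`. -/
theorem range_subset_of_closedPoint_mem {X : Scheme.{u}} (R : Type u) [CommRing R] [IsLocalRing R]
    (φ : Spec (CommRingCat.of R) ⟶ X) (V : X.Opens)
    (h : φ.base (IsLocalRing.closedPoint R) ∈ V) : Set.range φ.base ⊆ V := by
  rintro _ ⟨p, rfl⟩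
  have hs : p ⤳ IsLocalRing.closedPoint R := IsLocalRing.specializes_closedPoint p
  have hs' : φ.base p ⤳ φ.base (IsLocalRing.closedPoint R) := hs.map φ.continuous
  exact hs'.mem_open V.isOpen h

/-- A morphism from an affine scheme `Spec S` with range in an affine open `V` is induced by
a ring map `Γ(X, V) ⟶ S`. -/
theorem exists_specMap_of_range_subset {X : Scheme.{u}} {V : X.Opens} (hV : IsAffineOpen V)
    (S : CommRingCat.{u}) (φ : Spec S ⟶ X) (h : Set.range φ.base ⊆ V) :
    ∃ α : Γ(X, V) ⟶ S, φ = Spec.map α ≫ hV.fromSpec := by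
  have hr : Set.range φ.base ⊆ Set.range V.ι.base := by
    simpa using h
  let φ' : Spec S ⟶ V.toScheme := IsOpenImmersion.lift V.ι φ hr
  have hφ' : φ' ≫ V.ι = φ := IsOpenImmersion.lift_fac _ _ _
  refine ⟨Spec.preimage (φ' ≫ hV.isoSpec.hom), ?_⟩
  rw [Spec.map_preimage, Category.assoc, hV.isoSpec_hom_fromSpec, hφ']

theorem specMap_fromSpec_injective {X : Scheme.{u}} {V : X.Opens} (hV : IsAffineOpen V)
    {S : CommRingCat.{u}} (α β : Γ(X, V) ⟶ S)
    (h : Spec.map α ≫ hV.fromSpec = Spec.map β ≫ hV.fromSpec) : α = β := by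
  have : Mono hV.fromSpec := inferInstance
  exact Spec.map_injective ((cancel_mono hV.fromSpec).mp h)

theorem exists_affine_nhd {X : Scheme.{u}} (x : X) :
    ∃ V : X.Opens, IsAffineOpen V ∧ x ∈ V := by
  obtain ⟨_, ⟨U, hU, rfl⟩, hxU, -⟩ :=
    X.isBasis_affineOpens.exists_subset_of_mem_open (Set.mem_univ x) isOpen_univ
  exact ⟨U, hU, hxU⟩

end Groth.Agent.Helper26.LocSpec
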