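import Mathlib

set_option linter.style.haveILetI false
set_option linter.unusedVariables false

open scoped TensorProduct

universe u

namespace Groth.Agent.Helper26.LocStdSm

/-- a full-row-rank `m × n` matrix over a field has an invertible `m × m` minor -/
theorem exists_minor {κ : Type*} [Field κ] {m n : ℕ} (w : Fin m → (Fin n → κ))
    (hw : LinearIndependent κ w) :
    ∃ a : Fin m → Fin n, Function.Injective a ∧
      (Matrix.of fun i j : Fin m => w j (a i)).det ≠ 0 := by
  classical
  let M : Matrix (Fin m) (Fin n) κ := Matrix.of w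
  have hrow : M.row = w := rfl
  have h1 : M.rank = m := by
    rw [Matrix.rank_eq_finrank_span_row, hrow, finrank_span_eq_card hw, Fintype.card_fin]
  have h2 : Module.finrank κ (Submodule.span κ (Set.range M.col)) = m := by
    rw [← Matrix.rank_eq_finrank_span_cols, h1]
  obtain ⟨f, hf, -, hfi⟩ := Submodule.exists_fun_fin_finrank_span_eq κ (Set.range M.col)
  have hf' : ∀ k : Fin m, ∃ i : Fin n, M.col i = f (Fin.cast h2.symm k) := fun k => hf _
  choose a ha using hf'
  have hfi' : LinearIndependent κ (fun k : Fin m => f (Fin.cast h2.symm k)) :=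
    hfi.comp _ (Fin.cast_injective _)
  refine ⟨a, ?_, ?_⟩
  · intro k l hkl
    apply hfi'.injective
    change f (Fin.cast h2.symm k) = f (Fin.cast h2.symm l)
    rw [← ha k, ← ha l, hkl]
  · let N : Matrix (Fin m) (Fin m) κ := M.submatrix id a
    have hN : N.col = fun k : Fin m => f (Fin.cast h2.symm k) := by
      funext k
      rw [← ha k]
      rfl
    have hu : IsUnit N := by
      rw [← Matrix.linearIndependent_cols_iff_isUnit, hN]
      exact hfi'
    have hd : IsUnit N.det := (Matrix.isUnit_iff_isUnit_det N).1 hu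
    have : (Matrix.of fun i j : Fin m => w j (a i)) = N.transpose := by
      ext i j
      rfl
    rw [this, Matrix.det_transpose]
    exact hd.ne_zero

open MvPolynomial in
/-- relations with linearly independent differentials at `q` -/
theorem exists_relations (A B : Type u) [CommRing A] [CommRing B] [Algebra A B] (n : ℕ)
    (G : Algebra.Generators A B (Fin n))
    (q : Ideal B) [q.IsPrime] (r : ℕ)
    (hr : Module.finrank q.ResidueField (q.ResidueField ⊗[B] Ω[B⁄A]) = r) :
    ∃ (m : ℕ) (x : Fin m → G.toExtension.ker), m + r = n ∧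
      LinearIndependent q.ResidueField (fun j => (fun i : Fin n =>
        algebraMap B q.ResidueField (aeval G.val (pderiv i (x j).1)))) := by
  classical
  let κ := q.ResidueField
  let E := G.toExtension
  let c : κ ⊗[B] E.Cotangent →ₗ[κ] κ ⊗[B] E.CotangentSpace := E.cotangentComplex.baseChange κ
  let t : κ ⊗[B] E.CotangentSpace →ₗ[κ] κ ⊗[B] Ω[B⁄A] := E.toKaehler.baseChange κ
  have hex : Function.Exact c t := by
    have := lTensor_exact κ E.exact_cotangentComplex_toKaehler E.toKaehler_surjective
    intro y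
    have h1 := this y
    simpa [c, t, LinearMap.baseChange_eq_ltensor] using h1
  have hsurj : Function.Surjective t := by
    have := LinearMap.lTensor_surjective κ E.toKaehler_surjective
    intro y
    obtain ⟨z, hz⟩ := this y
    exact ⟨z, by simpa [t, LinearMap.baseChange_eq_ltensor] using hz⟩
  let bκ : Module.Basis (Fin n) κ (κ ⊗[B] E.CotangentSpace) := G.cotangentSpaceBasis.baseChange κ
  have hn : Module.finrank κ (κ ⊗[B] E.CotangentSpace) = n := by
    rw [Module.finrank_eq_card_basis bκ, Fintype.card_fin]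
  have : Module.Finite κ (κ ⊗[B] E.CotangentSpace) := Module.Finite.of_basis bκ
  have hrn := LinearMap.finrank_range_add_finrank_ker t
  rw [hn, LinearMap.range_eq_top.2 hsurj, finrank_top, hr, LinearMap.exact_iff.1 hex] at hrn
  let S : Set (κ ⊗[B] E.CotangentSpace) :=
    Set.range fun x : E.ker => (1 : κ) ⊗ₜ[B] E.cotangentComplex (Algebra.Extension.Cotangent.mk x)
  have hrange : LinearMap.range c = Submodule.span κ S := by
    apply le_antisymm
    · rintro _ ⟨z, rfl⟩
      induction z using TensorProduct.induction_on with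
      | zero => simp
      | tmul a y =>
        obtain ⟨x, rfl⟩ := Algebra.Extension.Cotangent.mk_surjective y
        have : c (a ⊗ₜ[B] Algebra.Extension.Cotangent.mk x) =
            a • ((1 : κ) ⊗ₜ[B] E.cotangentComplex (Algebra.Extension.Cotangent.mk x)) := by
          simp [c, TensorProduct.smul_tmul']
        rw [this]
        exact Submodule.smul_mem _ _ (Submodule.subset_span ⟨x, rfl⟩)
      | add a b ha hb =>
        rw [map_add]
        exact Submodule.add_mem _ ha hb
    · rw [Submodule.span_le]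
      rintro _ ⟨x, rfl⟩
      exact ⟨(1 : κ) ⊗ₜ[B] Algebra.Extension.Cotangent.mk x, by simp [c]⟩
  obtain ⟨f, hfS, -, hfi⟩ := Submodule.exists_fun_fin_finrank_span_eq κ S
  have hm : Module.finrank κ (Submodule.span κ S) + r = n := by
    rw [← hrange]; omega
  have hx : ∀ j, ∃ x : E.ker, (1 : κ) ⊗ₜ[B] E.cotangentComplex (Algebra.Extension.Cotangent.mk x) = f j :=
    fun j => hfS j
  choose x hx using hx
  refine ⟨_, x, hm, ?_⟩
  have h1 : LinearIndependent κ (fun j => bκ.equivFun (f j)) :=
    hfi.map' bκ.equivFun.toLinearMap (LinearEquiv.ker _)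
  convert h1 using 1
  funext j i
  rw [← hx j]
  change _ = bκ.repr _ i
  rw [Module.Basis.baseChange_repr_tmul, Algebra.Extension.cotangentComplex_mk,
    Algebra.Generators.cotangentSpaceBasis_repr_one_tmul, Algebra.smul_def, mul_one]

open MvPolynomial in
/-- the construction: given relations `v j` in the kernel and an injective choice of variables
`a` whose Jacobian minor `Δ` has image `g` in `B`, the algebra `(A[x]/(v))_Δ` is standard smooth
of relative dimension `n - m` and surjects onto `B_g`. -/
theorem construction (A B : Type u) [CommRing A] [CommRing B] [Algebra A B] (n m r : ℕ)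
    (hmr : m + r = n)
    (π : MvPolynomial (Fin n) A →ₐ[A] B) (hπ : Function.Surjective π)
    (v : Fin m → MvPolynomial (Fin n) A) (hv : ∀ j, π (v j) = 0)
    (a : Fin m → Fin n) (ha : Function.Injective a) :
    ∃ (D : Type u) (_ : CommRing D) (_ : Algebra A D),
      Algebra.IsStandardSmoothOfRelativeDimension r A D ∧
        ∃ φ : D →ₐ[A] Localization.Away
          (π (Matrix.of fun i j : Fin m => pderiv (a i) (v j)).det), Function.Surjective φ := by
  classical
  let D₀ := MvPolynomial (Fin n) A ⧸ Ideal.span (Set.range v)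
  let Pn : Algebra.PreSubmersivePresentation A D₀ (Fin n) (Fin m) :=
    Algebra.PreSubmersivePresentation.naive a ha
  let Δ : MvPolynomial (Fin n) A := (Matrix.of fun i j : Fin m => pderiv (a i) (v j)).det
  have hjm : Pn.jacobiMatrix = Matrix.of fun i j : Fin m => pderiv (a i) (v j) := by
    ext i j
    rw [Algebra.PreSubmersivePresentation.jacobiMatrix_apply]
    rfl
  have hjac : Pn.jacobian = Ideal.Quotient.mk _ Δ := by
    rw [Algebra.PreSubmersivePresentation.jacobian_eq_jacobiMatrix_det (P := Pn), hjm]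
    rfl
  let δ : D₀ := Pn.jacobian
  let D := Localization.Away δ
  let Q : Algebra.SubmersivePresentation D₀ D Unit Unit :=
    Algebra.SubmersivePresentation.localizationAway D δ
  let C : Algebra.PreSubmersivePresentation A D (Unit ⊕ Fin n) (Unit ⊕ Fin m) :=
    Q.toPreSubmersivePresentation.comp Pn
  have hCu : IsUnit C.jacobian := by
    rw [Algebra.PreSubmersivePresentation.comp_jacobian_eq_jacobian_smul_jacobian,
      Algebra.smul_def, IsUnit.mul_iff]
    exact ⟨IsLocalization.Away.algebraMap_isUnit δ, Q.jacobian_isUnit⟩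
  let SP : Algebra.SubmersivePresentation A D (Unit ⊕ Fin n) (Unit ⊕ Fin m) := ⟨C, hCu⟩
  have hdim : SP.dimension = r := by
    change Nat.card (Unit ⊕ Fin n) - Nat.card (Unit ⊕ Fin m) = r
    rw [Nat.card_eq_fintype_card, Nat.card_eq_fintype_card, Fintype.card_sum, Fintype.card_sum,
      Fintype.card_fin, Fintype.card_fin, Fintype.card_unit]
    omega
  refine ⟨D, inferInstance, inferInstance, SP.isStandardSmoothOfRelativeDimension hdim, ?_⟩
  have hker : ∀ p ∈ Ideal.span (Set.range v), π p = 0 := by
    intro p hp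
    have : Ideal.span (Set.range v) ≤ RingHom.ker π.toRingHom := by
      rw [Ideal.span_le]
      rintro _ ⟨j, rfl⟩
      exact hv j
    exact this hp
  let ψ₀ : D₀ →ₐ[A] B := Ideal.Quotient.liftₐ _ π hker
  have hψ₀ : ∀ p, ψ₀ (Ideal.Quotient.mk _ p) = π p := fun p => rfl
  have hψ₀s : Function.Surjective ψ₀ := fun b => by
    obtain ⟨p, hp⟩ := hπ b
    exact ⟨Ideal.Quotient.mk _ p, hp⟩
  let Bg := Localization.Away (π Δ)
  let ψ₁ : D₀ →ₐ[A] Bg := (IsScalarTower.toAlgHom A B Bg).comp ψ₀
  have hψ₁ : ∀ d, ψ₁ d = algebraMap B Bg (ψ₀ d) := fun d => rfl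
  have hδ : ψ₀ δ = π Δ := by
    change ψ₀ Pn.jacobian = _
    rw [hjac, hψ₀]
  have hu : ∀ y : Submonoid.powers δ, IsUnit (ψ₁ y) := by
    rintro ⟨_, k, rfl⟩
    rw [map_pow]
    apply IsUnit.pow
    rw [hψ₁, hδ]
    exact IsLocalization.Away.algebraMap_isUnit (π Δ)
  let φ : D →ₐ[A] Bg := IsLocalization.liftAlgHom (M := Submonoid.powers δ) (f := ψ₁) hu
  have hφ : ∀ d : D₀, φ (algebraMap D₀ D d) = ψ₁ d := fun d => IsLocalization.lift_eq hu d
  refine ⟨φ, ?_⟩
  intro z
  obtain ⟨⟨b, ⟨_, k, rfl⟩⟩, rfl⟩ := IsLocalization.mk'_surjective (Submonoid.powers (π Δ)) z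
  obtain ⟨d, rfl⟩ := hψ₀s b
  refine ⟨IsLocalization.mk' D d (⟨δ ^ k, k, rfl⟩ : Submonoid.powers δ), ?_⟩
  symm
  rw [IsLocalization.mk'_eq_iff_eq_mul]
  have h1 : algebraMap B Bg (π Δ ^ k) = φ (algebraMap D₀ D (δ ^ k)) := by
    rw [hφ, hψ₁, map_pow, map_pow, hδ, map_pow]
  change algebraMap B Bg (ψ₀ d) = _ * algebraMap B Bg (π Δ ^ k)
  rw [h1, ← map_mul]
  have h2 := IsLocalization.mk'_spec D d (⟨δ ^ k, k, rfl⟩ : Submonoid.powers δ)
  rw [h2, hφ, hψ₁]

theorem main (A B : Type u) [CommRing A] [CommRing B] [Algebra A B] [Algebra.FiniteType A B]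
    (q : Ideal B) [q.IsPrime] (r : ℕ)
    (hr : Module.finrank q.ResidueField (q.ResidueField ⊗[B] Ω[B⁄A]) = r) :
    ∃ g : B, g ∉ q ∧ ∃ (D : Type u) (_ : CommRing D) (_ : Algebra A D),
      Algebra.IsStandardSmoothOfRelativeDimension r A D ∧
        ∃ φ : D →ₐ[A] Localization.Away g, Function.Surjective φ := by
  classical
  obtain ⟨n, ⟨G⟩⟩ := (Algebra.FiniteType.iff_exists_generators (R := A) (S := B)).mp inferInstance
  obtain ⟨m, x, hmr, hli⟩ := exists_relations A B n G q r hr
  obtain ⟨a, ha, hdet⟩ := exists_minor _ hli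
  let π : MvPolynomial (Fin n) A →ₐ[A] B := MvPolynomial.aeval G.val
  have hπ : Function.Surjective π := G.aeval_val_surjective
  let v : Fin m → MvPolynomial (Fin n) A := fun j => (x j).1
  have hv : ∀ j, π (v j) = 0 := fun j => G.aeval_val_eq_zero (x j).2
  obtain ⟨D, i1, i2, hD, φ, hφ⟩ := construction A B n m r hmr π hπ v hv a ha
  refine ⟨_, ?_, D, i1, i2, hD, φ, hφ⟩
  rw [← Ideal.algebraMap_residueField_eq_zero]
  let f : MvPolynomial (Fin n) A →+* q.ResidueField :=
    (algebraMap B q.ResidueField).comp π.toRingHom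
  change f (Matrix.det _) ≠ 0
  rw [RingHom.map_det]
  exact hdet

end Groth.Agent.Helper26.LocStdSm
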