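import Mathlib
import Groth.Prelude.Def_W4c5qllcourbesmultMultCrv

set_option autoImplicit false

namespace Groth.Agent.Helper26.MCDual

open Polynomial MultCrv

variable (R : Type*) [CommRing R] (n : ℕ)

/-- The "coefficient of `z^(n-1)`" functional on `R[X]/(X^n)` (for `1 ≤ n`). -/
noncomputable def tau (hn : 1 ≤ n) : Rn R n →ₗ[R] R :=
  (Submodule.liftQ ((Ideal.span {(X : R[X]) ^ n}).restrictScalars R) (Polynomial.lcoeff R (n - 1))
    (by
      intro p hp
      rw [Submodule.restrictScalars_mem, Ideal.mem_span_singleton] at hp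
      obtain ⟨q, rfl⟩ := hp
      rw [LinearMap.mem_ker, Polynomial.lcoeff_apply, Polynomial.coeff_X_pow_mul', if_neg (by omega)])) ∘ₗ
  (Submodule.Quotient.restrictScalarsEquiv R (Ideal.span {(X : R[X]) ^ n})).symm.toLinearMap

lemma tau_mk (hn : 1 ≤ n) (p : R[X]) :
    tau R n hn (Ideal.Quotient.mk (Ideal.span {(X : R[X]) ^ n}) p) = p.coeff (n - 1) := by
  unfold tau
  rw [LinearMap.comp_apply]
  rfl

lemma tau_zpow_mul_mk (hn : 1 ≤ n) (j : ℕ) (p : R[X]) :
    tau R n hn (z R n ^ j * Ideal.Quotient.mk (Ideal.span {(X : R[X]) ^ n}) p) =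
      if j ≤ n - 1 then p.coeff (n - 1 - j) else 0 := by
  have : z R n ^ j * Ideal.Quotient.mk (Ideal.span {(X : R[X]) ^ n}) p =
      Ideal.Quotient.mk (Ideal.span {(X : R[X]) ^ n}) (X ^ j * p) := by
    rw [map_mul, map_pow]
  rw [this, tau_mk, Polynomial.coeff_X_pow_mul']

lemma eq_zero_of_tau (hn : 1 ≤ n) (a : Rn R n) (h : ∀ j, tau R n hn (z R n ^ j * a) = 0) : a = 0 := by
  obtain ⟨p, rfl⟩ := Ideal.Quotient.mk_surjective a
  rw [Ideal.Quotient.eq_zero_iff_mem, Ideal.mem_span_singleton, Polynomial.X_pow_dvd_iff]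
  intro d hd
  have := h (n - 1 - d)
  rw [tau_zpow_mul_mk, if_pos (by omega)] at this
  have e : n - 1 - (n - 1 - d) = d := by omega
  rwa [e] at this

lemma tau_zpow (hn : 1 ≤ n) (k : ℕ) : tau R n hn (z R n ^ k) = if k = n - 1 then 1 else 0 := by
  have : z R n ^ k = Ideal.Quotient.mk (Ideal.span {(X : R[X]) ^ n}) (X ^ k) := by
    rw [map_pow]
  rw [this, tau_mk, Polynomial.coeff_X_pow]
  simp only [eq_comm]


section Mod

variable {R n}
variable {M : Type*} [AddCommGroup M] [Module (Rn R n) M] [Module R M] [IsScalarTower R (Rn R n) M]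

lemma theta_inj (hn : 1 ≤ n) (φ φ' : M →ₗ[Rn R n] Rn R n)
    (h : ∀ m, tau R n hn (φ m) = tau R n hn (φ' m)) : φ = φ' := by
  apply LinearMap.ext
  intro m
  rw [← sub_eq_zero]
  apply eq_zero_of_tau R n hn
  intro j
  rw [mul_sub, ← smul_eq_mul, ← smul_eq_mul, ← map_smul, ← map_smul, map_sub, h, sub_self]

lemma zpow_n_eq_zero : z R n ^ n = 0 := by
  show Ideal.Quotient.mk _ Polynomial.X ^ n = 0
  rw [← map_pow, Ideal.Quotient.eq_zero_iff_mem]
  exact Ideal.mem_span_singleton_self _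

/-- the underlying function of the inverse of `φ ↦ τ ∘ φ` -/
noncomputable def phiFun (ψ : M →ₗ[R] R) (m : M) : Rn R n :=
  ∑ i ∈ Finset.range n, ψ (z R n ^ (n - 1 - i) • m) • z R n ^ i

lemma phiFun_add (ψ : M →ₗ[R] R) (m m' : M) : phiFun (n := n) ψ (m + m') = phiFun ψ m + phiFun ψ m' := by
  unfold phiFun
  rw [← Finset.sum_add_distrib]
  apply Finset.sum_congr rfl
  intro i _
  rw [smul_add, map_add, add_smul]

lemma phiFun_smul (ψ : M →ₗ[R] R) (r : R) (m : M) : phiFun (n := n) ψ (r • m) = r • phiFun ψ m := by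
  unfold phiFun
  rw [Finset.smul_sum]
  apply Finset.sum_congr rfl
  intro i _
  rw [smul_comm, map_smul, smul_eq_mul, mul_smul]

lemma phiFun_z (ψ : M →ₗ[R] R) (m : M) : phiFun (n := n) ψ (z R n • m) = z R n * phiFun ψ m := by
  unfold phiFun
  rcases Nat.eq_zero_or_pos n with h0 | hpos
  · subst h0; simp
  obtain ⟨k, rfl⟩ : ∃ k, n = k + 1 := ⟨n - 1, by omega⟩
  rw [Finset.sum_range_succ', Finset.mul_sum, Finset.sum_range_succ]
  have e1 : z R (k + 1) ^ (k + 1 - 1 - 0) • z R (k + 1) • m = 0 := by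
    rw [smul_smul, ← pow_succ]
    have : k + 1 - 1 - 0 + 1 = k + 1 := by omega
    rw [this, zpow_n_eq_zero]
    exact zero_smul (Rn R (k + 1)) m
  have e2 : z R (k + 1) * (ψ (z R (k + 1) ^ (k + 1 - 1 - k) • m) • z R (k + 1) ^ k) = 0 := by
    rw [mul_smul_comm, ← pow_succ', zpow_n_eq_zero, smul_zero]
  rw [e1, e2, map_zero, zero_smul, add_zero, add_zero]
  apply Finset.sum_congr rfl
  intro i hi
  have hi' := Finset.mem_range.1 hi
  rw [mul_smul_comm, ← pow_succ', smul_smul, ← pow_succ]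
  have : k + 1 - 1 - (i + 1) + 1 = k + 1 - 1 - i := by omega
  rw [this]

lemma phiFun_smulA (ψ : M →ₗ[R] R) (a : Rn R n) (m : M) : phiFun (n := n) ψ (a • m) = a * phiFun ψ m := by
  obtain ⟨p, rfl⟩ := Ideal.Quotient.mk_surjective a
  induction p using Polynomial.induction_on generalizing m with
  | C r =>
    have : (Ideal.Quotient.mk (Ideal.span {(X : R[X]) ^ n}) (C r)) = algebraMap R (Rn R n) r := rfl
    rw [this, algebraMap_smul, phiFun_smul]
    exact Algebra.smul_def r (phiFun ψ m)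
  | add p q hp hq =>
    rw [map_add, add_smul, phiFun_add, hp, hq, add_mul]
  | monomial k r h =>
    have : (Ideal.Quotient.mk (Ideal.span {(X : R[X]) ^ n}) (C r * X ^ (k + 1))) =
        (Ideal.Quotient.mk (Ideal.span {(X : R[X]) ^ n}) (C r * X ^ k)) * z R n := by
      rw [pow_succ, ← mul_assoc, map_mul]
    rw [this, mul_smul, h, phiFun_z, mul_assoc]

/-- the inverse of `φ ↦ τ ∘ φ` -/
noncomputable def phi (ψ : M →ₗ[R] R) : M →ₗ[Rn R n] Rn R n where
  toFun := phiFun ψ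
  map_add' := phiFun_add ψ
  map_smul' a m := by rw [RingHom.id_apply, smul_eq_mul]; exact phiFun_smulA ψ a m

lemma tau_phi (hn : 1 ≤ n) (ψ : M →ₗ[R] R) (m : M) : tau R n hn (phi (n := n) ψ m) = ψ m := by
  change tau R n hn (phiFun ψ m) = ψ m
  unfold phiFun
  rw [map_sum]
  simp only [map_smul, tau_zpow, smul_eq_mul, mul_ite, mul_one, mul_zero]
  rw [Finset.sum_ite_eq' (Finset.range n) (n - 1)]
  rw [if_pos (Finset.mem_range.2 (by omega))]
  simp

end Mod

end Groth.Agent.Helper26.MCDual
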