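import Mathlib
import Groth.Agent.S17941

set_option autoImplicit false

namespace Groth.Agent.Helper26.MCExt

open CategoryTheory MultCrv

universe u

theorem ext_subsingleton (R : Type u) [CommRing R] [IsDomain R] [IsDiscreteValuationRing R] (n : ℕ)
    (hn : 1 ≤ n) : ∀ (i : ℕ), 1 ≤ i → ∀ (M : Type u) [AddCommGroup M] [Module (Rn R n) M] [Module R M]
      [IsScalarTower R (Rn R n) M] [Module.Finite (Rn R n) M] [Module.IsTorsionFree R M],
      Subsingleton (Abelian.Ext (ModuleCat.of (Rn R n) M) (ModuleCat.of (Rn R n) (Rn R n)) i) := by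
  have hfreeA : Module.Free R (Rn R n) := (Polynomial.monic_X_pow n).free_adjoinRoot
  intro i hi
  induction i, hi using Nat.le_induction with
  | base =>
    intro M _ _ _ _ _ _
    obtain ⟨k, π, hπ⟩ := Module.Finite.exists_fin' (Rn R n) M
    have hS := LinearMap.shortExact_shortComplexKer hπ
    have htfK : Module.IsTorsionFree R ↥(LinearMap.ker π) :=
      Function.Injective.moduleIsTorsionFree (LinearMap.ker π).subtype Subtype.val_injective
        (fun r m => rfl)
    apply subsingleton_of_forall_eq 0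
    intro x₃
    have h0 : (Abelian.Ext.mk₀ π.shortComplexKer.g).comp x₃ (zero_add 1) = 0 :=
      Abelian.Ext.eq_zero_of_projective _
    obtain ⟨x₁, hx₁⟩ := Abelian.Ext.contravariant_sequence_exact₃ hS _ x₃ h0 (n₀ := 0) (by norm_num)
    obtain ⟨θ, hθ⟩ := Groth.Agent.S17941.result R n hn ↥(LinearMap.ker π) (Fin k → Rn R n) M
      (LinearMap.ker π).subtype π Subtype.val_injective hπ (by rw [Submodule.range_subtype])
      (Abelian.Ext.addEquiv₀ x₁).hom
    have hx₁' : x₁ = (Abelian.Ext.mk₀ π.shortComplexKer.f).comp (Abelian.Ext.mk₀ (ModuleCat.ofHom θ)) (zero_add 0) := by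
      rw [Abelian.Ext.mk₀_comp_mk₀, ← Abelian.Ext.mk₀_addEquiv₀_apply x₁]
      congr 1
      apply ModuleCat.hom_ext
      rw [← hθ]
      rfl
    rw [← hx₁, hx₁', hS.extClass_comp_assoc]
  | succ i hi IH =>
    intro M _ _ _ _ _ _
    obtain ⟨k, π, hπ⟩ := Module.Finite.exists_fin' (Rn R n) M
    have hS := LinearMap.shortExact_shortComplexKer hπ
    have htfK : Module.IsTorsionFree R ↥(LinearMap.ker π) :=
      Function.Injective.moduleIsTorsionFree (LinearMap.ker π).subtype Subtype.val_injective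
        (fun r m => rfl)
    apply subsingleton_of_forall_eq 0
    intro x₃
    have h0 : (Abelian.Ext.mk₀ π.shortComplexKer.g).comp x₃ (zero_add (i + 1)) = 0 :=
      Abelian.Ext.eq_zero_of_projective _
    obtain ⟨x₁, hx₁⟩ := Abelian.Ext.contravariant_sequence_exact₃ hS _ x₃ h0 (n₀ := i) (by omega)
    have hsub := IH ↥(LinearMap.ker π)
    have hx₁0 : x₁ = 0 := Subsingleton.elim _ _
    rw [← hx₁, hx₁0, Abelian.Ext.comp_zero]

end Groth.Agent.Helper26.MCExt
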