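import Mathlib
import Groth.Agent.Lib.Helper26.MCDual

set_option autoImplicit false

namespace Groth.Agent.Helper26.MCExt2

open CategoryTheory MultCrv Polynomial

universe u

section Lin

variable {R : Type*} [CommRing R] {n : ℕ}
variable {M : Type*} [AddCommGroup M] [Module (Rn R n) M] [Module R M] [IsScalarTower R (Rn R n) M]
variable {F : Type*} [AddCommGroup F] [Module (Rn R n) F] [Module R F] [IsScalarTower R (Rn R n) F]

lemma map_smul_of_z (φ : M →ₗ[R] F) (hz : ∀ m, φ (z R n • m) = z R n • φ m) (a : Rn R n) (m : M) :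
    φ (a • m) = a • φ m := by
  obtain ⟨p, rfl⟩ := Ideal.Quotient.mk_surjective a
  induction p using Polynomial.induction_on generalizing m with
  | C r =>
    have : (Ideal.Quotient.mk (Ideal.span {(X : R[X]) ^ n}) (C r)) = algebraMap R (Rn R n) r := rfl
    rw [this, algebraMap_smul, algebraMap_smul, map_smul]
  | add p q hp hq =>
    rw [map_add, add_smul, add_smul, map_add, hp, hq]
  | monomial k r h =>
    have : (Ideal.Quotient.mk (Ideal.span {(X : R[X]) ^ n}) (C r * X ^ (k + 1))) =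
        (Ideal.Quotient.mk (Ideal.span {(X : R[X]) ^ n}) (C r * X ^ k)) * z R n := by
      rw [pow_succ, ← mul_assoc, map_mul]
    rw [this, mul_smul, h, hz, mul_smul]

/-- upgrade an `R`-linear map commuting with `z` to an `R[X]/(X^n)`-linear map -/
def ofZ (φ : M →ₗ[R] F) (hz : ∀ m, φ (z R n • m) = z R n • φ m) : M →ₗ[Rn R n] F where
  toFun := φ
  map_add' := φ.map_add
  map_smul' a m := by rw [RingHom.id_apply]; exact map_smul_of_z φ hz a m

end Lin

open Groth.Agent.Helper26 in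
theorem exists_factor (R : Type u) [CommRing R] [IsDomain R] [IsDiscreteValuationRing R] (n : ℕ)
    (hn : 1 ≤ n) (M : Type u) [AddCommGroup M] [Module (Rn R n) M] [Module R M]
    [IsScalarTower R (Rn R n) M] [Module.Finite (Rn R n) M] [Module.IsTorsionFree R M]
    (F : Type u) [AddCommGroup F] [Module (Rn R n) F] [Module R F] [IsScalarTower R (Rn R n) F]
    (π : F →ₗ[Rn R n] M) (hπ : Function.Surjective π) :
    ∃ σ : M →ₗ[Rn R n] F, π ∘ₗ σ = (z R n ^ (n - 1)) • (LinearMap.id : M →ₗ[Rn R n] M) := by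
  have hfinR : Module.Finite R (Rn R n) := (Polynomial.monic_X_pow n).finite_adjoinRoot
  have hfinM : Module.Finite R M := Module.Finite.trans (Rn R n) M
  have hfreeM : Module.Free R M := Module.free_of_finite_type_torsion_free'
  let ζ : M →ₗ[R] M := ((z R n ^ (n - 1)) • (LinearMap.id : M →ₗ[Rn R n] M)).restrictScalars R
  have hζ : ∀ m, ζ m = z R n ^ (n - 1) • m := fun m => rfl
  have hfreeRange : Module.Free R ↥(LinearMap.range ζ) := Module.free_of_finite_type_torsion_free'
  obtain ⟨t, ht⟩ := Module.projective_lifting_property ζ.rangeRestrict LinearMap.id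
    ζ.surjective_rangeRestrict
  obtain ⟨s, hs⟩ := Module.projective_lifting_property (π.restrictScalars R) LinearMap.id hπ
  have ht' : ∀ y, ζ.rangeRestrict (t y) = y := fun y => LinearMap.congr_fun ht y
  have hs' : ∀ m, π (s m) = m := fun m => LinearMap.congr_fun hs m
  have hzn : z R n * z R n ^ (n - 1) = 0 := by
    rw [← pow_succ', Nat.sub_add_cancel hn, MCDual.zpow_n_eq_zero]
  let σ0 : M →ₗ[R] F :=
    (((z R n ^ (n - 1)) • (LinearMap.id : F →ₗ[Rn R n] F)).restrictScalars R) ∘ₗ s ∘ₗ t ∘ₗ ζ.rangeRestrict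
  have hσ0 : ∀ m, σ0 m = z R n ^ (n - 1) • s (t (ζ.rangeRestrict m)) := fun m => rfl
  have hz : ∀ m, σ0 (z R n • m) = z R n • σ0 m := by
    intro m
    have h1 : ζ.rangeRestrict (z R n • m) = 0 := by
      apply Subtype.ext
      change ζ (z R n • m) = 0
      rw [hζ, smul_smul, mul_comm, hzn]
      exact zero_smul (Rn R n) m
    rw [hσ0, hσ0, h1, map_zero, map_zero, smul_zero, smul_smul, hzn]
    exact (zero_smul (Rn R n) (s (t (ζ.rangeRestrict m)))).symm
  refine ⟨ofZ σ0 hz, ?_⟩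
  apply LinearMap.ext
  intro m
  change π (σ0 m) = z R n ^ (n - 1) • m
  rw [hσ0, map_smul, hs', ← hζ (t _)]
  have := congrArg Subtype.val (ht' (ζ.rangeRestrict m))
  exact this


theorem zpow_smul_ext_eq_zero (R : Type u) [CommRing R] [IsDomain R] [IsDiscreteValuationRing R] (n : ℕ)
    (hn : 1 ≤ n) (M : Type u) [AddCommGroup M] [Module (Rn R n) M] [Module R M]
    [IsScalarTower R (Rn R n) M] [Module.Finite (Rn R n) M] [Module.IsTorsionFree R M]
    (N : ModuleCat.{u} (Rn R n)) (j : ℕ)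
    (x : Abelian.Ext (ModuleCat.of (Rn R n) M) N (j + 1)) : (z R n ^ (n - 1)) • x = 0 := by
  obtain ⟨k, π, hπ⟩ := Module.Finite.exists_fin' (Rn R n) M
  obtain ⟨σ, hσ⟩ := exists_factor R n hn M (Fin k → Rn R n) π hπ
  have h1 : (z R n ^ (n - 1)) • x =
      (Abelian.Ext.mk₀ ((z R n ^ (n - 1)) • 𝟙 (ModuleCat.of (Rn R n) M))).comp x (zero_add (j + 1)) := by
    have e := Abelian.Ext.mk₀_smul (R := Rn R n) (z R n ^ (n - 1)) (𝟙 (ModuleCat.of (Rn R n) M))
    rw [e, Abelian.Ext.smul_comp, Abelian.Ext.mk₀_id_comp]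
  have h2 : (z R n ^ (n - 1)) • 𝟙 (ModuleCat.of (Rn R n) M) = ModuleCat.ofHom σ ≫ ModuleCat.ofHom π := by
    apply ModuleCat.hom_ext
    rw [ModuleCat.hom_comp, ModuleCat.hom_ofHom, ModuleCat.hom_ofHom, hσ]
    rfl
  have h3 : (Abelian.Ext.mk₀ (ModuleCat.ofHom π)).comp x (zero_add (j + 1)) = 0 :=
    Abelian.Ext.eq_zero_of_projective _
  rw [h1, h2, ← Abelian.Ext.mk₀_comp_mk₀, Abelian.Ext.comp_assoc_of_second_deg_zero, h3,
    Abelian.Ext.comp_zero]

end Groth.Agent.Helper26.MCExt2
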