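import Mathlib
import Groth.Agent.Lib.Helper26.MCDual
import Groth.Agent.Lib.Helper26.MCExt

set_option autoImplicit false

namespace Groth.Agent.Helper26.MCExt3

open CategoryTheory MultCrv Polynomial
open Groth.Agent.Helper26

universe u

lemma surjective_of_dualMap_bijective {R K F : Type*} [CommRing R] [AddCommGroup K] [Module R K]
    [AddCommGroup F] [Module R F] [Module.IsReflexive R K] [Module.Projective R F]
    (ι : K →ₗ[R] F) (h : Function.Bijective ι.dualMap) : Function.Surjective ι := by
  intro x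
  let e := LinearEquiv.ofBijective ι.dualMap h
  let g : Module.Dual R (Module.Dual R K) := (Module.Dual.eval R F x) ∘ₗ e.symm.toLinearMap
  refine ⟨(Module.evalEquiv R K).symm g, ?_⟩
  rw [← sub_eq_zero, ← Module.forall_dual_apply_eq_zero_iff R]
  intro ψ
  rw [map_sub, sub_eq_zero]
  have h1 : ψ (ι ((Module.evalEquiv R K).symm g)) = (ι.dualMap ψ) ((Module.evalEquiv R K).symm g) := rfl
  rw [h1, Module.apply_evalEquiv_symm_apply]
  change (e.symm (ι.dualMap ψ)) x = ψ x
  have : e.symm (ι.dualMap ψ) = ψ := e.symm_apply_apply ψ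
  rw [this]

section Transfer

variable {R : Type*} [CommRing R] {n : ℕ}
variable {K : Type*} [AddCommGroup K] [Module (Rn R n) K] [Module R K] [IsScalarTower R (Rn R n) K]
variable {F : Type*} [AddCommGroup F] [Module (Rn R n) F] [Module R F] [IsScalarTower R (Rn R n) F]

lemma dualMap_bijective_transfer (hn : 1 ≤ n) (ι : K →ₗ[Rn R n] F)
    (h : Function.Bijective (ι.dualMap : Module.Dual (Rn R n) F →ₗ[Rn R n] Module.Dual (Rn R n) K)) :
    Function.Bijective ((ι.restrictScalars R).dualMap : Module.Dual R F →ₗ[R] Module.Dual R K) := by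
  constructor
  · rw [injective_iff_map_eq_zero]
    intro ψ hψ
    have h1 : ι.dualMap (MCDual.phi ψ) = 0 := by
      apply MCDual.theta_inj hn
      intro k
      rw [LinearMap.dualMap_apply, MCDual.tau_phi, LinearMap.zero_apply, map_zero]
      exact LinearMap.congr_fun hψ k
    have h2 : MCDual.phi (n := n) ψ = 0 := by
      apply h.1
      rw [h1, map_zero]
    apply LinearMap.ext
    intro x
    rw [← MCDual.tau_phi hn ψ x, h2, LinearMap.zero_apply, map_zero, LinearMap.zero_apply]
  · intro ψ'
    obtain ⟨φ, hφ⟩ := h.2 (MCDual.phi ψ')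
    refine ⟨(MCDual.tau R n hn) ∘ₗ (φ.restrictScalars R), ?_⟩
    apply LinearMap.ext
    intro k
    change MCDual.tau R n hn (φ (ι k)) = ψ' k
    have : φ (ι k) = MCDual.phi ψ' k := LinearMap.congr_fun hφ k
    rw [this, MCDual.tau_phi]

end Transfer


/-- a finitely generated `R`-torsion module over `R[X]/(X^n)` with vanishing `Ext¹(-, A)` is zero -/
theorem eq_bot_of_torsion_of_ext_one (R : Type u) [CommRing R] [IsDomain R] [IsDiscreteValuationRing R]
    (n : ℕ) (hn : 1 ≤ n) (T : Type u) [AddCommGroup T] [Module (Rn R n) T] [Module R T]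
    [IsScalarTower R (Rn R n) T] [Module.Finite (Rn R n) T]
    (htors : ∀ t : T, ∃ r : R, r ≠ 0 ∧ r • t = 0)
    (h : Subsingleton (Abelian.Ext (ModuleCat.of (Rn R n) T) (ModuleCat.of (Rn R n) (Rn R n)) 1)) :
    Subsingleton T := by
  have hfinR : Module.Finite R (Rn R n) := (Polynomial.monic_X_pow n).finite_adjoinRoot
  have hfreeA : Module.Free R (Rn R n) := (Polynomial.monic_X_pow n).free_adjoinRoot
  obtain ⟨k, π, hπ⟩ := Module.Finite.exists_fin' (Rn R n) T
  have hS := LinearMap.shortExact_shortComplexKer hπ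
  set ι : ↥(LinearMap.ker π) →ₗ[Rn R n] (Fin k → Rn R n) := (LinearMap.ker π).subtype with hι
  -- restriction on `A`-duals is bijective
  have hbij : Function.Bijective (ι.dualMap :
      Module.Dual (Rn R n) (Fin k → Rn R n) →ₗ[Rn R n] Module.Dual (Rn R n) ↥(LinearMap.ker π)) := by
    constructor
    · rw [injective_iff_map_eq_zero]
      intro θ hθ
      apply LinearMap.ext
      intro x
      obtain ⟨r, hr0, hr⟩ := htors (π x)
      have hmem : r • x ∈ LinearMap.ker π := by
        rw [LinearMap.mem_ker, LinearMap.map_smul_of_tower, hr]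
      have h1 : θ (r • x) = 0 := LinearMap.congr_fun hθ ⟨r • x, hmem⟩
      rw [LinearMap.map_smul_of_tower] at h1
      rw [LinearMap.zero_apply]
      exact (smul_eq_zero.1 h1).resolve_left hr0
    · intro θ'
      have hzero : hS.extClass.comp (Abelian.Ext.mk₀ (ModuleCat.ofHom θ')) (add_zero 1) = 0 :=
        Subsingleton.elim _ _
      obtain ⟨x₂, hx₂⟩ := Abelian.Ext.contravariant_sequence_exact₁ hS _
        (Abelian.Ext.mk₀ (ModuleCat.ofHom θ')) (n₀ := 0) (by norm_num) hzero
      refine ⟨(Abelian.Ext.addEquiv₀ x₂).hom, ?_⟩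
      rw [← Abelian.Ext.mk₀_addEquiv₀_apply x₂, Abelian.Ext.mk₀_comp_mk₀] at hx₂
      have h2 := Abelian.Ext.addEquiv₀.symm.injective hx₂
      have h3 := congrArg ModuleCat.Hom.hom h2
      rw [ModuleCat.hom_comp, ModuleCat.hom_ofHom] at h3
      exact h3
  have hbijR := dualMap_bijective_transfer (R := R) hn ι hbij
  have hfreeF : Module.Free R (Fin k → Rn R n) := inferInstance
  have hfinF : Module.Finite R (Fin k → Rn R n) := inferInstance
  have hfinK : Module.Finite R ↥(LinearMap.ker π) :=
    Module.Finite.of_injective ((LinearMap.ker π).subtype.restrictScalars R) Subtype.val_injective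
  have htfK : Module.IsTorsionFree R ↥(LinearMap.ker π) :=
    Function.Injective.moduleIsTorsionFree (LinearMap.ker π).subtype Subtype.val_injective
      (fun r m => rfl)
  have hfreeK : Module.Free R ↥(LinearMap.ker π) := Module.free_of_finite_type_torsion_free'
  have hsurj : Function.Surjective (ι.restrictScalars R) :=
    surjective_of_dualMap_bijective (ι.restrictScalars R) hbijR
  constructor
  intro a b
  obtain ⟨x, rfl⟩ := hπ a
  obtain ⟨y, rfl⟩ := hπ b
  obtain ⟨x', hx'⟩ := hsurj x
  obtain ⟨y', hy'⟩ := hsurj y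
  have hx0 : π x = 0 := by rw [← hx']; exact x'.2
  have hy0 : π y = 0 := by rw [← hy']; exact y'.2
  rw [hx0, hy0]

end Groth.Agent.Helper26.MCExt3
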