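import Groth.Prelude.Def_W4c5qllcourbesmultMultCrv
import Mathlib

set_option autoImplicit false
universe u
open MultCrv

namespace Groth.Agent.Helper26.MCGam

section
variable (R : Type u) [CommRing R] (n : ℕ) (M : Type u) [AddCommGroup M] [Module (MultCrv.Rn R n) M]

lemma zpow_n : MultCrv.z R n ^ n = 0 := by
  change Ideal.Quotient.mk (Ideal.span {(Polynomial.X : Polynomial R) ^ n}) Polynomial.X ^ n = 0
  rw [← map_pow, Ideal.Quotient.eq_zero_iff_mem]
  exact Ideal.mem_span_singleton_self _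

lemma g1_mk_eq_zero_iff (i : ℕ) (u : ↥(MultCrv.filt R n M i)) :
    (Submodule.Quotient.mk u : MultCrv.G1 R n M i) = 0 ↔
      ∃ y : M, MultCrv.z R n ^ (i + 1) • y = (u : M) := by
  rw [Submodule.Quotient.mk_eq_zero, Submodule.mem_comap]
  exact Iff.rfl

lemma gam2_mk_eq_zero_iff (i : ℕ) (u : ↥(MultCrv.filt2 R n M (i + 1))) :
    (Submodule.Quotient.mk (Submodule.Quotient.mk u : MultCrv.G2 R n M (i + 1)) :
        MultCrv.Gam2 R n M i) = 0 ↔
      ∃ w : M, MultCrv.z R n ^ (i + 2) • w = 0 ∧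
        MultCrv.z R n ^ i • ((u : M) - MultCrv.z R n • w) = 0 := by
  rw [Submodule.Quotient.mk_eq_zero, LinearMap.mem_range]
  constructor
  · rintro ⟨w', hw'⟩
    obtain ⟨⟨w, hw⟩, rfl⟩ := Submodule.Quotient.mk_surjective _ w'
    refine ⟨w, hw, ?_⟩
    have h1 : MultCrv.lamG2 R n M i (Submodule.Quotient.mk ⟨w, hw⟩) =
        Submodule.Quotient.mk (MultCrv.zDown R n M (i + 1) ⟨w, hw⟩) := rfl
    rw [h1, Submodule.Quotient.eq, Submodule.mem_comap] at hw'
    have h2 : MultCrv.z R n ^ (i + 1 - 1) •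
        ((MultCrv.zDown R n M (i + 1) ⟨w, hw⟩ : M) - (u : M)) = 0 := hw'
    have h3 : (MultCrv.zDown R n M (i + 1) ⟨w, hw⟩ : M) = MultCrv.z R n • w := rfl
    rw [h3, Nat.add_sub_cancel] at h2
    rw [← neg_sub, smul_neg, h2, neg_zero]
  · rintro ⟨w, hw, h⟩
    refine ⟨Submodule.Quotient.mk ⟨w, hw⟩, ?_⟩
    have h1 : MultCrv.lamG2 R n M i (Submodule.Quotient.mk ⟨w, hw⟩) =
        Submodule.Quotient.mk (MultCrv.zDown R n M (i + 1) ⟨w, hw⟩) := rfl
    rw [h1, Submodule.Quotient.eq, Submodule.mem_comap]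
    have h3 : (MultCrv.zDown R n M (i + 1) ⟨w, hw⟩ : M) = MultCrv.z R n • w := rfl
    change MultCrv.z R n ^ (i + 1 - 1) •
        ((MultCrv.zDown R n M (i + 1) ⟨w, hw⟩ : M) - (u : M)) = 0
    rw [h3, Nat.add_sub_cancel, ← neg_sub, smul_neg, h, neg_zero]
end

section
variable (R : Type u) [CommRing R] [IsDomain R] [IsDiscreteValuationRing R] (n : ℕ)
  (M : Type u) [AddCommGroup M] [Module (MultCrv.Rn R n) M] [Module R M]
  [IsScalarTower R (MultCrv.Rn R n) M] [Module.Finite (MultCrv.Rn R n) M]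

omit [IsDomain R] [IsDiscreteValuationRing R] in
lemma finite_R (R : Type u) [CommRing R] (n : ℕ)
    (M : Type u) [AddCommGroup M] [Module (MultCrv.Rn R n) M] [Module R M]
    [IsScalarTower R (MultCrv.Rn R n) M] [Module.Finite (MultCrv.Rn R n) M] : Module.Finite R M := by
  have hfinR : Module.Finite R (MultCrv.Rn R n) :=
    (Polynomial.monic_X_pow n).finite_adjoinRoot
  exact Module.Finite.trans (MultCrv.Rn R n) M

lemma finite_G1 (i : ℕ) : Module.Finite R (MultCrv.G1 R n M i) := by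
  have hfinM : Module.Finite R M := finite_R R n M
  have hinj : Function.Injective
      ((MultCrv.filt R n M i).subtype.restrictScalars R) := Subtype.val_injective
  have hfinK : Module.Finite R ↥(MultCrv.filt R n M i) :=
    Module.Finite.of_injective _ hinj
  let q : ↥(MultCrv.filt R n M i) →ₗ[R] MultCrv.G1 R n M i :=
    (Submodule.mkQ (Submodule.comap (MultCrv.filt R n M i).subtype
      (MultCrv.filt R n M (i + 1)))).restrictScalars R
  have hq : Function.Surjective q := fun x => Submodule.mkQ_surjective _ x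
  exact Module.Finite.of_surjective q hq

lemma finite_Gam2 (i : ℕ) : Module.Finite R (MultCrv.Gam2 R n M i) := by
  have hfinM : Module.Finite R M := finite_R R n M
  have hinj : Function.Injective
      ((MultCrv.filt2 R n M (i + 1)).subtype.restrictScalars R) := Subtype.val_injective
  have hfinK : Module.Finite R ↥(MultCrv.filt2 R n M (i + 1)) :=
    Module.Finite.of_injective _ hinj
  let q : ↥(MultCrv.filt2 R n M (i + 1)) →ₗ[R] MultCrv.G2 R n M (i + 1) :=
    (Submodule.mkQ (Submodule.comap (MultCrv.filt2 R n M (i + 1)).subtype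
        (MultCrv.filt2 R n M (i + 1 - 1)))).restrictScalars R
  have hq : Function.Surjective q := fun x => Submodule.mkQ_surjective _ x
  have hfinG : Module.Finite R (MultCrv.G2 R n M (i + 1)) := Module.Finite.of_surjective q hq
  let q2 : MultCrv.G2 R n M (i + 1) →ₗ[R] MultCrv.Gam2 R n M i :=
    (Submodule.mkQ (LinearMap.range (MultCrv.lamG2 R n M i))).restrictScalars R
  have hq2 : Function.Surjective q2 := fun x => Submodule.mkQ_surjective _ x
  exact Module.Finite.of_surjective q2 hq2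

omit [IsDiscreteValuationRing R] [Module.Finite (MultCrv.Rn R n) M] in
/-- elementwise form of torsion-freeness of `G1 i`. -/
lemma g1_tf_iff (i : ℕ) : Module.IsTorsionFree R (MultCrv.G1 R n M i) ↔
    ∀ (r : R) (y m : M), r ≠ 0 → MultCrv.z R n ^ (i + 1) • y = r • (MultCrv.z R n ^ i • m) →
      ∃ y' : M, MultCrv.z R n ^ (i + 1) • y' = MultCrv.z R n ^ i • m := by
  rw [Module.isTorsionFree_iff_smul_eq_zero]
  constructor
  · intro h r y m hr hy
    have hmem : MultCrv.z R n ^ i • m ∈ MultCrv.filt R n M i := ⟨m, rfl⟩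
    have h1 := h r (Submodule.Quotient.mk ⟨MultCrv.z R n ^ i • m, hmem⟩ : MultCrv.G1 R n M i) (by
      rw [← Submodule.Quotient.mk_smul, g1_mk_eq_zero_iff]
      exact ⟨y, hy⟩)
    rcases h1 with h1 | h1
    · exact absurd h1 hr
    · rw [g1_mk_eq_zero_iff] at h1
      exact h1
  · intro h r x hx
    by_cases hr : r = 0
    · exact Or.inl hr
    · right
      obtain ⟨⟨u, m, rfl⟩, rfl⟩ := Submodule.Quotient.mk_surjective _ x
      rw [← Submodule.Quotient.mk_smul, g1_mk_eq_zero_iff] at hx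
      obtain ⟨y, hy⟩ := hx
      rw [g1_mk_eq_zero_iff]
      exact h r y m hr hy

omit [IsDiscreteValuationRing R] [Module.Finite (MultCrv.Rn R n) M] in
lemma gam2_tf_iff (i : ℕ) : Module.IsTorsionFree R (MultCrv.Gam2 R n M i) ↔
    ∀ (r : R) (u w : M), r ≠ 0 → MultCrv.z R n ^ (i + 1) • u = 0 →
      MultCrv.z R n ^ (i + 2) • w = 0 → MultCrv.z R n ^ i • (r • u - MultCrv.z R n • w) = 0 →
      ∃ w' : M, MultCrv.z R n ^ (i + 2) • w' = 0 ∧
        MultCrv.z R n ^ i • (u - MultCrv.z R n • w') = 0 := by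
  rw [Module.isTorsionFree_iff_smul_eq_zero]
  constructor
  · intro h r u w hr hu hw huw
    have h1 := h r (Submodule.Quotient.mk (Submodule.Quotient.mk ⟨u, hu⟩ :
      MultCrv.G2 R n M (i + 1)) : MultCrv.Gam2 R n M i) (by
      rw [← Submodule.Quotient.mk_smul, ← Submodule.Quotient.mk_smul, gam2_mk_eq_zero_iff]
      exact ⟨w, hw, huw⟩)
    rcases h1 with h1 | h1
    · exact absurd h1 hr
    · rw [gam2_mk_eq_zero_iff] at h1
      exact h1
  · intro h r x hx
    by_cases hr : r = 0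
    · exact Or.inl hr
    · right
      obtain ⟨x', rfl⟩ := Submodule.Quotient.mk_surjective _ x
      obtain ⟨⟨u, hu⟩, rfl⟩ := Submodule.Quotient.mk_surjective _ x'
      rw [← Submodule.Quotient.mk_smul, ← Submodule.Quotient.mk_smul, gam2_mk_eq_zero_iff] at hx
      obtain ⟨w, hw, huw⟩ := hx
      rw [gam2_mk_eq_zero_iff]
      exact h r u w hr hu hw huw

end

end Groth.Agent.Helper26.MCGam

namespace Groth.Agent.Helper26.MCGam
section
variable (R : Type u) [CommRing R] [IsDomain R] (n : ℕ)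
  (M : Type u) [AddCommGroup M] [Module (MultCrv.Rn R n) M] [Module R M]
  [IsScalarTower R (MultCrv.Rn R n) M]

omit [IsDomain R] in
lemma gam2_of_g1 (i : ℕ)
    (h1 : ∀ (r : R) (y m : M), r ≠ 0 → MultCrv.z R n ^ (i + 1) • y = r • (MultCrv.z R n ^ i • m) →
      ∃ y' : M, MultCrv.z R n ^ (i + 1) • y' = MultCrv.z R n ^ i • m) :
    ∀ (r : R) (u w : M), r ≠ 0 → MultCrv.z R n ^ (i + 1) • u = 0 →
      MultCrv.z R n ^ (i + 2) • w = 0 → MultCrv.z R n ^ i • (r • u - MultCrv.z R n • w) = 0 →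
      ∃ w' : M, MultCrv.z R n ^ (i + 2) • w' = 0 ∧
        MultCrv.z R n ^ i • (u - MultCrv.z R n • w') = 0 := by
  intro r u w hr hu hw huw
  have e1 : MultCrv.z R n ^ (i + 1) • w = r • (MultCrv.z R n ^ i • u) := by
    rw [smul_sub, sub_eq_zero, smul_smul, ← pow_succ] at huw
    rw [← huw, smul_comm]
  obtain ⟨y', hy'⟩ := h1 r w u hr e1
  refine ⟨y', ?_, ?_⟩
  · rw [pow_succ', mul_smul, hy', smul_smul, ← pow_succ', hu]
  · rw [smul_sub, smul_smul, ← pow_succ, hy', sub_self]

end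
end Groth.Agent.Helper26.MCGam

namespace Groth.Agent.Helper26.MCGam
section
variable (R : Type u) [CommRing R] [IsDomain R] (n : ℕ)
  (M : Type u) [AddCommGroup M] [Module (MultCrv.Rn R n) M] [Module R M]
  [IsScalarTower R (MultCrv.Rn R n) M]

omit [IsDomain R] in
lemma stepA
    (H2 : ∀ i : ℕ, i < n → ∀ (r : R) (u w : M), r ≠ 0 → MultCrv.z R n ^ (i + 1) • u = 0 →
      MultCrv.z R n ^ (i + 2) • w = 0 → MultCrv.z R n ^ i • (r • u - MultCrv.z R n • w) = 0 →
      ∃ w' : M, MultCrv.z R n ^ (i + 2) • w' = 0 ∧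
        MultCrv.z R n ^ i • (u - MultCrv.z R n • w') = 0) :
    ∀ i : ℕ, i ≤ n → ∀ (r : R) (u y : M), r ≠ 0 → MultCrv.z R n • u = 0 →
      MultCrv.z R n ^ i • y = r • u → ∃ x : M, MultCrv.z R n ^ i • x = u := by
  intro i
  induction i with
  | zero =>
    intro _ r u y hr hu hy
    exact ⟨u, by rw [pow_zero, one_smul]⟩
  | succ i ih =>
    intro hi r u y hr hu hy
    have e0 : MultCrv.z R n ^ i • (MultCrv.z R n • y) = r • u := by
      rw [smul_smul, ← pow_succ, hy]
    obtain ⟨x, hx⟩ := ih (by omega) r u (MultCrv.z R n • y) hr hu e0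
    have hx1 : MultCrv.z R n ^ (i + 1) • x = 0 := by
      rw [pow_succ', mul_smul, hx, hu]
    have hy2 : MultCrv.z R n ^ (i + 2) • y = 0 := by
      rw [pow_succ', mul_smul, hy, smul_comm, hu, smul_zero]
    have e1 : MultCrv.z R n ^ i • (r • x - MultCrv.z R n • y) = 0 := by
      rw [smul_sub, smul_comm, hx, e0, sub_self]
    obtain ⟨w', hw', hw''⟩ := H2 i (by omega) r x y hr hx1 hy2 e1
    refine ⟨w', ?_⟩
    rw [smul_sub, sub_eq_zero, hx, smul_smul, ← pow_succ] at hw''
    exact hw''.symm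

omit [IsDomain R] in
lemma stepB
    (QA : ∀ (r : R) (u y : M), r ≠ 0 → MultCrv.z R n • u = 0 →
      MultCrv.z R n ^ n • y = r • u → ∃ x : M, MultCrv.z R n ^ n • x = u) :
    ∀ (r : R) (m : M), r ≠ 0 → r • m = 0 → m = 0 := by
  have key : ∀ j : ℕ, ∀ (r : R) (m : M), r ≠ 0 → MultCrv.z R n ^ j • m = 0 → r • m = 0 → m = 0 := by
    intro j
    induction j with
    | zero =>
      intro r m _ hm _
      rwa [pow_zero, one_smul] at hm
    | succ j ih =>
      intro r m hr hm hrm
      have h1 : MultCrv.z R n • m = 0 := by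
        apply ih r _ hr
        · rw [smul_smul, ← pow_succ, hm]
        · rw [smul_comm, hrm, smul_zero]
      obtain ⟨x, hx⟩ := QA r m 0 hr h1 (by rw [smul_zero, hrm])
      rw [← hx, zpow_n, zero_smul (MultCrv.Rn R n) x]
  intro r m hr hrm
  exact key n r m hr (by rw [zpow_n, zero_smul (MultCrv.Rn R n) m]) hrm

omit [IsDomain R] in
lemma stepC
    (QA : ∀ i : ℕ, i ≤ n → ∀ (r : R) (u y : M), r ≠ 0 → MultCrv.z R n • u = 0 →
      MultCrv.z R n ^ i • y = r • u → ∃ x : M, MultCrv.z R n ^ i • x = u)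
    (TF : ∀ (r : R) (m : M), r ≠ 0 → r • m = 0 → m = 0) :
    ∀ k i : ℕ, i + k = n → ∀ (r : R) (m y : M), r ≠ 0 →
      MultCrv.z R n ^ i • y = r • m → ∃ y' : M, MultCrv.z R n ^ i • y' = m := by
  intro k
  induction k with
  | zero =>
    intro i hi r m y hr hy
    have hi' : i = n := by omega
    subst hi'
    rw [zpow_n, zero_smul (MultCrv.Rn R i) y] at hy
    exact ⟨0, by rw [smul_zero, TF r m hr hy.symm]⟩
  | succ k ih =>
    intro i hi r m y hr hy
    have e1 : MultCrv.z R n ^ (i + 1) • y = r • (MultCrv.z R n • m) := by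
      rw [pow_succ', mul_smul, hy, smul_comm]
    obtain ⟨y1, hy1⟩ := ih (i + 1) (by omega) r (MultCrv.z R n • m) y hr e1
    have e2 : MultCrv.z R n • (m - MultCrv.z R n ^ i • y1) = 0 := by
      rw [smul_sub, smul_smul, ← pow_succ', hy1, sub_self]
    have e3 : MultCrv.z R n ^ i • (y - r • y1) = r • (m - MultCrv.z R n ^ i • y1) := by
      rw [smul_sub, smul_sub, hy, smul_comm]
    obtain ⟨y2, hy2⟩ := QA i (by omega) r _ _ hr e2 e3
    exact ⟨y2 + y1, by rw [smul_add, hy2, sub_add_cancel]⟩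

end
end Groth.Agent.Helper26.MCGam
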