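import Mathlib
import Groth.Agent.Lib.Helper26.Pure1

namespace Groth.Agent.Lib.Helper26.ML1

open TensorProduct Groth.Agent.Lib.Helper26.Pure1

universe u

variable {R : Type u} [CommRing R]

/-- evaluation map `(α → R) ⊗ Q → (α → Q)` -/
noncomputable def ev (α : Type u) (Q : Type u) [AddCommGroup Q] [Module R Q] :
    (α → R) ⊗[R] Q →ₗ[R] (α → Q) :=
  LinearMap.pi fun a =>
    (TensorProduct.lid R Q).toLinearMap ∘ₗ (LinearMap.proj a : (α → R) →ₗ[R] R).rTensor Q

@[simp] lemma ev_tmul (α : Type u) (Q : Type u) [AddCommGroup Q] [Module R Q] (r : α → R) (q : Q)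
    (a : α) : ev α Q (r ⊗ₜ q) a = r a • q := by
  simp [ev]

lemma ev_natural (α : Type u) {Q Q' : Type u} [AddCommGroup Q] [Module R Q] [AddCommGroup Q']
    [Module R Q'] (f : Q →ₗ[R] Q') (y : (α → R) ⊗[R] Q) (a : α) :
    ev α Q' (f.lTensor (α → R) y) a = f (ev α Q y a) := by
  induction y using TensorProduct.induction_on with
  | zero => simp
  | tmul r q => simp
  | add y₁ y₂ h₁ h₂ => simp only [map_add, Pi.add_apply, h₁, h₂]

theorem ev_injective [IsNoetherianRing R] (α : Type u) (Q : Type u) [AddCommGroup Q] [Module R Q] :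
    Function.Injective (ev (R := R) α Q) := by
  classical
  rw [injective_iff_map_eq_zero]
  intro z hz
  obtain ⟨ι, _, r, q, rfl⟩ := exists_fin_sum z
  have hrel : ∀ a, (fun j => r j a) ∈ LinearMap.ker (Fintype.linearCombination R q) := by
    intro a
    rw [LinearMap.mem_ker, Fintype.linearCombination_apply]
    have := congrFun hz a
    simpa [map_sum, Finset.sum_apply] using this
  have hfg : (LinearMap.ker (Fintype.linearCombination R q)).FG :=
    IsNoetherian.noetherian _
  obtain ⟨n, ρ, hρ⟩ := Submodule.fg_iff_exists_fin_generating_family.1 hfg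
  have hρmem : ∀ i, ∑ j, ρ i j • q j = 0 := by
    intro i
    have : ρ i ∈ LinearMap.ker (Fintype.linearCombination R q) := by
      rw [← hρ]; exact Submodule.subset_span ⟨i, rfl⟩
    rwa [LinearMap.mem_ker, Fintype.linearCombination_apply] at this
  have hs : ∀ a, ∃ s : Fin n → R, ∑ i, s i • ρ i = (fun j => r j a) := by
    intro a
    have := hrel a
    rw [← hρ, Submodule.mem_span_range_iff_exists_fun] at this
    exact this
  choose s hs using hs
  have hr : ∀ j, r j = ∑ i, ρ i j • (fun a => s a i) := by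
    intro j
    ext a
    have := congrFun (hs a) j
    simp only [Finset.sum_apply, Pi.smul_apply, smul_eq_mul] at this ⊢
    rw [← this]
    exact Finset.sum_congr rfl fun i _ => mul_comm _ _
  calc ∑ j, r j ⊗ₜ[R] q j = ∑ j, ∑ i, (fun a => s a i) ⊗ₜ[R] (ρ i j • q j) := by
        refine Finset.sum_congr rfl fun j _ => ?_
        conv_lhs => rw [hr j]
        rw [TensorProduct.sum_tmul]
        refine Finset.sum_congr rfl fun i _ => ?_
        rw [TensorProduct.smul_tmul]
    _ = ∑ i, (fun a => s a i) ⊗ₜ[R] (∑ j, ρ i j • q j) := by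
        rw [Finset.sum_comm]
        refine Finset.sum_congr rfl fun i _ => ?_
        rw [TensorProduct.tmul_sum]
    _ = 0 := by
        refine Finset.sum_eq_zero fun i _ => ?_
        rw [hρmem i, TensorProduct.tmul_zero]

end Groth.Agent.Lib.Helper26.ML1
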