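import Mathlib

namespace Groth.Agent.Lib.Helper26.Pure2

universe u

variable {R : Type u} [CommRing R] (I : Ideal R) {α : Type u}

lemma finsupp_mem_smul_top (J : Ideal R) (w : α →₀ R) (h : ∀ a, w a ∈ J) :
    w ∈ (J • ⊤ : Submodule R (α →₀ R)) := by
  classical
  rw [← Finsupp.sum_single w]
  apply Submodule.sum_mem
  intro a _
  have : Finsupp.single a (w a) = (w a) • (Finsupp.single a (1:R)) := by
    rw [Finsupp.smul_single, smul_eq_mul, mul_one]
  rw [this]
  exact Submodule.smul_mem_smul (h a) Submodule.mem_top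

lemma pi_mem_smul_top {κ : Type*} [Fintype κ] (J : Ideal R) (u : κ → R) (h : ∀ j, u j ∈ J) :
    u ∈ (J • ⊤ : Submodule R (κ → R)) := by
  classical
  have : u = ∑ j, u j • (Pi.single j (1:R) : κ → R) := by
    ext j'; simp [Finset.sum_apply, Pi.single_apply]
  rw [this]
  exact Submodule.sum_mem _ fun j _ => Submodule.smul_mem_smul (h j) Submodule.mem_top

lemma pi_coord_mem_of_mem_smul_top {ι : Type*} (J : Ideal R) (v : ι → R)
    (h : v ∈ (J • ⊤ : Submodule R (ι → R))) (i : ι) : v i ∈ J := by
  refine Submodule.smul_induction_on (p := fun v : ι → R => v i ∈ J) h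
    (fun r hr n _ => ?_) (fun x y hx hy => ?_)
  · simp only [Pi.smul_apply, smul_eq_mul]
    exact J.mul_mem_right _ hr
  · simp only [Pi.add_apply]
    exact J.add_mem hx hy

lemma mem_of_mem_smul_top (J : Ideal R) (r : R) (h : r ∈ (J • ⊤ : Submodule R R)) : r ∈ J := by
  simpa using h

lemma mem_smul_top_of_mem (J : Ideal R) (r : R) (h : r ∈ J) : r ∈ (J • ⊤ : Submodule R R) := by
  simpa using h

section coord

variable [IsAdicComplete I R]

/-- the element of `R` corresponding to the `a`-th coordinate of `y`. -/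
noncomputable def coord (y : AdicCompletion I (α →₀ R)) (a : α) : R :=
  (AdicCompletion.ofLinearEquiv I R).symm (AdicCompletion.map I (Finsupp.lapply a) y)

lemma of_coord (y : AdicCompletion I (α →₀ R)) (a : α) :
    AdicCompletion.of I R (coord I y a) = AdicCompletion.map I (Finsupp.lapply a) y :=
  AdicCompletion.of_ofLinearEquiv_symm _ _

lemma coord_sub_mem (y : AdicCompletion I (α →₀ R)) (n : ℕ) (m : α →₀ R)
    (hm : Submodule.Quotient.mk m = y.val n) (a : α) : coord I y a - m a ∈ I ^ n := by
  have h1 : (AdicCompletion.of I R (coord I y a)).val n =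
      (AdicCompletion.map I (Finsupp.lapply a) y).val n := by rw [of_coord]
  rw [AdicCompletion.of_apply, AdicCompletion.map_val_apply, ← hm,
    LinearMap.reduceModIdeal_apply, Submodule.mkQ_apply, Submodule.Quotient.eq] at h1
  exact mem_of_mem_smul_top _ _ h1

lemma coord_finite (y : AdicCompletion I (α →₀ R)) (n : ℕ) :
    {a | coord I y a ∉ I ^ n}.Finite := by
  obtain ⟨m, hm⟩ := Submodule.Quotient.mk_surjective _ (y.val n)
  apply Set.Finite.subset m.support.finite_toSet
  intro a ha
  simp only [Finset.mem_coe, Finsupp.mem_support_iff]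
  intro h0
  apply ha
  have := coord_sub_mem I y n m hm a
  rwa [h0, sub_zero] at this

end coord

section ofNull

open Classical in
/-- truncation of a null family -/
noncomputable def trunc (x : α → R) (hx : ∀ n, {a | x a ∉ I ^ n}.Finite) (n : ℕ) : α →₀ R :=
  Finsupp.onFinset (hx n).toFinset (fun a => if x a ∈ I ^ n then 0 else x a) (by
    intro a ha
    simp only [Set.Finite.mem_toFinset, Set.mem_ofPred_eq]
    intro h
    simp [h] at ha)

lemma sub_trunc_mem (x : α → R) (hx : ∀ n, {a | x a ∉ I ^ n}.Finite) (n : ℕ) (a : α) :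
    x a - trunc I x hx n a ∈ I ^ n := by
  classical
  simp only [trunc, Finsupp.onFinset_apply]
  split_ifs with h
  · simpa using h
  · simp

/-- the element of the completion of the direct sum attached to a null family. -/
noncomputable def ofNull (x : α → R) (hx : ∀ n, {a | x a ∉ I ^ n}.Finite) :
    AdicCompletion I (α →₀ R) :=
  AdicCompletion.mk I _ (AdicCompletion.AdicCauchySequence.mk I _ (trunc I x hx) (by
    intro n
    rw [SModEq.sub_mem]
    apply finsupp_mem_smul_top
    intro a
    have h1 := sub_trunc_mem I x hx n a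
    have h2 := Ideal.pow_le_pow_right (Nat.le_succ n) (sub_trunc_mem I x hx (n + 1) a)
    have : (trunc I x hx n - trunc I x hx (n + 1)) a =
        (x a - trunc I x hx (n + 1) a) - (x a - trunc I x hx n a) := by
      simp only [Finsupp.coe_sub, Pi.sub_apply]; ring
    rw [this]
    exact (I ^ n).sub_mem h2 h1))

lemma map_lapply_ofNull (x : α → R) (hx : ∀ n, {a | x a ∉ I ^ n}.Finite) (a : α) :
    AdicCompletion.map I (Finsupp.lapply a) (ofNull I x hx) = AdicCompletion.of I R (x a) := by
  apply AdicCompletion.ext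
  intro n
  rw [AdicCompletion.map_val_apply, AdicCompletion.of_apply, ofNull, AdicCompletion.mk_apply_coe,
    Submodule.mkQ_apply, LinearMap.reduceModIdeal_apply, Submodule.mkQ_apply, Submodule.Quotient.eq]
  apply mem_smul_top_of_mem
  have := sub_trunc_mem I x hx n a
  change trunc I x hx n a - x a ∈ I ^ n
  rw [← neg_sub]
  exact (I ^ n).neg_mem this

end ofNull

lemma eq_zero_of_forall_map_eq_zero (y : AdicCompletion I (α →₀ R))
    (h : ∀ a, AdicCompletion.map I (Finsupp.lapply a) y = 0) : y = 0 := by
  apply AdicCompletion.ext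
  intro n
  obtain ⟨m, hm⟩ := Submodule.Quotient.mk_surjective _ (y.val n)
  rw [← hm, AdicCompletion.val_zero_apply, Submodule.Quotient.mk_eq_zero]
  apply finsupp_mem_smul_top
  intro a
  have h1 : (AdicCompletion.map I (Finsupp.lapply a) y).val n = 0 := by rw [h a]; rfl
  rw [AdicCompletion.map_val_apply, ← hm, LinearMap.reduceModIdeal_apply,
    Submodule.Quotient.mk_eq_zero] at h1
  exact mem_of_mem_smul_top _ _ h1

end Groth.Agent.Lib.Helper26.Pure2
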