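import Mathlib
import Groth.Agent.Lib.Helper26.Pure1
import Groth.Agent.Lib.Helper26.Pure2

namespace Groth.Agent.Lib.Helper26.Pure3

open Groth.Agent.Lib.Helper26.Pure1 Groth.Agent.Lib.Helper26.Pure2

universe u

variable {R : Type u} [CommRing R] (I : Ideal R) {α : Type u}

/-- the linear map attached to a matrix -/
def T {ι κ : Type*} [Fintype ι] (A : ι → κ → R) : (ι → R) →ₗ[R] (κ → R) where
  toFun v j := ∑ i, A i j * v i
  map_add' v w := by ext j; simp [mul_add, Finset.sum_add_distrib]
  map_smul' r v := by ext j; simp [Finset.mul_sum, mul_left_comm]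

lemma T_apply {ι κ : Type*} [Fintype ι] (A : ι → κ → R) (v : ι → R) (j : κ) :
    T A v j = ∑ i, A i j * v i := rfl

lemma artin_rees_matrix [IsNoetherianRing R] {ι κ : Type*} [Fintype ι] [Fintype κ]
    (A : ι → κ → R) :
    ∃ c : ℕ, ∀ (n : ℕ) (v : ι → R), (∀ j, T A v j ∈ I ^ (n + c)) →
      ∃ v' : ι → R, (∀ i, v' i ∈ I ^ n) ∧ T A v' = T A v := by
  obtain ⟨c, hc⟩ := Ideal.exists_pow_inf_eq_pow_smul I (LinearMap.range (T A))
  refine ⟨c, fun n v hv => ?_⟩
  have h1 : T A v ∈ (I ^ (n + c) • ⊤ : Submodule R (κ → R)) ⊓ LinearMap.range (T A) :=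
    ⟨pi_mem_smul_top _ _ hv, LinearMap.mem_range_self _ _⟩
  rw [hc (n + c) (Nat.le_add_left _ _), Nat.add_sub_cancel] at h1
  have h2 : T A v ∈ I ^ n • LinearMap.range (T A) :=
    Submodule.smul_mono le_rfl inf_le_right h1
  rw [← Submodule.map_top, ← Submodule.map_smul''] at h2
  obtain ⟨v', hv', hv'e⟩ := h2
  exact ⟨v', fun i => pi_coord_mem_of_mem_smul_top _ _ hv' i, hv'e⟩

lemma exists_good_preimage [IsNoetherianRing R] [IsHausdorff I R] {ι κ : Type*} [Fintype ι]
    [Fintype κ] (A : ι → κ → R) (c : ℕ)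
    (hc : ∀ (n : ℕ) (v : ι → R), (∀ j, T A v j ∈ I ^ (n + c)) →
      ∃ v' : ι → R, (∀ i, v' i ∈ I ^ n) ∧ T A v' = T A v)
    (w : ι → R) :
    ∃ v : ι → R, T A v = T A w ∧ ∀ n, (∀ j, T A w j ∈ I ^ (n + c)) → ∀ i, v i ∈ I ^ n := by
  classical
  by_cases hall : ∀ n, ∀ j, T A w j ∈ I ^ n
  · have h0 : T A w = 0 := by
      ext j
      apply IsHausdorff.haus (inferInstance : IsHausdorff I R)
      intro n
      rw [SModEq.zero]
      exact mem_smul_top_of_mem _ _ (hall n j)
    exact ⟨0, by rw [h0, map_zero], fun n _ i => by simp⟩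
  · push Not at hall
    have hex : ∃ n, ¬ ∀ j, T A w j ∈ I ^ n := by
      obtain ⟨n, j, hj⟩ := hall
      exact ⟨n, fun h => hj (h j)⟩
    have hmin : ∀ m, m < Nat.find hex → ¬ ¬ ∀ j, T A w j ∈ I ^ m := fun m hm => Nat.find_min hex hm
    have hspec := Nat.find_spec hex
    set n₀ := Nat.find hex with hn₀
    have hn₀pos : n₀ ≠ 0 := by
      intro h0
      apply hspec
      intro j
      rw [h0, pow_zero, Ideal.one_eq_top]
      trivial
    have hm : ∀ j, T A w j ∈ I ^ (n₀ - 1) := by
      have := hmin (n₀ - 1) (by omega)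
      push Not at this
      exact this
    have hlt : ∀ n, (∀ j, T A w j ∈ I ^ (n + c)) → n + c < n₀ := by
      intro n hn
      by_contra hge
      push Not at hge
      exact hspec fun j => Ideal.pow_le_pow_right hge (hn j)
    by_cases hcm : c ≤ n₀ - 1
    · obtain ⟨v', hv', hv'e⟩ := hc (n₀ - 1 - c) w (by
        intro j
        have : n₀ - 1 - c + c = n₀ - 1 := by omega
        rw [this]; exact hm j)
      refine ⟨v', hv'e, fun n hn i => ?_⟩
      have := hlt n hn
      exact Ideal.pow_le_pow_right (by omega) (hv' i)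
    · refine ⟨w, rfl, fun n hn i => ?_⟩
      have := hlt n hn
      omega

/-- the map of the statement -/
noncomputable def φ (α : Type u) : AdicCompletion I (α →₀ R) →ₗ[R] (α → AdicCompletion I R) :=
  LinearMap.pi fun a : α =>
    LinearMap.restrictScalars R (AdicCompletion.map I (Finsupp.lapply a : (α →₀ R) →ₗ[R] R))

/-- coordinate maps -/
noncomputable def ψ (a : α) : AdicCompletion I (α →₀ R) →ₗ[R] AdicCompletion I R :=
  LinearMap.restrictScalars R (AdicCompletion.map I (Finsupp.lapply a : (α →₀ R) →ₗ[R] R))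

lemma φ_apply (y : AdicCompletion I (α →₀ R)) (a : α) : φ I α y a = ψ I a y := rfl

lemma ψ_apply (y : AdicCompletion I (α →₀ R)) (a : α) :
    ψ I a y = AdicCompletion.map I (Finsupp.lapply a) y := rfl

theorem equational_φ [IsNoetherianRing R] [IsAdicComplete I R] : Equational (φ I α) := by
  intro ι κ _ _ A y p h
  classical
  obtain ⟨c, hc⟩ := artin_rees_matrix I A
  let π : α → ι → R := fun a i => (AdicCompletion.ofLinearEquiv I R).symm (p i a)
  have hπ : ∀ a i, AdicCompletion.of I R (π a i) = p i a :=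
    fun a i => AdicCompletion.of_ofLinearEquiv_symm _ _
  have hη : ∀ a j, coord I (y j) a = T A (π a) j := by
    intro a j
    apply AdicCompletion.of_injective (I := I) (M := R)
    rw [of_coord, T_apply, map_sum]
    have := congrFun (h j) a
    rw [φ_apply, ψ_apply] at this
    rw [this, Finset.sum_apply]
    refine Finset.sum_congr rfl fun i _ => ?_
    rw [Pi.smul_apply, ← hπ, ← smul_eq_mul, map_smul]
  choose v hv1 hv2 using fun a => exists_good_preimage I A c hc (π a)
  have hnull : ∀ i n, {a | v a i ∉ I ^ n}.Finite := by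
    intro i n
    apply Set.Finite.subset (Set.finite_iUnion fun j => coord_finite I (y j) (n + c))
    intro a ha
    simp only [Set.mem_iUnion, Set.mem_ofPred_eq]
    by_contra hcon
    push Not at hcon
    exact ha (hv2 a n (fun j => by rw [← hη]; exact hcon j) i)
  refine ⟨fun i => ofNull I (fun a => v a i) (hnull i), fun j => ?_⟩
  rw [← sub_eq_zero]
  apply eq_zero_of_forall_map_eq_zero
  intro a
  change ψ I a _ = 0
  rw [map_sub, map_sum, sub_eq_zero]
  have h1 : ∀ i, ψ I a (A i j • ofNull I (fun a => v a i) (hnull i)) =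
      AdicCompletion.of I R (A i j * v a i) := by
    intro i
    rw [map_smul, ψ_apply, map_lapply_ofNull, ← smul_eq_mul, map_smul]
  rw [Finset.sum_congr rfl fun i _ => h1 i, ← map_sum, ψ_apply, ← of_coord, hη, ← hv1, T_apply]

end Groth.Agent.Lib.Helper26.Pure3
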