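import Mathlib
import Groth.Prelude.Def_Found
import Groth.Agent.Lib.Helper26.ML1
import Groth.Agent.Lib.Helper26.Pure3

namespace Groth.Agent.Lib.Helper26.ML2

open TensorProduct Groth.Agent.Lib.Helper26.ML1

universe u

variable {R : Type u} [CommRing R] [IsNoetherianRing R]

theorem flat_of_univInj {N : Type u} [AddCommGroup N] [Module R N] {α : Type u}
    (ψ : N →ₗ[R] (α → R)) (hψ : ∀ (Q : Type u) [AddCommGroup Q] [Module R Q],
      Function.Injective (ψ.rTensor Q)) : Module.Flat R N := by
  rw [Module.Flat.iff_lTensor_injective']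
  intro J
  rw [injective_iff_map_eq_zero]
  intro x hx
  apply hψ J
  rw [map_zero]
  apply ev_injective α J
  rw [map_zero]
  ext a
  have h1 := ev_natural α J.subtype (ψ.rTensor J x) a
  have h2 : J.subtype.lTensor (α → R) (ψ.rTensor J x) = ψ.rTensor R (J.subtype.lTensor N x) := by
    rw [← LinearMap.comp_apply, ← LinearMap.comp_apply, LinearMap.lTensor_comp_rTensor,
      LinearMap.rTensor_comp_lTensor]
  rw [h2, hx, map_zero, map_zero, Pi.zero_apply] at h1
  exact h1.symm

theorem ml_of_univInj {N : Type u} [AddCommGroup N] [Module R N] {α : Type u}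
    (ψ : N →ₗ[R] (α → R)) (hψ : ∀ (Q : Type u) [AddCommGroup Q] [Module R Q],
      Function.Injective (ψ.rTensor Q)) : CAlg.IsMittagLeffler R N := by
  intro ι Q _ _
  rw [injective_iff_map_eq_zero]
  intro x hx
  have hpr : ∀ i, (LinearMap.proj i : (∀ i, Q i) →ₗ[R] Q i).lTensor N x = 0 := by
    intro i
    have key : ∀ z : N ⊗[R] (∀ i, Q i),
        (LinearMap.proj i : (∀ i, Q i) →ₗ[R] Q i).lTensor N z =
          TensorProduct.piRightHom R R N Q z i := by
      intro z
      induction z using TensorProduct.induction_on with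
      | zero => simp
      | tmul n f => simp
      | add z₁ z₂ h₁ h₂ => simp only [map_add, Pi.add_apply, h₁, h₂]
    rw [key, hx, Pi.zero_apply]
  apply hψ (∀ i, Q i)
  rw [map_zero]
  apply ev_injective α (∀ i, Q i)
  rw [map_zero]
  ext a i
  have h1 := ev_natural α (LinearMap.proj i : (∀ i, Q i) →ₗ[R] Q i) (ψ.rTensor _ x) a
  have h2 : (LinearMap.proj i : (∀ i, Q i) →ₗ[R] Q i).lTensor (α → R) (ψ.rTensor _ x) =
      ψ.rTensor (Q i) ((LinearMap.proj i : (∀ i, Q i) →ₗ[R] Q i).lTensor N x) := by
    rw [← LinearMap.comp_apply, ← LinearMap.comp_apply, LinearMap.lTensor_comp_rTensor,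
      LinearMap.rTensor_comp_lTensor]
  rw [h2, hpr i, map_zero, map_zero, Pi.zero_apply] at h1
  exact h1.symm

theorem completion_free (I : Ideal R) [IsAdicComplete I R] (α : Type u) :
    Module.Flat R (AdicCompletion I (α →₀ R)) ∧
      CAlg.IsMittagLeffler R (AdicCompletion I (α →₀ R)) := by
  let e : (α → AdicCompletion I R) ≃ₗ[R] (α → R) :=
    LinearEquiv.piCongrRight (fun _ => (AdicCompletion.ofLinearEquiv I R).symm)
  let ψ : AdicCompletion I (α →₀ R) →ₗ[R] (α → R) := e.toLinearMap ∘ₗ Pure3.φ I α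
  have hψ : ∀ (Q : Type u) [AddCommGroup Q] [Module R Q],
      Function.Injective (ψ.rTensor Q) := by
    intro Q _ _
    have h1 := Pure1.rTensor_injective_of_equational _ (Pure3.equational_φ I (α := α)) Q
    have h2 : Function.Injective (e.toLinearMap.rTensor Q) := by
      rw [← LinearEquiv.coe_rTensor]
      exact (LinearEquiv.rTensor Q e).injective
    rw [LinearMap.rTensor_comp]
    exact h2.comp h1
  exact ⟨flat_of_univInj ψ hψ, ml_of_univInj ψ hψ⟩

end Groth.Agent.Lib.Helper26.ML2
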