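import Mathlib

set_option linter.unusedSectionVars false
set_option linter.style.haveILetI false

namespace Groth.Agent.Helper26.MaxEt

open TensorProduct

universe u

/-- The range of an algebra hom out of a finite étale algebra over a field is finite étale. -/
theorem etale_range {k : Type u} [Field k] {C B : Type u} [CommRing C] [CommRing B]
    [Algebra k C] [Algebra k B] [Module.Finite k C] [Algebra.Etale k C] (f : C →ₐ[k] B) :
    Module.Finite k f.range ∧ Algebra.Etale k f.range := by
  have hsurj : Function.Surjective f.rangeRestrict := f.rangeRestrict_surjective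
  haveI hfin : Module.Finite k f.range :=
    Module.Finite.of_surjective f.rangeRestrict.toLinearMap hsurj
  haveI : Algebra.FormallyUnramified k f.range :=
    Algebra.FormallyUnramified.of_surjective f.rangeRestrict hsurj
  haveI : Algebra.FormallyEtale k f.range :=
    Algebra.FormallyEtale.of_formallyUnramified_of_field k f.range
  exact ⟨hfin, ⟨inferInstance, Algebra.FinitePresentation.of_finiteType.mp inferInstance⟩⟩

/-- A uniform bound on the dimension of finite étale subalgebras of a finite type algebra. -/
theorem exists_bound (k B : Type u) [Field k] [CommRing B] [Algebra k B]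
    [Algebra.FiniteType k B] :
    ∃ N : ℕ, ∀ E : Subalgebra k B, Module.Finite k E → Algebra.Etale k E →
      Module.finrank k E ≤ N := by
  classical
  let K := AlgebraicClosure k
  let C := K ⊗[k] B
  haveI : IsNoetherianRing C := Algebra.FiniteType.isNoetherianRing K C
  have hfinmin : (minimalPrimes C).Finite := minimalPrimes.finite_of_isNoetherianRing C
  haveI : Finite (minimalPrimes C) := hfinmin
  refine ⟨Nat.card (minimalPrimes C), ?_⟩
  intro E hEfin hEet
  let D := K ⊗[k] E
  let j : D →ₐ[K] C := Algebra.TensorProduct.map (AlgHom.id K K) E.val
  have hj : Function.Injective j := by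
    have : Function.Injective (E.val.toLinearMap.lTensor K) :=
      Module.Flat.lTensor_preserves_injective_linearMap _ Subtype.val_injective
    exact this
  haveI : Algebra.Etale K D := inferInstance
  haveI : Module.Finite K D := inferInstance
  haveI : IsArtinianRing D := IsArtinianRing.of_finite K D
  haveI : Finite (PrimeSpectrum D) := inferInstance
  let e : D ≃ₐ[K] (PrimeSpectrum D → K) := Algebra.FormallyEtale.equivPiOfIsSepClosed K D
  have h1 : Module.finrank k E = Nat.card (PrimeSpectrum D) := by
    rw [← Module.finrank_baseChange (R := K) (S := k) (M' := E), e.toLinearEquiv.finrank_eq]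
    haveI := Fintype.ofFinite (PrimeSpectrum D)
    rw [Module.finrank_fintype_fun_eq_card, Nat.card_eq_fintype_card]
  rw [h1]
  have hex : ∀ P : PrimeSpectrum D, ∃ p' ∈ minimalPrimes C, Ideal.comap j.toRingHom p' = P.asIdeal := by
    intro P
    have hP : P.asIdeal ∈ ((⊥ : Ideal C).comap j.toRingHom).minimalPrimes := by
      rw [Ideal.comap_bot_of_injective j.toRingHom hj]
      exact Ideal.mem_minimalPrimes_of_krullDimLE_zero _
    exact Ideal.exists_minimalPrimes_comap_eq j.toRingHom P.asIdeal hP
  choose g hg1 hg2 using hex
  let G : PrimeSpectrum D → minimalPrimes C := fun P => ⟨g P, hg1 P⟩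
  have hG : Function.Injective G := by
    intro P Q h
    have : g P = g Q := congrArg Subtype.val h
    exact PrimeSpectrum.ext (by rw [← hg2 P, ← hg2 Q, this])
  exact Nat.card_le_card_of_injective G hG

end Groth.Agent.Helper26.MaxEt
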