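import Mathlib
import Groth.Agent.Lib.Helper26.MaxEt1

set_option linter.unusedSectionVars false
set_option linter.style.haveILetI false

namespace Groth.Agent.Helper26.MaxEt

open TensorProduct

universe u

variable {k B : Type u} [Field k] [CommRing B] [Algebra k B]

/-- The sup of two finite étale subalgebras is finite étale. -/
theorem etale_sup (E E' : Subalgebra k B) [Module.Finite k E] [Algebra.Etale k E]
    [Module.Finite k E'] [Algebra.Etale k E'] :
    Module.Finite k (E ⊔ E' : Subalgebra k B) ∧ Algebra.Etale k (E ⊔ E' : Subalgebra k B) := by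
  haveI : Algebra.Etale k (E ⊗[k] E') := Algebra.Etale.comp k E (E ⊗[k] E')
  have h := etale_range (Algebra.TensorProduct.productMap E.val E'.val)
  rw [Algebra.TensorProduct.productMap_range, Subalgebra.range_val, Subalgebra.range_val] at h
  exact h

theorem etale_bot : Module.Finite k (⊥ : Subalgebra k B) ∧ Algebra.Etale k (⊥ : Subalgebra k B) := by
  have h := etale_range (Algebra.ofId k B)
  rwa [Algebra.range_ofId] at h

theorem exists_largest [Algebra.FiniteType k B] (A : Subalgebra k B) :
    ∃ E : Subalgebra k B, E ≤ A ∧ Module.Finite k E ∧ Algebra.Etale k E ∧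
      ∀ E' : Subalgebra k B, E' ≤ A → Module.Finite k E' → Algebra.Etale k E' → E' ≤ E := by
  obtain ⟨N, hN⟩ := exists_bound k B
  let S : Set ℕ := {n | ∃ E : Subalgebra k B, E ≤ A ∧ Module.Finite k E ∧ Algebra.Etale k E ∧
    Module.finrank k E = n}
  have hne : S.Nonempty := ⟨_, ⊥, bot_le, etale_bot.1, etale_bot.2, rfl⟩
  have hbdd : BddAbove S := ⟨N, by rintro n ⟨E, -, h1, h2, rfl⟩; exact hN E h1 h2⟩
  obtain ⟨E, hEA, hEfin, hEet, hEn⟩ := Nat.sSup_mem hne hbdd
  refine ⟨E, hEA, hEfin, hEet, ?_⟩
  intro E' hE'A hE'fin hE'et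
  obtain ⟨hfin, het⟩ := etale_sup E E'
  have hle : Module.finrank k (E ⊔ E' : Subalgebra k B) ≤ Module.finrank k E := by
    rw [hEn]
    exact le_csSup hbdd ⟨E ⊔ E', sup_le hEA hE'A, hfin, het, rfl⟩
  have hsub : Subalgebra.toSubmodule E ≤ Subalgebra.toSubmodule (E ⊔ E') := by
    intro x hx; exact (le_sup_left : E ≤ E ⊔ E') hx
  haveI : FiniteDimensional k (Subalgebra.toSubmodule (E ⊔ E')) := hfin
  have heq : Subalgebra.toSubmodule E = Subalgebra.toSubmodule (E ⊔ E') :=
    Submodule.eq_of_le_of_finrank_le hsub hle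
  have heq' : E = E ⊔ E' := Subalgebra.toSubmodule_injective heq
  rw [heq']
  exact le_sup_right

theorem comap_surjective (E A : Subalgebra k B) (hE : E ≤ A) [Module.Finite k E] :
    Function.Surjective (PrimeSpectrum.comap (Subalgebra.inclusion hE).toRingHom) := by
  haveI : IsArtinianRing E := IsArtinianRing.of_finite k E
  intro P
  obtain ⟨p', hp', hcomap⟩ := Ideal.exists_comap_eq_of_mem_minimalPrimes_of_injective
    (f := (Subalgebra.inclusion hE).toRingHom) (Subalgebra.inclusion_injective hE) P.asIdeal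
    (Ideal.mem_minimalPrimes_of_krullDimLE_zero _)
  exact ⟨⟨p', hp'⟩, PrimeSpectrum.ext hcomap⟩

end Groth.Agent.Helper26.MaxEt
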