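import Mathlib

set_option linter.unusedSectionVars false
set_option linter.style.haveILetI false

namespace Groth.Agent.Helper26.MaxEt

/-- Idempotents are determined by the minimal primes containing them. -/
theorem idem_eq_of_minimalPrimes {R : Type*} [CommRing R] {e f : R}
    (he : IsIdempotentElem e) (hf : IsIdempotentElem f)
    (h : ∀ p ∈ minimalPrimes R, e ∈ p ↔ f ∈ p) : e = f := by
  have key : ∀ {a b : R}, IsIdempotentElem a → IsIdempotentElem b →
      (∀ p ∈ minimalPrimes R, a ∈ p → b ∈ p) → b * (1 - a) = 0 := by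
    intro a b ha hb hab
    have hidem : IsIdempotentElem (b * (1 - a)) := hb.mul ha.one_sub
    apply hidem.eq_zero_of_isNilpotent
    rw [← mem_nilradical, nilradical, ← Ideal.sInf_minimalPrimes, Ideal.mem_sInf]
    intro p hp
    have hp' : p ∈ minimalPrimes R := hp
    haveI := hp'.isPrime
    by_cases hap : a ∈ p
    · exact Ideal.mul_mem_right _ _ (hab p hp' hap)
    · have : a * (1 - a) ∈ p := by
        have : a * (1 - a) = 0 := by rw [mul_sub, mul_one, ha.eq, sub_self]
        rw [this]; exact p.zero_mem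
      exact Ideal.mul_mem_left _ _ (((Ideal.IsPrime.mem_or_mem inferInstance this)).resolve_left hap)
  have h1 : f * (1 - e) = 0 := key he hf (fun p hp => (h p hp).mp)
  have h2 : e * (1 - f) = 0 := key hf he (fun p hp => (h p hp).mpr)
  have h1' : f = f * e := by linear_combination h1
  have h2' : e = e * f := by linear_combination h2
  rw [h2', mul_comm, ← h1']

theorem finite_idem (R : Type*) [CommRing R] [IsNoetherianRing R] :
    {e : R | IsIdempotentElem e}.Finite := by
  have hfin : (minimalPrimes R).Finite := minimalPrimes.finite_of_isNoetherianRing R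
  let F : R → Set (Ideal R) := fun e => {p | p ∈ minimalPrimes R ∧ e ∈ p}
  have hinj : Set.InjOn F {e : R | IsIdempotentElem e} := by
    intro e he f hf hef
    apply idem_eq_of_minimalPrimes he hf
    intro p hp
    have h1 : p ∈ F e ↔ p ∈ F f := by rw [hef]
    exact ⟨fun h => (h1.mp ⟨hp, h⟩).2, fun h => (h1.mpr ⟨hp, h⟩).2⟩
  apply Set.Finite.of_finite_image _ hinj
  apply Set.Finite.subset (hfin.finite_subsets)
  rintro _ ⟨e, -, rfl⟩
  intro p hp
  exact hp.1

theorem finite_idem_sub {k B : Type*} [CommRing k] [CommRing B] [Algebra k B] [IsNoetherianRing B]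
    (A : Subalgebra k B) : Finite {a : A // IsIdempotentElem a} := by
  have hfin := finite_idem B
  haveI : Finite {e : B // IsIdempotentElem e} := hfin
  let G : {a : A // IsIdempotentElem a} → {e : B // IsIdempotentElem e} :=
    fun a => ⟨a.1.1, by
      have := a.2
      unfold IsIdempotentElem at this ⊢
      exact congrArg Subtype.val this⟩
  apply Finite.of_injective G
  intro a b hab
  apply Subtype.ext
  apply Subtype.ext
  exact (congrArg Subtype.val hab : (G a).1 = (G b).1)

theorem exists_min_idem (R : Type*) [CommRing R] [Finite {a : R // IsIdempotentElem a}]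
    (p : Ideal R) [p.IsPrime] :
    ∃ e : R, IsIdempotentElem e ∧ e ∉ p ∧
      ∀ f, IsIdempotentElem f → f * e = f → f ∉ p → f = e := by
  have hex : ∃ a : {a : R // IsIdempotentElem a}, a.1 ∉ p :=
    ⟨⟨1, IsIdempotentElem.one⟩, fun h => (inferInstance : p.IsPrime).ne_top
      ((Ideal.eq_top_iff_one p).mpr h)⟩
  obtain ⟨e, he⟩ := exists_minimal_of_wellFoundedLT (fun a : {a : R // IsIdempotentElem a} => a.1 ∉ p) hex
  refine ⟨e.1, e.2, he.prop, ?_⟩
  intro f hf hfe hfp
  have hle : (⟨f, hf⟩ : {a : R // IsIdempotentElem a}) ≤ e := hfe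
  have := he.le_of_le (y := ⟨f, hf⟩) hfp hle
  exact congrArg Subtype.val (le_antisymm hle this)

theorem isPreconnected_basicOpen {R : Type*} [CommRing R] (p : Ideal R) [p.IsPrime] (e : R)
    (he : IsIdempotentElem e) (hep : e ∉ p)
    (hmin : ∀ f, IsIdempotentElem f → f * e = f → f ∉ p → f = e) :
    IsPreconnected (PrimeSpectrum.basicOpen e : Set (PrimeSpectrum R)) := by
  rw [isPreconnected_iff_subset_of_disjoint]
  intro u v hu hv huv hdisj
  set s : Set (PrimeSpectrum R) := (PrimeSpectrum.basicOpen e : Set (PrimeSpectrum R)) with hs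
  have hsclopen : IsClopen s := PrimeSpectrum.isClopen_iff.mpr ⟨e, he, rfl⟩
  have hsu : s ∩ u = s \ v := by
    ext x
    constructor
    · rintro ⟨hxs, hxu⟩
      refine ⟨hxs, fun hxv => ?_⟩
      have : x ∈ s ∩ (u ∩ v) := ⟨hxs, hxu, hxv⟩
      rw [hdisj] at this
      exact this
    · rintro ⟨hxs, hxv⟩
      exact ⟨hxs, (huv hxs).resolve_right hxv⟩
  have hclopen : IsClopen (s ∩ u) :=
    ⟨by rw [hsu]; exact hsclopen.1.sdiff hv, hsclopen.2.inter hu⟩
  obtain ⟨f, hf, hfeq⟩ := PrimeSpectrum.isClopen_iff.mp hclopen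
  have hf'idem : IsIdempotentElem (f * e) := hf.mul he
  have hf'e : (f * e) * e = f * e := by rw [mul_assoc, he.eq]
  have hf'eq : (PrimeSpectrum.basicOpen (f * e) : Set (PrimeSpectrum R)) = s ∩ u := by
    rw [PrimeSpectrum.basicOpen_mul]
    change (PrimeSpectrum.basicOpen f : Set _) ∩ (PrimeSpectrum.basicOpen e : Set _) = s ∩ u
    rw [← hfeq, ← hs]
    ext x; constructor
    · rintro ⟨h1, _⟩; exact h1
    · intro h1; exact ⟨h1, h1.1⟩
  by_cases hfp : f * e ∈ p
  · right
    have hg_idem : IsIdempotentElem (e * (1 - f)) := he.mul hf.one_sub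
    have hge : (e * (1 - f)) * e = e * (1 - f) := by
      rw [mul_right_comm, he.eq]
    have hgp : e * (1 - f) ∉ p := by
      intro h
      apply hep
      have : e = e * (1 - f) + f * e := by ring
      rw [this]
      exact p.add_mem h hfp
    have hg := hmin _ hg_idem hge hgp
    have hfe0 : f * e = 0 := by linear_combination -hg
    have hempty : s ∩ u = ∅ := by
      rw [← hf'eq, hfe0]
      simp
    intro x hxs
    refine (huv hxs).resolve_left (fun hxu => ?_)
    have : x ∈ s ∩ u := ⟨hxs, hxu⟩
    rw [hempty] at this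
    exact this
  · left
    have hg := hmin _ hf'idem hf'e hfp
    intro x hxs
    have : x ∈ s ∩ u := by
      rw [← hf'eq, hg]
      exact hxs
    exact this.2

end Groth.Agent.Helper26.MaxEt
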