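import Mathlib
import Groth.Agent.Lib.Helper26.MaxEt2
import Groth.Agent.Lib.Helper26.MaxEt3

set_option linter.unusedSectionVars false
set_option linter.style.haveILetI false

namespace Groth.Agent.Helper26.MaxEt

universe u

variable {k B : Type u} [Field k] [CommRing B] [Algebra k B]

/-- The algebra map `k × k → B` attached to an idempotent. -/
noncomputable def idemHom (e : B) (he : IsIdempotentElem e) : (Fin 2 → k) →ₐ[k] B :=
  AlgHom.ofLinearMap
    ((LinearMap.proj 0 : (Fin 2 → k) →ₗ[k] k).smulRight e +
      (LinearMap.proj 1 : (Fin 2 → k) →ₗ[k] k).smulRight (1 - e))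
    (by simp)
    (by
      intro x y
      simp only [LinearMap.add_apply, LinearMap.smulRight_apply, LinearMap.proj_apply,
        Pi.mul_apply, Algebra.smul_def, map_mul]
      linear_combination (-(algebraMap k B (x 0)) * (algebraMap k B (y 0))
        + (algebraMap k B (x 0)) * (algebraMap k B (y 1))
        + (algebraMap k B (x 1)) * (algebraMap k B (y 0))
        - (algebraMap k B (x 1)) * (algebraMap k B (y 1))) * he.eq)

theorem idemHom_single (e : B) (he : IsIdempotentElem e) :
    idemHom (k := k) e he (Pi.single 0 1) = e := by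
  simp [idemHom]

theorem idemHom_range_le (A : Subalgebra k B) (e : B) (he : IsIdempotentElem e) (heA : e ∈ A) :
    (idemHom (k := k) e he).range ≤ A := by
  rintro _ ⟨x, rfl⟩
  simp only [idemHom, AlgHom.toRingHom_eq_coe, RingHom.coe_coe, AlgHom.ofLinearMap_apply,
    LinearMap.add_apply, LinearMap.smulRight_apply, LinearMap.proj_apply]
  exact A.add_mem (A.smul_mem heA _) (A.smul_mem (A.sub_mem A.one_mem heA) _)

theorem main (k : Type u) [Field k] (B : Type u) [CommRing B] [Algebra k B]
    [Algebra.FiniteType k B] (A : Subalgebra k B) :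
    ∃ (E : Subalgebra k B) (hE : E ≤ A), Module.Finite k E ∧ Algebra.Etale k E ∧
      (∀ E' : Subalgebra k B, E' ≤ A → Module.Finite k E' → Algebra.Etale k E' → E' ≤ E) ∧
      Function.Surjective (PrimeSpectrum.comap (Subalgebra.inclusion hE).toRingHom) ∧
      ∀ p q : PrimeSpectrum A, PrimeSpectrum.comap (Subalgebra.inclusion hE).toRingHom p =
          PrimeSpectrum.comap (Subalgebra.inclusion hE).toRingHom q ↔
        connectedComponent p = connectedComponent q := by
  obtain ⟨E, hE, hEfin, hEet, hmax⟩ := exists_largest (k := k) (B := B) A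
  refine ⟨E, hE, hEfin, hEet, hmax, comap_surjective E A hE, ?_⟩
  intro p q
  set c := PrimeSpectrum.comap (Subalgebra.inclusion hE).toRingHom with hc
  constructor
  · intro h
    haveI : IsNoetherianRing B := Algebra.FiniteType.isNoetherianRing k B
    haveI : Finite {a : A // IsIdempotentElem a} := finite_idem_sub A
    obtain ⟨e, he, hep, hmin⟩ := exists_min_idem A p.asIdeal
    have heB : IsIdempotentElem (e : B) := by
      unfold IsIdempotentElem at he ⊢
      exact congrArg Subtype.val he
    have hrange := etale_range (idemHom (k := k) (e : B) heB)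
    have hle : (idemHom (k := k) (e : B) heB).range ≤ E :=
      hmax _ (idemHom_range_le A _ heB e.2) hrange.1 hrange.2
    have heE : (e : B) ∈ E := hle ⟨Pi.single 0 1, idemHom_single _ heB⟩
    have hincl : Subalgebra.inclusion hE ⟨(e : B), heE⟩ = e := Subtype.ext rfl
    have hiff : e ∈ p.asIdeal ↔ e ∈ q.asIdeal := by
      have h1 : (⟨(e : B), heE⟩ : E) ∈ (c p).asIdeal ↔ (⟨(e : B), heE⟩ : E) ∈ (c q).asIdeal := by
        rw [h]
      simp only [hc, PrimeSpectrum.comap_asIdeal, Ideal.mem_comap, AlgHom.toRingHom_eq_coe,
        RingHom.coe_coe, hincl] at h1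
      exact h1
    have heq : e ∉ q.asIdeal := fun h' => hep (hiff.mpr h')
    have hpre := isPreconnected_basicOpen p.asIdeal e he hep hmin
    have hq : q ∈ connectedComponent p := hpre.subset_connectedComponent (x := p) hep heq
    exact connectedComponent_eq hq
  · intro h
    haveI : IsArtinianRing E := IsArtinianRing.of_finite k E
    have hcont : Continuous c := PrimeSpectrum.continuous_comap _
    have himg := hcont.image_connectedComponent_eq_singleton p
    have hq : q ∈ connectedComponent p := by rw [h]; exact mem_connectedComponent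
    have : c q ∈ c '' connectedComponent p := ⟨q, hq, rfl⟩
    rw [himg] at this
    exact this.symm

end Groth.Agent.Helper26.MaxEt
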