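import Mathlib

namespace Groth.Agent.Helper26.ModDual

open CategoryTheory MonoidalCategory TensorProduct

universe u

variable (R : Type u) [CommRing R]

theorem main (M : ModuleCat.{u} R) [Module.Finite R M] [Module.Projective R M] :
    Nonempty (HasRightDual M) := by
  obtain ⟨n, f, g, -, -, hfg⟩ := Module.Finite.exists_comp_eq_id_of_projective R M
  -- dual basis
  let e : Fin n → M := fun i => f (Pi.single i 1)
  let es : Fin n → Module.Dual R M := fun i => (LinearMap.proj i : (Fin n → R) →ₗ[R] R) ∘ₗ g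
  have hsum : ∀ m : M, ∑ i, es i m • e i = m := by
    intro m
    have h1 : f (g m) = m := LinearMap.congr_fun hfg m
    conv_rhs => rw [← h1]
    have h2 : g m = ∑ i, (g m i) • (Pi.single i (1 : R) : Fin n → R) := by
      conv_lhs => rw [← Finset.univ_sum_single (g m)]
      refine Finset.sum_congr rfl fun i _ => ?_
      ext j
      simp [Pi.single_apply]
    conv_rhs => rw [h2]
    rw [map_sum]
    refine Finset.sum_congr rfl fun i _ => ?_
    rw [map_smul]
    rfl
  let Y : ModuleCat.{u} R := ModuleCat.of R (Module.Dual R M)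
  let coev : 𝟙_ (ModuleCat.{u} R) ⟶ M ⊗ Y :=
    ModuleCat.ofHom (LinearMap.toSpanSingleton R (M ⊗[R] Module.Dual R M) (∑ i, e i ⊗ₜ[R] es i))
  let ev : Y ⊗ M ⟶ 𝟙_ (ModuleCat.{u} R) :=
    ModuleCat.ofHom (TensorProduct.lift (LinearMap.id : Module.Dual R M →ₗ[R] M →ₗ[R] R))
  suffices hpair : Nonempty (ExactPairing M Y) by
    obtain ⟨hp⟩ := hpair
    exact ⟨{ rightDual := Y }⟩
  refine ⟨⟨coev, ev, ?_, ?_⟩⟩
  · apply ModuleCat.MonoidalCategory.tensor_ext
    intro φ r
    change ((ev ▷ Y).hom ((α_ Y M Y).inv.hom ((Y ◁ coev).hom (φ ⊗ₜ r)))) =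
      (λ_ Y).inv.hom ((ρ_ Y).hom.hom (φ ⊗ₜ r))
    rw [ModuleCat.MonoidalCategory.whiskerLeft_apply]
    have h1 : coev.hom r = ∑ i, r • (e i ⊗ₜ[R] es i) := by
      change r • (∑ i, e i ⊗ₜ[R] es i) = _
      rw [Finset.smul_sum]
    rw [h1, TensorProduct.tmul_sum, map_sum, map_sum]
    have h2 : ∀ i, (ev ▷ Y).hom ((α_ Y M Y).inv.hom (φ ⊗ₜ[R] (r • (e i ⊗ₜ[R] es i)))) =
        (r * φ (e i)) ⊗ₜ[R] es i := by
      intro i
      rw [TensorProduct.tmul_smul, map_smul, map_smul]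
      erw [ModuleCat.MonoidalCategory.associator_inv_apply]
      erw [ModuleCat.MonoidalCategory.whiskerRight_apply]
      change r • ((φ (e i)) ⊗ₜ[R] es i) = _
      rw [TensorProduct.smul_tmul', smul_eq_mul]
    rw [Finset.sum_congr rfl fun i _ => h2 i]
    erw [ModuleCat.MonoidalCategory.rightUnitor_hom_apply, ModuleCat.MonoidalCategory.leftUnitor_inv_apply]
    -- Σ (r * φ (e i)) ⊗ es i = 1 ⊗ (r • φ)
    have h3 : ∀ i, ((r * φ (e i)) ⊗ₜ[R] es i : R ⊗[R] Module.Dual R M) =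
        (1 : R) ⊗ₜ[R] ((r * φ (e i)) • es i) := by
      intro i
      rw [TensorProduct.tmul_smul, TensorProduct.smul_tmul', smul_eq_mul, mul_one]
    rw [Finset.sum_congr rfl fun i _ => h3 i, ← TensorProduct.tmul_sum]
    congr 1
    ext m
    simp only [LinearMap.coe_sum, Finset.sum_apply, LinearMap.smul_apply, smul_eq_mul]
    conv_rhs => rw [← hsum m]
    rw [map_sum]
    refine Finset.sum_congr rfl fun i _ => ?_
    rw [LinearMap.smul_apply, map_smul, smul_eq_mul, smul_eq_mul]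
    ring
  · apply ModuleCat.MonoidalCategory.tensor_ext
    intro r m
    change ((M ◁ ev).hom ((α_ M Y M).hom.hom ((coev ▷ M).hom (r ⊗ₜ m)))) =
      (ρ_ M).inv.hom ((λ_ M).hom.hom (r ⊗ₜ m))
    rw [ModuleCat.MonoidalCategory.whiskerRight_apply]
    have h1 : coev.hom r = ∑ i, r • (e i ⊗ₜ[R] es i) := by
      change r • (∑ i, e i ⊗ₜ[R] es i) = _
      rw [Finset.smul_sum]
    rw [h1, TensorProduct.sum_tmul, map_sum, map_sum]
    have h2 : ∀ i, (M ◁ ev).hom ((α_ M Y M).hom.hom ((r • (e i ⊗ₜ[R] es i)) ⊗ₜ[R] m)) =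
        e i ⊗ₜ[R] (r * es i m) := by
      intro i
      rw [← TensorProduct.smul_tmul', map_smul, map_smul]
      erw [ModuleCat.MonoidalCategory.associator_hom_apply]
      erw [ModuleCat.MonoidalCategory.whiskerLeft_apply]
      change r • (e i ⊗ₜ[R] (es i m)) = _
      rw [← TensorProduct.tmul_smul, smul_eq_mul]
    rw [Finset.sum_congr rfl fun i _ => h2 i]
    erw [ModuleCat.MonoidalCategory.leftUnitor_hom_apply, ModuleCat.MonoidalCategory.rightUnitor_inv_apply]
    have h3 : ∀ i, (e i ⊗ₜ[R] (r * es i m) : M ⊗[R] R) = ((r * es i m) • e i) ⊗ₜ[R] (1 : R) := by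
      intro i
      rw [TensorProduct.smul_tmul, smul_eq_mul, mul_one]
    rw [Finset.sum_congr rfl fun i _ => h3 i, ← TensorProduct.sum_tmul]
    congr 1
    conv_rhs => rw [← hsum m, Finset.smul_sum]
    refine Finset.sum_congr rfl fun i _ => ?_
    rw [mul_smul]

end Groth.Agent.Helper26.ModDual
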