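import Mathlib

namespace Groth.Agent.Helper26.MonoGen

open Polynomial

universe u
variable (A : Type u) [CommRing A] [IsLocalRing A] (C : Type u) [CommRing C] [Algebra A C]
  [Module.Finite A C]

local notation "𝔪C" => Ideal.map (algebraMap A C) (IsLocalRing.maximalIdeal A)

theorem main
    (Q₀ : Polynomial (IsLocalRing.ResidueField A)) (hQ₀ : Q₀.Monic)
    (e : (C ⧸ Ideal.map (algebraMap A C) (IsLocalRing.maximalIdeal A)) ≃ₐ[A] AdjoinRoot Q₀)
    (x : C) (hx : e (Ideal.Quotient.mk (Ideal.map (algebraMap A C) (IsLocalRing.maximalIdeal A)) x) = AdjoinRoot.root Q₀) :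
    Algebra.adjoin A {x} = ⊤ ∧
      ∃ Q : Polynomial A, Q.Monic ∧ Q.natDegree = Q₀.natDegree ∧
        Polynomial.map (IsLocalRing.residue A) Q = Q₀ ∧ Polynomial.aeval x Q = 0 := by
  set n := Q₀.natDegree with hn
  set N : Submodule A C := Submodule.span A (Set.range fun i : Fin n => x ^ (i : ℕ)) with hN
  -- key: e (mk (aeval x P)) = mk Q₀ (P.map residue)
  have hkey : ∀ P : A[X], e (Ideal.Quotient.mk 𝔪C (aeval x P)) =
      AdjoinRoot.mk Q₀ (P.map (IsLocalRing.residue A)) := by
    intro P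
    have h1 : Ideal.Quotient.mk 𝔪C (aeval x P) = aeval (Ideal.Quotient.mk 𝔪C x) P := by
      rw [← Ideal.Quotient.mkₐ_eq_mk A, ← Polynomial.aeval_algHom_apply]
    rw [h1]
    have h2 : e (aeval (Ideal.Quotient.mk 𝔪C x) P) = aeval (e (Ideal.Quotient.mk 𝔪C x)) P :=
      (Polynomial.aeval_algHom_apply (e : (C ⧸ 𝔪C) →ₐ[A] AdjoinRoot Q₀) _ P).symm
    rw [h2, hx]
    rw [← IsLocalRing.ResidueField.algebraMap_eq, ← Polynomial.aeval_map_algebraMap
      (IsLocalRing.ResidueField A), AdjoinRoot.aeval_eq]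
  have haevalN : ∀ P : A[X], P.degree < n → aeval x P ∈ N := by
    intro P hP
    rcases eq_or_ne P 0 with rfl | h0
    · simp
    rw [Polynomial.aeval_eq_sum_range' (n := n) ((Polynomial.natDegree_lt_iff_degree_lt h0).2 hP)]
    apply Submodule.sum_mem
    intro i hi
    apply Submodule.smul_mem
    apply Submodule.subset_span
    exact ⟨⟨i, Finset.mem_range.1 hi⟩, rfl⟩
  have hres : Function.Surjective (IsLocalRing.residue A) := IsLocalRing.residue_surjective
  -- Step 1
  have hsup : (⊤ : Submodule A C) ≤ N ⊔ (IsLocalRing.maximalIdeal A) • (⊤ : Submodule A C) := by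
    intro c _
    obtain ⟨p, hp⟩ := AdjoinRoot.mk_surjective (g := Q₀) (e (Ideal.Quotient.mk 𝔪C c))
    obtain ⟨P, hPmap, hPdeg⟩ := Polynomial.exists_degree_eq_of_mem_lifts
      (f := IsLocalRing.residue A) (p := p %ₘ Q₀)
      ((Polynomial.lifts_iff_coeff_lifts _).2 fun k => hres _)
    have hPn : P.degree < n := by
      rw [hPdeg, hn, ← Polynomial.degree_eq_natDegree hQ₀.ne_zero]
      exact Polynomial.degree_modByMonic_lt p hQ₀
    have hmk : AdjoinRoot.mk Q₀ (p %ₘ Q₀) = AdjoinRoot.mk Q₀ p := by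
      rw [AdjoinRoot.mk_eq_mk]
      refine ⟨-(p /ₘ Q₀), ?_⟩
      have := Polynomial.modByMonic_add_div p Q₀
      linear_combination this
    have hdiff : c - aeval x P ∈ 𝔪C := by
      rw [← Ideal.Quotient.eq]
      apply e.injective
      rw [hkey, hPmap, hmk, hp]
    have : c = aeval x P + (c - aeval x P) := by ring
    rw [this]
    apply Submodule.add_mem_sup (haevalN P hPn)
    rw [Ideal.smul_top_eq_map]
    exact hdiff
  have hNtop : N = ⊤ := by
    apply top_le_iff.1
    apply Submodule.le_of_le_smul_of_le_jacobson_bot (I := IsLocalRing.maximalIdeal A)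
      Module.Finite.fg_top _ hsup
    exact IsLocalRing.maximalIdeal_le_jacobson _
  have hadj : Algebra.adjoin A {x} = ⊤ := by
    apply top_le_iff.1
    intro c _
    have hc : c ∈ N := hNtop ▸ Submodule.mem_top
    have hle : N ≤ Subalgebra.toSubmodule (Algebra.adjoin A {x}) := by
      rw [hN, Submodule.span_le]
      rintro _ ⟨i, rfl⟩
      exact Subalgebra.pow_mem _ (Algebra.subset_adjoin (Set.mem_singleton x)) _
    exact hle hc
  refine ⟨hadj, ?_⟩
  have hxn : x ^ n ∈ N := hNtop ▸ Submodule.mem_top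
  rw [hN, Submodule.mem_span_range_iff_exists_fun] at hxn
  obtain ⟨a, ha⟩ := hxn
  set T : A[X] := ∑ i : Fin n, Polynomial.C (a i) * X ^ (i : ℕ) with hT
  have hTdeg : T.degree < n := Polynomial.degree_sum_fin_lt a
  set Q : A[X] := X ^ n - T with hQ
  have hQmonic : Q.Monic := by
    apply Polynomial.Monic.sub_of_left (Polynomial.monic_X_pow n)
    rw [Polynomial.degree_X_pow]
    exact hTdeg
  have hQdeg : Q.natDegree = n := by
    rw [hQ]
    apply Polynomial.natDegree_eq_of_degree_eq_some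
    rw [Polynomial.degree_sub_eq_left_of_degree_lt, Polynomial.degree_X_pow]
    rw [Polynomial.degree_X_pow]
    exact hTdeg
  have hQx : aeval x Q = 0 := by
    rw [hQ, map_sub, map_pow, aeval_X, hT, map_sum, ← ha, sub_eq_zero]
    apply Finset.sum_congr rfl
    intro i _
    rw [map_mul, aeval_C, map_pow, aeval_X, Algebra.smul_def]
  refine ⟨Q, hQmonic, hQdeg, ?_, hQx⟩
  have hdvd : Q₀ ∣ Q.map (IsLocalRing.residue A) := by
    rw [← AdjoinRoot.mk_eq_zero, ← hkey, hQx, map_zero, map_zero]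
  exact Polynomial.eq_of_monic_of_dvd_of_natDegree_le hQ₀ (hQmonic.map _) hdvd
    (by rw [(hQmonic.natDegree_map _), hQdeg])

end Groth.Agent.Helper26.MonoGen
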