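import Mathlib
import Groth.Prelude.Def_ShStab
import Groth.Agent.Lib.Lead.ShStabHom
import Groth.Agent.Lib.Lead.ShStabPure
import Groth.Agent.Lib.Lead.HomSh8
import Groth.Agent.Lib.Helper13.HilbZero
import Groth.Agent.Lib.Helper26.StableScalar
import Groth.Agent.S0020

/-!
# Endomorphisms of a reflexive slope-stable sheaf are scalars (S18968)

Parametrised by the strict positivity hypothesis `Lead.ShStabPure.SPHyp`.
-/

set_option autoImplicit false
universe u

open CategoryTheory CategoryTheory.Limits AlgebraicGeometry Polynomial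

namespace Groth.Agent.Helper26.MuStableEnd

open StabCat Groth.Agent.Lead.StabPoly Groth.Agent.Helper25.ShStabFormal
  Groth.Agent.Lead.ShStabHom

section Pure

variable {X : Scheme.{u}}

/-- On an integral scheme of dimension `n`, a torsion-free quasi-coherent module is pure of
dimension `n`: every nonzero coherent submodule has full support. -/
theorem isPure_of_torsionFree [IsIntegral X] (F : X.Modules) [F.IsQuasicoherent]
    (hTF : TorSh.IsTorsionFree F) (n : ℕ) (hX : topologicalKrullDim X = (n : WithBot ℕ∞)) :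
    ShStab.IsPure X F n := by
  intro T ι hι hT hT0
  haveI := hι
  have hιne : ι ≠ 0 := by
    intro h
    apply hT0
    rw [IsZero.iff_id_eq_zero]
    exact (cancel_mono ι).1 (by simp [h])
  have hex : ∃ (U : X.Opens) (t : Γ(T, U)), ι.app U t ≠ 0 := by
    by_contra hcon
    push_neg at hcon
    apply hιne
    apply Scheme.Modules.hom_ext
    intro U
    ext t
    exact hcon U t
  obtain ⟨U, t, ht⟩ := hex
  have hex2 : ∃ (x : X) (hx : x ∈ U), F.presheaf.germ U x hx (ι.app U t) ≠ 0 := by
    by_contra hcon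
    push_neg at hcon
    apply ht
    apply TopCat.Presheaf.section_ext (⟨F.presheaf, F.isSheaf⟩ : TopCat.Sheaf Ab.{u} X) U
    intro x hx
    show F.presheaf.germ U x hx (ι.app U t) = F.presheaf.germ U x hx 0
    rw [map_zero]
    exact hcon x hx
  obtain ⟨x, hxU, hx⟩ := hex2
  have hsub : (U : Set X) ⊆ CohB1.support T := by
    intro y hyU
    change ¬ Subsingleton (T.presheaf.stalk y)
    intro hsubs
    apply Groth.Agent.Lead.HomSh.germ_ne_zero_of_germ_ne_zero F hTF (ι.app U t) x y hxU hyU hx
    rw [← RefHull.stalkMapₗ_germ ι y hyU t]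
    have h0 : T.presheaf.germ U y hyU t = 0 := Subsingleton.elim _ _
    rw [h0, map_zero]
  have hcl : IsClosed (CohB1.support T) := Groth.Agent.S0020.result X T hT.2
  have hdense : Dense (U : Set X) := U.isOpen.dense ⟨x, hxU⟩
  have huniv : CohB1.support T = Set.univ := by
    apply Set.eq_univ_of_univ_subset
    rw [← hdense.closure_eq]
    exact hcl.closure_subset_iff.2 hsub
  rw [huniv, ← hX]
  exact IsHomeomorph.topologicalKrullDim_eq _ (Homeomorph.Set.univ X).isHomeomorph

end Pure

variable (k : Type u) [Field k] (X : Scheme.{u}) [X.Over (Spec (CommRingCat.of k))]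
  [IsProper (X ↘ Spec (CommRingCat.of k))]

/-- a nonzero endomorphism of a pure slope-stable sheaf is an isomorphism -/
theorem isIso_of_muStable (L : X.Modules) (hL : CohB1.IsAmple L) (hZ : ZHyp k X L)
    (hSP : Groth.Agent.Lead.ShStabPure.SPHyp k X L) (n : ℕ)
    (F : X.Modules) (hFt : ShStab.IsPure X F n) (hF : ShStab.IsMuStable k X L F n)
    (φ : F ⟶ F) (hφ : φ ≠ 0) : IsIso φ := by
  obtain ⟨hFc, hFnz, hFd, hFns, hFst⟩ := hF
  obtain ⟨pF, dF⟩ := pdata_of_dim_le k X L hL F hFc n hFd.le
  have hpF := dF.hp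
  obtain ⟨pK, pI, hIeq, hpK, hpI, hKc, hIc, aK, aI, aG, nF, nG, nI⟩ :=
    skeleton k X L hL n F F hFc hFc hFt hFt pF pF hpF hpF φ
  have hInz := not_isZero_coimage φ hφ
  have hIdim := hFt _ (Abelian.factorThruCoimage φ) inferInstance hIc hInz
  have hIpos : 0 < alpha n pI := hSP _ n hIc hIdim pI hpI
  have hKz : IsZero (kernel φ) := by
    by_contra hz
    have hKdim := hFt _ (kernel.ι φ) inferInstance hKc hz
    have hKpos : 0 < alpha n pK := hSP _ n hKc hKdim pK hpK
    have hsum : alpha n pF = alpha n pI + alpha n pK := by rw [hIeq, alpha_sub]; ring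
    have hsum' : alpha (n - 1) pF = alpha (n - 1) pI + alpha (n - 1) pK := by
      rw [hIeq, alpha_sub]; ring
    have h1 := hFst (kernel φ) (kernel.ι φ) inferInstance hKc pK pF hpK hpF hKpos (by linarith)
    have h2 := hFst _ (Abelian.factorThruCoimage φ) inferInstance hIc pI pF hpI hpF hIpos
      (by linarith)
    have hFpos : 0 < alpha n pF := by linarith
    unfold hatSlope at h1 h2
    rw [div_lt_div_iff₀ hKpos hFpos] at h1
    rw [div_lt_div_iff₀ hIpos hFpos] at h2
    rw [hsum, hsum'] at h1 h2
    nlinarith [h1, h2]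
  haveI : Mono φ := Preadditive.mono_of_isZero_kernel φ hKz
  obtain ⟨hC, hpC⟩ := Groth.Agent.Helper6.HilbDeg.isHilbPoly_cokernel k X L hL.1 hFc hFc
    φ pF pF hpF hpF
  rw [sub_self] at hpC
  haveI : Epi φ := Preadditive.epi_of_isZero_cokernel φ (hZ _ hC hpC)
  exact isIso_of_mono_of_epi φ

/-- Endomorphisms of a reflexive slope-stable sheaf on an integral proper scheme over an
algebraically closed field are scalars (given strict positivity). -/
theorem exists_scalar_of_reflexive [IsAlgClosed k] [IsIntegral X] (n : ℕ)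
    (hX : topologicalKrullDim X = (n : WithBot ℕ∞))
    (L : X.Modules) (hL : CohB1.IsAmple L) (hSP : Groth.Agent.Lead.ShStabPure.SPHyp k X L)
    (F : X.Modules) (hFr : RefHull.IsReflexive F) (hF : ShStab.IsMuStable k X L F n)
    (φ : F ⟶ F) : ∃ c : k, φ = c • 𝟙 F := by
  haveI : IsLocallyNoetherian X :=
    LocallyOfFiniteType.isLocallyNoetherian (X ↘ Spec (CommRingCat.of k))
  haveI : F.IsQuasicoherent := hF.1.1
  have hTF := Groth.Agent.Lead.HomSh.isTorsionFree_of_isReflexive_sheaf F hF.1 hFr
  have hpure := isPure_of_torsionFree F hTF n hX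
  exact Groth.Agent.Helper26.StableScalar.exists_scalar k F hF.1 hF.2.1
    (fun ψ hψ => isIso_of_muStable k X L hL
      (fun G hG h => Groth.Agent.Helper13.HilbZero.isZero_of_isHilbPoly_zero k X L hL G hG h)
      hSP n F hpure hF ψ hψ) φ

end Groth.Agent.Helper26.MuStableEnd
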