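import Mathlib
import Groth.Prelude.Def_ShStab
import Groth.Agent.Lib.Helper26.MuStableEnd
import Groth.Agent.Lib.Helper6.SPosMain
import Groth.Agent.Lib.Helper16.Sch.MiracleSch
import Groth.Agent.Lib.Helper20.VBMap1
import Groth.Agent.Lib.Helper13.LocLift
import Groth.Agent.Lib.Helper13.CurveSV3

/-!
# Nonzero maps between reflexive slope-stable sheaves with `μ(G) ≤ μ(F)` are isomorphisms (S18966)
-/

set_option autoImplicit false
universe u

open CategoryTheory CategoryTheory.Limits AlgebraicGeometry Polynomial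

namespace Groth.Agent.Helper26.MuStableIso

open StabCat Groth.Agent.Lead.StabPoly Groth.Agent.Helper25.ShStabFormal
  Groth.Agent.Lead.ShStabHom

theorem exists_nat_dim {T : Type*} [TopologicalSpace T] [Nonempty T] (n : ℕ)
    (h : topologicalKrullDim T ≤ (n : WithBot ℕ∞)) :
    ∃ d : ℕ, topologicalKrullDim T = (d : WithBot ℕ∞) := by
  have h0 : (0 : WithBot ℕ∞) ≤ topologicalKrullDim T := by
    obtain ⟨x⟩ := ‹Nonempty T›
    have : Nonempty (TopologicalSpace.IrreducibleCloseds T) :=
      ⟨⟨closure {x}, isIrreducible_singleton.closure, isClosed_closure⟩⟩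
    exact Order.krullDim_nonneg
  generalize topologicalKrullDim T = v at h h0
  induction v using WithBot.recBotCoe with
  | bot => exact absurd h0 (not_le.2 (WithBot.bot_lt_coe (0 : ℕ∞)))
  | coe e =>
    have he : e ≤ (n : ℕ∞) := by exact_mod_cast h
    have hne : e ≠ ⊤ := ne_top_of_le_ne_top (ENat.natCast_ne_top n) he
    obtain ⟨d, rfl⟩ := ENat.ne_top_iff_exists.1 hne
    exact ⟨d, rfl⟩

theorem coeff_of_alpha (m : ℕ) (p : ℚ[X]) (h : alpha m p = 0) : p.coeff m = 0 := by
  unfold alpha at h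
  rcases mul_eq_zero.mp h with h | h
  · exact absurd h (by positivity)
  · exact h

section Hartogs

variable {X : Scheme.{u}}

/-- a monomorphism from a reflexive coherent module to a torsion-free module whose cokernel is
supported in codimension `≥ 2` (normal integral locally Noetherian scheme) is an isomorphism. -/
theorem isIso_of_mono_of_codim_two [IsIntegral X] [IsLocallyNoetherian X]
    (hn : ∀ x : X, IsIntegrallyClosed (X.presheaf.stalk x))
    (F G : X.Modules) (hF : Coh.IsCoh F) (hFr : RefHull.IsReflexive F)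
    [G.IsQuasicoherent] (hG : TorSh.IsTorsionFree G)
    (φ : F ⟶ G) [Mono φ]
    (hcl : IsClosed (CohB1.support (cokernel φ)))
    (h2 : ∀ x ∈ CohB1.support (cokernel φ),
      (2 : WithBot ℕ∞) ≤ ringKrullDim (X.presheaf.stalk x)) :
    IsIso φ := by
  have hη : genericPoint X ∉ CohB1.support (cokernel φ) := by
    intro hmem
    have h := h2 _ hmem
    have h0 : ringKrullDim (X.presheaf.stalk (genericPoint X)) = 0 :=
      ringKrullDim_eq_zero_of_isField (Field.toIsField X.functionField)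
    rw [h0] at h
    exact absurd h (by decide)
  rw [Scheme.Modules.Hom.isIso_iff_isIso_app]
  intro U
  rw [ConcreteCategory.isIso_iff_bijective]
  refine ⟨Groth.Agent.Helper13.LocLift.app_injective_of_mono φ U, ?_⟩
  intro g
  let V₀ : X.Opens := ⟨(CohB1.support (cokernel φ))ᶜ, hcl.isOpen_compl⟩
  let W : X.Opens := U ⊓ V₀
  have hWU : W ≤ U := inf_le_left
  have hbijW : Function.Bijective (φ.app W) := by
    refine TopCat.Presheaf.app_bijective_of_stalkFunctor_map_bijective
      (F := ⟨F.presheaf, F.isSheaf⟩) (G := ⟨G.presheaf, G.isSheaf⟩) ⟨φ.mapPresheaf⟩ W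
      (fun x hx => ⟨?_, ?_⟩)
    · exact TopCat.Presheaf.stalkFunctor_map_injective_of_app_injective (f := φ.mapPresheaf)
        (fun U' => Groth.Agent.Helper13.LocLift.app_injective_of_mono φ U') x
    · apply Groth.Agent.Helper13.CurveSV.stalkMap_surjective_of_stalk_cokernel φ x
      have hx2 : x ∈ V₀ := (TopologicalSpace.Opens.mem_inf.1 hx).2
      have hx' : x ∉ CohB1.support (cokernel φ) := hx2
      by_contra hns
      exact hx' hns
  obtain ⟨f', hf'⟩ := hbijW.2 (G.presheaf.map (homOfLE hWU).op g)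
  have hres := Groth.Agent.Lead.HomSh.normal_of_isReflexive hn F hF hFr U W hWU (by
    intro x hxU hxW
    apply h2 x
    by_contra hns
    exact hxW (TopologicalSpace.Opens.mem_inf.2 ⟨hxU, (show x ∈ V₀ from hns)⟩))
  obtain ⟨f, hf⟩ := hres.2 f'
  refine ⟨f, ?_⟩
  -- the difference vanishes on `W`
  have hd0 : G.presheaf.map (homOfLE hWU).op (φ.app U f - g) = 0 := by
    rw [map_sub, ← Groth.Agent.Helper17.SC1.app_naturality φ hWU f, hf, hf', sub_self]
  by_contra hne
  have hdne : φ.app U f - g ≠ 0 := fun h => hne (sub_eq_zero.1 h)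
  have hex : ∃ (x : X) (hx : x ∈ U), G.presheaf.germ U x hx (φ.app U f - g) ≠ 0 := by
    by_contra hcon
    push_neg at hcon
    apply hdne
    apply TopCat.Presheaf.section_ext (⟨G.presheaf, G.isSheaf⟩ : TopCat.Sheaf Ab.{u} X) U
    intro x hx
    show G.presheaf.germ U x hx (φ.app U f - g) = G.presheaf.germ U x hx 0
    rw [map_zero]
    exact hcon x hx
  obtain ⟨x, hxU, hx⟩ := hex
  have hηU : genericPoint X ∈ U :=
    ((genericPoint_spec X).mem_open_set_iff U.isOpen).2 ⟨x, trivial, hxU⟩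
  have hηW : genericPoint X ∈ W :=
    TopologicalSpace.Opens.mem_inf.2 ⟨hηU, (show genericPoint X ∈ V₀ from hη)⟩
  apply Groth.Agent.Lead.HomSh.germ_ne_zero_of_germ_ne_zero G hG (φ.app U f - g) x
    (genericPoint X) hxU hηU hx
  rw [← TopCat.Presheaf.germ_res_apply G.presheaf (homOfLE hWU) (genericPoint X) hηW, hd0,
    map_zero]

end Hartogs

variable (k : Type u) [Field k] (X : Scheme.{u}) [X.Over (Spec (CommRingCat.of k))]
  [IsProper (X ↘ Spec (CommRingCat.of k))]

/-- data of the quotient by a coherent submodule -/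
theorem quot_data (L : X.Modules) (hL : CohB1.IsAmple L) (n : ℕ)
    (hX : topologicalKrullDim X = (n : WithBot ℕ∞)) (G I : X.Modules) (hGc : Coh.IsCoh G)
    (hIc : Coh.IsCoh I) (ι : I ⟶ G) [Mono ι] (pI pG : ℚ[X])
    (hpI : ShStab.IsHilbPoly k X L I pI) (hpG : ShStab.IsHilbPoly k X L G pG) :
    Coh.IsCoh (cokernel ι) ∧ ShStab.IsHilbPoly k X L (cokernel ι) (pG - pI) ∧
      (pG - pI).natDegree ≤ n ∧ 0 ≤ alpha n (pG - pI) ∧
      (alpha n (pG - pI) = 0 → 0 ≤ alpha (n - 1) (pG - pI)) := by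
  obtain ⟨hQc, hpQ⟩ := Groth.Agent.Helper6.HilbDeg.isHilbPoly_cokernel k X L hL.1 hIc hGc
    ι pI pG hpI hpG
  have hQdim : topologicalKrullDim (CohB1.support (cokernel ι)) ≤ (n : WithBot ℕ∞) := by
    rw [← hX]
    exact topologicalKrullDim_subspace_le _ _
  obtain ⟨pQ, dQ⟩ := pdata_of_dim_le k X L hL _ hQc n hQdim
  have e : pQ = pG - pI := hilbPoly_unique k X L _ _ _ dQ.hp hpQ
  rw [← e]
  refine ⟨hQc, dQ.hp, dQ.deg, dQ.alpha, ?_⟩
  intro hQ0
  have hc : pQ.coeff n = 0 := coeff_of_alpha n pQ hQ0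
  have hdeg : pQ.natDegree ≤ n - 1 := by
    rw [Polynomial.natDegree_le_iff_coeff_eq_zero]
    intro N hN
    rcases Nat.lt_or_ge n N with h | h
    · exact coeff_eq_zero_of_natDegree_lt (lt_of_le_of_lt dQ.deg h)
    · have hNn : N = n := by omega
      rw [hNn]; exact hc
  have hnn := coeff_nonneg_of_eventually_nonneg pQ (n - 1) hdeg dQ.enn
  exact mul_nonneg (Nat.cast_nonneg _) hnn

theorem main18966 [IsIntegral X] [Smooth (X ↘ Spec (CommRingCat.of k))]
    (n : ℕ) (hX : topologicalKrullDim X = (n : WithBot ℕ∞))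
    (L : X.Modules) (hL : CohB1.IsAmple L)
    (hSP : Groth.Agent.Lead.ShStabPure.SPHyp k X L)
    (hSPc : ∀ (Q : X.Modules) (d : ℕ), Coh.IsCoh Q →
      topologicalKrullDim (CohB1.support Q) = (d : WithBot ℕ∞) →
      ∀ P : ℚ[X], ShStab.IsHilbPoly k X L Q P → 0 < P.coeff d)
    (F G : X.Modules) (hFr : RefHull.IsReflexive F) (hGr : RefHull.IsReflexive G)
    (hF : ShStab.IsMuStable k X L F n) (hG : ShStab.IsMuStable k X L G n)
    (pF pG : ℚ[X]) (hpF : ShStab.IsHilbPoly k X L F pF) (hpG : ShStab.IsHilbPoly k X L G pG)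
    (hle : StabCat.hatSlope n pG ≤ StabCat.hatSlope n pF) (φ : F ⟶ G) (hφ : φ ≠ 0) :
    IsIso φ := by
  haveI : IsLocallyNoetherian X :=
    LocallyOfFiniteType.isLocallyNoetherian (X ↘ Spec (CommRingCat.of k))
  haveI : F.IsQuasicoherent := hF.1.1
  haveI : G.IsQuasicoherent := hG.1.1
  have hTF := Groth.Agent.Lead.HomSh.isTorsionFree_of_isReflexive_sheaf F hF.1 hFr
  have hTG := Groth.Agent.Lead.HomSh.isTorsionFree_of_isReflexive_sheaf G hG.1 hGr
  have hFt := Groth.Agent.Helper26.MuStableEnd.isPure_of_torsionFree F hTF n hX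
  have hGt := Groth.Agent.Helper26.MuStableEnd.isPure_of_torsionFree G hTG n hX
  obtain ⟨hFc, hFnz, hFd, hFns, hFst⟩ := hF
  obtain ⟨hGc, hGnz, hGd, hGns, hGst⟩ := hG
  obtain ⟨pK, pI, hIeq, hpK, hpI, hKc, hIc, aK, aI, aG, nF, nG, nI⟩ :=
    skeleton k X L hL n F G hFc hGc hFt hGt pF pG hpF hpG φ
  have hInz := not_isZero_coimage φ hφ
  have hIdim := hGt _ (Abelian.factorThruCoimage φ) inferInstance hIc hInz
  have hIpos : 0 < alpha n pI := hSP _ n hIc hIdim pI hpI
  have hGpos : 0 < alpha n pG := hSP G n hGc hGd pG hpG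
  have hFpos : 0 < alpha n pF := hSP F n hFc hFd pF hpF
  -- quotient data for the image in `G`
  obtain ⟨hQc, hpQ, hQdeg, hQa, hQb⟩ := quot_data k X L hL n hX G _ hGc hIc
    (Abelian.factorThruCoimage φ) pI pG hpI hpG
  have eA : alpha n (pG - pI) = alpha n pG - alpha n pI := by rw [alpha_sub]
  have eB : alpha (n - 1) (pG - pI) = alpha (n - 1) pG - alpha (n - 1) pI := by rw [alpha_sub]
  have h2 : hatSlope n pI ≤ hatSlope n pG := by
    rcases lt_or_eq_of_le (show alpha n pI ≤ alpha n pG by linarith) with hlt' | heq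
    · exact le_of_lt (hGst _ (Abelian.factorThruCoimage φ) inferInstance hIc pI pG hpI hpG
        hIpos hlt')
    · have hb := hQb (by rw [eA, heq, sub_self])
      unfold hatSlope
      rw [← heq]
      exact div_le_div_of_nonneg_right (by linarith) hIpos.le
  -- the kernel vanishes
  have hKz : IsZero (kernel φ) := by
    by_contra hz
    have hKdim := hFt _ (kernel.ι φ) inferInstance hKc hz
    have hKpos : 0 < alpha n pK := hSP _ n hKc hKdim pK hpK
    have hsum : alpha n pF = alpha n pI + alpha n pK := by rw [hIeq, alpha_sub]; ring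
    have hsum' : alpha (n - 1) pF = alpha (n - 1) pI + alpha (n - 1) pK := by
      rw [hIeq, alpha_sub]; ring
    have h1 := hFst (kernel φ) (kernel.ι φ) inferInstance hKc pK pF hpK hpF hKpos (by linarith)
    have h3 : hatSlope n pF < hatSlope n pI := by
      unfold hatSlope at h1 ⊢
      rw [div_lt_div_iff₀ hKpos hFpos] at h1
      rw [div_lt_div_iff₀ hFpos hIpos]
      rw [hsum, hsum'] at h1 ⊢
      nlinarith [h1]
    exact absurd (lt_of_lt_of_le h3 (h2.trans hle)) (lt_irrefl _)
  haveI : Mono φ := Preadditive.mono_of_isZero_kernel φ hKz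
  -- the cokernel of `φ`
  obtain ⟨hCc, hpC, hCdeg, hCa, hCb⟩ := quot_data k X L hL n hX G F hGc hFc φ pF pG hpF hpG
  have eA' : alpha n (pG - pF) = alpha n pG - alpha n pF := by rw [alpha_sub]
  have eB' : alpha (n - 1) (pG - pF) = alpha (n - 1) pG - alpha (n - 1) pF := by
    rw [alpha_sub]
  have hAeq : alpha n pF = alpha n pG := by
    rcases lt_or_eq_of_le (show alpha n pF ≤ alpha n pG by linarith) with hlt' | heq
    · exfalso
      have := hGst F φ inferInstance hFc pF pG hpF hpG hFpos hlt'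
      exact absurd (lt_of_lt_of_le this hle) (lt_irrefl _)
    · exact heq
  have hA0 : alpha n (pG - pF) = 0 := by rw [eA', hAeq, sub_self]
  have hB0 : alpha (n - 1) (pG - pF) = 0 := by
    have h1 := hCb hA0
    unfold hatSlope at hle
    rw [hAeq] at hle
    have hb : alpha (n - 1) pG ≤ alpha (n - 1) pF :=
      le_of_mul_le_mul_right (by rwa [div_le_div_iff₀ hGpos hGpos] at hle) hGpos
    rw [eB'] at h1 ⊢
    linarith
  have hc_n : (pG - pF).coeff n = 0 := coeff_of_alpha n _ hA0
  have hc_n1 : (pG - pF).coeff (n - 1) = 0 := coeff_of_alpha (n - 1) _ hB0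
  have hcl : IsClosed (CohB1.support (cokernel φ)) := Groth.Agent.S0020.result X _ hCc.2
  have hXe : ∀ Z ∈ irreducibleComponents (X : Type u),
      topologicalKrullDim Z = (n : WithBot ℕ∞) := by
    intro Z hZ
    rw [irreducibleComponents_eq_singleton] at hZ
    rw [Set.mem_singleton_iff.1 hZ, ← hX]
    exact IsHomeomorph.topologicalKrullDim_eq _ (Homeomorph.Set.univ X).isHomeomorph
  have hcodim : ∀ x ∈ CohB1.support (cokernel φ),
      (2 : WithBot ℕ∞) ≤ ringKrullDim (X.presheaf.stalk x) := by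
    intro x hx
    have hle_n : topologicalKrullDim (CohB1.support (cokernel φ)) ≤ (n : WithBot ℕ∞) := by
      rw [← hX]; exact topologicalKrullDim_subspace_le _ _
    haveI : Nonempty (CohB1.support (cokernel φ)) := ⟨⟨x, hx⟩⟩
    obtain ⟨d, hd⟩ := exists_nat_dim n hle_n
    have hcoeff : 0 < (pG - pF).coeff d := hSPc _ d hCc hd _ hpC
    have hdn : d ≤ n := by
      by_contra hlt
      rw [not_le] at hlt
      rw [coeff_eq_zero_of_natDegree_lt (lt_of_le_of_lt hCdeg hlt)] at hcoeff
      exact lt_irrefl _ hcoeff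
    have hd2 : d + 2 ≤ n := by
      by_contra hlt
      have hcases : d = n ∨ d = n - 1 := by omega
      rcases hcases with h | h
      · rw [h, hc_n] at hcoeff; exact lt_irrefl _ hcoeff
      · rw [h, hc_n1] at hcoeff; exact lt_irrefl _ hcoeff
    have hclx : closure ({x} : Set X) ⊆ CohB1.support (cokernel φ) :=
      hcl.closure_subset_iff.2 (Set.singleton_subset_iff.2 hx)
    have h1 : topologicalKrullDim (closure ({x} : Set X)) ≤ (d : WithBot ℕ∞) :=
      (Groth.Agent.Helper13.DimLemma.dim_subset_le hclx).trans_eq hd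
    rw [Groth.Agent.Helper16.FTDim.dim_closure k (X ↘ Spec (CommRingCat.of k)) x] at h1
    have htd : Groth.Agent.Helper16.FTDim.td (X ↘ Spec (CommRingCat.of k)) x ≤ d := by
      exact_mod_cast h1
    obtain ⟨m, hm, hsum⟩ := Groth.Agent.Helper16.MiracleSch.dim_stalk_add_td k
      (X ↘ Spec (CommRingCat.of k)) n hXe x
    rw [hm]
    have h2m : 2 ≤ m := by omega
    exact_mod_cast h2m
  have hnorm : ∀ x : X, IsIntegrallyClosed (X.presheaf.stalk x) := fun x => by
    haveI := Groth.Agent.Helper20.VBMap.hreg_of_smooth k x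
    exact Groth.Agent.Lead.Hom.isIntegrallyClosed_of_isRegularLocalRing _
  exact isIso_of_mono_of_codim_two hnorm F G hFc hFr hTG φ hcl hcodim

end Groth.Agent.Helper26.MuStableIso
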