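import Mathlib
import Groth.Prelude.Def_Disc

set_option autoImplicit false

namespace Groth.Agent.Helper26.NDiff

open TensorProduct

universe u

variable {A B A' B' : Type u} [CommRing A] [CommRing B]
    [CommRing A'] [CommRing B'] [Algebra A B] [Algebra A A'] [Algebra A B'] [Algebra B B']
    [Algebra A' B'] [IsScalarTower A B B'] [IsScalarTower A A' B']

variable (A B A' B') in
/-- the comparison map `B ⊗_A B → B' ⊗_{A'} B'`. -/
noncomputable def γ : B ⊗[A] B →ₐ[A] B' ⊗[A'] B' :=
  (Algebra.TensorProduct.mapOfCompatibleSMul A' A A B' B').comp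
    (Algebra.TensorProduct.map (IsScalarTower.toAlgHom A B B') (IsScalarTower.toAlgHom A B B'))

theorem γ_tmul (b₁ b₂ : B) :
    γ A B A' B' (b₁ ⊗ₜ[A] b₂) = (algebraMap B B' b₁) ⊗ₜ[A'] (algebraMap B B' b₂) := rfl

theorem lmul'_γ (c : B ⊗[A] B) :
    Algebra.TensorProduct.lmul' (S := B') A' (γ A B A' B' c) =
      algebraMap B B' (Algebra.TensorProduct.lmul' (S := B) A c) := by
  induction c using TensorProduct.induction_on with
  | zero => simp
  | tmul b₁ b₂ => simp [γ_tmul]
  | add x y hx hy => simp only [map_add, hx, hy]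

variable [Algebra.IsPushout A B A' B']

variable (A B A' B') in
/-- `A' ⊗_A B ≃ B'`. -/
noncomputable def e₀ : A' ⊗[A] B ≃ₐ[A'] B' :=
  have : Algebra.IsPushout A A' B B' := Algebra.IsPushout.symm inferInstance
  Algebra.IsPushout.equiv A A' B B'

theorem e₀_tmul (a' : A') (b : B) :
    e₀ A B A' B' (a' ⊗ₜ[A] b) = algebraMap A' B' a' * algebraMap B B' b := by
  have : Algebra.IsPushout A A' B B' := Algebra.IsPushout.symm inferInstance
  exact Algebra.IsPushout.equiv_tmul A A' B B' a' b

variable (A B A' B') in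
/-- `A' ⊗_A (B ⊗_A B) ≃ B' ⊗_{A'} B'`. -/
noncomputable def ee : A' ⊗[A] (B ⊗[A] B) ≃ₗ[A'] B' ⊗[A'] B' :=
  (TensorProduct.AlgebraTensorModule.distribBaseChange A A' B B) ≪≫ₗ
    (TensorProduct.congr (e₀ A B A' B').toLinearEquiv (e₀ A B A' B').toLinearEquiv)

theorem ee_one_tmul (c : B ⊗[A] B) : ee A B A' B' ((1 : A') ⊗ₜ[A] c) = γ A B A' B' c := by
  induction c using TensorProduct.induction_on with
  | zero => simp
  | tmul b₁ b₂ =>
    rw [γ_tmul]
    unfold ee
    rw [LinearEquiv.trans_apply, TensorProduct.AlgebraTensorModule.distribBaseChange_tmul,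
      TensorProduct.congr_tmul]
    simp [e₀_tmul]
  | add x y hx hy => rw [TensorProduct.tmul_add, map_add, map_add, hx, hy]

theorem ee_tmul (a' : A') (c : B ⊗[A] B) :
    ee A B A' B' (a' ⊗ₜ[A] c) = a' • γ A B A' B' c := by
  rw [← ee_one_tmul, ← map_smul, TensorProduct.smul_tmul', smul_eq_mul, mul_one]

/-- compatibility with multiplication. -/
theorem ee_lTensor_mul (x : B ⊗[A] B) (z : A' ⊗[A] (B ⊗[A] B)) :
    ee A B A' B' ((LinearMap.mulRight A x).lTensor A' z) = ee A B A' B' z * γ A B A' B' x := by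
  induction z using TensorProduct.induction_on with
  | zero => simp
  | tmul a' c =>
    rw [LinearMap.lTensor_tmul, LinearMap.mulRight_apply, ee_tmul, ee_tmul, map_mul,
      smul_mul_assoc]
  | add y z hy hz => rw [map_add, map_add, map_add, hy, hz, add_mul]

end Groth.Agent.Helper26.NDiff
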