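import Mathlib
import Groth.Agent.Lib.Helper26.NDiff1

set_option autoImplicit false

namespace Groth.Agent.Helper26.NDiff

open TensorProduct

universe u

variable {A B A' B' : Type u} [CommRing A] [CommRing B]
    [CommRing A'] [CommRing B'] [Algebra A B] [Algebra A A'] [Algebra A B'] [Algebra B B']
    [Algebra A' B'] [IsScalarTower A B B'] [IsScalarTower A A' B'] [Algebra.IsPushout A B A' B']

/-- (N2): the kernel of the multiplication of `B'` is generated by the image of that of `B`. -/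
theorem ker_lmul'_eq_map :
    RingHom.ker (Algebra.TensorProduct.lmul' (S := B') A') =
      Ideal.map (γ A B A' B') (RingHom.ker (Algebra.TensorProduct.lmul' (S := B) A)) := by
  apply le_antisymm
  · change KaehlerDifferential.ideal A' B' ≤ _
    rw [← KaehlerDifferential.span_range_eq_ideal, Ideal.span_le]
    rintro _ ⟨s, rfl⟩
    have hbc : IsBaseChange A' (IsScalarTower.toAlgHom A B B').toLinearMap :=
      (Algebra.IsPushout.symm (inferInstance : Algebra.IsPushout A B A' B')).out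
    refine hbc.inductionOn s (fun s => (1 : B') ⊗ₜ[A'] s - s ⊗ₜ[A'] (1 : B') ∈
      Ideal.map (γ A B A' B') (RingHom.ker (Algebra.TensorProduct.lmul' (S := B) A))) ?_ ?_ ?_ ?_
    · simp
    · intro b
      have h1 : (1 : B) ⊗ₜ[A] b - b ⊗ₜ[A] (1 : B) ∈
          RingHom.ker (Algebra.TensorProduct.lmul' (S := B) A) :=
        KaehlerDifferential.one_smul_sub_smul_one_mem_ideal A b
      have h2 := Ideal.mem_map_of_mem (γ A B A' B') h1
      rw [map_sub, γ_tmul, γ_tmul, map_one] at h2
      exact h2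
    · intro a' s hs
      have h1 : (1 : B') ⊗ₜ[A'] (a' • s) - (a' • s) ⊗ₜ[A'] (1 : B') =
          (algebraMap A' (B' ⊗[A'] B') a') * ((1 : B') ⊗ₜ[A'] s - s ⊗ₜ[A'] (1 : B')) := by
        rw [← Algebra.smul_def, smul_sub]
        congr 1
        rw [TensorProduct.tmul_smul]
      rw [h1]
      exact Ideal.mul_mem_left _ _ hs
    · intro s₁ s₂ h1 h2
      have : (1 : B') ⊗ₜ[A'] (s₁ + s₂) - (s₁ + s₂) ⊗ₜ[A'] (1 : B') =
          ((1 : B') ⊗ₜ[A'] s₁ - s₁ ⊗ₜ[A'] (1 : B')) + ((1 : B') ⊗ₜ[A'] s₂ - s₂ ⊗ₜ[A'] (1 : B')) := by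
        rw [TensorProduct.tmul_add, TensorProduct.add_tmul]; abel
      rw [this]
      exact Ideal.add_mem _ h1 h2
  · rw [Ideal.map_le_iff_le_comap]
    intro c hc
    rw [Ideal.mem_comap, RingHom.mem_ker, lmul'_γ, (RingHom.mem_ker).1 hc, map_zero]

end Groth.Agent.Helper26.NDiff
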