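import Mathlib
import Groth.Agent.Lib.Helper26.NDiff2

set_option autoImplicit false

namespace Groth.Agent.Helper26.NDiff

open TensorProduct

universe u

variable {A B A' B' : Type u} [CommRing A] [CommRing B]
    [CommRing A'] [CommRing B'] [Algebra A B] [Algebra A A'] [Algebra A B'] [Algebra B B']
    [Algebra A' B'] [IsScalarTower A B B'] [IsScalarTower A A' B'] [Algebra.IsPushout A B A' B']

/-- (N1): annihilators of finitely generated ideals commute with the flat base change. -/
theorem annihilator_map_le [Module.Flat A A'] (I : Ideal (B ⊗[A] B)) (hI : I.FG) :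
    Submodule.annihilator (Ideal.map (γ A B A' B') I) ≤
      Ideal.map (γ A B A' B') (Submodule.annihilator I) := by
  classical
  obtain ⟨s, hs⟩ := hI
  intro c' hc'
  -- the map `ρ`
  let ρ : (B ⊗[A] B) →ₗ[A] (s → B ⊗[A] B) :=
    LinearMap.pi fun i => LinearMap.mulRight A (i : B ⊗[A] B)
  have hker : ∀ c, c ∈ LinearMap.ker ρ ↔ c ∈ Submodule.annihilator I := by
    intro c
    rw [LinearMap.mem_ker, ← hs]
    change _ ↔ c ∈ (Submodule.span (B ⊗[A] B) (s : Set (B ⊗[A] B))).annihilator
    rw [Submodule.mem_annihilator_span]
    constructor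
    · intro h i
      have := congrFun h i
      simpa [ρ] using this
    · intro h
      ext1 i
      simpa [ρ] using h i
  set z := (ee A B A' B').symm c' with hz
  have hcz : ee A B A' B' z = c' := (ee A B A' B').apply_symm_apply c'
  have h1 : ∀ i : s, (LinearMap.mulRight A (i : B ⊗[A] B)).lTensor A' z = 0 := by
    intro i
    apply (ee A B A' B').injective
    rw [ee_lTensor_mul, hcz, map_zero]
    have : γ A B A' B' (i : B ⊗[A] B) ∈ Ideal.map (γ A B A' B') I := by
      apply Ideal.mem_map_of_mem
      rw [← hs]
      exact Ideal.subset_span i.2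
    exact (Submodule.mem_annihilator.1 hc') _ this
  have h2 : ρ.lTensor A' z = 0 := by
    apply (TensorProduct.piRight A A A' (fun _ : s => B ⊗[A] B)).injective
    rw [map_zero]
    ext1 i
    have h3 : ∀ w : A' ⊗[A] (s → B ⊗[A] B),
        (TensorProduct.piRight A A A' (fun _ : s => B ⊗[A] B)) w i =
          (LinearMap.proj (R := A) (φ := fun _ : s => B ⊗[A] B) i).lTensor A' w := by
      intro w
      induction w using TensorProduct.induction_on with
      | zero => simp
      | tmul a f => simp
      | add x y hx hy => simp only [map_add, Pi.add_apply, hx, hy]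
    rw [h3, ← LinearMap.comp_apply, ← LinearMap.lTensor_comp]
    exact h1 i
  have hex := Module.Flat.lTensor_exact A' (LinearMap.exact_subtype_ker_map ρ)
  obtain ⟨w, hw⟩ := (hex z).1 h2
  rw [← hcz, ← hw]
  clear hw
  induction w using TensorProduct.induction_on with
  | zero => simp
  | tmul a' κ =>
    rw [LinearMap.lTensor_tmul, ee_tmul, Algebra.smul_def]
    refine Ideal.mul_mem_left _ _ (Ideal.mem_map_of_mem _ ?_)
    exact (hker _).1 κ.2
  | add x y hx hy =>
    rw [map_add, map_add]
    exact Ideal.add_mem _ hx hy

theorem main [Algebra.FiniteType A B] [Module.Flat A A'] :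
    Disc.noetherDifferent A' B' = (Disc.noetherDifferent A B).map (algebraMap B B') := by
  unfold Disc.noetherDifferent
  have hann : Submodule.annihilator (RingHom.ker (Algebra.TensorProduct.lmul' (S := B') A')) =
      Ideal.map (γ A B A' B')
        (Submodule.annihilator (RingHom.ker (Algebra.TensorProduct.lmul' (S := B) A))) := by
    rw [ker_lmul'_eq_map (A := A) (B := B)]
    apply le_antisymm
    · exact annihilator_map_le _ (KaehlerDifferential.ideal_fg A B)
    · rw [Ideal.map_le_iff_le_comap]
      intro c hc
      rw [Ideal.mem_comap, Submodule.mem_annihilator]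
      intro y hy
      rw [smul_eq_mul]
      unfold Ideal.map at hy
      induction hy using Submodule.span_induction with
      | mem y hy =>
        obtain ⟨x, hx, rfl⟩ := hy
        have h0 := (Submodule.mem_annihilator.1 hc) x hx
        rw [smul_eq_mul] at h0
        rw [← map_mul, h0, map_zero]
      | zero => rw [mul_zero]
      | add y₁ y₂ _ _ h1 h2 => rw [mul_add, h1, h2, add_zero]
      | smul t y _ h => rw [smul_eq_mul, mul_left_comm, h, mul_zero]
  rw [hann]
  apply le_antisymm
  · rw [Ideal.map_le_iff_le_comap, Ideal.map_le_iff_le_comap]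
    intro c hc
    rw [Ideal.mem_comap, Ideal.mem_comap, lmul'_γ]
    exact Ideal.mem_map_of_mem _ (Ideal.mem_map_of_mem _ hc)
  · rw [Ideal.map_le_iff_le_comap, Ideal.map_le_iff_le_comap]
    intro c hc
    rw [Ideal.mem_comap, Ideal.mem_comap, ← lmul'_γ (A := A) (A' := A')]
    exact Ideal.mem_map_of_mem _ (Ideal.mem_map_of_mem _ hc)

end Groth.Agent.Helper26.NDiff
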