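import Mathlib

set_option autoImplicit false

namespace Groth.Agent.Helper26.NDiff

open TensorProduct

universe u

/-- Annihilators of finitely generated ideals commute with flat base change. -/
theorem annihilator_map_le_of_flat {C' C : Type u} [CommRing C'] [CommRing C] [Algebra C' C]
    [Module.Flat C' C] (I : Ideal C') (hI : I.FG) :
    Submodule.annihilator (Ideal.map (algebraMap C' C) I) ≤
      Ideal.map (algebraMap C' C) (Submodule.annihilator I) := by
  classical
  obtain ⟨s, hs⟩ := hI
  intro c hc
  let ρ : C' →ₗ[C'] (s → C') := LinearMap.pi fun i => LinearMap.mulRight C' (i : C')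
  have hker : ∀ c', c' ∈ LinearMap.ker ρ ↔ c' ∈ Submodule.annihilator I := by
    intro c'
    rw [LinearMap.mem_ker, ← hs]
    change _ ↔ c' ∈ (Submodule.span C' (s : Set C')).annihilator
    rw [Submodule.mem_annihilator_span]
    constructor
    · intro h i
      have := congrFun h i
      simpa [ρ] using this
    · intro h
      ext1 i
      simpa [ρ] using h i
  set z : C ⊗[C'] C' := c ⊗ₜ[C'] (1 : C') with hz
  have h1 : ∀ i : s, (LinearMap.mulRight C' (i : C')).lTensor C z = 0 := by
    intro i
    rw [hz, LinearMap.lTensor_tmul, LinearMap.mulRight_apply, one_mul]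
    have h2 : c ⊗ₜ[C'] (i : C') = (c * algebraMap C' C (i : C')) ⊗ₜ[C'] (1 : C') := by
      rw [mul_comm, ← Algebra.smul_def, TensorProduct.smul_tmul, smul_eq_mul, mul_one]
    rw [h2]
    have : algebraMap C' C (i : C') ∈ Ideal.map (algebraMap C' C) I := by
      apply Ideal.mem_map_of_mem
      rw [← hs]
      exact Ideal.subset_span i.2
    have h3 := (Submodule.mem_annihilator.1 hc) _ this
    rw [smul_eq_mul] at h3
    rw [h3, zero_tmul]
  have h2 : ρ.lTensor C z = 0 := by
    apply (TensorProduct.piRight C' C' C (fun _ : s => C')).injective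
    rw [map_zero]
    ext1 i
    have h3 : ∀ w : C ⊗[C'] (s → C'),
        (TensorProduct.piRight C' C' C (fun _ : s => C')) w i =
          (LinearMap.proj (R := C') (φ := fun _ : s => C') i).lTensor C w := by
      intro w
      induction w using TensorProduct.induction_on with
      | zero => simp
      | tmul a f => simp
      | add x y hx hy => simp only [map_add, Pi.add_apply, hx, hy]
    rw [h3, ← LinearMap.comp_apply, ← LinearMap.lTensor_comp]
    exact h1 i
  have hex := Module.Flat.lTensor_exact C (LinearMap.exact_subtype_ker_map ρ)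
  obtain ⟨w, hw⟩ := (hex z).1 h2
  have hc' : c = TensorProduct.rid C' C z := by rw [hz, TensorProduct.rid_tmul, one_smul]
  rw [hc', ← hw]
  clear hw
  induction w using TensorProduct.induction_on with
  | zero => simp
  | tmul a κ =>
    rw [LinearMap.lTensor_tmul, TensorProduct.rid_tmul, Submodule.subtype_apply, Algebra.smul_def]
    refine Ideal.mul_mem_right _ _ (Ideal.mem_map_of_mem _ ?_)
    exact (hker _).1 κ.2
  | add x y hx hy =>
    rw [map_add, map_add]
    exact Ideal.add_mem _ hx hy

theorem annihilator_map_eq_of_flat {C' C : Type u} [CommRing C'] [CommRing C] [Algebra C' C]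
    [Module.Flat C' C] (I : Ideal C') (hI : I.FG) :
    Submodule.annihilator (Ideal.map (algebraMap C' C) I) =
      Ideal.map (algebraMap C' C) (Submodule.annihilator I) := by
  apply le_antisymm (annihilator_map_le_of_flat I hI)
  rw [Ideal.map_le_iff_le_comap]
  intro c hc
  rw [Ideal.mem_comap, Submodule.mem_annihilator]
  intro y hy
  rw [smul_eq_mul]
  unfold Ideal.map at hy
  induction hy using Submodule.span_induction with
  | mem y hy =>
    obtain ⟨x, hx, rfl⟩ := hy
    have h0 := (Submodule.mem_annihilator.1 hc) x hx
    rw [smul_eq_mul] at h0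
    rw [← map_mul, h0, map_zero]
  | zero => rw [mul_zero]
  | add y₁ y₂ _ _ h1 h2 => rw [mul_add, h1, h2, add_zero]
  | smul t y _ h => rw [smul_eq_mul, mul_left_comm, h, mul_zero]

end Groth.Agent.Helper26.NDiff
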