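import Mathlib
import Groth.Prelude.Def_Disc
import Groth.Agent.Lib.Helper26.NDiff4

set_option autoImplicit false

namespace Groth.Agent.Helper26.NDiff

open TensorProduct AlgebraicGeometry CategoryTheory

universe u

variable {A B' B : Type u} [CommRing A] [CommRing B'] [CommRing B] [Algebra A B'] [Algebra A B]
  [Algebra B' B] [IsScalarTower A B' B]

variable (A B' B) in
/-- the comparison map `B' ⊗_A B' → B ⊗_A B`. -/
noncomputable def δ : B' ⊗[A] B' →ₐ[A] B ⊗[A] B :=
  Algebra.TensorProduct.map (IsScalarTower.toAlgHom A B' B) (IsScalarTower.toAlgHom A B' B)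

theorem δ_tmul (b₁ b₂ : B') :
    δ A B' B (b₁ ⊗ₜ[A] b₂) = (algebraMap B' B b₁) ⊗ₜ[A] (algebraMap B' B b₂) := rfl

theorem lmul'_δ (c : B' ⊗[A] B') :
    Algebra.TensorProduct.lmul' (S := B) A (δ A B' B c) =
      algebraMap B' B (Algebra.TensorProduct.lmul' (S := B') A c) := by
  induction c using TensorProduct.induction_on with
  | zero => simp
  | tmul b₁ b₂ => simp [δ_tmul]
  | add x y hx hy => simp only [map_add, hx, hy]

/-- the kernel of the multiplication of `B` is generated by the image of that of `B'`. -/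
theorem ker_lmul'_eq_map_of_isEpi [Algebra.IsEpi B' B] :
    RingHom.ker (Algebra.TensorProduct.lmul' (S := B) A) =
      Ideal.map (δ A B' B) (RingHom.ker (Algebra.TensorProduct.lmul' (S := B') A)) := by
  apply le_antisymm
  · change KaehlerDifferential.ideal A B ≤ _
    rw [← KaehlerDifferential.span_range_eq_ideal, Ideal.span_le]
    rintro _ ⟨b, rfl⟩
    show (1 : B) ⊗ₜ[A] b - b ⊗ₜ[A] (1 : B) ∈
      Ideal.map (δ A B' B) (RingHom.ker (Algebra.TensorProduct.lmul' (S := B') A))
    have h1 : (1 : B) ⊗ₜ[A] b - b ⊗ₜ[A] (1 : B) ∈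
        LinearMap.ker (TensorProduct.mapOfCompatibleSMul B' A B' B B) := by
      rw [LinearMap.mem_ker, map_sub, TensorProduct.mapOfCompatibleSMul_tmul,
        TensorProduct.mapOfCompatibleSMul_tmul,
        (Algebra.isEpi_iff_forall_one_tmul_eq B' B).1 inferInstance b, sub_self]
    rw [TensorProduct.AlgebraTensorModule.ker_mapOfCompatibleSMul] at h1
    generalize (1 : B) ⊗ₜ[A] b - b ⊗ₜ[A] (1 : B) = x at h1 ⊢
    induction h1 using Submodule.span_induction with
    | mem y hy =>
      obtain ⟨b', m, n, rfl⟩ := hy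
      have h2 : (b' • m) ⊗ₜ[A] n - m ⊗ₜ[A] (b' • n) =
          (m ⊗ₜ[A] n) * δ A B' B (b' ⊗ₜ[A] (1 : B') - (1 : B') ⊗ₜ[A] b') := by
        rw [map_sub, δ_tmul, δ_tmul, map_one, mul_sub, Algebra.TensorProduct.tmul_mul_tmul,
          Algebra.TensorProduct.tmul_mul_tmul, mul_one, mul_one, Algebra.smul_def,
          Algebra.smul_def, mul_comm m, mul_comm n]
      rw [h2]
      refine Ideal.mul_mem_left _ _ (Ideal.mem_map_of_mem _ ?_)
      rw [RingHom.mem_ker, map_sub]
      simp
    | zero => exact Ideal.zero_mem _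
    | add y₁ y₂ _ _ h1 h2 => exact Ideal.add_mem _ h1 h2
    | smul t y _ h =>
      rw [Algebra.smul_def]
      exact Ideal.mul_mem_left _ _ h
  · rw [Ideal.map_le_iff_le_comap]
    intro c hc
    rw [Ideal.mem_comap, RingHom.mem_ker, lmul'_δ, (RingHom.mem_ker).1 hc, map_zero]

theorem main_of_flat_of_isEpi [Algebra.FiniteType A B'] (hflat : (algebraMap B' B).Flat)
    [Algebra.IsEpi B' B] :
    Disc.noetherDifferent A B = (Disc.noetherDifferent A B').map (algebraMap B' B) := by
  unfold Disc.noetherDifferent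
  have hδflat : (δ A B' B).Flat := by
    have hf : (IsScalarTower.toAlgHom A B' B).Flat := hflat
    exact RingHom.Flat.tensorProductMap hf hf
  let _ : Algebra (B' ⊗[A] B') (B ⊗[A] B) := (δ A B' B).toRingHom.toAlgebra
  have hfl : Module.Flat (B' ⊗[A] B') (B ⊗[A] B) := hδflat
  have hann : Submodule.annihilator (RingHom.ker (Algebra.TensorProduct.lmul' (S := B) A)) =
      Ideal.map (δ A B' B)
        (Submodule.annihilator (RingHom.ker (Algebra.TensorProduct.lmul' (S := B') A))) := by
    rw [ker_lmul'_eq_map_of_isEpi (A := A) (B' := B')]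
    exact annihilator_map_eq_of_flat (C' := B' ⊗[A] B') (C := B ⊗[A] B) _
      (KaehlerDifferential.ideal_fg A B')
  rw [hann]
  apply le_antisymm
  · rw [Ideal.map_le_iff_le_comap, Ideal.map_le_iff_le_comap]
    intro c hc
    rw [Ideal.mem_comap, Ideal.mem_comap, lmul'_δ]
    exact Ideal.mem_map_of_mem _ (Ideal.mem_map_of_mem _ hc)
  · rw [Ideal.map_le_iff_le_comap, Ideal.map_le_iff_le_comap]
    intro c hc
    rw [Ideal.mem_comap, Ideal.mem_comap, ← lmul'_δ (A := A)]
    exact Ideal.mem_map_of_mem _ (Ideal.mem_map_of_mem _ hc)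

theorem main [Algebra.FiniteType A B']
    (h : IsOpenImmersion (Spec.map (CommRingCat.ofHom (algebraMap B' B)))) :
    Disc.noetherDifferent A B = (Disc.noetherDifferent A B').map (algebraMap B' B) := by
  have hflat : (algebraMap B' B).Flat := by
    have : Flat (Spec.map (CommRingCat.ofHom (algebraMap B' B))) := inferInstance
    exact (HasRingHomProperty.Spec_iff (P := @Flat)).1 this
  have hepi : Algebra.IsEpi B' B := by
    rw [← CommRingCat.epi_iff_epi]
    have h1 : Mono (Spec.map (CommRingCat.ofHom (algebraMap B' B))) := inferInstance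
    have h2 : Mono (CommRingCat.ofHom (algebraMap B' B)).op := by
      apply Scheme.Spec.mono_of_mono_map
      exact h1
    exact unop_epi_of_mono (CommRingCat.ofHom (algebraMap B' B)).op
  exact main_of_flat_of_isEpi hflat

end Groth.Agent.Helper26.NDiff
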