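import Mathlib
import Groth.Prelude.Def_SheafNL

set_option autoImplicit false
universe u
open CategoryTheory CategoryTheory.Limits TensorProduct

namespace Groth.Agent.Lib.Helper26.NLLoc1

section General

variable {R S : Type u} [CommRing R] [CommRing S] [Algebra R S]
variable {R' : Type u} [CommRing R'] [Algebra R' S] [Algebra R R'] [IsScalarTower R R' S]

/-- A chain map of naive cotangent complexes is an isomorphism when both components are bijective. -/
lemma isIso_map_of_bijective {P : Algebra.Extension.{u} R S} {P' : Algebra.Extension.{u} R' S}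
    (f : P.Hom P') (h1 : Function.Bijective (Algebra.Extension.Cotangent.map f))
    (h2 : Function.Bijective (Algebra.Extension.CotangentSpace.map f)) :
    IsIso (NLCx.map f) := by
  have hi1 : IsIso (ModuleCat.ofHom (Algebra.Extension.Cotangent.map f)) :=
    (LinearEquiv.ofBijective _ h1).toModuleIso.isIso_hom
  have hi2 : IsIso (ModuleCat.ofHom (Algebra.Extension.CotangentSpace.map f)) :=
    (LinearEquiv.ofBijective _ h2).toModuleIso.isIso_hom
  have : ∀ n : ℤ, IsIso ((NLCx.map f).f n) := by
    intro n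
    by_cases h0 : n = -1
    · subst h0
      have e0 : (NLCx.map f).f (-1) =
          (HomologicalComplex.doubleXIso₀ (ModuleCat.ofHom P.cotangentComplex)
            (show (ComplexShape.up ℤ).Rel (-1) 0 by simp)).hom ≫
          (ModuleCat.ofHom (Algebra.Extension.Cotangent.map f) ≫
            (HomologicalComplex.doubleXIso₀ (ModuleCat.ofHom P'.cotangentComplex)
              (show (ComplexShape.up ℤ).Rel (-1) 0 by simp)).inv) :=
        HomologicalComplex.mkHomFromDouble_f₀ _ _ _ _ _ _
      rw [e0]
      exact IsIso.comp_isIso' (Iso.isIso_hom _) (IsIso.comp_isIso' hi1 (Iso.isIso_inv _))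
    · by_cases h1 : n = 0
      · subst h1
        have e1 : (NLCx.map f).f 0 =
            (HomologicalComplex.doubleXIso₁ (ModuleCat.ofHom P.cotangentComplex)
              (show (ComplexShape.up ℤ).Rel (-1) 0 by simp) (by decide)).hom ≫
            (ModuleCat.ofHom (Algebra.Extension.CotangentSpace.map f) ≫
              (HomologicalComplex.doubleXIso₁ (ModuleCat.ofHom P'.cotangentComplex)
                (show (ComplexShape.up ℤ).Rel (-1) 0 by simp) (by decide)).inv) :=
          HomologicalComplex.mkHomFromDouble_f₁ _ _ _ _ _ _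
        rw [e1]
        exact IsIso.comp_isIso' (Iso.isIso_hom _) (IsIso.comp_isIso' hi2 (Iso.isIso_inv _))
      · have hz1 : IsZero ((NLCx.cx P).X n) :=
          HomologicalComplex.isZero_double_X _ _ n h0 h1
        have hz2 : IsZero ((NLCx.cx P').X n) :=
          HomologicalComplex.isZero_double_X _ _ n h0 h1
        exact ⟨⟨0, hz1.eq_of_src _ _, hz2.eq_of_src _ _⟩⟩
  exact HomologicalComplex.Hom.isIso_of_components _

end General

section Loc

variable (A A' B : Type u) [CommRing A] [CommRing A'] [CommRing B]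
  [Algebra A A'] (M : Submonoid A) [IsLocalization M A'] [Algebra A' B] [Algebra A B]
  [IsScalarTower A A' B]
  {ι : Type u} (G : Algebra.Generators A B ι) (G' : Algebra.Generators A' B ι)
  (h : ∀ i, G'.val i = algebraMap B B (G.val i))

/-- The chain map in degree zero is an isomorphism: bases correspond. -/
lemma cotangentSpace_bijective :
    Function.Bijective (Algebra.Extension.CotangentSpace.map
      (NLCx.sameVarsHom (S' := B) G G' h).toExtensionHom) := by
  have key : Algebra.Extension.CotangentSpace.map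
      (NLCx.sameVarsHom (S' := B) G G' h).toExtensionHom =
      (G.cotangentSpaceBasis.equiv G'.cotangentSpaceBasis (Equiv.refl ι)).toLinearMap := by
    apply G.cotangentSpaceBasis.ext
    intro i
    rw [LinearEquiv.coe_coe, Module.Basis.equiv_apply, Equiv.refl_apply]
    have e1 : G.cotangentSpaceBasis i =
        ((1 : B) ⊗ₜ[G.toExtension.Ring] KaehlerDifferential.D A G.toExtension.Ring
          (MvPolynomial.X i) : G.toExtension.CotangentSpace) :=
      G.cotangentSpaceBasis_apply i
    have e2 : G'.cotangentSpaceBasis i =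
        ((1 : B) ⊗ₜ[G'.toExtension.Ring] KaehlerDifferential.D A' G'.toExtension.Ring
          (MvPolynomial.X i) : G'.toExtension.CotangentSpace) :=
      G'.cotangentSpaceBasis_apply i
    rw [e1, e2]
    refine (Algebra.Extension.CotangentSpace.map_tmul _ _ _).trans ?_
    rw [map_one]
    congr 2
    exact (Algebra.Generators.Hom.toExtensionHom_toAlgHom_apply _ _ _ _).trans
      ((Algebra.Generators.Hom.toAlgHom_X _ i).trans rfl)
  rw [key]
  exact LinearEquiv.bijective _

end Loc

section PlainLoc

variable {A A' : Type u} [CommRing A] [CommRing A'] [Algebra A A'] (M : Submonoid A)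
  [IsLocalization M A'] {ι : Type u}

attribute [local instance] MvPolynomial.algebraMvPolynomial

/-- Elements of a contracted ideal upstairs come from downstairs up to a unit. -/
lemma plain_surj (I : Ideal (MvPolynomial ι A)) (I' : Ideal (MvPolynomial ι A'))
    (hI : ∀ x, MvPolynomial.map (algebraMap A A') x ∈ I' → x ∈ I) :
    ∀ z ∈ I', ∃ x ∈ I, ∃ m ∈ M,
      z * MvPolynomial.map (algebraMap A A') (MvPolynomial.C m) =
        MvPolynomial.map (algebraMap A A') x := by
  intro z hz
  obtain ⟨⟨x, ⟨c, hc⟩⟩, hx⟩ := IsLocalization.surj (M.map (MvPolynomial.C (σ := ι))) z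
  obtain ⟨m, hm, rfl⟩ := hc
  simp only [MvPolynomial.algebraMap_def] at hx
  refine ⟨x, hI x ?_, m, hm, hx⟩
  rw [← hx]
  exact Ideal.mul_mem_right _ _ hz

lemma plain_unit (m : A) (hm : m ∈ M) :
    IsUnit (MvPolynomial.map (algebraMap A A') (MvPolynomial.C m : MvPolynomial ι A)) := by
  have := IsLocalization.map_units (MvPolynomial ι A')
    (⟨MvPolynomial.C m, Submonoid.mem_map_of_mem _ hm⟩ : M.map (MvPolynomial.C (σ := ι)))
  simpa only [MvPolynomial.algebraMap_def] using this

lemma plain_sq (I : Ideal (MvPolynomial ι A)) (I' : Ideal (MvPolynomial ι A'))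
    (hI : ∀ x, MvPolynomial.map (algebraMap A A') x ∈ I' → x ∈ I) :
    ∀ x, MvPolynomial.map (algebraMap A A') x ∈ I' ^ 2 → ∃ m ∈ M,
      (MvPolynomial.C m : MvPolynomial ι A) * x ∈ I ^ 2 := by
  intro x hx
  have hle : I' ≤ Ideal.map (algebraMap (MvPolynomial ι A) (MvPolynomial ι A')) I := by
    intro z hz
    obtain ⟨x₀, hx₀, m, hm, hzx⟩ := plain_surj M I I' hI z hz
    obtain ⟨u, hu⟩ := plain_unit (A' := A') (ι := ι) M m hm
    have : z = MvPolynomial.map (algebraMap A A') x₀ *
        ((u⁻¹ : (MvPolynomial ι A')ˣ) : MvPolynomial ι A') := by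
      rw [← hzx, ← hu, mul_assoc, Units.mul_inv, mul_one]
    rw [this]
    apply Ideal.mul_mem_right
    rw [← MvPolynomial.algebraMap_def]
    exact Ideal.mem_map_of_mem _ hx₀
  have h2 : MvPolynomial.map (algebraMap A A') x ∈
      Ideal.map (algebraMap (MvPolynomial ι A) (MvPolynomial ι A')) (I ^ 2) := by
    rw [Ideal.map_pow]
    exact Ideal.pow_right_mono hle 2 hx
  rw [IsLocalization.mem_map_algebraMap_iff (M.map (MvPolynomial.C (σ := ι)))] at h2
  obtain ⟨⟨⟨y₀, hy₀⟩, ⟨c, hc⟩⟩, hyc⟩ := h2
  obtain ⟨m, hm, rfl⟩ := hc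
  simp only [MvPolynomial.algebraMap_def] at hyc
  rw [← map_mul] at hyc
  rw [← MvPolynomial.algebraMap_def] at hyc
  obtain ⟨⟨c', hc'⟩, hcc⟩ := IsLocalization.exists_of_eq (M := M.map (MvPolynomial.C (σ := ι))) hyc
  obtain ⟨m', hm', rfl⟩ := hc'
  simp only at hcc
  refine ⟨m' * m, M.mul_mem hm' hm, ?_⟩
  have : (MvPolynomial.C (m' * m) : MvPolynomial ι A) * x = MvPolynomial.C m' * y₀ := by
    rw [map_mul, mul_assoc, mul_comm (MvPolynomial.C m) x, hcc]
  rw [this]
  exact Ideal.mul_mem_left _ _ hy₀

end PlainLoc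

section LemB

variable {A A' B : Type u} [CommRing A] [CommRing A'] [CommRing B]
  [Algebra A A'] [Algebra A' B] [Algebra A B] [IsScalarTower A A' B]
  (M : Submonoid A)
  {P : Algebra.Extension.{u} A B} {P' : Algebra.Extension.{u} A' B} (f : P.Hom P')
  (hu : ∀ m ∈ M, IsUnit (algebraMap A B m))
  (H1 : ∀ z ∈ P'.ker, ∃ x ∈ P.ker, ∃ m ∈ M,
    z * f.toRingHom (algebraMap A P.Ring m) = f.toRingHom x)
  (H2 : ∀ x ∈ P.ker, f.toRingHom x ∈ P'.ker ^ 2 → ∃ m ∈ M,
    algebraMap A P.Ring m * x ∈ P.ker ^ 2)

include hu H2 in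
lemma cot_inj : Function.Injective (Algebra.Extension.Cotangent.map f) := by
  rw [injective_iff_map_eq_zero]
  intro y hy
  obtain ⟨⟨x, hx⟩, rfl⟩ := Algebra.Extension.Cotangent.mk_surjective y
  rw [Algebra.Extension.Cotangent.map_mk, Algebra.Extension.Cotangent.mk_eq_zero_iff] at hy
  obtain ⟨m, hm, hmx⟩ := H2 x hx hy
  have h1 : Algebra.Extension.Cotangent.mk
      ((algebraMap A P.Ring m) • (⟨x, hx⟩ : P.ker)) = 0 := by
    rw [Algebra.Extension.Cotangent.mk_eq_zero_iff]
    exact hmx
  rw [map_smul] at h1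
  have h3 : (algebraMap A P.Ring m) • Algebra.Extension.Cotangent.mk (⟨x, hx⟩ : P.ker) =
      (algebraMap A B m) • Algebra.Extension.Cotangent.mk (⟨x, hx⟩ : P.ker) := by
    have hr : ∀ (r : P.Ring) (y : P.Cotangent), r • y = algebraMap P.Ring B r • y :=
      fun _ _ => rfl
    rw [hr, ← IsScalarTower.algebraMap_apply]
  rw [h3] at h1
  exact (hu m hm).smul_eq_zero.mp h1

include hu H1 in
lemma cot_surj : Function.Surjective (Algebra.Extension.Cotangent.map f) := by
  intro y'
  obtain ⟨⟨z, hz⟩, rfl⟩ := Algebra.Extension.Cotangent.mk_surjective y'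
  obtain ⟨x, hx, m, hm, hzx⟩ := H1 z hz
  obtain ⟨u, hu'⟩ := hu m hm
  refine ⟨((u⁻¹ : Bˣ) : B) • Algebra.Extension.Cotangent.mk (⟨x, hx⟩ : P.ker), ?_⟩
  rw [map_smul, Algebra.Extension.Cotangent.map_mk]
  have hfx : f.toAlgHom x ∈ P'.ker := by
    change f.toRingHom x ∈ P'.ker
    rw [← hzx]
    exact Ideal.mul_mem_right _ _ hz
  have h1 : Algebra.Extension.Cotangent.mk
      ((f.toRingHom (algebraMap A P.Ring m)) • (⟨z, hz⟩ : P'.ker)) =
      Algebra.Extension.Cotangent.mk (⟨f.toAlgHom x, hfx⟩ : P'.ker) := by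
    congr 1
    apply Subtype.ext
    change f.toRingHom (algebraMap A P.Ring m) * z = f.toRingHom x
    rw [mul_comm]
    exact hzx
  rw [← h1, map_smul]
  have h3 : (f.toRingHom (algebraMap A P.Ring m)) •
      Algebra.Extension.Cotangent.mk (⟨z, hz⟩ : P'.ker) =
      (algebraMap A B m) • Algebra.Extension.Cotangent.mk (⟨z, hz⟩ : P'.ker) := by
    have hr : ∀ (r : P'.Ring) (y : P'.Cotangent), r • y = algebraMap P'.Ring B r • y :=
      fun _ _ => rfl
    rw [hr, f.toRingHom_algebraMap, ← IsScalarTower.algebraMap_apply A' P'.Ring B,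
      ← IsScalarTower.algebraMap_apply A A' B]
  rw [h3, ← hu', ← mul_smul, Units.inv_mul, one_smul]

end LemB

section Final

lemma units (A A' B : Type u) [CommRing A] [CommRing A'] [CommRing B]
    [Algebra A A'] (M : Submonoid A) [IsLocalization M A'] [Algebra A' B] [Algebra A B]
    [IsScalarTower A A' B] (m : A) (hm : m ∈ M) : IsUnit (algebraMap A B m) := by
  rw [IsScalarTower.algebraMap_apply A A' B]
  exact (IsLocalization.map_units A' ⟨m, hm⟩).map _

variable (A A' B : Type u) [CommRing A] [CommRing A'] [CommRing B]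
  [Algebra A A'] (M : Submonoid A) [IsLocalization M A'] [Algebra A' B] [Algebra A B]
  [IsScalarTower A A' B]
  {ι : Type u} (G : Algebra.Generators A B ι) (G' : Algebra.Generators A' B ι)
  (h : ∀ i, G'.val i = algebraMap B B (G.val i))

lemma toRingHom_eq (x : MvPolynomial ι A) :
    (NLCx.sameVarsHom (S' := B) G G' h).toExtensionHom.toRingHom x =
      MvPolynomial.map (algebraMap A A') x := by
  change MvPolynomial.aeval (fun i => (MvPolynomial.X i : MvPolynomial ι A')) x = _
  induction x using MvPolynomial.induction_on with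
  | C a => simp [MvPolynomial.algebraMap_apply]
  | add p q hp hq => simp [hp, hq]
  | mul_X p i hp => simp [hp]

include M in
lemma cot_bij : Function.Bijective (Algebra.Extension.Cotangent.map
    (NLCx.sameVarsHom (S' := B) G G' h).toExtensionHom) := by
  have hI : ∀ x : MvPolynomial ι A,
      MvPolynomial.map (algebraMap A A') x ∈ G'.toExtension.ker → x ∈ G.toExtension.ker := by
    intro x hx
    rw [← toRingHom_eq A A' B G G' h x] at hx
    have := (NLCx.sameVarsHom (S' := B) G G' h).toExtensionHom.algebraMap_toRingHom x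
    have hx' : algebraMap G'.toExtension.Ring B
        ((NLCx.sameVarsHom (S' := B) G G' h).toExtensionHom.toRingHom x) = 0 := hx
    rw [hx'] at this
    exact this.symm
  refine ⟨cot_inj M _ (units A A' B M) ?_, cot_surj M _ (units A A' B M) ?_⟩
  · intro x hx hfx
    have e := toRingHom_eq A A' B G G' h x
    have hfx' : MvPolynomial.map (algebraMap A A') x ∈ G'.toExtension.ker ^ 2 := by
      rw [← e]
      exact hfx
    obtain ⟨m, hm, hmx⟩ := plain_sq M G.toExtension.ker G'.toExtension.ker hI x hfx'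
    exact ⟨m, hm, hmx⟩
  · intro z hz
    obtain ⟨x, hx, m, hm, hzx⟩ := plain_surj M G.toExtension.ker G'.toExtension.ker hI z hz
    refine ⟨x, hx, m, hm, ?_⟩
    have e := toRingHom_eq A A' B G G' h x
    have e2 := toRingHom_eq A A' B G G' h (MvPolynomial.C m)
    exact ((congrArg (fun t => z * t) e2).trans hzx).trans e.symm

include M in
theorem main : IsIso (NLCx.map (NLCx.sameVarsHom (S' := B) G G' h).toExtensionHom) :=
  isIso_map_of_bijective _ (cot_bij A A' B M G G' h) (cotangentSpace_bijective A A' B G G' h)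

end Final

end Groth.Agent.Lib.Helper26.NLLoc1
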