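import Mathlib
import Groth.Agent.Lib.Helper7.IntDim

set_option linter.unusedSectionVars false
set_option linter.style.haveILetI false

namespace Groth.Agent.Helper26.NNPrime

theorem nn_dim (k R : Type*) [Field k] [CommRing R] [Nontrivial R] [Algebra k R]
    [Algebra.FiniteType k R] :
    ∃ (d : ℕ) (φ : MvPolynomial (Fin d) k →ₐ[k] R), Function.Injective φ ∧ φ.toRingHom.Finite ∧
      ringKrullDim R = d := by
  obtain ⟨d, φ, hinj, hfin⟩ := exists_finite_inj_algHom_of_fg k R
  refine ⟨d, φ, hinj, hfin, ?_⟩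
  letI : Algebra (MvPolynomial (Fin d) k) R := φ.toRingHom.toAlgebra
  haveI : Module.Finite (MvPolynomial (Fin d) k) R := hfin
  haveI : Algebra.IsIntegral (MvPolynomial (Fin d) k) R := inferInstance
  have h1 := Groth.Agent.Helper7.IntDim.ringKrullDim_eq_of_isIntegral_of_injective
    (A := MvPolynomial (Fin d) k) (B := R) hinj
  rw [h1, MvPolynomial.ringKrullDim_of_isNoetherianRing, ringKrullDim_eq_zero_of_field]
  simp

theorem main (k S : Type*) [Field k] [CommRing S] [Algebra k S]
    [Algebra.FiniteType k S] (q : Ideal S) [q.IsPrime] :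
    ∃ (g : S) (d : ℕ), g ∉ q ∧ ringKrullDim (Localization.Away g) = d ∧
      (∀ g' : S, g' ∉ q →
        ringKrullDim (Localization.Away g) ≤ ringKrullDim (Localization.Away g')) ∧
      ∃ φ : MvPolynomial (Fin d) k →ₐ[k] Localization.Away g,
        Function.Injective φ ∧ φ.toRingHom.Finite := by
  let f : {g' : S // g' ∉ q} → WithBot ℕ∞ := fun g' => ringKrullDim (Localization.Away g'.1)
  have hne : (Set.range f).Nonempty := ⟨_, ⟨⟨1, fun h => (inferInstance : q.IsPrime).ne_top
    ((Ideal.eq_top_iff_one q).mpr h)⟩, rfl⟩⟩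
  obtain ⟨m, ⟨⟨g, hg⟩, rfl⟩, hmin⟩ := wellFounded_lt.has_min (Set.range f) hne
  have hnt : Nontrivial (Localization.Away g) := by
    rw [← not_subsingleton_iff_nontrivial]
    intro hsub
    have h01 : algebraMap S (Localization.Away g) 1 = algebraMap S (Localization.Away g) 0 :=
      Subsingleton.elim _ _
    obtain ⟨⟨_, n, rfl⟩, hn⟩ := (IsLocalization.eq_iff_exists (Submonoid.powers g) _).mp h01
    simp only [mul_one, mul_zero] at hn
    exact hg (Ideal.IsPrime.mem_of_pow_mem inferInstance n (hn ▸ q.zero_mem))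
  haveI : Algebra.FiniteType k (Localization.Away g) :=
    Algebra.FiniteType.trans (inferInstance : Algebra.FiniteType k S)
      (IsLocalization.finiteType_of_monoid_fg (Submonoid.powers g) _)
  obtain ⟨d, φ, hinj, hfin, hd⟩ := nn_dim k (Localization.Away g)
  refine ⟨g, d, hg, hd, ?_, φ, hinj, hfin⟩
  intro g' hg'
  exact not_lt.mp (hmin _ ⟨⟨g', hg'⟩, rfl⟩)

end Groth.Agent.Helper26.NNPrime
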