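import Mathlib
import Groth.Prelude.Def_W4c1frobunstivaNR

universe u

namespace Groth.Agent.Lib.Helper26.NRKer

/-- Kernel of a split surjection onto `R^s`: the source is the product of the kernel with `R^s`. -/
noncomputable def splitEquiv {R : Type u} [CommRing R] {E : Type u} [AddCommGroup E] [Module R E]
    {G : Type u} [AddCommGroup G] [Module R G]
    (ψ : E →ₗ[R] G) (σ : G →ₗ[R] E) (hσ : ψ ∘ₗ σ = LinearMap.id) :
    E ≃ₗ[R] (LinearMap.ker ψ × G) :=
  have hσ' : ∀ z, ψ (σ z) = z := fun z => LinearMap.congr_fun hσ z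
  { toFun := fun x => (⟨x - σ (ψ x), by
      rw [LinearMap.mem_ker, map_sub, hσ', sub_self]⟩, ψ x)
    map_add' := by
      intro x y
      ext
      · simp only [map_add, Prod.mk_add_mk]
        change x + y - (σ (ψ x) + σ (ψ y)) = (x - σ (ψ x)) + (y - σ (ψ y))
        abel
      · simp
    map_smul' := by
      intro c x
      ext
      · simp only [map_smul, RingHom.id_apply, Prod.smul_mk]
        change c • x - c • σ (ψ x) = c • (x - σ (ψ x))
        rw [smul_sub]
      · simp
    invFun := fun p => p.1.1 + σ p.2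
    left_inv := by
      intro x
      simp
    right_inv := by
      rintro ⟨⟨k, hk⟩, z⟩
      have hk' : ψ k = 0 := hk
      ext
      · simp only [map_add, hk', hσ', zero_add]
        abel
      · simp only [map_add, hk', hσ', zero_add] }

theorem aux (R : Type u)
    [CommRing R] [IsNoetherianRing R] [IsLocalRing R] (r s l : ℕ)
    (U : Submodule R (Fin s → R)) (F : (Fin l → R) →ₗ[R] (Fin s → R))
    (hFrange : LinearMap.range F = U)
    (hFnil : ∀ w, F w = 0 → ∀ i, IsNilpotent (w i))
    (φ : (Fin r → R) →ₗ[R] ((Fin s → R) ⧸ U))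
    (hφ : Function.Surjective φ) :
    W4c1frobunstiva.IsNRFree R (LinearMap.ker φ) (r + l - s) ∧
      (l = 0 → Nonempty (Module.Basis (Fin (r - s)) R (LinearMap.ker φ))) := by
  classical
  -- lift
  obtain ⟨φt, hφt⟩ := Module.projective_lifting_property U.mkQ φ U.mkQ_surjective
  have hφt' : ∀ v, U.mkQ (φt v) = φ v := fun v => LinearMap.congr_fun hφt v
  let ψ : ((Fin r → R) × (Fin l → R)) →ₗ[R] (Fin s → R) := φt.coprod F
  have hψ : ∀ x, ψ x = φt x.1 + F x.2 := fun x => LinearMap.coprod_apply _ _ _
  have hψsurj : Function.Surjective ψ := by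
    intro z
    obtain ⟨v, hv⟩ := hφ (U.mkQ z)
    have : z - φt v ∈ U := by
      rw [← Submodule.Quotient.mk_eq_zero, Submodule.Quotient.mk_sub]
      change U.mkQ z - U.mkQ (φt v) = 0
      rw [hφt', hv, sub_self]
    rw [← hFrange] at this
    obtain ⟨w, hw⟩ := this
    refine ⟨(v, w), ?_⟩
    rw [hψ, hw]; abel
  obtain ⟨σ, hσ⟩ := Module.projective_lifting_property ψ LinearMap.id hψsurj
  let e := splitEquiv ψ σ hσ
  have he1 : ∀ x : LinearMap.ker ψ,
      (LinearMap.fst R _ _).comp e.toLinearMap (x : (Fin r → R) × (Fin l → R)) = x := by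
    intro x
    obtain ⟨k, hk⟩ := x
    have hk' : ψ k = 0 := hk
    apply Subtype.ext
    change k - σ (ψ k) = k
    rw [hk', map_zero, sub_zero]
  -- the kernel is projective, finite, hence free
  have hproj : Module.Projective R (LinearMap.ker ψ) := by
    refine Module.Projective.of_split (LinearMap.ker ψ).subtype
      ((LinearMap.fst R _ _).comp e.toLinearMap) ?_
    exact LinearMap.ext (fun x => he1 x)
  have hfin : Module.Finite R (LinearMap.ker ψ) := inferInstance
  have hfree : Module.Free R (LinearMap.ker ψ) := Module.free_of_flat_of_isLocalRing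
  have hrank : Module.finrank R (LinearMap.ker ψ) = r + l - s := by
    have h1 := e.finrank_eq
    rw [Module.finrank_prod, Module.finrank_prod, Module.finrank_pi, Module.finrank_pi,
      Module.finrank_pi] at h1
    simp only [Fintype.card_fin] at h1
    omega
  let b : Module.Basis (Fin (r + l - s)) R (LinearMap.ker ψ) := Module.finBasisOfFinrankEq R _ hrank
  -- members of ker ψ give members of ker φ
  have hmem : ∀ x : LinearMap.ker ψ, (x : (Fin r → R) × (Fin l → R)).1 ∈ LinearMap.ker φ := by
    rintro ⟨⟨v, w⟩, hx⟩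
    have hx' : φt v + F w = 0 := (hψ (v, w)).symm.trans hx
    rw [LinearMap.mem_ker]
    change φ v = 0
    rw [← hφt', eq_neg_of_add_eq_zero_left hx', map_neg, neg_eq_zero]
    change Submodule.Quotient.mk (F w) = 0
    rw [Submodule.Quotient.mk_eq_zero, ← hFrange]
    exact ⟨w, rfl⟩
  let pr : LinearMap.ker ψ →ₗ[R] LinearMap.ker φ :=
    LinearMap.codRestrict _ ((LinearMap.fst R _ _).comp (LinearMap.ker ψ).subtype) hmem
  have hpr : ∀ x : LinearMap.ker ψ, ((pr x : LinearMap.ker φ) : Fin r → R)
      = (x : (Fin r → R) × (Fin l → R)).1 := fun x => rfl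
  let m : Fin (r + l - s) → LinearMap.ker φ := fun j => pr (b j)
  have hprsurj : Function.Surjective pr := by
    rintro ⟨v, hv⟩
    have hv' : φ v = 0 := hv
    have : φt v ∈ U := by
      rw [← Submodule.Quotient.mk_eq_zero]
      change U.mkQ (φt v) = 0
      rw [hφt', hv']
    rw [← hFrange] at this
    obtain ⟨w, hw⟩ := this
    refine ⟨⟨(v, -w), ?_⟩, ?_⟩
    · rw [LinearMap.mem_ker, hψ]
      simp only [map_neg, hw, add_neg_cancel]
    · apply Subtype.ext
      rfl
  -- kernel of pr: nilpotent relations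
  have hrel : ∀ a : Fin (r + l - s) → R, (∑ j, a j • m j) = 0 →
      ∃ w : Fin l → R, (∀ i, IsNilpotent (w i)) ∧
        ((∑ j, a j • b j : LinearMap.ker ψ) : (Fin r → R) × (Fin l → R)) = (0, w) := by
    intro a ha
    set x : LinearMap.ker ψ := ∑ j, a j • b j with hx
    have hprx : pr x = 0 := by
      rw [hx, map_sum]
      simp only [map_smul]
      exact ha
    have hx1 : (x : (Fin r → R) × (Fin l → R)).1 = 0 := by
      rw [← hpr, hprx]; rfl
    refine ⟨(x : (Fin r → R) × (Fin l → R)).2, ?_, ?_⟩
    · have hxk : ψ (x : (Fin r → R) × (Fin l → R)) = 0 := x.2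
      rw [hψ, hx1, map_zero, zero_add] at hxk
      exact hFnil _ hxk
    · exact Prod.ext hx1 rfl
  have hspan : ⊤ ≤ Submodule.span R (Set.range m) := by
    rintro y -
    obtain ⟨x, rfl⟩ := hprsurj y
    rw [← b.sum_repr x, map_sum]
    refine Submodule.sum_mem _ (fun j _ => ?_)
    rw [map_smul]
    exact Submodule.smul_mem _ _ (Submodule.subset_span ⟨j, rfl⟩)
  refine ⟨⟨m, eq_top_iff.mpr hspan, ?_⟩, ?_⟩
  · -- nilpotent relations
    intro a ha j
    obtain ⟨w, hw, hxw⟩ := hrel a ha
    have hwn : ∀ i, w i ∈ nilradical R := fun i => (mem_nilradical).mpr (hw i)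
    let lam : ((Fin r → R) × (Fin l → R)) →ₗ[R] R :=
      (b.coord j).comp ((LinearMap.fst R _ _).comp e.toLinearMap)
    have h1 : lam ((∑ j, a j • b j : LinearMap.ker ψ) : (Fin r → R) × (Fin l → R)) = a j := by
      change b.coord j ((LinearMap.fst R _ _).comp e.toLinearMap _) = a j
      rw [he1]
      simp [Module.Basis.coord_apply, Finsupp.single_apply]
    rw [hxw] at h1
    have h2 : lam ((0 : Fin r → R), w) = (lam.comp (LinearMap.inr R _ _)) w := rfl
    rw [h2, LinearMap.pi_apply_eq_sum_univ] at h1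
    rw [← mem_nilradical, ← h1]
    refine Ideal.sum_mem _ (fun i _ => ?_)
    rw [smul_eq_mul]
    exact Ideal.mul_mem_right _ _ (hwn i)
  · -- l = 0
    intro hl
    subst hl
    have hli : LinearIndependent R m := by
      rw [Fintype.linearIndependent_iff]
      intro a ha j
      obtain ⟨w, _, hxw⟩ := hrel a ha
      have hw0 : w = 0 := Subsingleton.elim _ _
      have hx0 : (∑ j, a j • b j : LinearMap.ker ψ) = 0 := by
        apply Subtype.ext
        rw [hxw, hw0]; rfl
      exact (Fintype.linearIndependent_iff.mp b.linearIndependent) a hx0 j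
    exact ⟨Module.Basis.mk hli hspan⟩

theorem main (R : Type u)
    [CommRing R] [IsNoetherianRing R] [IsLocalRing R] (f : R)
    (hann : ∀ a : R, a * f = 0 → IsNilpotent a) (r s l : ℕ) (hls : l ≤ s)
    (φ : (Fin r → R) →ₗ[R]
      ((Fin s → R) ⧸ Submodule.span R (Set.range fun i : Fin l => (Pi.single (Fin.castLE hls i) f : Fin s → R))))
    (hφ : Function.Surjective φ) :
    W4c1frobunstiva.IsNRFree R (LinearMap.ker φ) (r + l - s) ∧
      (l = 0 → Nonempty (Module.Basis (Fin (r - s)) R (LinearMap.ker φ))) := by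
  classical
  let F : (Fin l → R) →ₗ[R] (Fin s → R) :=
    Fintype.linearCombination R (fun i : Fin l => (Pi.single (Fin.castLE hls i) f : Fin s → R))
  have hF : ∀ w, F w = ∑ i, w i • (Pi.single (Fin.castLE hls i) f : Fin s → R) := fun w => rfl
  have hFrange : LinearMap.range F = Submodule.span R
      (Set.range fun i : Fin l => (Pi.single (Fin.castLE hls i) f : Fin s → R)) :=
    Fintype.range_linearCombination R _
  have hFcoord : ∀ (w : Fin l → R) (i : Fin l), F w (Fin.castLE hls i) = w i * f := by
    intro w i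
    rw [hF, Finset.sum_apply, Finset.sum_eq_single i]
    · simp
    · intro j _ hji
      have : Fin.castLE hls j ≠ Fin.castLE hls i := fun h => hji (Fin.castLE_injective hls h)
      simp [Pi.single_apply, this.symm]
    · intro h; exact absurd (Finset.mem_univ _) h
  refine aux R r s l _ F hFrange ?_ φ hφ
  intro w hw i
  apply hann
  rw [← hFcoord, hw]; rfl

end Groth.Agent.Lib.Helper26.NRKer
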