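import Mathlib
import Groth.Prelude.Def_Hens2
import Groth.Agent.Lib.Helper26.NbDesc1

/-!
# Descent of integrality equations to an étale neighbourhood (helper26)
-/

set_option autoImplicit false
set_option linter.unusedSectionVars false

open TensorProduct Polynomial

namespace Groth.Agent.Helper26.PH.Desc

universe u

variable {A : Type u} [CommRing A] {I : Ideal A} (B : Type u) [CommRing B] [Algebra A B]

/-- `r ↦ 1 ⊗ r` -/
noncomputable def incR (i : Idx A I) : Rg A I i →+* T A I B i :=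
  (Algebra.TensorProduct.includeRight : Rg A I i →ₐ[A] B ⊗[A] Rg A I i).toRingHom

/-- `h ↦ 1 ⊗ h` -/
noncomputable def incH : Colim A I →+* TH A I B :=
  (Algebra.TensorProduct.includeRight : Colim A I →ₐ[A] B ⊗[A] Colim A I).toRingHom

theorem Tm_comp_incR {i j : Idx A I} (f : Rg A I i →ₐ[A] Rg A I j) :
    ((Tm B f : T A I B i →ₐ[B] T A I B j) : T A I B i →+* T A I B j).comp (incR B i) =
      (incR B j).comp (f : Rg A I i →+* Rg A I j) :=
  RingHom.ext fun _ => rfl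

theorem Tι_comp_incR (i : Idx A I) :
    ((Tι B i : T A I B i →ₐ[B] TH A I B) : T A I B i →+* TH A I B).comp (incR B i) =
      (incH B).comp (ι A I i : Rg A I i →+* Colim A I) :=
  RingHom.ext fun _ => rfl

/-- `y` is integral over the `i`-th neighbourhood after inverting `g` -/
def IntAt (i : Idx A I) (g y : T A I B i) : Prop :=
  ∃ P : (Rg A I i)[X], P.Monic ∧ ∃ N : ℕ, g ^ N * P.eval₂ (incR B i) y = 0

/-- `y` is integral over the henselization after inverting `g` -/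
def IntH (g y : TH A I B) : Prop :=
  ∃ P : (Colim A I)[X], P.Monic ∧ ∃ N : ℕ, g ^ N * P.eval₂ (incH B) y = 0

variable {B}

theorem Tm_eval₂ {i j : Idx A I} (f : Rg A I i →ₐ[A] Rg A I j) (P : (Rg A I i)[X]) (y : T A I B i) :
    Tm B f (P.eval₂ (incR B i) y) = (P.map (f : Rg A I i →+* Rg A I j)).eval₂ (incR B j) (Tm B f y) := by
  rw [Polynomial.eval₂_map, ← Tm_comp_incR]
  exact Polynomial.hom_eval₂ P (incR B i) ((Tm B f : T A I B i →ₐ[B] T A I B j) : T A I B i →+* T A I B j) y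

theorem Tι_eval₂ (i : Idx A I) (P : (Rg A I i)[X]) (y : T A I B i) :
    Tι B i (P.eval₂ (incR B i) y) =
      (P.map (ι A I i : Rg A I i →+* Colim A I)).eval₂ (incH B) (Tι B i y) := by
  rw [Polynomial.eval₂_map, ← Tι_comp_incR]
  exact Polynomial.hom_eval₂ P (incR B i) ((Tι B i : T A I B i →ₐ[B] TH A I B) : T A I B i →+* TH A I B) y

theorem IntAt.map {i j : Idx A I} (f : Rg A I i →ₐ[A] Rg A I j) {g y : T A I B i}
    (h : IntAt B i g y) : IntAt B j (Tm B f g) (Tm B f y) := by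
  obtain ⟨P, hP, N, hN⟩ := h
  refine ⟨P.map (f : Rg A I i →+* Rg A I j), hP.map _, N, ?_⟩
  rw [← Tm_eval₂, ← map_pow, ← map_mul, hN, map_zero]

/-- **Descent of integrality.** -/
theorem IntH.descend {i : Idx A I} (g y : T A I B i) (h : IntH B (Tι B i g) (Tι B i y)) :
    ∃ (k : Idx A I) (f : Rg A I i →ₐ[A] Rg A I k), IntAt B k (Tm B f g) (Tm B f y) := by
  obtain ⟨P, hP, N, hN⟩ := h
  obtain ⟨n, c, rfl⟩ := exists_eq_mpoly hP
  obtain ⟨i₁, c', hc'⟩ := ι_rep_fin A I n c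
  obtain ⟨k₁, f, f₁, -⟩ := exists_join' A I i i₁
  let P' : (Rg A I k₁)[X] := mpoly n (fun l => f₁ (c' l))
  have hP' : P'.map (ι A I k₁ : Rg A I k₁ →+* Colim A I) = mpoly n c := by
    rw [mpoly_map]
    congr 1
    funext l
    change ι A I k₁ (f₁ (c' l)) = c l
    rw [ι_comp_apply, hc']
  have h0 : Tι B k₁ ((Tm B f g) ^ N * P'.eval₂ (incR B k₁) (Tm B f y)) = 0 := by
    rw [map_mul, map_pow, Tι_eval₂, hP', Tι_Tm, Tι_Tm, hN]
  obtain ⟨k, f', hf'⟩ := Tι_eq_zero B _ h0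
  refine ⟨k, f'.comp f, P'.map (f' : Rg A I k₁ →+* Rg A I k), (mpoly_monic _ _).map _, N, ?_⟩
  rw [map_mul, map_pow, Tm_eval₂, Tm_Tm, Tm_Tm] at hf'
  exact hf'

/-- descent of integrality for finitely many elements -/
theorem IntH.descend_fin (gH : TH A I B) (s : Finset B) (hs : ∀ b ∈ s, IntH B gH (b ⊗ₜ[A] 1)) :
    ∀ (i : Idx A I) (g : T A I B i), Tι B i g = gH →
      ∃ (k : Idx A I) (f : Rg A I i →ₐ[A] Rg A I k), ∀ b ∈ s, IntAt B k (Tm B f g) (b ⊗ₜ[A] 1) := by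
  classical
  induction s using Finset.induction_on with
  | empty => intro i g _; exact ⟨i, AlgHom.id A _, by simp⟩
  | insert b₀ s hb₀ ih =>
    intro i g hg
    obtain ⟨k₁, f₁, h₁⟩ := ih (fun b hb => hs b (Finset.mem_insert_of_mem hb)) i g hg
    have h0 : IntH B (Tι B k₁ (Tm B f₁ g)) (Tι B k₁ (b₀ ⊗ₜ[A] 1)) := by
      rw [Tι_Tm, hg, Tι_tmul, map_one]
      exact hs b₀ (Finset.mem_insert_self _ _)
    obtain ⟨k, f, hk⟩ := IntH.descend (Tm B f₁ g) (b₀ ⊗ₜ[A] 1) h0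
    refine ⟨k, f.comp f₁, ?_⟩
    intro b hb
    rw [← Tm_Tm]
    rcases Finset.mem_insert.1 hb with rfl | hb
    · have : Tm B f (b ⊗ₜ[A] (1 : Rg A I k₁)) = b ⊗ₜ[A] (1 : Rg A I k) := by
        rw [Tm_tmul, map_one]
      rw [← this]
      exact hk
    · have : Tm B f (b ⊗ₜ[A] (1 : Rg A I k₁)) = b ⊗ₜ[A] (1 : Rg A I k) := by
        rw [Tm_tmul, map_one]
      rw [← this]
      exact (h₁ b hb).map f

end Groth.Agent.Helper26.PH.Desc
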