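import Mathlib
import Groth.Prelude.Def_Hens2
import Groth.Agent.Lib.Helper26.NbDesc2
import Groth.Agent.Lib.Helper26.ZMTHens5

/-!
# The henselian input for the finite étale-neighbourhood theorem (helper26)
-/

set_option autoImplicit false
set_option linter.unusedSectionVars false
set_option linter.style.haveILetI false

open TensorProduct Polynomial

namespace Groth.Agent.Helper26.PH.Desc

universe u

variable (A : Type u) [CommRing A] (I : Ideal A) (B : Type u) [CommRing B] [Algebra A B]

/-- `(H ⊗ B) ⧸ I (H ⊗ B)` is a finite module over the henselization `H` -/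
theorem finite_quotient_tensor
    (hfin : Module.Finite A (B ⧸ I.map (algebraMap A B))) :
    Module.Finite (Colim A I) ((Colim A I ⊗[A] B) ⧸
      (I.map (algebraMap A (Colim A I))).map (algebraMap (Colim A I) (Colim A I ⊗[A] B))) := by
  have hH := colim_isPairHenselization A I
  set H := Colim A I
  set R := H ⊗[A] B
  set K : Ideal R := (I.map (algebraMap A H)).map (algebraMap H R) with hK
  have hKA : K = I.map (algebraMap A R) := by
    rw [hK, Ideal.map_map, ← IsScalarTower.algebraMap_eq]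
  -- the algebra map `B → R ⧸ K`
  let ψ : B →ₐ[A] R ⧸ K :=
    (Ideal.Quotient.mkₐ A K).comp (Algebra.TensorProduct.includeRight : B →ₐ[A] H ⊗[A] B)
  have hψ : ∀ b ∈ I.map (algebraMap A B), ψ b = 0 := by
    have : I.map (algebraMap A B) ≤ RingHom.ker (ψ : B →+* R ⧸ K) := by
      rw [Ideal.map_le_iff_le_comap]
      intro a ha
      rw [Ideal.mem_comap, RingHom.mem_ker]
      change ψ (algebraMap A B a) = 0
      rw [AlgHom.commutes, IsScalarTower.algebraMap_apply A R (R ⧸ K)]
      rw [Ideal.Quotient.algebraMap_eq, Ideal.Quotient.eq_zero_iff_mem, hKA]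
      exact Ideal.mem_map_of_mem _ ha
    intro b hb
    exact this hb
  let ψ' : B ⧸ I.map (algebraMap A B) →ₐ[A] R ⧸ K := Ideal.Quotient.liftₐ _ ψ hψ
  have hsurj : Function.Surjective ψ' := by
    intro q
    obtain ⟨x, rfl⟩ := Ideal.Quotient.mk_surjective q
    induction x using TensorProduct.induction_on with
    | zero => exact ⟨0, by simp⟩
    | tmul h b =>
      obtain ⟨a, ha⟩ := (bij_iff.1 (quotientMap_bijective hH)).2 h
      refine ⟨Ideal.Quotient.mk _ (a • b), ?_⟩
      change ψ (a • b) = _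
      change Ideal.Quotient.mk K ((1 : H) ⊗ₜ[A] (a • b)) = Ideal.Quotient.mk K (h ⊗ₜ[A] b)
      rw [eq_comm, Ideal.Quotient.eq]
      have h1 : h ⊗ₜ[A] b - (1 : H) ⊗ₜ[A] (a • b) =
          algebraMap H R (h - algebraMap A H a) * ((1 : H) ⊗ₜ[A] b) := by
        rw [Algebra.TensorProduct.algebraMap_apply, Algebra.TensorProduct.tmul_mul_tmul, mul_one,
          one_mul, Algebra.algebraMap_self_apply, TensorProduct.sub_tmul, TensorProduct.tmul_smul,
          Algebra.algebraMap_eq_smul_one, TensorProduct.smul_tmul']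
      rw [h1]
      exact Ideal.mul_mem_right _ _ (Ideal.mem_map_of_mem _ ha)
    | add x y hx hy =>
      obtain ⟨x', hx'⟩ := hx
      obtain ⟨y', hy'⟩ := hy
      exact ⟨x' + y', by rw [map_add, hx', hy', map_add]⟩
  have h1 : Module.Finite A (R ⧸ K) := Module.Finite.of_surjective ψ'.toLinearMap hsurj
  exact Module.Finite.of_restrictScalars_finite A H (R ⧸ K)

/-- the henselian-level data: an idempotent `g ≡ 1` with `(B ⊗ H)_g` integral over `H` -/
theorem exists_gH [Algebra.FiniteType A B]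
    (hfin : Module.Finite A (B ⧸ I.map (algebraMap A B))) :
    ∃ gH : TH A I B, IsIdempotentElem gH ∧ gH - 1 ∈ I • (⊤ : Submodule A (TH A I B)) ∧
      ∀ b : B, IntH B gH (b ⊗ₜ[A] 1) := by
  have hH := colim_isPairHenselization A I
  haveI : HenselianRing (Colim A I) (I.map (algebraMap A (Colim A I))) := hH.1
  obtain ⟨g₀, hid, hg1, hfinL⟩ := ZMTHens.exists_away_finite_idem
    (I.map (algebraMap A (Colim A I))) (Colim A I ⊗[A] B) (finite_quotient_tensor A I B hfin)
  let c : Colim A I ⊗[A] B ≃ₐ[A] B ⊗[A] Colim A I := Algebra.TensorProduct.comm A _ _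
  refine ⟨c g₀, ?_, ?_, ?_⟩
  · exact hid.map c
  · have h1 : g₀ - 1 ∈ I.map (algebraMap A (Colim A I ⊗[A] B)) := by
      rw [Ideal.map_map, ← IsScalarTower.algebraMap_eq] at hg1
      exact hg1
    have h2 := mem_map_algHom I c.toAlgHom h1
    rw [Ideal.smul_top_eq_map]
    change c g₀ - 1 ∈ I.map (algebraMap A (B ⊗[A] Colim A I))
    have : c g₀ - 1 = c (g₀ - 1) := by rw [map_sub, map_one]
    rw [this]
    exact h2
  · intro b
    have hint : IsIntegral (Colim A I)
        (algebraMap (Colim A I ⊗[A] B) (Localization.Away g₀) ((1 : Colim A I) ⊗ₜ[A] b)) :=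
      IsIntegral.of_finite _ _
    obtain ⟨P, hP, hPz⟩ := hint
    rw [IsScalarTower.algebraMap_eq (Colim A I) (Colim A I ⊗[A] B) (Localization.Away g₀),
      ← Polynomial.hom_eval₂] at hPz
    obtain ⟨⟨_, N, rfl⟩, hN⟩ := (IsLocalization.map_eq_zero_iff (Submonoid.powers g₀) _ _).1 hPz
    refine ⟨P, hP, N, ?_⟩
    have h3 := congrArg c hN
    rw [map_mul, map_pow, map_zero] at h3
    have h4 : c (P.eval₂ (algebraMap (Colim A I) (Colim A I ⊗[A] B)) ((1 : Colim A I) ⊗ₜ[A] b)) =
        P.eval₂ (incH B) (b ⊗ₜ[A] (1 : Colim A I)) := by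
      have := Polynomial.hom_eval₂ P (algebraMap (Colim A I) (Colim A I ⊗[A] B))
        ((c : Colim A I ⊗[A] B ≃ₐ[A] B ⊗[A] Colim A I) :
          Colim A I ⊗[A] B →+* B ⊗[A] Colim A I) ((1 : Colim A I) ⊗ₜ[A] b)
      exact this
    rw [h4] at h3
    exact h3

end Groth.Agent.Helper26.PH.Desc
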