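import Mathlib
import Groth.Prelude.Def_Hens2
import Groth.Agent.Lib.Helper26.NbDesc3

/-!
# Descent of the henselian data to an étale neighbourhood (helper26)
-/

set_option autoImplicit false
set_option linter.unusedSectionVars false
set_option linter.style.haveILetI false

open TensorProduct Polynomial

namespace Groth.Agent.Helper26.PH.Desc

universe u

variable (A : Type u) [CommRing A] (I : Ideal A) (B : Type u) [CommRing B] [Algebra A B]

theorem exists_nbhd_data [Algebra.FiniteType A B]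
    (hfin : Module.Finite A (B ⧸ I.map (algebraMap A B))) (s : Finset B) :
    ∃ (k : Idx A I) (g : T A I B k), IsIdempotentElem g ∧
      g - 1 ∈ I • (⊤ : Submodule A (T A I B k)) ∧ ∀ b ∈ s, IntAt B k g (b ⊗ₜ[A] 1) := by
  obtain ⟨gH, hid, hg1, hint⟩ := exists_gH A I B hfin
  obtain ⟨i₁, g₁, hg₁⟩ := Tι_rep B gH
  have h0 : Tι B i₁ (g₁ * g₁ - g₁) = 0 := by
    rw [map_sub, map_mul, hg₁, hid.eq, sub_self]
  obtain ⟨i₂, f₂, hf₂⟩ := Tι_eq_zero B _ h0
  have hid₂ : IsIdempotentElem (Tm B f₂ g₁) := by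
    rw [map_sub, map_mul, sub_eq_zero] at hf₂
    exact hf₂
  have h1 : Tι B i₂ (Tm B f₂ g₁ - 1) ∈ I • (⊤ : Submodule A (TH A I B)) := by
    rw [map_sub, map_one, Tι_Tm, hg₁]
    exact hg1
  obtain ⟨i₃, f₃, hf₃⟩ := Tι_mem B _ h1
  obtain ⟨k, f, hk⟩ := IntH.descend_fin gH s (fun b _ => hint b) i₃ (Tm B f₃ (Tm B f₂ g₁))
    (by rw [Tι_Tm, Tι_Tm, hg₁])
  refine ⟨k, Tm B f (Tm B f₃ (Tm B f₂ g₁)), (hid₂.map _).map _, ?_, hk⟩
  have h2 := Tm_mem B f hf₃
  rw [map_sub, map_one, map_sub, map_one] at h2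
  exact h2

end Groth.Agent.Helper26.PH.Desc
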