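import Mathlib
import Groth.Prelude.Def_Hens2
import Groth.Agent.Lib.Helper26.PHColim2

/-!
# Base change of étale neighbourhoods and the final assembly (helper26)
-/

set_option autoImplicit false
set_option linter.unusedSectionVars false
set_option linter.style.haveILetI false

open TensorProduct Polynomial

namespace Groth.Agent.Helper26.PH

universe u

section

variable {R : Type u} [CommRing R] {J : Ideal R} {R' : Type u} [CommRing R'] [Algebra R R']

theorem IsNbhd.surjective_comp (h : IsNbhd R J R') :
    Function.Surjective ((Ideal.Quotient.mk (J.map (algebraMap R R'))).comp (algebraMap R R')) := by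
  intro q
  obtain ⟨x, rfl⟩ := Ideal.Quotient.mk_surjective q
  obtain ⟨r, hr⟩ := h.surj x
  refine ⟨r, ?_⟩
  rw [RingHom.comp_apply, eq_comm, Ideal.Quotient.eq]
  exact hr

theorem IsNbhd.ker_comp (h : IsNbhd R J R') :
    RingHom.ker ((Ideal.Quotient.mk (J.map (algebraMap R R'))).comp (algebraMap R R')) = J := by
  ext r
  rw [RingHom.mem_ker, RingHom.comp_apply, Ideal.Quotient.eq_zero_iff_mem]
  exact ⟨h.inj r, fun hr => Ideal.mem_map_of_mem _ hr⟩

end

section baseChange

variable {A : Type u} [CommRing A] {I : Ideal A} (B : Type u) [CommRing B] [Algebra A B]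
  {A' : Type u} [CommRing A'] [Algebra A A']

/-- base change of an étale neighbourhood -/
theorem IsNbhd.baseChange (h : IsNbhd A I A') :
    IsNbhd B (I.map (algebraMap A B)) (B ⊗[A] A') := by
  have := h.etale
  have hK : (I.map (algebraMap A B)).map (algebraMap B (B ⊗[A] A')) =
      I.map (algebraMap A (B ⊗[A] A')) := by
    rw [Ideal.map_map, ← IsScalarTower.algebraMap_eq]
  let g : A' →ₐ[A] B ⧸ I.map (algebraMap A B) :=
    (Ideal.quotientMapₐ (I.map (algebraMap A B)) (Algebra.ofId A B) Ideal.le_comap_map).comp h.retr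
  refine IsNbhd.of_retr (Algebra.TensorProduct.lift (Ideal.Quotient.mkₐ B _) g
    (fun _ _ => Commute.all _ _)) ?_
  intro x
  induction x using TensorProduct.induction_on with
  | zero => exact ⟨0, by simp⟩
  | tmul b a' =>
    obtain ⟨a, ha⟩ := h.surj a'
    refine ⟨a • b, ?_⟩
    have h1 : b ⊗ₜ[A] a' - algebraMap B (B ⊗[A] A') (a • b) =
        (b ⊗ₜ[A] (1 : A')) *
          (Algebra.TensorProduct.includeRight : A' →ₐ[A] B ⊗[A] A') (a' - algebraMap A A' a) := by
      rw [Algebra.TensorProduct.algebraMap_apply, Algebra.TensorProduct.includeRight_apply,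
        Algebra.TensorProduct.tmul_mul_tmul, mul_one, one_mul, Algebra.algebraMap_self_apply,
        TensorProduct.tmul_sub, Algebra.algebraMap_eq_smul_one, TensorProduct.tmul_smul,
        TensorProduct.smul_tmul']
    rw [h1, hK]
    exact Ideal.mul_mem_left _ _ (mem_map_algHom I _ ha)
  | add x y hx hy =>
    obtain ⟨r₁, h₁⟩ := hx
    obtain ⟨r₂, h₂⟩ := hy
    refine ⟨r₁ + r₂, ?_⟩
    have : x + y - algebraMap B (B ⊗[A] A') (r₁ + r₂) =
        (x - algebraMap B (B ⊗[A] A') r₁) + (y - algebraMap B (B ⊗[A] A') r₂) := by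
      rw [map_add]; ring
    rw [this]
    exact Ideal.add_mem _ h₁ h₂

end baseChange

end Groth.Agent.Helper26.PH
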