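import Mathlib
import Groth.Prelude.Def_Hens2
import Groth.Agent.Lib.Helper26.NbDesc4
import Groth.Agent.Lib.Helper26.NbDesc5

/-!
# Étale neighbourhoods finite over an étale neighbourhood of the base (helper26)
-/

set_option autoImplicit false
set_option linter.unusedSectionVars false
set_option linter.style.haveILetI false

open TensorProduct Polynomial

namespace Groth.Agent.Helper26.PH.Desc

universe u

variable (A : Type u) [CommRing A] (I : Ideal A) (B : Type u) [CommRing B] [Algebra A B]

theorem assembly (A' : Type u) [CommRing A'] [Algebra A A'] (hN : IsNbhd A I A')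
    (g : B ⊗[A] A') (hg : IsIdempotentElem g)
    (hg1 : g - 1 ∈ I • (⊤ : Submodule A (B ⊗[A] A')))
    (s : Finset B) (hs : Algebra.adjoin A (s : Set B) = ⊤)
    (hint : ∀ b ∈ s, ∃ P : A'[X], P.Monic ∧ ∃ N : ℕ,
      g ^ N * P.eval₂ ((Algebra.TensorProduct.includeRight : A' →ₐ[A] B ⊗[A] A').toRingHom)
        (b ⊗ₜ[A] 1) = 0) :
    ∃ (A' : Type u) (_ : CommRing A') (_ : Algebra A A') (_ : Algebra.Etale A A')
      (C : Type u) (_ : CommRing C) (_ : Algebra A C) (_ : Algebra A' C) (_ : Algebra B C)
      (_ : IsScalarTower A A' C) (_ : IsScalarTower A B C),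
      Function.Surjective ((Ideal.Quotient.mk (Ideal.map (algebraMap A A') I)).comp
        (algebraMap A A')) ∧
      RingHom.ker ((Ideal.Quotient.mk (Ideal.map (algebraMap A A') I)).comp
        (algebraMap A A')) = I ∧
      Algebra.Etale B C ∧ Module.Finite A' C ∧
      Function.Surjective ((Ideal.Quotient.mk (Ideal.map (algebraMap A C) I)).comp
        (algebraMap B C)) ∧
      RingHom.ker ((Ideal.Quotient.mk (Ideal.map (algebraMap A C) I)).comp (algebraMap B C)) =
        Ideal.map (algebraMap A B) I := by
  classical
  have hT : IsNbhd B (I.map (algebraMap A B)) (B ⊗[A] A') := hN.baseChange B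
  have hK : (I.map (algebraMap A B)).map (algebraMap B (B ⊗[A] A')) =
      I.map (algebraMap A (B ⊗[A] A')) := by
    rw [Ideal.map_map, ← IsScalarTower.algebraMap_eq]
  have hg1' : g - 1 ∈ (I.map (algebraMap A B)).map (algebraMap B (B ⊗[A] A')) := by
    rw [hK]
    rw [Ideal.smul_top_eq_map] at hg1
    exact hg1
  have hC : IsNbhd B (I.map (algebraMap A B)) (Localization.Away g) := IsNbhd.away hT g hg1'
  letI algA'C : Algebra A' (Localization.Away g) :=
    ((algebraMap (B ⊗[A] A') (Localization.Away g)).comp
      (Algebra.TensorProduct.includeRight : A' →ₐ[A] B ⊗[A] A').toRingHom).toAlgebra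
  have hA'C : ∀ x : A', algebraMap A' (Localization.Away g) x =
      algebraMap (B ⊗[A] A') (Localization.Away g) ((1 : B) ⊗ₜ[A] x) := fun x => rfl
  haveI tow1 : IsScalarTower A A' (Localization.Away g) :=
    IsScalarTower.of_algebraMap_eq (fun a => by
      rw [hA'C, IsScalarTower.algebraMap_apply A (B ⊗[A] A') (Localization.Away g),
        Algebra.TensorProduct.algebraMap_apply, Algebra.algebraMap_eq_smul_one (A := A') a,
        Algebra.algebraMap_eq_smul_one (A := B) a, TensorProduct.smul_tmul])
  haveI tow2 : IsScalarTower A B (Localization.Away g) :=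
    IsScalarTower.of_algebraMap_eq (fun a => by
      rw [IsScalarTower.algebraMap_apply A (B ⊗[A] A') (Localization.Away g),
        IsScalarTower.algebraMap_apply B (B ⊗[A] A') (Localization.Away g),
        ← IsScalarTower.algebraMap_apply A B (B ⊗[A] A')])
  have hKC : (I.map (algebraMap A B)).map (algebraMap B (Localization.Away g)) =
      I.map (algebraMap A (Localization.Away g)) := by
    rw [Ideal.map_map, ← IsScalarTower.algebraMap_eq]
  refine ⟨A', inferInstance, inferInstance, hN.etale, Localization.Away g, inferInstance,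
    inferInstance, algA'C, inferInstance, tow1, tow2, hN.surjective_comp, hN.ker_comp, hC.etale,
    ?_, ?_, ?_⟩
  · -- finiteness
    have h1 : algebraMap (B ⊗[A] A') (Localization.Away g) g = 1 := by
      have hu : IsUnit (algebraMap (B ⊗[A] A') (Localization.Away g) g) :=
        IsLocalization.Away.algebraMap_isUnit g
      have h2 : algebraMap (B ⊗[A] A') (Localization.Away g) g *
          algebraMap (B ⊗[A] A') (Localization.Away g) g =
          algebraMap (B ⊗[A] A') (Localization.Away g) g := by rw [← map_mul, hg.eq]
      exact hu.mul_left_cancel (by rw [h2, mul_one])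
    have hsurjC : ∀ c : Localization.Away g,
        ∃ t : B ⊗[A] A', algebraMap (B ⊗[A] A') (Localization.Away g) t = c := by
      intro c
      obtain ⟨n, t, ht⟩ := IsLocalization.Away.surj g c
      rw [h1, one_pow, mul_one] at ht
      exact ⟨t, ht.symm⟩
    let φ : B → Localization.Away g := fun b =>
      algebraMap (B ⊗[A] A') (Localization.Away g) (b ⊗ₜ[A] (1 : A'))
    let S : Subalgebra A' (Localization.Away g) := Algebra.adjoin A' (φ '' (s : Set B))
    have hS : ∀ b : B, φ b ∈ S := by
      let ψ : B →ₐ[A] Localization.Away g :=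
        (IsScalarTower.toAlgHom A (B ⊗[A] A') (Localization.Away g)).comp
          Algebra.TensorProduct.includeLeft
      have hle : (⊤ : Subalgebra A B) ≤ (S.restrictScalars A).comap ψ := by
        rw [← hs]
        apply Algebra.adjoin_le
        intro b hb
        exact Algebra.subset_adjoin ⟨b, hb, rfl⟩
      intro b
      exact hle (Algebra.mem_top (x := b))
    have hStop : S = ⊤ := by
      rw [eq_top_iff]
      intro c _
      obtain ⟨t, rfl⟩ := hsurjC c
      clear * - hS hA'C
      induction t using TensorProduct.induction_on with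
      | zero => rw [map_zero]; exact S.zero_mem
      | tmul b a' =>
        have : b ⊗ₜ[A] a' = (b ⊗ₜ[A] (1 : A')) * ((1 : B) ⊗ₜ[A] a') := by
          rw [Algebra.TensorProduct.tmul_mul_tmul, mul_one, one_mul]
        rw [this, map_mul]
        exact S.mul_mem (hS b) (by rw [← hA'C]; exact S.algebraMap_mem a')
      | add x y hx hy => rw [map_add]; exact S.add_mem hx hy
    have hfg : S.toSubmodule.FG := by
      refine fg_adjoin_of_finite (Set.Finite.image _ s.finite_toSet) ?_
      rintro _ ⟨b, hb, rfl⟩
      obtain ⟨P, hP, N, hN'⟩ := hint b hb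
      refine ⟨P, hP, ?_⟩
      have h3 := congrArg (algebraMap (B ⊗[A] A') (Localization.Away g)) hN'
      rw [map_mul, map_pow, h1, one_pow, one_mul, map_zero, Polynomial.hom_eval₂] at h3
      exact h3
    rw [hStop, Algebra.top_toSubmodule] at hfg
    exact ⟨hfg⟩
  · rw [← hKC]
    exact hC.surjective_comp
  · rw [← hKC]
    exact hC.ker_comp

/-- **Finite étale neighbourhoods over an étale neighbourhood of the base.** -/
theorem exists_etale_nbhd_finite [Algebra.FiniteType A B]
    (hfin : Module.Finite A (B ⧸ Ideal.map (algebraMap A B) I)) :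
    ∃ (A' : Type u) (_ : CommRing A') (_ : Algebra A A') (_ : Algebra.Etale A A')
      (C : Type u) (_ : CommRing C) (_ : Algebra A C) (_ : Algebra A' C) (_ : Algebra B C)
      (_ : IsScalarTower A A' C) (_ : IsScalarTower A B C),
      Function.Surjective ((Ideal.Quotient.mk (Ideal.map (algebraMap A A') I)).comp
        (algebraMap A A')) ∧
      RingHom.ker ((Ideal.Quotient.mk (Ideal.map (algebraMap A A') I)).comp
        (algebraMap A A')) = I ∧
      Algebra.Etale B C ∧ Module.Finite A' C ∧
      Function.Surjective ((Ideal.Quotient.mk (Ideal.map (algebraMap A C) I)).comp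
        (algebraMap B C)) ∧
      RingHom.ker ((Ideal.Quotient.mk (Ideal.map (algebraMap A C) I)).comp (algebraMap B C)) =
        Ideal.map (algebraMap A B) I := by
  obtain ⟨s, hs⟩ := (Algebra.FiniteType.out : (⊤ : Subalgebra A B).FG)
  obtain ⟨k, g, hid, hg1, hint⟩ := exists_nbhd_data A I B hfin s
  exact assembly A I B (Rg A I k) (Rg.isNbhd A I k) g hid hg1 s hs hint

end Groth.Agent.Helper26.PH.Desc
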