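import Mathlib

set_option autoImplicit false
universe u
open CategoryTheory AlgebraicGeometry Limits

namespace Groth.Agent.Lib.Helper26.NerComp

section General

variable {C : Type*} [Category C] [HasPullbacks C] {T₀ T : C} (ι : T₀ ⟶ T)

/-- reformulation of bijectivity of restriction. -/
def NMP (W Z : Over T) : Prop :=
  (∀ g g' : Z ⟶ W, pullback.fst Z.hom ι ≫ g.left = pullback.fst Z.hom ι ≫ g'.left → g = g') ∧
  (∀ c : pullback Z.hom ι ⟶ W.left, c ≫ W.hom = pullback.fst Z.hom ι ≫ Z.hom →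
    ∃ g : Z ⟶ W, pullback.fst Z.hom ι ≫ g.left = c)

theorem map_left_fst {W Z : Over T} (g : Z ⟶ W) :
    ((Over.pullback ι).map g).left ≫ pullback.fst W.hom ι = pullback.fst Z.hom ι ≫ g.left := by
  exact pullback.lift_fst _ _ _

theorem map_left_snd {W Z : Over T} (g : Z ⟶ W) :
    ((Over.pullback ι).map g).left ≫ pullback.snd W.hom ι = pullback.snd Z.hom ι := by
  exact pullback.lift_snd _ _ _

theorem bijective_iff (W Z : Over T) :
    Function.Bijective (fun g : Z ⟶ W => (Over.pullback ι).map g) ↔ NMP ι W Z := by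
  constructor
  · rintro ⟨hinj, hsurj⟩
    refine ⟨fun g g' h => hinj ?_, fun c hc => ?_⟩
    · apply Over.OverMorphism.ext
      apply pullback.hom_ext
      · exact (map_left_fst ι g).trans (h.trans (map_left_fst ι g').symm)
      · exact (map_left_snd ι g).trans (map_left_snd ι g').symm
    · let v : (Over.pullback ι).obj Z ⟶ (Over.pullback ι).obj W :=
        Over.homMk (pullback.lift c (pullback.snd _ _) (by rw [hc, pullback.condition]))
          (pullback.lift_snd _ _ _)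
      obtain ⟨g, hg⟩ := hsurj v
      refine ⟨g, ?_⟩
      have h1 : ((Over.pullback ι).map g).left ≫ pullback.fst W.hom ι =
          v.left ≫ pullback.fst W.hom ι := by
        have : (Over.pullback ι).map g = v := hg
        rw [this]
      rw [map_left_fst] at h1
      rw [h1]
      exact pullback.lift_fst _ _ _
  · rintro ⟨hinj, hsurj⟩
    refine ⟨fun g g' h => hinj g g' ?_, fun v => ?_⟩
    · have h0 : (Over.pullback ι).map g = (Over.pullback ι).map g' := h
      rw [← map_left_fst, ← map_left_fst, h0]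
    · have hv : v.left ≫ pullback.snd W.hom ι = pullback.snd Z.hom ι := Over.w v
      obtain ⟨g, hg⟩ := hsurj (v.left ≫ pullback.fst _ _) (by
        rw [Category.assoc, pullback.condition, ← Category.assoc, hv, pullback.condition])
      refine ⟨g, ?_⟩
      apply Over.OverMorphism.ext
      apply pullback.hom_ext
      · exact (map_left_fst ι g).trans hg
      · exact (map_left_snd ι g).trans hv.symm

end General

section Sch

variable {T S N : Scheme.{u}} (T₀ : T.Opens) (f : S ⟶ T) (g : N ⟶ S)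

theorem smooth_of_comp_etale [Etale f] {Z : Scheme.{u}} (s : Z ⟶ S) (hs : Smooth (s ≫ f)) :
    Smooth s := by
  have : MorphismProperty.IsMultiplicative @Smooth :=
    { id_mem := fun X => (inferInstance : Smooth (𝟙 X)) }
  have : MorphismProperty.HasOfPostcompProperty @Smooth @Etale := by
    apply MorphismProperty.hasOfPostcompProperty_iff_le_diagonal.mpr
    intro X Y h hh
    have : Etale h := hh
    show Smooth (pullback.diagonal h)
    infer_instance
  exact MorphismProperty.of_postcomp (W := @Smooth) (W' := @Etale) s f ‹_› hs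

theorem exists_theta {Z : Scheme.{u}} (z : Z ⟶ T) (s : Z ⟶ S) (hs : s ≫ f = z) :
    ∃ (θ : pullback s (f ⁻¹ᵁ T₀).ι ⟶ pullback z T₀.ι)
      (θ' : pullback z T₀.ι ⟶ pullback s (f ⁻¹ᵁ T₀).ι),
      θ ≫ pullback.fst z T₀.ι = pullback.fst s (f ⁻¹ᵁ T₀).ι ∧
      θ' ≫ pullback.fst s (f ⁻¹ᵁ T₀).ι = pullback.fst z T₀.ι ∧ θ' ≫ θ = 𝟙 _ := by
  subst hs
  let θ : pullback s (f ⁻¹ᵁ T₀).ι ⟶ pullback (s ≫ f) T₀.ι :=
    pullback.lift (pullback.fst s _) (pullback.snd s _ ≫ (f ∣_ T₀)) (by
      rw [Category.assoc, morphismRestrict_ι, ← Category.assoc, pullback.condition,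
        Category.assoc])
  let σ : pullback (s ≫ f) T₀.ι ⟶ (f ⁻¹ᵁ T₀).toScheme :=
    (isPullback_morphismRestrict f T₀).lift (pullback.snd (s ≫ f) T₀.ι)
      (pullback.fst (s ≫ f) T₀.ι ≫ s) (by rw [Category.assoc, pullback.condition])
  have hσ : σ ≫ (f ⁻¹ᵁ T₀).ι = pullback.fst (s ≫ f) T₀.ι ≫ s :=
    (isPullback_morphismRestrict f T₀).lift_snd _ _ _
  let θ' : pullback (s ≫ f) T₀.ι ⟶ pullback s (f ⁻¹ᵁ T₀).ι :=
    pullback.lift (pullback.fst (s ≫ f) T₀.ι) σ hσ.symm
  have h1 : θ ≫ pullback.fst (s ≫ f) T₀.ι = pullback.fst s (f ⁻¹ᵁ T₀).ι :=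
    pullback.lift_fst _ _ _
  have h2 : θ' ≫ pullback.fst s (f ⁻¹ᵁ T₀).ι = pullback.fst (s ≫ f) T₀.ι :=
    pullback.lift_fst _ _ _
  refine ⟨θ, θ', h1, h2, ?_⟩
  rw [← cancel_mono (pullback.fst (s ≫ f) T₀.ι), Category.assoc, h1, h2, Category.id_comp]

theorem core [Etale f]
    (hS : ∀ Z : Over T, Smooth Z.hom → NMP T₀.ι (Over.mk f) Z)
    (hN : ∀ Z : Over S, Smooth Z.hom → NMP (f ⁻¹ᵁ T₀).ι (Over.mk g) Z)
    (Z : Over T) (hZ : Smooth Z.hom) : NMP T₀.ι (Over.mk (g ≫ f)) Z := by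
  constructor
  · intro a b hab
    have ha : a.left ≫ g ≫ f = Z.hom := Over.w a
    have hb : b.left ≫ g ≫ f = Z.hom := Over.w b
    let aS : Z ⟶ Over.mk f := Over.homMk (a.left ≫ g) (by simpa using ha)
    let bS : Z ⟶ Over.mk f := Over.homMk (b.left ≫ g) (by simpa using hb)
    have hSab : aS = bS := (hS Z hZ).1 aS bS (by
      show pullback.fst Z.hom T₀.ι ≫ a.left ≫ g = pullback.fst Z.hom T₀.ι ≫ b.left ≫ g
      rw [← Category.assoc, hab, Category.assoc])
    have hs : a.left ≫ g = b.left ≫ g := congrArg (fun v => v.left) hSab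
    have hsm : Smooth (a.left ≫ g) := smooth_of_comp_etale f _ (by
      rw [Category.assoc, ha]; exact hZ)
    obtain ⟨θ, θ', h1, h2, h3⟩ := exists_theta T₀ f Z.hom (a.left ≫ g) (by rw [Category.assoc, ha])
    let ZS : Over S := Over.mk (a.left ≫ g)
    let a' : ZS ⟶ Over.mk g := Over.homMk a.left rfl
    let b' : ZS ⟶ Over.mk g := Over.homMk b.left hs.symm
    have hab' : a' = b' := (hN ZS hsm).1 a' b' (by
      show pullback.fst (a.left ≫ g) (f ⁻¹ᵁ T₀).ι ≫ a.left =
        pullback.fst (a.left ≫ g) (f ⁻¹ᵁ T₀).ι ≫ b.left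
      rw [← h1, Category.assoc, Category.assoc, hab])
    apply Over.OverMorphism.ext
    exact congrArg (fun v => v.left) hab'
  · intro c hc
    have hc' : c ≫ g ≫ f = pullback.fst Z.hom T₀.ι ≫ Z.hom := hc
    obtain ⟨s', hs'⟩ := (hS Z hZ).2 (c ≫ g) (by rw [Category.assoc]; exact hc')
    have hs'w : s'.left ≫ f = Z.hom := Over.w s'
    have hsm : Smooth s'.left := smooth_of_comp_etale f _ (by rw [hs'w]; exact hZ)
    obtain ⟨θ, θ', h1, h2, h3⟩ := exists_theta T₀ f Z.hom s'.left hs'w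
    let ZS : Over S := Over.mk s'.left
    obtain ⟨a', ha'⟩ := (hN ZS hsm).2 (θ ≫ c) (by
      show (θ ≫ c) ≫ g = pullback.fst s'.left (f ⁻¹ᵁ T₀).ι ≫ s'.left
      rw [Category.assoc, ← hs', ← Category.assoc, h1])
    have ha'w : a'.left ≫ g = s'.left := Over.w a'
    refine ⟨Over.homMk a'.left (by
      show a'.left ≫ g ≫ f = Z.hom
      rw [← Category.assoc, ha'w, hs'w]), ?_⟩
    show pullback.fst Z.hom T₀.ι ≫ a'.left = c
    have ha'' : pullback.fst s'.left (f ⁻¹ᵁ T₀).ι ≫ a'.left = θ ≫ c := ha'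
    rw [← h2, Category.assoc, ha'', ← Category.assoc, h3, Category.id_comp]

theorem main [Etale f]
    (hS : ∀ Z : Over T, Smooth Z.hom →
      Function.Bijective (fun g : Z ⟶ Over.mk f => (Over.pullback T₀.ι).map g))
    (hN : ∀ Z : Over S, Smooth Z.hom →
      Function.Bijective (fun g' : Z ⟶ Over.mk g => (Over.pullback (f ⁻¹ᵁ T₀).ι).map g')) :
    ∀ Z : Over T, Smooth Z.hom →
      Function.Bijective (fun g' : Z ⟶ Over.mk (g ≫ f) => (Over.pullback T₀.ι).map g') := by
  intro Z hZ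
  rw [bijective_iff]
  exact core T₀ f g (fun Z hZ => (bijective_iff _ _ _).mp (hS Z hZ))
    (fun Z hZ => (bijective_iff _ _ _).mp (hN Z hZ)) Z hZ

end Sch

end Groth.Agent.Lib.Helper26.NerComp
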