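import Mathlib

set_option autoImplicit false

open CategoryTheory CategoryTheory.Limits AlgebraicGeometry

namespace Groth.Agent.Helper26.NeronBC

universe u

theorem main {S S' : Scheme.{u}} (g : S' ⟶ S) [Smooth g] (U : S.Opens) (N : Over S)
    (hN : ∀ Y : Over S, Smooth Y.hom →
      Function.Injective (fun f : Y ⟶ N => (Over.pullback U.ι).map f))
    (Y' : Over S') [Smooth Y'.hom] :
    Function.Injective
      (fun f : Y' ⟶ (Over.pullback g).obj N => (Over.pullback (g ⁻¹ᵁ U).ι).map f) := by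
  intro f₁ f₂ h
  have h1 : pullback.fst Y'.hom (g ⁻¹ᵁ U).ι ≫ f₁.left =
      pullback.fst Y'.hom (g ⁻¹ᵁ U).ι ≫ f₂.left := by
    have := congrArg (fun φ => φ.left ≫ pullback.fst _ _) h
    simp only [Over.pullback_map_left] at this
    rw [pullback.lift_fst, pullback.lift_fst] at this
    exact this
  let Y : Over S := Over.mk (Y'.hom ≫ g)
  have hYs : Smooth Y.hom := inferInstanceAs (Smooth (Y'.hom ≫ g))
  have hw : ∀ f : Y' ⟶ (Over.pullback g).obj N,
      (f.left ≫ pullback.fst N.hom g) ≫ N.hom = Y.hom := by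
    intro f
    have := Over.w f
    simp only [Over.pullback_obj_hom] at this
    rw [Category.assoc, pullback.condition, ← Category.assoc, this]
    rfl
  let F : (Y' ⟶ (Over.pullback g).obj N) → (Y ⟶ N) := fun f =>
    Over.homMk (f.left ≫ pullback.fst N.hom g) (hw f)
  -- the comparison map between the two restrictions of `Y'`
  have hrange : Set.range (pullback.fst (Y'.hom ≫ g) U.ι ≫ Y'.hom).base ⊆
      Set.range (g ⁻¹ᵁ U).ι.base := by
    rintro _ ⟨z, rfl⟩
    rw [Scheme.Opens.range_ι]
    change g.base ((pullback.fst (Y'.hom ≫ g) U.ι ≫ Y'.hom).base z) ∈ U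
    rw [← Scheme.Hom.comp_apply, Category.assoc, pullback.condition, Scheme.Hom.comp_apply]
    exact (pullback.snd (Y'.hom ≫ g) U.ι z).2
  let q : pullback (Y'.hom ≫ g) U.ι ⟶ pullback Y'.hom (g ⁻¹ᵁ U).ι :=
    pullback.lift (pullback.fst _ _)
      (IsOpenImmersion.lift (g ⁻¹ᵁ U).ι (pullback.fst (Y'.hom ≫ g) U.ι ≫ Y'.hom) hrange)
      (by rw [IsOpenImmersion.lift_fac])
  have hq : q ≫ pullback.fst _ _ = pullback.fst _ _ := pullback.lift_fst _ _ _
  have h2 : (Over.pullback U.ι).map (F f₁) = (Over.pullback U.ι).map (F f₂) := by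
    ext1
    apply pullback.hom_ext
    · simp only [Over.pullback_map_left, pullback.lift_fst]
      change pullback.fst (Y'.hom ≫ g) U.ι ≫ (f₁.left ≫ pullback.fst N.hom g) =
        pullback.fst (Y'.hom ≫ g) U.ι ≫ (f₂.left ≫ pullback.fst N.hom g)
      rw [← hq, Category.assoc, Category.assoc, ← Category.assoc _ f₁.left, h1, Category.assoc]
    · simp only [Over.pullback_map_left, pullback.lift_snd]
  have h3 := hN Y hYs h2
  ext1
  apply pullback.hom_ext
  · exact congrArg (fun φ => φ.left) h3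
  · exact (Over.w f₁).trans (Over.w f₂).symm

end Groth.Agent.Helper26.NeronBC
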