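import Mathlib

set_option autoImplicit false

open CategoryTheory CategoryTheory.Limits AlgebraicGeometry Topology

namespace Groth.Agent.Helper26.NisComp

universe u

/-- Constructible subsets of the prime spectrum are quasi-compact. -/
theorem isCompact_of_isConstructible_spec {A : Type u} [CommRing A] {s : Set (PrimeSpectrum A)}
    (hs : IsConstructible s) : IsCompact s := by
  obtain ⟨B, _, f, rfl⟩ := PrimeSpectrum.exists_range_eq_of_isConstructible hs
  exact isCompact_range (PrimeSpectrum.continuous_comap f)

/-- Constructible subsets of a quasi-compact scheme are quasi-compact. -/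
theorem isCompact_of_isConstructible {X : Scheme.{u}} [CompactSpace X] {s : Set X}
    (hs : IsConstructible s) : IsCompact s := by
  classical
  -- choose affine neighbourhoods
  have hex : ∀ x : X, ∃ U : X.Opens, IsAffineOpen U ∧ x ∈ U := by
    intro x
    obtain ⟨_, ⟨U, hU, rfl⟩, hxU, -⟩ :=
      X.isBasis_affineOpens.exists_subset_of_mem_open (Set.mem_univ x) isOpen_univ
    exact ⟨U, hU, hxU⟩
  choose U hU hxU using hex
  obtain ⟨t, ht⟩ := isCompact_univ.elim_finite_subcover (fun x => (U x : Set X))
    (fun x => (U x).isOpen) (fun x _ => Set.mem_iUnion.mpr ⟨x, hxU x⟩)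
  have hpiece : ∀ x : X, IsCompact (s ∩ (U x : Set X)) := by
    intro x
    let j := (hU x).fromSpec
    have h1 : IsConstructible (j.base ⁻¹' s) := j.isConstructible_preimage hs
    have h2 : IsCompact (j.base ⁻¹' s) := isCompact_of_isConstructible_spec h1
    have h3 : j.base '' (j.base ⁻¹' s) = s ∩ (U x : Set X) := by
      rw [Set.image_preimage_eq_inter_range, (hU x).range_fromSpec]
    rw [← h3]
    exact h2.image j.continuous
  have hs' : s = ⋃ x ∈ t, s ∩ (U x : Set X) := by
    ext y
    simp only [Set.mem_iUnion, Set.mem_inter_iff, exists_and_left, exists_prop]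
    constructor
    · intro hy
      have := ht (Set.mem_univ y)
      simp only [Set.mem_iUnion, exists_prop] at this
      exact ⟨hy, this⟩
    · exact fun h => h.1
  rw [hs']
  exact t.isCompact_biUnion fun x _ => hpiece x

/-- In a qcqs scheme the complement of a closed constructible set is retrocompact. -/
theorem isRetrocompact_compl {X : Scheme.{u}} [CompactSpace X] [QuasiSeparatedSpace X]
    {Z : Set X} (hZc : IsClosed Z) (hZ : IsConstructible Z) : IsRetrocompact Zᶜ :=
  (isCompact_of_isConstructible hZ.compl).isRetrocompact hZc.isOpen_compl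

/-- Image of a constructible set under an embedding whose range is `Z' \ Z`. -/
theorem isConstructible_image {X T : Type*} [TopologicalSpace X] [TopologicalSpace T]
    [CompactSpace X]
    (f : T → X) (hf : IsEmbedding f) (Z Z' : Set X) (hZ : IsClosed Z) (hZ' : IsClosed Z')
    (hZr : IsRetrocompact Zᶜ) (hZ'r : IsRetrocompact Z'ᶜ) (hrange : Set.range f = Z' \ Z)
    (C : Set T) (hC : IsConstructible C) : IsConstructible (f '' C) := by
  let O : Set X := Zᶜ
  have hO : IsOpen O := hZ.isOpen_compl
  have hι : IsOpenEmbedding (Subtype.val : O → X) := hO.isOpenEmbedding_subtypeVal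
  have hmem : ∀ t, f t ∈ O := by
    intro t
    have : f t ∈ Z' \ Z := hrange ▸ Set.mem_range_self t
    exact this.2
  let f' : T → O := fun t => ⟨f t, hmem t⟩
  have hf'emb : IsEmbedding f' := hf.codRestrict O hmem
  have hf'range : Set.range f' = Subtype.val ⁻¹' Z' := by
    ext ⟨y, hy⟩
    simp only [Set.mem_range, Set.mem_preimage, f', Subtype.mk.injEq]
    constructor
    · rintro ⟨t, rfl⟩
      have : f t ∈ Z' \ Z := hrange ▸ Set.mem_range_self t
      exact this.1
    · intro hy'
      have : y ∈ Set.range f := by
        rw [hrange]; exact ⟨hy', hy⟩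
      exact this
  have hf'cl : IsClosedEmbedding f' :=
    ⟨hf'emb, by rw [hf'range]; exact hZ'.preimage continuous_subtype_val⟩
  have hcomp : IsRetrocompact (Set.range f')ᶜ := by
    rw [hf'range, ← Set.preimage_compl]
    exact hZ'r.preimage_of_isOpenEmbedding hι
  have h1 : IsConstructible (f' '' C) := hC.image_of_isClosedEmbedding hf'cl hcomp
  have hιr : IsRetrocompact (Set.range (Subtype.val : O → X)) := by
    rw [Subtype.range_coe]; exact hZr
  have h2 := h1.image_of_isOpenEmbedding hι hιr
  have h3 : (Subtype.val : O → X) '' (f' '' C) = f '' C := by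
    rw [← Set.image_comp]; rfl
  rwa [h3] at h2

/-- Closedness of `Z ∪ f '' C`. -/
theorem isClosed_union_image {X T : Type*} [TopologicalSpace X] [TopologicalSpace T]
    (f : T → X) (hf : IsEmbedding f) (Z Z' : Set X) (hZ : IsClosed Z) (hZ' : IsClosed Z')
    (hrange : Set.range f = Z' \ Z)
    (C : Set T) (hC : IsClosed C) : IsClosed (Z ∪ f '' C) := by
  obtain ⟨F, hF, rfl⟩ := hf.isInducing.isClosed_iff.mp hC
  have : Z ∪ f '' (f ⁻¹' F) = Z ∪ (F ∩ Z') := by
    rw [Set.image_preimage_eq_inter_range, hrange]
    ext y
    simp only [Set.mem_union, Set.mem_inter_iff, Set.mem_sdiff]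
    tauto
  rw [this]
  exact hZ.union (hF.inter hZ')

end Groth.Agent.Helper26.NisComp
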