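import Mathlib

set_option autoImplicit false

namespace Groth.Agent.Helper26.NisComp

section Flag

variable {Y : Type*} {m : ℕ} (Z : Fin (m + 1) → Set Y)

theorem mem_flag_iff (h0 : Z 0 = ∅) (hmono : Monotone Z) (j : Fin (m + 1)) (y : Y) :
    y ∈ Z j ↔ ∃ k : Fin m, k.val < j.val ∧ y ∈ Z k.succ \ Z k.castSucc := by
  constructor
  · induction j using Fin.induction with
    | zero =>
      intro hy
      rw [h0] at hy
      exact absurd hy (Set.notMem_empty y)
    | succ i ih =>
      intro hy
      by_cases hyi : y ∈ Z i.castSucc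
      · obtain ⟨k, hk, hyk⟩ := ih hyi
        refine ⟨k, ?_, hyk⟩
        simp only [Fin.val_castSucc] at hk
        simp only [Fin.val_succ]
        omega
      · exact ⟨i, by simp, hy, hyi⟩
  · rintro ⟨k, hk, hyk⟩
    have : k.succ ≤ j := by
      rw [Fin.le_def]
      simp only [Fin.val_succ]
      omega
    exact hmono this hyk.1

theorem exists_stratum (h0 : Z 0 = ∅) (hm : Z (Fin.last m) = Set.univ) (hmono : Monotone Z)
    (y : Y) : ∃ k : Fin m, y ∈ Z k.succ \ Z k.castSucc := by
  have : y ∈ Z (Fin.last m) := by rw [hm]; trivial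
  obtain ⟨k, -, hk⟩ := (mem_flag_iff Z h0 hmono _ y).mp this
  exact ⟨k, hk⟩

theorem stratum_unique (hmono : Monotone Z) (y : Y) (k k' : Fin m)
    (hk : y ∈ Z k.succ \ Z k.castSucc) (hk' : y ∈ Z k'.succ \ Z k'.castSucc) : k = k' := by
  by_contra hne
  rcases lt_or_gt_of_ne hne with h | h
  · have : k.succ ≤ k'.castSucc := by
      rw [Fin.le_def]
      simp only [Fin.val_succ, Fin.val_castSucc]
      exact h
    exact hk'.2 (hmono this hk.1)
  · have : k'.succ ≤ k.castSucc := by
      rw [Fin.le_def]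
      simp only [Fin.val_succ, Fin.val_castSucc]
      exact h
    exact hk.2 (hmono this hk'.1)

end Flag

/-- lexicographic comparison -/
theorem lex_lt_iff (m b a b₀ a₀ : ℕ) (ha : a < m) (ha₀ : a₀ < m) :
    b * m + a < b₀ * m + a₀ ↔ b < b₀ ∨ (b = b₀ ∧ a < a₀) := by
  constructor
  · intro h
    rcases lt_trichotomy b b₀ with hb | hb | hb
    · exact Or.inl hb
    · subst hb
      right
      exact ⟨rfl, by omega⟩
    · exfalso
      have : (b₀ + 1) * m ≤ b * m := Nat.mul_le_mul_right m hb
      rw [Nat.add_mul, Nat.one_mul] at this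
      omega
  · rintro (hb | ⟨rfl, ha'⟩)
    · have : (b + 1) * m ≤ b₀ * m := Nat.mul_le_mul_right m hb
      rw [Nat.add_mul, Nat.one_mul] at this
      omega
    · omega

end Groth.Agent.Helper26.NisComp
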