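import Mathlib
import Groth.Prelude.Def_W4c5algebraiztannakaNis
import Groth.Agent.Lib.Helper26.NisComp1
import Groth.Agent.Lib.Helper26.NisComp2

set_option autoImplicit false

open CategoryTheory CategoryTheory.Limits AlgebraicGeometry Topology

namespace Groth.Agent.Helper26.NisComp

universe u

theorem decomp_unique (m b a b' a' : ℕ) (ha : a < m) (ha' : a' < m)
    (h : b * m + a = b' * m + a') : b = b' ∧ a = a' := by
  have h1 : ¬ (b * m + a < b' * m + a') := by omega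
  have h2 : ¬ (b' * m + a' < b * m + a) := by omega
  rw [lex_lt_iff m b a b' a' ha ha'] at h1
  rw [lex_lt_iff m b' a' b a ha' ha] at h2
  push Not at h1 h2
  have hb : b = b' := by
    rcases lt_trichotomy b b' with hlt | heq | hgt
    · exact absurd hlt (not_lt.mpr h1.1)
    · exact heq
    · exact absurd hgt (not_lt.mpr h2.1)
  exact ⟨hb, by subst hb; omega⟩

open W4c5algebraiztannaka in
theorem main {Y₁ Y₂ Y₃ : Scheme.{u}} (g₁ : Y₁ ⟶ Y₂) (g₂ : Y₂ ⟶ Y₃)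
    [CompactSpace Y₂] [QuasiSeparatedSpace Y₂]
    [CompactSpace Y₃] [QuasiSeparatedSpace Y₃] (m₁ m₂ : ℕ)
    (h₁ : IsNisCoverLen g₁ m₁) (h₂ : IsNisCoverLen g₂ m₂) :
    IsNisCoverLen (g₁ ≫ g₂) (m₁ * m₂) := by
  classical
  obtain ⟨het₁, Z₁, hZ₁0, hZ₁m, hmono₁, hcl₁, hsec₁⟩ := h₁
  obtain ⟨het₂, Z₂, hZ₂0, hZ₂m, hmono₂, hcl₂, hsec₂⟩ := h₂
  refine ⟨inferInstance, ?_⟩
  choose T₂ e₂ s₂ himm₂ hrange₂ hs₂ using hsec₂
  choose T₁ e₁ s₁ himm₁ hrange₁ hs₁ using hsec₁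
  have hrange₂' : ∀ b, Set.range (e₂ b).base = Z₂ b.succ \ Z₂ b.castSucc := hrange₂
  have hrange₁' : ∀ a, Set.range (e₁ a).base = Z₁ a.succ \ Z₁ a.castSucc := hrange₁
  have hemb₂ : ∀ b, IsEmbedding (e₂ b).base := fun b =>
    have := himm₂ b
    (e₂ b).isEmbedding
  let D : Y₃ → ℕ → Prop := fun y N => ∃ (b : Fin m₂) (t : T₂ b) (a : Fin m₁),
    (e₂ b).base t = y ∧ (s₂ b).base t ∈ Z₁ a.succ \ Z₁ a.castSucc ∧ N = b.val * m₁ + a.val
  have hDex : ∀ y, ∃ N, D y N ∧ N < m₁ * m₂ := by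
    intro y
    obtain ⟨b, hb⟩ := exists_stratum Z₂ hZ₂0 hZ₂m hmono₂ y
    rw [← hrange₂' b] at hb
    obtain ⟨t, rfl⟩ := hb
    obtain ⟨a, ha⟩ := exists_stratum Z₁ hZ₁0 hZ₁m hmono₁ ((s₂ b).base t)
    refine ⟨b.val * m₁ + a.val, ⟨b, t, a, rfl, ha, rfl⟩, ?_⟩
    have h1 : (b.val + 1) * m₁ ≤ m₂ * m₁ := Nat.mul_le_mul_right m₁ b.isLt
    have h2 := a.isLt
    rw [Nat.add_mul, Nat.one_mul] at h1
    rw [Nat.mul_comm m₁ m₂]
    omega
  have hDuniq : ∀ y N N', D y N → D y N' → N = N' := by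
    rintro y N N' ⟨b, t, a, rfl, ha, rfl⟩ ⟨b', t', a', ht', ha', rfl⟩
    have hb : b' = b := by
      apply stratum_unique Z₂ hmono₂ ((e₂ b).base t)
      · rw [← ht', ← hrange₂' b']; exact ⟨t', rfl⟩
      · rw [← hrange₂' b]; exact ⟨t, rfl⟩
    subst hb
    have htt : t' = t := (hemb₂ b').injective ht'
    subst htt
    have haa : a = a' := stratum_unique Z₁ hmono₁ _ a a' ha ha'
    subst haa
    rfl
  refine ⟨fun n => {y | ∃ N, D y N ∧ N < n.val}, ?_, ?_, ?_, ?_, ?_⟩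
  · ext y
    simp
  · ext y
    simp only [Fin.val_last, Set.mem_ofPred_eq, Set.mem_univ, iff_true]
    exact hDex y
  · intro n n' h y ⟨N, hD, hN⟩
    exact ⟨N, hD, lt_of_lt_of_le hN h⟩
  · intro n
    beta_reduce
    obtain ⟨v, hv⟩ : ∃ v, v = n.val := ⟨n.val, rfl⟩
    rw [← hv]
    clear hv n
    by_cases hm₁ : m₁ = 0
    · subst hm₁
      have : {y | ∃ N, D y N ∧ N < v} = (∅ : Set Y₃) := by
        ext y
        simp only [Set.mem_ofPred_eq, Set.mem_empty_iff_false, iff_false]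
        rintro ⟨N, ⟨b, t, a, -⟩, -⟩
        exact a.elim0
      rw [this]
      exact ⟨isClosed_empty, IsConstructible.empty⟩
    have hm₁pos : 0 < m₁ := Nat.pos_of_ne_zero hm₁
    by_cases hb₀ : v / m₁ < m₂
    swap
    · have : {y | ∃ N, D y N ∧ N < v} = (Set.univ : Set Y₃) := by
        ext y
        simp only [Set.mem_ofPred_eq, Set.mem_univ, iff_true]
        obtain ⟨N, hD, hN⟩ := hDex y
        refine ⟨N, hD, lt_of_lt_of_le hN ?_⟩
        push Not at hb₀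
        calc m₁ * m₂ ≤ m₁ * (v / m₁) := Nat.mul_le_mul_left m₁ hb₀
          _ ≤ v := Nat.mul_div_le v m₁
      rw [this]
      exact ⟨isClosed_univ, IsConstructible.univ⟩
    let B₀ : Fin m₂ := ⟨v / m₁, hb₀⟩
    let A₀ : Fin m₁ := ⟨v % m₁, Nat.mod_lt _ hm₁pos⟩
    have hn : v = B₀.val * m₁ + A₀.val := by
      change v = (v / m₁) * m₁ + v % m₁
      rw [Nat.mul_comm (v / m₁) m₁]
      exact (Nat.div_add_mod v m₁).symm
    have hset : {y | ∃ N, D y N ∧ N < v} =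
        Z₂ B₀.castSucc ∪ (e₂ B₀).base '' ((s₂ B₀).base ⁻¹' Z₁ A₀.castSucc) := by
      ext y
      simp only [Set.mem_ofPred_eq, Set.mem_union, Set.mem_image, Set.mem_preimage]
      constructor
      · rintro ⟨N, ⟨b, t, a, rfl, ha, rfl⟩, hN⟩
        rw [hn, lex_lt_iff m₁ _ _ _ _ a.isLt A₀.isLt] at hN
        rcases hN with hb | ⟨hb, ha'⟩
        · left
          rw [mem_flag_iff Z₂ hZ₂0 hmono₂]
          refine ⟨b, by simpa using hb, ?_⟩
          rw [← hrange₂' b]; exact ⟨t, rfl⟩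
        · right
          have hbb : b = B₀ := Fin.ext hb
          subst hbb
          refine ⟨t, ?_, rfl⟩
          rw [mem_flag_iff Z₁ hZ₁0 hmono₁]
          exact ⟨a, by simpa using ha', ha⟩
      · rintro (hy | ⟨t, ht, rfl⟩)
        · rw [mem_flag_iff Z₂ hZ₂0 hmono₂] at hy
          obtain ⟨b, hb, hyb⟩ := hy
          rw [← hrange₂' b] at hyb
          obtain ⟨t, rfl⟩ := hyb
          obtain ⟨a, ha⟩ := exists_stratum Z₁ hZ₁0 hZ₁m hmono₁ ((s₂ b).base t)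
          refine ⟨_, ⟨b, t, a, rfl, ha, rfl⟩, ?_⟩
          rw [hn, lex_lt_iff m₁ _ _ _ _ a.isLt A₀.isLt]
          left
          simpa using hb
        · rw [mem_flag_iff Z₁ hZ₁0 hmono₁] at ht
          obtain ⟨a, ha, hta⟩ := ht
          refine ⟨_, ⟨B₀, t, a, rfl, hta, rfl⟩, ?_⟩
          rw [hn, lex_lt_iff m₁ _ _ _ _ a.isLt A₀.isLt]
          right
          exact ⟨rfl, by simpa using ha⟩
    rw [hset]
    constructor
    · exact isClosed_union_image (e₂ B₀).base (hemb₂ B₀) _ (Z₂ B₀.succ) (hcl₂ _).1 (hcl₂ _).1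
        (hrange₂' B₀) _ ((hcl₁ _).1.preimage (s₂ B₀).continuous)
    · refine (hcl₂ _).2.union ?_
      exact isConstructible_image (e₂ B₀).base (hemb₂ B₀) (Z₂ B₀.castSucc) (Z₂ B₀.succ)
        (hcl₂ _).1 (hcl₂ _).1 (isRetrocompact_compl (hcl₂ _).1 (hcl₂ _).2)
        (isRetrocompact_compl (hcl₂ _).1 (hcl₂ _).2) (hrange₂' B₀) _
        ((s₂ B₀).isConstructible_preimage (hcl₁ _).2)
  · intro n
    beta_reduce
    simp only [Fin.val_succ, Fin.val_castSucc]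
    obtain ⟨v, hv, hvlt⟩ : ∃ v, v = n.val ∧ v < m₁ * m₂ := ⟨n.val, rfl, n.isLt⟩
    rw [← hv]
    clear hv n
    have hm₁pos : 0 < m₁ := by
      rcases Nat.eq_zero_or_pos m₁ with h | h
      · exfalso
        rw [h, Nat.zero_mul] at hvlt
        exact Nat.not_lt_zero _ hvlt
      · exact h
    have hb₀ : v / m₁ < m₂ := by
      rw [Nat.div_lt_iff_lt_mul hm₁pos, Nat.mul_comm]
      exact hvlt
    let B₀ : Fin m₂ := ⟨v / m₁, hb₀⟩
    let A₀ : Fin m₁ := ⟨v % m₁, Nat.mod_lt _ hm₁pos⟩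
    have hn : v = B₀.val * m₁ + A₀.val := by
      change v = (v / m₁) * m₁ + v % m₁
      rw [Nat.mul_comm (v / m₁) m₁]
      exact (Nat.div_add_mod v m₁).symm
    have hset : {y | ∃ N, D y N ∧ N < v + 1} \ {y | ∃ N, D y N ∧ N < v} =
        (e₂ B₀).base '' ((s₂ B₀).base ⁻¹' (Z₁ A₀.succ \ Z₁ A₀.castSucc)) := by
      ext y
      simp only [Set.mem_sdiff, Set.mem_ofPred_eq, Set.mem_image,
        Set.mem_preimage]
      constructor
      · rintro ⟨⟨N, hD, hN⟩, hnot⟩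
        have hNn : N = v := by
          by_contra hne
          exact hnot ⟨N, hD, by omega⟩
        subst hNn
        obtain ⟨b, t, a, rfl, ha, hN'⟩ := hD
        rw [hn] at hN'
        obtain ⟨hb, haa⟩ := decomp_unique m₁ _ _ _ _ A₀.isLt a.isLt hN'
        have hbb : b = B₀ := Fin.ext hb.symm
        have haa' : a = A₀ := Fin.ext haa.symm
        subst hbb
        subst haa'
        exact ⟨t, ha, rfl⟩
      · rintro ⟨t, ht, rfl⟩
        have hD : D ((e₂ B₀).base t) v := ⟨B₀, t, A₀, rfl, ht, hn⟩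
        refine ⟨⟨v, hD, Nat.lt_succ_self _⟩, ?_⟩
        rintro ⟨N, hD', hN⟩
        have := hDuniq _ _ _ hD hD'
        omega
    have himm₁A := himm₁ A₀
    have himm₂B := himm₂ B₀
    refine ⟨pullback (s₂ B₀) (e₁ A₀), pullback.fst (s₂ B₀) (e₁ A₀) ≫ e₂ B₀,
      pullback.snd (s₂ B₀) (e₁ A₀) ≫ s₁ A₀, inferInstance, ?_, ?_⟩
    · rw [hset]
      change Set.range (pullback.fst (s₂ B₀) (e₁ A₀) ≫ e₂ B₀).base = _
      rw [Scheme.Hom.comp_base, TopCat.coe_comp, Set.range_comp, Scheme.Pullback.range_fst,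
        hrange₁' A₀]
    · rw [Category.assoc, ← Category.assoc (s₁ A₀), hs₁ A₀, ← Category.assoc,
        ← pullback.condition, Category.assoc, hs₂ B₀]

end Groth.Agent.Helper26.NisComp
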