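import Mathlib
import Groth.Prelude.Def_W4c5algebraiztannakaNis

set_option autoImplicit false

open CategoryTheory CategoryTheory.Limits AlgebraicGeometry

namespace Groth.Agent.Helper26.NisOpen

universe u

/-- Section over a locally closed piece `V ∩ Cᶜ`... given an open `V` and a closed set `C`,
there is an immersion with range `V ∩ C` which factors through `V`. -/
theorem exists_immersion {U : Scheme.{u}} (V : U.Opens) (C : Set U) (hC : IsClosed C) :
    ∃ (T : Scheme.{u}) (g : T ⟶ U) (s : T ⟶ V.toScheme),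
      IsImmersion g ∧ Set.range (fun t : T => g t) = (V : Set U) ∩ C ∧ s ≫ V.ι = g := by
  let I := Scheme.IdealSheafData.vanishingIdeal (X := U) ⟨C, hC⟩
  let c : I.subscheme ⟶ U := I.subschemeι
  have hc : Set.range c.base = C := by
    have := I.range_subschemeι
    rw [this]
    exact Scheme.IdealSheafData.coe_support_vanishingIdeal _
  let T := (c ⁻¹ᵁ V).toScheme
  let g : T ⟶ U := (c ⁻¹ᵁ V).ι ≫ c
  have hrange : Set.range g.base = (V : Set U) ∩ C := by
    rw [Scheme.Hom.comp_base, TopCat.coe_comp, Set.range_comp]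
    have h1 : Set.range (c ⁻¹ᵁ V).ι.base = c.base ⁻¹' (V : Set U) := by
      rw [Scheme.Opens.range_ι]
      rfl
    rw [h1, Set.image_preimage_eq_inter_range, hc]
  have hsub : Set.range g.base ⊆ Set.range V.ι.base := by
    rw [hrange]
    simp
  refine ⟨T, g, IsOpenImmersion.lift V.ι g hsub, inferInstance, hrange, IsOpenImmersion.lift_fac _ _ _⟩

theorem main {U : Scheme.{u}} [CompactSpace U] [QuasiSeparatedSpace U]
    (k : ℕ) (V : Fin k → U.Opens) (hV : ∀ i, IsCompact (V i : Set U)) (hcov : ⨆ i, V i = ⊤) :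
    W4c5algebraiztannaka.IsNisCoverLen
      (Limits.Sigma.desc (fun i => (V i).ι) : (∐ fun i => ((V i : U.Opens) : Scheme.{u})) ⟶ U) k := by
  classical
  have hZL : IsZariskiLocalAtSource @Etale.{u} := HasRingHomProperty.instIsZariskiLocalAtSource
  refine ⟨IsZariskiLocalAtSource.sigmaDesc (P := @Etale) (fun i => inferInstance), ?_⟩
  -- the decreasing chain of opens
  let W : ℕ → Set U := fun j => ⋃ (i : Fin k) (_ : j ≤ i.val), (V i : Set U)
  have hWopen : ∀ j, IsOpen (W j) := fun j =>
    isOpen_iUnion fun i => isOpen_iUnion fun _ => (V i).isOpen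
  have hWcompact : ∀ j, IsCompact (W j) := by
    intro j
    have : W j = ⋃ i ∈ (Finset.univ.filter fun i : Fin k => j ≤ i.val), (V i : Set U) := by
      ext x
      simp [W]
    rw [this]
    exact Finset.isCompact_biUnion _ fun i _ => hV i
  have hW0 : W 0 = Set.univ := by
    have : W 0 = ⋃ i, (V i : Set U) := by
      ext x
      simp [W]
    rw [this]
    have := congrArg (fun O : U.Opens => (O : Set U)) hcov
    simpa using this
  have hWk : W k = ∅ := by
    ext x
    simp only [W, Set.mem_iUnion, Set.mem_empty_iff_false, iff_false, not_exists]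
    intro i hi
    exact absurd i.isLt (not_lt.mpr hi)
  have hWanti : ∀ {a b : ℕ}, a ≤ b → W b ⊆ W a := by
    intro a b hab x hx
    simp only [W, Set.mem_iUnion] at hx ⊢
    obtain ⟨i, hi, hxi⟩ := hx
    exact ⟨i, hab.trans hi, hxi⟩
  have hWsucc : ∀ j : Fin k, W j.val = (V j : Set U) ∪ W (j.val + 1) := by
    intro j
    ext x
    simp only [W, Set.mem_iUnion, Set.mem_union]
    constructor
    · rintro ⟨i, hi, hxi⟩
      rcases eq_or_lt_of_le hi with h | h
      · left
        have : j = i := Fin.ext h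
        rw [this]; exact hxi
      · right
        exact ⟨i, h, hxi⟩
    · rintro (hx | ⟨i, hi, hxi⟩)
      · exact ⟨j, le_refl _, hx⟩
      · exact ⟨i, (Nat.le_succ _).trans hi, hxi⟩
  refine ⟨fun j => (W j.val)ᶜ, ?_, ?_, ?_, ?_, ?_⟩
  · change (W 0)ᶜ = ∅
    rw [hW0, Set.compl_univ]
  · change (W k)ᶜ = Set.univ
    rw [hWk, Set.compl_empty]
  · intro a b hab
    exact Set.compl_subset_compl.mpr (hWanti hab)
  · intro j
    exact ⟨(hWopen _).isClosed_compl, ((hWcompact _).isConstructible (hWopen _)).compl⟩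
  · intro j
    obtain ⟨T, g, s, himm, hrange, hs⟩ :=
      exists_immersion (V j) (W (j.val + 1))ᶜ (hWopen _).isClosed_compl
    refine ⟨T, g, s ≫ Limits.Sigma.ι (fun i => ((V i : U.Opens) : Scheme.{u})) j, himm, ?_, ?_⟩
    · rw [hrange]
      change _ = (W (j.val + 1))ᶜ \ (W j.val)ᶜ
      rw [hWsucc j]
      ext x
      simp only [Set.mem_inter_iff, Set.mem_compl_iff, Set.mem_sdiff, Set.mem_union, not_or,
        not_and, not_not]
      tauto
    · rw [Category.assoc, Limits.Sigma.ι_desc, hs]

end Groth.Agent.Helper26.NisOpen
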