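import Mathlib
import Groth.Prelude
import Groth.Agent.Lib.Lead.EmbPts
import Groth.Agent.Lib.Helper13.QCohAss
import Groth.Agent.Lib.Helper13.WeakAss

set_option autoImplicit false
universe u
open CategoryTheory AlgebraicGeometry Opposite TopologicalSpace IsLocalRing

namespace Groth.Agent.Lib.Helper26.NoEmb

/-- in a space of Krull dimension `≤ 1`, a point with a strict generization is closed. -/
theorem isClosed_singleton_of_dim_le_one {X : Type*} [TopologicalSpace X] [T0Space X]
    (hdim : topologicalKrullDim X ≤ 1) (x y : X) (hyx : y ⤳ x) (hne : x ≠ y) :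
    IsClosed ({x} : Set X) := by
  by_contra hcl
  -- some z ≠ x in the closure of x
  have h1 : ∃ z, x ⤳ z ∧ z ≠ x := by
    by_contra hno
    push Not at hno
    apply hcl
    have : closure ({x} : Set X) = {x} := by
      ext z
      constructor
      · intro hz
        have : x ⤳ z := specializes_iff_mem_closure.mpr hz
        exact hno z this
      · rintro rfl
        exact subset_closure rfl
    rw [← this]
    exact isClosed_closure
  obtain ⟨z, hxz, hzx⟩ := h1
  let Iz : IrreducibleCloseds X := ⟨closure {z}, isIrreducible_singleton.closure, isClosed_closure⟩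
  let Ix : IrreducibleCloseds X := ⟨closure {x}, isIrreducible_singleton.closure, isClosed_closure⟩
  let Iy : IrreducibleCloseds X := ⟨closure {y}, isIrreducible_singleton.closure, isClosed_closure⟩
  have hlt : ∀ {a b : X}, a ⤳ b → b ≠ a →
      (⟨closure {b}, isIrreducible_singleton.closure, isClosed_closure⟩ : IrreducibleCloseds X) <
      ⟨closure {a}, isIrreducible_singleton.closure, isClosed_closure⟩ := by
    intro a b hab hba
    rw [lt_iff_le_and_ne]
    refine ⟨?_, ?_⟩
    · show closure {b} ≤ closure {a}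
      exact closure_minimal (Set.singleton_subset_iff.mpr (specializes_iff_mem_closure.mp hab))
        isClosed_closure
    · intro heq
      have h2 : closure ({b} : Set X) = closure {a} := congrArg (fun I => I.carrier) heq
      have h3 : b ⤳ a := by
        rw [specializes_iff_mem_closure, h2]
        exact subset_closure rfl
      exact hba ((hab.antisymm h3).eq).symm
  have hzy : (⟨closure {z}, isIrreducible_singleton.closure, isClosed_closure⟩ :
      IrreducibleCloseds X) < ⟨closure {x}, isIrreducible_singleton.closure, isClosed_closure⟩ :=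
    hlt hxz hzx
  have hxy : (⟨closure {x}, isIrreducible_singleton.closure, isClosed_closure⟩ :
      IrreducibleCloseds X) < ⟨closure {y}, isIrreducible_singleton.closure, isClosed_closure⟩ :=
    hlt hyx hne
  have h2 : (2 : WithBot ℕ∞) ≤ topologicalKrullDim X := by
    have ha := Order.height_add_one_le hzy
    have hb := Order.height_add_one_le hxy
    have hc : (2 : ℕ∞) ≤ Order.height Iy := by
      calc (2 : ℕ∞) = 0 + 1 + 1 := by norm_num
        _ ≤ Order.height Iz + 1 + 1 := by gcongr; exact zero_le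
        _ ≤ Order.height Ix + 1 := by gcongr
        _ ≤ Order.height Iy := hb
    have hd := Order.height_le_krullDim Iy
    calc (2 : WithBot ℕ∞) = ((2 : ℕ∞) : WithBot ℕ∞) := rfl
      _ ≤ (Order.height Iy : WithBot ℕ∞) := by exact_mod_cast hc
      _ ≤ topologicalKrullDim X := hd
  have h3 : (2 : WithBot ℕ∞) ≤ 1 := h2.trans hdim
  exact absurd h3 (by decide)

open Groth.Agent.Lead.EmbPts in
theorem mem_primeIdealOf_iff {X : Scheme.{u}} {V : X.Opens} (hV : IsAffineOpen V) (w : V)
    (f : Γ(X, V)) : f ∈ (hV.primeIdealOf w).asIdeal ↔ (w : X) ∉ X.basicOpen f := by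
  rw [← comap_maximalIdeal_stalk hV w, Ideal.mem_comap, mem_maximalIdeal, mem_nonunits_iff,
    X.mem_basicOpen f w w.2]
  rfl

set_option backward.isDefEq.respectTransparency false in
open Groth.Agent.Lead.EmbPts in
theorem main (C : Scheme.{u}) [IsNoetherian C]
    (hdim : topologicalKrullDim C = 1) (hred : IsReduced Γ(C, ⊤)) :
    AssSch.NoEmbedded (Coh.structureModule C) := by
  intro x hx y hy hyx
  by_contra hne
  have hxcl : IsClosed ({x} : Set C) := isClosed_singleton_of_dim_le_one hdim.le x y hyx hne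
  obtain ⟨_, ⟨V, hV, rfl⟩, hxV, -⟩ :=
    C.isBasis_affineOpens.exists_subset_of_mem_open (Set.mem_univ x) isOpen_univ
  have hxV' : x ∈ V := hxV
  have hyV : y ∈ V := hyx.mem_open V.2 hxV'
  have : IsNoetherianRing Γ(C, V) := IsLocallyNoetherian.component_noetherian ⟨V, hV⟩
  have : (Coh.structureModule C).IsQuasicoherent := Groth.Agent.Helper13.QCoh.isQuasicoherent_unit C
  have hQ : maximalIdeal (C.presheaf.stalk x) ∈
      associatedPrimes (C.presheaf.stalk x) ((Coh.structureModule C).presheaf.stalk x) := hx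
  have hq := comap_mem_associatedPrimes_sections (Coh.structureModule C) hV ⟨x, hxV'⟩ _ hQ
  rw [comap_maximalIdeal_stalk hV ⟨x, hxV'⟩, AssociatedPrimes.mem_iff, isAssociatedPrime_iff] at hq
  obtain ⟨hqprime, b, hb⟩ := hq
  set q : Ideal Γ(C, V) := (hV.primeIdealOf ⟨x, hxV'⟩).asIdeal with hqdef
  let b' : Γ(C, V) := b
  -- (i)
  have hi : ∀ f ∈ q, f * b' = 0 := by
    intro f hf
    rw [hb, Submodule.mem_colon_singleton, Submodule.mem_bot] at hf
    exact hf
  have hi' : ∀ f : Γ(C, V), f * b' = 0 → f ∈ q := by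
    intro f hf
    rw [hb, Submodule.mem_colon_singleton, Submodule.mem_bot]
    exact hf
  -- (ii)
  have hb0 : b' ≠ 0 := by
    intro h0
    apply hqprime.ne_top
    rw [Ideal.eq_top_iff_one]
    apply hi'
    rw [h0, mul_zero]
  -- (iii)
  have hbq : b' ∈ q := by
    by_contra hbn
    have hle : (hV.primeIdealOf ⟨y, hyV⟩).asIdeal ≤ q :=
      (specializes_iff_primeIdealOf_le hV ⟨y, hyV⟩ ⟨x, hxV'⟩).mp hyx
    have hnle : ¬ q ≤ (hV.primeIdealOf ⟨y, hyV⟩).asIdeal := by
      intro hle'
      have h1 : x ⤳ y := (specializes_iff_primeIdealOf_le hV ⟨x, hxV'⟩ ⟨y, hyV⟩).mpr hle'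
      exact hne (h1.antisymm hyx).eq
    obtain ⟨t, htq, hty⟩ := SetLike.not_le_iff_exists.mp hnle
    have h2 : t * b' ∈ (hV.primeIdealOf ⟨y, hyV⟩).asIdeal := by
      rw [hi t htq]; exact Ideal.zero_mem _
    rcases (hV.primeIdealOf ⟨y, hyV⟩).isPrime.mem_or_mem h2 with h | h
    · exact hty h
    · exact hbn (hle h)
  have hbb : b' * b' = 0 := hi b' hbq
  -- the open complement of x
  let U₂ : C.Opens := ⟨{x}ᶜ, hxcl.isOpen_compl⟩
  -- b' vanishes off x
  have hbres : C.presheaf.map (homOfLE (inf_le_left : V ⊓ U₂ ≤ V)).op b' = 0 := by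
    have hWle : ∀ f : q, C.basicOpen (f : Γ(C, V)) ≤ V ⊓ U₂ := by
      intro f
      refine le_inf (C.basicOpen_le _) ?_
      intro w hw
      show w ∈ ({x}ᶜ : Set C)
      rintro rfl
      exact (mem_primeIdealOf_iff hV ⟨w, hxV'⟩ (f : Γ(C, V))).mp f.2 hw
    apply TopCat.Sheaf.eq_of_locally_eq' C.sheaf (fun f : q => C.basicOpen (f : Γ(C, V))) (V ⊓ U₂)
      (fun f => homOfLE (hWle f))
    · intro w hw
      obtain ⟨hwV, hwx⟩ := hw
      have hwx' : w ≠ x := hwx
      have hnle : ¬ q ≤ (hV.primeIdealOf ⟨w, hwV⟩).asIdeal := by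
        intro hle'
        have h1 : x ⤳ w := (specializes_iff_primeIdealOf_le hV ⟨x, hxV'⟩ ⟨w, hwV⟩).mpr hle'
        have h2 : w ∈ closure ({x} : Set C) := specializes_iff_mem_closure.mp h1
        rw [hxcl.closure_eq] at h2
        exact hwx' h2
      obtain ⟨t, htq, htw⟩ := SetLike.not_le_iff_exists.mp hnle
      rw [Opens.mem_iSup]
      refine ⟨⟨t, htq⟩, ?_⟩
      by_contra hnw
      exact htw ((mem_primeIdealOf_iff hV ⟨w, hwV⟩ t).mpr hnw)
    · intro f
      show C.presheaf.map (homOfLE (hWle f)).op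
          (C.presheaf.map (homOfLE (inf_le_left : V ⊓ U₂ ≤ V)).op b') =
        C.presheaf.map (homOfLE (hWle f)).op 0
      rw [map_zero]
      have h1 : C.presheaf.map (homOfLE (hWle f)).op
          (C.presheaf.map (homOfLE (inf_le_left : V ⊓ U₂ ≤ V)).op b') =
          C.presheaf.map (homOfLE (C.basicOpen_le (f : Γ(C, V)))).op b' := by
        rw [← CommRingCat.comp_apply, ← C.presheaf.map_comp]
        rfl
      rw [h1]
      have hu := RingedSpace.isUnit_res_basicOpen C.toRingedSpace (f : Γ(C, V))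
      have h3 : C.presheaf.map (homOfLE (C.basicOpen_le (f : Γ(C, V)))).op (f : Γ(C, V)) *
          C.presheaf.map (homOfLE (C.basicOpen_le (f : Γ(C, V)))).op b' = 0 := by
        rw [← map_mul, hi _ f.2, map_zero]
      exact (hu.mul_right_eq_zero).mp h3
  -- glue
  let U : Bool → C.Opens := fun i => if i then V else U₂
  have hcover : (⊤ : C.Opens) ≤ iSup U := by
    intro w _
    rw [Opens.mem_iSup]
    by_cases hw : w = x
    · exact ⟨true, by rw [hw]; exact hxV'⟩
    · exact ⟨false, hw⟩
  let sf : ∀ i, Γ(C, U i) := fun i => match i with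
    | true => b'
    | false => 0
  have hcompat : TopCat.Presheaf.IsCompatible C.sheaf.1 U sf := by
    intro i j
    match i, j with
    | true, true => rfl
    | false, false => rfl
    | true, false =>
      show C.presheaf.map (homOfLE (inf_le_left : V ⊓ U₂ ≤ V)).op b' =
        C.presheaf.map (homOfLE (inf_le_right : V ⊓ U₂ ≤ U₂)).op 0
      rw [hbres, map_zero]
    | false, true =>
      show C.presheaf.map (homOfLE (inf_le_left : U₂ ⊓ V ≤ U₂)).op 0 =
        C.presheaf.map (homOfLE (inf_le_right : U₂ ⊓ V ≤ V)).op b'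
      rw [map_zero]
      have h1 : C.presheaf.map (homOfLE (inf_le_right : U₂ ⊓ V ≤ V)).op b' =
          C.presheaf.map (homOfLE (by rw [inf_comm] : U₂ ⊓ V ≤ V ⊓ U₂)).op
            (C.presheaf.map (homOfLE (inf_le_left : V ⊓ U₂ ≤ V)).op b') := by
        rw [← CommRingCat.comp_apply, ← C.presheaf.map_comp]
        rfl
      rw [h1, hbres, map_zero]
  obtain ⟨s, hs, -⟩ := TopCat.Sheaf.existsUnique_gluing' C.sheaf U ⊤ (fun i => homOfLE le_top)
    hcover sf hcompat
  have hsV : C.presheaf.map (homOfLE (le_top : V ≤ ⊤)).op s = b' := hs true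
  have hsU : C.presheaf.map (homOfLE (le_top : U₂ ≤ ⊤)).op s = 0 := hs false
  have hss : s * s = 0 := by
    apply TopCat.Sheaf.eq_of_locally_eq' C.sheaf U ⊤ (fun i => homOfLE le_top) hcover
    intro i
    match i with
    | true =>
      show C.presheaf.map (homOfLE (le_top : V ≤ ⊤)).op (s * s) =
        C.presheaf.map (homOfLE (le_top : V ≤ ⊤)).op 0
      rw [map_mul, hsV, hbb, map_zero]
    | false =>
      show C.presheaf.map (homOfLE (le_top : U₂ ≤ ⊤)).op (s * s) =
        C.presheaf.map (homOfLE (le_top : U₂ ≤ ⊤)).op 0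
      rw [map_mul, hsU, mul_zero, map_zero]
  have hs0 : s = 0 := hred.eq_zero s ⟨2, by rw [sq]; exact hss⟩
  apply hb0
  rw [← hsV, hs0, map_zero]

end Groth.Agent.Lib.Helper26.NoEmb
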