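import Mathlib

open scoped TensorProduct

namespace Groth.Agent.Lib.Helper26.NormBC

section Basis

variable (k K L : Type*) [CommRing k] [CommRing K] [CommRing L] [Algebra k K] [Algebra K L]
  [Algebra k L] [IsScalarTower k K L]
variable (R : Type*) [CommRing R] [Algebra k R]

/-- the algebra structure of `L ⊗ R` over `K ⊗ R`. -/
@[reducible] noncomputable def alg : Algebra (K ⊗[k] R) (L ⊗[k] R) :=
  (Algebra.TensorProduct.map (IsScalarTower.toAlgHom k K L) (AlgHom.id k R)).toRingHom.toAlgebra

attribute [local instance] alg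

variable {k K L}

lemma algebraMap_tmul (x : K) (r : R) :
    algebraMap (K ⊗[k] R) (L ⊗[k] R) (x ⊗ₜ[k] r) = (algebraMap K L x) ⊗ₜ[k] r := by
  show (Algebra.TensorProduct.map (IsScalarTower.toAlgHom k K L) (AlgHom.id k R)) (x ⊗ₜ[k] r) = _
  simp

lemma alg_smul_tmul (x : K) (r : R) (l : L) (s : R) :
    (x ⊗ₜ[k] r) • (l ⊗ₜ[k] s : L ⊗[k] R) = (x • l) ⊗ₜ[k] (r * s) := by
  rw [Algebra.smul_def, algebraMap_tmul, Algebra.TensorProduct.tmul_mul_tmul, Algebra.smul_def]

variable {ι : Type*} [Fintype ι] [DecidableEq ι] (b : Module.Basis ι K L)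

/-- forward coordinates -/
noncomputable def coordF : L ⊗[k] R →ₗ[k] (ι → K ⊗[k] R) :=
  LinearMap.pi fun i => TensorProduct.map ((b.coord i).restrictScalars k) LinearMap.id

lemma coordF_tmul (l : L) (r : R) (i : ι) :
    coordF R b (l ⊗ₜ[k] r) i = (b.repr l i) ⊗ₜ[k] r := by
  simp [coordF]

/-- inverse -/
noncomputable def combG : (ι → K ⊗[k] R) →ₗ[K ⊗[k] R] L ⊗[k] R :=
  Fintype.linearCombination (K ⊗[k] R) (fun i => (b i) ⊗ₜ[k] (1 : R))

lemma combG_apply (c : ι → K ⊗[k] R) :
    combG R b c = ∑ i, c i • ((b i) ⊗ₜ[k] (1 : R) : L ⊗[k] R) := by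
  simp [combG, Fintype.linearCombination_apply]

lemma combG_coordF (w : L ⊗[k] R) : combG R b (coordF R b w) = w := by
  induction w using TensorProduct.induction_on with
  | zero => simp
  | tmul l r =>
    rw [combG_apply]
    simp only [coordF_tmul, alg_smul_tmul, mul_one]
    rw [← TensorProduct.sum_tmul, b.sum_repr]
  | add x y hx hy => rw [map_add, map_add, hx, hy]

lemma coordF_smul_basis (s : K ⊗[k] R) (i : ι) :
    coordF R b (s • ((b i) ⊗ₜ[k] (1 : R) : L ⊗[k] R)) = Pi.single i s := by
  induction s using TensorProduct.induction_on with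
  | zero => simp
  | tmul x r =>
    ext j
    rw [alg_smul_tmul, coordF_tmul, mul_one]
    simp only [map_smul, Module.Basis.repr_self, Finsupp.smul_apply, Finsupp.single_apply,
      Pi.single_apply]
    by_cases h : i = j
    · subst h; simp
    · rw [if_neg h, if_neg (Ne.symm h)]; simp
  | add x y hx hy => rw [add_smul, map_add, hx, hy, Pi.single_add]

lemma coordF_combG (c : ι → K ⊗[k] R) : coordF R b (combG R b c) = c := by
  rw [combG_apply, map_sum]
  simp only [coordF_smul_basis]
  exact Finset.univ_sum_single c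

/-- the equivalence -/
noncomputable def equivG : (ι → K ⊗[k] R) ≃ₗ[K ⊗[k] R] L ⊗[k] R :=
  LinearEquiv.ofBijective (combG R b)
    ⟨Function.LeftInverse.injective (coordF_combG R b),
     Function.RightInverse.surjective (combG_coordF R b)⟩

/-- the basis `b i ⊗ 1` of `L ⊗ R` over `K ⊗ R`. -/
noncomputable def bT : Module.Basis ι (K ⊗[k] R) (L ⊗[k] R) :=
  Module.Basis.ofEquivFun (equivG R b).symm

lemma bT_apply (i : ι) : bT R b i = (b i) ⊗ₜ[k] (1 : R) := by
  have : bT R b i = combG R b (Pi.single i (1 : K ⊗[k] R)) := by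
    simp only [bT, equivG, Module.Basis.coe_ofEquivFun, LinearEquiv.symm_symm]
    rfl
  rw [this, combG_apply, Finset.sum_eq_single i]
  · simp
  · intro j _ hj; simp [Pi.single_apply, hj]
  · simp

lemma bT_repr (w : L ⊗[k] R) (i : ι) : (bT R b).repr w i = coordF R b w i := by
  have h : (equivG R b).symm w = coordF R b w := by
    rw [LinearEquiv.symm_apply_eq]
    exact (combG_coordF R b w).symm
  simp [bT, h]

variable {R} {R' : Type*} [CommRing R'] [Algebra k R'] (φ : R →ₐ[k] R')

lemma coordF_map (w : L ⊗[k] R) (i : ι) :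
    coordF R' b (Algebra.TensorProduct.map (AlgHom.id k L) φ w) i
      = Algebra.TensorProduct.map (AlgHom.id k K) φ (coordF R b w i) := by
  induction w using TensorProduct.induction_on with
  | zero => simp
  | tmul l r => simp [coordF_tmul]
  | add x y hx hy => simp only [map_add, Pi.add_apply, hx, hy]

lemma leftMulMatrix_map (z : L ⊗[k] R) :
    Algebra.leftMulMatrix (bT R' b) (Algebra.TensorProduct.map (AlgHom.id k L) φ z)
      = (Algebra.leftMulMatrix (bT R b) z).map
          (Algebra.TensorProduct.map (AlgHom.id k K) φ) := by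
  ext i j
  have h : Algebra.TensorProduct.map (AlgHom.id k L) φ z * ((b j) ⊗ₜ[k] (1 : R'))
      = Algebra.TensorProduct.map (AlgHom.id k L) φ (z * ((b j) ⊗ₜ[k] (1 : R))) := by
    rw [map_mul]; simp
  rw [Matrix.map_apply, Algebra.leftMulMatrix_eq_repr_mul, Algebra.leftMulMatrix_eq_repr_mul,
    bT_repr, bT_repr, bT_apply, bT_apply, h, coordF_map]

include b in
lemma norm_map (z : L ⊗[k] R) :
    Algebra.norm (K ⊗[k] R') (Algebra.TensorProduct.map (AlgHom.id k L) φ z)
      = Algebra.TensorProduct.map (AlgHom.id k K) φ (Algebra.norm (K ⊗[k] R) z) := by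
  rw [Algebra.norm_eq_matrix_det (bT R' b), Algebra.norm_eq_matrix_det (bT R b),
    leftMulMatrix_map]
  exact (RingHom.map_det (Algebra.TensorProduct.map (AlgHom.id k K) φ).toRingHom _).symm

end Basis

section MatInt

variable {S F : Type*} [CommRing S] [Field F] (g : S →+* F)
variable {ι : Type*} [Fintype ι] [DecidableEq ι]

lemma aeval_map_mulVec (M : Matrix ι ι S) (v : ι → F) (μ : F)
    (hv : (M.map g).mulVec v = μ • v) (q : Polynomial S) :
    ((Polynomial.aeval M q).map g).mulVec v = (Polynomial.eval₂ g μ q) • v := by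
  induction q using Polynomial.induction_on with
  | C a =>
    rw [Polynomial.aeval_C, Polynomial.eval₂_C]
    ext i
    simp only [Matrix.mulVec, dotProduct, Matrix.map_apply, Matrix.algebraMap_matrix_apply,
      Pi.smul_apply, smul_eq_mul]
    rw [Finset.sum_eq_single i]
    · simp
    · intro j _ hj
      rw [if_neg (Ne.symm hj)]; simp
    · simp
  | add p q hp hq =>
    rw [map_add, Polynomial.eval₂_add, add_smul, ← hp, ← hq, ← Matrix.add_mulVec]
    congr 1
    ext i j
    simp
  | monomial n a h =>
    rw [pow_succ, ← mul_assoc, map_mul, Polynomial.aeval_X, Polynomial.eval₂_mul,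
      Polynomial.eval₂_X]
    rw [Matrix.map_mul, ← Matrix.mulVec_mulVec, hv, Matrix.mulVec_smul, h, smul_smul, mul_comm]

variable {A' : Type*} [CommRing A'] (f : A' →+* S)

lemma isIntegralElem_det_of_injective (hg : Function.Injective g) [IsAlgClosed F]
    (M : Matrix ι ι S) (p : Polynomial A') (hp : p.Monic)
    (h : Polynomial.aeval M (p.map f) = 0) : f.IsIntegralElem M.det := by
  -- it suffices to check after `g`
  suffices hs : (g.comp f).IsIntegralElem (g M.det) by
    obtain ⟨q, hq, hq0⟩ := hs
    refine ⟨q, hq, hg ?_⟩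
    rw [map_zero, Polynomial.hom_eval₂]
    exact hq0
  have hdet : g M.det = ((M.map g).charpoly).roots.prod := by
    rw [← Matrix.det_eq_prod_roots_charpoly, RingHom.map_det]; rfl
  rw [hdet]
  have hroot : ∀ μ ∈ ((M.map g).charpoly).roots, (g.comp f).IsIntegralElem μ := by
    intro μ hμ
    have hr : ((M.map g).charpoly).IsRoot μ := (Polynomial.mem_roots'.mp hμ).2
    rw [Polynomial.IsRoot, Matrix.eval_charpoly] at hr
    obtain ⟨v, hv0, hv⟩ := Matrix.exists_mulVec_eq_zero_iff.mpr hr
    have hv' : (M.map g).mulVec v = μ • v := by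
      rw [Matrix.sub_mulVec, sub_eq_zero] at hv
      rw [← hv]
      ext i
      simp only [Matrix.mulVec, dotProduct, Matrix.scalar_apply, Matrix.diagonal_apply,
        Pi.smul_apply, smul_eq_mul]
      rw [Finset.sum_eq_single i]
      · simp
      · intro j _ hj
        rw [if_neg (Ne.symm hj)]; simp
      · simp
    have h1 := aeval_map_mulVec g M v μ hv' (p.map f)
    rw [h, Polynomial.eval₂_map] at h1
    have h2 : ((0 : Matrix ι ι S).map g).mulVec v = 0 := by
      have : (0 : Matrix ι ι S).map g = 0 := by ext i j; simp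
      rw [this, Matrix.zero_mulVec]
    rw [h2] at h1
    refine ⟨p, hp, ?_⟩
    rcases smul_eq_zero.mp h1.symm with h3 | h3
    · exact h3
    · exact absurd h3 hv0
  -- product of integral elements
  have key : ∀ s : Multiset F, (∀ μ ∈ s, (g.comp f).IsIntegralElem μ) →
      (g.comp f).IsIntegralElem s.prod := by
    intro s
    induction s using Multiset.induction_on with
    | empty =>
      intro _
      rw [Multiset.prod_zero]
      exact (g.comp f).isIntegralElem_one
    | cons a s ih =>
      intro hs
      rw [Multiset.prod_cons]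
      exact RingHom.IsIntegralElem.mul _ (hs a (Multiset.mem_cons_self a s))
        (ih fun μ hμ => hs μ (Multiset.mem_cons_of_mem hμ))
  exact key _ hroot

lemma isIntegralElem_det [IsDomain S]
    (M : Matrix ι ι S) (p : Polynomial A') (hp : p.Monic)
    (h : Polynomial.aeval M (p.map f) = 0) : f.IsIntegralElem M.det := by
  have hinj : Function.Injective
      (algebraMap S (AlgebraicClosure (FractionRing S))) := by
    rw [IsScalarTower.algebraMap_eq S (FractionRing S) (AlgebraicClosure (FractionRing S)),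
      RingHom.coe_comp]
    exact (RingHom.injective (algebraMap (FractionRing S) (AlgebraicClosure (FractionRing S)))).comp
      (IsFractionRing.injective S (FractionRing S))
  exact isIntegralElem_det_of_injective _ f hinj M p hp h

end MatInt

section Univ

variable {k A K L : Type*} [CommRing k] [CommRing A] [CommRing K] [CommRing L]
  [Algebra k A] [Algebra k K] [Algebra k L] [Algebra A K] [Algebra K L] [Algebra A L]
  [IsScalarTower k A K] [IsScalarTower k K L] [IsScalarTower k A L] [IsScalarTower A K L]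
variable (R : Type*) [CommRing R] [Algebra k R]

attribute [local instance] alg

variable (k A K L) in
/-- `A ⊗ R → K ⊗ R`. -/
noncomputable def fAK : A ⊗[k] R →ₐ[k] K ⊗[k] R :=
  Algebra.TensorProduct.map (IsScalarTower.toAlgHom k A K) (AlgHom.id k R)

variable (k A K L) in
/-- `A ⊗ R → L ⊗ R`. -/
noncomputable def gAL : A ⊗[k] R →ₐ[k] L ⊗[k] R :=
  Algebra.TensorProduct.map (IsScalarTower.toAlgHom k A L) (AlgHom.id k R)

variable (k A L) in
/-- `B ⊗ R → L ⊗ R`. -/
noncomputable def jBL : (integralClosure A L) ⊗[k] R →ₐ[k] L ⊗[k] R :=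
  Algebra.TensorProduct.map ((integralClosure A L).val.restrictScalars k) (AlgHom.id k R)

lemma gAL_eq (t : A ⊗[k] R) :
    gAL k A L R t = algebraMap (K ⊗[k] R) (L ⊗[k] R) (fAK k A K R t) := by
  induction t using TensorProduct.induction_on with
  | zero => simp
  | tmul a r =>
    simp only [gAL, fAK, Algebra.TensorProduct.map_tmul, IsScalarTower.coe_toAlgHom',
      AlgHom.coe_id, id_eq, algebraMap_tmul]
    rw [← IsScalarTower.algebraMap_apply A K L]
  | add x y hx hy => rw [map_add, map_add, map_add, hx, hy]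

lemma isIntegralElem_jBL (w : (integralClosure A L) ⊗[k] R) :
    (gAL k A L R).toRingHom.IsIntegralElem (jBL k A L R w) := by
  induction w using TensorProduct.induction_on with
  | zero => rw [map_zero]; exact RingHom.isIntegralElem_zero _
  | tmul y r =>
    have h1 : jBL k A L R (y ⊗ₜ[k] r) = ((y : L) ⊗ₜ[k] (1 : R)) * gAL k A L R ((1 : A) ⊗ₜ[k] r) := by
      simp [jBL, gAL]
    rw [h1]
    refine RingHom.IsIntegralElem.mul _ ?_ (RingHom.isIntegralElem_map _)
    obtain ⟨q, hq, hq0⟩ := y.2
    refine ⟨q.map (Algebra.TensorProduct.includeLeft : A →ₐ[k] A ⊗[k] R).toRingHom,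
      hq.map _, ?_⟩
    rw [Polynomial.eval₂_map]
    have h2 : (gAL k A L R).toRingHom.comp
        (Algebra.TensorProduct.includeLeft : A →ₐ[k] A ⊗[k] R).toRingHom
        = (Algebra.TensorProduct.includeLeft : L →ₐ[k] L ⊗[k] R).toRingHom.comp
            (algebraMap A L) := by
      ext a
      simp [gAL]
    rw [h2]
    have h3 : ((y : L) ⊗ₜ[k] (1 : R))
        = (Algebra.TensorProduct.includeLeft : L →ₐ[k] L ⊗[k] R).toRingHom (y : L) := rfl
    rw [h3, ← Polynomial.hom_eval₂, hq0, map_zero]
  | add x y hx hy =>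
    rw [map_add]
    exact RingHom.IsIntegralElem.add _ hx hy

variable {ι : Type*} [Fintype ι] [DecidableEq ι] (b : Module.Basis ι K L)

include b in
lemma isIntegralElem_norm [IsDomain (K ⊗[k] R)] (z : L ⊗[k] R)
    (hz : (gAL k A L R).toRingHom.IsIntegralElem z) :
    (fAK k A K R).toRingHom.IsIntegralElem (Algebra.norm (K ⊗[k] R) z) := by
  obtain ⟨p, hp, hp0⟩ := hz
  rw [Algebra.norm_eq_matrix_det (bT R b)]
  refine isIntegralElem_det _ _ p hp ?_
  have h1 : Polynomial.aeval z (p.map (fAK k A K R).toRingHom) = 0 := by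
    rw [Polynomial.aeval_def, Polynomial.eval₂_map, ← hp0]
    congr 1
    exact RingHom.ext fun t => (gAL_eq R t).symm
  have h2 := Polynomial.aeval_algHom_apply (Algebra.leftMulMatrix (bT R b)) z
    (p.map (fAK k A K R).toRingHom)
  rw [h2, h1, map_zero]

end Univ

section Poly

variable {k A K : Type*} [CommRing k] [CommRing A] [IsDomain A] [IsIntegrallyClosed A] [Field K]
  [Algebra k A] [Algebra k K] [Algebra A K] [IsScalarTower k A K] [IsFractionRing A K]
variable (σ : Type*)

omit [IsDomain A] [IsIntegrallyClosed A] [IsFractionRing A K] in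
lemma eK_fAK (t : A ⊗[k] MvPolynomial σ k) :
    MvPolynomial.algebraTensorAlgEquiv k K (fAK k A K (MvPolynomial σ k) t)
      = MvPolynomial.map (algebraMap A K) (MvPolynomial.algebraTensorAlgEquiv k A t) := by
  induction t using TensorProduct.induction_on with
  | zero => simp
  | tmul a p =>
    simp only [fAK, Algebra.TensorProduct.map_tmul, IsScalarTower.coe_toAlgHom',
      AlgHom.coe_id, id_eq, MvPolynomial.algebraTensorAlgEquiv_tmul]
    rw [MvPolynomial.smul_eq_C_mul, MvPolynomial.smul_eq_C_mul, map_mul, MvPolynomial.map_C,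
      MvPolynomial.map_map, ← IsScalarTower.algebraMap_eq]
  | add x y hx hy => simp only [map_add, hx, hy]

omit [IsDomain A] [IsIntegrallyClosed A] [Algebra k A] [Algebra A K] [IsScalarTower k A K]
  [IsFractionRing A K] in
lemma isDomain_tensor : IsDomain (K ⊗[k] MvPolynomial σ k) :=
  (MvPolynomial.algebraTensorAlgEquiv k K).injective.isDomain
    (MvPolynomial.algebraTensorAlgEquiv (σ := σ) k K).toAlgHom.toRingHom

attribute [local instance] MvPolynomial.algebraMvPolynomial in
lemma mem_range_of_isIntegralElem (x : K ⊗[k] MvPolynomial σ k)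
    (hx : (fAK k A K (MvPolynomial σ k)).toRingHom.IsIntegralElem x) :
    x ∈ Set.range (fAK k A K (MvPolynomial σ k)) := by
  classical
  obtain ⟨q, hq, hq0⟩ := hx
  have h1 : IsIntegral (MvPolynomial σ A) (MvPolynomial.algebraTensorAlgEquiv k K x) := by
    refine ⟨q.map (MvPolynomial.algebraTensorAlgEquiv (σ := σ) k A).toAlgHom.toRingHom,
      hq.map _, ?_⟩
    rw [Polynomial.eval₂_map]
    have h2 : (algebraMap (MvPolynomial σ A) (MvPolynomial σ K)).comp
        (MvPolynomial.algebraTensorAlgEquiv (σ := σ) k A).toAlgHom.toRingHom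
        = (MvPolynomial.algebraTensorAlgEquiv (σ := σ) k K).toAlgHom.toRingHom.comp
            (fAK k A K (MvPolynomial σ k)).toRingHom :=
      RingHom.ext fun t => (eK_fAK σ t).symm
    rw [h2]
    have h3 : MvPolynomial.algebraTensorAlgEquiv k K x
        = (MvPolynomial.algebraTensorAlgEquiv (σ := σ) k K).toAlgHom.toRingHom x := rfl
    rw [h3, ← Polynomial.hom_eval₂, hq0, map_zero]
  have h4 := MvPolynomial.isIntegral_iff_isIntegral_coeff.mp h1
  have h5 : MvPolynomial.algebraTensorAlgEquiv k K x
      ∈ Set.range (MvPolynomial.map (σ := σ) (algebraMap A K)) := by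
    rw [MvPolynomial.mem_range_map_iff_coeffs_subset]
    intro c hc
    obtain ⟨n, _, rfl⟩ := MvPolynomial.mem_coeffs_iff.mp hc
    exact IsIntegrallyClosed.isIntegral_iff.mp (h4 n)
  obtain ⟨y, hy⟩ := h5
  refine ⟨(MvPolynomial.algebraTensorAlgEquiv k A).symm y, ?_⟩
  apply (MvPolynomial.algebraTensorAlgEquiv k K).injective
  rw [eK_fAK, AlgEquiv.apply_symm_apply, hy]

end Poly

section Main

universe u

attribute [local instance] alg

variable {k A K L : Type u} [Field k]
    [CommRing A] [IsDomain A] [IsIntegrallyClosed A] [Algebra k A]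
    [Field K] [Algebra A K] [IsFractionRing A K] [Algebra k K] [IsScalarTower k A K]
    [Field L] [Algebra K L] [FiniteDimensional K L] [Algebra A L] [IsScalarTower A K L]
    [Algebra k L] [IsScalarTower k K L] [IsScalarTower k A L]
variable (R : Type u) [CommRing R] [Algebra k R]

omit [IsIntegrallyClosed A] [FiniteDimensional K L] [IsFractionRing A K] [IsDomain A] in
lemma jBL_map {R' : Type u} [CommRing R'] [Algebra k R'] (φ : R →ₐ[k] R')
    (w : (integralClosure A L) ⊗[k] R) :
    jBL k A L R' (Algebra.TensorProduct.map (AlgHom.id k _) φ w)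
      = Algebra.TensorProduct.map (AlgHom.id k L) φ (jBL k A L R w) := by
  induction w using TensorProduct.induction_on with
  | zero => simp
  | tmul y r => simp [jBL]
  | add x y hx hy => simp only [map_add, hx, hy]

omit [IsIntegrallyClosed A] [FiniteDimensional K L] [IsFractionRing A K] [IsDomain A] in
lemma fAK_map {R' : Type u} [CommRing R'] [Algebra k R'] (φ : R →ₐ[k] R')
    (t : A ⊗[k] R) :
    fAK k A K R' (Algebra.TensorProduct.map (AlgHom.id k _) φ t)
      = Algebra.TensorProduct.map (AlgHom.id k K) φ (fAK k A K R t) := by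
  induction t using TensorProduct.induction_on with
  | zero => simp
  | tmul y r => simp [fAK]
  | add x y hx hy => simp only [map_add, hx, hy]

lemma norm_mem_range (β : (integralClosure A L) ⊗[k] R) :
    Algebra.norm (K ⊗[k] R) (jBL k A L R β) ∈ Set.range (fAK k A K R) := by
  classical
  let b0 := Module.Free.chooseBasis K L
  let φ : MvPolynomial R k →ₐ[k] R := MvPolynomial.aeval id
  obtain ⟨w0, hw0⟩ : ∃ w0 : (integralClosure A L) ⊗[k] MvPolynomial R k,
      Algebra.TensorProduct.map (AlgHom.id k _) φ w0 = β := by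
    induction β using TensorProduct.induction_on with
    | zero => exact ⟨0, by simp⟩
    | tmul y r => exact ⟨y ⊗ₜ[k] MvPolynomial.X r, by simp [φ]⟩
    | add x y hx hy =>
      obtain ⟨a, ha⟩ := hx
      obtain ⟨c, hc⟩ := hy
      exact ⟨a + c, by rw [map_add, ha, hc]⟩
  have : IsDomain (K ⊗[k] MvPolynomial R k) := isDomain_tensor R
  obtain ⟨t, ht⟩ := mem_range_of_isIntegralElem R _
    (isIntegralElem_norm (A := A) (MvPolynomial R k) b0 _ (isIntegralElem_jBL _ w0))
  refine ⟨Algebra.TensorProduct.map (AlgHom.id k _) φ t, ?_⟩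
  rw [fAK_map, ht, ← norm_map b0 φ, ← jBL_map, hw0]

omit [IsIntegrallyClosed A] [FiniteDimensional K L] in
lemma jBL_injective : Function.Injective (jBL k A L R) := by
  have h : Function.Injective
      (LinearMap.rTensor R ((integralClosure A L).val.restrictScalars k).toLinearMap) :=
    Module.Flat.rTensor_preserves_injective_linearMap _ Subtype.val_injective
  intro x y hxy
  apply h
  exact hxy

variable (K) in
include K in
lemma exists_mul_mem_range (w : L ⊗[k] R) :
    ∃ a : A, a ≠ 0 ∧ ((algebraMap A L a) ⊗ₜ[k] (1 : R)) * w ∈ Set.range (jBL k A L R) := by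
  induction w using TensorProduct.induction_on with
  | zero => exact ⟨1, one_ne_zero, 0, by simp⟩
  | tmul l r =>
    have hl : IsAlgebraic A l := by
      rw [IsFractionRing.isAlgebraic_iff A K L]
      exact Algebra.IsAlgebraic.isAlgebraic l
    obtain ⟨a, ha, hint⟩ := hl.exists_integral_multiple
    refine ⟨a, ha, (⟨a • l, hint⟩ : integralClosure A L) ⊗ₜ[k] r, ?_⟩
    simp [jBL, Algebra.smul_def]
  | add x y hx hy =>
    obtain ⟨a, ha, u, hu⟩ := hx
    obtain ⟨c, hc, v, hv⟩ := hy
    refine ⟨a * c, mul_ne_zero ha hc,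
      ((algebraMap A (integralClosure A L) c) ⊗ₜ[k] (1 : R)) * u +
      ((algebraMap A (integralClosure A L) a) ⊗ₜ[k] (1 : R)) * v, ?_⟩
    rw [map_add, map_mul, map_mul, hu, hv]
    have e1 : jBL k A L R ((algebraMap A (integralClosure A L) c) ⊗ₜ[k] (1 : R))
        = (algebraMap A L c) ⊗ₜ[k] (1 : R) := by simp [jBL]
    have e2 : jBL k A L R ((algebraMap A (integralClosure A L) a) ⊗ₜ[k] (1 : R))
        = (algebraMap A L a) ⊗ₜ[k] (1 : R) := by simp [jBL]
    rw [e1, e2, map_mul]
    have e3 : ((algebraMap A L a * algebraMap A L c) ⊗ₜ[k] (1 : R) : L ⊗[k] R)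
        = ((algebraMap A L a) ⊗ₜ[k] (1 : R)) * ((algebraMap A L c) ⊗ₜ[k] (1 : R)) := by
      rw [Algebra.TensorProduct.tmul_mul_tmul, mul_one]
    rw [e3]
    ring

lemma isRegular_iff (β : (integralClosure A L) ⊗[k] R) :
    IsRegular β ↔ IsRegular (Algebra.norm (K ⊗[k] R) (jBL k A L R β)) := by
  classical
  let b0 := Module.Free.chooseBasis K L
  set z := jBL k A L R β with hz
  -- step 1: norm regular iff z left regular
  have step1 : IsRegular (Algebra.norm (K ⊗[k] R) z) ↔ IsLeftRegular z := by
    rw [Algebra.norm_eq_matrix_det (bT R b0), isRegular_iff_mem_nonZeroDivisors,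
      ← Matrix.nonsingular_iff_det_mem_nonZeroDivisors, ← Matrix.isLeftRegular_iff_nonsingular,
      Matrix.isLeftRegular_iff_mulVec_injective]
    constructor
    · intro hinj x y hxy
      have h1 : (bT R b0).equivFun (z * x) = (bT R b0).equivFun (z * y) :=
        congrArg _ hxy
      have e : ∀ u : L ⊗[k] R, (bT R b0).equivFun (z * u)
          = (Algebra.leftMulMatrix (bT R b0) z).mulVec ((bT R b0).equivFun u) := fun u =>
        (Algebra.leftMulMatrix_mulVec_repr (bT R b0) z u).symm
      rw [e, e] at h1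
      exact (bT R b0).equivFun.injective (hinj h1)
    · intro hreg v v' hvv
      have e : ∀ u : L ⊗[k] R, (bT R b0).equivFun (z * u)
          = (Algebra.leftMulMatrix (bT R b0) z).mulVec ((bT R b0).equivFun u) := fun u =>
        (Algebra.leftMulMatrix_mulVec_repr (bT R b0) z u).symm
      have h1 := e ((bT R b0).equivFun.symm v)
      have h2 := e ((bT R b0).equivFun.symm v')
      rw [LinearEquiv.apply_symm_apply] at h1 h2
      have h3 : z * (bT R b0).equivFun.symm v = z * (bT R b0).equivFun.symm v' := by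
        apply (bT R b0).equivFun.injective
        rw [h1, h2]; exact hvv
      exact (bT R b0).equivFun.symm.injective (hreg h3)
  rw [step1, ← isLeftRegular_iff_isRegular]
  constructor
  · intro hβ
    rw [isLeftRegular_iff_right_eq_zero_of_mul] at hβ ⊢
    intro w hw
    obtain ⟨a, ha, w0, hw0⟩ := exists_mul_mem_range (A := A) K R w
    have h1 : jBL k A L R (β * w0) = 0 := by
      rw [map_mul, hw0, ← hz]
      calc z * (((algebraMap A L a) ⊗ₜ[k] (1 : R)) * w)
          = ((algebraMap A L a) ⊗ₜ[k] (1 : R)) * (z * w) := by ring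
        _ = 0 := by rw [hw, mul_zero]
    have h2 : β * w0 = 0 := jBL_injective R (by rw [h1, map_zero])
    have h3 : w0 = 0 := hβ w0 h2
    rw [h3, map_zero] at hw0
    have hne : algebraMap A L a ≠ 0 := by
      rw [IsScalarTower.algebraMap_apply A K L]
      intro h0
      have h4 := (map_eq_zero (algebraMap K L)).mp h0
      exact ha ((map_eq_zero_iff _ (IsFractionRing.injective A K)).mp h4)
    calc w = (((algebraMap A L a)⁻¹ ⊗ₜ[k] (1 : R)) * ((algebraMap A L a) ⊗ₜ[k] (1 : R))) * w := by
          rw [Algebra.TensorProduct.tmul_mul_tmul, inv_mul_cancel₀ hne, mul_one]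
          exact (one_mul w).symm
      _ = 0 := by rw [mul_assoc, ← hw0, mul_zero]
  · intro hzr x y hxy
    apply jBL_injective R
    apply hzr
    show z * _ = z * _
    rw [hz, ← map_mul, ← map_mul]
    exact congrArg _ hxy

theorem main :
    Module.Free (K ⊗[k] R) (L ⊗[k] R) ∧ Module.Finite (K ⊗[k] R) (L ⊗[k] R) ∧
      ∀ b : (integralClosure A L) ⊗[k] R,
        Algebra.norm (K ⊗[k] R)
            (Algebra.TensorProduct.map ((integralClosure A L).val.restrictScalars k)
              (AlgHom.id k R) b) ∈
          Set.range (Algebra.TensorProduct.map (IsScalarTower.toAlgHom k A K) (AlgHom.id k R)) ∧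
        (IsRegular b ↔ IsRegular (Algebra.norm (K ⊗[k] R)
            (Algebra.TensorProduct.map ((integralClosure A L).val.restrictScalars k)
              (AlgHom.id k R) b))) := by
  classical
  refine ⟨Module.Free.of_basis (bT R (Module.Free.chooseBasis K L)),
    Module.Finite.of_basis (bT R (Module.Free.chooseBasis K L)), fun β => ⟨?_, ?_⟩⟩
  · exact norm_mem_range R β
  · exact isRegular_iff R β

end Main

end Groth.Agent.Lib.Helper26.NormBC
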