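import Mathlib
import Groth.Prelude.Def_ModFun2
import Groth.Agent.Lib.Helper3.CurveHopf
import Groth.Agent.Lib.Helper13.CurveDeg3
import Groth.Agent.Lib.Helper13.InvDual
import Groth.Agent.Lib.Helper26.DegTensor
import Groth.Agent.Lib.Helper26.SerreBun
import Groth.Agent.Lib.Helper26.IntLF

/-!
# Normalized decomposable rank-two bundles on a curve (S11353)
-/

set_option autoImplicit false
set_option maxHeartbeats 400000
set_option linter.style.haveILetI false
set_option linter.unusedSectionVars false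
set_option linter.unusedVariables false
universe u
open CategoryTheory CategoryTheory.Limits AlgebraicGeometry Opposite TopologicalSpace

namespace Groth.Agent.Helper26.NormDec

variable (k : Type u) [Field k] (X : Scheme.{u}) [X.Over (Spec (CommRingCat.of k))]
  [IsIntegral X] [IsProper (X ↘ Spec (CommRingCat.of k))]

/-- a direct summand `L` (invertible) of a normalized module has `deg L ≤ 0`. -/
theorem deg_le_zero_of_retract (hdim : topologicalKrullDim X = 1) (E : X.Modules)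
    (hneg : ∀ M : X.Modules, PicF.IsInvertible M → Curv2.deg k X M 1 < 0 →
      Subsingleton (Coh.HH X (CohB1.tensorMod E M) 0))
    (L : X.Modules) (hL : PicF.IsInvertible L) (ι : L ⟶ E) (π : E ⟶ L) (hιπ : ι ≫ π = 𝟙 L) :
    Curv2.deg k X L 1 ≤ 0 := by
  by_contra hpos
  have hpos' := not_le.1 hpos
  obtain ⟨N, hN, ⟨e⟩, -⟩ := Groth.Agent.Helper13.InvDual.exists_inverse L hL
  have hL1 := Groth.Agent.Helper26.IntLF.isFinLocFreeOfRank_one_of_isInvertible L hL
  have hN1 := Groth.Agent.Helper26.IntLF.isFinLocFreeOfRank_one_of_isInvertible N hN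
  have hdt := Groth.Agent.Helper26.DegTensor.deg_tensor k X hdim.le L N 1 1 hL1 hN1
  have hiso := Groth.Agent.Helper26.DegTensor.deg_of_iso k X e 1
  have hO := Groth.Agent.Helper13.CurveDeg.deg_structureModule k X
  have hNdeg : Curv2.deg k X N 1 < 0 := by
    simp only [mul_one, Nat.cast_one, one_mul] at hdt
    rw [hiso, hO] at hdt
    linarith
  have hsub := hneg N hN hNdeg
  let j : Coh.structureModule X ⟶ CohB1.tensorMod E N :=
    e.inv ≫ Groth.Agent.Helper13.Tensor.map ι (𝟙 N)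
  have hj : j ≫ (Groth.Agent.Helper13.Tensor.map π (𝟙 N) ≫ e.hom) = 𝟙 _ := by
    simp only [j, Category.assoc]
    rw [← Category.assoc (Groth.Agent.Helper13.Tensor.map ι (𝟙 N)),
      ← Groth.Agent.Helper13.Tensor.map_comp, hιπ, Category.comp_id,
      Groth.Agent.Helper13.Tensor.map_id, Category.id_comp, Iso.inv_hom_id]
  haveI : Mono j := mono_of_mono_fac hj
  have hinj := Groth.Agent.Helper26.SerreBun.HHlin_injective_of_mono k j
  haveI := Groth.Agent.Helper3.CurveHopf.nontrivial_h0_structure X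
  obtain ⟨a, b, hab⟩ := exists_pair_ne (Coh.HH X (Coh.structureModule X) 0)
  exact hab (hinj (Subsingleton.elim _ _))

theorem main [IsAlgClosed k] (hdim : topologicalKrullDim X = 1)
    (E L₁ L₂ : X.Modules) (hL₁ : PicF.IsInvertible L₁) (hL₂ : PicF.IsInvertible L₂)
    (hE : Nonempty (E ≅ L₁ ⊞ L₂))
    (hn0 : Nontrivial (Coh.HH X E 0))
    (hneg : ∀ M : X.Modules, PicF.IsInvertible M → Curv2.deg k X M 1 < 0 →
      Subsingleton (Coh.HH X (CohB1.tensorMod E M) 0)) :
    ∃ L : X.Modules, PicF.IsInvertible L ∧ Curv2.deg k X L 1 ≤ 0 ∧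
      Nonempty (E ≅ Coh.structureModule X ⊞ L) := by
  obtain ⟨e⟩ := hE
  have hd₁ : Curv2.deg k X L₁ 1 ≤ 0 :=
    deg_le_zero_of_retract k X hdim E hneg L₁ hL₁ (biprod.inl ≫ e.inv) (e.hom ≫ biprod.fst)
      (by simp)
  have hd₂ : Curv2.deg k X L₂ 1 ≤ 0 :=
    deg_le_zero_of_retract k X hdim E hneg L₂ hL₂ (biprod.inr ≫ e.inv) (e.hom ≫ biprod.snd)
      (by simp)
  obtain ⟨u, hu⟩ := exists_ne (0 : Coh.HH X E 0)
  have hs := Groth.Agent.Helper3.CurveHopf.secHom_ne_zero E u hu
  set s := Groth.Agent.Helper3.CurveHopf.secHom E u with hsdef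
  by_cases h₁ : s ≫ e.hom ≫ biprod.fst = 0
  · have h₂ : s ≫ e.hom ≫ biprod.snd ≠ 0 := by
      intro h₂
      apply hs
      have : s ≫ e.hom = 0 := by
        apply biprod.hom_ext
        · simpa using h₁
        · simpa using h₂
      have h3 : (s ≫ e.hom) ≫ e.inv = 0 := by rw [this, zero_comp]
      simpa using h3
    obtain ⟨f⟩ := Groth.Agent.Helper13.CurveDeg.main1520 k X hdim L₂ hL₂ _ h₂ hd₂
    exact ⟨L₁, hL₁, hd₁, ⟨e ≪≫ biprod.braiding L₁ L₂ ≪≫ biprod.mapIso f (Iso.refl L₁)⟩⟩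
  · obtain ⟨f⟩ := Groth.Agent.Helper13.CurveDeg.main1520 k X hdim L₁ hL₁ _ h₁ hd₁
    exact ⟨L₂, hL₂, hd₂, ⟨e ≪≫ biprod.mapIso f (Iso.refl L₂)⟩⟩

end Groth.Agent.Helper26.NormDec
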