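import Mathlib

set_option autoImplicit false

open CategoryTheory CategoryTheory.Limits AlgebraicGeometry TopologicalSpace Opposite

namespace Groth.Agent.Helper26.NormExt

universe u

theorem main (X : Scheme.{u}) [IsIntegral X]
    (hX : ∀ x : X, IsIntegrallyClosed (X.presheaf.stalk x)) (U : X.Opens) (b : Γ(X, U))
    (hb : (X.presheaf.map (homOfLE le_top : U ⟶ ⊤).op).hom.IsIntegralElem b) :
    b ∈ Set.range (X.presheaf.map (homOfLE le_top : U ⟶ ⊤).op).hom := by
  classical
  by_cases hU : Nonempty U
  swap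
  · have hbot : U = ⊥ := by
      ext x
      simp only [Opens.coe_bot, Set.mem_empty_iff_false, iff_false]
      intro hx
      exact hU ⟨⟨x, hx⟩⟩
    subst hbot
    exact ⟨0, Subsingleton.elim _ _⟩
  have htop : Nonempty (⊤ : X.Opens) := ⟨⟨hU.some.1, trivial⟩⟩
  let η : X := genericPoint X
  have hη : ∀ V : X.Opens, Nonempty V → η ∈ V := fun V hV =>
    ((genericPoint_spec X).mem_open_set_iff V.isOpen).mpr (by simpa using hV)
  let β : X.functionField := X.germToFunctionField U b
  obtain ⟨p, hp, hpb⟩ := hb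
  -- `β` is integral over every stalk
  have hβtop : Polynomial.eval₂ (X.germToFunctionField ⊤).hom β p = 0 := by
    have h1 := congrArg (X.germToFunctionField U).hom hpb
    rw [map_zero, Polynomial.hom_eval₂] at h1
    have h2 : (X.germToFunctionField U).hom.comp
        (X.presheaf.map (homOfLE le_top : U ⟶ ⊤).op).hom = (X.germToFunctionField ⊤).hom := by
      rw [← CommRingCat.hom_comp]
      congr 1
      exact X.presheaf.germ_res (homOfLE le_top : U ⟶ ⊤) η (hη U hU)
    rw [h2] at h1
    exact h1
  have hstalk : ∀ x : X, ∃ c : X.presheaf.stalk x, algebraMap _ X.functionField c = β := by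
    intro x
    have hint : IsIntegral (X.presheaf.stalk x) β := by
      refine ⟨p.map (X.presheaf.germ ⊤ x trivial).hom, hp.map _, ?_⟩
      rw [Polynomial.eval₂_map]
      have h3 : (algebraMap (X.presheaf.stalk x) X.functionField).comp
          (X.presheaf.germ ⊤ x trivial).hom = (X.germToFunctionField ⊤).hom := by
        ext a
        exact X.algebraMap_germ_eq_germToFunctionField (U := ⊤) trivial a
      rw [h3]
      exact hβtop
    have := hX x
    exact IsIntegrallyClosed.algebraMap_eq_of_integral hint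
  -- local sections
  have hloc : ∀ x : X, ∃ (V : X.Opens) (hxV : x ∈ V) (s : Γ(X, V)),
      ∀ hV : Nonempty V, (@Scheme.germToFunctionField X _ V hV).hom s = β := by
    intro x
    obtain ⟨c, hc⟩ := hstalk x
    obtain ⟨V, hxV, s, hs⟩ := X.presheaf.exists_germ_eq c
    refine ⟨V, hxV, s, fun hV => ?_⟩
    rw [← hc, ← hs]
    exact (X.algebraMap_germ_eq_germToFunctionField (U := V) hxV s).symm
  choose V hxV s hs using hloc
  have hVne : ∀ x, Nonempty (V x) := fun x => ⟨⟨x, hxV x⟩⟩
  have hcompat : TopCat.Presheaf.IsCompatible X.presheaf V s := by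
    intro x y
    have hne : Nonempty (V x ⊓ V y : X.Opens) := ⟨⟨η, hη _ (hVne x), hη _ (hVne y)⟩⟩
    apply X.germToFunctionField_injective (V x ⊓ V y)
    have e1 := X.presheaf.germ_res_apply (Opens.infLELeft (V x) (V y)) η (hη _ hne) (s x)
    have e2 := X.presheaf.germ_res_apply (Opens.infLERight (V x) (V y)) η (hη _ hne) (s y)
    change X.presheaf.germ _ η _ _ = X.presheaf.germ _ η _ _
    rw [e1, e2]
    exact (hs x (hVne x)).trans (hs y (hVne y)).symm
  obtain ⟨c, hc, -⟩ := X.sheaf.existsUnique_gluing' V ⊤ (fun x => homOfLE le_top)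
    (fun x _ => Opens.mem_iSup.mpr ⟨x, hxV x⟩) s hcompat
  refine ⟨c, ?_⟩
  apply X.germToFunctionField_injective U
  have e3 := X.presheaf.germ_res_apply (homOfLE le_top : U ⟶ ⊤) η (hη U hU) c
  change X.presheaf.germ U η _ _ = β
  rw [e3]
  -- compare with a local section
  have x0 : X := hU.some.1
  have e4 := X.presheaf.germ_res_apply (homOfLE le_top : V x0 ⟶ ⊤) η (hη _ (hVne x0)) c
  rw [← e4]
  have := hc x0
  change X.presheaf.germ (V x0) η _ ((X.presheaf.map (homOfLE le_top : V x0 ⟶ ⊤).op) c) = β
  rw [show (X.presheaf.map (homOfLE le_top : V x0 ⟶ ⊤).op) c = s x0 from this]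
  exact hs x0 (hVne x0)

end Groth.Agent.Helper26.NormExt
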