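import Mathlib
import Groth.Prelude.Def_ModFun2
import Groth.Agent.S1561
import Groth.Agent.Lib.Helper20.VBSat4
import Groth.Agent.Lib.Helper20.HiggsSlope
import Groth.Agent.Lib.Helper26.NormDec
import Groth.Agent.Lib.Helper26.NefExt

/-!
# Normalized rank-two bundles: the cokernel of a nonzero section is invertible (S12430)
-/

set_option autoImplicit false
set_option maxHeartbeats 400000
set_option linter.style.haveILetI false
set_option linter.unusedSectionVars false
set_option linter.unusedVariables false
universe u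
open CategoryTheory CategoryTheory.Limits AlgebraicGeometry Opposite TopologicalSpace

namespace Groth.Agent.Helper26.NormSec

variable (k : Type u) [Field k] (X : Scheme.{u}) [X.Over (Spec (CommRingCat.of k))]
  [IsIntegral X] [IsProper (X ↘ Spec (CommRingCat.of k))]

/-- over an algebraically closed (indeed perfect) field, an integral proper scheme with regular
local rings is smooth. -/
theorem smooth_of_hreg [PerfectField k]
    (hreg : ∀ x : X, IsRegularLocalRing (X.presheaf.stalk x)) :
    Smooth (X ↘ Spec (CommRingCat.of k)) := by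
  haveI : LocallyOfFinitePresentation (X ↘ Spec (CommRingCat.of k)) :=
    LocallyOfFinitePresentation.iff_locallyOfFiniteType.mpr inferInstance
  have h := (Groth.Agent.S1561.result k X).1
  rw [← Scheme.Hom.smoothLocus_eq_top_iff, eq_top_iff]
  intro x _
  exact (h x).2 (hreg x)

/-- an invertible submodule `L` of a normalized module has `deg L ≤ 0`. -/
theorem deg_le_zero_of_mono (hdim : topologicalKrullDim X = 1) (E : X.Modules)
    (hneg : ∀ M : X.Modules, PicF.IsInvertible M → Curv2.deg k X M 1 < 0 →
      Subsingleton (Coh.HH X (CohB1.tensorMod E M) 0))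
    (L : X.Modules) (hL : PicF.IsInvertible L) (ι : L ⟶ E) [Mono ι] :
    Curv2.deg k X L 1 ≤ 0 := by
  by_contra hpos
  have hpos' := not_le.1 hpos
  obtain ⟨N, hN, ⟨e⟩, -⟩ := Groth.Agent.Helper13.InvDual.exists_inverse L hL
  have hL1 := Groth.Agent.Helper26.IntLF.isFinLocFreeOfRank_one_of_isInvertible L hL
  have hN1 := Groth.Agent.Helper26.IntLF.isFinLocFreeOfRank_one_of_isInvertible N hN
  have hdt := Groth.Agent.Helper26.DegTensor.deg_tensor k X hdim.le L N 1 1 hL1 hN1
  have hiso := Groth.Agent.Helper26.DegTensor.deg_of_iso k X e 1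
  have hO := Groth.Agent.Helper13.CurveDeg.deg_structureModule k X
  have hNdeg : Curv2.deg k X N 1 < 0 := by
    simp only [mul_one, Nat.cast_one, one_mul] at hdt
    rw [hiso, hO] at hdt
    linarith
  have hsub := hneg N hN hNdeg
  haveI : Mono (Groth.Agent.Helper13.Tensor.map ι (𝟙 N)) :=
    Groth.Agent.Helper20.VBMap.mono_map_id ι N hN
  let j : Coh.structureModule X ⟶ CohB1.tensorMod E N :=
    e.inv ≫ Groth.Agent.Helper13.Tensor.map ι (𝟙 N)
  haveI : Mono j := mono_comp _ _
  have hinj := Groth.Agent.Helper26.SerreBun.HHlin_injective_of_mono k j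
  haveI := Groth.Agent.Helper3.CurveHopf.nontrivial_h0_structure X
  obtain ⟨a, b, hab⟩ := exists_pair_ne (Coh.HH X (Coh.structureModule X) 0)
  exact hab (hinj (Subsingleton.elim _ _))

theorem main [Smooth (X ↘ Spec (CommRingCat.of k))] (hdim : topologicalKrullDim X = 1)
    (E : X.Modules) (hE : FlatMod.IsFinLocFreeOfRank 2 E)
    (hneg : ∀ M : X.Modules, PicF.IsInvertible M → Curv2.deg k X M 1 < 0 →
      Subsingleton (Coh.HH X (CohB1.tensorMod E M) 0))
    (s : Coh.structureModule X ⟶ E) (hs : s ≠ 0) :
    PicF.IsInvertible (cokernel s) := by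
  have hO1 : FlatMod.IsFinLocFreeOfRank 1 (Coh.structureModule X) :=
    Groth.Agent.Helper26.IntLF.isFinLocFreeOfRank_one_of_isInvertible _
      Groth.Agent.Helper13.Inv.isInvertible_structureModule
  have hEl := Groth.Agent.Helper20.VBIndec.isFinLocFree_of_rank 2 E hE
  haveI : Mono s := by
    obtain ⟨rK, rI, hKr, hIr, hsum, -, hK0, hI0, -, -⟩ :=
      Groth.Agent.Helper20.VBMap.ker_coim_pkg k hdim 1 hO1 hEl s
    have hI : rI ≠ 0 := by
      intro h
      apply hs
      rw [← Abelian.coimage.fac s, (hI0 h).eq_of_tgt (Abelian.coimage.π s) 0, zero_comp]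
    have hK : rK = 0 := by omega
    exact Preadditive.mono_of_kernel_zero ((hK0 hK).eq_of_src _ _)
  obtain ⟨J, a, j, rQ, hjm, haj, hJr, hQr, hrk, hdeg, hle, hiso, hQ0⟩ :=
    Groth.Agent.Helper20.VBMap.sat_pkg k hdim 1 2 hO1 hE s
  haveI := hjm
  have hrQ : rQ = 1 := by omega
  subst hrQ
  have hJi : PicF.IsInvertible J := Groth.Agent.Helper26.NefExt.isInvertible_of_rank_one J hJr
  have hJ0 : Curv2.deg k X J 1 ≤ 0 := deg_le_zero_of_mono k X hdim E hneg J hJi j
  have hO := Groth.Agent.Helper13.CurveDeg.deg_structureModule k X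
  rw [hO] at hle
  haveI : IsIso a := hiso (by rw [hO]; exact le_antisymm hJ0 hle)
  have e : cokernel s ≅ cokernel j := cokernelIsoOfEq haj.symm ≪≫ cokernelEpiComp a j
  exact Groth.Agent.Helper26.NefExt.isInvertible_of_rank_one _
    (Groth.Agent.Helper13.LocFree.isFinLocFreeOfRank_of_iso e.symm hQr)

/-- S12430: regular curve over an algebraically closed field. -/
theorem main' [IsAlgClosed k] (hdim : topologicalKrullDim X = 1)
    (hreg : ∀ x : X, IsRegularLocalRing (X.presheaf.stalk x))
    (E : X.Modules) (hE : FlatMod.IsFinLocFreeOfRank 2 E)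
    (hneg : ∀ M : X.Modules, PicF.IsInvertible M → Curv2.deg k X M 1 < 0 →
      Subsingleton (Coh.HH X (CohB1.tensorMod E M) 0))
    (s : Coh.structureModule X ⟶ E) (hs : s ≠ 0) :
    PicF.IsInvertible (cokernel s) := by
  haveI := smooth_of_hreg k X hreg
  exact main k X hdim E hE hneg s hs

end Groth.Agent.Helper26.NormSec
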