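import Mathlib

namespace Groth.Agent.Helper26.NumGcd

open Finset

/-- the product -/
def Pi (g ℓ : ℕ) : ℕ := ∏ a ∈ Icc 1 g, (ℓ ^ (2 * a) - 1)

/-- the exponent for odd `p` -/
def E (g p : ℕ) : ℕ := (2 * g) / (p - 1) + ∑ i ∈ Icc 1 ((2 * g) / (p - 1)), padicValNat p i

/-- the number N(g) -/
def N (g : ℕ) : ℕ := 2 ^ (3 * g + padicValNat 2 g.factorial) *
  ∏ p ∈ (Icc 3 (2 * g + 1)).filter Nat.Prime, p ^ E g p

theorem factor_ne_zero {ℓ a : ℕ} (hℓ : 2 ≤ ℓ) (ha : 1 ≤ a) : ℓ ^ (2 * a) - 1 ≠ 0 := by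
  have : 2 ^ (2 * a) ≤ ℓ ^ (2 * a) := Nat.pow_le_pow_left hℓ _
  have h2 : 2 ^ 1 ≤ 2 ^ (2 * a) := Nat.pow_le_pow_right (by norm_num) (by omega)
  omega

theorem Pi_ne_zero {g ℓ : ℕ} (hℓ : 2 ≤ ℓ) : Pi g ℓ ≠ 0 := by
  unfold Pi
  rw [Finset.prod_ne_zero_iff]
  intro a ha
  exact factor_ne_zero hℓ (Finset.mem_Icc.1 ha).1

theorem Pi_factorization {g ℓ : ℕ} (hℓ : 2 ≤ ℓ) (p : ℕ) (hp : p.Prime) :
    (Pi g ℓ).factorization p = ∑ a ∈ Icc 1 g, padicValNat p (ℓ ^ (2 * a) - 1) := by
  unfold Pi
  rw [Nat.factorization_prod (fun a ha => factor_ne_zero hℓ (Finset.mem_Icc.1 ha).1)]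
  rw [Finsupp.finsetSum_apply]
  apply Finset.sum_congr rfl
  intro a _
  rw [Nat.factorization_def _ hp]

theorem padicValNat_factorial_eq_sum (p g : ℕ) (hp : p.Prime) :
    padicValNat p g.factorial = ∑ a ∈ Icc 1 g, padicValNat p a := by
  have : Fact p.Prime := ⟨hp⟩
  induction g with
  | zero => simp
  | succ g ih =>
    rw [Nat.factorial_succ, padicValNat.mul (by omega) (Nat.factorial_ne_zero g), ih,
      Finset.sum_Icc_succ_top (by omega), add_comm]

theorem N_ne_zero (g : ℕ) : N g ≠ 0 := by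
  unfold N
  apply mul_ne_zero (by positivity)
  rw [Finset.prod_ne_zero_iff]
  intro p hp
  have := (Finset.mem_filter.1 hp).2.pos
  positivity

theorem E_eq_zero {g p : ℕ} (hp : 2 * g + 1 < p) : E g p = 0 := by
  unfold E
  have : 2 * g / (p - 1) = 0 := Nat.div_eq_of_lt (by omega)
  rw [this]
  simp

/-- valuations of `N g` -/
theorem N_factorization_two (g : ℕ) :
    (N g).factorization 2 = 3 * g + padicValNat 2 g.factorial := by
  unfold N
  rw [Nat.factorization_mul (by positivity) (by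
    rw [Finset.prod_ne_zero_iff]; intro p hp
    have := (Finset.mem_filter.1 hp).2.pos
    positivity)]
  rw [Finsupp.add_apply, Nat.factorization_pow, Finsupp.smul_apply, Nat.prime_two.factorization,
    Finsupp.single_eq_same, smul_eq_mul, mul_one]
  rw [Nat.factorization_prod (by
    intro p hp
    have := (Finset.mem_filter.1 hp).2.pos
    positivity)]
  rw [Finsupp.finsetSum_apply]
  rw [Finset.sum_eq_zero, add_zero]
  intro q hq
  have hq' := Finset.mem_filter.1 hq
  have hq3 : 3 ≤ q := (Finset.mem_Icc.1 hq'.1).1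
  rw [Nat.factorization_pow, Finsupp.smul_apply, hq'.2.factorization,
    Finsupp.single_eq_of_ne (by omega), smul_zero]

theorem N_factorization_odd (g p : ℕ) (hp : p.Prime) (hp2 : p ≠ 2) :
    (N g).factorization p = E g p := by
  have hp3 : 3 ≤ p := by
    have := hp.two_le
    omega
  unfold N
  rw [Nat.factorization_mul (by positivity) (by
    rw [Finset.prod_ne_zero_iff]; intro p hp
    have := (Finset.mem_filter.1 hp).2.pos
    positivity)]
  rw [Finsupp.add_apply, Nat.factorization_pow, Finsupp.smul_apply, Nat.prime_two.factorization,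
    Finsupp.single_eq_of_ne (by omega), smul_zero, zero_add]
  rw [Nat.factorization_prod (by
    intro p hp
    have := (Finset.mem_filter.1 hp).2.pos
    positivity)]
  rw [Finsupp.finsetSum_apply]
  by_cases hmem : p ∈ (Icc 3 (2 * g + 1)).filter Nat.Prime
  · rw [Finset.sum_eq_single_of_mem p hmem]
    · rw [Nat.factorization_pow, Finsupp.smul_apply, hp.factorization, Finsupp.single_eq_same,
        smul_eq_mul, mul_one]
    · intro q hq hqp
      have hq' := Finset.mem_filter.1 hq
      rw [Nat.factorization_pow, Finsupp.smul_apply, hq'.2.factorization,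
        Finsupp.single_eq_of_ne (Ne.symm hqp), smul_zero]
  · have hlarge : 2 * g + 1 < p := by
      by_contra hcon
      apply hmem
      rw [Finset.mem_filter, Finset.mem_Icc]
      exact ⟨⟨hp3, by omega⟩, hp⟩
    rw [E_eq_zero hlarge]
    apply Finset.sum_eq_zero
    intro q hq
    have hq' := Finset.mem_filter.1 hq
    have hqp : q ≠ p := by
      rintro rfl
      exact hmem hq
    rw [Nat.factorization_pow, Finsupp.smul_apply, hq'.2.factorization,
      Finsupp.single_eq_of_ne (Ne.symm hqp), smul_zero]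

end Groth.Agent.Helper26.NumGcd
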