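import Mathlib
import Groth.Agent.Lib.Helper26.NumGcd1

namespace Groth.Agent.Helper26.NumGcd

open Finset

theorem val2_two_mul (a : ℕ) (ha : a ≠ 0) : padicValNat 2 (2 * a) = 1 + padicValNat 2 a := by
  rw [padicValNat.mul (by norm_num) ha, padicValNat_self]

theorem sum_three_add (g : ℕ) :
    ∑ a ∈ Icc 1 g, (3 + padicValNat 2 a) = 3 * g + padicValNat 2 g.factorial := by
  rw [Finset.sum_add_distrib, padicValNat_factorial_eq_sum 2 g Nat.prime_two]
  simp [mul_comm]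

theorem lower_two {g ℓ : ℕ} (hℓ : ℓ.Prime) (hgℓ : 2 * g + 1 < ℓ) :
    3 * g + padicValNat 2 g.factorial ≤ (Pi g ℓ).factorization 2 := by
  rw [Pi_factorization hℓ.two_le 2 Nat.prime_two, ← sum_three_add]
  apply Finset.sum_le_sum
  intro a ha
  have ha1 : 1 ≤ a := (Finset.mem_Icc.1 ha).1
  have hag : a ≤ g := (Finset.mem_Icc.1 ha).2
  have hodd : ¬ 2 ∣ ℓ := by
    intro h
    have := (Nat.prime_dvd_prime_iff_eq Nat.prime_two hℓ).1 h
    omega
  have := padicValNat.pow_two_sub_one_ge (x := ℓ) (n := 2 * a) hℓ.one_lt hodd (by omega)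
    (even_two_mul a)
  rw [val2_two_mul a (by omega)] at this
  omega

theorem exists_two (g B : ℕ) :
    ∃ ℓ : ℕ, ℓ.Prime ∧ B < ℓ ∧ (Pi g ℓ).factorization 2 = 3 * g + padicValNat 2 g.factorial := by
  obtain ⟨ℓ, hℓB, hℓ, hmod⟩ := Nat.forall_exists_prime_gt_and_modEq B (q := 8) (a := 3)
    (by norm_num) (by norm_num)
  refine ⟨ℓ, hℓ, hℓB, ?_⟩
  rw [Pi_factorization hℓ.two_le 2 Nat.prime_two, ← sum_three_add]
  apply Finset.sum_congr rfl
  intro a ha
  have ha1 : 1 ≤ a := (Finset.mem_Icc.1 ha).1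
  have hmod' : ℓ % 8 = 3 := hmod
  obtain ⟨k, hk⟩ : ∃ k, ℓ = 8 * k + 3 := ⟨ℓ / 8, by omega⟩
  have hodd : ¬ 2 ∣ ℓ := by omega
  have h1 : padicValNat 2 (ℓ + 1) = 2 := by
    have : ℓ + 1 = 2 ^ 2 * (2 * k + 1) := by rw [hk]; ring
    rw [this, padicValNat.mul (by norm_num) (by omega), padicValNat.prime_pow,
      padicValNat.eq_zero_of_not_dvd (by omega)]
  have h2 : padicValNat 2 (ℓ - 1) = 1 := by
    have : ℓ - 1 = 2 * (4 * k + 1) := by rw [hk]; omega
    rw [this, padicValNat.mul (by norm_num) (by omega), padicValNat_self,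
      padicValNat.eq_zero_of_not_dvd (by omega)]
  have := padicValNat.pow_two_sub_one (x := ℓ) (n := 2 * a) hℓ.one_lt hodd (by omega)
    (even_two_mul a)
  rw [val2_two_mul a (by omega), h1, h2] at this
  omega

end Groth.Agent.Helper26.NumGcd
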