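import Mathlib
import Groth.Agent.Lib.Helper26.NumGcd2

namespace Groth.Agent.Helper26.NumGcd

open Finset

variable {p : ℕ} [hp : Fact p.Prime]

omit hp in
theorem E_eq_sum (g : ℕ) : E g p = ∑ i ∈ Icc 1 ((2 * g) / (p - 1)), (1 + padicValNat p i) := by
  unfold E
  rw [Finset.sum_add_distrib]
  simp

/-- Fermat -/
theorem dvd_pow_sub_one {ℓ : ℕ} (hℓ : ¬ p ∣ ℓ) : p ∣ ℓ ^ (p - 1) - 1 := by
  have hcop : Nat.Coprime ℓ p := ((Nat.Prime.coprime_iff_not_dvd hp.out).2 hℓ).symm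
  have h := Nat.ModEq.pow_totient hcop
  rw [Nat.totient_prime hp.out] at h
  exact (Nat.modEq_iff_dvd' (Nat.one_le_pow _ _ (Nat.pos_of_ne_zero (by
    rintro rfl; exact hℓ (dvd_zero p)))) ).1 h.symm

theorem one_lt_pow' {ℓ n : ℕ} (hℓ : 2 ≤ ℓ) (hn : n ≠ 0) : 1 < ℓ ^ n :=
  Nat.one_lt_pow hn (by omega)

/-- LTE applied to `(ℓ^m)^i - 1`. -/
theorem val_pow_mul (hp2 : p ≠ 2) {ℓ m i : ℕ} (hℓ2 : 2 ≤ ℓ) (hℓ : ¬ p ∣ ℓ) (hm : m ≠ 0)
    (hdvd : p ∣ ℓ ^ m - 1) (hi : i ≠ 0) :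
    padicValNat p (ℓ ^ (m * i) - 1) = padicValNat p (ℓ ^ m - 1) + padicValNat p i := by
  have hodd : Odd p := hp.out.odd_of_ne_two hp2
  have := padicValNat.pow_sub_pow (p := p) hodd (x := ℓ ^ m) (y := 1) (one_lt_pow' hℓ2 hm)
    hdvd (fun h => hℓ (hp.out.dvd_of_dvd_pow h)) hi
  rw [one_pow, ← pow_mul] at this
  exact this

/-- reindexing facts -/
theorem reindex_mem {g h i : ℕ} (hph : p - 1 = 2 * h) (hi : i ∈ Icc 1 ((2 * g) / (p - 1))) :
    h * i ∈ Icc 1 g := by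
  have hp2 := hp.out.two_le
  have hi1 : 1 ≤ i := (Finset.mem_Icc.1 hi).1
  have hi2 : i ≤ 2 * g / (p - 1) := (Finset.mem_Icc.1 hi).2
  have hpos : 0 < p - 1 := by omega
  have h3 : i * (p - 1) ≤ 2 * g := (Nat.le_div_iff_mul_le hpos).1 hi2
  rw [hph] at h3
  have hh : 1 ≤ h := by omega
  rw [Finset.mem_Icc]
  constructor
  · exact Nat.one_le_iff_ne_zero.2 (Nat.mul_ne_zero (by omega) (by omega))
  · nlinarith

theorem lower_odd (hp2 : p ≠ 2) {g ℓ : ℕ} (hℓ : ℓ.Prime) (hℓp : ℓ ≠ p) :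
    E g p ≤ (Pi g ℓ).factorization p := by
  classical
  have hpodd : Odd p := hp.out.odd_of_ne_two hp2
  obtain ⟨h, hh⟩ := hpodd
  have hph : p - 1 = 2 * h := by omega
  have hh1 : 1 ≤ h := by have := hp.out.two_le; omega
  have hndvd : ¬ p ∣ ℓ := fun hd => hℓp ((Nat.prime_dvd_prime_iff_eq hp.out hℓ).1 hd).symm
  rw [Pi_factorization hℓ.two_le p hp.out, E_eq_sum]
  calc ∑ i ∈ Icc 1 ((2 * g) / (p - 1)), (1 + padicValNat p i)
      ≤ ∑ i ∈ Icc 1 ((2 * g) / (p - 1)), padicValNat p (ℓ ^ (2 * (h * i)) - 1) := by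
        apply Finset.sum_le_sum
        intro i hi
        have hi1 : i ≠ 0 := by have := (Finset.mem_Icc.1 hi).1; omega
        have := val_pow_mul hp2 hℓ.two_le hndvd (m := p - 1) (by omega) (dvd_pow_sub_one hndvd) hi1
        rw [hph, mul_assoc] at this
        rw [this]
        have h1 : 1 ≤ padicValNat p (ℓ ^ (2 * h) - 1) := by
          apply one_le_padicValNat_of_dvd
          · have := one_lt_pow' hℓ.two_le (n := 2 * h) (by omega)
            omega
          · rw [← hph]; exact dvd_pow_sub_one hndvd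
        omega
    _ = ∑ a ∈ (Icc 1 ((2 * g) / (p - 1))).image (fun i => h * i), padicValNat p (ℓ ^ (2 * a) - 1) := by
        rw [Finset.sum_image]
        intro i _ j _ hij
        exact Nat.eq_of_mul_eq_mul_left (by omega) hij
    _ ≤ ∑ a ∈ Icc 1 g, padicValNat p (ℓ ^ (2 * a) - 1) := by
        apply Finset.sum_le_sum_of_subset
        intro a ha
        obtain ⟨i, hi, rfl⟩ := Finset.mem_image.1 ha
        exact reindex_mem hph hi

theorem exists_odd (hp2 : p ≠ 2) (g B : ℕ) :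
    ∃ ℓ : ℕ, ℓ.Prime ∧ B < ℓ ∧ (Pi g ℓ).factorization p = E g p := by
  classical
  have hpodd : Odd p := hp.out.odd_of_ne_two hp2
  obtain ⟨h, hh⟩ := hpodd
  have hph : p - 1 = 2 * h := by omega
  have hp2le := hp.out.two_le
  have hh1 : 1 ≤ h := by omega
  have : NeZero (p ^ 2) := ⟨pow_ne_zero 2 hp.out.ne_zero⟩
  obtain ⟨r, hr⟩ := isCyclic_iff_exists_orderOf_eq_natCard.mp
    (ZMod.isCyclic_units_of_prime_pow p hp.out hp2 2)
  rw [Nat.card_eq_fintype_card, ZMod.card_units_eq_totient, Nat.totient_prime_pow hp.out (by norm_num)] at hr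
  obtain ⟨ℓ, hℓB, hℓ, hℓr⟩ := Nat.forall_exists_prime_gt_and_eq_mod (q := p ^ 2) (a := (r : ZMod (p ^ 2)))
    r.isUnit B
  have hndvd : ¬ p ∣ ℓ := by
    intro hd
    have hunit : IsUnit ((ℓ : ℕ) : ZMod (p ^ 2)) := hℓr ▸ r.isUnit
    rw [ZMod.isUnit_iff_coprime] at hunit
    have : p ∣ Nat.gcd ℓ (p ^ 2) := Nat.dvd_gcd hd (dvd_pow_self p (by norm_num))
    rw [hunit] at this
    exact hp.out.one_lt.ne' (Nat.dvd_one.1 this)
  -- Key property
  have hK : ∀ n : ℕ, p ^ 2 ∣ ℓ ^ n - 1 → p * (p - 1) ∣ n := by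
    intro n hn
    have h1 : ((ℓ : ℕ) : ZMod (p ^ 2)) ^ n = 1 := by
      have hle : 1 ≤ ℓ ^ n := Nat.one_le_pow _ _ hℓ.pos
      have := (ZMod.natCast_eq_zero_iff (ℓ ^ n - 1) (p ^ 2)).2 hn
      rw [Nat.cast_sub hle, Nat.cast_pow, Nat.cast_one, sub_eq_zero] at this
      exact this
    rw [hℓr] at h1
    have h2 : r ^ n = 1 := by
      apply Units.ext
      rw [Units.val_pow_eq_pow_val, h1, Units.val_one]
    have := orderOf_dvd_of_pow_eq_one h2
    rw [hr] at this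
    simpa using this
  have hK1 : padicValNat p (ℓ ^ (p - 1) - 1) = 1 := by
    have hne : ℓ ^ (p - 1) - 1 ≠ 0 := by
      have := one_lt_pow' hℓ.two_le (n := p - 1) (by omega)
      omega
    have h1 : 1 ≤ padicValNat p (ℓ ^ (p - 1) - 1) :=
      one_le_padicValNat_of_dvd hne (dvd_pow_sub_one hndvd)
    have h2 : ¬ 2 ≤ padicValNat p (ℓ ^ (p - 1) - 1) := by
      intro h2
      have := hK (p - 1) ((padicValNat_dvd_iff_le hne).2 h2)
      have hle := Nat.le_of_dvd (by omega) this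
      have : 2 * (p - 1) ≤ p * (p - 1) := Nat.mul_le_mul_right _ hp2le
      omega
    omega
  have hK2 : ∀ n : ℕ, n ≠ 0 → p ∣ ℓ ^ n - 1 → (p - 1) ∣ n := by
    intro n hn0 hn
    have hne : ℓ ^ (n * p) - 1 ≠ 0 := by
      have := one_lt_pow' hℓ.two_le (n := n * p) (Nat.mul_ne_zero hn0 hp.out.ne_zero)
      omega
    have hne' : ℓ ^ n - 1 ≠ 0 := by
      have := one_lt_pow' hℓ.two_le (n := n) hn0
      omega
    have hv := val_pow_mul hp2 hℓ.two_le hndvd hn0 hn hp.out.ne_zero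
    rw [padicValNat_self] at hv
    have h1 : 1 ≤ padicValNat p (ℓ ^ n - 1) := one_le_padicValNat_of_dvd hne' hn
    have h2 : p ^ 2 ∣ ℓ ^ (n * p) - 1 := (padicValNat_dvd_iff_le hne).2 (by omega)
    have h3 := hK _ h2
    rw [mul_comm n p] at h3
    exact Nat.dvd_of_mul_dvd_mul_left hp.out.pos h3
  refine ⟨ℓ, hℓ, hℓB, ?_⟩
  rw [Pi_factorization hℓ.two_le p hp.out, E_eq_sum]
  symm
  apply Finset.sum_of_injOn (fun i => h * i)
  · intro i _ j _ hij
    exact Nat.eq_of_mul_eq_mul_left (by omega) hij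
  · intro i hi
    exact reindex_mem hph hi
  · intro a ha hnot
    apply padicValNat.eq_zero_of_not_dvd
    intro hd
    have ha1 : 1 ≤ a := (Finset.mem_Icc.1 ha).1
    have hag : a ≤ g := (Finset.mem_Icc.1 ha).2
    obtain ⟨i, hi⟩ := hK2 (2 * a) (by omega) hd
    apply hnot
    rw [hph] at hi
    have hai : a = h * i := by
      have : 2 * a = 2 * (h * i) := by rw [hi]; ring
      omega
    refine ⟨i, ?_, hai.symm⟩
    rw [Finset.coe_Icc, Set.mem_Icc]
    constructor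
    · rcases Nat.eq_zero_or_pos i with h0 | h0
      · rw [h0] at hai; omega
      · exact h0
    · rw [Nat.le_div_iff_mul_le (by omega), hph]
      calc i * (2 * h) = 2 * (h * i) := by ring
        _ = 2 * a := by rw [hai]
        _ ≤ 2 * g := by omega
  · intro i hi
    have hi1 : i ≠ 0 := by have := (Finset.mem_Icc.1 hi).1; omega
    have := val_pow_mul hp2 hℓ.two_le hndvd (m := p - 1) (by omega) (dvd_pow_sub_one hndvd) hi1
    rw [hK1] at this
    rw [← this, hph, mul_assoc]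

end Groth.Agent.Helper26.NumGcd
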