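import Mathlib
import Groth.Agent.Lib.Helper26.NumGcd3

namespace Groth.Agent.Helper26.NumGcd

open Finset

theorem N_dvd_Pi {g ℓ : ℕ} (hℓ : ℓ.Prime) (hgℓ : 2 * g + 1 < ℓ) : N g ∣ Pi g ℓ := by
  rw [← Nat.factorization_le_iff_dvd (N_ne_zero g) (Pi_ne_zero hℓ.two_le)]
  intro p
  by_cases hp : p.Prime
  · by_cases hp2 : p = 2
    · subst hp2
      rw [N_factorization_two]
      exact lower_two hℓ hgℓ
    · rw [N_factorization_odd g p hp hp2]
      by_cases hℓp : ℓ = p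
      · subst hℓp
        rw [E_eq_zero hgℓ]
        exact Nat.zero_le _
      · have : Fact p.Prime := ⟨hp⟩
        exact lower_odd hp2 hℓ hℓp
  · rw [Nat.factorization_eq_zero_of_not_prime _ hp]
    exact Nat.zero_le _

theorem main (g B d : ℕ) (hB : 2 * g + 1 ≤ B) :
    (∀ ℓ : ℕ, ℓ.Prime → B < ℓ → d ∣ ∏ a ∈ Icc 1 g, (ℓ ^ (2 * a) - 1)) ↔
      d ∣ 2 ^ (3 * g + padicValNat 2 g.factorial) *
        ∏ p ∈ (Icc 3 (2 * g + 1)).filter Nat.Prime,
          p ^ ((2 * g) / (p - 1) + ∑ i ∈ Icc 1 ((2 * g) / (p - 1)), padicValNat p i) := by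
  change (∀ ℓ : ℕ, ℓ.Prime → B < ℓ → d ∣ Pi g ℓ) ↔ d ∣ N g
  constructor
  · intro hall
    have hd : d ≠ 0 := by
      obtain ⟨ℓ, hℓB, hℓ⟩ := Nat.exists_infinite_primes (B + 1)
      exact ne_zero_of_dvd_ne_zero (Pi_ne_zero hℓ.two_le) (hall ℓ hℓ (by omega))
    rw [← Nat.factorization_le_iff_dvd hd (N_ne_zero g)]
    intro p
    by_cases hp : p.Prime
    · by_cases hp2 : p = 2
      · subst hp2
        obtain ⟨ℓ, hℓ, hℓB, hval⟩ := exists_two g B
        rw [N_factorization_two, ← hval]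
        exact (Nat.factorization_le_iff_dvd hd (Pi_ne_zero hℓ.two_le)).2 (hall ℓ hℓ hℓB) 2
      · have : Fact p.Prime := ⟨hp⟩
        obtain ⟨ℓ, hℓ, hℓB, hval⟩ := exists_odd (p := p) hp2 g B
        rw [N_factorization_odd g p hp hp2, ← hval]
        exact (Nat.factorization_le_iff_dvd hd (Pi_ne_zero hℓ.two_le)).2 (hall ℓ hℓ hℓB) p
    · rw [Nat.factorization_eq_zero_of_not_prime _ hp]
      exact Nat.zero_le _
  · intro hdN ℓ hℓ hℓB
    exact hdN.trans (N_dvd_Pi hℓ (by omega))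

end Groth.Agent.Helper26.NumGcd
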