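import Mathlib
import Groth.Agent.Lib.Helper26.QSplit1

/-! Rank-one lemma and hyperbolic families. -/

namespace Groth.Agent.Lib.Helper26.QSplit

open Matrix

variable {ι : Type*} [Fintype ι] [DecidableEq ι]
variable {R S : Type*} [CommRing R] [CommRing S]

theorem rank_one (c : Matrix ι ι R) (q : Ideal R) [q.IsPrime] (T : Submodule R (ι → R))
    (h : ∀ x ∈ T, ∀ y ∈ T, dd c x y ∈ q) :
    ∃ s, s ∉ q ∧ ∃ x₀ ∈ T, ∀ y ∈ T, ∀ y' ∈ T, s * bl c y y' - bl c x₀ y * bl c x₀ y' ∈ q := by
  have hsq : ∀ a : R, a ^ 2 ∈ q → a ∈ q := fun a ha => Ideal.IsPrime.mem_of_pow_mem ‹_› 2 ha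
  have triv : (∀ x ∈ T, ∀ y ∈ T, bl c x y ∈ q) →
      ∃ s, s ∉ q ∧ ∃ x₀ ∈ T, ∀ y ∈ T, ∀ y' ∈ T, s * bl c y y' - bl c x₀ y * bl c x₀ y' ∈ q := by
    intro hb
    refine ⟨1, ?_, 0, T.zero_mem, ?_⟩
    · intro h1; exact Ideal.IsPrime.ne_top ‹_› ((Ideal.eq_top_iff_one q).mpr h1)
    · intro y hy y' hy'
      simpa using hb y hy y' hy'
  by_cases h2 : (2 : R) ∈ q
  · apply triv
    intro x hx y hy
    apply hsq
    have h1 := h x hx y hy
    have : bl c x y ^ 2 = dd c x y + 2 * (2 * qf c x * qf c y) := by unfold dd; ring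
    rw [this]
    exact q.add_mem h1 (q.mul_mem_right _ h2)
  · have hP : ∀ x ∈ T, ∀ y ∈ T, ∀ y' ∈ T,
        bl c x y * bl c x y' - bl c x x * bl c y y' ∈ q := by
      intro x hx y hy y' hy'
      have h1 := h x hx (y + y') (T.add_mem hy hy')
      have h3 := q.sub_mem (q.sub_mem h1 (h x hx y hy)) (h x hx y' hy')
      have : dd c x (y + y') - dd c x y - dd c x y' =
          2 * (bl c x y * bl c x y' - bl c x x * bl c y y') := by
        unfold dd
        rw [map_add, qf_add, bl_self]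
        ring
      rw [this] at h3
      exact (Ideal.IsPrime.mem_or_mem ‹_› h3).resolve_left h2
    by_cases h3 : ∃ x₀ ∈ T, bl c x₀ x₀ ∉ q
    · obtain ⟨x₀, hx₀, hs⟩ := h3
      refine ⟨bl c x₀ x₀, hs, x₀, hx₀, ?_⟩
      intro y hy y' hy'
      have := hP x₀ hx₀ y hy y' hy'
      have h4 : bl c x₀ x₀ * bl c y y' - bl c x₀ y * bl c x₀ y' =
          -(bl c x₀ y * bl c x₀ y' - bl c x₀ x₀ * bl c y y') := by ring
      rw [h4]
      exact q.neg_mem this
    · push Not at h3
      apply triv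
      intro x hx y hy
      apply hsq
      have h4 := hP x hx y hy y hy
      have : bl c x y ^ 2 = (bl c x y * bl c x y - bl c x x * bl c y y) + bl c x x * bl c y y := by
        ring
      rw [this]
      exact q.add_mem h4 (q.mul_mem_right _ (h3 x hx))

/-- a family of `r` mutually orthogonal hyperbolic pairs -/
structure HypFam (c : Matrix ι ι R) (r : ℕ) where
  v : Fin r → ι → R
  w : Fin r → ι → R
  qv : ∀ k, qf c (v k) = 0
  qw : ∀ k, qf c (w k) = 0
  vv : ∀ k l, bl c (v k) (v l) = 0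
  ww : ∀ k l, bl c (w k) (w l) = 0
  vw : ∀ k l, bl c (v k) (w l) = if k = l then 1 else 0

namespace HypFam

variable {c : Matrix ι ι R} {r : ℕ} (F : HypFam c r)

theorem wv (k l : Fin r) : bl c (F.w k) (F.v l) = if k = l then 1 else 0 := by
  rw [bl_comm, F.vw]
  simp [eq_comm]

/-- the orthogonal complement -/
def orth : Submodule R (ι → R) where
  carrier := {z | ∀ k, bl c z (F.v k) = 0 ∧ bl c z (F.w k) = 0}
  add_mem' := by
    intro a b ha hb k
    simp only [Set.mem_ofPred_eq] at ha hb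
    simp [LinearMap.add_apply, (ha k).1, (ha k).2, (hb k).1, (hb k).2]
  zero_mem' := by intro k; simp
  smul_mem' := by
    intro a z hz k
    simp only [Set.mem_ofPred_eq] at hz
    simp [LinearMap.smul_apply, (hz k).1, (hz k).2]

theorem mem_orth {z : ι → R} :
    z ∈ F.orth ↔ ∀ k, bl c z (F.v k) = 0 ∧ bl c z (F.w k) = 0 := Iff.rfl

/-- the hyperbolic part of a vector -/
noncomputable def hpart (z : ι → R) : ι → R :=
  ∑ k, (bl c z (F.w k) • F.v k + bl c z (F.v k) • F.w k)

/-- projection to the orthogonal complement -/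
noncomputable def proj (z : ι → R) : ι → R := z - F.hpart z

theorem bl_hpart_left (z y : ι → R) :
    bl c (F.hpart z) y = ∑ k, (bl c z (F.w k) * bl c (F.v k) y + bl c z (F.v k) * bl c (F.w k) y) := by
  unfold hpart
  rw [LinearMap.map_sum₂]
  apply Finset.sum_congr rfl
  intro k _
  simp [LinearMap.add_apply, LinearMap.smul_apply]

theorem proj_mem_orth (z : ι → R) : F.proj z ∈ F.orth := by
  intro l
  unfold proj
  rw [LinearMap.map_sub₂, LinearMap.map_sub₂, bl_hpart_left, bl_hpart_left]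
  constructor
  · simp only [F.vv, F.wv, mul_zero, zero_add, mul_ite, mul_one]
    rw [Finset.sum_ite_eq' Finset.univ l]
    simp
  · simp only [F.ww, F.vw, mul_zero, add_zero, mul_ite, mul_one]
    rw [Finset.sum_ite_eq' Finset.univ l]
    simp

theorem bl_proj_proj (z z' : ι → R) :
    bl c (F.proj z) (F.proj z') = bl c z z' -
      ∑ k, (bl c z (F.w k) * bl c z' (F.v k) + bl c z (F.v k) * bl c z' (F.w k)) := by
  have h1 : bl c (F.proj z) (F.hpart z') = 0 := by
    rw [bl_comm, bl_hpart_left]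
    apply Finset.sum_eq_zero
    intro k _
    have := F.proj_mem_orth z k
    rw [bl_comm c (F.v k), bl_comm c (F.w k), this.1, this.2]
    simp
  have h2 : bl c (F.proj z) z' = bl c z z' - bl c (F.hpart z) z' := by
    unfold proj
    rw [LinearMap.map_sub₂]
  conv_lhs => rw [show F.proj z' = z' - F.hpart z' from rfl]
  rw [map_sub, h1, sub_zero, h2, bl_hpart_left]
  congr 1
  apply Finset.sum_congr rfl
  intro k _
  rw [bl_comm c (F.v k), bl_comm c (F.w k)]

theorem bl_orth_proj {x₀ : ι → R} (hx : x₀ ∈ F.orth) (z : ι → R) :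
    bl c x₀ (F.proj z) = bl c x₀ z := by
  unfold proj
  rw [map_sub, bl_comm c x₀ (F.hpart z), bl_hpart_left]
  rw [Finset.sum_eq_zero, sub_zero]
  intro k _
  rw [bl_comm c (F.v k), bl_comm c (F.w k), (hx k).1, (hx k).2]
  simp

/-- base change of a hyperbolic family -/
def map (f : R →+* S) : HypFam (c.map f) r where
  v := fun k => f ∘ F.v k
  w := fun k => f ∘ F.w k
  qv := fun k => by rw [qf_map, F.qv, map_zero]
  qw := fun k => by rw [qf_map, F.qw, map_zero]
  vv := fun k l => by rw [bl_map, F.vv, map_zero]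
  ww := fun k l => by rw [bl_map, F.ww, map_zero]
  vw := fun k l => by rw [bl_map, F.vw]; split_ifs <;> simp

end HypFam

end Groth.Agent.Lib.Helper26.QSplit
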