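import Mathlib
import Groth.Agent.Lib.Helper26.QSplit2

/-! Existence of a nondegenerate pair in the orthogonal complement. -/

namespace Groth.Agent.Lib.Helper26.QSplit

open Matrix

variable {ι : Type*} [Fintype ι] [DecidableEq ι]
variable {R : Type*} [CommRing R]

theorem exists_pair (c : Matrix ι ι R) {r : ℕ} (F : HypFam c r) (q : Ideal R) [q.IsPrime]
    (hdet : (c + cᵀ).det ∉ q) (hcard : 2 * r + 1 < Fintype.card ι) :
    ∃ x ∈ F.orth, ∃ y ∈ F.orth, dd c x y ∉ q := by
  by_contra hcon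
  push Not at hcon
  obtain ⟨s, hs, x₀, hx₀, hr⟩ := rank_one c q F.orth hcon
  let K := FractionRing (R ⧸ q)
  let φ : R →+* K := (algebraMap (R ⧸ q) K).comp (Ideal.Quotient.mk q)
  have hφ : ∀ a, φ a = 0 ↔ a ∈ q := by
    intro a
    simp only [φ, RingHom.comp_apply]
    rw [map_eq_zero_iff _ (IsFractionRing.injective (R ⧸ q) K), Ideal.Quotient.eq_zero_iff_mem]
  have hφeq : ∀ a b, a - b ∈ q → φ a = φ b := by
    intro a b hab
    have := (hφ (a - b)).mpr hab
    rwa [map_sub, sub_eq_zero] at this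
  -- the key congruence
  have key : ∀ z z' : ι → R, φ (s * bl c z z') =
      φ (bl c x₀ z) * φ (bl c x₀ z') +
        ∑ k, (φ (s * bl c z (F.w k)) * φ (bl c z' (F.v k)) +
          φ (s * bl c z (F.v k)) * φ (bl c z' (F.w k))) := by
    intro z z'
    have h1 := hr _ (F.proj_mem_orth z) _ (F.proj_mem_orth z')
    rw [F.bl_orth_proj hx₀, F.bl_orth_proj hx₀, F.bl_proj_proj] at h1
    have h2 := hφeq _ _ h1
    have h3 : s * bl c z z' = s * (bl c z z' - ∑ k, (bl c z (F.w k) * bl c z' (F.v k) +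
        bl c z (F.v k) * bl c z' (F.w k))) + s * ∑ k, (bl c z (F.w k) * bl c z' (F.v k) +
        bl c z (F.v k) * bl c z' (F.w k)) := by ring
    rw [h3, map_add, h2, map_mul]
    congr 1
    rw [Finset.mul_sum, map_sum]
    apply Finset.sum_congr rfl
    intro k _
    rw [← map_mul, ← map_mul, ← map_add]
    congr 1
    ring
  let X : Matrix ι (Unit ⊕ (Fin r ⊕ Fin r)) K := Matrix.of fun i =>
    Sum.elim (fun _ => φ (bl c x₀ (Pi.single i 1)))
      (Sum.elim (fun k => φ (s * bl c (Pi.single i 1) (F.w k)))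
        (fun k => φ (s * bl c (Pi.single i 1) (F.v k))))
  let Y : Matrix (Unit ⊕ (Fin r ⊕ Fin r)) ι K := Matrix.of fun t j =>
    Sum.elim (fun _ => φ (bl c x₀ (Pi.single j 1)))
      (Sum.elim (fun k => φ (bl c (Pi.single j 1) (F.v k)))
        (fun k => φ (bl c (Pi.single j 1) (F.w k)))) t
  have hXY : φ s • (c + cᵀ).map φ = X * Y := by
    ext i j
    rw [Matrix.smul_apply, Matrix.map_apply, smul_eq_mul, ← map_mul, ← bl_single, key,
      Matrix.mul_apply, Fintype.sum_sum_type, Fintype.sum_sum_type]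
    simp [X, Y, Finset.sum_add_distrib]
  have hunit : IsUnit (φ s • (c + cᵀ).map φ) := by
    rw [Matrix.isUnit_iff_isUnit_det, Matrix.det_smul,
      show ((c + cᵀ).map φ) = φ.mapMatrix (c + cᵀ) from rfl, ← RingHom.map_det]
    apply IsUnit.mul
    · exact (isUnit_iff_ne_zero.mpr (fun h => hs ((hφ s).mp h))).pow _
    · exact isUnit_iff_ne_zero.mpr (fun h => hdet ((hφ _).mp h))
  have h1 := Matrix.rank_of_isUnit _ hunit
  rw [hXY] at h1
  have h2 : (X * Y).rank ≤ Fintype.card (Unit ⊕ (Fin r ⊕ Fin r)) :=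
    (Matrix.rank_mul_le_left X Y).trans (Matrix.rank_le_card_width X)
  simp only [Fintype.card_sum, Fintype.card_unit, Fintype.card_fin] at h2
  omega

end Groth.Agent.Lib.Helper26.QSplit
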