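import Mathlib
import Groth.Agent.Lib.Helper21.AdjoinRootEtale

/-! A quadratic étale extension solving `α t² + β t + γ = 0` near a prime. -/

namespace Groth.Agent.Lib.Helper26.QSplit

open Polynomial

universe u

theorem exists_quadratic_etale {B : Type u} [CommRing B] (q : Ideal B) [q.IsPrime] (α β γ : B)
    (hα : α ∉ q) (hd : β ^ 2 - 4 * α * γ ∉ q) :
    ∃ (B' : Type u) (_ : CommRing B') (_ : Algebra B B'), Algebra.Etale B B' ∧
      (∃ q' : Ideal B', q'.IsPrime ∧ q'.comap (algebraMap B B') = q) ∧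
      ∃ t : B', algebraMap B B' α * t ^ 2 + algebraMap B B' β * t + algebraMap B B' γ = 0 ∧
        IsUnit (algebraMap B B' β + 2 * t * algebraMap B B' α) := by
  obtain ⟨f, hf⟩ : ∃ f : B, f = α * (β ^ 2 - 4 * α * γ) := ⟨_, rfl⟩
  have hfq : f ∉ q := fun h => (Ideal.IsPrime.mem_or_mem ‹_› (hf ▸ h)).elim hα hd
  let B₁ := Localization.Away f
  have hfu : IsUnit (algebraMap B B₁ f) := IsLocalization.Away.algebraMap_isUnit f
  have hfu2 : IsUnit (algebraMap B B₁ α * algebraMap B B₁ (β ^ 2 - 4 * α * γ)) := by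
    rw [← map_mul, ← hf]; exact hfu
  have hαu : IsUnit (algebraMap B B₁ α) := isUnit_of_mul_isUnit_left hfu2
  have hdu : IsUnit (algebraMap B B₁ (β ^ 2 - 4 * α * γ)) := isUnit_of_mul_isUnit_right hfu2
  have hdisj : Disjoint (Submonoid.powers f : Set B) (q : Set B) := by
    rw [Ideal.disjoint_powers_iff_notMem_of_isPrime]
    exact hfq
  have hq₁ : (Ideal.map (algebraMap B B₁) q).IsPrime :=
    IsLocalization.isPrime_of_isPrime_disjoint (Submonoid.powers f) B₁ q ‹_› hdisj
  have hq₁c : (Ideal.map (algebraMap B B₁) q).comap (algebraMap B B₁) = q :=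
    IsLocalization.under_map_of_isPrime_disjoint (Submonoid.powers f) B₁ ‹_› hdisj
  have hnt : Nontrivial B₁ := by
    by_contra h
    rw [not_nontrivial_iff_subsingleton] at h
    exact hq₁.ne_top (Subsingleton.elim _ _)
  obtain ⟨ai, hai⟩ := hαu.exists_right_inv
  set α₁ := algebraMap B B₁ α with hα₁
  set β₁ := algebraMap B B₁ β with hβ₁
  set γ₁ := algebraMap B B₁ γ with hγ₁
  let P : B₁[X] := X ^ 2 + (C (β₁ * ai) * X + C (γ₁ * ai))
  have hdeg : (C (β₁ * ai) * X + C (γ₁ * ai) : B₁[X]).degree < ((2 : ℕ) : WithBot ℕ) := by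
    refine lt_of_le_of_lt (degree_linear_le) ?_
    exact_mod_cast (by norm_num : (1 : WithBot ℕ) < 2)
  have hmonic : P.Monic := monic_X_pow_add hdeg
  have hPdeg : P.degree = 2 := by
    have h1 : P.degree = ((2 : ℕ) : WithBot ℕ) := by
      show (X ^ 2 + (C (β₁ * ai) * X + C (γ₁ * ai)) : B₁[X]).degree = _
      rw [degree_add_eq_left_of_degree_lt (by rw [degree_X_pow]; exact hdeg), degree_X_pow]
    exact_mod_cast h1
  let B₂ := AdjoinRoot P
  -- derivative is a unit
  have hder : derivative P = 2 * X + C (β₁ * ai) := by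
    simp [P]
    ring
  have hsq : (derivative P) ^ 2 = 4 * P + C ((β₁ ^ 2 - 4 * α₁ * γ₁) * ai ^ 2) := by
    rw [hder]
    simp only [P, map_mul, map_sub, map_pow]
    have h4 : (C 4 : B₁[X]) = 4 := map_ofNat C 4
    rw [h4]
    have hai' : (C α₁ : B₁[X]) * C ai = 1 := by rw [← C_mul, hai, C_1]
    linear_combination (4 * C γ₁ * C ai) * hai'
  have hunit : IsUnit (AdjoinRoot.mk P (derivative P)) := by
    have h1 : (AdjoinRoot.mk P (derivative P)) ^ 2 =
        AdjoinRoot.of P ((β₁ ^ 2 - 4 * α₁ * γ₁) * ai ^ 2) := by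
      rw [← map_pow, hsq, map_add, map_mul, AdjoinRoot.mk_self, mul_zero, zero_add,
        AdjoinRoot.mk_C]
    have h2 : IsUnit ((β₁ ^ 2 - 4 * α₁ * γ₁) * ai ^ 2) := by
      apply IsUnit.mul
      · simpa [hα₁, hβ₁, hγ₁, map_ofNat] using hdu
      · exact (IsUnit.of_mul_eq_one _ (by rw [mul_comm]; exact hai)).pow 2
    have h3 := h2.map (AdjoinRoot.of P)
    rw [← h1] at h3
    exact (isUnit_pow_iff two_ne_zero).mp h3
  have het₂ : Algebra.Etale B₁ B₂ := Groth.Agent.Helper21.ARE.etale_of_isUnit P hmonic hunit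
  have het₁ : Algebra.Etale B B₁ := Algebra.Etale.of_isLocalizationAway f
  have het : Algebra.Etale B B₂ := Algebra.Etale.comp B B₁ B₂
  refine ⟨B₂, inferInstance, inferInstance, het, ?_, AdjoinRoot.root P, ?_, ?_⟩
  · -- prime over q
    have hfin : Module.Finite B₁ B₂ := hmonic.finite_adjoinRoot
    have hint : Algebra.IsIntegral B₁ B₂ := Algebra.IsIntegral.of_finite B₁ B₂
    have hinj : Function.Injective (algebraMap B₁ B₂) := by
      rw [injective_iff_map_eq_zero]
      intro x hx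
      have h1 : AdjoinRoot.mk P (C x) = 0 := by rw [AdjoinRoot.mk_C]; exact hx
      rw [AdjoinRoot.mk_eq_zero] at h1
      by_contra hx0
      refine hmonic.not_dvd_of_degree_lt (q := C x) (by simpa using hx0) ?_ h1
      rw [hPdeg]
      exact lt_of_le_of_lt degree_C_le (by norm_num)
    obtain ⟨Q, -, hQ, hQc⟩ := Ideal.exists_ideal_over_prime_of_isIntegral
      (Ideal.map (algebraMap B B₁) q) (⊥ : Ideal B₂)
      (by rw [Ideal.comap_bot_of_injective _ hinj]; exact bot_le)
    refine ⟨Q, hQ, ?_⟩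
    rw [IsScalarTower.algebraMap_eq B B₁ B₂, ← Ideal.comap_comap, hQc, hq₁c]
  · -- the equation
    have h1 : AdjoinRoot.mk P P = 0 := AdjoinRoot.mk_self
    have h2 : (AdjoinRoot.root P) ^ 2 + (AdjoinRoot.of P (β₁ * ai) * AdjoinRoot.root P +
        AdjoinRoot.of P (γ₁ * ai)) = 0 := by
      have : AdjoinRoot.mk P P = (AdjoinRoot.root P) ^ 2 + (AdjoinRoot.of P (β₁ * ai) *
          AdjoinRoot.root P + AdjoinRoot.of P (γ₁ * ai)) := by
        simp only [P, map_add, map_mul, map_pow, AdjoinRoot.mk_X, AdjoinRoot.mk_C]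
      rw [← this]; exact h1
    have e : ∀ b : B, algebraMap B B₂ b = AdjoinRoot.of P (algebraMap B B₁ b) := fun b => rfl
    rw [e, e, e]
    have hai2 : AdjoinRoot.of P α₁ * AdjoinRoot.of P ai = 1 := by rw [← map_mul, hai, map_one]
    simp only [map_mul] at h2
    linear_combination (AdjoinRoot.of P α₁) * h2 - (AdjoinRoot.of P β₁ * AdjoinRoot.root P +
      AdjoinRoot.of P γ₁) * hai2
  · -- unit
    have e : ∀ b : B, algebraMap B B₂ b = AdjoinRoot.of P (algebraMap B B₁ b) := fun b => rfl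
    rw [e, e]
    have h3 : AdjoinRoot.of P β₁ + 2 * AdjoinRoot.root P * AdjoinRoot.of P α₁ =
        AdjoinRoot.of P α₁ * AdjoinRoot.mk P (derivative P) := by
      rw [hder]
      simp only [map_add, map_mul, AdjoinRoot.mk_X, AdjoinRoot.mk_C]
      have hai2 : AdjoinRoot.of P α₁ * AdjoinRoot.of P ai = 1 := by rw [← map_mul, hai, map_one]
      have h2' : AdjoinRoot.mk P 2 = 2 := map_ofNat _ 2
      rw [h2']
      linear_combination (-(AdjoinRoot.of P β₁)) * hai2
    rw [h3]
    exact (hαu.map (AdjoinRoot.of P)).mul hunit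

end Groth.Agent.Lib.Helper26.QSplit
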