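import Mathlib
import Groth.Agent.Lib.Helper26.QSplit3
import Groth.Agent.Lib.Helper26.QSplit4

/-! The inductive step: adding one hyperbolic pair after an étale extension. -/

namespace Groth.Agent.Lib.Helper26.QSplit

open Matrix

universe u

variable {ι : Type*} [Fintype ι] [DecidableEq ι]
variable {R S : Type*} [CommRing R] [CommRing S]

theorem hyp_pair_of_root (c : Matrix ι ι R) (x y : ι → R) (t ui : R)
    (h1 : qf c y * t ^ 2 + bl c x y * t + qf c x = 0)
    (h2 : ui * (bl c x y + 2 * t * qf c y) = 1) :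
    ∃ a₁ a₂ b₁ b₂ : R, qf c (a₁ • x + a₂ • y) = 0 ∧ qf c (b₁ • x + b₂ • y) = 0 ∧
      bl c (a₁ • x + a₂ • y) (b₁ • x + b₂ • y) = 1 := by
  have hqv : qf c (x + t • y) = 0 := by
    rw [qf_add, qf_smul, map_smul, smul_eq_mul]
    linear_combination h1
  have hvy : bl c (x + t • y) y = bl c x y + 2 * t * qf c y := by
    rw [LinearMap.map_add₂, LinearMap.map_smul₂, bl_self, smul_eq_mul]; ring
  have hvv : bl c (x + t • y) (x + t • y) = 0 := by rw [bl_self, hqv, mul_zero]
  set v := x + t • y with hv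
  obtain ⟨e, he⟩ : ∃ e, e = qf c (ui • y) := ⟨_, rfl⟩
  have hvw₀ : bl c v (ui • y) = 1 := by
    rw [map_smul, hvy, smul_eq_mul, h2]
  refine ⟨1, t, -e, ui - e * t, ?_, ?_, ?_⟩
  · rw [one_smul]; exact hqv
  · have : (-e) • x + (ui - e * t) • y = ui • y - e • v := by
      rw [hv]; module
    rw [this, qf_sub, ← he, qf_smul c e v, hqv, map_smul, bl_comm, hvw₀, smul_eq_mul]
    ring
  · have : (-e) • x + (ui - e * t) • y = ui • y - e • v := by
      rw [hv]; module
    rw [this, one_smul, map_sub, hvw₀, map_smul, hvv]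
    simp

namespace HypFam

variable {c : Matrix ι ι R} {r : ℕ} (F : HypFam c r)

theorem map_mem_orth (f : R →+* S) {x : ι → R} (hx : x ∈ F.orth) : f ∘ x ∈ (F.map f).orth := by
  intro k
  constructor
  · show bl (c.map f) (f ∘ x) (f ∘ F.v k) = 0
    rw [bl_map, (hx k).1, map_zero]
  · show bl (c.map f) (f ∘ x) (f ∘ F.w k) = 0
    rw [bl_map, (hx k).2, map_zero]

/-- adding a new hyperbolic pair orthogonal to the family -/
def cons (v w : ι → R) (hv : v ∈ F.orth) (hw : w ∈ F.orth) (qv : qf c v = 0) (qw : qf c w = 0)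
    (hvw : bl c v w = 1) : HypFam c (r + 1) where
  v := Fin.cons v F.v
  w := Fin.cons w F.w
  qv := by
    intro k
    refine Fin.cases ?_ (fun k => ?_) k
    · simpa using qv
    · simpa using F.qv k
  qw := by
    intro k
    refine Fin.cases ?_ (fun k => ?_) k
    · simpa using qw
    · simpa using F.qw k
  vv := by
    intro k l
    refine Fin.cases ?_ (fun k => ?_) k <;> refine Fin.cases ?_ (fun l => ?_) l
    · simp [bl_self, qv]
    · simpa using (hv l).1
    · simp only [Fin.cons_succ, Fin.cons_zero]; rw [bl_comm]; exact (hv k).1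
    · simpa using F.vv k l
  ww := by
    intro k l
    refine Fin.cases ?_ (fun k => ?_) k <;> refine Fin.cases ?_ (fun l => ?_) l
    · simp [bl_self, qw]
    · simpa using (hw l).2
    · simp only [Fin.cons_succ, Fin.cons_zero]; rw [bl_comm]; exact (hw k).2
    · simpa using F.ww k l
  vw := by
    intro k l
    refine Fin.cases ?_ (fun k => ?_) k <;> refine Fin.cases ?_ (fun l => ?_) l
    · simpa using hvw
    · simp only [Fin.cons_succ, Fin.cons_zero]
      rw [(hv l).2, if_neg (Fin.succ_ne_zero l).symm]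
    · simp only [Fin.cons_succ, Fin.cons_zero]
      rw [bl_comm, (hw k).1, if_neg (Fin.succ_ne_zero k)]
    · simp only [Fin.cons_succ, F.vw, Fin.succ_inj]

/-- the empty family -/
def empty (c : Matrix ι ι R) : HypFam c 0 where
  v := fun k => k.elim0
  w := fun k => k.elim0
  qv := fun k => k.elim0
  qw := fun k => k.elim0
  vv := fun k => k.elim0
  ww := fun k => k.elim0
  vw := fun k => k.elim0

end HypFam

theorem step {B : Type u} [CommRing B] (c : Matrix ι ι B) {r : ℕ} (F : HypFam c r)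
    (q : Ideal B) [q.IsPrime] (hdet : (c + cᵀ).det ∉ q) (hcard : 2 * r + 1 < Fintype.card ι) :
    ∃ (B' : Type u) (_ : CommRing B') (_ : Algebra B B'), Algebra.Etale B B' ∧
      (∃ q' : Ideal B', q'.IsPrime ∧ q'.comap (algebraMap B B') = q) ∧
      Nonempty (HypFam (c.map (algebraMap B B')) (r + 1)) := by
  obtain ⟨x₀, hx₀, y₀, hy₀, hd₀⟩ := exists_pair c F q hdet hcard
  -- arrange `qf c y ∉ q`
  obtain ⟨x, hx, y, hy, hd, hα⟩ : ∃ x ∈ F.orth, ∃ y ∈ F.orth, dd c x y ∉ q ∧ qf c y ∉ q := by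
    by_cases h1 : qf c y₀ ∈ q
    · by_cases h2 : qf c x₀ ∈ q
      · refine ⟨x₀, hx₀, x₀ + y₀, F.orth.add_mem hx₀ hy₀, by rwa [dd_add_right_self], ?_⟩
        rw [qf_add]
        intro h3
        have h4 : bl c x₀ y₀ ∈ q := by
          have := q.sub_mem (q.sub_mem h3 h2) h1
          convert this using 1; ring
        apply hd₀
        unfold dd
        exact q.sub_mem (q.pow_mem_of_mem h4 2 (by norm_num)) (q.mul_mem_left _ h1)
      · exact ⟨y₀, hy₀, x₀, hx₀, by rwa [dd_comm], h2⟩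
    · exact ⟨x₀, hx₀, y₀, hy₀, hd₀, h1⟩
  have hd' : bl c x y ^ 2 - 4 * qf c y * qf c x ∉ q := by
    intro h; apply hd; unfold dd; convert h using 1; ring
  obtain ⟨B', _, _, het, hq', t, ht, hu⟩ :=
    exists_quadratic_etale q (qf c y) (bl c x y) (qf c x) hα hd'
  refine ⟨B', inferInstance, inferInstance, het, hq', ?_⟩
  obtain ⟨ui, hui⟩ := hu.exists_left_inv
  set φ := algebraMap B B' with hφ
  have h1 : qf (c.map φ) (φ ∘ y) * t ^ 2 + bl (c.map φ) (φ ∘ x) (φ ∘ y) * t +
      qf (c.map φ) (φ ∘ x) = 0 := by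
    rw [qf_map, qf_map, bl_map]; exact ht
  have h2 : ui * (bl (c.map φ) (φ ∘ x) (φ ∘ y) + 2 * t * qf (c.map φ) (φ ∘ y)) = 1 := by
    rw [qf_map, bl_map]; exact hui
  obtain ⟨a₁, a₂, b₁, b₂, hqv, hqw, hvw⟩ := hyp_pair_of_root (c.map φ) (φ ∘ x) (φ ∘ y) t ui h1 h2
  have hx' := F.map_mem_orth φ hx
  have hy' := F.map_mem_orth φ hy
  exact ⟨(F.map φ).cons _ _
    ((F.map φ).orth.add_mem ((F.map φ).orth.smul_mem a₁ hx') ((F.map φ).orth.smul_mem a₂ hy'))
    ((F.map φ).orth.add_mem ((F.map φ).orth.smul_mem b₁ hx') ((F.map φ).orth.smul_mem b₂ hy'))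
    hqv hqw hvw⟩

theorem local_split {ι : Type} [Fintype ι] [DecidableEq ι] {A : Type u} [CommRing A]
    (c : Matrix ι ι A) (hc : IsUnit (c + cᵀ).det) (p : Ideal A) [p.IsPrime] (r : ℕ)
    (hr : 2 * r ≤ Fintype.card ι) :
    ∃ (B : Type u) (_ : CommRing B) (_ : Algebra A B), Algebra.Etale A B ∧
      (∃ q : Ideal B, q.IsPrime ∧ q.comap (algebraMap A B) = p) ∧
      Nonempty (HypFam (c.map (algebraMap A B)) r) := by
  induction r with
  | zero =>
    exact ⟨A, inferInstance, inferInstance, inferInstance, ⟨p, ‹_›, by simp⟩,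
      ⟨HypFam.empty _⟩⟩
  | succ r ih =>
    obtain ⟨B, _, _, het, ⟨q, hq, hqp⟩, ⟨F⟩⟩ := ih (by omega)
    have hdet : ((c.map (algebraMap A B)) + (c.map (algebraMap A B))ᵀ).det ∉ q := by
      rw [← polar_map, show ((c + cᵀ).map (algebraMap A B)) = (algebraMap A B).mapMatrix (c + cᵀ)
        from rfl, ← RingHom.map_det]
      intro h
      exact hq.ne_top (Ideal.eq_top_of_isUnit_mem _ h (hc.map _))
    obtain ⟨B', _, _, het', ⟨q', hq', hq'q⟩, ⟨F'⟩⟩ := step (c.map (algebraMap A B)) F q hdet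
      (by omega)
    let _ : Algebra A B' := ((algebraMap B B').comp (algebraMap A B)).toAlgebra
    have : IsScalarTower A B B' := IsScalarTower.of_algebraMap_eq (fun _ => rfl)
    refine ⟨B', inferInstance, inferInstance, Algebra.Etale.comp A B B', ⟨q', hq', ?_⟩, ?_⟩
    · rw [IsScalarTower.algebraMap_eq A B B', ← Ideal.comap_comap, hq'q, hqp]
    · have e : (c.map (algebraMap A B)).map (algebraMap B B') = c.map (algebraMap A B') := by
        rw [Matrix.map_map]; rfl
      rw [← e]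
      exact ⟨F'⟩

end Groth.Agent.Lib.Helper26.QSplit
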