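import Mathlib
import Groth.Agent.Lib.Helper26.QSplit5

/-! From a full hyperbolic family to a splitting matrix; the global statement. -/

namespace Groth.Agent.Lib.Helper26.QSplit

open Matrix

universe u

section alt

variable {κ : Type*} [Fintype κ] [DecidableEq κ] {R : Type*} [CommRing R]

theorem qf_eq_zero_of_alt (D : Matrix κ κ R) (h1 : ∀ k, D k k = 0)
    (h2 : ∀ k l, D k l + D l k = 0) (x : κ → R) : qf D x = 0 := by
  have h : qf D x = ∑ p : κ × κ, x p.1 * D p.1 p.2 * x p.2 := by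
    rw [qf, bf_apply, Fintype.sum_prod_type]
    simp only [dotProduct, mulVec, Finset.mul_sum]
    apply Finset.sum_congr rfl; intro k _
    apply Finset.sum_congr rfl; intro l _
    ring
  rw [h]
  refine Finset.sum_involution (fun p _ => p.swap) ?_ ?_ ?_ ?_
  · intro p _
    simp only [Prod.fst_swap, Prod.snd_swap]
    linear_combination (x p.1 * x p.2) * h2 p.1 p.2
  · intro p _ hne heq
    apply hne
    have h3 : p.2 = p.1 := congrArg Prod.fst heq
    rw [h3, h1]; ring
  · intro p _; exact Finset.mem_univ _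
  · intro p _; simp

theorem qf_congr_of_alt (N N' : Matrix κ κ R) (h1 : ∀ k, N k k = N' k k)
    (h2 : ∀ k l, N k l + N l k = N' k l + N' l k) (x : κ → R) : qf N x = qf N' x := by
  have h := qf_eq_zero_of_alt (N - N') (by intro k; simp [h1]) (by
    intro k l
    simp only [Matrix.sub_apply]
    linear_combination h2 k l) x
  have e : qf (N - N') x = qf N x - qf N' x := by
    simp [qf, bf, map_sub]
  rw [e, sub_eq_zero] at h
  exact h

end alt

section full

variable {ι : Type*} [Fintype ι] [DecidableEq ι] {R : Type*} [CommRing R]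

theorem bf_mulVec {κ : Type*} [Fintype κ] [DecidableEq κ] (c : Matrix ι ι R) (g : Matrix ι κ R)
    (x y : κ → R) : bf c (g *ᵥ x) (g *ᵥ y) = bf (gᵀ * c * g) x y := by
  rw [bf_apply, bf_apply, ← Matrix.mulVec_mulVec, ← Matrix.mulVec_mulVec,
    Matrix.dotProduct_mulVec x, Matrix.vecMul_transpose]

/-- the split form matrix -/
def hypMat (n : ℕ) (R : Type*) [CommRing R] : Matrix (Fin n ⊕ Fin n) (Fin n ⊕ Fin n) R :=
  Matrix.fromBlocks 0 1 0 0

theorem qf_hypMat (n : ℕ) (x : Fin n ⊕ Fin n → R) :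
    qf (hypMat n R) x = ∑ j, x (Sum.inl j) * x (Sum.inr j) := by
  rw [qf, bf_apply]
  simp only [dotProduct, mulVec, hypMat, Fintype.sum_sum_type, Matrix.fromBlocks_apply₁₁,
    Matrix.fromBlocks_apply₁₂, Matrix.fromBlocks_apply₂₁, Matrix.fromBlocks_apply₂₂,
    Matrix.zero_apply, zero_mul, Finset.sum_const_zero, add_zero, mul_zero, zero_add,
    Matrix.one_apply, ite_mul, one_mul, Finset.sum_ite_eq, Finset.mem_univ, if_true]

/-- the matrix whose columns are the vectors of a hyperbolic family -/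
def HypFam.mat {c : Matrix ι ι R} {n : ℕ} (F : HypFam c n) : Matrix ι (Fin n ⊕ Fin n) R :=
  Matrix.of fun i k => Sum.elim (fun k => F.v k i) (fun k => F.w k i) k

theorem HypFam.mat_mulVec_single {c : Matrix ι ι R} {n : ℕ} (F : HypFam c n) (k : Fin n ⊕ Fin n) :
    F.mat *ᵥ Pi.single k 1 = Sum.elim F.v F.w k := by
  ext i
  rw [Matrix.mulVec_single_one]
  cases k <;> simp [HypFam.mat]

theorem HypFam.congr_entry {c : Matrix ι ι R} {n : ℕ} (F : HypFam c n) (k l : Fin n ⊕ Fin n) :
    (F.matᵀ * c * F.mat) k l = bf c (Sum.elim F.v F.w k) (Sum.elim F.v F.w l) := by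
  rw [← F.mat_mulVec_single, ← F.mat_mulVec_single, bf_mulVec, bf_apply]
  simp

theorem HypFam.qf_mat {c : Matrix ι ι R} {n : ℕ} (F : HypFam c n) (x : Fin n ⊕ Fin n → R) :
    qf c (F.mat *ᵥ x) = ∑ j, x (Sum.inl j) * x (Sum.inr j) := by
  rw [← qf_hypMat, qf, bf_mulVec]
  apply qf_congr_of_alt
  · intro k
    rw [F.congr_entry]
    rcases k with k | k
    · simpa [hypMat, qf] using F.qv k
    · simpa [hypMat, qf] using F.qw k
  · intro k l
    rw [F.congr_entry, F.congr_entry, ← bl_apply]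
    rcases k with k | k <;> rcases l with l | l
    · simpa [hypMat] using F.vv k l
    · simp only [hypMat, Sum.elim_inl, Sum.elim_inr, F.vw, Matrix.fromBlocks_apply₁₂,
        Matrix.fromBlocks_apply₂₁, Matrix.one_apply, Matrix.zero_apply, add_zero]
    · simp only [hypMat, Sum.elim_inl, Sum.elim_inr, F.wv, Matrix.fromBlocks_apply₁₂,
        Matrix.fromBlocks_apply₂₁, Matrix.one_apply, Matrix.zero_apply, zero_add]
      simp [eq_comm]
    · simpa [hypMat] using F.ww k l

theorem HypFam.polar_mat {c : Matrix ι ι R} {n : ℕ} (F : HypFam c n) :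
    F.matᵀ * (c + cᵀ) * F.mat = Matrix.fromBlocks 0 1 1 0 := by
  have h : F.matᵀ * (c + cᵀ) * F.mat = F.matᵀ * c * F.mat + (F.matᵀ * c * F.mat)ᵀ := by
    rw [Matrix.mul_add, Matrix.add_mul]
    congr 1
    rw [Matrix.transpose_mul, Matrix.transpose_mul, Matrix.transpose_transpose, Matrix.mul_assoc]
  rw [h]
  ext k l
  rw [Matrix.add_apply, Matrix.transpose_apply, F.congr_entry, F.congr_entry, ← bl_apply]
  rcases k with k | k <;> rcases l with l | l
  · simpa using F.vv k l
  · simp [F.vw, Matrix.one_apply]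
  · simp [F.wv, Matrix.one_apply]
  · simpa using F.ww k l

theorem isUnit_det_of_split {n : ℕ} {c : Matrix (Fin n ⊕ Fin n) (Fin n ⊕ Fin n) R}
    (F : HypFam c n) : IsUnit F.mat.det := by
  have h := F.polar_mat
  have h2 : (Matrix.fromBlocks (0 : Matrix (Fin n) (Fin n) R) (1 : Matrix (Fin n) (Fin n) R)
      (1 : Matrix (Fin n) (Fin n) R) (0 : Matrix (Fin n) (Fin n) R)) *
      (Matrix.fromBlocks (0 : Matrix (Fin n) (Fin n) R) (1 : Matrix (Fin n) (Fin n) R)
      (1 : Matrix (Fin n) (Fin n) R) (0 : Matrix (Fin n) (Fin n) R)) = 1 := by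
    rw [Matrix.fromBlocks_multiply]
    simp [Matrix.fromBlocks_one]
  have h3 : IsUnit (Matrix.fromBlocks (0 : Matrix (Fin n) (Fin n) R)
      (1 : Matrix (Fin n) (Fin n) R) (1 : Matrix (Fin n) (Fin n) R)
      (0 : Matrix (Fin n) (Fin n) R)).det := by
    have := congrArg Matrix.det h2
    rw [Matrix.det_mul, Matrix.det_one] at this
    exact IsUnit.of_mul_eq_one _ this
  rw [← h, Matrix.det_mul, Matrix.det_mul] at h3
  exact (IsUnit.mul_iff.mp h3).2

end full

theorem global_split {A : Type u} [CommRing A] (m : ℕ)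
    (c : Matrix (Fin m ⊕ Fin m) (Fin m ⊕ Fin m) A) (hc : IsUnit (c + cᵀ).det) :
    ∃ (n : ℕ) (B : Fin n → Type u) (_ : ∀ t, CommRing (B t)) (_ : ∀ t, Algebra A (B t)),
      (∀ t, Algebra.Etale A (B t)) ∧
      (∀ p : PrimeSpectrum A, ∃ (t : Fin n) (q : PrimeSpectrum (B t)),
        q.asIdeal.comap (algebraMap A (B t)) = p.asIdeal) ∧
      ∀ t, ∃ g : Matrix (Fin m ⊕ Fin m) (Fin m ⊕ Fin m) (B t), IsUnit g.det ∧
        ∀ x : Fin m ⊕ Fin m → B t,
          qf (c.map (algebraMap A (B t))) (g *ᵥ x) = ∑ j : Fin m, x (Sum.inl j) * x (Sum.inr j) := by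
  have hloc : ∀ p : PrimeSpectrum A, ∃ (B : Type u) (_ : CommRing B) (_ : Algebra A B),
      Algebra.Etale A B ∧ (∃ q : Ideal B, q.IsPrime ∧ q.comap (algebraMap A B) = p.asIdeal) ∧
      Nonempty (HypFam (c.map (algebraMap A B)) m) := fun p =>
    local_split c hc p.asIdeal m (by simp; omega)
  choose B hB1 hB2 het hq hF using hloc
  let U : PrimeSpectrum A → Set (PrimeSpectrum A) := fun p =>
    Set.range (PrimeSpectrum.comap (algebraMap A (B p)))
  have hopen : ∀ p, IsOpen (U p) := by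
    intro p
    have := het p
    exact (PrimeSpectrum.isOpenMap_comap_of_hasGoingDown_of_finitePresentation
      (R := A) (S := B p)).isOpen_range
  have hmem : ∀ p, p ∈ U p := by
    intro p
    obtain ⟨q, hqp, hqc⟩ := hq p
    exact ⟨⟨q, hqp⟩, PrimeSpectrum.ext hqc⟩
  obtain ⟨t, ht⟩ := isCompact_univ.elim_finite_subcover U hopen
    (fun p _ => Set.mem_iUnion.mpr ⟨p, hmem p⟩)
  let e := t.equivFin
  refine ⟨t.card, fun i => B (e.symm i).1, fun i => hB1 _, fun i => hB2 _, fun i => het _, ?_, ?_⟩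
  · intro p
    have := ht (Set.mem_univ p)
    simp only [Set.mem_iUnion] at this
    obtain ⟨p', hp', q, hq⟩ := this
    refine ⟨e ⟨p', hp'⟩, ?_⟩
    have key : ∀ (s : {x // x ∈ t}), s = ⟨p', hp'⟩ →
        ∃ q : PrimeSpectrum (B s.1), q.asIdeal.comap (algebraMap A (B s.1)) = p.asIdeal := by
      rintro _ rfl
      exact ⟨q, congrArg PrimeSpectrum.asIdeal hq⟩
    exact key (e.symm (e ⟨p', hp'⟩)) (e.symm_apply_apply _)
  · intro i
    obtain ⟨F⟩ := hF (e.symm i).1
    exact ⟨F.mat, isUnit_det_of_split F, F.qf_mat⟩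

end Groth.Agent.Lib.Helper26.QSplit
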