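import Mathlib
import Groth.Agent.Lib.Helper26.QSplit6
import Groth.Agent.Lib.Helper25.QuadNondeg

/-! Half-discriminant of a matrix form; interface with helper25's libraries. -/

namespace Groth.Agent.Lib.Helper26.OddSplit

open Matrix Groth.Agent.Lib.Helper26.QSplit Groth.Agent.Helper25.QuadDisc
  Groth.Agent.Helper25.QuadNondeg

variable {R S : Type*} [CommRing R] [CommRing S] {n : ℕ}

/-- coefficients of the form `x ↦ xᵀ c x` -/
def cfs (c : Matrix (Fin n) (Fin n) R) : Sym2 (Fin n) → R :=
  Sym2.lift ⟨fun i j => if i = j then c i i else c i j + c j i, by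
    intro i j
    by_cases h : i = j
    · subst h; rfl
    · simp only [if_neg h, if_neg (Ne.symm h)]; exact add_comm _ _⟩

theorem cfs_mk (c : Matrix (Fin n) (Fin n) R) (i j : Fin n) :
    cfs c s(i, j) = if i = j then c i i else c i j + c j i := rfl

theorem Pmat_cfs (c : Matrix (Fin n) (Fin n) R) : Pmat (cfs c) = c + cᵀ := by
  ext i j
  simp only [Pmat, cfs_mk, Matrix.of_apply, Matrix.add_apply, Matrix.transpose_apply]
  by_cases h : i = j
  · subst h; simp [two_mul]
  · simp [h]

/-- half-discriminant of a matrix form -/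
noncomputable def hdm (c : Matrix (Fin n) (Fin n) R) : R :=
  MvPolynomial.eval₂ (Int.castRingHom R) (cfs c) (QuadGrp.halfDiscUniv n)

theorem cfs_map (f : R →+* S) (c : Matrix (Fin n) (Fin n) R) :
    cfs (c.map f) = f ∘ cfs c := by
  funext s
  induction s using Sym2.ind with
  | _ i j =>
    rw [Function.comp_apply, cfs_mk, cfs_mk]
    split_ifs <;> simp

theorem hdm_map (f : R →+* S) (c : Matrix (Fin n) (Fin n) R) : hdm (c.map f) = f (hdm c) := by
  unfold hdm
  rw [MvPolynomial.eval₂_comp_left f, cfs_map]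
  congr 1
  exact (RingHom.ext_int _ _)

theorem cfs_congr {c c' : Matrix (Fin n) (Fin n) R} (h1 : ∀ i, c i i = c' i i)
    (h2 : ∀ i j, c i j + c j i = c' i j + c' j i) : cfs c = cfs c' := by
  funext s
  induction s using Sym2.ind with
  | _ i j =>
    rw [cfs_mk, cfs_mk]
    split_ifs
    · exact h1 i
    · exact h2 i j

theorem hdm_congr {c c' : Matrix (Fin n) (Fin n) R} (h1 : ∀ i, c i i = c' i i)
    (h2 : ∀ i j, c i j + c j i = c' i j + c' j i) : hdm c = hdm c' := by
  unfold hdm; rw [cfs_congr h1 h2]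

theorem two_mul_hdm (hn : Odd n) (c : Matrix (Fin n) (Fin n) R) :
    2 * hdm c = (c + cᵀ).det := by
  rw [hdm, two_mul_eval_halfDiscUniv hn, Pmat_cfs]

theorem entry_eq_bf (N : Matrix (Fin n) (Fin n) R) (k l : Fin n) :
    N k l = bf N (Pi.single k 1) (Pi.single l 1) := by
  simp [bf_apply]

theorem qf_Tmat_cfs (c : Matrix (Fin n) (Fin n) R) (x : Fin n → R) :
    qf (Tmat (cfs c)) x = qf c x := by
  apply qf_congr_of_alt
  · intro k
    simp [Tmat, cfs_mk]
  · intro k l
    have h := congrFun (congrFun (Pmat_eq (cfs c)) k) l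
    rw [Pmat_cfs] at h
    simp only [Matrix.add_apply, Matrix.transpose_apply] at h
    exact h.symm

theorem cfs_conj (c g : Matrix (Fin n) (Fin n) R) : cfs (gᵀ * c * g) = act g (cfs c) := by
  funext s
  induction s using Sym2.ind with
  | _ i j =>
    rw [cfs_mk, act_mk]
    by_cases h : i = j
    · subst h
      rw [if_pos rfl, if_pos rfl, entry_eq_bf (gᵀ * c * g) i i,
        entry_eq_bf (gᵀ * Tmat (cfs c) * g) i i, ← bf_mulVec, ← bf_mulVec]
      exact (qf_Tmat_cfs c _).symm
    · rw [if_neg h, if_neg h, Pmat_cfs]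
      have e : gᵀ * (c + cᵀ) * g = gᵀ * c * g + (gᵀ * c * g)ᵀ := by
        rw [Matrix.mul_add, Matrix.add_mul]
        congr 1
        rw [Matrix.transpose_mul, Matrix.transpose_mul, Matrix.transpose_transpose,
          Matrix.mul_assoc]
      rw [e, Matrix.add_apply, Matrix.transpose_apply]

theorem hdm_conj (hn : Odd n) (c g : Matrix (Fin n) (Fin n) R) :
    hdm (gᵀ * c * g) = g.det ^ 2 * hdm c := by
  unfold hdm
  rw [cfs_conj, halfDisc_act hn]

/-- if row `i₀` of the coefficients vanishes off the diagonal, the half-discriminant factors -/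
theorem hdm_of_row {m : ℕ} (hn : Odd (m + 1)) (c : Matrix (Fin (m + 1)) (Fin (m + 1)) R)
    (i₀ : Fin (m + 1)) (h0 : ∀ j, j ≠ i₀ → c i₀ j + c j i₀ = 0) :
    hdm c = c i₀ i₀ * ((c + cᵀ).submatrix i₀.succAbove i₀.succAbove).det := by
  unfold hdm
  rw [halfDisc_of_row hn (cfs c) i₀ (by
    intro j hj
    rw [cfs_mk, if_neg (Ne.symm hj)]
    exact h0 j hj), Pmat_cfs, cfs_mk, if_pos rfl]

section field

variable {K : Type*} [Field K]

theorem coeffs_toQF (c : Matrix (Fin n) (Fin n) K) :
    QuadGrp.coeffs (Pi.basisFun K (Fin n)) (LinearEquiv.refl K K) (Matrix.toQuadraticForm' c)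
      = cfs c := by
  funext s
  induction s using Sym2.ind with
  | _ i j =>
    rw [QuadGrp.coeffs_mk, cfs_mk]
    have hq : ∀ x, Matrix.toQuadraticForm' c x = qf c x := fun x => rfl
    by_cases h : i = j
    · subst h
      rw [if_pos rfl, if_pos rfl, LinearEquiv.refl_apply, hq, Pi.basisFun_apply, qf,
        ← entry_eq_bf]
    · rw [if_neg h, if_neg h, LinearEquiv.refl_apply, QuadraticMap.polar, hq, hq, hq, qf_add,
        Pi.basisFun_apply, Pi.basisFun_apply, bl_single]
      simp only [Matrix.add_apply, Matrix.transpose_apply]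
      ring

theorem nondeg_of_hdm {m : ℕ} (c : Matrix (Fin (2 * m + 1)) (Fin (2 * m + 1)) K)
    (h : hdm c ≠ 0) : (Matrix.toQuadraticForm' c).Nondegenerate := by
  rw [← field_main m (Pi.basisFun K (Fin (2 * m + 1)))]
  unfold QuadGrp.halfDisc
  rw [coeffs_toQF]
  exact h

theorem polar_toQF (c : Matrix (Fin n) (Fin n) K) (x y : Fin n → K) :
    QuadraticMap.polarBilin (Matrix.toQuadraticForm' c) x y = bl c x y := by
  have hq : ∀ x, Matrix.toQuadraticForm' c x = qf c x := fun x => rfl
  rw [QuadraticMap.polarBilin_apply_apply, QuadraticMap.polar, hq, hq, hq, qf_add]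
  ring

theorem rank_ge {m : ℕ} (c : Matrix (Fin (2 * m + 1)) (Fin (2 * m + 1)) K)
    (h : hdm c ≠ 0) : 2 * m ≤ (c + cᵀ).rank := by
  have hnd := nondeg_of_hdm c h
  have h1 : LinearMap.ker (c + cᵀ).mulVecLin ≤
      LinearMap.ker (QuadraticMap.polarBilin (Matrix.toQuadraticForm' c)) := by
    intro x hx
    rw [LinearMap.mem_ker] at hx ⊢
    refine LinearMap.ext fun y => ?_
    rw [polar_toQF, bl_comm, bl, bf_apply, LinearMap.zero_apply]
    have : (c + cᵀ) *ᵥ x = 0 := hx
    rw [this, dotProduct_zero]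
  have h2 : Module.finrank K (LinearMap.ker (c + cᵀ).mulVecLin) ≤ 1 := by
    have := Submodule.finrank_mono h1
    exact this.trans (Module.finrank_le_of_rank_le (by exact_mod_cast hnd.rank_rad_polar_le))
  have h3 := LinearMap.finrank_range_add_finrank_ker (c + cᵀ).mulVecLin
  rw [Module.finrank_pi, Fintype.card_fin] at h3
  unfold Matrix.rank
  omega

end field

end Groth.Agent.Lib.Helper26.OddSplit
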