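import Mathlib
import Groth.Agent.Lib.Helper26.OddSplit1

/-! Rank version of `exists_pair`, and the local splitting of `m` hyperbolic pairs in odd rank. -/

namespace Groth.Agent.Lib.Helper26.OddSplit

open Matrix Groth.Agent.Lib.Helper26.QSplit

universe u

section pair

variable {ι : Type*} [Fintype ι] [DecidableEq ι]
variable {R : Type*} [CommRing R]

theorem exists_pair' (c : Matrix ι ι R) {r : ℕ} (F : HypFam c r) (q : Ideal R) [q.IsPrime]
    {K : Type*} [Field K] (φ : R →+* K) (hφ : ∀ a, φ a = 0 ↔ a ∈ q)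
    (hrank : 2 * r + 1 < ((c + cᵀ).map φ).rank) :
    ∃ x ∈ F.orth, ∃ y ∈ F.orth, dd c x y ∉ q := by
  by_contra hcon
  push Not at hcon
  obtain ⟨s, hs, x₀, hx₀, hr⟩ := rank_one c q F.orth hcon
  have hφeq : ∀ a b, a - b ∈ q → φ a = φ b := by
    intro a b hab
    have := (hφ (a - b)).mpr hab
    rwa [map_sub, sub_eq_zero] at this
  -- the key congruence
  have key : ∀ z z' : ι → R, φ (s * bl c z z') =
      φ (bl c x₀ z) * φ (bl c x₀ z') +
        ∑ k, (φ (s * bl c z (F.w k)) * φ (bl c z' (F.v k)) +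
          φ (s * bl c z (F.v k)) * φ (bl c z' (F.w k))) := by
    intro z z'
    have h1 := hr _ (F.proj_mem_orth z) _ (F.proj_mem_orth z')
    rw [F.bl_orth_proj hx₀, F.bl_orth_proj hx₀, F.bl_proj_proj] at h1
    have h2 := hφeq _ _ h1
    have h3 : s * bl c z z' = s * (bl c z z' - ∑ k, (bl c z (F.w k) * bl c z' (F.v k) +
        bl c z (F.v k) * bl c z' (F.w k))) + s * ∑ k, (bl c z (F.w k) * bl c z' (F.v k) +
        bl c z (F.v k) * bl c z' (F.w k)) := by ring
    rw [h3, map_add, h2, map_mul]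
    congr 1
    rw [Finset.mul_sum, map_sum]
    apply Finset.sum_congr rfl
    intro k _
    rw [← map_mul, ← map_mul, ← map_add]
    congr 1
    ring
  let X : Matrix ι (Unit ⊕ (Fin r ⊕ Fin r)) K := Matrix.of fun i =>
    Sum.elim (fun _ => φ (bl c x₀ (Pi.single i 1)))
      (Sum.elim (fun k => φ (s * bl c (Pi.single i 1) (F.w k)))
        (fun k => φ (s * bl c (Pi.single i 1) (F.v k))))
  let Y : Matrix (Unit ⊕ (Fin r ⊕ Fin r)) ι K := Matrix.of fun t j =>
    Sum.elim (fun _ => φ (bl c x₀ (Pi.single j 1)))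
      (Sum.elim (fun k => φ (bl c (Pi.single j 1) (F.v k)))
        (fun k => φ (bl c (Pi.single j 1) (F.w k)))) t
  have hXY : φ s • (c + cᵀ).map φ = X * Y := by
    ext i j
    rw [Matrix.smul_apply, Matrix.map_apply, smul_eq_mul, ← map_mul, ← bl_single, key,
      Matrix.mul_apply, Fintype.sum_sum_type, Fintype.sum_sum_type]
    simp [X, Y, Finset.sum_add_distrib]
  have hs0 : φ s ≠ 0 := fun h => hs ((hφ s).mp h)
  have h1 : (c + cᵀ).map φ = ((φ s)⁻¹ • X) * Y := by
    rw [Matrix.smul_mul, ← hXY, smul_smul, inv_mul_cancel₀ hs0, one_smul]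
  have h2 : (((φ s)⁻¹ • X) * Y).rank ≤ Fintype.card (Unit ⊕ (Fin r ⊕ Fin r)) :=
    (Matrix.rank_mul_le_left _ Y).trans (Matrix.rank_le_card_width _)
  rw [← h1] at h2
  simp only [Fintype.card_sum, Fintype.card_unit, Fintype.card_fin] at h2
  omega

theorem step_of_pair {B : Type u} [CommRing B] (c : Matrix ι ι B) {r : ℕ} (F : HypFam c r)
    (q : Ideal B) [q.IsPrime]
    (hpair : ∃ x ∈ F.orth, ∃ y ∈ F.orth, dd c x y ∉ q) :
    ∃ (B' : Type u) (_ : CommRing B') (_ : Algebra B B'), Algebra.Etale B B' ∧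
      (∃ q' : Ideal B', q'.IsPrime ∧ q'.comap (algebraMap B B') = q) ∧
      Nonempty (HypFam (c.map (algebraMap B B')) (r + 1)) := by
  obtain ⟨x₀, hx₀, y₀, hy₀, hd₀⟩ := hpair
  -- arrange `qf c y ∉ q`
  obtain ⟨x, hx, y, hy, hd, hα⟩ : ∃ x ∈ F.orth, ∃ y ∈ F.orth, dd c x y ∉ q ∧ qf c y ∉ q := by
    by_cases h1 : qf c y₀ ∈ q
    · by_cases h2 : qf c x₀ ∈ q
      · refine ⟨x₀, hx₀, x₀ + y₀, F.orth.add_mem hx₀ hy₀, by rwa [dd_add_right_self], ?_⟩
        rw [qf_add]
        intro h3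
        have h4 : bl c x₀ y₀ ∈ q := by
          have := q.sub_mem (q.sub_mem h3 h2) h1
          convert this using 1; ring
        apply hd₀
        unfold dd
        exact q.sub_mem (q.pow_mem_of_mem h4 2 (by norm_num)) (q.mul_mem_left _ h1)
      · exact ⟨y₀, hy₀, x₀, hx₀, by rwa [dd_comm], h2⟩
    · exact ⟨x₀, hx₀, y₀, hy₀, hd₀, h1⟩
  have hd' : bl c x y ^ 2 - 4 * qf c y * qf c x ∉ q := by
    intro h; apply hd; unfold dd; convert h using 1; ring
  obtain ⟨B', _, _, het, hq', t, ht, hu⟩ :=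
    exists_quadratic_etale q (qf c y) (bl c x y) (qf c x) hα hd'
  refine ⟨B', inferInstance, inferInstance, het, hq', ?_⟩
  obtain ⟨ui, hui⟩ := hu.exists_left_inv
  set φ := algebraMap B B' with hφ
  have h1 : qf (c.map φ) (φ ∘ y) * t ^ 2 + bl (c.map φ) (φ ∘ x) (φ ∘ y) * t +
      qf (c.map φ) (φ ∘ x) = 0 := by
    rw [qf_map, qf_map, bl_map]; exact ht
  have h2 : ui * (bl (c.map φ) (φ ∘ x) (φ ∘ y) + 2 * t * qf (c.map φ) (φ ∘ y)) = 1 := by
    rw [qf_map, bl_map]; exact hui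
  obtain ⟨a₁, a₂, b₁, b₂, hqv, hqw, hvw⟩ := hyp_pair_of_root (c.map φ) (φ ∘ x) (φ ∘ y) t ui h1 h2
  have hx' := F.map_mem_orth φ hx
  have hy' := F.map_mem_orth φ hy
  exact ⟨(F.map φ).cons _ _
    ((F.map φ).orth.add_mem ((F.map φ).orth.smul_mem a₁ hx') ((F.map φ).orth.smul_mem a₂ hy'))
    ((F.map φ).orth.add_mem ((F.map φ).orth.smul_mem b₁ hx') ((F.map φ).orth.smul_mem b₂ hy'))
    hqv hqw hvw⟩

end pair

/-- the residue-field map at a prime -/
noncomputable def resMap {B : Type*} [CommRing B] (q : Ideal B) [q.IsPrime] :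
    B →+* FractionRing (B ⧸ q) :=
  (algebraMap (B ⧸ q) (FractionRing (B ⧸ q))).comp (Ideal.Quotient.mk q)

theorem resMap_eq_zero {B : Type*} [CommRing B] (q : Ideal B) [q.IsPrime] (a : B) :
    resMap q a = 0 ↔ a ∈ q := by
  simp only [resMap, RingHom.comp_apply]
  rw [map_eq_zero_iff _ (IsFractionRing.injective (B ⧸ q) (FractionRing (B ⧸ q))),
    Ideal.Quotient.eq_zero_iff_mem]

theorem rank_resMap {B : Type*} [CommRing B] {m : ℕ}
    (c : Matrix (Fin (2 * m + 1)) (Fin (2 * m + 1)) B) (q : Ideal B) [q.IsPrime]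
    (h : hdm c ∉ q) : 2 * m ≤ ((c + cᵀ).map (resMap q)).rank := by
  rw [polar_map]
  apply rank_ge
  rw [hdm_map]
  intro h0
  exact h ((resMap_eq_zero q _).mp h0)

theorem local_split_odd {A : Type u} [CommRing A] {m : ℕ}
    (c : Matrix (Fin (2 * m + 1)) (Fin (2 * m + 1)) A) (hc : IsUnit (hdm c))
    (p : Ideal A) [p.IsPrime] (r : ℕ) (hr : r ≤ m) :
    ∃ (B : Type u) (_ : CommRing B) (_ : Algebra A B), Algebra.Etale A B ∧
      (∃ q : Ideal B, q.IsPrime ∧ q.comap (algebraMap A B) = p) ∧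
      Nonempty (HypFam (c.map (algebraMap A B)) r) := by
  induction r with
  | zero =>
    exact ⟨A, inferInstance, inferInstance, inferInstance, ⟨p, ‹_›, by simp⟩,
      ⟨HypFam.empty _⟩⟩
  | succ r ih =>
    obtain ⟨B, _, _, het, ⟨q, hq, hqp⟩, ⟨F⟩⟩ := ih (by omega)
    have hh : hdm (c.map (algebraMap A B)) ∉ q := by
      rw [hdm_map]
      intro h
      exact hq.ne_top (Ideal.eq_top_of_isUnit_mem _ h (hc.map _))
    have hrank := rank_resMap (c.map (algebraMap A B)) q hh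
    obtain ⟨B', _, _, het', ⟨q', hq', hq'q⟩, ⟨F'⟩⟩ := step_of_pair (c.map (algebraMap A B)) F q
      (exists_pair' _ F q (resMap q) (resMap_eq_zero q) (by omega))
    let _ : Algebra A B' := ((algebraMap B B').comp (algebraMap A B)).toAlgebra
    have : IsScalarTower A B B' := IsScalarTower.of_algebraMap_eq (fun _ => rfl)
    refine ⟨B', inferInstance, inferInstance, Algebra.Etale.comp A B B', ⟨q', hq', ?_⟩, ?_⟩
    · rw [IsScalarTower.algebraMap_eq A B B', ← Ideal.comap_comap, hq'q, hqp]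
    · have e : (c.map (algebraMap A B)).map (algebraMap B B') = c.map (algebraMap A B') := by
        rw [Matrix.map_map]; rfl
      rw [← e]
      exact ⟨F'⟩

end Groth.Agent.Lib.Helper26.OddSplit
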