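import Mathlib
import Groth.Agent.Lib.Helper26.OddSplit2

/-! The last (anisotropic) vector and the splitting matrix in odd rank. -/

namespace Groth.Agent.Lib.Helper26.OddSplit

open Matrix Groth.Agent.Lib.Helper26.QSplit

universe u

section general

variable {ι : Type*} [Fintype ι] [DecidableEq ι]
variable {R S : Type*} [CommRing R] [CommRing S]
variable {c : Matrix ι ι R} {r : ℕ} (F : HypFam c r)

theorem hpart_map (f : R →+* S) (x : ι → R) :
    (F.map f).hpart (f ∘ x) = f ∘ F.hpart x := by
  funext j
  simp only [HypFam.hpart, HypFam.map, Function.comp_apply, Finset.sum_apply, Pi.add_apply,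
    Pi.smul_apply, smul_eq_mul, map_sum, map_add, map_mul]
  apply Finset.sum_congr rfl
  intro k _
  rw [bl_map f c x (F.w k), bl_map f c x (F.v k)]

theorem proj_map (f : R →+* S) (x : ι → R) :
    (F.map f).proj (f ∘ x) = f ∘ F.proj x := by
  unfold HypFam.proj
  rw [hpart_map]
  funext j
  simp

theorem hpart_mem_span (x : ι → R) :
    F.hpart x ∈ Submodule.span R (Set.range (Sum.elim F.v F.w)) := by
  unfold HypFam.hpart
  apply Submodule.sum_mem
  intro k _
  apply Submodule.add_mem
  · exact Submodule.smul_mem _ _ (Submodule.subset_span ⟨Sum.inl k, rfl⟩)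
  · exact Submodule.smul_mem _ _ (Submodule.subset_span ⟨Sum.inr k, rfl⟩)

theorem bl_orth_of_mem_orth {x y : ι → R} (_hx : x ∈ F.orth) (_hy : y ∈ F.orth) :
    bl c x y = qf c (x + y) - qf c x - qf c y := by
  rw [qf_add]; ring

end general

theorem single_comp {R S : Type*} [CommRing R] [CommRing S] {ι : Type*} [DecidableEq ι]
    (f : R →+* S) (i : ι) :
    f ∘ (Pi.single i (1 : R) : ι → R) = (Pi.single i (1 : S) : ι → S) := by
  funext j
  by_cases h : j = i
  · subst h; simp
  · simp [Pi.single_apply, h]

theorem exists_anisotropic {B : Type u} [CommRing B] {m : ℕ}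
    (c : Matrix (Fin (2 * m + 1)) (Fin (2 * m + 1)) B) (F : HypFam c m)
    (q : Ideal B) [q.IsPrime] (h : hdm c ∉ q) :
    ∃ e ∈ F.orth, qf c e ∉ q := by
  by_contra hcon
  push Not at hcon
  let K := FractionRing (B ⧸ q)
  let φ : B →+* K := resMap q
  have hφ : ∀ a, φ a = 0 ↔ a ∈ q := resMap_eq_zero q
  have hnd : (Matrix.toQuadraticForm' (c.map φ)).Nondegenerate := by
    apply nondeg_of_hdm
    rw [hdm_map]
    intro h0
    exact h ((hφ _).mp h0)
  have hq : ∀ x, Matrix.toQuadraticForm' (c.map φ) x = qf (c.map φ) x := fun x => rfl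
  -- the vectors z_i
  let z : Fin (2 * m + 1) → (Fin (2 * m + 1) → K) := fun i => φ ∘ F.proj (Pi.single i 1)
  have hzorth : ∀ i, z i ∈ (F.map φ).orth := fun i => F.map_mem_orth φ (F.proj_mem_orth _)
  have hzq : ∀ i, qf (c.map φ) (z i) = 0 := by
    intro i
    rw [qf_map]
    exact (hφ _).mpr (hcon _ (F.proj_mem_orth _))
  have hzb : ∀ i j, bl (c.map φ) (z i) (z j) = 0 := by
    intro i j
    rw [bl_map, bl_orth_of_mem_orth F (F.proj_mem_orth _) (F.proj_mem_orth _)]
    apply (hφ _).mpr
    exact q.sub_mem (q.sub_mem (hcon _ (F.orth.add_mem (F.proj_mem_orth _) (F.proj_mem_orth _)))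
      (hcon _ (F.proj_mem_orth _))) (hcon _ (F.proj_mem_orth _))
  have hzproj : ∀ j, (F.map φ).proj (Pi.single j 1) = z j := by
    intro j
    rw [← single_comp φ j, proj_map]
  -- each z_i is in the radical
  have hz0 : ∀ i, z i = 0 := by
    intro i
    have hmem : z i ∈ (Matrix.toQuadraticForm' (c.map φ)).radical := by
      refine ⟨by rw [hq]; exact hzq i, ?_⟩
      refine LinearMap.ext fun y => ?_
      rw [polar_toQF, LinearMap.zero_apply]
      have hy : y = ∑ j, y j • (Pi.single j (1 : K) : Fin (2 * m + 1) → K) := by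
        funext l
        simp [Finset.sum_apply, Pi.single_apply]
      rw [hy, map_sum]
      apply Finset.sum_eq_zero
      intro j _
      rw [map_smul, ← (F.map φ).bl_orth_proj (hzorth i), hzproj, hzb, smul_zero]
    rw [hnd.radical_eq_bot, Submodule.mem_bot] at hmem
    exact hmem
  -- hence the basis vectors lie in the span of the hyperbolic family
  have hspan : (⊤ : Submodule K (Fin (2 * m + 1) → K)) ≤
      Submodule.span K (Set.range (Sum.elim (F.map φ).v (F.map φ).w)) := by
    rw [← (Pi.basisFun K (Fin (2 * m + 1))).span_eq, Submodule.span_le]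
    rintro _ ⟨j, rfl⟩
    rw [Pi.basisFun_apply]
    have h1 : (Pi.single j (1 : K) : Fin (2 * m + 1) → K)
        = (F.map φ).hpart (Pi.single j 1) := by
      have h2 := hzproj j
      rw [hz0 j] at h2
      unfold HypFam.proj at h2
      exact sub_eq_zero.mp h2
    rw [SetLike.mem_coe, h1]
    exact hpart_mem_span _ _
  have h1 := Submodule.finrank_mono hspan
  have h2 := finrank_range_le_card (R := K) (Sum.elim (F.map φ).v (F.map φ).w)
  rw [finrank_top, Module.finrank_pi, Fintype.card_fin] at h1
  unfold Set.finrank at h2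
  simp only [Fintype.card_sum, Fintype.card_fin] at h2
  omega

end Groth.Agent.Lib.Helper26.OddSplit
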