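import Mathlib
import Groth.Agent.Lib.Helper26.OddSplit3

/-! The splitting matrix `[e | v | w]` in odd rank. -/

namespace Groth.Agent.Lib.Helper26.OddSplit

open Matrix Groth.Agent.Lib.Helper26.QSplit

universe u

/-- index map `Unit ⊕ (Fin m ⊕ Fin m) → Fin (2m+1)` -/
def sig (m : ℕ) : Unit ⊕ (Fin m ⊕ Fin m) → Fin (2 * m + 1)
  | Sum.inl _ => ⟨0, by omega⟩
  | Sum.inr (Sum.inl k) => ⟨2 * k + 1, by omega⟩
  | Sum.inr (Sum.inr k) => ⟨2 * k + 2, by omega⟩

theorem sig_bijective (m : ℕ) : Function.Bijective (sig m) := by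
  rw [Fintype.bijective_iff_injective_and_card]
  refine ⟨?_, by simp; omega⟩
  intro a b hab
  rcases a with _ | a | a <;> rcases b with _ | b | b <;>
    simp only [sig, Fin.mk.injEq] at hab <;>
    first
      | rfl
      | (exfalso; omega)
      | (congr 2; exact Fin.ext (by omega))

/-- the index equivalence -/
noncomputable def sigE (m : ℕ) : Unit ⊕ (Fin m ⊕ Fin m) ≃ Fin (2 * m + 1) :=
  Equiv.ofBijective _ (sig_bijective m)

section mat

variable {B : Type*} [CommRing B] {m : ℕ}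
variable {ι : Type*} [Fintype ι] [DecidableEq ι] {c : Matrix ι ι B} (F : HypFam c m) (e : ι → B)

/-- the matrix `[e | v | w]` -/
def gmat' : Matrix ι (Unit ⊕ (Fin m ⊕ Fin m)) B :=
  Matrix.of fun i k => Sum.elim (fun _ => e i) (fun k => F.mat i k) k

theorem gmat'_mulVec (y : Unit ⊕ (Fin m ⊕ Fin m) → B) :
    gmat' F e *ᵥ y = y (Sum.inl ()) • e + F.mat *ᵥ (y ∘ Sum.inr) := by
  funext i
  simp only [mulVec, dotProduct, gmat', Matrix.of_apply, Fintype.sum_sum_type, Sum.elim_inl,
    Sum.elim_inr, Finset.univ_unique, Finset.sum_singleton, Pi.add_apply, Pi.smul_apply,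
    smul_eq_mul, Function.comp_apply, PUnit.default_eq_unit]
  ring

theorem mat_mulVec_eq_sum (y' : Fin m ⊕ Fin m → B) :
    F.mat *ᵥ y' = ∑ k, y' k • Sum.elim F.v F.w k := by
  funext i
  simp only [mulVec, dotProduct, HypFam.mat, Matrix.of_apply, Finset.sum_apply, Pi.smul_apply,
    smul_eq_mul]
  apply Finset.sum_congr rfl
  intro k _
  rcases k with k | k <;> simp [mul_comm]

theorem bl_mat_w (y' : Fin m ⊕ Fin m → B) (k : Fin m) :
    bl c (F.mat *ᵥ y') (F.w k) = y' (Sum.inl k) := by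
  rw [mat_mulVec_eq_sum, LinearMap.map_sum₂, Fintype.sum_sum_type]
  simp only [LinearMap.map_smul₂, Sum.elim_inl, Sum.elim_inr, F.vw, F.ww, smul_eq_mul, mul_ite,
    mul_one, mul_zero, Finset.sum_ite_eq', Finset.mem_univ, if_true, Finset.sum_const_zero,
    add_zero]

theorem bl_mat_v (y' : Fin m ⊕ Fin m → B) (k : Fin m) :
    bl c (F.mat *ᵥ y') (F.v k) = y' (Sum.inr k) := by
  rw [mat_mulVec_eq_sum, LinearMap.map_sum₂, Fintype.sum_sum_type]
  simp only [LinearMap.map_smul₂, Sum.elim_inl, Sum.elim_inr, F.vv, F.wv, smul_eq_mul, mul_ite,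
    mul_one, mul_zero, Finset.sum_ite_eq', Finset.mem_univ, if_true, Finset.sum_const_zero,
    zero_add]

variable {F e}

theorem bl_orth_mat (he : e ∈ F.orth) (y' : Fin m ⊕ Fin m → B) :
    bl c e (F.mat *ᵥ y') = 0 := by
  rw [mat_mulVec_eq_sum, map_sum]
  apply Finset.sum_eq_zero
  intro k _
  rw [map_smul]
  rcases k with k | k
  · rw [Sum.elim_inl, (he k).1, smul_zero]
  · rw [Sum.elim_inr, (he k).2, smul_zero]

theorem qf_gmat' (he : e ∈ F.orth) (y : Unit ⊕ (Fin m ⊕ Fin m) → B) :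
    qf c (gmat' F e *ᵥ y) = qf c e * y (Sum.inl ()) ^ 2 +
      ∑ k, y (Sum.inr (Sum.inl k)) * y (Sum.inr (Sum.inr k)) := by
  rw [gmat'_mulVec, qf_add, qf_smul, LinearMap.map_smul₂, bl_orth_mat he, smul_zero, add_zero,
    F.qf_mat]
  simp only [Function.comp_apply]
  ring

theorem gmat'_injective [IsDomain B] (he : e ∈ F.orth) (hu : qf c e ≠ 0)
    (y : Unit ⊕ (Fin m ⊕ Fin m) → B) (hy : gmat' F e *ᵥ y = 0) : y = 0 := by
  rw [gmat'_mulVec] at hy
  have h1 : ∀ k, y (Sum.inr (Sum.inl k)) = 0 := by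
    intro k
    have := congrArg (fun z => bl c z (F.w k)) hy
    simp only [LinearMap.map_add₂, LinearMap.map_smul₂, (he k).2, smul_zero, zero_add,
      bl_mat_w, LinearMap.map_zero₂, Function.comp_apply] at this
    exact this
  have h2 : ∀ k, y (Sum.inr (Sum.inr k)) = 0 := by
    intro k
    have := congrArg (fun z => bl c z (F.v k)) hy
    simp only [LinearMap.map_add₂, LinearMap.map_smul₂, (he k).1, smul_zero, zero_add,
      bl_mat_v, LinearMap.map_zero₂, Function.comp_apply] at this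
    exact this
  have h3 : y ∘ Sum.inr = 0 := by
    funext k
    rcases k with k | k
    · exact h1 k
    · exact h2 k
  rw [h3, Matrix.mulVec_zero, add_zero] at hy
  have h4 : qf c (y (Sum.inl ()) • e) = 0 := by rw [hy, qf_zero]
  rw [qf_smul] at h4
  have h5 : y (Sum.inl ()) = 0 := by
    rcases mul_eq_zero.mp h4 with h | h
    · exact mul_self_eq_zero.mp h
    · exact absurd h hu
  funext k
  rcases k with k | k | k
  · exact h5
  · exact h1 k
  · exact h2 k

end mat

section square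

variable {B : Type u} [CommRing B] {m : ℕ}
  {c : Matrix (Fin (2 * m + 1)) (Fin (2 * m + 1)) B} (F : HypFam c m)
  (e : Fin (2 * m + 1) → B)

/-- the square splitting matrix -/
noncomputable def gmat : Matrix (Fin (2 * m + 1)) (Fin (2 * m + 1)) B :=
  (gmat' F e).submatrix id (sigE m).symm

theorem gmat_mulVec (x : Fin (2 * m + 1) → B) :
    gmat F e *ᵥ x = gmat' F e *ᵥ (x ∘ sigE m) := by
  unfold gmat
  rw [Matrix.submatrix_mulVec_equiv]
  rfl

variable {F e}

theorem qf_gmat (he : e ∈ F.orth) (x : Fin (2 * m + 1) → B) :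
    qf c (gmat F e *ᵥ x) = qf c e * x ⟨0, by omega⟩ ^ 2 +
      ∑ k : Fin m, x ⟨2 * k + 1, by omega⟩ * x ⟨2 * k + 2, by omega⟩ := by
  rw [gmat_mulVec, qf_gmat' he]
  rfl

theorem gmat_map {S : Type u} [CommRing S] (f : B →+* S) :
    (gmat F e).map f = gmat (F.map f) (f ∘ e) := by
  ext i j
  simp only [gmat, gmat', Matrix.map_apply, Matrix.submatrix_apply, Matrix.of_apply, id_eq]
  rcases (sigE m).symm j with _ | k | k <;> simp [HypFam.mat, HypFam.map]

theorem isUnit_det_gmat (he : e ∈ F.orth) (hu : IsUnit (qf c e)) : IsUnit (gmat F e).det := by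
  by_contra hdet
  obtain ⟨P, hP, hxP⟩ := exists_max_ideal_of_mem_nonunits (mem_nonunits_iff.mpr hdet)
  have hPp := hP.isPrime
  let φ := resMap P
  have h0 : ((gmat F e).map φ).det = 0 := by
    rw [show (gmat F e).map φ = φ.mapMatrix (gmat F e) from rfl, ← RingHom.map_det]
    exact (resMap_eq_zero P _).mpr hxP
  rw [gmat_map] at h0
  obtain ⟨y, hy0, hy⟩ := Matrix.exists_mulVec_eq_zero_iff.mpr h0
  rw [gmat_mulVec] at hy
  have hne : qf (c.map φ) (φ ∘ e) ≠ 0 := by
    rw [qf_map]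
    intro h
    have := (resMap_eq_zero P _).mp h
    exact hP.ne_top (Ideal.eq_top_of_isUnit_mem _ this hu)
  have := gmat'_injective (F.map_mem_orth φ he) hne _ hy
  apply hy0
  funext j
  have h2 := congrFun this ((sigE m).symm j)
  simpa using h2

end square

end Groth.Agent.Lib.Helper26.OddSplit
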