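import Mathlib
import Groth.Agent.Lib.Helper26.OddSplit4

/-! Local and global splitting up to the unit `u`. -/

namespace Groth.Agent.Lib.Helper26.OddSplit

open Matrix Groth.Agent.Lib.Helper26.QSplit

universe u

/-- the target form `u x₀² + ∑ x_{2k+1} x_{2k+2}` -/
def splitU {B : Type*} [CommRing B] (m : ℕ) (u : B) (x : Fin (2 * m + 1) → B) : B :=
  u * x ⟨0, by omega⟩ ^ 2 + ∑ k : Fin m, x ⟨2 * k + 1, by omega⟩ * x ⟨2 * k + 2, by omega⟩

theorem splitU_map {B S : Type*} [CommRing B] [CommRing S] (f : B →+* S) (m : ℕ) (u : B)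
    (x : Fin (2 * m + 1) → B) : f (splitU m u x) = splitU m (f u) (f ∘ x) := by
  simp [splitU, map_sum]

/-- local splitting data over an étale algebra -/
structure LocData (A : Type u) [CommRing A] {m : ℕ}
    (c : Matrix (Fin (2 * m + 1)) (Fin (2 * m + 1)) A) where
  B : Type u
  [cr : CommRing B]
  [alg : Algebra A B]
  [et : Algebra.Etale A B]
  u : B
  g : Matrix (Fin (2 * m + 1)) (Fin (2 * m + 1)) B
  hu : IsUnit u
  hg : IsUnit g.det
  hq : ∀ x, qf (c.map (algebraMap A B)) (g *ᵥ x) = splitU m u x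

attribute [instance] LocData.cr LocData.alg LocData.et

theorem local_full {A : Type u} [CommRing A] {m : ℕ}
    (c : Matrix (Fin (2 * m + 1)) (Fin (2 * m + 1)) A) (hc : IsUnit (hdm c))
    (p : Ideal A) [p.IsPrime] :
    ∃ D : LocData A c, ∃ q : Ideal D.B, q.IsPrime ∧ q.comap (algebraMap A D.B) = p := by
  obtain ⟨B₁, _, _, het₁, ⟨q₁, hq₁, hq₁p⟩, ⟨F⟩⟩ := local_split_odd c hc p m le_rfl
  have hh : hdm (c.map (algebraMap A B₁)) ∉ q₁ := by
    rw [hdm_map]
    intro h
    exact hq₁.ne_top (Ideal.eq_top_of_isUnit_mem _ h (hc.map _))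
  obtain ⟨e, he, heq⟩ := exists_anisotropic _ F q₁ hh
  obtain ⟨f, hf⟩ : ∃ f, f = qf (c.map (algebraMap A B₁)) e := ⟨_, rfl⟩
  rw [← hf] at heq
  let B := Localization.Away f
  have hfu : IsUnit (algebraMap B₁ B f) := IsLocalization.Away.algebraMap_isUnit f
  have hdisj : Disjoint (Submonoid.powers f : Set B₁) (q₁ : Set B₁) := by
    rw [Ideal.disjoint_powers_iff_notMem_of_isPrime]
    exact heq
  have hq : (Ideal.map (algebraMap B₁ B) q₁).IsPrime :=
    IsLocalization.isPrime_of_isPrime_disjoint (Submonoid.powers f) B q₁ ‹_› hdisj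
  have hqc : (Ideal.map (algebraMap B₁ B) q₁).comap (algebraMap B₁ B) = q₁ :=
    IsLocalization.under_map_of_isPrime_disjoint (Submonoid.powers f) B ‹_› hdisj
  have het₂ : Algebra.Etale B₁ B := Algebra.Etale.of_isLocalizationAway f
  have het : Algebra.Etale A B := Algebra.Etale.comp A B₁ B
  have ec : (c.map (algebraMap A B₁)).map (algebraMap B₁ B) = c.map (algebraMap A B) := by
    rw [Matrix.map_map]
    ext i j
    simp only [Matrix.map_apply, Function.comp_apply]
    exact (IsScalarTower.algebraMap_apply A B₁ B _).symm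
  have key : ∀ (c' : Matrix (Fin (2 * m + 1)) (Fin (2 * m + 1)) B)
      (hc' : (c.map (algebraMap A B₁)).map (algebraMap B₁ B) = c'),
      ∃ (F' : HypFam c' m) (e' : Fin (2 * m + 1) → B), e' ∈ F'.orth ∧ IsUnit (qf c' e') := by
    intro c' hc'
    subst hc'
    refine ⟨F.map (algebraMap B₁ B), algebraMap B₁ B ∘ e, F.map_mem_orth _ he, ?_⟩
    rw [qf_map, ← hf]
    exact hfu
  obtain ⟨F'', e', he', hu'⟩ := key _ ec
  have hform : ∀ x, qf (c.map (algebraMap A B)) (gmat F'' e' *ᵥ x)
      = splitU m (qf (c.map (algebraMap A B)) e') x := by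
    intro x
    rw [qf_gmat he']
    rfl
  have hcomap : Ideal.comap (algebraMap A B) (Ideal.map (algebraMap B₁ B) q₁) = p := by
    rw [IsScalarTower.algebraMap_eq A B₁ B, ← Ideal.comap_comap, hqc, hq₁p]
  exact ⟨{ B := B, u := qf (c.map (algebraMap A B)) e', g := gmat F'' e', hu := hu',
            hg := isUnit_det_gmat he' hu', hq := hform }, Ideal.map (algebraMap B₁ B) q₁, hq,
            hcomap⟩

theorem global_full {A : Type u} [CommRing A] {m : ℕ}
    (c : Matrix (Fin (2 * m + 1)) (Fin (2 * m + 1)) A) (hc : IsUnit (hdm c)) :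
    ∃ D : LocData A c, ∀ p : PrimeSpectrum A, ∃ q : PrimeSpectrum D.B,
      q.asIdeal.comap (algebraMap A D.B) = p.asIdeal := by
  have hloc : ∀ p : PrimeSpectrum A, ∃ D : LocData A c, ∃ q : Ideal D.B,
      q.IsPrime ∧ q.comap (algebraMap A D.B) = p.asIdeal := fun p => local_full c hc p.asIdeal
  choose D q hq hqp using hloc
  let U : PrimeSpectrum A → Set (PrimeSpectrum A) := fun p =>
    Set.range (PrimeSpectrum.comap (algebraMap A (D p).B))
  have hopen : ∀ p, IsOpen (U p) := by
    intro p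
    exact (PrimeSpectrum.isOpenMap_comap_of_hasGoingDown_of_finitePresentation
      (R := A) (S := (D p).B)).isOpen_range
  have hmem : ∀ p, p ∈ U p := by
    intro p
    exact ⟨⟨q p, hq p⟩, PrimeSpectrum.ext (hqp p)⟩
  obtain ⟨t, ht⟩ := isCompact_univ.elim_finite_subcover U hopen
    (fun p _ => Set.mem_iUnion.mpr ⟨p, hmem p⟩)
  let I := {x // x ∈ t}
  let BB := ∀ i : I, (D i.1).B
  let ev : ∀ i : I, BB →+* (D i.1).B := fun i => Pi.evalRingHom (fun i : I => (D i.1).B) i
  let uu : BB := fun i => (D i.1).u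
  let gg : Matrix (Fin (2 * m + 1)) (Fin (2 * m + 1)) BB := Matrix.of fun a b i => (D i.1).g a b
  have hev : ∀ i, (c.map (algebraMap A BB)).map (ev i) = c.map (algebraMap A (D i.1).B) := by
    intro i
    rw [Matrix.map_map]
    rfl
  have hgg : ∀ i, gg.map (ev i) = (D i.1).g := fun i => rfl
  refine ⟨{ B := BB, u := uu, g := gg, hu := ?_, hg := ?_, hq := ?_ }, ?_⟩
  · rw [Pi.isUnit_iff]
    intro i
    exact (D i.1).hu
  · rw [Pi.isUnit_iff]
    intro i
    have : (gg.det) i = ((D i.1).g).det := by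
      have h1 := RingHom.map_det (ev i) gg
      rw [show (ev i).mapMatrix gg = gg.map (ev i) from rfl, hgg] at h1
      exact h1
    rw [this]
    exact (D i.1).hg
  · intro x
    funext i
    have h1 : (qf (c.map (algebraMap A BB)) (gg *ᵥ x)) i
        = ev i (qf (c.map (algebraMap A BB)) (gg *ᵥ x)) := rfl
    have h2 : (splitU m uu x) i = ev i (splitU m uu x) := rfl
    rw [h1, h2, ← qf_map, hev, splitU_map]
    have h3 : ev i ∘ (gg *ᵥ x) = (D i.1).g *ᵥ (ev i ∘ x) := by
      have := RingHom.map_mulVec (ev i) gg x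
      rw [hgg] at this
      funext a
      exact this a
    rw [h3, (D i.1).hq]
    rfl
  · intro p
    have := ht (Set.mem_univ p)
    simp only [Set.mem_iUnion] at this
    obtain ⟨p', hp', q', hq'⟩ := this
    let i : I := ⟨p', hp'⟩
    refine ⟨⟨Ideal.comap (ev i) q'.asIdeal, inferInstance⟩, ?_⟩
    show Ideal.comap (algebraMap A BB) (Ideal.comap (ev i) q'.asIdeal) = p.asIdeal
    rw [Ideal.comap_comap]
    have : (ev i).comp (algebraMap A BB) = algebraMap A (D p').B := rfl
    rw [this]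
    exact congrArg PrimeSpectrum.asIdeal hq'

end Groth.Agent.Lib.Helper26.OddSplit
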