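import Mathlib
import Groth.Agent.Lib.Helper26.OddSplit5

/-! The representing matrix of the target form, base change of identities of quadratic forms,
and the final fppf extension adjoining a square root of `u`. -/

namespace Groth.Agent.Lib.Helper26.OddSplit

open Matrix Polynomial Groth.Agent.Lib.Helper26.QSplit

universe u

section Nmat

variable {B S : Type*} [CommRing B] [CommRing S]

/-- a matrix representing `splitU m u` -/
def Nmat (m : ℕ) (u : B) : Matrix (Fin (2 * m + 1)) (Fin (2 * m + 1)) B :=
  Matrix.of fun i j => if i.val = 0 ∧ j.val = 0 then u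
    else if i.val % 2 = 1 ∧ j.val = i.val + 1 then 1 else 0

theorem Nmat_map (f : B →+* S) (m : ℕ) (u : B) : (Nmat m u).map f = Nmat m (f u) := by
  ext i j
  simp only [Nmat, Matrix.map_apply, Matrix.of_apply]
  split_ifs <;> simp

theorem qf_Nmat (m : ℕ) (u : B) (x : Fin (2 * m + 1) → B) : qf (Nmat m u) x = splitU m u x := by
  rw [qf, bf_apply]
  simp only [dotProduct, mulVec]
  rw [← Equiv.sum_comp (sigE m), Fintype.sum_sum_type, Fintype.sum_sum_type]
  simp only [Finset.univ_unique, Finset.sum_singleton]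
  have e0 : sigE m (Sum.inl default) = ⟨0, by omega⟩ := rfl
  have ev : ∀ k : Fin m, sigE m (Sum.inr (Sum.inl k)) = ⟨2 * k + 1, by omega⟩ := fun k => rfl
  have ew : ∀ k : Fin m, sigE m (Sum.inr (Sum.inr k)) = ⟨2 * k + 2, by omega⟩ := fun k => rfl
  have h0 : ∑ j, Nmat m u (sigE m (Sum.inl default)) j * x j = u * x ⟨0, by omega⟩ := by
    rw [e0, Finset.sum_eq_single (⟨0, by omega⟩ : Fin (2 * m + 1))]
    · simp [Nmat]
    · intro j _ hj
      simp only [Nmat, Matrix.of_apply]
      split_ifs with h1 h2
      · exact absurd (Fin.ext h1.2) hj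
      · exfalso; simp at h2
      · exact zero_mul _
    · intro h; exact absurd (Finset.mem_univ _) h
  have hv : ∀ k : Fin m, ∑ j, Nmat m u (sigE m (Sum.inr (Sum.inl k))) j * x j
      = x ⟨2 * k + 2, by omega⟩ := by
    intro k
    rw [ev, Finset.sum_eq_single (⟨2 * k + 2, by omega⟩ : Fin (2 * m + 1))]
    · have h1 : (2 * (k : ℕ) + 1) % 2 = 1 := by omega
      simp [Nmat, h1]
    · intro j _ hj
      have : j.val ≠ 2 * k + 1 + 1 := fun h => hj (Fin.ext (by simp; omega))
      simp [Nmat, this]
    · intro h; exact absurd (Finset.mem_univ _) h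
  have hw : ∀ k : Fin m, ∑ j, Nmat m u (sigE m (Sum.inr (Sum.inr k))) j * x j = 0 := by
    intro k
    rw [ew]
    apply Finset.sum_eq_zero
    intro j _
    have h1 : ¬ ((2 * (k : ℕ) + 2) % 2 = 1) := by omega
    simp [Nmat, h1]
  rw [h0]
  simp only [hv, hw, mul_zero, Finset.sum_const_zero, add_zero]
  rw [e0]
  simp only [ev]
  unfold splitU
  ring

end Nmat

section identity

variable {ι : Type*} [Fintype ι] [DecidableEq ι] {B S : Type*} [CommRing B] [CommRing S]

theorem qf_single (M : Matrix ι ι B) (i : ι) : qf M (Pi.single i 1) = M i i := by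
  simp [qf, bf_apply]

theorem qf_map_of_forall (M N : Matrix ι ι B) (h : ∀ x, qf M x = qf N x) (f : B →+* S)
    (y : ι → S) : qf (M.map f) y = qf (N.map f) y := by
  apply qf_congr_of_alt
  · intro k
    rw [Matrix.map_apply, Matrix.map_apply, ← qf_single M k, ← qf_single N k, h]
  · intro k l
    simp only [Matrix.map_apply, ← map_add]
    congr 1
    have h1 : ∀ P : Matrix ι ι B, P k l + P l k
        = qf P (Pi.single k 1 + Pi.single l 1) - qf P (Pi.single k 1) - qf P (Pi.single l 1) := by
      intro P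
      rw [qf_add, bl_single]
      simp only [Matrix.add_apply, Matrix.transpose_apply]
      ring
    rw [h1 M, h1 N, h, h, h]

end identity

theorem fppf_full {A : Type u} [CommRing A] {m : ℕ}
    (c : Matrix (Fin (2 * m + 1)) (Fin (2 * m + 1)) A) (hc : IsUnit (hdm c)) :
    ∃ (A' : Type u) (_ : CommRing A') (_ : Algebra A A'), Module.FaithfullyFlat A A' ∧
      Algebra.FinitePresentation A A' ∧
      ∃ g : Matrix (Fin (2 * m + 1)) (Fin (2 * m + 1)) A', IsUnit g.det ∧
        ∀ x, qf (c.map (algebraMap A A')) (g *ᵥ x) = splitU m 1 x := by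
  obtain ⟨D, hD⟩ := global_full c hc
  let B := D.B
  let P : B[X] := X ^ 2 - C D.u
  have hmonic : P.Monic := monic_X_pow_sub_C _ two_ne_zero
  let A' := AdjoinRoot P
  let f : B →+* A' := AdjoinRoot.of P
  let s : A' := AdjoinRoot.root P
  have hs : s ^ 2 = f D.u := by
    have h1 : AdjoinRoot.mk P P = 0 := AdjoinRoot.mk_self
    have h2 : AdjoinRoot.mk P P = s ^ 2 - f D.u := by
      simp only [P, map_sub, map_pow, AdjoinRoot.mk_X, AdjoinRoot.mk_C]
      rfl
    rw [h2] at h1
    exact sub_eq_zero.mp h1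
  have hfu : IsUnit (f D.u) := D.hu.map f
  have hsu : IsUnit s := by
    have : IsUnit (s * s) := by rw [← sq, hs]; exact hfu
    exact isUnit_of_mul_isUnit_left this
  obtain ⟨si, hsi⟩ := hsu.exists_left_inv
  have hfree : Module.Free B A' := hmonic.free_adjoinRoot
  have hfin : Module.Finite B A' := hmonic.finite_adjoinRoot
  have hflat : Module.Flat A A' := Module.Flat.trans A B A'
  have hinj : Function.Injective (algebraMap B A') := by
    rcases subsingleton_or_nontrivial B with hsub | hnt
    · exact Function.injective_of_subsingleton _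
    have hPdeg : P.degree = 2 := by
      have : P.degree = ((2 : ℕ) : WithBot ℕ) := degree_X_pow_sub_C (by norm_num) _
      exact_mod_cast this
    rw [injective_iff_map_eq_zero]
    intro x hx
    have h1 : AdjoinRoot.mk P (C x) = 0 := by rw [AdjoinRoot.mk_C]; exact hx
    rw [AdjoinRoot.mk_eq_zero] at h1
    by_contra hx0
    refine hmonic.not_dvd_of_degree_lt (q := C x) (by simpa using hx0) ?_ h1
    rw [hPdeg]
    exact lt_of_le_of_lt degree_C_le (by norm_num)
  have hint : Algebra.IsIntegral B A' := Algebra.IsIntegral.of_finite B A'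
  have hff : Module.FaithfullyFlat A A' := by
    apply Module.FaithfullyFlat.of_comap_surjective
    intro p
    obtain ⟨q, hq⟩ := hD p
    obtain ⟨Q, -, hQ, hQc⟩ := Ideal.exists_ideal_over_prime_of_isIntegral
      q.asIdeal (⊥ : Ideal A')
      (by rw [Ideal.comap_bot_of_injective _ hinj]; exact bot_le)
    refine ⟨⟨Q, hQ⟩, PrimeSpectrum.ext ?_⟩
    show Ideal.comap (algebraMap A A') Q = p.asIdeal
    rw [IsScalarTower.algebraMap_eq A B A', ← Ideal.comap_comap, hQc, hq]
  refine ⟨A', inferInstance, inferInstance, hff, inferInstance, ?_⟩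
  -- the matrix
  let d : Fin (2 * m + 1) → A' := fun j => if j.val = 0 then si else 1
  have hcmap : (c.map (algebraMap A B)).map f = c.map (algebraMap A A') := by
    rw [Matrix.map_map]; rfl
  have hform : ∀ y : Fin (2 * m + 1) → A',
      qf (c.map (algebraMap A A')) ((D.g.map f) *ᵥ y) = splitU m (f D.u) y := by
    intro y
    rw [qf, bf_mulVec, ← qf, ← qf_Nmat, ← Nmat_map, ← hcmap]
    have e1 : ((D.g.map f)ᵀ * (c.map (algebraMap A B)).map f * (D.g.map f))
        = ((D.g)ᵀ * (c.map (algebraMap A B)) * D.g).map f := by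
      rw [Matrix.map_mul, Matrix.map_mul, Matrix.transpose_map]
    rw [e1]
    apply qf_map_of_forall
    intro x
    rw [qf, ← bf_mulVec, ← qf, D.hq, qf_Nmat]
  refine ⟨(D.g.map f) * Matrix.diagonal d, ?_, ?_⟩
  · rw [Matrix.det_mul, Matrix.det_diagonal]
    apply IsUnit.mul
    · rw [show D.g.map f = f.mapMatrix D.g from rfl, ← RingHom.map_det]
      exact D.hg.map f
    · rw [IsUnit.prod_univ_iff]
      intro j
      simp only [d]
      split_ifs
      · exact IsUnit.of_mul_eq_one _ hsi
      · exact isUnit_one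
  · intro x
    rw [← Matrix.mulVec_mulVec, hform]
    have hd : Matrix.diagonal d *ᵥ x = fun j => d j * x j := by
      funext j
      rw [Matrix.mulVec_diagonal]
    rw [hd]
    unfold splitU
    have h1 : ∀ k : Fin m, d ⟨2 * k + 1, by omega⟩ = 1 := by
      intro k; simp [d]
    have h2 : ∀ k : Fin m, d ⟨2 * k + 2, by omega⟩ = 1 := by
      intro k; simp [d]
    have h0 : d ⟨0, by omega⟩ = si := by simp [d]
    simp only [h1, h2, h0, one_mul]
    have : f D.u * (si * x ⟨0, by omega⟩) ^ 2 = 1 * x ⟨0, by omega⟩ ^ 2 := by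
      rw [← hs]
      have : (si * s) ^ 2 = 1 := by rw [hsi, one_pow]
      linear_combination (x ⟨0, by omega⟩ ^ 2) * this
    rw [this, one_mul]

end Groth.Agent.Lib.Helper26.OddSplit
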