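import Mathlib
import Groth.Agent.Lib.Helper26.OddSplit6

/-! Translation to `QuadraticForm`, `baseChangeForm`, `IsometryEquiv`. -/

namespace Groth.Agent.Lib.Helper26.OddSplit

open Matrix Groth.Agent.Lib.Helper26.QSplit Groth.Agent.Helper25.QuadDisc
  Groth.Agent.Helper25.QuadNondeg
open scoped TensorProduct

universe u

section translate

variable {R : Type u} [CommRing R] {n : ℕ}

theorem cfs_Tmat (a : Sym2 (Fin n) → R) : cfs (Tmat a) = a := by
  funext s
  induction s using Sym2.ind with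
  | _ i j =>
    rw [cfs_mk]
    by_cases h : i = j
    · subst h
      simp [Tmat]
    · rw [if_neg h]
      rcases lt_or_gt_of_ne h with h1 | h1
      · have h2 : ¬ j < i := not_lt.mpr h1.le
        simp [Tmat, h, Ne.symm h, h1, h2]
      · have h2 : ¬ i < j := not_lt.mpr h1.le
        simp only [Tmat, Matrix.of_apply, if_neg h, if_neg (Ne.symm h), if_neg h2, if_pos h1,
          zero_add]
        rw [Sym2.eq_swap]

theorem Q_eq_qf (Q : QuadraticForm R (Fin n → R)) (x : Fin n → R) :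
    Q x = qf (Tmat (QuadGrp.coeffs (Pi.basisFun R (Fin n)) (LinearEquiv.refl R R) Q)) x := by
  rw [← toMatrix_toBilin, LinearMap.BilinForm.toMatrix_basisFun]
  have h1 : qf (LinearMap.BilinForm.toMatrix' (Q.toBilin (Pi.basisFun R (Fin n)))) x
      = Matrix.toBilin' (LinearMap.BilinForm.toMatrix' (Q.toBilin (Pi.basisFun R (Fin n)))) x x :=
    rfl
  rw [h1, Matrix.toBilin'_toMatrix']
  conv_lhs => rw [← QuadraticMap.toQuadraticMap_toBilin Q (Pi.basisFun R (Fin n))]
  rfl

variable {A' : Type u} [CommRing A'] [Algebra R A']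

theorem bcf_eq_qf (Q : QuadraticForm R (Fin n → R)) (c : Matrix (Fin n) (Fin n) R)
    (h : ∀ x, Q x = qf c x) (t : A' ⊗[R] (Fin n → R)) :
    QuadGrp.baseChangeForm A' Q t =
      qf (c.map (algebraMap R A')) (TensorProduct.piScalarRight R A' A' (Fin n) t) := by
  let Q₂ : QuadraticForm A' (A' ⊗[R] (Fin n → R)) :=
    (Matrix.toQuadraticForm' (c.map (algebraMap R A'))).comp
      (TensorProduct.piScalarRight R A' A' (Fin n)).toLinearMap
  have hQ : QuadGrp.baseChangeForm A' Q = Q₂ := by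
    apply _root_.baseChange_ext
    intro x
    rw [baseChangeForm_one_tmul, h, ← qf_map]
    show _ = qf (c.map (algebraMap R A'))
      (TensorProduct.piScalarRight R A' A' (Fin n) ((1 : A') ⊗ₜ[R] x))
    congr 1
    funext j
    rw [TensorProduct.piScalarRight_apply, TensorProduct.piScalarRightHom_tmul,
      Function.comp_apply, Algebra.algebraMap_eq_smul_one]
  rw [hQ]
  rfl

theorem splitForm_eq (m : ℕ) (x : Fin (2 * m + 1) → R) :
    QuadGrp.splitForm R (2 * m + 1) x = splitU m 1 x := by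
  have h1 : (2 * m + 1) % 2 = 1 := by omega
  have h2 : (2 * m + 1) / 2 = m := by omega
  unfold QuadGrp.splitForm splitU
  rw [dif_pos h1, _root_.add_apply, _root_.sum_apply, add_comm]
  congr 1
  · simp [QuadraticMap.sq, sq]
  · refine Fintype.sum_equiv (finCongr h2) _ _ ?_
    intro i
    rw [QuadraticMap.linMulLin_apply, LinearMap.proj_apply, LinearMap.proj_apply]
    congr 2
    · exact Fin.ext (by simp)
    · exact Fin.ext (by simp)

end translate

theorem main (R : Type u) [CommRing R] (m : ℕ)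
    (Q : QuadraticForm R (Fin (2 * m + 1) → R))
    (hQ : QuadGrp.IsSemiregular (Pi.basisFun R (Fin (2 * m + 1))) (LinearEquiv.refl R R) Q) :
    ∃ (A : Type u) (_ : CommRing A) (_ : Algebra R A), Module.FaithfullyFlat R A ∧
      Algebra.FinitePresentation R A ∧
      Nonempty ((QuadGrp.baseChangeForm A Q).IsometryEquiv
        (QuadGrp.baseChangeForm A (QuadGrp.splitForm R (2 * m + 1)))) := by
  obtain ⟨c, hcdef⟩ : ∃ c, c = Tmat (QuadGrp.coeffs (Pi.basisFun R (Fin (2 * m + 1)))
    (LinearEquiv.refl R R) Q) := ⟨_, rfl⟩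
  have hc : IsUnit (hdm c) := by
    unfold hdm
    rw [hcdef, cfs_Tmat]
    exact hQ
  have hQc : ∀ x, Q x = qf c x := by
    intro x; rw [hcdef]; exact Q_eq_qf Q x
  obtain ⟨A', _, _, hff, hfp, g, hg, hgq⟩ := fppf_full c hc
  refine ⟨A', inferInstance, inferInstance, hff, hfp, ?_⟩
  let ψ := TensorProduct.piScalarRight R A' A' (Fin (2 * m + 1))
  have h1 : ∀ t, QuadGrp.baseChangeForm A' Q t = qf (c.map (algebraMap R A')) (ψ t) :=
    fun t => bcf_eq_qf Q c hQc t
  have h2 : ∀ t, QuadGrp.baseChangeForm A' (QuadGrp.splitForm R (2 * m + 1)) t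
      = splitU m 1 (ψ t) := by
    intro t
    rw [bcf_eq_qf (QuadGrp.splitForm R (2 * m + 1)) (Nmat m 1)
      (fun x => by rw [splitForm_eq, qf_Nmat]) t, Nmat_map, map_one, qf_Nmat]
  let G : (Fin (2 * m + 1) → A') ≃ₗ[A'] (Fin (2 * m + 1) → A') :=
    Matrix.toLinearEquiv' g (Matrix.invertibleOfIsUnitDet g hg)
  have hG : ∀ y, G y = g *ᵥ y := by
    intro y
    show Matrix.toLin' g y = _
    rw [Matrix.toLin'_apply]
  let E : (A' ⊗[R] (Fin (2 * m + 1) → R)) ≃ₗ[A'] (A' ⊗[R] (Fin (2 * m + 1) → R)) :=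
    ψ ≪≫ₗ G ≪≫ₗ ψ.symm
  have hE : ∀ t, ψ (E t) = g *ᵥ ψ t := by
    intro t
    simp only [E, LinearEquiv.trans_apply, LinearEquiv.apply_symm_apply, hG]
  let iso : (QuadGrp.baseChangeForm A' (QuadGrp.splitForm R (2 * m + 1))).IsometryEquiv
      (QuadGrp.baseChangeForm A' Q) :=
    { toLinearEquiv := E
      map_app' := by
        intro t
        show QuadGrp.baseChangeForm A' Q (E t) = _
        rw [h1, hE, hgq, h2] }
  exact ⟨iso.symm⟩

end Groth.Agent.Lib.Helper26.OddSplit
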