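import Mathlib
import Groth.Agent.Lib.Helper20.SimpleSub
import Groth.Agent.Lib.Helper26.DegTensor

/-!
# Splitting of `0 → A → E → Q → 0` with `Q` invertible from `H¹(A ⊗ Q⁻¹) = 0` on a smooth curve
(standalone version of the argument in helper20's `SimpleSub2.two_deg_le`)
-/

set_option autoImplicit false
set_option maxHeartbeats 1600000
set_option linter.style.haveILetI false
set_option linter.unusedSectionVars false
set_option linter.unusedVariables false
universe u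
open CategoryTheory CategoryTheory.Limits AlgebraicGeometry Opposite TopologicalSpace
open Groth.Agent.Helper20.RankFn Groth.Agent.Helper13 Groth.Agent.Helper13.TwistSES
open Groth.Agent.Helper13.QCoh Groth.Agent.Helper13.FinType Groth.Agent.Helper13.LocFree
open Groth.Agent.Helper20.VBMap Groth.Agent.Helper20.Untwist Groth.Agent.Helper20.StablePair
open Groth.Agent.Helper13.PnFin Groth.Agent.Helper24.LinLES

namespace Groth.Agent.Helper26.SplitH1

variable (k : Type u) [Field k] {X : Scheme.{u}} [X.Over (Spec (CommRingCat.of k))] [IsIntegral X]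
  [IsProper (X ↘ Spec (CommRingCat.of k))] [Smooth (X ↘ Spec (CommRingCat.of k))]

include k in
/-- a short exact sequence with invertible cokernel `Q` splits as soon as
`H¹(S.X₁ ⊗ Q⁻¹) = 0`. -/
theorem exists_section (hdim : topologicalKrullDim X = 1)
    (S : ShortComplex X.Modules) (hS : S.ShortExact) (hq : PicF.IsInvertible S.X₃)
    (N : X.Modules) (hN' : PicF.IsInvertible N)
    (eQN : CohB1.tensorMod S.X₃ N ≅ Coh.structureModule X)
    (eNQ : CohB1.tensorMod N S.X₃ ≅ Coh.structureModule X)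
    (hsub : Subsingleton (Coh.HH X (CohB1.tensorMod S.X₁ N) 1)) :
    ∃ σ' : S.X₃ ⟶ S.X₂, σ' ≫ S.g = 𝟙 S.X₃ := by
  have hO1 : FlatMod.IsFinLocFreeOfRank 1 (Coh.structureModule X) :=
    Groth.Agent.Helper26.IntLF.isFinLocFreeOfRank_one_of_isInvertible _
      (Groth.Agent.Helper13.Inv.isInvertible_structureModule (X := X))
  have hT := tensorSC_shortExact S hS N hN'
  have hfin : Module.finrank k (Coh.HH X (CohB1.tensorMod S.X₃ N) 0) =
      Module.finrank k (Coh.HH X (Coh.structureModule X) 0) :=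
    Groth.Agent.Helper26.HomVan.finrank_HH_of_iso k eQN 0
  have hpos := Groth.Agent.Helper26.CurveDeg.h0_structure_pos k X
  obtain ⟨y, hy⟩ : ∃ y : Coh.HH X (CohB1.tensorMod S.X₃ N) 0, y ≠ 0 := by
    by_contra hall
    have hall' : ∀ y : Coh.HH X (CohB1.tensorMod S.X₃ N) 0, y = 0 := by
      intro y
      by_contra hy
      exact hall ⟨y, hy⟩
    haveI : Subsingleton (Coh.HH X (CohB1.tensorMod S.X₃ N) 0) :=
      ⟨fun a b => by rw [hall' a, hall' b]⟩
    rw [Module.finrank_zero_of_subsingleton] at hfin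
    omega
  haveI : Subsingleton (Coh.HH X (tensorSC S N).X₁ 1) := hsub
  have hrange := range_g_eq_ker_δ k (tensorSC S N) hT 0 1 rfl
  have hex : ∀ y' : Coh.HH X (tensorSC S N).X₃ 0,
      ∃ z' : Coh.HH X (tensorSC S N).X₂ 0, hstar k (tensorSC S N).g 0 z' = y' := by
    intro y'
    have hy' : y' ∈ LinearMap.range (hstar k (tensorSC S N).g 0) := by
      rw [hrange]
      exact LinearMap.mem_ker.2 (Subsingleton.elim _ _)
    exact hy'
  obtain ⟨z, hz⟩ : ∃ z : Coh.HH X (CohB1.tensorMod S.X₂ N) 0,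
      hstar k (Tensor.map S.g (𝟙 N)) 0 z = y := hex y
  have hw : homOfH0 (CohB1.tensorMod S.X₂ N) z ≫ Tensor.map S.g (𝟙 N) = homOfH0 _ y :=
    (homOfH0_comp k (Tensor.map S.g (𝟙 N)) z).trans
      (congrArg (homOfH0 (CohB1.tensorMod S.X₃ N)) hz)
  have hw0 : homOfH0 (CohB1.tensorMod S.X₂ N) z ≫ Tensor.map S.g (𝟙 N) ≠ 0 := by
    rw [hw]
    exact homOfH0_ne_zero _ y hy
  have hQN1 : FlatMod.IsFinLocFreeOfRank 1 (CohB1.tensorMod S.X₃ N) :=
    isFinLocFreeOfRank_of_iso eQN.symm hO1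
  have hdQN : Curv2.deg k X (Coh.structureModule X) 1 =
      Curv2.deg k X (CohB1.tensorMod S.X₃ N) 1 :=
    (Groth.Agent.Helper26.DegTensor.deg_of_iso k X eQN 1).symm
  haveI hwiso : IsIso (homOfH0 (CohB1.tensorMod S.X₂ N) z ≫ Tensor.map S.g (𝟙 N)) :=
    isIso_of_ne_zero_of_deg_eq k hdim hO1 hQN1 hdQN _ hw0
  obtain ⟨σ, hσ⟩ : ∃ σ : S.X₃ ⟶ S.X₂, σ = (Tensor.lid S.X₃).inv ≫
      Tensor.map (homOfH0 (CohB1.tensorMod S.X₂ N) z) (𝟙 S.X₃) ≫
        (rho S.X₂ N S.X₃ eNQ).hom := ⟨_, rfl⟩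
  have hσπ : σ ≫ S.g = (Tensor.lid S.X₃).inv ≫
      Tensor.map (homOfH0 (CohB1.tensorMod S.X₂ N) z ≫ Tensor.map S.g (𝟙 N))
        (𝟙 S.X₃) ≫ (rho S.X₃ N S.X₃ eNQ).hom := by
    have e1 : Tensor.map (homOfH0 (CohB1.tensorMod S.X₂ N) z ≫
        Tensor.map S.g (𝟙 N)) (𝟙 S.X₃) =
        Tensor.map (homOfH0 (CohB1.tensorMod S.X₂ N) z) (𝟙 S.X₃) ≫
          Tensor.map (Tensor.map S.g (𝟙 N)) (𝟙 S.X₃) := by
      rw [← Tensor.map_comp, Category.comp_id]
    rw [hσ, e1]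
    simp only [Category.assoc]
    rw [rho_nat S.g N S.X₃ eNQ]
  haveI : IsIso (Tensor.map (homOfH0 (CohB1.tensorMod S.X₂ N) z ≫
      Tensor.map S.g (𝟙 N)) (𝟙 S.X₃)) :=
    (Tensor.mapIso (asIso (homOfH0 (CohB1.tensorMod S.X₂ N) z ≫
      Tensor.map S.g (𝟙 N))) (Iso.refl S.X₃)).isIso_hom
  haveI hiso : IsIso (σ ≫ S.g) := by
    rw [hσπ]
    infer_instance
  exact ⟨inv (σ ≫ S.g) ≫ σ, by rw [Category.assoc, IsIso.inv_hom_id]⟩

include k in
/-- the resulting decomposition. -/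
theorem nonempty_iso_biprod (hdim : topologicalKrullDim X = 1)
    (S : ShortComplex X.Modules) (hS : S.ShortExact) (hq : PicF.IsInvertible S.X₃)
    (N : X.Modules) (hN' : PicF.IsInvertible N)
    (eQN : CohB1.tensorMod S.X₃ N ≅ Coh.structureModule X)
    (eNQ : CohB1.tensorMod N S.X₃ ≅ Coh.structureModule X)
    (hsub : Subsingleton (Coh.HH X (CohB1.tensorMod S.X₁ N) 1)) :
    Nonempty (S.X₂ ≅ S.X₁ ⊞ S.X₃) := by
  obtain ⟨σ, hσ⟩ := exists_section k hdim S hS hq N hN' eQN eNQ hsub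
  haveI := hS.mono_f
  exact ⟨(ShortComplex.Splitting.ofExactOfSection S hS.exact σ hσ hS.mono_f).isoBinaryBiproduct⟩

end Groth.Agent.Helper26.SplitH1
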