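import Mathlib
import Groth.Agent.Lib.Helper26.SplitH1
import Groth.Agent.Lib.Helper26.StabIso
import Groth.Agent.Lib.Helper26.NefExt
import Groth.Agent.Lib.Helper26.HiggsSS
import Groth.Agent.Lib.Helper20.VBSat4
import Groth.Agent.Lib.Helper3.CurveHopf
import Groth.Agent.Lib.Helper13.InvDual
import Groth.Agent.Lib.Helper13.CurveDeg3

/-!
# Rank two, odd degree, genus one: indecomposable ⟺ simple ⟺ stable ⟺ semistable (S12633)
-/

set_option autoImplicit false
set_option maxHeartbeats 800000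
set_option linter.style.haveILetI false
set_option linter.unusedSectionVars false
set_option linter.unusedVariables false
universe u
open CategoryTheory CategoryTheory.Limits AlgebraicGeometry Opposite TopologicalSpace
open Groth.Agent.Helper20.RankFn Groth.Agent.Helper20.VBMap

namespace Groth.Agent.Helper26.OddTFAE

variable (k : Type u) [Field k] {X : Scheme.{u}} [X.Over (Spec (CommRingCat.of k))] [IsIntegral X]
  [IsProper (X ↘ Spec (CommRingCat.of k))] [Smooth (X ↘ Spec (CommRingCat.of k))]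

/-- a simple nonzero module is indecomposable. -/
theorem indec_of_simple (E : X.Modules) (hEne : ¬ IsZero E)
    (hsimple : ∀ φ : E ⟶ E, ∃ c : k, (SheafOfModules.toSheaf X.ringCatSheaf).map φ =
      Coh.smulAb E (Coh.toGlobal (X ↘ Spec (CommRingCat.of k)) c))
    (E₁ E₂ : X.Modules) (h : Nonempty (E ≅ E₁ ⊞ E₂)) : IsZero E₁ ∨ IsZero E₂ := by
  obtain ⟨e⟩ := h
  have hidem : (e.hom ≫ biprod.fst ≫ biprod.inl ≫ e.inv) ≫
      (e.hom ≫ biprod.fst ≫ biprod.inl ≫ e.inv) = e.hom ≫ biprod.fst ≫ biprod.inl ≫ e.inv := by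
    simp
  set q : E₁ ⊞ E₂ ⟶ E₁ ⊞ E₂ := biprod.fst ≫ biprod.inl with hq
  rcases Groth.Agent.Helper20.SimpleSub.idem_of_simple k E hEne hsimple _ hidem with h0 | h1
  · left
    rw [IsZero.iff_id_eq_zero]
    have h2 : q = 0 := by
      have := congrArg (fun t => e.inv ≫ t ≫ e.hom) h0
      simpa [hq] using this
    have h3 : (biprod.inl : E₁ ⟶ E₁ ⊞ E₂) ≫ q ≫ (biprod.fst : E₁ ⊞ E₂ ⟶ E₁) = 𝟙 E₁ := by
      simp [hq]
    rw [← h3, h2, zero_comp, comp_zero]
  · right
    rw [IsZero.iff_id_eq_zero]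
    have h2 : q = 𝟙 _ := by
      have := congrArg (fun t => e.inv ≫ t ≫ e.hom) h1
      simpa [hq] using this
    have h3 : (biprod.inr : E₂ ⟶ E₁ ⊞ E₂) ≫ q ≫ (biprod.snd : E₁ ⊞ E₂ ⟶ E₂) = 0 := by
      simp [hq]
    rw [h2] at h3
    simpa using h3

/-- on a curve of genus one, an indecomposable bundle of rank two is semistable. -/
theorem semistable_of_indec [IsAlgClosed k] (hdim : topologicalKrullDim X = 1)
    (hg : Curv2.genus k X = 1) (E : X.Modules) (hE : FlatMod.IsFinLocFreeOfRank 2 E)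
    (hind : ∀ (E₁ E₂ : X.Modules), Nonempty (E ≅ E₁ ⊞ E₂) → IsZero E₁ ∨ IsZero E₂)
    (F : X.Modules) (r' : ℕ) (i : F ⟶ E) (hi : Mono i) (hr' : 0 < r')
    (hF : FlatMod.IsFinLocFreeOfRank r' F) :
    Curv2.deg k X F r' * (2 : ℤ) ≤ Curv2.deg k X E 2 * (r' : ℤ) := by
  haveI := hi
  haveI : Nonempty X := Groth.Agent.Helper26.CurveDeg.nonempty_of_dim hdim
  have hle : r' ≤ 2 := Groth.Agent.Helper26.CurveDeg.rank_le_of_mono F E r' 2 hF hE i
  have hcases : r' = 1 ∨ r' = 2 := by omega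
  rcases hcases with rfl | rfl
  · by_contra hlt
    have hlt' := not_le.1 hlt
    push_cast at hlt'
    obtain ⟨J, a, j, rQ, hjm, haj, hJr, hQr, hrk, hdeg, hdle, hiso, hQ0⟩ :=
      sat_pkg k hdim 1 2 hF hE i
    haveI := hjm
    have hrQ : rQ = 1 := by omega
    subst hrQ
    have hq : PicF.IsInvertible (cokernel j) :=
      Groth.Agent.Helper26.NefExt.isInvertible_of_rank_one _ hQr
    obtain ⟨N, hN, ⟨eQN⟩, ⟨eNQ⟩⟩ := Groth.Agent.Helper13.InvDual.exists_inverse (cokernel j) hq
    have hN1 := Groth.Agent.Helper26.IntLF.isFinLocFreeOfRank_one_of_isInvertible N hN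
    have hdQN := Groth.Agent.Helper26.DegTensor.deg_tensor k X hdim.le (cokernel j) N 1 1 hQr hN1
    have hisoQ := Groth.Agent.Helper26.DegTensor.deg_of_iso k X eQN 1
    have hO := Groth.Agent.Helper13.CurveDeg.deg_structureModule k X
    simp only [mul_one, Nat.cast_one, one_mul] at hdQN
    rw [hisoQ, hO] at hdQN
    have hdJN := Groth.Agent.Helper26.DegTensor.deg_tensor k X hdim.le J N 1 1 hJr hN1
    simp only [mul_one, Nat.cast_one, one_mul] at hdJN
    have hJN1 : FlatMod.IsFinLocFreeOfRank 1 (CohB1.tensorMod J N) := by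
      have := Groth.Agent.Helper26.HiggsSS.isFinLocFreeOfRank_tensorMod J N 1 1 hJr hN1
      simpa using this
    have hJNi : PicF.IsInvertible (CohB1.tensorMod J N) :=
      Groth.Agent.Helper26.NefExt.isInvertible_of_rank_one _ hJN1
    have hbig : 2 * (Curv2.genus k X : ℤ) - 1 ≤ Curv2.deg k X (CohB1.tensorMod J N) 1 := by
      rw [hg, hdJN]
      push_cast
      linarith
    have hsub := Groth.Agent.Helper3.CurveHopf.main1522 k X hdim _ hJNi hbig
    let S : ShortComplex X.Modules := ShortComplex.mk j (cokernel.π j) (cokernel.condition j)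
    have hS : S.ShortExact :=
      ShortComplex.ShortExact.mk' (ShortComplex.exact_cokernel j)
        (inferInstanceAs (Mono j)) (inferInstanceAs (Epi (cokernel.π j)))
    have hsplit := Groth.Agent.Helper26.SplitH1.nonempty_iso_biprod k hdim S hS hq N hN eQN eNQ hsub
    rcases hind J (cokernel j) hsplit with hz | hz
    · exact Groth.Agent.Helper20.VBIndec.not_isZero_of_isFinLocFreeOfRank 1 one_pos J hJr hz
    · exact Groth.Agent.Helper20.VBIndec.not_isZero_of_isFinLocFreeOfRank 1 one_pos _ hQr hz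
  · have hle := Groth.Agent.Helper26.StabCurve.euler_le_of_mono_of_rank k hdim 2 hF hE i
    have : Curv2.deg k X F 2 ≤ Curv2.deg k X E 2 := by
      unfold Curv2.deg
      linarith
    push_cast
    linarith

theorem main12633 [IsAlgClosed k] (hdim : topologicalKrullDim X = 1)
    (hg : Curv2.genus k X = 1) (E : X.Modules) (hE : FlatMod.IsFinLocFreeOfRank 2 E)
    (hodd : Odd (Curv2.deg k X E 2)) :
    List.TFAE [
      (¬ IsZero E ∧ ∀ (E₁ E₂ : X.Modules), Nonempty (E ≅ E₁ ⊞ E₂) → IsZero E₁ ∨ IsZero E₂),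
      (∀ φ : E ⟶ E, ∃ c : k, (SheafOfModules.toSheaf X.ringCatSheaf).map φ =
        Coh.smulAb E (Coh.toGlobal (X ↘ Spec (CommRingCat.of k)) c)),
      (∀ (F : X.Modules) (r' : ℕ) (i : F ⟶ E), Mono i → 0 < r' → r' < 2 →
        FlatMod.IsFinLocFreeOfRank r' F →
        Curv2.deg k X F r' * (2 : ℤ) < Curv2.deg k X E 2 * (r' : ℤ)),
      (∀ (F : X.Modules) (r' : ℕ) (i : F ⟶ E), Mono i → 0 < r' →
        FlatMod.IsFinLocFreeOfRank r' F →
        Curv2.deg k X F r' * (2 : ℤ) ≤ Curv2.deg k X E 2 * (r' : ℤ))] := by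
  have hEne : ¬ IsZero E :=
    Groth.Agent.Helper20.VBIndec.not_isZero_of_isFinLocFreeOfRank 2 (by norm_num) E hE
  tfae_have 3 → 2 := fun hst φ =>
    Groth.Agent.Helper26.StabIso.main11811 k hdim 2 E hE hst φ
  tfae_have 2 → 1 := fun hs => ⟨hEne, fun E₁ E₂ h => indec_of_simple k E hEne hs E₁ E₂ h⟩
  tfae_have 1 → 4 := fun h F r' i hi hr' hF =>
    semistable_of_indec k hdim hg E hE h.2 F r' i hi hr' hF
  tfae_have 4 → 3 := by
    intro hss F r' i hi hr' hlt hF
    have h1 : r' = 1 := by omega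
    subst h1
    have h := hss F 1 i hi hr' hF
    rcases h.lt_or_eq with h | h
    · exact h
    · exfalso
      obtain ⟨m, hm⟩ := hodd
      push_cast at h
      omega
  tfae_finish

end Groth.Agent.Helper26.OddTFAE
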