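import Mathlib

/-!
# Combinatorics of splitting types
-/

set_option autoImplicit false
universe u

namespace Groth.Agent.Helper26.P1Comb

variable {r : ℕ}

/-- `∑ h⁰(O(a - d_j))`. -/
def S (d : Fin r → ℤ) (a : ℤ) : ℕ := ∑ j, (a - d j + 1).toNat

/-- the number of `j` with `d_j ≤ a`. -/
def cnt (d : Fin r → ℤ) (a : ℤ) : ℕ := (Finset.univ.filter (fun j => d j ≤ a)).card

lemma S_eq (d : Fin r → ℤ) (a : ℤ) : S d a = S d (a - 1) + cnt d a := by
  unfold S cnt
  rw [Finset.card_filter, ← Finset.sum_add_distrib]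
  refine Finset.sum_congr rfl (fun j _ => ?_)
  split_ifs <;> omega

lemma cnt_eq_of_S_eq (d d' : Fin r → ℤ) (h : ∀ a, S d a = S d' a) (a : ℤ) : cnt d a = cnt d' a := by
  have h1 := S_eq d a
  have h2 := S_eq d' a
  have h3 := h a
  have h4 := h (a - 1)
  omega

lemma le_iff_of_antitone (d : Fin r → ℤ) (hd : Antitone d) (a : ℤ) (i : Fin r) :
    d i ≤ a ↔ r - cnt d a ≤ i.val := by
  constructor
  · intro h
    have hsub : Finset.Ici i ⊆ Finset.univ.filter (fun j => d j ≤ a) := by
      intro j hj
      rw [Finset.mem_Ici] at hj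
      rw [Finset.mem_filter]
      exact ⟨Finset.mem_univ _, (hd hj).trans h⟩
    have hc := Finset.card_le_card hsub
    rw [Fin.card_Ici] at hc
    unfold cnt
    omega
  · intro h
    by_contra hn
    have hsub : Finset.univ.filter (fun j => d j ≤ a) ⊆ Finset.Ioi i := by
      intro j hj
      rw [Finset.mem_filter] at hj
      rw [Finset.mem_Ioi]
      by_contra hji
      rw [not_lt] at hji
      exact hn ((hd hji).trans hj.2)
    have hc := Finset.card_le_card hsub
    rw [Fin.card_Ioi] at hc
    unfold cnt at h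
    have := i.2
    omega

theorem eq_of_S_eq (d d' : Fin r → ℤ) (hd : Antitone d) (hd' : Antitone d')
    (h : ∀ a, S d a = S d' a) : d = d' := by
  funext i
  have key : ∀ a, d i ≤ a ↔ d' i ≤ a := by
    intro a
    rw [le_iff_of_antitone d hd a i, le_iff_of_antitone d' hd' a i, cnt_eq_of_S_eq d d' h a]
  exact le_antisymm ((key (d' i)).2 le_rfl) ((key (d i)).1 le_rfl)

end Groth.Agent.Helper26.P1Comb
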