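import Mathlib
import Groth.Agent.Lib.Helper26.HomVan
import Groth.Agent.Lib.Helper26.PnEuler
import Groth.Agent.Lib.Helper26.SerreLF

/-!
# Uniqueness of the splitting type on `P^1_k`
-/

set_option autoImplicit false
set_option maxHeartbeats 400000
set_option linter.unusedSectionVars false
set_option linter.unusedVariables false
universe u
open CategoryTheory CategoryTheory.Limits AlgebraicGeometry Opposite TopologicalSpace
open RefHull Groth.Agent.Lead.HomSh Groth.Agent.Helper26.HomPre Groth.Agent.Helper26.DualFun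
open Groth.Agent.Helper26.HomVan

namespace Groth.Agent.Helper26.P1Uniq

attribute [local instance] Abelian.hasFiniteBiproducts

section General

variable (A : Type u) [CommRing A] {X : Scheme.{u}} [X.Over (Spec (CommRingCat.of A))]

/-- `𝓗om(-, G)` sends isomorphisms to isomorphisms. -/
noncomputable def preIso {F F' : X.Modules} (G : X.Modules) (e : F ≅ F') :
    homSh F' G ≅ homSh F G where
  hom := pre G e.hom
  inv := pre G e.inv
  hom_inv_id := by rw [← pre_comp, e.inv_hom_id, pre_id]
  inv_hom_id := by rw [← pre_comp, e.hom_inv_id, pre_id]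

lemma pre_sum {K E : X.Modules} (G : X.Modules) {ι : Type*} (s : Finset ι) (u : ι → (K ⟶ E)) :
    pre G (∑ i ∈ s, u i) = ∑ i ∈ s, pre G (u i) :=
  map_sum (preAdd (K := K) (E := E) G) u s

section Pi

variable {m : ℕ} (E : Fin m → X.Modules) (G : X.Modules) (j : ℕ)

/-- the components of a cohomology class of `𝓗om(⨁ E, G)`. -/
noncomputable def toPi :
    Coh.HH X (homSh (⨁ E) G) j →ₗ[A] (∀ i, Coh.HH X (homSh (E i) G) j) :=
  LinearMap.pi (fun i => Canon.HHlin A (pre G (biproduct.ι E i)) j)

/-- assembling a cohomology class of `𝓗om(⨁ E, G)` from its components. -/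
noncomputable def ofPi :
    (∀ i, Coh.HH X (homSh (E i) G) j) →ₗ[A] Coh.HH X (homSh (⨁ E) G) j :=
  ∑ i, (Canon.HHlin A (pre G (biproduct.π E i)) j).comp (LinearMap.proj i)

lemma toPi_apply (x : Coh.HH X (homSh (⨁ E) G) j) (i : Fin m) :
    toPi A E G j x i = Canon.HHlin A (pre G (biproduct.ι E i)) j x := rfl

lemma ofPi_apply (y : ∀ i, Coh.HH X (homSh (E i) G) j) :
    ofPi A E G j y = ∑ i, Canon.HHlin A (pre G (biproduct.π E i)) j (y i) := by
  unfold ofPi
  rw [LinearMap.sum_apply]
  rfl

lemma HHlin_ι_π (i l : Fin m) (z : Coh.HH X (homSh (E l) G) j) :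
    Canon.HHlin A (pre G (biproduct.ι E i)) j (Canon.HHlin A (pre G (biproduct.π E l)) j z) =
      Canon.HHlin A (pre G (biproduct.ι E i ≫ biproduct.π E l)) j z := by
  rw [pre_comp, HHlin_comp, LinearMap.comp_apply]

lemma toPi_ofPi (y : ∀ i, Coh.HH X (homSh (E i) G) j) : toPi A E G j (ofPi A E G j y) = y := by
  classical
  funext i
  rw [toPi_apply, ofPi_apply, map_sum, Finset.sum_eq_single i]
  · rw [HHlin_ι_π, biproduct.ι_π_self, pre_id, HHlin_id]
    rfl
  · intro l _ hli
    rw [HHlin_ι_π, biproduct.ι_π_ne E (Ne.symm hli), pre_zero, HHlin_zero]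
    rfl
  · intro hi
    exact absurd (Finset.mem_univ i) hi

lemma ofPi_toPi (x : Coh.HH X (homSh (⨁ E) G) j) : ofPi A E G j (toPi A E G j x) = x := by
  have h1 : Canon.HHlin A (𝟙 (homSh (⨁ E) G)) j x = x := by
    rw [HHlin_id]
    rfl
  have h2 : 𝟙 (homSh (⨁ E) G) =
      ∑ i : Fin m, pre G (biproduct.ι E i) ≫ pre G (biproduct.π E i) := by
    rw [← pre_id, ← biproduct.total, pre_sum]
    apply Finset.sum_congr rfl
    intro i _
    exact pre_comp G _ _
  rw [h2, HHlin_sum, LinearMap.sum_apply] at h1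
  rw [ofPi_apply]
  refine Eq.trans ?_ h1
  refine Finset.sum_congr rfl (fun i _ => ?_)
  rw [toPi_apply, HHlin_comp, LinearMap.comp_apply]

/-- cohomology of `𝓗om(⨁ E, G)`. -/
noncomputable def hhPi :
    Coh.HH X (homSh (⨁ E) G) j ≃ₗ[A] (∀ i, Coh.HH X (homSh (E i) G) j) where
  toLinearMap := toPi A E G j
  invFun := ofPi A E G j
  left_inv := ofPi_toPi A E G j
  right_inv := toPi_ofPi A E G j

theorem finrank_hh_biproduct [Nontrivial A]
    [∀ i, Module.Free A (Coh.HH X (homSh (E i) G) j)]
    [∀ i, Module.Finite A (Coh.HH X (homSh (E i) G) j)] :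
    Module.finrank A (Coh.HH X (homSh (⨁ E) G) j) =
      ∑ i, Module.finrank A (Coh.HH X (homSh (E i) G) j) := by
  rw [(hhPi A E G j).finrank_eq, Module.finrank_pi_fintype]

end Pi

end General

end Groth.Agent.Helper26.P1Uniq
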