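import Mathlib
import Groth.Agent.Lib.Helper26.P1Uniq
import Groth.Agent.Lib.Helper26.P1Comb

/-!
# Uniqueness of the splitting type on `P^1_k`: the dimension count
-/

set_option autoImplicit false
set_option maxHeartbeats 400000
set_option linter.unusedSectionVars false
set_option linter.unusedVariables false
universe u
open CategoryTheory CategoryTheory.Limits AlgebraicGeometry Opposite TopologicalSpace
open RefHull Groth.Agent.Lead.HomSh Groth.Agent.Helper26.HomPre Groth.Agent.Helper26.DualFun
open Groth.Agent.Helper26.HomVan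

namespace Groth.Agent.Helper26.P1Uniq

attribute [local instance] Abelian.hasFiniteBiproducts

variable (k : Type u) [Field k]

theorem finrank_h0_twist (m : ℤ) :
    Module.finrank k (Coh.HH (CohB1.ProjSpace 1 k) (Twist.twistProjSpace 1 k m) 0) =
      (m + 1).toNat := by
  rcases lt_or_ge m 0 with hm | hm
  · rw [Groth.Agent.Helper26.PnCoh.finrank_H_zero k 1 m 0 (by omega) (by omega)]
    omega
  · obtain ⟨n, rfl⟩ := Int.eq_ofNat_of_zero_le hm
    rw [Groth.Agent.Helper26.PnCoh.finrank_H0 k 1 n, Nat.choose_one_right]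
    omega

theorem finrank_h0_hom (a b : ℤ) :
    Module.finrank k (Coh.HH (CohB1.ProjSpace 1 k)
      (homSh (Twist.twistProjSpace 1 k a) (Twist.twistProjSpace 1 k b)) 0) =
      (b - a + 1).toNat := by
  obtain ⟨e⟩ := nonempty_homSh_twist_iso 1 k a b
  rw [finrank_HH_of_iso k e 0, finrank_h0_twist]
  congr 1

theorem finite_h0_hom (a b : ℤ) :
    Module.Finite k (Coh.HH (CohB1.ProjSpace 1 k)
      (homSh (Twist.twistProjSpace 1 k a) (Twist.twistProjSpace 1 k b)) 0) := by
  obtain ⟨e⟩ := nonempty_homSh_twist_iso 1 k a b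
  have := Groth.Agent.Helper26.SerreLF.finite_HH k 1 (Twist.twistProjSpace 1 k (b + -a))
    (Groth.Agent.Helper26.PnCoh.isCoh_twist 1 k _) 0
  exact Module.Finite.equiv (HHlinEquiv k e 0).symm

theorem finrank_h0_hom_biproduct {r : ℕ} (d : Fin r → ℤ) (a : ℤ) :
    Module.finrank k (Coh.HH (CohB1.ProjSpace 1 k)
      (homSh (⨁ fun j => Twist.twistProjSpace 1 k (d j)) (Twist.twistProjSpace 1 k a)) 0) =
      Groth.Agent.Helper26.P1Comb.S d a := by
  have : ∀ i, Module.Finite k (Coh.HH (CohB1.ProjSpace 1 k)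
      (homSh (Twist.twistProjSpace 1 k (d i)) (Twist.twistProjSpace 1 k a)) 0) :=
    fun i => finite_h0_hom k (d i) a
  rw [finrank_hh_biproduct k (fun j => Twist.twistProjSpace 1 k (d j))
    (Twist.twistProjSpace 1 k a) 0]
  unfold Groth.Agent.Helper26.P1Comb.S
  exact Finset.sum_congr rfl (fun j _ => finrank_h0_hom k (d j) a)

/-- **uniqueness of the splitting type.** -/
theorem eq_of_iso {r : ℕ} (d d' : Fin r → ℤ) (hd : Antitone d) (hd' : Antitone d')
    (e : (⨁ fun j => Twist.twistProjSpace 1 k (d j)) ≅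
      ⨁ fun j => Twist.twistProjSpace 1 k (d' j)) : d = d' := by
  apply Groth.Agent.Helper26.P1Comb.eq_of_S_eq d d' hd hd'
  intro a
  rw [← finrank_h0_hom_biproduct k d a, ← finrank_h0_hom_biproduct k d' a]
  exact (finrank_HH_of_iso k (preIso (Twist.twistProjSpace 1 k a) e) 0).symm

end Groth.Agent.Helper26.P1Uniq
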