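import Mathlib
import Groth.Prelude.Def_W4c1stackycurvesGalP1

set_option autoImplicit false

namespace Groth.Agent.Helper26.PGL

open W4c1stackycurves Matrix

universe u

variable {k K : Type u} [Field k] [Field K] [Algebra k K]

/-- the projective line over `K`. -/
abbrev PP (K : Type u) [Field K] := Projectivization K (Fin 2 → K)

/-- the action of `GL₂(K)` on the projective line. -/
noncomputable def act (M : Matrix.GeneralLinearGroup (Fin 2) K) (x : PP K) : PP K :=
  (Matrix.GeneralLinearGroup.toLin M) • x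

theorem mulVec_ne_zero (M : Matrix.GeneralLinearGroup (Fin 2) K) {v : Fin 2 → K} (hv : v ≠ 0) :
    M.1 *ᵥ v ≠ 0 := by
  intro h
  apply hv
  have : (M⁻¹).1 *ᵥ (M.1 *ᵥ v) = v := by
    rw [Matrix.mulVec_mulVec, ← Units.val_mul, inv_mul_cancel, Units.val_one, Matrix.one_mulVec]
  rw [← this, h, Matrix.mulVec_zero]

theorem act_mk (M : Matrix.GeneralLinearGroup (Fin 2) K) {v : Fin 2 → K} (hv : v ≠ 0) :
    act M (Projectivization.mk K v hv) = Projectivization.mk K (M.1 *ᵥ v) (mulVec_ne_zero M hv) := by
  unfold act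
  rw [Projectivization.smul_mk]
  rfl

theorem act_one (x : PP K) : act (1 : Matrix.GeneralLinearGroup (Fin 2) K) x = x := by
  unfold act
  rw [map_one, one_smul]

theorem act_mul (M N : Matrix.GeneralLinearGroup (Fin 2) K) (x : PP K) :
    act (M * N) x = act M (act N x) := by
  unfold act
  rw [map_mul, mul_smul]

theorem galVec_ne_zero (σ : K ≃ₐ[k] K) {v : Fin 2 → K} (hv : v ≠ 0) : galVec σ (Fin 2) v ≠ 0 := by
  intro h
  apply hv
  apply galVec_injective σ (Fin 2)
  rw [h, map_zero]

theorem galP_mk (σ : K ≃ₐ[k] K) {v : Fin 2 → K} (hv : v ≠ 0) :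
    galP σ (Projectivization.mk K v hv) =
      Projectivization.mk K (galVec σ (Fin 2) v) (galVec_ne_zero σ hv) := by
  unfold galP
  rw [Projectivization.map_mk]

theorem act_map_galP (σ : K ≃ₐ[k] K) (M : Matrix.GeneralLinearGroup (Fin 2) K) (x : PP K) :
    act (Matrix.GeneralLinearGroup.map (σ : K →+* K) M) (galP σ x) = galP σ (act M x) := by
  induction x using Projectivization.ind with
  | h v hv =>
    rw [galP_mk, act_mk, act_mk, galP_mk]
    congr 1
    ext i
    rw [galVec_apply]
    have := RingHom.map_mulVec (σ : K →+* K) M.1 v i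
    exact this.symm

theorem act_eq_of_smul (M N : Matrix.GeneralLinearGroup (Fin 2) K) (c : K) (hc : c ≠ 0)
    (h : M.1 = c • N.1) (x : PP K) : act M x = act N x := by
  induction x using Projectivization.ind with
  | h v hv =>
    rw [act_mk, act_mk, Projectivization.mk_eq_mk_iff]
    refine ⟨Units.mk0 c hc, ?_⟩
    rw [h, Matrix.smul_mulVec]
    rfl

theorem galP_one (x : PP K) : galP (1 : K ≃ₐ[k] K) x = x := by
  induction x using Projectivization.ind with
  | h v hv =>
    rw [galP_mk]
    congr 1

theorem galP_mul (σ τ : K ≃ₐ[k] K) (x : PP K) : galP (σ * τ) x = galP σ (galP τ x) := by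
  induction x using Projectivization.ind with
  | h v hv =>
    rw [galP_mk, galP_mk, galP_mk]
    congr 1

end Groth.Agent.Helper26.PGL
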