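import Mathlib
import Groth.Agent.Lib.Helper26.PGL1

set_option autoImplicit false

namespace Groth.Agent.Helper26.PGL

open W4c1stackycurves Matrix

universe u

variable {K : Type u} [Field K]

theorem linearIndependent_rep {x y : PP K} (h : x ≠ y) :
    LinearIndependent K ![x.rep, y.rep] := by
  have h1 := (Projectivization.independent_pair_iff_ne x y).2 h
  rw [Projectivization.independent_iff] at h1
  have h2 : Projectivization.rep ∘ ![x, y] = ![x.rep, y.rep] := by
    ext i j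
    fin_cases i <;> rfl
  rw [h2] at h1
  exact h1

/-- in `K²`, two independent vectors span. -/
theorem exists_eq_add {v₁ v₂ : Fin 2 → K} (h : LinearIndependent K ![v₁, v₂]) (v : Fin 2 → K) :
    ∃ α β : K, v = α • v₁ + β • v₂ := by
  have hcard : Fintype.card (Fin 2) = Module.finrank K (Fin 2 → K) := by
    rw [Module.finrank_fin_fun, Fintype.card_fin]
  let B := basisOfLinearIndependentOfCardEqFinrank h hcard
  refine ⟨B.repr v 0, B.repr v 1, ?_⟩
  have h1 := B.sum_repr v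
  rw [Fin.sum_univ_two] at h1
  have h2 : ∀ i, B i = ![v₁, v₂] i := fun i => by
    simp [B]
  rw [h2, h2] at h1
  exact h1.symm

theorem coeff_ne_zero {x₁ x₂ x₃ : PP K} (h13 : x₁ ≠ x₃) (h23 : x₂ ≠ x₃) {α β : K}
    (h : x₃.rep = α • x₁.rep + β • x₂.rep) : α ≠ 0 ∧ β ≠ 0 := by
  constructor
  · rintro rfl
    rw [zero_smul, zero_add] at h
    apply h23
    rw [← Projectivization.mk_rep x₂, ← Projectivization.mk_rep x₃,
      Projectivization.mk_eq_mk_iff']
    refine ⟨β⁻¹, ?_⟩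
    rw [h, smul_smul, inv_mul_cancel₀, one_smul]
    rintro rfl
    rw [zero_smul] at h
    exact x₃.rep_nonzero h
  · rintro rfl
    rw [zero_smul, add_zero] at h
    apply h13
    rw [← Projectivization.mk_rep x₁, ← Projectivization.mk_rep x₃,
      Projectivization.mk_eq_mk_iff']
    refine ⟨α⁻¹, ?_⟩
    rw [h, smul_smul, inv_mul_cancel₀, one_smul]
    rintro rfl
    rw [zero_smul] at h
    exact x₃.rep_nonzero h

/-- a matrix fixing three distinct points of the projective line is scalar. -/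
theorem scalar_of_fix (M : Matrix.GeneralLinearGroup (Fin 2) K) {x₁ x₂ x₃ : PP K}
    (h12 : x₁ ≠ x₂) (h13 : x₁ ≠ x₃) (h23 : x₂ ≠ x₃)
    (f1 : act M x₁ = x₁) (f2 : act M x₂ = x₂) (f3 : act M x₃ = x₃) :
    ∃ c : K, M.1 = c • (1 : Matrix (Fin 2) (Fin 2) K) := by
  have key : ∀ x : PP K, act M x = x → ∃ c : K, M.1 *ᵥ x.rep = c • x.rep := by
    intro x hx
    have h1 : act M (Projectivization.mk K x.rep x.rep_nonzero) =
        Projectivization.mk K x.rep x.rep_nonzero := by
      rw [Projectivization.mk_rep]; exact hx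
    rw [act_mk, Projectivization.mk_eq_mk_iff'] at h1
    obtain ⟨a, ha⟩ := h1
    exact ⟨a, ha.symm⟩
  obtain ⟨c₁, hc₁⟩ := key x₁ f1
  obtain ⟨c₂, hc₂⟩ := key x₂ f2
  obtain ⟨c₃, hc₃⟩ := key x₃ f3
  have hli := linearIndependent_rep h12
  obtain ⟨α, β, hαβ⟩ := exists_eq_add hli x₃.rep
  obtain ⟨hα, hβ⟩ := coeff_ne_zero h13 h23 hαβ
  have h1 : (α * c₁ - c₃ * α) • x₁.rep + (β * c₂ - c₃ * β) • x₂.rep = 0 := by
    have h2 : M.1 *ᵥ x₃.rep = (α * c₁) • x₁.rep + (β * c₂) • x₂.rep := by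
      rw [hαβ, Matrix.mulVec_add, Matrix.mulVec_smul, Matrix.mulVec_smul, hc₁, hc₂, smul_smul,
        smul_smul]
    rw [hc₃, hαβ, smul_add, smul_smul, smul_smul] at h2
    rw [sub_smul, sub_smul]
    have h2' := sub_eq_zero.2 h2.symm
    rw [← h2']
    abel
  have h3 := (LinearIndependent.pair_iff.1 hli) _ _ h1
  have e1 : c₁ = c₃ := by
    have := h3.1
    have h4 : α * (c₁ - c₃) = 0 := by linear_combination this
    rcases mul_eq_zero.1 h4 with h | h
    · exact absurd h hα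
    · exact sub_eq_zero.1 h
  have e2 : c₂ = c₃ := by
    have := h3.2
    have h4 : β * (c₂ - c₃) = 0 := by linear_combination this
    rcases mul_eq_zero.1 h4 with h | h
    · exact absurd h hβ
    · exact sub_eq_zero.1 h
  refine ⟨c₃, ?_⟩
  apply Matrix.mulVec_injective
  ext v : 1
  obtain ⟨a, b, rfl⟩ := exists_eq_add hli v
  rw [Matrix.mulVec_add, Matrix.mulVec_smul, Matrix.mulVec_smul, hc₁, hc₂, e1, e2,
    Matrix.smul_mulVec, Matrix.one_mulVec, smul_add, smul_comm a, smul_comm b]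

/-- three distinct points can be moved to three distinct points. -/
theorem exists_act_eq {x₁ x₂ x₃ y₁ y₂ y₃ : PP K}
    (h12 : x₁ ≠ x₂) (h13 : x₁ ≠ x₃) (h23 : x₂ ≠ x₃)
    (k12 : y₁ ≠ y₂) (k13 : y₁ ≠ y₃) (k23 : y₂ ≠ y₃) :
    ∃ M : Matrix.GeneralLinearGroup (Fin 2) K, act M x₁ = y₁ ∧ act M x₂ = y₂ ∧ act M x₃ = y₃ := by
  have hcard : Fintype.card (Fin 2) = Module.finrank K (Fin 2 → K) := by
    rw [Module.finrank_fin_fun, Fintype.card_fin]
  have hli := linearIndependent_rep h12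
  obtain ⟨α, β, hαβ⟩ := exists_eq_add hli x₃.rep
  obtain ⟨hα, hβ⟩ := coeff_ne_zero h13 h23 hαβ
  have kli := linearIndependent_rep k12
  obtain ⟨γ, δ, hγδ⟩ := exists_eq_add kli y₃.rep
  obtain ⟨hγ, hδ⟩ := coeff_ne_zero k13 k23 hγδ
  let B := basisOfLinearIndependentOfCardEqFinrank hli hcard
  have hB : ∀ i, B i = ![x₁.rep, x₂.rep] i := fun i => by simp [B]
  let w : Fin 2 → Kˣ := ![Units.mk0 (γ / α) (div_ne_zero hγ hα), Units.mk0 (δ / β) (div_ne_zero hδ hβ)]
  have kli' : LinearIndependent K (w • ![y₁.rep, y₂.rep]) := kli.units_smul w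
  let B' := basisOfLinearIndependentOfCardEqFinrank kli' hcard
  have hB' : ∀ i, B' i = (w • ![y₁.rep, y₂.rep]) i := fun i => by simp [B']
  let f : (Fin 2 → K) ≃ₗ[K] (Fin 2 → K) := B.equiv B' (Equiv.refl _)
  have hf0 : f x₁.rep = (γ / α) • y₁.rep := by
    have := B.equiv_apply 0 B' (Equiv.refl _)
    rw [hB, hB'] at this
    simpa [w] using this
  have hf1 : f x₂.rep = (δ / β) • y₂.rep := by
    have := B.equiv_apply 1 B' (Equiv.refl _)
    rw [hB, hB'] at this
    simpa [w] using this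
  have hf2 : f x₃.rep = y₃.rep := by
    rw [hαβ, map_add, map_smul, map_smul, hf0, hf1, smul_smul, smul_smul, hγδ,
      mul_div_cancel₀ _ hα, mul_div_cancel₀ _ hβ]
  let F : LinearMap.GeneralLinearGroup K (Fin 2 → K) := LinearMap.GeneralLinearGroup.ofLinearEquiv f
  let M : Matrix.GeneralLinearGroup (Fin 2) K := Matrix.GeneralLinearGroup.toLin.symm F
  have hM : ∀ x : PP K, act M x =
      Projectivization.mk K (f x.rep) (fun h => x.rep_nonzero (f.map_eq_zero_iff.1 h)) := by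
    intro x
    unfold act
    rw [MulEquiv.apply_symm_apply]
    conv_lhs => rw [← Projectivization.mk_rep x]
    rw [Projectivization.smul_mk]
    rfl
  refine ⟨M, ?_, ?_, ?_⟩
  · rw [hM, ← Projectivization.mk_rep y₁, Projectivization.mk_eq_mk_iff']
    exact ⟨γ / α, hf0.symm⟩
  · rw [hM, ← Projectivization.mk_rep y₂, Projectivization.mk_eq_mk_iff']
    exact ⟨δ / β, hf1.symm⟩
  · rw [hM, ← Projectivization.mk_rep y₃, Projectivization.mk_eq_mk_iff']
    exact ⟨1, by rw [one_smul, hf2]⟩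

end Groth.Agent.Helper26.PGL
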