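import Mathlib
import Groth.Agent.Lib.Helper26.PGL2

set_option autoImplicit false

namespace Groth.Agent.Helper26.PGL

open W4c1stackycurves Matrix

universe u

variable {k K : Type u} [Field k] [Field K] [Algebra k K]

theorem map_val (f : K →+* K) (M : Matrix.GeneralLinearGroup (Fin 2) K) :
    (Matrix.GeneralLinearGroup.map f M).1 = M.1.map f := by
  ext i j
  exact Matrix.GeneralLinearGroup.map_apply f i j M

theorem map_val' (M : Matrix.GeneralLinearGroup (Fin 2) k) :
    (Matrix.GeneralLinearGroup.map (algebraMap k K) M).1 = M.1.map (algebraMap k K) := by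
  ext i j
  exact Matrix.GeneralLinearGroup.map_apply (algebraMap k K) i j M

/-- Galois descent of a matrix which is Galois-invariant up to scalars. -/
theorem descent [FiniteDimensional k K] [IsGalois k K] (M : Matrix.GeneralLinearGroup (Fin 2) K)
    (h : ∀ σ : K ≃ₐ[k] K, ∃ c : K, M.1.map (σ : K →+* K) = c • M.1) :
    ∃ (g : Matrix.GeneralLinearGroup (Fin 2) k) (c : K), c ≠ 0 ∧
      (Matrix.GeneralLinearGroup.map (algebraMap k K) g).1 = c • M.1 := by
  have hne : ∃ p q, M.1 p q ≠ 0 := by
    by_contra hcon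
    push Not at hcon
    have h0 : M.1 = 0 := by ext i j; exact hcon i j
    have h1 : M.1.det ≠ 0 := by
      have := M.isUnit
      exact ((Matrix.isUnit_iff_isUnit_det _).1 this).ne_zero
    rw [h0, Matrix.det_zero] at h1
    exact h1 rfl
  obtain ⟨p, q, hpq⟩ := hne
  set a := M.1 p q with ha
  let M₀ : Matrix (Fin 2) (Fin 2) K := a⁻¹ • M.1
  have hfix : ∀ (σ : K ≃ₐ[k] K) (i j : Fin 2), σ (M₀ i j) = M₀ i j := by
    intro σ i j
    obtain ⟨c, hc⟩ := h σ
    have h1 : ∀ i j, σ (M.1 i j) = c * M.1 i j := by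
      intro i j
      have := congrFun (congrFun hc i) j
      simpa using this
    have hc0 : c ≠ 0 := by
      rintro rfl
      have := h1 p q
      rw [zero_mul] at this
      exact hpq ((map_eq_zero σ).1 this)
    change σ (a⁻¹ • M.1 i j) = a⁻¹ • M.1 i j
    rw [smul_eq_mul, map_mul, map_inv₀, h1, ha, h1]
    field_simp
  have hrange : ∀ i j, ∃ y : k, algebraMap k K y = M₀ i j := by
    intro i j
    exact (IsGalois.mem_range_algebraMap_iff_fixed (M₀ i j)).2 (fun σ => hfix σ i j)
  choose m hm using hrange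
  let M₁ : Matrix (Fin 2) (Fin 2) k := Matrix.of m
  have hM₁ : M₁.map (algebraMap k K) = M₀ := by
    ext i j
    exact hm i j
  have hdet₀ : M₀.det ≠ 0 := by
    have h1 : M.1.det ≠ 0 := by
      have := M.isUnit
      exact ((Matrix.isUnit_iff_isUnit_det _).1 this).ne_zero
    change (a⁻¹ • M.1).det ≠ 0
    rw [Matrix.det_smul]
    exact mul_ne_zero (pow_ne_zero _ (inv_ne_zero hpq)) h1
  have hdet : M₁.det ≠ 0 := by
    intro h0
    apply hdet₀
    rw [← hM₁, ← RingHom.mapMatrix_apply, ← RingHom.map_det, h0, map_zero]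
  refine ⟨Matrix.GeneralLinearGroup.mkOfDetNeZero M₁ hdet, a⁻¹, inv_ne_zero hpq, ?_⟩
  rw [map_val']
  exact hM₁

end Groth.Agent.Helper26.PGL
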