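import Mathlib
import Groth.Agent.Lib.Helper26.PGL3

set_option autoImplicit false

namespace Groth.Agent.Helper26.PGL

open W4c1stackycurves Matrix

universe u

variable {k K : Type u} [Field k] [Field K] [Algebra k K]

theorem core [FiniteDimensional k K] [IsGalois k K]
    (S S' : Set (PP K)) (h3 : S.ncard = 3)
    (hS : ∀ (σ : K ≃ₐ[k] K) (x : PP K), x ∈ S → galP σ x ∈ S)
    (b : S ≃ S')
    (hb : ∀ (σ : K ≃ₐ[k] K) (x : S),
      (b ⟨galP σ x.1, hS σ x.1 x.2⟩ : PP K) = galP σ (b x).1) :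
    ∃ g : Matrix.GeneralLinearGroup (Fin 2) k, ∀ x : S,
      act (Matrix.GeneralLinearGroup.map (algebraMap k K) g) x.1 = (b x).1 := by
  obtain ⟨x₁, x₂, x₃, h12, h13, h23, hSeq⟩ := Set.ncard_eq_three.1 h3
  have m1 : x₁ ∈ S := by rw [hSeq]; simp
  have m2 : x₂ ∈ S := by rw [hSeq]; simp
  have m3 : x₃ ∈ S := by rw [hSeq]; simp
  have inj : ∀ {x y : PP K} (hx : x ∈ S) (hy : y ∈ S), x ≠ y → (b ⟨x, hx⟩).1 ≠ (b ⟨y, hy⟩).1 := by
    intro x y hx hy hxy h
    apply hxy
    have := b.injective (Subtype.ext h)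
    exact congrArg Subtype.val this
  obtain ⟨M, hM1, hM2, hM3⟩ := exists_act_eq h12 h13 h23 (inj m1 m2 h12) (inj m1 m3 h13)
    (inj m2 m3 h23)
  have hM : ∀ x : S, act M x.1 = (b x).1 := by
    rintro ⟨x, hx⟩
    have hx' := hx
    rw [hSeq] at hx'
    rcases hx' with rfl | rfl | rfl
    · exact hM1
    · exact hM2
    · exact hM3
  have hσ : ∀ σ : K ≃ₐ[k] K, ∃ c : K, M.1.map (σ : K →+* K) = c • M.1 := by
    intro σ
    have h1 : ∀ x : S, act (Matrix.GeneralLinearGroup.map (σ : K →+* K) M) x.1 = (b x).1 := by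
      intro x
      let x' : S := ⟨galP σ⁻¹ x.1, hS σ⁻¹ x.1 x.2⟩
      have hx' : galP σ x'.1 = x.1 := by
        change galP σ (galP σ⁻¹ x.1) = x.1
        rw [← galP_mul, mul_inv_cancel, galP_one]
      have h2 : (⟨galP σ x'.1, hS σ x'.1 x'.2⟩ : S) = x := Subtype.ext hx'
      rw [← hx', act_map_galP, hM x', ← hb σ x', h2]
    let N := M⁻¹ * Matrix.GeneralLinearGroup.map (σ : K →+* K) M
    have hN : ∀ x : S, act N x.1 = x.1 := by
      intro x
      change act (M⁻¹ * _) x.1 = x.1
      rw [act_mul, h1 x, ← hM x, ← act_mul, inv_mul_cancel, act_one]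
    obtain ⟨c, hc⟩ := scalar_of_fix N h12 h13 h23 (hN ⟨x₁, m1⟩) (hN ⟨x₂, m2⟩) (hN ⟨x₃, m3⟩)
    refine ⟨c, ?_⟩
    rw [← map_val]
    have h2 : Matrix.GeneralLinearGroup.map (σ : K →+* K) M = M * N := by
      change _ = M * (M⁻¹ * _)
      rw [mul_inv_cancel_left]
    rw [h2, Units.val_mul, hc, Matrix.mul_smul, Matrix.mul_one]
  obtain ⟨g, c, hc, hg⟩ := descent M hσ
  refine ⟨g, fun x => ?_⟩
  rw [act_eq_of_smul _ M c hc hg, hM x]

/-- the three standard rational points. -/
noncomputable def rat (i : Fin 3) : PP K :=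
  match i with
  | 0 => Projectivization.mk K ![1, 0] (by intro h; simpa using congrFun h 0)
  | 1 => Projectivization.mk K ![0, 1] (by intro h; simpa using congrFun h 1)
  | 2 => Projectivization.mk K ![1, 1] (by intro h; simpa using congrFun h 0)

theorem galP_rat (σ : K ≃ₐ[k] K) (i : Fin 3) : galP σ (rat i : PP K) = rat i := by
  fin_cases i
  · change galP σ (Projectivization.mk K ![1, 0] _) = Projectivization.mk K ![1, 0] _
    rw [galP_mk]
    congr 1
    ext j
    fin_cases j <;> simp [galVec_apply]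
  · change galP σ (Projectivization.mk K ![0, 1] _) = Projectivization.mk K ![0, 1] _
    rw [galP_mk]
    congr 1
    ext j
    fin_cases j <;> simp [galVec_apply]
  · change galP σ (Projectivization.mk K ![1, 1] _) = Projectivization.mk K ![1, 1] _
    rw [galP_mk]
    congr 1
    ext j
    fin_cases j <;> simp [galVec_apply]

theorem rat_injective : Function.Injective (rat : Fin 3 → PP K) := by
  intro i j h
  fin_cases i <;> fin_cases j <;> first | rfl | (exfalso; revert h; simp only [rat]; rw [Projectivization.mk_eq_mk_iff']; rintro ⟨a, ha⟩; have h0 := congrFun ha 0; have h1 := congrFun ha 1; simp at h0 h1; try (rw [h0] at h1; simp at h1))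

end Groth.Agent.Helper26.PGL
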