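import Mathlib
import Groth.Agent.Lib.Helper26.PGL4

set_option autoImplicit false

namespace Groth.Agent.Helper26.PGL

open W4c1stackycurves Matrix

universe u

variable {k K : Type u} [Field k] [Field K] [Algebra k K]

theorem exists_rat_notMem (S : Set (PP K)) (hfin : S.Finite) (h : S.ncard ≤ 2) :
    ∃ z : PP K, z ∉ S ∧ ∀ σ : K ≃ₐ[k] K, galP σ z = z := by
  by_contra hcon
  push Not at hcon
  have hall : ∀ i : Fin 3, (rat i : PP K) ∈ S := by
    intro i
    by_contra hi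
    obtain ⟨σ, hσ⟩ := hcon (rat i) hi
    exact hσ (galP_rat σ i)
  have h1 : Set.range (rat : Fin 3 → PP K) ⊆ S := by
    rintro _ ⟨i, rfl⟩
    exact hall i
  have h2 := Set.ncard_le_ncard h1 hfin
  rw [Set.ncard_range_of_injective rat_injective] at h2
  simp at h2
  omega

theorem induct [FiniteDimensional k K] [IsGalois k K] (n : ℕ) :
    ∀ (S S' : Set (PP K)) (_ : S.Finite) (_ : S.ncard + n = 3)
    (hS : ∀ (σ : K ≃ₐ[k] K) (x : PP K), x ∈ S → galP σ x ∈ S)
    (b : S ≃ S')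
    (_ : ∀ (σ : K ≃ₐ[k] K) (x : S),
      (b ⟨galP σ x.1, hS σ x.1 x.2⟩ : PP K) = galP σ (b x).1),
    ∃ g : Matrix.GeneralLinearGroup (Fin 2) k, ∀ x : S,
      act (Matrix.GeneralLinearGroup.map (algebraMap k K) g) x.1 = (b x).1 := by
  induction n with
  | zero =>
    intro S S' _ h3 hS b hb
    exact core S S' (by simpa using h3) hS b hb
  | succ n ih =>
    intro S S' hfin h3 hS b hb
    classical
    have : Finite S := hfin.to_subtype
    have hfin' : S'.Finite := Set.finite_coe_iff.1 (Finite.of_equiv S b)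
    have hcard' : S'.ncard = S.ncard := by
      rw [← Nat.card_coe_set_eq, ← Nat.card_coe_set_eq]
      exact (Nat.card_congr b).symm
    obtain ⟨z, hz, hzfix⟩ := exists_rat_notMem (k := k) S hfin (by omega)
    obtain ⟨z', hz', hzfix'⟩ := exists_rat_notMem (k := k) S' hfin' (by omega)
    let b₁ : ↥(insert z S) ≃ ↥(insert z' S') :=
      (Equiv.Set.insert hz).trans
        ((Equiv.sumCongr b (Equiv.refl PUnit)).trans (Equiv.Set.insert hz').symm)
    have hb₁S : ∀ (x : PP K) (hx : x ∈ S),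
        (b₁ ⟨x, Set.mem_insert_of_mem z hx⟩ : PP K) = (b ⟨x, hx⟩).1 := by
      intro x hx
      have e : (Equiv.Set.insert hz) ⟨x, Set.mem_insert_of_mem z hx⟩ = Sum.inl ⟨x, hx⟩ :=
        Equiv.Set.insert_apply_right hz ⟨x, hx⟩
      simp only [b₁, Equiv.trans_apply, e, Equiv.sumCongr_apply, Sum.map_inl,
        Equiv.Set.insert_symm_apply_inl]
    have hb₁z : (b₁ ⟨z, Set.mem_insert z S⟩ : PP K) = z' := by
      have e : (Equiv.Set.insert hz) ⟨z, Set.mem_insert z S⟩ = Sum.inr PUnit.unit :=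
        Equiv.Set.insert_apply_left hz
      simp only [b₁, Equiv.trans_apply, e, Equiv.sumCongr_apply, Sum.map_inr,
        Equiv.Set.insert_symm_apply_inr]
    have hS₁ : ∀ (σ : K ≃ₐ[k] K) (x : PP K), x ∈ insert z S → galP σ x ∈ insert z S := by
      intro σ x hx
      rcases hx with rfl | hx
      · rw [hzfix σ]; exact Set.mem_insert _ _
      · exact Set.mem_insert_of_mem _ (hS σ x hx)
    have hb₁ : ∀ (σ : K ≃ₐ[k] K) (x : ↥(insert z S)),
        (b₁ ⟨galP σ x.1, hS₁ σ x.1 x.2⟩ : PP K) = galP σ (b₁ x).1 := by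
      rintro σ ⟨x, hx⟩
      rcases hx with rfl | hx
      · have e1 : (⟨galP σ x, hS₁ σ x (Set.mem_insert x S)⟩ : ↥(insert x S)) =
            ⟨x, Set.mem_insert x S⟩ := Subtype.ext (hzfix σ)
        rw [e1, hb₁z, hzfix' σ]
      · have e1 : (⟨galP σ x, hS₁ σ x (Set.mem_insert_of_mem z hx)⟩ : ↥(insert z S)) =
            ⟨galP σ x, Set.mem_insert_of_mem z (hS σ x hx)⟩ := rfl
        rw [e1, hb₁S _ (hS σ x hx), hb₁S x hx]
        exact hb σ ⟨x, hx⟩
    have hcard₁ : (insert z S).ncard + n = 3 := by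
      rw [Set.ncard_insert_of_notMem hz hfin]
      omega
    obtain ⟨g, hg⟩ := ih (insert z S) (insert z' S') (hfin.insert z) hcard₁ hS₁ b₁ hb₁
    refine ⟨g, fun x => ?_⟩
    rw [hg ⟨x.1, Set.mem_insert_of_mem z x.2⟩, hb₁S x.1 x.2]

theorem main [FiniteDimensional k K] [IsGalois k K]
    (S S' : Set (PP K)) (hfin : S.Finite) (h3 : S.ncard ≤ 3)
    (hS : ∀ (σ : K ≃ₐ[k] K) (x : PP K), x ∈ S → galP σ x ∈ S)
    (b : S ≃ S')
    (hb : ∀ (σ : K ≃ₐ[k] K) (x : S),
      (b ⟨galP σ x.1, hS σ x.1 x.2⟩ : PP K) = galP σ (b x).1) :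
    ∃ g : Matrix.GeneralLinearGroup (Fin 2) k,
      (fun x => (Matrix.GeneralLinearGroup.toLin
        ((Matrix.GeneralLinearGroup.map (algebraMap k K)) g)) • x) '' S = S' := by
  obtain ⟨g, hg⟩ := induct (3 - S.ncard) S S' hfin (by omega) hS b hb
  refine ⟨g, ?_⟩
  ext y
  constructor
  · rintro ⟨x, hx, rfl⟩
    have := hg ⟨x, hx⟩
    change act _ x ∈ S'
    rw [this]
    exact (b ⟨x, hx⟩).2
  · intro hy
    refine ⟨(b.symm ⟨y, hy⟩).1, (b.symm ⟨y, hy⟩).2, ?_⟩
    have := hg (b.symm ⟨y, hy⟩)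
    change act _ _ = y
    rw [this, Equiv.apply_symm_apply]

end Groth.Agent.Helper26.PGL
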