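import Mathlib
import Groth.Prelude.Def_Hens2
import Groth.Agent.Lib.Helper26.PHQuick1
import Groth.Agent.Lib.Helper1.HPIdem
import Groth.Agent.Lib.Helper1.HPEquiv

/-!
# Henselization and the Chinese remainder theorem (helper26)
-/

set_option autoImplicit false
set_option linter.unusedSectionVars false
set_option linter.style.haveILetI false

namespace Groth.Agent.Helper26.PH

universe u

/-- transitivity of henselizations -/
theorem isPairHenselization_trans {A B D : Type u} [CommRing A] [CommRing B] [CommRing D]
    [Algebra A B] [Algebra B D] [Algebra A D] [IsScalarTower A B D] {J I : Ideal A} (hJI : J ≤ I)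
    (hB : Hens2.IsPairHenselization A J B)
    (hD : Hens2.IsPairHenselization B (I.map (algebraMap A B)) D) :
    Hens2.IsPairHenselization A I D := by
  refine ⟨?_, ?_⟩
  · have := hD.1
    rwa [Ideal.map_map, ← IsScalarTower.algebraMap_eq] at this
  · intro C _ K f hK hle
    have hle1 : J.map f ≤ K := (Ideal.map_mono hJI).trans hle
    obtain ⟨β, hβ, hβu⟩ := hB.2 C K f hK hle1
    have hle2 : (I.map (algebraMap A B)).map β ≤ K := by
      rw [Ideal.map_map, hβ]
      exact hle
    obtain ⟨g, hg, hgu⟩ := hD.2 C K β hK hle2
    refine ⟨g, ?_, ?_⟩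
    · change g.comp (algebraMap A D) = f
      rw [IsScalarTower.algebraMap_eq A B D, ← RingHom.comp_assoc, hg, hβ]
    · intro g' hg'
      change g'.comp (algebraMap A D) = f at hg'
      apply hgu
      apply hβu
      rw [RingHom.comp_assoc, ← IsScalarTower.algebraMap_eq, hg']

theorem eq_zero_of_isIdempotentElem_of_mem_jacobson {C : Type*} [CommRing C] {e : C}
    (he : IsIdempotentElem e) (h : e ∈ Ideal.jacobson (⊥ : Ideal C)) : e = 0 := by
  apply Groth.Agent.Helper1.eq_of_isIdempotentElem_of_sub_mem_jacobson he IsIdempotentElem.zero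
  rwa [sub_zero]

/-- idempotents lift along a henselian pair -/
theorem exists_idem_lift {B : Type u} [CommRing B] {L : Ideal B} (hL : HenselianRing B L) (b : B)
    (hb : b * b - b ∈ L) : ∃ e, IsIdempotentElem e ∧ e - b ∈ L := by
  have hG : Groth.Agent.Helper1.GabberProp B L :=
    Groth.Agent.Helper1.gabberProp_of_henselianRing
  have hw : IsIdempotentElem (Ideal.Quotient.mk (L.map (algebraMap B B)) b) := by
    change _ * _ = _
    rw [← map_mul, Ideal.Quotient.eq]
    have : L.map (algebraMap B B) = L := Ideal.map_id L
    rw [this]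
    exact hb
  obtain ⟨e, he, hew⟩ := Groth.Agent.Helper1.exists_isIdempotentElem_lift_of_isIntegral hG
    (B := B) _ hw
  refine ⟨e, he, ?_⟩
  rw [Ideal.Quotient.eq] at hew
  have : L.map (algebraMap B B) = L := Ideal.map_id L
  rwa [this] at hew

/-- the quotient by `1 - e` is the henselization along a larger ideal -/
theorem isPairHenselization_quotient_idem {B : Type u} [CommRing B] (L M : Ideal B)
    (hL : HenselianRing B L) (e : B) (he : IsIdempotentElem e) (hLM : L ≤ M)
    (hML : M ≤ L ⊔ Ideal.span {1 - e}) (heM : 1 - e ∈ M) :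
    Hens2.IsPairHenselization B M (B ⧸ Ideal.span {1 - e}) := by
  refine ⟨?_, ?_⟩
  · have hG : Groth.Agent.Helper1.GabberProp B L :=
      Groth.Agent.Helper1.gabberProp_of_henselianRing
    have hint : Algebra.IsIntegral B (B ⧸ Ideal.span {1 - e}) :=
      Algebra.isIntegral_of_surjective Ideal.Quotient.mk_surjective
    have h1 := Groth.Agent.Helper1.henselianRing_map_of_isIntegral hG (B ⧸ Ideal.span {1 - e})
    have h2 : M.map (algebraMap B (B ⧸ Ideal.span {1 - e})) =
        L.map (algebraMap B (B ⧸ Ideal.span {1 - e})) := by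
      apply le_antisymm
      · refine (Ideal.map_mono hML).trans ?_
        rw [Ideal.map_sup]
        refine sup_le le_rfl ?_
        rw [Ideal.map_le_iff_le_comap]
        intro x hx
        rw [Ideal.mem_comap]
        have : algebraMap B (B ⧸ Ideal.span {1 - e}) x = 0 :=
          Ideal.Quotient.eq_zero_iff_mem.2 hx
        rw [this]
        exact Ideal.zero_mem _
      · exact Ideal.map_mono hLM
    rw [h2]
    exact h1
  · intro C _ K f hK hle
    have hfe : f (1 - e) = 0 := by
      apply eq_zero_of_isIdempotentElem_of_mem_jacobson (he.one_sub.map f)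
      exact hK.jac (hle (Ideal.mem_map_of_mem f heM))
    have hkill : ∀ b ∈ Ideal.span {1 - e}, f b = 0 := by
      intro b hb
      obtain ⟨c, rfl⟩ := Ideal.mem_span_singleton'.1 hb
      rw [map_mul, hfe, mul_zero]
    refine ⟨Ideal.Quotient.lift _ f hkill, ?_, ?_⟩
    · apply RingHom.ext
      intro x
      rfl
    · intro g' hg'
      apply Ideal.Quotient.ringHom_ext
      refine Eq.trans (b := f) hg' ?_
      apply RingHom.ext
      intro x
      rfl

end Groth.Agent.Helper26.PH
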