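import Mathlib
import Groth.Prelude.Def_Hens2
import Groth.Agent.Lib.Helper26.PHCrt1

/-!
# Henselization and the Chinese remainder theorem, II (helper26)
-/

set_option autoImplicit false
set_option linter.unusedSectionVars false
set_option linter.style.haveILetI false

namespace Groth.Agent.Helper26.PH

universe u

theorem crt (A : Type u) [CommRing A] {n : ℕ} (I : Fin n → Ideal A)
    (hI : Pairwise fun i j => I i ⊔ I j = ⊤) (B : Type u) [CommRing B] [Algebra A B]
    (hB : Hens2.IsPairHenselization A (⨅ i, I i) B) (Bi : Fin n → Type u) [∀ i, CommRing (Bi i)]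
    [∀ i, Algebra A (Bi i)]
    (hBi : ∀ i, Hens2.IsPairHenselization A (I i) (Bi i)) :
    Nonempty (B ≃ₐ[A] ∀ i, Bi i) := by
  classical
  set J : Ideal A := ⨅ i, I i with hJ
  set L : Ideal B := J.map (algebraMap A B) with hLdef
  have hL : HenselianRing B L := hB.1
  have hcop : Pairwise (Function.onFun IsCoprime I) := by
    intro i j hij
    exact (Ideal.isCoprime_iff_sup_eq).2 (hI hij)
  -- the CRT elements
  have hex : ∀ i, ∃ a : A, a - 1 ∈ I i ∧ ∀ j, j ≠ i → a ∈ I j := by
    intro i
    obtain ⟨r, hr⟩ := Ideal.exists_forall_sub_mem_ideal hcop (fun j => if j = i then 1 else 0)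
    refine ⟨r, ?_, ?_⟩
    · have := hr i
      simpa using this
    · intro j hj
      have := hr j
      simpa [hj] using this
  choose a ha1 ha0 using hex
  have haa : ∀ i, a i * a i - a i ∈ J := by
    intro i
    rw [hJ, Ideal.mem_iInf]
    intro k
    by_cases hk : k = i
    · subst hk
      have : a k * a k - a k = a k * (a k - 1) := by ring
      rw [this]
      exact Ideal.mul_mem_left _ _ (ha1 k)
    · have : a i * a i - a i = (a i - 1) * a i := by ring
      rw [this]
      exact Ideal.mul_mem_left _ _ (ha0 i k hk)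
  have hlift : ∀ i, ∃ e : B, IsIdempotentElem e ∧ e - algebraMap A B (a i) ∈ L := by
    intro i
    apply exists_idem_lift hL
    have : algebraMap A B (a i) * algebraMap A B (a i) - algebraMap A B (a i) =
        algebraMap A B (a i * a i - a i) := by rw [map_sub, map_mul]
    rw [this]
    exact Ideal.mem_map_of_mem _ (haa i)
  choose e he hea using hlift
  have hjac : L ≤ Ideal.jacobson ⊥ := hL.jac
  -- orthogonality
  have hortho : ∀ i j, i ≠ j → e i * e j = 0 := by
    intro i j hij
    apply eq_zero_of_isIdempotentElem_of_mem_jacobson ((he i).mul (he j))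
    apply hjac
    have haij : a i * a j ∈ J := by
      rw [hJ, Ideal.mem_iInf]
      intro k
      by_cases hk : k = i
      · subst hk
        exact Ideal.mul_mem_left _ _ (ha0 j k hij)
      · exact Ideal.mul_mem_right _ _ (ha0 i k hk)
    have : e i * e j = (e i - algebraMap A B (a i)) * e j +
        algebraMap A B (a i) * (e j - algebraMap A B (a j)) + algebraMap A B (a i * a j) := by
      rw [map_mul]; ring
    rw [this]
    exact L.add_mem (L.add_mem (L.mul_mem_right _ (hea i)) (L.mul_mem_left _ (hea j)))
      (Ideal.mem_map_of_mem _ haij)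
  have hOI : OrthogonalIdempotents e := ⟨he, fun i j hij => hortho i j hij⟩
  have hsum : ∑ i, e i = 1 := by
    have hidem : IsIdempotentElem (1 - ∑ i, e i) := (hOI.isIdempotentElem_sum).one_sub
    have hmem : 1 - ∑ i, e i ∈ L := by
      have h1 : 1 - ∑ i, a i ∈ J := by
        rw [hJ, Ideal.mem_iInf]
        intro k
        have : 1 - ∑ i, a i = -(a k - 1) - ∑ i ∈ Finset.univ.erase k, a i := by
          rw [← Finset.add_sum_erase Finset.univ a (Finset.mem_univ k)]
          ring
        rw [this]
        refine (I k).sub_mem ((I k).neg_mem (ha1 k)) (Ideal.sum_mem _ ?_)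
        intro i hi
        exact ha0 i k (Finset.ne_of_mem_erase hi).symm
      have : 1 - ∑ i, e i = algebraMap A B (1 - ∑ i, a i) -
          ∑ i, (e i - algebraMap A B (a i)) := by
        rw [map_sub, map_one, map_sum, Finset.sum_sub_distrib]
        ring
      rw [this]
      exact L.sub_mem (Ideal.mem_map_of_mem _ h1) (Ideal.sum_mem _ fun i _ => hea i)
    have := eq_zero_of_isIdempotentElem_of_mem_jacobson hidem (hjac hmem)
    rw [sub_eq_zero] at this
    exact this.symm
  have hCOI : CompleteOrthogonalIdempotents e := ⟨hOI, hsum⟩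
  -- the factors are henselizations of `(A, I i)`
  have hD : ∀ i, Hens2.IsPairHenselization A (I i) (B ⧸ Ideal.span {1 - e i}) := by
    intro i
    have hJI : J ≤ I i := iInf_le I i
    refine isPairHenselization_trans hJI hB ?_
    apply isPairHenselization_quotient_idem L _ hL (e i) (he i) (Ideal.map_mono hJI)
    · rw [Ideal.map_le_iff_le_comap]
      intro x hx
      rw [Ideal.mem_comap]
      have hxa : x * a i ∈ J := by
        rw [hJ, Ideal.mem_iInf]
        intro k
        by_cases hk : k = i
        · subst hk
          exact Ideal.mul_mem_right _ _ hx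
        · exact Ideal.mul_mem_left _ _ (ha0 i k hk)
      have : algebraMap A B x = (algebraMap A B x * (e i - algebraMap A B (a i)) +
          algebraMap A B (x * a i)) + algebraMap A B x * (1 - e i) := by
        rw [map_mul]; ring
      rw [this]
      refine Submodule.add_mem_sup (L.add_mem (L.mul_mem_left _ (hea i))
        (Ideal.mem_map_of_mem _ hxa)) ?_
      exact Ideal.mul_mem_left _ _ (Ideal.subset_span rfl)
    · have : 1 - e i = -algebraMap A B (a i - 1) - (e i - algebraMap A B (a i)) := by
        rw [map_sub, map_one]; ring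
      rw [this]
      refine Ideal.sub_mem _ (neg_mem (Ideal.mem_map_of_mem _ (ha1 i))) ?_
      exact Ideal.map_mono hJI (hea i)
  have hiso : ∀ i, Nonempty ((B ⧸ Ideal.span {1 - e i}) ≃ₐ[A] Bi i) :=
    fun i => nonempty_algEquiv (hD i) (hBi i)
  let φ : B →ₐ[A] ∀ i, B ⧸ Ideal.span {1 - e i} :=
    AlgHom.pi (fun i => Ideal.Quotient.mkₐ A (Ideal.span {1 - e i}))
  have hφ : Function.Bijective φ := hCOI.bijective_pi
  let E : B ≃ₐ[A] ∀ i, B ⧸ Ideal.span {1 - e i} := AlgEquiv.ofBijective φ hφ
  exact ⟨E.trans (AlgEquiv.piCongrRight fun i => (hiso i).some)⟩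

end Groth.Agent.Helper26.PH
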