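import Mathlib
import Groth.Prelude.Def_Hens2
import Groth.Agent.Lib.Helper26.PHColim2

/-!
# Direct limits of henselian pairs (helper26)
-/

set_option autoImplicit false
set_option linter.unusedSectionVars false

open Polynomial

namespace Groth.Agent.Helper26.PH

universe u

section basic

variable {κ : Type u} [Preorder κ] [IsDirectedOrder κ] [Nonempty κ]
  (Ra : κ → Type u) [∀ a, CommRing (Ra a)]
  (t : ∀ a b : κ, a ≤ b → (Ra a →+* Ra b)) [DirectedSystem Ra (fun a b h => t a b h)]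

theorem dl_of_eq_of {a : κ} {x y : Ra a}
    (h : DirectLimit.Ring.of Ra t a x = DirectLimit.Ring.of Ra t a y) :
    ∃ (b : κ) (hab : a ≤ b), t a b hab x = t a b hab y := by
  obtain ⟨k, hx, hy, e⟩ := Quotient.eq.mp h
  exact ⟨k, hx, e⟩

theorem dl_of_eq_zero {a : κ} {x : Ra a} (h : DirectLimit.Ring.of Ra t a x = 0) :
    ∃ (b : κ) (hab : a ≤ b), t a b hab x = 0 := by
  rw [← map_zero (DirectLimit.Ring.of Ra t a)] at h
  obtain ⟨b, hab, e⟩ := dl_of_eq_of Ra t h
  exact ⟨b, hab, by rw [e, map_zero]⟩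

theorem dl_of_t {a b : κ} (hab : a ≤ b) (x : Ra a) :
    DirectLimit.Ring.of Ra t b (t a b hab x) = DirectLimit.Ring.of Ra t a x :=
  DirectLimit.Ring.of_f hab x

theorem dl_exists_of (z : DirectLimit Ra t) :
    ∃ (a : κ) (x : Ra a), z = DirectLimit.Ring.of Ra t a x :=
  DirectLimit.exists_eq_mk t z

theorem dl_exists_of_fin (n : ℕ) (c : Fin n → DirectLimit Ra t) :
    ∃ (a : κ) (ca : Fin n → Ra a), ∀ i, c i = DirectLimit.Ring.of Ra t a (ca i) := by
  classical
  choose ai xi hxi using fun i => dl_exists_of Ra t (c i)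
  obtain ⟨M, hM⟩ := Finset.exists_le (Finset.univ.image ai)
  have hle : ∀ i, ai i ≤ M := fun i => hM _ (Finset.mem_image_of_mem _ (Finset.mem_univ i))
  refine ⟨M, fun i => t (ai i) M (hle i) (xi i), fun i => ?_⟩
  rw [dl_of_t, hxi]

theorem dl_exists_of_fin_ge (n : ℕ) (c : Fin n → DirectLimit Ra t) (a₀ : κ) :
    ∃ (a : κ) (_ : a₀ ≤ a) (ca : Fin n → Ra a),
      ∀ i, c i = DirectLimit.Ring.of Ra t a (ca i) := by
  obtain ⟨a, ca, hca⟩ := dl_exists_of_fin Ra t n c
  obtain ⟨b, hab, h0b⟩ := exists_ge_ge a a₀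
  refine ⟨b, h0b, fun i => t a b hab (ca i), fun i => ?_⟩
  rw [dl_of_t, hca]

end basic

section ideal

variable {κ : Type u} [Preorder κ] [IsDirectedOrder κ] [Nonempty κ]
  (Ra : κ → Type u) [∀ a, CommRing (Ra a)]
  (t : ∀ a b : κ, a ≤ b → (Ra a →+* Ra b)) [DirectedSystem Ra (fun a b h => t a b h)]
  (A : Type u) [CommRing A] (I : Ideal A) [∀ a, Algebra A (Ra a)]
  (ht : ∀ (a b : κ) (h : a ≤ b), (t a b h).comp (algebraMap A (Ra a)) = algebraMap A (Ra b))
  [Algebra A (DirectLimit Ra t)]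
  (halg : ∀ (a : κ) (x : A), algebraMap A (DirectLimit Ra t) x =
      DirectLimit.Ring.of Ra t a (algebraMap A (Ra a) x))

include ht in
theorem dl_map_t {a b : κ} (hab : a ≤ b) :
    (I.map (algebraMap A (Ra a))).map (t a b hab) = I.map (algebraMap A (Ra b)) := by
  rw [Ideal.map_map, ht]

include halg in
theorem dl_map_of (a : κ) :
    (I.map (algebraMap A (Ra a))).map (DirectLimit.Ring.of Ra t a) =
      I.map (algebraMap A (DirectLimit Ra t)) := by
  rw [Ideal.map_map]
  congr 1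
  ext x
  exact (halg a x).symm

include ht halg in
theorem dl_exists_mem' (z : DirectLimit Ra t) (hz : z ∈ I.map (algebraMap A (DirectLimit Ra t))) :
    ∃ (a : κ) (x : Ra a), z = DirectLimit.Ring.of Ra t a x ∧ x ∈ I.map (algebraMap A (Ra a)) := by
  refine Submodule.span_induction ?_ ?_ ?_ ?_ hz
  · rintro _ ⟨c, hc, rfl⟩
    obtain ⟨a⟩ := ‹Nonempty κ›
    exact ⟨a, algebraMap A (Ra a) c, halg a c, Ideal.mem_map_of_mem _ hc⟩
  · obtain ⟨a⟩ := ‹Nonempty κ›
    exact ⟨a, 0, (map_zero _).symm, zero_mem _⟩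
  · rintro x y - - ⟨a, xa, rfl, hxa⟩ ⟨a', ya, rfl, hya⟩
    obtain ⟨b, hab, ha'b⟩ := exists_ge_ge a a'
    refine ⟨b, t a b hab xa + t a' b ha'b ya, ?_, ?_⟩
    · rw [map_add, dl_of_t, dl_of_t]
    · refine add_mem ?_ ?_
      · rw [← dl_map_t Ra t A I ht hab]
        exact Ideal.mem_map_of_mem _ hxa
      · rw [← dl_map_t Ra t A I ht ha'b]
        exact Ideal.mem_map_of_mem _ hya
  · rintro l x - ⟨a, xa, rfl, hxa⟩
    obtain ⟨a', la, rfl⟩ := dl_exists_of Ra t l
    obtain ⟨b, hab, ha'b⟩ := exists_ge_ge a a'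
    refine ⟨b, t a' b ha'b la * t a b hab xa, ?_, ?_⟩
    · rw [smul_eq_mul, map_mul, dl_of_t, dl_of_t]
    · refine Ideal.mul_mem_left _ _ ?_
      rw [← dl_map_t Ra t A I ht hab]
      exact Ideal.mem_map_of_mem _ hxa

include ht halg in
theorem dl_exists_mem {a : κ} (x : Ra a)
    (hz : DirectLimit.Ring.of Ra t a x ∈ I.map (algebraMap A (DirectLimit Ra t))) :
    ∃ (b : κ) (hab : a ≤ b), t a b hab x ∈ I.map (algebraMap A (Ra b)) := by
  obtain ⟨a', y, hy, hmem⟩ := dl_exists_mem' Ra t A I ht halg _ hz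
  obtain ⟨b, hab, ha'b⟩ := exists_ge_ge a a'
  rw [← dl_of_t Ra t hab, ← dl_of_t Ra t ha'b y] at hy
  obtain ⟨c, hbc, e⟩ := dl_of_eq_of Ra t hy
  refine ⟨c, hab.trans hbc, ?_⟩
  have h1 : t a c (hab.trans hbc) x = t b c hbc (t a b hab x) :=
    (DirectedSystem.map_map' (f := t) hab hbc x).symm
  have h2 : t a' c (ha'b.trans hbc) y = t b c hbc (t a' b ha'b y) :=
    (DirectedSystem.map_map' (f := t) ha'b hbc y).symm
  rw [h1, e, ← h2, ← dl_map_t Ra t A I ht (ha'b.trans hbc)]
  exact Ideal.mem_map_of_mem _ hmem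

include ht halg in
theorem dl_henselian [∀ a, HenselianRing (Ra a) (I.map (algebraMap A (Ra a)))] :
    HenselianRing (DirectLimit Ra t) (I.map (algebraMap A (DirectLimit Ra t))) := by
  refine ⟨?_, ?_⟩
  · intro z hz
    rw [Ideal.mem_jacobson_bot]
    intro y
    obtain ⟨a, x, rfl, hx⟩ := dl_exists_mem' Ra t A I ht halg z hz
    obtain ⟨a', ya, rfl⟩ := dl_exists_of Ra t y
    obtain ⟨b, hab, ha'b⟩ := exists_ge_ge a a'
    have hxb : t a b hab x ∈ I.map (algebraMap A (Ra b)) := by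
      rw [← dl_map_t Ra t A I ht hab]
      exact Ideal.mem_map_of_mem _ hx
    have hj := (HenselianRing.jac (R := Ra b) (I := I.map (algebraMap A (Ra b)))) hxb
    rw [Ideal.mem_jacobson_bot] at hj
    have hu := (hj (t a' b ha'b ya)).map (DirectLimit.Ring.of Ra t b)
    rwa [map_add, map_mul, map_one, dl_of_t, dl_of_t] at hu
  · intro f hf a₀ h0 h1
    obtain ⟨n, c, rfl⟩ := exists_eq_mpoly hf
    obtain ⟨w, hw⟩ := exists_mul_sub_one_mem_of_isUnit_mk _ _ h1
    -- bring everything to one index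
    obtain ⟨a, ca, hca⟩ := dl_exists_of_fin Ra t (n + 2)
      (Fin.cons a₀ (Fin.cons w c) : Fin (n + 2) → DirectLimit Ra t)
    have ha₀ : a₀ = DirectLimit.Ring.of Ra t a (ca 0) := hca 0
    have hw' : w = DirectLimit.Ring.of Ra t a (ca 1) := hca 1
    have hc : ∀ i : Fin n, c i = DirectLimit.Ring.of Ra t a (ca i.succ.succ) := by
      intro i
      have := hca i.succ.succ
      simpa using this
    set fa : (Ra a)[X] := mpoly n (fun i => ca i.succ.succ) with hfa
    have hfmap : mpoly n c = fa.map (DirectLimit.Ring.of Ra t a) := by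
      rw [hfa, mpoly_map]
      congr 1
      ext i
      exact hc i
    rw [hfmap, ha₀, ← map_eval'] at h0
    rw [hfmap, ha₀, hw', ← map_derivative_eval', ← map_mul, ← map_one (DirectLimit.Ring.of Ra t a),
      ← map_sub] at hw
    obtain ⟨b, hab, hb⟩ := dl_exists_mem Ra t A I ht halg _ h0
    obtain ⟨b', hab', hb'⟩ := dl_exists_mem Ra t A I ht halg _ hw
    obtain ⟨d, hbd, hb'd⟩ := exists_ge_ge b b'
    have had : a ≤ d := hab.trans hbd
    set fd : (Ra d)[X] := fa.map (t a d had) with hfd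
    have hfdm : fd.Monic := (mpoly_monic n _).map _
    have h0d : fd.eval (t a d had (ca 0)) ∈ I.map (algebraMap A (Ra d)) := by
      rw [hfd, ← map_eval']
      have h1 : t a d had (fa.eval (ca 0)) = t b d hbd (t a b hab (fa.eval (ca 0))) :=
        (DirectedSystem.map_map' (f := t) hab hbd _).symm
      rw [h1, ← dl_map_t Ra t A I ht hbd]
      exact Ideal.mem_map_of_mem _ hb
    have h1d : IsUnit (Ideal.Quotient.mk (I.map (algebraMap A (Ra d)))
        (fd.derivative.eval (t a d had (ca 0)))) := by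
      refine isUnit_mk_of_mul_sub_one_mem _ _ (t a d had (ca 1)) ?_
      rw [hfd, ← map_derivative_eval', ← map_mul, ← map_one (t a d had), ← map_sub]
      have h1 : t a d had (fa.derivative.eval (ca 0) * ca 1 - 1) =
          t b' d hb'd (t a b' hab' (fa.derivative.eval (ca 0) * ca 1 - 1)) :=
        (DirectedSystem.map_map' (f := t) hab' hb'd _).symm
      rw [h1, ← dl_map_t Ra t A I ht hb'd]
      exact Ideal.mem_map_of_mem _ hb'
    obtain ⟨r, hr, hr'⟩ := HenselianRing.is_henselian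
      (R := Ra d) (I := I.map (algebraMap A (Ra d))) fd hfdm (t a d had (ca 0)) h0d h1d
    refine ⟨DirectLimit.Ring.of Ra t d r, ?_, ?_⟩
    · have h2 : fa.map (DirectLimit.Ring.of Ra t a) = fd.map (DirectLimit.Ring.of Ra t d) := by
        rw [hfd, Polynomial.map_map]
        congr 1
        ext x
        exact (dl_of_t Ra t had x).symm
      rw [hfmap, h2, Polynomial.IsRoot.def, ← map_eval', hr.eq_zero, map_zero]
    · rw [ha₀, ← dl_of_t Ra t had (ca 0), ← map_sub, ← dl_map_of Ra t A I halg d]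
      exact Ideal.mem_map_of_mem _ hr'

end ideal

end Groth.Agent.Helper26.PH
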