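import Mathlib
import Groth.Prelude.Def_Hens2
import Groth.Agent.Lib.Helper26.PHDirLim1

/-!
# Maps from henselian finitely presented algebras to direct limits of henselian pairs (helper26)
-/

set_option autoImplicit false
set_option linter.unusedSectionVars false

open Polynomial

namespace Groth.Agent.Helper26.PH

universe u

section

variable {κ : Type u} [Preorder κ] [IsDirectedOrder κ] [Nonempty κ]
  (Ra : κ → Type u) [∀ a, CommRing (Ra a)]
  (t : ∀ a b : κ, a ≤ b → (Ra a →+* Ra b)) [DirectedSystem Ra (fun a b h => t a b h)]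

theorem dl_kill_fin (a : κ) (s : Finset (Ra a))
    (hs : ∀ x ∈ s, DirectLimit.Ring.of Ra t a x = 0) :
    ∃ (b : κ) (hab : a ≤ b), ∀ x ∈ s, t a b hab x = 0 := by
  classical
  induction s using Finset.induction_on with
  | empty => exact ⟨a, le_rfl, by simp⟩
  | insert x₀ s hx₀ ih =>
    obtain ⟨b, hab, hb⟩ := ih (fun x hx => hs x (Finset.mem_insert_of_mem hx))
    obtain ⟨b₀, hab₀, hb₀⟩ := dl_of_eq_zero Ra t (hs x₀ (Finset.mem_insert_self _ _))
    obtain ⟨d, hbd, hb₀d⟩ := exists_ge_ge b b₀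
    refine ⟨d, hab.trans hbd, ?_⟩
    intro x hx
    rcases Finset.mem_insert.1 hx with rfl | hx
    · have : t a d (hab.trans hbd) x = t b₀ d hb₀d (t a b₀ hab₀ x) :=
        (DirectedSystem.map_map' (f := t) hab₀ hb₀d x).symm
      rw [this, hb₀, map_zero]
    · have : t a d (hab.trans hbd) x = t b d hbd (t a b hab x) :=
        (DirectedSystem.map_map' (f := t) hab hbd x).symm
      rw [this, hb x hx, map_zero]

variable (A : Type u) [CommRing A] [∀ a, Algebra A (Ra a)]
  (ht : ∀ (a b : κ) (h : a ≤ b), (t a b h).comp (algebraMap A (Ra a)) = algebraMap A (Ra b))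
  [Algebra A (DirectLimit Ra t)]
  (halg : ∀ (a : κ) (x : A), algebraMap A (DirectLimit Ra t) x =
      DirectLimit.Ring.of Ra t a (algebraMap A (Ra a) x))

include ht halg in
theorem dl_exists_factor (R₀ : Type u) [CommRing R₀] [Algebra A R₀]
    [Algebra.FinitePresentation A R₀] (χ₀ : R₀ →ₐ[A] DirectLimit Ra t) :
    ∃ (a : κ) (φ₀ : R₀ →ₐ[A] Ra a), ∀ r, DirectLimit.Ring.of Ra t a (φ₀ r) = χ₀ r := by
  classical
  obtain ⟨n, π, hπ, s, hs⟩ := Algebra.FinitePresentation.out (R := A) (A := R₀)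
  obtain ⟨a, y, hy⟩ := dl_exists_of_fin Ra t n (fun i => χ₀ (π (MvPolynomial.X i)))
  let θ₁ : MvPolynomial (Fin n) A →ₐ[A] Ra a := MvPolynomial.aeval y
  have h1 : (DirectLimit.Ring.of Ra t a).comp (θ₁ : MvPolynomial (Fin n) A →+* Ra a) =
      ((χ₀.comp π : MvPolynomial (Fin n) A →ₐ[A] DirectLimit Ra t) : _ →+* DirectLimit Ra t) := by
    apply MvPolynomial.ringHom_ext
    · intro c
      change DirectLimit.Ring.of Ra t a (θ₁ (MvPolynomial.C c)) = χ₀ (π (MvPolynomial.C c))
      rw [← MvPolynomial.algebraMap_eq, AlgHom.commutes, AlgHom.commutes, AlgHom.commutes, halg a]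
    · intro i
      change DirectLimit.Ring.of Ra t a (θ₁ (MvPolynomial.X i)) = χ₀ (π (MvPolynomial.X i))
      rw [MvPolynomial.aeval_X, hy]
  have h1' : ∀ p, DirectLimit.Ring.of Ra t a (θ₁ p) = χ₀ (π p) :=
    fun p => congrArg (fun g => g p) h1
  obtain ⟨b, hab, hb⟩ := dl_kill_fin Ra t a (s.image θ₁) (by
    intro x hx
    obtain ⟨p, hp, rfl⟩ := Finset.mem_image.1 hx
    rw [h1']
    have : p ∈ RingHom.ker π.toRingHom := by
      rw [← hs]
      exact Ideal.subset_span hp
    rw [show π p = 0 from this, map_zero])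
  let θ₂ : MvPolynomial (Fin n) A →+* Ra b := (t a b hab).comp (θ₁ : _ →+* Ra a)
  have hker : RingHom.ker (π : MvPolynomial (Fin n) A →+* R₀) ≤ RingHom.ker θ₂ := by
    change RingHom.ker π.toRingHom ≤ _
    rw [← hs, Ideal.span_le]
    intro p hp
    change t a b hab (θ₁ p) = 0
    exact hb _ (Finset.mem_image_of_mem _ hp)
  let φr : R₀ →+* Ra b :=
    RingHom.liftOfSurjective (π : MvPolynomial (Fin n) A →+* R₀) hπ ⟨θ₂, hker⟩
  have hφr : ∀ p, φr (π p) = t a b hab (θ₁ p) := fun p =>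
    RingHom.liftOfRightInverse_comp_apply _ _ _ _ p
  let φ₀ : R₀ →ₐ[A] Ra b :=
    { φr with
      commutes' := by
        intro c
        change φr (algebraMap A R₀ c) = _
        have : algebraMap A R₀ c = π (MvPolynomial.C c) := by
          rw [← MvPolynomial.algebraMap_eq, AlgHom.commutes]
        rw [this, hφr, ← MvPolynomial.algebraMap_eq, AlgHom.commutes]
        exact congrArg (fun g => g c) (ht a b hab) }
  refine ⟨b, φ₀, ?_⟩
  intro r
  obtain ⟨p, rfl⟩ := hπ r
  change DirectLimit.Ring.of Ra t b (φr (π p)) = _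
  rw [hφr, dl_of_t, h1']

include ht in
theorem dl_factor_unique (R₀ : Type u) [CommRing R₀] [Algebra A R₀]
    [Algebra.FiniteType A R₀] (a : κ) (φ ψ : R₀ →ₐ[A] Ra a)
    (h : ∀ r, DirectLimit.Ring.of Ra t a (φ r) = DirectLimit.Ring.of Ra t a (ψ r)) :
    ∃ (b : κ) (hab : a ≤ b), ∀ r, t a b hab (φ r) = t a b hab (ψ r) := by
  classical
  obtain ⟨n, π, hπ⟩ := Algebra.FiniteType.iff_quotient_mvPolynomial''.1
    (inferInstance : Algebra.FiniteType A R₀)
  obtain ⟨b, hab, hb⟩ := dl_kill_fin Ra t a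
    (Finset.univ.image (fun i : Fin n => φ (π (MvPolynomial.X i)) - ψ (π (MvPolynomial.X i)))) (by
    intro x hx
    obtain ⟨i, -, rfl⟩ := Finset.mem_image.1 hx
    rw [map_sub, h, sub_self])
  refine ⟨b, hab, ?_⟩
  have h2 : ((t a b hab).comp (φ : R₀ →+* Ra a)).comp (π : MvPolynomial (Fin n) A →+* R₀) =
      ((t a b hab).comp (ψ : R₀ →+* Ra a)).comp (π : MvPolynomial (Fin n) A →+* R₀) := by
    apply MvPolynomial.ringHom_ext
    · intro c
      change t a b hab (φ (π (MvPolynomial.C c))) = t a b hab (ψ (π (MvPolynomial.C c)))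
      rw [← MvPolynomial.algebraMap_eq, AlgHom.commutes, AlgHom.commutes, AlgHom.commutes]
    · intro i
      change t a b hab (φ (π (MvPolynomial.X i))) = t a b hab (ψ (π (MvPolynomial.X i)))
      rw [← sub_eq_zero, ← map_sub]
      exact hb _ (Finset.mem_image_of_mem _ (Finset.mem_univ i))
  intro r
  obtain ⟨p, rfl⟩ := hπ r
  exact congrArg (fun g => g p) h2

end

/-- the statement about maps into direct limits -/
theorem hom_directLimit (A : Type u) [CommRing A] (I : Ideal A)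
    (R₀ : Type u) [CommRing R₀] [Algebra A R₀] [Algebra.FinitePresentation A R₀]
    (B : Type u) [CommRing B] [Algebra R₀ B] [Algebra A B] [IsScalarTower A R₀ B]
    (hB : Hens2.IsPairHenselization R₀ (I.map (algebraMap A R₀)) B)
    {κ : Type u} [Preorder κ] [IsDirectedOrder κ] [Nonempty κ]
    (Ra : κ → Type u) [∀ a, CommRing (Ra a)] [∀ a, Algebra A (Ra a)]
    [∀ a, HenselianRing (Ra a) (I.map (algebraMap A (Ra a)))]
    (t : ∀ a b : κ, a ≤ b → (Ra a →+* Ra b)) [DirectedSystem Ra (fun a b h => t a b h)]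
    (ht : ∀ (a b : κ) (h : a ≤ b), (t a b h).comp (algebraMap A (Ra a)) = algebraMap A (Ra b))
    [Algebra A (DirectLimit Ra t)]
    (halg : ∀ (a : κ) (x : A), algebraMap A (DirectLimit Ra t) x =
      DirectLimit.Ring.of Ra t a (algebraMap A (Ra a) x)) :
    (∀ χ : B →ₐ[A] DirectLimit Ra t, ∃ (a : κ) (φ : B →ₐ[A] Ra a),
        ∀ x : B, DirectLimit.Ring.of Ra t a (φ x) = χ x) ∧
    ∀ (a : κ) (φ ψ : B →ₐ[A] Ra a),
      (∀ x : B, DirectLimit.Ring.of Ra t a (φ x) = DirectLimit.Ring.of Ra t a (ψ x)) →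
      ∃ (b : κ) (h : a ≤ b), ∀ x : B, t a b h (φ x) = t a b h (ψ x) := by
  have hL : HenselianRing (DirectLimit Ra t) (I.map (algebraMap A (DirectLimit Ra t))) :=
    dl_henselian Ra t A I ht halg
  have hle : ∀ {D : Type u} [CommRing D] [Algebra A D] (g : R₀ →ₐ[A] D),
      (I.map (algebraMap A R₀)).map (g : R₀ →+* D) ≤ I.map (algebraMap A D) := by
    intro D _ _ g
    rw [Ideal.map_map]
    have : (g : R₀ →+* D).comp (algebraMap A R₀) = algebraMap A D := by
      ext c
      exact g.commutes c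
    rw [this]
  constructor
  · intro χ
    let χ₀ : R₀ →ₐ[A] DirectLimit Ra t := χ.comp (IsScalarTower.toAlgHom A R₀ B)
    obtain ⟨a, φ₀, hφ₀⟩ := dl_exists_factor Ra t A ht halg R₀ χ₀
    obtain ⟨g, hg, -⟩ := hB.2 (Ra a) (I.map (algebraMap A (Ra a))) (φ₀ : R₀ →+* Ra a)
      inferInstance (hle φ₀)
    have hg' : ∀ r, g (algebraMap R₀ B r) = φ₀ r := fun r => congrArg (fun k => k r) hg
    let φ : B →ₐ[A] Ra a :=
      { g with
        commutes' := by
          intro c
          change g (algebraMap A B c) = _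
          rw [IsScalarTower.algebraMap_apply A R₀ B, hg', AlgHom.commutes] }
    refine ⟨a, φ, ?_⟩
    obtain ⟨k, -, hk⟩ := hB.2 (DirectLimit Ra t) (I.map (algebraMap A (DirectLimit Ra t)))
      (χ₀ : R₀ →+* DirectLimit Ra t) hL (hle χ₀)
    have e1 : (DirectLimit.Ring.of Ra t a).comp g = k := by
      apply hk
      apply RingHom.ext
      intro r
      change DirectLimit.Ring.of Ra t a (g (algebraMap R₀ B r)) = χ₀ r
      rw [hg', hφ₀]
    have e2 : (χ : B →+* DirectLimit Ra t) = k := by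
      apply hk
      apply RingHom.ext
      intro r
      rfl
    intro x
    change ((DirectLimit.Ring.of Ra t a).comp g) x = (χ : B →+* DirectLimit Ra t) x
    rw [e1, e2]
  · intro a φ ψ h
    let φ₀ : R₀ →ₐ[A] Ra a := φ.comp (IsScalarTower.toAlgHom A R₀ B)
    let ψ₀ : R₀ →ₐ[A] Ra a := ψ.comp (IsScalarTower.toAlgHom A R₀ B)
    obtain ⟨b, hab, hb⟩ := dl_factor_unique Ra t A ht R₀ a φ₀ ψ₀ (fun r => h _)
    refine ⟨b, hab, ?_⟩
    let tA : Ra a →ₐ[A] Ra b :=
      { t a b hab with commutes' := fun c => congrArg (fun g => g c) (ht a b hab) }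
    obtain ⟨k, -, hk⟩ := hB.2 (Ra b) (I.map (algebraMap A (Ra b)))
      ((tA.comp φ₀ : R₀ →ₐ[A] Ra b) : R₀ →+* Ra b) inferInstance (hle (tA.comp φ₀))
    have e1 : (t a b hab).comp (φ : B →+* Ra a) = k := by
      apply hk
      apply RingHom.ext
      intro r
      rfl
    have e2 : (t a b hab).comp (ψ : B →+* Ra a) = k := by
      apply hk
      apply RingHom.ext
      intro r
      exact (hb r).symm
    intro x
    change ((t a b hab).comp (φ : B →+* Ra a)) x = ((t a b hab).comp (ψ : B →+* Ra a)) x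
    rw [e1, e2]

end Groth.Agent.Helper26.PH
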