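import Mathlib
import Groth.Prelude.Def_Hens2
import Groth.Agent.Lib.Helper26.PHDirLim1

/-!
# Direct limits of henselian pairs with varying ideals; henselization commutes with
direct limits (helper26)
-/

set_option autoImplicit false
set_option linter.unusedSectionVars false
set_option linter.style.haveILetI false

open Polynomial

namespace Groth.Agent.Helper26.PH

universe u

section general

variable {κ : Type u} [Preorder κ] [IsDirectedOrder κ] [Nonempty κ]
  (Ra : κ → Type u) [∀ a, CommRing (Ra a)]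
  (t : ∀ a b : κ, a ≤ b → (Ra a →+* Ra b)) [DirectedSystem Ra (fun a b h => t a b h)]
  (Ja : ∀ a, Ideal (Ra a))
  (hJ : ∀ (a b : κ) (h : a ≤ b), (Ja a).map (t a b h) ≤ Ja b)

/-- the limit ideal -/
noncomputable def JL : Ideal (DirectLimit Ra t) := ⨆ a, (Ja a).map (DirectLimit.Ring.of Ra t a)

include hJ in
theorem t_mem {a b : κ} (hab : a ≤ b) {x : Ra a} (hx : x ∈ Ja a) : t a b hab x ∈ Ja b :=
  hJ a b hab (Ideal.mem_map_of_mem _ hx)

theorem of_mem_JL {a : κ} {x : Ra a} (hx : x ∈ Ja a) :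
    DirectLimit.Ring.of Ra t a x ∈ JL Ra t Ja :=
  (le_iSup (fun a => (Ja a).map (DirectLimit.Ring.of Ra t a)) a) (Ideal.mem_map_of_mem _ hx)

/-- the ideal of elements represented by elements of the `Ja` -/
noncomputable def Jrep : Ideal (DirectLimit Ra t) where
  carrier := {z | ∃ (a : κ) (x : Ra a), z = DirectLimit.Ring.of Ra t a x ∧ x ∈ Ja a}
  zero_mem' := by
    obtain ⟨a⟩ := ‹Nonempty κ›
    exact ⟨a, 0, (map_zero _).symm, zero_mem _⟩
  add_mem' := by
    rintro _ _ ⟨a, xa, rfl, hxa⟩ ⟨a', ya, rfl, hya⟩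
    obtain ⟨b, hab, ha'b⟩ := exists_ge_ge a a'
    refine ⟨b, t a b hab xa + t a' b ha'b ya, ?_, ?_⟩
    · rw [map_add, dl_of_t, dl_of_t]
    · exact add_mem (t_mem Ra t Ja hJ hab hxa) (t_mem Ra t Ja hJ ha'b hya)
  smul_mem' := by
    rintro l _ ⟨a, xa, rfl, hxa⟩
    obtain ⟨a', la, rfl⟩ := dl_exists_of Ra t l
    obtain ⟨b, hab, ha'b⟩ := exists_ge_ge a a'
    refine ⟨b, t a' b ha'b la * t a b hab xa, ?_, ?_⟩
    · rw [smul_eq_mul, map_mul, dl_of_t, dl_of_t]
    · exact Ideal.mul_mem_left _ _ (t_mem Ra t Ja hJ hab hxa)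

include hJ in
theorem exists_mem_of_mem_JL (z : DirectLimit Ra t) (hz : z ∈ JL Ra t Ja) :
    ∃ (a : κ) (x : Ra a), z = DirectLimit.Ring.of Ra t a x ∧ x ∈ Ja a := by
  have hle : JL Ra t Ja ≤ Jrep Ra t Ja hJ := by
    refine iSup_le fun a => ?_
    rw [Ideal.map_le_iff_le_comap]
    intro x hx
    exact ⟨a, x, rfl, hx⟩
  exact hle hz

include hJ in
theorem exists_t_mem_of_of_mem_JL {a : κ} (x : Ra a)
    (hz : DirectLimit.Ring.of Ra t a x ∈ JL Ra t Ja) :
    ∃ (b : κ) (hab : a ≤ b), t a b hab x ∈ Ja b := by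
  obtain ⟨a', y, hy, hmem⟩ := exists_mem_of_mem_JL Ra t Ja hJ _ hz
  obtain ⟨b, hab, ha'b⟩ := exists_ge_ge a a'
  rw [← dl_of_t Ra t hab, ← dl_of_t Ra t ha'b y] at hy
  obtain ⟨c, hbc, e⟩ := dl_of_eq_of Ra t hy
  refine ⟨c, hab.trans hbc, ?_⟩
  have h1 : t a c (hab.trans hbc) x = t b c hbc (t a b hab x) :=
    (DirectedSystem.map_map' (f := t) hab hbc x).symm
  have h2 : t a' c (ha'b.trans hbc) y = t b c hbc (t a' b ha'b y) :=
    (DirectedSystem.map_map' (f := t) ha'b hbc y).symm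
  rw [h1, e, ← h2]
  exact t_mem Ra t Ja hJ _ hmem

include hJ in
theorem dl_henselian' [∀ a, HenselianRing (Ra a) (Ja a)] :
    HenselianRing (DirectLimit Ra t) (JL Ra t Ja) := by
  refine ⟨?_, ?_⟩
  · intro z hz
    rw [Ideal.mem_jacobson_bot]
    intro y
    obtain ⟨a, x, rfl, hx⟩ := exists_mem_of_mem_JL Ra t Ja hJ z hz
    obtain ⟨a', ya, rfl⟩ := dl_exists_of Ra t y
    obtain ⟨b, hab, ha'b⟩ := exists_ge_ge a a'
    have hxb : t a b hab x ∈ Ja b := t_mem Ra t Ja hJ hab hx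
    have hj := (HenselianRing.jac (R := Ra b) (I := Ja b)) hxb
    rw [Ideal.mem_jacobson_bot] at hj
    have hu := (hj (t a' b ha'b ya)).map (DirectLimit.Ring.of Ra t b)
    rwa [map_add, map_mul, map_one, dl_of_t, dl_of_t] at hu
  · intro f hf a₀ h0 h1
    obtain ⟨n, c, rfl⟩ := exists_eq_mpoly hf
    obtain ⟨w, hw⟩ := exists_mul_sub_one_mem_of_isUnit_mk _ _ h1
    obtain ⟨a, ca, hca⟩ := dl_exists_of_fin Ra t (n + 2)
      (Fin.cons a₀ (Fin.cons w c) : Fin (n + 2) → DirectLimit Ra t)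
    have ha₀ : a₀ = DirectLimit.Ring.of Ra t a (ca 0) := hca 0
    have hw' : w = DirectLimit.Ring.of Ra t a (ca 1) := hca 1
    have hc : ∀ i : Fin n, c i = DirectLimit.Ring.of Ra t a (ca i.succ.succ) := by
      intro i
      have := hca i.succ.succ
      simpa using this
    set fa : (Ra a)[X] := mpoly n (fun i => ca i.succ.succ) with hfa
    have hfmap : mpoly n c = fa.map (DirectLimit.Ring.of Ra t a) := by
      rw [hfa, mpoly_map]
      congr 1
      ext i
      exact hc i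
    rw [hfmap, ha₀, ← map_eval'] at h0
    rw [hfmap, ha₀, hw', ← map_derivative_eval', ← map_mul, ← map_one (DirectLimit.Ring.of Ra t a),
      ← map_sub] at hw
    obtain ⟨b, hab, hb⟩ := exists_t_mem_of_of_mem_JL Ra t Ja hJ _ h0
    obtain ⟨b', hab', hb'⟩ := exists_t_mem_of_of_mem_JL Ra t Ja hJ _ hw
    obtain ⟨d, hbd, hb'd⟩ := exists_ge_ge b b'
    have had : a ≤ d := hab.trans hbd
    set fd : (Ra d)[X] := fa.map (t a d had) with hfd
    have hfdm : fd.Monic := (mpoly_monic n _).map _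
    have h0d : fd.eval (t a d had (ca 0)) ∈ Ja d := by
      rw [hfd, ← map_eval']
      have h1 : t a d had (fa.eval (ca 0)) = t b d hbd (t a b hab (fa.eval (ca 0))) :=
        (DirectedSystem.map_map' (f := t) hab hbd _).symm
      rw [h1]
      exact t_mem Ra t Ja hJ _ hb
    have h1d : IsUnit (Ideal.Quotient.mk (Ja d)
        (fd.derivative.eval (t a d had (ca 0)))) := by
      refine isUnit_mk_of_mul_sub_one_mem _ _ (t a d had (ca 1)) ?_
      rw [hfd, ← map_derivative_eval', ← map_mul, ← map_one (t a d had), ← map_sub]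
      have h1 : t a d had (fa.derivative.eval (ca 0) * ca 1 - 1) =
          t b' d hb'd (t a b' hab' (fa.derivative.eval (ca 0) * ca 1 - 1)) :=
        (DirectedSystem.map_map' (f := t) hab' hb'd _).symm
      rw [h1]
      exact t_mem Ra t Ja hJ _ hb'
    obtain ⟨r, hr, hr'⟩ := HenselianRing.is_henselian
      (R := Ra d) (I := Ja d) fd hfdm (t a d had (ca 0)) h0d h1d
    refine ⟨DirectLimit.Ring.of Ra t d r, ?_, ?_⟩
    · have h2 : fa.map (DirectLimit.Ring.of Ra t a) = fd.map (DirectLimit.Ring.of Ra t d) := by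
        rw [hfd, Polynomial.map_map]
        congr 1
        ext x
        exact (dl_of_t Ra t had x).symm
      rw [hfmap, h2, Polynomial.IsRoot.def, ← map_eval', hr.eq_zero, map_zero]
    · rw [ha₀, ← dl_of_t Ra t had (ca 0), ← map_sub]
      exact of_mem_JL Ra t Ja hr'

end general

end Groth.Agent.Helper26.PH
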