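import Mathlib
import Groth.Prelude.Def_Hens2
import Groth.Agent.Lib.Helper26.PHDirLim3

/-!
# Henselization commutes with direct limits (helper26)
-/

set_option autoImplicit false
set_option linter.unusedSectionVars false
set_option linter.style.haveILetI false

namespace Groth.Agent.Helper26.PH

universe u

theorem isPairHenselization_directLimit {ι : Type u} [Preorder ι] [IsDirectedOrder ι] [Nonempty ι]
    (G : ι → Type u) [∀ i, CommRing (G i)] (f : ∀ i j : ι, i ≤ j → (G i →+* G j))
    [DirectedSystem G (fun i j h => f i j h)] (I : ∀ i, Ideal (G i))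
    (hI : ∀ (i j : ι) (h : i ≤ j), (I i).map (f i j h) ≤ I j)
    (B : ι → Type u) [∀ i, CommRing (B i)] [∀ i, Algebra (G i) (B i)]
    (hB : ∀ i, Hens2.IsPairHenselization (G i) (I i) (B i))
    (g : ∀ i j : ι, i ≤ j → (B i →+* B j)) [DirectedSystem B (fun i j h => g i j h)]
    (hg : ∀ (i j : ι) (h : i ≤ j),
      (g i j h).comp (algebraMap (G i) (B i)) = (algebraMap (G j) (B j)).comp (f i j h))
    [Algebra (DirectLimit G f) (DirectLimit B g)]
    (halg : ∀ (i : ι) (x : G i),
      algebraMap (DirectLimit G f) (DirectLimit B g) (DirectLimit.Ring.of G f i x) =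
        DirectLimit.Ring.of B g i (algebraMap (G i) (B i) x)) :
    Hens2.IsPairHenselization (DirectLimit G f) (⨆ i, (I i).map (DirectLimit.Ring.of G f i))
      (DirectLimit B g) := by
  have hcomp : ∀ i, (algebraMap (DirectLimit G f) (DirectLimit B g)).comp
      (DirectLimit.Ring.of G f i) = (DirectLimit.Ring.of B g i).comp (algebraMap (G i) (B i)) :=
    fun i => RingHom.ext (halg i)
  let Ja : ∀ i, Ideal (B i) := fun i => (I i).map (algebraMap (G i) (B i))
  have hJ : ∀ (a b : ι) (h : a ≤ b), (Ja a).map (g a b h) ≤ Ja b := by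
    intro a b h
    change ((I a).map (algebraMap (G a) (B a))).map (g a b h) ≤ (I b).map (algebraMap (G b) (B b))
    rw [Ideal.map_map, hg, ← Ideal.map_map]
    exact Ideal.map_mono (hI a b h)
  haveI : ∀ a, HenselianRing (B a) (Ja a) := fun a => (hB a).1
  have hideal : (⨆ i, (I i).map (DirectLimit.Ring.of G f i)).map
      (algebraMap (DirectLimit G f) (DirectLimit B g)) = JL B g Ja := by
    rw [Ideal.map_iSup, JL]
    congr 1
    funext i
    rw [Ideal.map_map, hcomp, ← Ideal.map_map]
  refine ⟨?_, ?_⟩
  · rw [hideal]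
    exact dl_henselian' B g Ja hJ
  · intro D _ K φ hD hφ
    -- the stage maps
    have hle : ∀ i, (I i).map (φ.comp (DirectLimit.Ring.of G f i)) ≤ K := by
      intro i
      rw [← Ideal.map_map]
      exact (Ideal.map_mono (le_iSup (fun i => (I i).map (DirectLimit.Ring.of G f i)) i)).trans hφ
    choose ψ hψ hψu using fun i => (hB i).2 D K (φ.comp (DirectLimit.Ring.of G f i)) hD (hle i)
    have hcompat : ∀ (i j : ι) (h : i ≤ j) (x : B i), ψ j (g i j h x) = ψ i x := by
      intro i j h x
      have h1 : (ψ j).comp (g i j h) = ψ i := by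
        apply hψu
        rw [RingHom.comp_assoc, hg, ← RingHom.comp_assoc, hψ j, RingHom.comp_assoc]
        congr 1
        exact RingHom.ext fun y => DirectLimit.Ring.of_f h y
      exact RingHom.congr_fun h1 x
    let Ψ : DirectLimit B g →+* D := DirectLimit.Ring.lift B g D ψ hcompat
    have hΨ : ∀ i x, Ψ (DirectLimit.Ring.of B g i x) = ψ i x := fun i x => rfl
    refine ⟨Ψ, ?_, ?_⟩
    · refine RingHom.ext fun z => ?_
      obtain ⟨i, x, rfl⟩ := dl_exists_of G f z
      change Ψ (algebraMap (DirectLimit G f) (DirectLimit B g) (DirectLimit.Ring.of G f i x)) = _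
      rw [halg, hΨ]
      exact RingHom.congr_fun (hψ i) x
    · intro Ψ' hΨ'
      refine RingHom.ext fun z => ?_
      obtain ⟨i, x, rfl⟩ := dl_exists_of B g z
      rw [hΨ]
      have h1 : Ψ'.comp (DirectLimit.Ring.of B g i) = ψ i := by
        apply hψu
        rw [RingHom.comp_assoc, ← hcomp, ← RingHom.comp_assoc, hΨ']
      exact RingHom.congr_fun h1 x

end Groth.Agent.Helper26.PH
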