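import Mathlib

/-!
# Formal smoothness of truncations via lifting problems over the base (helper26)
-/

set_option autoImplicit false
set_option linter.style.haveILetI false

namespace Groth.Agent.Helper26.PHFormal

universe u

variable (A : Type u) [CommRing A] (I : Ideal A) (B : Type u) [CommRing B] [Algebra A B] (r : ℕ)

/-- truncation of the base -/
abbrev Ar := A ⧸ I ^ r
/-- truncation of the algebra -/
abbrev Br := B ⧸ (I ^ r).map (algebraMap A B)

theorem algebraMap_Ar_Br (a : A) :
    algebraMap (Ar A I r) (Br A I B r) (Ideal.Quotient.mk _ a) =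
      Ideal.Quotient.mk _ (algebraMap A B a) := rfl

instance : IsScalarTower A (Ar A I r) (Br A I B r) :=
  IsScalarTower.of_algebraMap_eq (fun _ => rfl)

section lift

variable {A I B r}
variable {E C : Type u} [CommRing E] [CommRing C] [Algebra A E] [Algebra A C]
  (hE : (I ^ r).map (algebraMap A E) = ⊥) (hC : (I ^ r).map (algebraMap A C) = ⊥)

include hE in
theorem algebraMap_eq_zero_of_mem {a : A} (ha : a ∈ I ^ r) : algebraMap A E a = 0 := by
  have : algebraMap A E a ∈ (I ^ r).map (algebraMap A E) := Ideal.mem_map_of_mem _ ha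
  rwa [hE, Ideal.mem_bot] at this

/-- the induced algebra structure over the truncated base -/
@[reducible] noncomputable def algQuot : Algebra (Ar A I r) E :=
  (Ideal.Quotient.lift (I ^ r) (algebraMap A E)
    (fun _ ha => algebraMap_eq_zero_of_mem hE ha)).toAlgebra

include hE hC in
theorem exists_lift_of_formallySmooth [Algebra.FormallySmooth (Ar A I r) (Br A I B r)]
    (p : E →ₐ[A] C) (hp : Function.Surjective p)
    (hnil : IsNilpotent (RingHom.ker (p : E →+* C))) (u : B →ₐ[A] C) :
    ∃ v : B →ₐ[A] E, p.comp v = u := by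
  letI : Algebra (Ar A I r) E := algQuot hE
  letI : Algebra (Ar A I r) C := algQuot hC
  have hstE : IsScalarTower A (Ar A I r) E := IsScalarTower.of_algebraMap_eq (fun _ => rfl)
  have hstC : IsScalarTower A (Ar A I r) C := IsScalarTower.of_algebraMap_eq (fun _ => rfl)
  let pr : E →ₐ[Ar A I r] C :=
    { (p : E →+* C) with
      commutes' := by
        intro a
        obtain ⟨a, rfl⟩ := Ideal.Quotient.mk_surjective a
        exact p.commutes a }
  have hu : ∀ b ∈ (I ^ r).map (algebraMap A B), (u : B →+* C) b = 0 := by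
    intro b hb
    have h1 : (u : B →+* C) b ∈ ((I ^ r).map (algebraMap A B)).map (u : B →+* C) :=
      Ideal.mem_map_of_mem _ hb
    have h2 : ((I ^ r).map (algebraMap A B)).map (u : B →+* C) = ⊥ := by
      rw [Ideal.map_map]
      have : (u : B →+* C).comp (algebraMap A B) = algebraMap A C := by
        ext a
        exact u.commutes a
      rw [this, hC]
    rwa [h2, Ideal.mem_bot] at h1
  let ur : Br A I B r →ₐ[Ar A I r] C :=
    { Ideal.Quotient.lift _ (u : B →+* C) hu with
      commutes' := by
        intro a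
        obtain ⟨a, rfl⟩ := Ideal.Quotient.mk_surjective a
        exact u.commutes a }
  let vr : Br A I B r →ₐ[Ar A I r] E :=
    Algebra.FormallySmooth.liftOfSurjective ur pr hp hnil
  have hvr : ∀ x, pr (vr x) = ur x :=
    Algebra.FormallySmooth.liftOfSurjective_apply ur pr hp hnil
  let v : B →ₐ[A] E :=
    { (vr : Br A I B r →+* E).comp (Ideal.Quotient.mk _) with
      commutes' := by
        intro a
        change vr (Ideal.Quotient.mk _ (algebraMap A B a)) = _
        rw [← algebraMap_Ar_Br, AlgHom.commutes]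
        rfl }
  refine ⟨v, ?_⟩
  ext b
  exact hvr (Ideal.Quotient.mk _ b)

include hE in
theorem lift_unique_of_formallyUnramified [Algebra.FormallyUnramified (Ar A I r) (Br A I B r)]
    (p : E →ₐ[A] C)
    (hnil : IsNilpotent (RingHom.ker (p : E →+* C))) (v₁ v₂ : B →ₐ[A] E)
    (h : p.comp v₁ = p.comp v₂) : v₁ = v₂ := by
  letI : Algebra (Ar A I r) E := algQuot hE
  have hstE : IsScalarTower A (Ar A I r) E := IsScalarTower.of_algebraMap_eq (fun _ => rfl)
  have hv : ∀ (v : B →ₐ[A] E), ∀ b ∈ (I ^ r).map (algebraMap A B), (v : B →+* E) b = 0 := by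
    intro v b hb
    have h1 : (v : B →+* E) b ∈ ((I ^ r).map (algebraMap A B)).map (v : B →+* E) :=
      Ideal.mem_map_of_mem _ hb
    have h2 : ((I ^ r).map (algebraMap A B)).map (v : B →+* E) = ⊥ := by
      rw [Ideal.map_map]
      have : (v : B →+* E).comp (algebraMap A B) = algebraMap A E := by
        ext a
        exact v.commutes a
      rw [this, hE]
    rwa [h2, Ideal.mem_bot] at h1
  let mkv : (B →ₐ[A] E) → (Br A I B r →ₐ[Ar A I r] E) := fun v =>
    { Ideal.Quotient.lift _ (v : B →+* E) (hv v) with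
      commutes' := by
        intro a
        obtain ⟨a, rfl⟩ := Ideal.Quotient.mk_surjective a
        exact v.commutes a }
  have key : mkv v₁ = mkv v₂ := by
    refine Algebra.FormallyUnramified.ext' (p : E →+* C) hnil _ _ ?_
    intro x
    obtain ⟨b, rfl⟩ := Ideal.Quotient.mk_surjective x
    exact congrArg (fun g => g b) h
  ext b
  exact congrArg (fun g => g (Ideal.Quotient.mk _ b)) key

end lift

section converse

variable {A I B r}

/-- the lifting property over `A` for algebras killed by `I ^ r` gives formal smoothness of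
the truncation -/
theorem formallySmooth_of_hlift
    (hl : ∀ (E : Type u) [CommRing E] [Algebra A E] (K : Ideal E),
      (I ^ r).map (algebraMap A E) = ⊥ → K ^ 2 = ⊥ → ∀ u : B →ₐ[A] E ⧸ K,
      ∃ v : B →ₐ[A] E, (Ideal.Quotient.mkₐ A K).comp v = u) :
    Algebra.FormallySmooth (Ar A I r) (Br A I B r) := by
  refine Algebra.FormallySmooth.of_comp_surjective ?_
  intro E _ _ K hK ub
  letI : Algebra A E := ((algebraMap (Ar A I r) E).comp (Ideal.Quotient.mk (I ^ r))).toAlgebra
  have hst : IsScalarTower A (Ar A I r) E := IsScalarTower.of_algebraMap_eq (fun _ => rfl)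
  have hst' : IsScalarTower A (Ar A I r) (E ⧸ K) := IsScalarTower.of_algebraMap_eq (fun _ => rfl)
  have hE : (I ^ r).map (algebraMap A E) = ⊥ := by
    rw [eq_bot_iff, Ideal.map_le_iff_le_comap]
    intro a ha
    rw [Ideal.mem_comap, Ideal.mem_bot]
    change algebraMap (Ar A I r) E (Ideal.Quotient.mk (I ^ r) a) = 0
    rw [Ideal.Quotient.eq_zero_iff_mem.2 ha, map_zero]
  let u : B →ₐ[A] E ⧸ K :=
    (ub.restrictScalars A).comp (Ideal.Quotient.mkₐ A ((I ^ r).map (algebraMap A B)))
  obtain ⟨v, hv⟩ := hl E K hE hK u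
  have hv0 : ∀ b ∈ (I ^ r).map (algebraMap A B), (v : B →+* E) b = 0 := by
    intro b hb
    have h1 : (v : B →+* E) b ∈ ((I ^ r).map (algebraMap A B)).map (v : B →+* E) :=
      Ideal.mem_map_of_mem _ hb
    have h2 : ((I ^ r).map (algebraMap A B)).map (v : B →+* E) = ⊥ := by
      rw [Ideal.map_map]
      have : (v : B →+* E).comp (algebraMap A B) = algebraMap A E := by
        ext a
        exact v.commutes a
      rw [this, hE]
    rwa [h2, Ideal.mem_bot] at h1
  let vb : Br A I B r →ₐ[Ar A I r] E :=
    { Ideal.Quotient.lift _ (v : B →+* E) hv0 with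
      commutes' := by
        intro a
        obtain ⟨a, rfl⟩ := Ideal.Quotient.mk_surjective a
        exact v.commutes a }
  refine ⟨vb, ?_⟩
  ext x
  obtain ⟨b, rfl⟩ := Ideal.Quotient.mk_surjective x
  exact congrArg (fun g => g b) hv

theorem formallyUnramified_of_hlift_unique
    (hl : ∀ (E : Type u) [CommRing E] [Algebra A E] (K : Ideal E),
      (I ^ r).map (algebraMap A E) = ⊥ → K ^ 2 = ⊥ → ∀ v₁ v₂ : B →ₐ[A] E,
      (Ideal.Quotient.mkₐ A K).comp v₁ = (Ideal.Quotient.mkₐ A K).comp v₂ → v₁ = v₂) :
    Algebra.FormallyUnramified (Ar A I r) (Br A I B r) := by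
  rw [Algebra.FormallyUnramified.iff_comp_injective]
  intro E _ _ K hK w₁ w₂ hw
  letI : Algebra A E := ((algebraMap (Ar A I r) E).comp (Ideal.Quotient.mk (I ^ r))).toAlgebra
  have hst : IsScalarTower A (Ar A I r) E := IsScalarTower.of_algebraMap_eq (fun _ => rfl)
  have hE : (I ^ r).map (algebraMap A E) = ⊥ := by
    rw [eq_bot_iff, Ideal.map_le_iff_le_comap]
    intro a ha
    rw [Ideal.mem_comap, Ideal.mem_bot]
    change algebraMap (Ar A I r) E (Ideal.Quotient.mk (I ^ r) a) = 0
    rw [Ideal.Quotient.eq_zero_iff_mem.2 ha, map_zero]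
  let v₁ : B →ₐ[A] E :=
    (w₁.restrictScalars A).comp (Ideal.Quotient.mkₐ A ((I ^ r).map (algebraMap A B)))
  let v₂ : B →ₐ[A] E :=
    (w₂.restrictScalars A).comp (Ideal.Quotient.mkₐ A ((I ^ r).map (algebraMap A B)))
  have h12 : v₁ = v₂ := by
    apply hl E K hE hK
    ext b
    exact congrArg (fun g => g (Ideal.Quotient.mk _ b)) hw
  ext x
  obtain ⟨b, rfl⟩ := Ideal.Quotient.mk_surjective x
  exact congrArg (fun g => g b) h12

end converse

end Groth.Agent.Helper26.PHFormal
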