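import Mathlib
import Groth.Prelude.Def_Hens2
import Groth.Agent.Lib.Helper1.HPFinEt
import Groth.Agent.Lib.Helper1.HPEquiv
import Groth.Agent.Lib.Helper26.PHMore

/-!
# Surjective henselian finitely presented maps have finitely generated kernel (helper26)
-/

set_option autoImplicit false

namespace Groth.Agent.Helper26.PH

universe u

theorem ker_fg_of_surjective {H : Type u} [CommRing H] (𝔦 : Ideal H) [HenselianRing H 𝔦]
    (T : Type u) [CommRing T] [Algebra H T] [Algebra.FinitePresentation H T]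
    (B : Type u) [CommRing B] [Algebra T B] [Algebra H B] [IsScalarTower H T B]
    (hB : Hens2.IsPairHenselization T (𝔦.map (algebraMap H T)) B)
    (hs : Function.Surjective (algebraMap H B)) : (RingHom.ker (algebraMap H B)).FG := by
  classical
  obtain ⟨k, π, hπ, s, hs'⟩ := Algebra.FinitePresentation.out (R := H) (A := T)
  choose η hη using fun i => hs (algebraMap T B (π (MvPolynomial.X i)))
  let ev : MvPolynomial (Fin k) H →ₐ[H] H := MvPolynomial.aeval η
  have hev : ∀ p, algebraMap H B (ev p) = algebraMap T B (π p) := by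
    intro p
    have : ((Algebra.ofId H B).comp ev : MvPolynomial (Fin k) H →ₐ[H] B) =
        (IsScalarTower.toAlgHom H T B).comp π := by
      apply MvPolynomial.algHom_ext
      intro i
      change algebraMap H B (MvPolynomial.aeval η (MvPolynomial.X i)) = algebraMap T B (π _)
      rw [MvPolynomial.aeval_X, hη]
    exact congrArg (fun g => g p) this
  let 𝔠 : Ideal H := Ideal.span (ev '' (s : Set (MvPolynomial (Fin k) H)))
  have h𝔠fg : 𝔠.FG := ⟨s.image ev, by rw [Finset.coe_image]⟩
  have hle1 : 𝔠 ≤ RingHom.ker (algebraMap H B) := by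
    rw [Ideal.span_le]
    rintro _ ⟨p, hp, rfl⟩
    change algebraMap H B (ev p) = 0
    rw [hev]
    have : p ∈ RingHom.ker π.toRingHom := by
      rw [← hs']
      exact Ideal.subset_span hp
    rw [show π p = 0 from this, map_zero]
  have hle2 : RingHom.ker (algebraMap H B) ≤ 𝔠 := by
    have hint : Algebra.IsIntegral H (H ⧸ 𝔠) :=
      Algebra.isIntegral_of_surjective Ideal.Quotient.mk_surjective
    have hQ : HenselianRing (H ⧸ 𝔠) (𝔦.map (algebraMap H (H ⧸ 𝔠))) :=
      Groth.Agent.Helper1.henselianRing_map_of_isIntegral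
        Groth.Agent.Helper1.gabberProp_of_henselianRing (H ⧸ 𝔠)
    let τ₀ : MvPolynomial (Fin k) H →ₐ[H] H ⧸ 𝔠 := (Ideal.Quotient.mkₐ H 𝔠).comp ev
    have hτ₀ : RingHom.ker (π : MvPolynomial (Fin k) H →+* T) ≤ RingHom.ker (τ₀ : _ →+* H ⧸ 𝔠) := by
      change RingHom.ker π.toRingHom ≤ _
      rw [← hs', Ideal.span_le]
      intro p hp
      change Ideal.Quotient.mk 𝔠 (ev p) = 0
      exact Ideal.Quotient.eq_zero_iff_mem.2 (Ideal.subset_span ⟨p, hp, rfl⟩)
    let τ : T →+* H ⧸ 𝔠 :=
      RingHom.liftOfSurjective (π : MvPolynomial (Fin k) H →+* T) hπ ⟨τ₀, hτ₀⟩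
    have hτ : ∀ p, τ (π p) = τ₀ p := fun p =>
      RingHom.liftOfRightInverse_comp_apply _ _ _ _ p
    have hτalg : ∀ h : H, τ (algebraMap H T h) = Ideal.Quotient.mk 𝔠 h := by
      intro h
      have : algebraMap H T h = π (MvPolynomial.C h) := by
        rw [← MvPolynomial.algebraMap_eq, AlgHom.commutes]
      rw [this, hτ]
      change Ideal.Quotient.mk 𝔠 (MvPolynomial.aeval η (MvPolynomial.C h)) = _
      rw [← MvPolynomial.algebraMap_eq, AlgHom.commutes]
      rfl
    have hleτ : (𝔦.map (algebraMap H T)).map τ ≤ 𝔦.map (algebraMap H (H ⧸ 𝔠)) := by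
      rw [Ideal.map_map]
      have : τ.comp (algebraMap H T) = algebraMap H (H ⧸ 𝔠) := RingHom.ext hτalg
      rw [this]
    obtain ⟨g, hg, -⟩ := hB.2 (H ⧸ 𝔠) _ τ hQ hleτ
    intro h hh
    rw [RingHom.mem_ker] at hh
    have h1 : g (algebraMap H B h) = Ideal.Quotient.mk 𝔠 h := by
      rw [IsScalarTower.algebraMap_apply H T B, ← hτalg]
      exact congrArg (fun k => k (algebraMap H T h)) hg
    rw [hh, map_zero] at h1
    exact Ideal.Quotient.eq_zero_iff_mem.1 h1.symm
  rw [← le_antisymm hle1 hle2]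
  exact h𝔠fg

end Groth.Agent.Helper26.PH
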