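import Mathlib

/-!
# Surjections of algebras with étale truncations (helper26)
-/

set_option autoImplicit false
set_option linter.style.haveILetI false

namespace Groth.Agent.Helper26.PH

universe u

/-- an étale surjection has idempotent kernel -/
theorem ker_le_sq_of_etale {Hn Bn : Type u} [CommRing Hn] [CommRing Bn] [Algebra Hn Bn]
    [Algebra.FormallySmooth Hn Bn] (hs : Function.Surjective (algebraMap Hn Bn)) :
    RingHom.ker (algebraMap Hn Bn) ≤ RingHom.ker (algebraMap Hn Bn) ^ 2 := by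
  set 𝔠 := RingHom.ker (algebraMap Hn Bn) with h𝔠
  let p : (Hn ⧸ 𝔠 ^ 2) →ₐ[Hn] Bn :=
    Ideal.Quotient.liftₐ (𝔠 ^ 2) (Algebra.ofId Hn Bn) (by
      intro x hx
      exact Ideal.pow_le_self two_ne_zero hx)
  have hp : Function.Surjective p := by
    intro b
    obtain ⟨h, rfl⟩ := hs b
    exact ⟨Ideal.Quotient.mk _ h, rfl⟩
  have hker : RingHom.ker (p : (Hn ⧸ 𝔠 ^ 2) →+* Bn) = 𝔠.map (Ideal.Quotient.mk (𝔠 ^ 2)) := by
    ext x
    obtain ⟨x, rfl⟩ := Ideal.Quotient.mk_surjective x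
    rw [RingHom.mem_ker]
    change algebraMap Hn Bn x = 0 ↔ _
    rw [Ideal.mem_map_iff_of_surjective _ Ideal.Quotient.mk_surjective]
    constructor
    · intro hx
      exact ⟨x, hx, rfl⟩
    · rintro ⟨y, hy, hxy⟩
      have : x - y ∈ 𝔠 ^ 2 := by
        rw [← Ideal.Quotient.eq_zero_iff_mem, map_sub, hxy, sub_self]
      have h2 : x - y ∈ 𝔠 := Ideal.pow_le_self two_ne_zero this
      have h3 : x = (x - y) + y := by ring
      rw [h3, map_add]
      rw [show algebraMap Hn Bn (x - y) = 0 from h2, show algebraMap Hn Bn y = 0 from hy, add_zero]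
  have hnil : IsNilpotent (RingHom.ker (p : (Hn ⧸ 𝔠 ^ 2) →+* Bn)) := by
    refine ⟨2, ?_⟩
    rw [hker, ← Ideal.map_pow, Ideal.map_quotient_self]
    rfl
  let s : Bn →ₐ[Hn] (Hn ⧸ 𝔠 ^ 2) :=
    Algebra.FormallySmooth.liftOfSurjective (AlgHom.id Hn Bn) p hp hnil
  intro x hx
  have h1 : s (algebraMap Hn Bn x) = Ideal.Quotient.mk (𝔠 ^ 2) x := s.commutes x
  rw [show algebraMap Hn Bn x = 0 from hx, map_zero] at h1
  exact Ideal.Quotient.eq_zero_iff_mem.1 h1.symm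

theorem ker_eq_bot_of_le_nilpotent {Hn Bn : Type u} [CommRing Hn] [CommRing Bn] [Algebra Hn Bn]
    [Algebra.FormallySmooth Hn Bn] (hs : Function.Surjective (algebraMap Hn Bn))
    (K : Ideal Hn) (n : ℕ) (hK : K ^ n = ⊥) (hle : RingHom.ker (algebraMap Hn Bn) ≤ K) :
    RingHom.ker (algebraMap Hn Bn) = ⊥ := by
  set 𝔠 := RingHom.ker (algebraMap Hn Bn) with h𝔠
  have h2 : 𝔠 ≤ 𝔠 ^ 2 := ker_le_sq_of_etale hs
  have hpow : ∀ N : ℕ, 𝔠 ≤ 𝔠 ^ (N + 1) := by
    intro N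
    induction N with
    | zero => rw [zero_add, pow_one]
    | succ N ih =>
      calc 𝔠 ≤ 𝔠 ^ 2 := h2
        _ = 𝔠 * 𝔠 := pow_two 𝔠
        _ ≤ 𝔠 ^ (N + 1) * 𝔠 := Ideal.mul_mono_left ih
        _ = 𝔠 ^ (N + 1 + 1) := (pow_succ 𝔠 (N + 1)).symm
  rw [eq_bot_iff]
  calc 𝔠 ≤ 𝔠 ^ (n + 1) := hpow n
    _ ≤ K ^ (n + 1) := Ideal.pow_right_mono hle (n + 1)
    _ = K ^ n * K := pow_succ K n
    _ = ⊥ := by rw [hK, Ideal.bot_mul]

theorem ker_le_pow {A : Type u} [CommRing A] (I : Ideal A) {H B : Type u} [CommRing H]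
    [CommRing B] [Algebra A H] [Algebra A B] (ψ : H →ₐ[A] B) (hψ : Function.Surjective ψ) (n : ℕ)
    [Algebra.Etale (A ⧸ I ^ n) (H ⧸ (I ^ n).map (algebraMap A H))]
    [Algebra.Etale (A ⧸ I ^ n) (B ⧸ (I ^ n).map (algebraMap A B))]
    (hk : RingHom.ker (ψ : H →+* B) ≤ I.map (algebraMap A H)) (hn : 1 ≤ n) :
    RingHom.ker (ψ : H →+* B) ≤ (I ^ n).map (algebraMap A H) := by
  have hmapeq : ((I ^ n).map (algebraMap A H)).map (ψ : H →+* B) = (I ^ n).map (algebraMap A B) := by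
    rw [Ideal.map_map]
    congr 1
    ext a
    exact ψ.commutes a
  have hmap : (I ^ n).map (algebraMap A H) ≤
      Ideal.comap (ψ : H →+* B) ((I ^ n).map (algebraMap A B)) := by
    rw [← Ideal.map_le_iff_le_comap, hmapeq]
  let ψn₀ : (H ⧸ (I ^ n).map (algebraMap A H)) →+* (B ⧸ (I ^ n).map (algebraMap A B)) :=
    Ideal.quotientMap _ (ψ : H →+* B) hmap
  have hψn₀ : ∀ h, ψn₀ (Ideal.Quotient.mk _ h) = Ideal.Quotient.mk _ (ψ h) := fun h => rfl
  letI : Algebra (H ⧸ (I ^ n).map (algebraMap A H)) (B ⧸ (I ^ n).map (algebraMap A B)) :=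
    ψn₀.toAlgebra
  have hst : IsScalarTower (A ⧸ I ^ n) (H ⧸ (I ^ n).map (algebraMap A H))
      (B ⧸ (I ^ n).map (algebraMap A B)) := by
    refine IsScalarTower.of_algebraMap_eq (fun a => ?_)
    obtain ⟨a, rfl⟩ := Ideal.Quotient.mk_surjective a
    change Ideal.Quotient.mk _ (algebraMap A B a) = ψn₀ (Ideal.Quotient.mk _ (algebraMap A H a))
    rw [hψn₀, AlgHom.commutes]
  have het : Algebra.Etale (H ⧸ (I ^ n).map (algebraMap A H)) (B ⧸ (I ^ n).map (algebraMap A B)) :=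
    Algebra.Etale.of_restrictScalars (A ⧸ I ^ n) _ _
  have hs : Function.Surjective (algebraMap (H ⧸ (I ^ n).map (algebraMap A H))
      (B ⧸ (I ^ n).map (algebraMap A B))) := by
    intro b
    obtain ⟨b, rfl⟩ := Ideal.Quotient.mk_surjective b
    obtain ⟨h, rfl⟩ := hψ b
    exact ⟨Ideal.Quotient.mk _ h, rfl⟩
  let K : Ideal (H ⧸ (I ^ n).map (algebraMap A H)) :=
    (I.map (algebraMap A H)).map (Ideal.Quotient.mk _)
  have hK : K ^ n = ⊥ := by
    rw [← Ideal.map_pow, ← Ideal.map_pow, Ideal.map_quotient_self]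
  have hle : RingHom.ker (algebraMap (H ⧸ (I ^ n).map (algebraMap A H))
      (B ⧸ (I ^ n).map (algebraMap A B))) ≤ K := by
    intro x hx
    obtain ⟨x, rfl⟩ := Ideal.Quotient.mk_surjective x
    rw [RingHom.mem_ker] at hx
    change ψn₀ (Ideal.Quotient.mk _ x) = 0 at hx
    rw [hψn₀, Ideal.Quotient.eq_zero_iff_mem, ← hmapeq] at hx
    obtain ⟨y, hy, hyx⟩ := (Ideal.mem_map_iff_of_surjective (ψ : H →+* B) hψ).1 hx
    have h1 : x - y ∈ RingHom.ker (ψ : H →+* B) := by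
      rw [RingHom.mem_ker, map_sub, sub_eq_zero]
      exact hyx.symm
    have h2 : y ∈ I.map (algebraMap A H) :=
      Ideal.map_mono (Ideal.pow_le_self (by omega)) hy
    have h3 : x ∈ I.map (algebraMap A H) := by
      have : x = (x - y) + y := by ring
      rw [this]
      exact add_mem (hk h1) h2
    exact Ideal.mem_map_of_mem _ h3
  have hbot := ker_eq_bot_of_le_nilpotent hs K n hK hle
  intro h hh
  rw [RingHom.mem_ker] at hh
  have : Ideal.Quotient.mk ((I ^ n).map (algebraMap A H)) h ∈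
      RingHom.ker (algebraMap (H ⧸ (I ^ n).map (algebraMap A H))
        (B ⧸ (I ^ n).map (algebraMap A B))) := by
    rw [RingHom.mem_ker]
    change ψn₀ (Ideal.Quotient.mk _ h) = 0
    rw [hψn₀]
    have : (ψ : H →+* B) h = ψ h := rfl
    rw [← this, hh, map_zero]
  rw [hbot, Ideal.mem_bot, Ideal.Quotient.eq_zero_iff_mem] at this
  exact this

end Groth.Agent.Helper26.PH
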