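import Mathlib
import Groth.Agent.Lib.Helper26.MvHens2
import Groth.Agent.Lib.Helper26.PHNbhd2

/-!
# Algebras of finite type that are surjective modulo `I` (helper26)

If `R'` is a finite type `A`-algebra with `A/I → R'/IR'` surjective, then some principal
localization `R'_f` with `f ≡ 1 mod IR'` is a quotient of an étale neighbourhood of `(A, I)`.
-/

set_option autoImplicit false

open MvPolynomial

namespace Groth.Agent.Helper26.PH

universe u

variable {A : Type u} [CommRing A] (I : Ideal A)

theorem pderiv_mem_map_C {n : ℕ} (k : Fin n) {G : MvPolynomial (Fin n) A}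
    (hG : G ∈ I.map (C : A →+* MvPolynomial (Fin n) A)) :
    pderiv k G ∈ I.map (C : A →+* MvPolynomial (Fin n) A) := by
  rw [MvPolynomial.mem_map_C_iff] at hG ⊢
  intro m
  rw [coeff_pderiv]
  exact Ideal.mul_mem_right _ _ (hG _)

section construction

variable (n : ℕ) (a : Fin n → A) (G : Fin n → MvPolynomial (Fin n) A)
  (hG : ∀ i, G i ∈ I.map (C : A →+* MvPolynomial (Fin n) A))

/-- the equations `X_i - a_i - G_i` -/
noncomputable def hh : Fin n → MvPolynomial (Fin n) A := fun i => X i - C (a i) - G i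

include hG in
theorem det_JM_sub_one_mem :
    (MvHens.JM A n (hh n a G)).det - 1 ∈ I.map (C : A →+* MvPolynomial (Fin n) A) := by
  classical
  rw [← Ideal.Quotient.eq_zero_iff_mem, map_sub, map_one, sub_eq_zero, RingHom.map_det]
  have : (Ideal.Quotient.mk (I.map (C : A →+* MvPolynomial (Fin n) A))).mapMatrix
      (MvHens.JM A n (hh n a G)) = 1 := by
    ext i k
    have h1 : pderiv k (hh n a G i) = (Pi.single k 1 : Fin n → MvPolynomial (Fin n) A) i - pderiv k (G i) := by
      rw [hh, map_sub, map_sub, pderiv_C, sub_zero, pderiv_X]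
    rw [RingHom.mapMatrix_apply, Matrix.map_apply, MvHens.JM, Matrix.of_apply, h1, map_sub,
      Ideal.Quotient.eq_zero_iff_mem.2 (pderiv_mem_map_C I k (hG i)), sub_zero, Matrix.one_apply,
      Pi.single_apply]
    by_cases hik : i = k
    · subst hik
      simp
    · rw [if_neg hik, if_neg hik, map_zero]
  rw [this, Matrix.det_one]

end construction

/-- every element of `SS` is congruent to a constant modulo `I` -/
theorem ss_surj (n : ℕ) (a : Fin n → A) (G : Fin n → MvPolynomial (Fin n) A)
    (hG : ∀ i, G i ∈ I.map (C : A →+* MvPolynomial (Fin n) A))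
    (s : MvHens.SS A n (hh n a G)) :
    ∃ r, s - algebraMap A (MvHens.SS A n (hh n a G)) r ∈
      I.map (algebraMap A (MvHens.SS A n (hh n a G))) := by
  obtain ⟨p, rfl⟩ := Ideal.Quotient.mk_surjective s
  set K := I.map (algebraMap A (MvHens.SS A n (hh n a G))) with hK
  have hGK : ∀ i, Ideal.Quotient.mk (Ideal.span (Set.range (hh n a G))) (G i) ∈ K := by
    intro i
    have h1 : K = (I.map (C : A →+* MvPolynomial (Fin n) A)).map
        (Ideal.Quotient.mk (Ideal.span (Set.range (hh n a G)))) := by
      rw [hK, Ideal.map_map]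
      rfl
    rw [h1]
    exact Ideal.mem_map_of_mem _ (hG i)
  have hX : ∀ i, Ideal.Quotient.mk (Ideal.span (Set.range (hh n a G))) (X i) -
      algebraMap A (MvHens.SS A n (hh n a G)) (a i) ∈ K := by
    intro i
    have h1 : Ideal.Quotient.mk (Ideal.span (Set.range (hh n a G))) (X i) -
        algebraMap A (MvHens.SS A n (hh n a G)) (a i) =
        Ideal.Quotient.mk (Ideal.span (Set.range (hh n a G))) (G i) := by
      have h2 : Ideal.Quotient.mk (Ideal.span (Set.range (hh n a G))) (hh n a G i) = 0 :=
        Ideal.Quotient.eq_zero_iff_mem.2 (Ideal.subset_span ⟨i, rfl⟩)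
      rw [hh, map_sub, map_sub, sub_eq_zero] at h2
      exact h2
    rw [h1]
    exact hGK i
  induction p using MvPolynomial.induction_on with
  | C r => exact ⟨r, by rw [show Ideal.Quotient.mk (Ideal.span (Set.range (hh n a G))) (C r) =
      algebraMap A (MvHens.SS A n (hh n a G)) r from rfl, sub_self]; exact zero_mem _⟩
  | add p q hp hq =>
    obtain ⟨r, hr⟩ := hp
    obtain ⟨r', hr'⟩ := hq
    refine ⟨r + r', ?_⟩
    rw [map_add, map_add, add_sub_add_comm]
    exact add_mem hr hr'
  | mul_X p i hp =>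
    obtain ⟨r, hr⟩ := hp
    refine ⟨r * a i, ?_⟩
    have : Ideal.Quotient.mk (Ideal.span (Set.range (hh n a G))) (p * X i) -
        algebraMap A (MvHens.SS A n (hh n a G)) (r * a i) =
        (Ideal.Quotient.mk (Ideal.span (Set.range (hh n a G))) p -
          algebraMap A (MvHens.SS A n (hh n a G)) r) *
          Ideal.Quotient.mk (Ideal.span (Set.range (hh n a G))) (X i) +
        algebraMap A (MvHens.SS A n (hh n a G)) r *
          (Ideal.Quotient.mk (Ideal.span (Set.range (hh n a G))) (X i) -
            algebraMap A (MvHens.SS A n (hh n a G)) (a i)) := by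
      rw [map_mul, map_mul]
      ring
    rw [this]
    exact add_mem (Ideal.mul_mem_right _ _ hr) (Ideal.mul_mem_left _ _ (hX i))

/-- the neighbourhood property of `TT` -/
theorem isNbhd_TT (n : ℕ) (a : Fin n → A) (G : Fin n → MvPolynomial (Fin n) A)
    (hG : ∀ i, G i ∈ I.map (C : A →+* MvPolynomial (Fin n) A)) :
    IsNbhd A I (MvHens.TT A n (hh n a G)) := by
  classical
  have hE : Algebra.Etale A (MvHens.TT A n (hh n a G)) := MvHens.etale_TT A n (hh n a G)
  let ρ₀ : MvPolynomial (Fin n) A →ₐ[A] A ⧸ I := aeval (fun i => Ideal.Quotient.mk I (a i))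
  have hρ₀ : ∀ p ∈ I.map (C : A →+* MvPolynomial (Fin n) A), ρ₀ p = 0 := by
    have : I.map (C : A →+* MvPolynomial (Fin n) A) ≤ RingHom.ker (ρ₀ : _ →+* A ⧸ I) := by
      rw [Ideal.map_le_iff_le_comap]
      intro c hc
      rw [Ideal.mem_comap, RingHom.mem_ker]
      change ρ₀ (C c) = 0
      rw [← MvPolynomial.algebraMap_eq, AlgHom.commutes]
      exact Ideal.Quotient.eq_zero_iff_mem.2 hc
    exact fun p hp => this hp
  have hρh : ∀ i, ρ₀ (hh n a G i) = 0 := by
    intro i
    rw [hh, map_sub, map_sub, hρ₀ _ (hG i), sub_zero, ← MvPolynomial.algebraMap_eq,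
      AlgHom.commutes]
    change aeval _ (X i) - _ = 0
    rw [aeval_X]
    exact sub_self _
  let ρ₁ : MvHens.SS A n (hh n a G) →ₐ[A] A ⧸ I :=
    Ideal.Quotient.liftₐ _ ρ₀ (by
      intro p hp
      have : Ideal.span (Set.range (hh n a G)) ≤ RingHom.ker (ρ₀ : _ →+* A ⧸ I) := by
        rw [Ideal.span_le]
        rintro _ ⟨i, rfl⟩
        exact hρh i
      exact this hp)
  have hρgg : ρ₁ (MvHens.gg A n (hh n a G)) = 1 := by
    change ρ₀ (MvHens.JM A n (hh n a G)).det = 1
    have := hρ₀ _ (det_JM_sub_one_mem I n a G hG)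
    rwa [map_sub, map_one, sub_eq_zero] at this
  let ρ : MvHens.TT A n (hh n a G) →ₐ[A] A ⧸ I :=
    IsLocalization.Away.liftAlgHom (MvHens.gg A n (hh n a G)) (f := ρ₁)
      (by rw [hρgg]; exact isUnit_one)
  refine IsNbhd.of_retr ρ ?_
  intro e
  have hgg : MvHens.gg A n (hh n a G) - 1 ∈
      (I.map (algebraMap A (MvHens.SS A n (hh n a G)))).map
        (algebraMap (MvHens.SS A n (hh n a G)) (MvHens.SS A n (hh n a G))) := by
    rw [Algebra.algebraMap_self, Ideal.map_id]
    have h1 : I.map (algebraMap A (MvHens.SS A n (hh n a G))) =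
        (I.map (C : A →+* MvPolynomial (Fin n) A)).map
        (Ideal.Quotient.mk (Ideal.span (Set.range (hh n a G)))) := by
      rw [Ideal.map_map]
      rfl
    rw [h1]
    have := Ideal.mem_map_of_mem (Ideal.Quotient.mk (Ideal.span (Set.range (hh n a G))))
      (det_JM_sub_one_mem I n a G hG)
    rwa [map_sub, map_one] at this
  have hN : IsNbhd (MvHens.SS A n (hh n a G)) (I.map (algebraMap A (MvHens.SS A n (hh n a G))))
      (Localization.Away (MvHens.gg A n (hh n a G))) :=
    IsNbhd.away IsNbhd.self _ hgg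
  obtain ⟨s, hs⟩ := hN.surj e
  obtain ⟨r, hr⟩ := ss_surj I n a G hG s
  refine ⟨r, ?_⟩
  have h2 : (I.map (algebraMap A (MvHens.SS A n (hh n a G)))).map
      (algebraMap (MvHens.SS A n (hh n a G)) (MvHens.TT A n (hh n a G))) =
      I.map (algebraMap A (MvHens.TT A n (hh n a G))) := by
    rw [Ideal.map_map, ← IsScalarTower.algebraMap_eq]
  rw [h2] at hs
  have h3 : e - algebraMap A (MvHens.TT A n (hh n a G)) r =
      (e - algebraMap (MvHens.SS A n (hh n a G)) (MvHens.TT A n (hh n a G)) s) +
      algebraMap (MvHens.SS A n (hh n a G)) (MvHens.TT A n (hh n a G))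
        (s - algebraMap A (MvHens.SS A n (hh n a G)) r) := by
    rw [map_sub, ← IsScalarTower.algebraMap_apply]
    ring
  rw [h3]
  refine add_mem hs ?_
  rw [← h2]
  exact Ideal.mem_map_of_mem _ hr

/-- a finite type algebra surjective mod `I` is, after inverting some `f ≡ 1`, a quotient of an
étale neighbourhood of `(A, I)` -/
theorem exists_etale_nbhd_surj (R' : Type u) [CommRing R'] [Algebra A R'] [Algebra.FiniteType A R']
    (hsurj : ∀ x : R', ∃ r, x - algebraMap A R' r ∈ I.map (algebraMap A R')) :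
    ∃ (E : Type u) (_ : CommRing E) (_ : Algebra A E) (_ : IsNbhd A I E) (f : R')
      (_ : f - 1 ∈ I.map (algebraMap A R')) (q : E →ₐ[A] Localization.Away f),
      Function.Surjective q := by
  classical
  obtain ⟨n, π, hπ⟩ := Algebra.FiniteType.iff_quotient_mvPolynomial''.1
    (inferInstance : Algebra.FiniteType A R')
  choose a ha using fun i => hsurj (π (X i))
  have hmap : I.map (algebraMap A R') =
      (I.map (C : A →+* MvPolynomial (Fin n) A)).map (π : MvPolynomial (Fin n) A →+* R') := by
    rw [Ideal.map_map]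
    congr 1
    ext r
    change _ = π (C r)
    rw [← MvPolynomial.algebraMap_eq, AlgHom.commutes]
  have hG' : ∀ i, ∃ G ∈ I.map (C : A →+* MvPolynomial (Fin n) A),
      π G = π (X i) - algebraMap A R' (a i) := by
    intro i
    have := ha i
    rw [hmap] at this
    exact (Ideal.mem_map_iff_of_surjective (π : MvPolynomial (Fin n) A →+* R') hπ).1 this
  choose G hG hGπ using hG'
  have hπh : ∀ i, π (hh n a G i) = 0 := by
    intro i
    rw [hh, map_sub, map_sub, hGπ, ← MvPolynomial.algebraMap_eq, AlgHom.commutes]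
    exact sub_self _
  let πb : MvHens.SS A n (hh n a G) →ₐ[A] R' :=
    Ideal.Quotient.liftₐ _ π (by
      intro p hp
      have : Ideal.span (Set.range (hh n a G)) ≤ RingHom.ker (π : _ →+* R') := by
        rw [Ideal.span_le]
        rintro _ ⟨i, rfl⟩
        exact hπh i
      exact this hp)
  have hπb : Function.Surjective πb := by
    intro y
    obtain ⟨p, rfl⟩ := hπ y
    exact ⟨Ideal.Quotient.mk _ p, rfl⟩
  let f : R' := πb (MvHens.gg A n (hh n a G))
  have hf : f - 1 ∈ I.map (algebraMap A R') := by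
    rw [hmap]
    have := Ideal.mem_map_of_mem (π : MvPolynomial (Fin n) A →+* R')
      (det_JM_sub_one_mem I n a G hG)
    rwa [map_sub, map_one] at this
  refine ⟨MvHens.TT A n (hh n a G), inferInstance, inferInstance, isNbhd_TT I n a G hG, f, hf, ?_⟩
  have : IsLocalization.Away ((πb : MvHens.SS A n (hh n a G) →+* R') (MvHens.gg A n (hh n a G)))
      (Localization.Away f) := (inferInstance : IsLocalization.Away f (Localization.Away f))
  let q₀ : MvHens.TT A n (hh n a G) →+* Localization.Away f :=
    IsLocalization.Away.map (MvHens.TT A n (hh n a G)) (Localization.Away f)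
      (πb : MvHens.SS A n (hh n a G) →+* R') (MvHens.gg A n (hh n a G))
  have hq₀ : ∀ s, q₀ (algebraMap _ _ s) = algebraMap R' (Localization.Away f) (πb s) := by
    intro s
    exact IsLocalization.map_eq _ _
  let q : MvHens.TT A n (hh n a G) →ₐ[A] Localization.Away f :=
    { q₀ with
      commutes' := by
        intro r
        change q₀ _ = _
        rw [IsScalarTower.algebraMap_apply A (MvHens.SS A n (hh n a G)) (MvHens.TT A n (hh n a G)),
          hq₀, AlgHom.commutes, ← IsScalarTower.algebraMap_apply] }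
  refine ⟨q, ?_⟩
  intro z
  obtain ⟨k, y, hy⟩ := IsLocalization.Away.surj f z
  obtain ⟨s, rfl⟩ := hπb y
  have hu : IsUnit (algebraMap (MvHens.SS A n (hh n a G)) (MvHens.TT A n (hh n a G))
      (MvHens.gg A n (hh n a G))) := IsLocalization.Away.algebraMap_isUnit _
  obtain ⟨v, hv⟩ := hu
  refine ⟨algebraMap _ _ s * ((v⁻¹ : (MvHens.TT A n (hh n a G))ˣ) : MvHens.TT A n (hh n a G)) ^ k, ?_⟩
  have huf : IsUnit (algebraMap R' (Localization.Away f) f) :=
    IsLocalization.Away.algebraMap_isUnit _
  have h1 : q₀ (algebraMap _ _ s * ((v⁻¹ : (MvHens.TT A n (hh n a G))ˣ) :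
      MvHens.TT A n (hh n a G)) ^ k) * algebraMap R' (Localization.Away f) f ^ k =
      algebraMap R' (Localization.Away f) (πb s) := by
    have h2 : algebraMap R' (Localization.Away f) f = q₀ (v : MvHens.TT A n (hh n a G)) := by
      rw [hv, hq₀]
    rw [h2, ← map_pow, ← map_mul, mul_assoc, ← mul_pow, Units.inv_mul, one_pow, mul_one, hq₀]
  change q₀ _ = z
  exact (huf.pow k).mul_left_injective (h1.trans hy.symm)

end Groth.Agent.Helper26.PH
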