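import Mathlib
import Groth.Prelude.Def_Hens2
import Groth.Agent.Lib.Helper26.PHSurj1
import Groth.Agent.Lib.Helper26.PHMore

/-!
# Henselian finitely presented maps that are surjective modulo `I` are surjective (helper26)
-/

set_option autoImplicit false

namespace Groth.Agent.Helper26.PH

universe u

theorem surjective_of_surjective_mod (A : Type u) [CommRing A] (I : Ideal A) [HenselianRing A I]
    (R : Type u) [CommRing R] [Algebra A R] [Algebra.FiniteType A R]
    (B : Type u) [CommRing B] [Algebra R B] [Algebra A B] [IsScalarTower A R B]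
    (hB : Hens2.IsPairHenselization R (I.map (algebraMap A R)) B)
    (hsurj : ∀ b : B, ∃ a, b - algebraMap A B a ∈ I.map (algebraMap A B)) :
    Function.Surjective (algebraMap A B) := by
  intro b
  obtain ⟨R', _, _, hN, σ, x, hx⟩ := exists_nbhd_rep hB b
  let _ : Algebra A R' := ((algebraMap R R').comp (algebraMap A R)).toAlgebra
  have hst1 : IsScalarTower A R R' := IsScalarTower.of_algebraMap_eq (fun _ => rfl)
  let _ : Algebra R' B := σ.toRingHom.toAlgebra
  have hst2 : IsScalarTower R R' B :=
    IsScalarTower.of_algebraMap_eq (fun r => (σ.commutes r).symm)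
  have hst3 : IsScalarTower A R' B := by
    refine IsScalarTower.of_algebraMap_eq (fun a => ?_)
    rw [IsScalarTower.algebraMap_apply A R B, IsScalarTower.algebraMap_apply R R' B]
    rfl
  have hB' : Hens2.IsPairHenselization R' ((I.map (algebraMap A R)).map (algebraMap R R')) B :=
    isPairHenselization_of_isNbhd hB R' hN
  have hJ' : (I.map (algebraMap A R)).map (algebraMap R R') = I.map (algebraMap A R') := by
    rw [Ideal.map_map, ← IsScalarTower.algebraMap_eq]
  rw [hJ'] at hB'
  have := hN.etale
  have hft : Algebra.FiniteType A R' :=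
    Algebra.FiniteType.trans (inferInstance : Algebra.FiniteType A R)
      (inferInstance : Algebra.FiniteType R R')
  have hs' : ∀ x' : R', ∃ r, x' - algebraMap A R' r ∈ I.map (algebraMap A R') := by
    intro x'
    obtain ⟨a, ha⟩ := hsurj (algebraMap R' B x')
    refine ⟨a, ?_⟩
    have hinj := (bij_iff.1 (quotientMap_bijective hB')).1 (x' - algebraMap A R' a)
    apply hinj
    rw [Ideal.map_map, ← IsScalarTower.algebraMap_eq, map_sub, ← IsScalarTower.algebraMap_apply]
    exact ha
  obtain ⟨E, _, _, hE, f, hf, q, hq⟩ := exists_etale_nbhd_surj I R' hs'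
  have hN' : IsNbhd R (I.map (algebraMap A R)) (Localization.Away f) :=
    IsNbhd.away hN f (by rw [hJ']; exact hf)
  obtain ⟨σ', -, -⟩ := existsUnique_algHom_of_isNbhd hB (Localization.Away f) hN'
  have hσ' : σ'.comp (IsScalarTower.toAlgHom R R' (Localization.Away f)) = σ :=
    algHom_eq_of_isNbhd hB hN _ _
  obtain ⟨e, he⟩ := hq (algebraMap R' (Localization.Away f) x)
  have := hE.etale
  obtain ⟨ρ, -, -⟩ := PairHens1.existsUnique_algHom A I E hE.bij A I
    (by rw [Algebra.algebraMap_self, Ideal.map_id])
  have hBhens : HenselianRing B (I.map (algebraMap A B)) := by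
    have := hB.1
    rwa [Ideal.map_map, ← IsScalarTower.algebraMap_eq] at this
  obtain ⟨τ, -, hτ⟩ := PairHens1.existsUnique_algHom A I E hE.bij B (I.map (algebraMap A B)) le_rfl
  let τ₁ : E →ₐ[A] B := (σ'.restrictScalars A).comp q
  let τ₂ : E →ₐ[A] B := (Algebra.ofId A B).comp ρ
  have h12 : τ₁ = τ₂ := (hτ τ₁ trivial).trans (hτ τ₂ trivial).symm
  refine ⟨ρ e, ?_⟩
  have h1 : τ₂ e = algebraMap A B (ρ e) := rfl
  have h2 : τ₁ e = σ' (q e) := rfl
  rw [← h1, ← h12, h2, he, ← hx]
  exact congrArg (fun g => g x) hσ'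

end Groth.Agent.Helper26.PH
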