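import Mathlib
import Groth.Prelude.Def_Hens2
import Groth.Agent.Lib.Helper26.PHPush3

/-!
# Maps between henselian finitely presented algebras are henselian finitely presented (helper26)
-/

set_option autoImplicit false

open TensorProduct

namespace Groth.Agent.Helper26.PH

universe u

theorem hfp_of_algHom (A : Type u) [CommRing A] (I : Ideal A)
    (R : Type u) [CommRing R] [Algebra A R] [Algebra.FinitePresentation A R]
    (B : Type u) [CommRing B] [Algebra R B] [Algebra A B] [IsScalarTower A R B]
    (hB : Hens2.IsPairHenselization R (I.map (algebraMap A R)) B)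
    (S : Type u) [CommRing S] [Algebra A S] [Algebra.FinitePresentation A S]
    (C : Type u) [CommRing C] [Algebra S C] [Algebra A C] [IsScalarTower A S C]
    (hC : Hens2.IsPairHenselization S (I.map (algebraMap A S)) C)
    [Algebra B C] [IsScalarTower A B C] :
    ∃ (T : Type u) (_ : CommRing T) (_ : Algebra B T) (_ : Algebra T C) (_ : IsScalarTower B T C),
      Algebra.FinitePresentation B T ∧
      Hens2.IsPairHenselization T ((I.map (algebraMap A B)).map (algebraMap B T)) C := by
  let φ : R →ₐ[A] C := (IsScalarTower.toAlgHom A B C).comp (IsScalarTower.toAlgHom A R B)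
  obtain ⟨S', _, _, hN, σ, θ, hθA, hθ⟩ := exists_factor hC R φ
  let _ : Algebra A S' := ((algebraMap S S').comp (algebraMap A S)).toAlgebra
  let _ : Algebra R S' := θ.toAlgebra
  have hst1 : IsScalarTower A S S' := IsScalarTower.of_algebraMap_eq (fun _ => rfl)
  have hst2 : IsScalarTower A R S' := IsScalarTower.of_algebraMap_eq (fun a => (hθA a).symm)
  let _ : Algebra S' C := σ.toRingHom.toAlgebra
  have hst3 : IsScalarTower S S' C :=
    IsScalarTower.of_algebraMap_eq (fun s => (σ.commutes s).symm)
  have hC' : Hens2.IsPairHenselization S' ((I.map (algebraMap A S)).map (algebraMap S S')) C :=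
    isPairHenselization_of_isNbhd hC S' hN
  have hJ1 : (I.map (algebraMap A S)).map (algebraMap S S') =
      (I.map (algebraMap A R)).map (algebraMap R S') := by
    rw [Ideal.map_map, Ideal.map_map, ← IsScalarTower.algebraMap_eq, ← IsScalarTower.algebraMap_eq]
  rw [hJ1] at hC'
  -- finite presentation
  have := hN.etale
  have hfp1 : Algebra.FinitePresentation A S' := Algebra.FinitePresentation.trans A S S'
  have hfp2 : Algebra.FinitePresentation R S' :=
    Algebra.FinitePresentation.of_restrict_scalars_finitePresentation A R S'
  -- the tensor product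
  let T := B ⊗[R] S'
  let _ : Algebra S' T :=
    ((Algebra.TensorProduct.includeRight : S' →ₐ[R] B ⊗[R] S') : S' →+* B ⊗[R] S').toAlgebra
  let _ : Algebra R C := ((algebraMap B C).comp (algebraMap R B)).toAlgebra
  have hst4 : IsScalarTower R B C := IsScalarTower.of_algebraMap_eq (fun _ => rfl)
  let βA : B →ₐ[R] C := IsScalarTower.toAlgHom R B C
  let σA : S' →ₐ[R] C :=
    { (σ : S' →+* C) with
      commutes' := fun r => hθ r }
  let μ : T →ₐ[R] C := Algebra.TensorProduct.productMap βA σA
  let _ : Algebra T C := μ.toRingHom.toAlgebra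
  have hst5 : IsScalarTower B T C := by
    refine IsScalarTower.of_algebraMap_eq (fun b => ?_)
    change _ = μ (b ⊗ₜ 1)
    rw [Algebra.TensorProduct.productMap_left_apply]
    rfl
  have hst6 : IsScalarTower S' T C := by
    refine IsScalarTower.of_algebraMap_eq (fun s => ?_)
    change _ = μ (1 ⊗ₜ s)
    rw [Algebra.TensorProduct.productMap_right_apply]
    rfl
  have hPO : IsPO (algebraMap R B) (algebraMap R S') (algebraMap B T) (algebraMap S' T) :=
    isPO_tensor R B S'
  have hfin := isPairHenselization_of_isPO_right hB hPO hC'
  refine ⟨T, inferInstance, inferInstance, inferInstance, hst5, inferInstance, ?_⟩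
  have hJ2 : ((I.map (algebraMap A R)).map (algebraMap R S')).map (algebraMap S' T) =
      (I.map (algebraMap A B)).map (algebraMap B T) := by
    rw [Ideal.map_map, ← hPO.1, ← Ideal.map_map, Ideal.map_map (algebraMap A R),
      ← IsScalarTower.algebraMap_eq]
  rw [hJ2] at hfin
  exact hfin

end Groth.Agent.Helper26.PH
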