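import Mathlib
import Groth.Prelude.Def_Hens2
import Groth.Agent.Lib.Helper26.EtLift1
import Groth.Agent.Lib.Helper26.PHKer
import Groth.Agent.Lib.Helper26.PHKerPow
import Groth.Agent.Lib.Helper26.PHhfp2
import Groth.Agent.Lib.Helper26.PHSurj2
import Groth.Agent.Lib.Helper26.PHPow
import Groth.Agent.Lib.Helper26.PHLift
import Groth.Agent.Lib.Helper26.PHFormal

/-!
# h-étale presentations of henselian finitely presented algebras with étale truncations (helper26)
-/

set_option autoImplicit false

namespace Groth.Agent.Helper26.PH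

universe u

theorem exists_etale_surjection (A : Type u) [CommRing A] (I : Ideal A)
    [HenselianRing A I] (R₀ : Type u) [CommRing R₀] [Algebra A R₀] [Algebra.FinitePresentation A R₀]
    (B : Type u) [CommRing B] [Algebra R₀ B] [Algebra A B] [IsScalarTower A R₀ B]
    (hB : Hens2.IsPairHenselization R₀ (I.map (algebraMap A R₀)) B)
    (het : ∀ r : ℕ, 1 ≤ r → Algebra.Etale (A ⧸ I ^ r) (B ⧸ (I ^ r).map (algebraMap A B))) :
    ∃ (R : Type u) (_ : CommRing R) (_ : Algebra A R) (H : Type u) (_ : CommRing H) (_ : Algebra R H)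
      (_ : Algebra A H) (_ : IsScalarTower A R H),
      Algebra.Etale A R ∧ Hens2.IsPairHenselization R (I.map (algebraMap A R)) H ∧
      ∃ φ : H →ₐ[A] B, Function.Surjective φ ∧ (RingHom.ker φ).FG ∧
        ∀ n : ℕ, RingHom.ker φ ≤ (I ^ n).map (algebraMap A H) := by
  have hI1 : I ^ 1 = I := pow_one I
  have het1 := het 1 le_rfl
  obtain ⟨R, _, _, hRet, φ, hφs, hφk⟩ :=
    EtLift.exists_etale_lift A (I ^ 1) (B ⧸ (I ^ 1).map (algebraMap A B))
  have hBh : HenselianRing B (I.map (algebraMap A B)) := by
    have := hB.1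
    rwa [Ideal.map_map, ← IsScalarTower.algebraMap_eq] at this
  have hBh1 : HenselianRing B ((I ^ 1).map (algebraMap A B)) := by
    rw [hI1]
    exact hBh
  obtain ⟨ρ, hρ⟩ := exists_algHom_lift R B ((I ^ 1).map (algebraMap A B)) φ
  -- the henselization of `R`
  let H := Colim R (I.map (algebraMap A R))
  let _ : Algebra A H := ((algebraMap R H).comp (algebraMap A R)).toAlgebra
  have hstH : IsScalarTower A R H := IsScalarTower.of_algebraMap_eq (fun _ => rfl)
  have hH : Hens2.IsPairHenselization R (I.map (algebraMap A R)) H := colim_isPairHenselization _ _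
  have hleρ : (I.map (algebraMap A R)).map (ρ : R →+* B) ≤ I.map (algebraMap A B) := by
    rw [Ideal.map_map]
    have : (ρ : R →+* B).comp (algebraMap A R) = algebraMap A B := by
      ext a
      exact ρ.commutes a
    rw [this]
  obtain ⟨ψ₀, hψ₀, -⟩ := hH.2 B (I.map (algebraMap A B)) (ρ : R →+* B) hBh hleρ
  have hψ₀' : ∀ x, ψ₀ (algebraMap R H x) = ρ x := fun x => congrArg (fun g => g x) hψ₀
  let ψ : H →ₐ[A] B :=
    { ψ₀ with
      commutes' := by
        intro a
        change ψ₀ (algebraMap R H (algebraMap A R a)) = _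
        rw [hψ₀', AlgHom.commutes] }
  let _ : Algebra H B := ψ₀.toAlgebra
  have hstB : IsScalarTower A H B := IsScalarTower.of_algebraMap_eq (fun a => (ψ.commutes a).symm)
  have hRfp : Algebra.FinitePresentation A R := inferInstance
  obtain ⟨T, _, _, _, hstT, hTfp, hT⟩ := hfp_of_algHom A I R H hH R₀ B hB
  have hHh : HenselianRing H (I.map (algebraMap A H)) := by
    have := hH.1
    rwa [Ideal.map_map, ← IsScalarTower.algebraMap_eq] at this
  have hIHB : (I.map (algebraMap A H)).map (algebraMap H B) = I.map (algebraMap A B) := by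
    rw [Ideal.map_map, ← IsScalarTower.algebraMap_eq]
  -- surjectivity
  have hmod : ∀ b : B, ∃ h : H, b - algebraMap H B h ∈
      (I.map (algebraMap A H)).map (algebraMap H B) := by
    intro b
    obtain ⟨x, hx⟩ := hφs (Ideal.Quotient.mk _ b)
    refine ⟨algebraMap R H x, ?_⟩
    rw [hIHB]
    change b - ψ₀ (algebraMap R H x) ∈ _
    rw [hψ₀', ← hI1, ← Ideal.Quotient.eq, hρ, hx]
  have hsurj : Function.Surjective (algebraMap H B) :=
    surjective_of_surjective_mod H (I.map (algebraMap A H)) T B hT hmod
  have hfg : (RingHom.ker (algebraMap H B)).FG :=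
    ker_fg_of_surjective (I.map (algebraMap A H)) T B hT hsurj
  have hker : RingHom.ker ψ = RingHom.ker (algebraMap H B) := by
    ext x
    rw [RingHom.mem_ker, RingHom.mem_ker]
    rfl
  -- the kernel is contained in `IH`
  have hk1 : RingHom.ker (ψ : H →+* B) ≤ I.map (algebraMap A H) := by
    intro h hh
    rw [RingHom.mem_ker] at hh
    obtain ⟨x, hx⟩ := (bij_iff.1 (quotientMap_bijective hH)).2 h
    rw [Ideal.map_map, ← IsScalarTower.algebraMap_eq] at hx
    have h1 : ρ x ∈ I.map (algebraMap A B) := by
      have h2 : ψ₀ (h - algebraMap R H x) ∈ (I.map (algebraMap A H)).map (algebraMap H B) :=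
        Ideal.mem_map_of_mem _ hx
      rw [hIHB, map_sub, hψ₀'] at h2
      have h3 : ψ₀ h = 0 := hh
      rw [h3, zero_sub] at h2
      simpa using neg_mem h2
    have h4 : x ∈ RingHom.ker φ := by
      rw [RingHom.mem_ker, ← hρ, Ideal.Quotient.eq_zero_iff_mem, hI1]
      exact h1
    rw [hφk, hI1] at h4
    have h5 : algebraMap R H x ∈ I.map (algebraMap A H) := by
      rw [IsScalarTower.algebraMap_eq A R H, ← Ideal.map_map]
      exact Ideal.mem_map_of_mem _ h4
    have : h = (h - algebraMap R H x) + algebraMap R H x := by ring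
    rw [this]
    exact add_mem hx h5
  refine ⟨R, inferInstance, inferInstance, H, inferInstance, inferInstance, inferInstance, hstH,
    hRet, hH, ψ, hsurj, ?_, ?_⟩
  · rw [hker]
    exact hfg
  · intro n
    rcases Nat.eq_zero_or_pos n with rfl | hn
    · rw [pow_zero, Ideal.one_eq_top, Ideal.map_top]
      exact le_top
    · have e1 : Algebra.Etale (A ⧸ I ^ n) (H ⧸ (I ^ n).map (algebraMap A H)) :=
        etale_quotient_pow A I R H hH n
      have e2 := het n hn
      have := ker_le_pow I ψ hsurj n hk1 hn
      intro x hx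
      exact this hx

end Groth.Agent.Helper26.PH
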