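import Mathlib
import Groth.Prelude.Def_Hens2
import Groth.Agent.Lib.Helper26.PHEtLift

/-!
# flat henselian finitely presented algebras with étale truncations are h-étale (helper26)
-/

set_option autoImplicit false

namespace Groth.Agent.Helper26.PH

universe u

/-- a surjection of flat algebras with finitely generated kernel inside `IH ⊆ rad H` is injective -/
theorem ker_eq_bot_of_flat {A : Type u} [CommRing A] (I : Ideal A) {H B : Type u} [CommRing H]
    [CommRing B] [Algebra A H] [Algebra A B] [Module.Flat A B] (ψ : H →ₐ[A] B)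
    (hψ : Function.Surjective ψ) (hfg : (RingHom.ker ψ).FG)
    (hle : RingHom.ker ψ ≤ I.map (algebraMap A H))
    (hjac : I.map (algebraMap A H) ≤ Ideal.jacobson ⊥) : RingHom.ker ψ = ⊥ := by
  have key := LinearMap.ker_inf_smul_top_eq_smul_of_flat I ψ.toLinearMap hψ
  have hsub : ∀ x, x ∈ RingHom.ker ψ → x ∈ (I.map (algebraMap A H)) • (RingHom.ker ψ) := by
    intro x hx
    have hx0 : ψ x = 0 := hx
    have h1 : x ∈ I • LinearMap.ker ψ.toLinearMap := by
      rw [← key]
      refine ⟨?_, ?_⟩
      · exact hx0
      · rw [Ideal.smul_top_eq_map]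
        exact hle hx
    refine Submodule.smul_induction_on h1 ?_ ?_
    · intro a ha k hk
      have hak : a • k = algebraMap A H a • k := by
        rw [smul_eq_mul, Algebra.smul_def]
      rw [hak]
      have hk0 : ψ k = 0 := hk
      have hk1 : k ∈ RingHom.ker ψ := hk0
      exact Submodule.smul_mem_smul (Ideal.mem_map_of_mem (algebraMap A H) ha) hk1
    · intro y z hy hz
      exact add_mem hy hz
  exact Submodule.eq_bot_of_le_smul_of_le_jacobson_bot (I.map (algebraMap A H)) _ hfg hsub hjac

theorem exists_etale_of_flat (A : Type u) [CommRing A] (I : Ideal A)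
    [HenselianRing A I] (R₀ : Type u) [CommRing R₀] [Algebra A R₀] [Algebra.FinitePresentation A R₀]
    (B : Type u) [CommRing B] [Algebra R₀ B] [Algebra A B] [IsScalarTower A R₀ B]
    (hB : Hens2.IsPairHenselization R₀ (I.map (algebraMap A R₀)) B) [Module.Flat A B]
    (het : ∀ r : ℕ, 1 ≤ r → Algebra.Etale (A ⧸ I ^ r) (B ⧸ (I ^ r).map (algebraMap A B))) :
    ∃ (R : Type u) (_ : CommRing R) (_ : Algebra A R) (_ : Algebra R B) (_ : IsScalarTower A R B),
      Algebra.Etale A R ∧ Hens2.IsPairHenselization R (I.map (algebraMap A R)) B := by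
  obtain ⟨R, _, _, H, _, _, _, hst, hRet, hH, ψ, hψ, hfg, hk⟩ :=
    exists_etale_surjection A I R₀ B hB het
  have hHh : HenselianRing H (I.map (algebraMap A H)) := by
    have := hH.1
    rwa [Ideal.map_map, ← IsScalarTower.algebraMap_eq] at this
  have hk1 : RingHom.ker ψ ≤ I.map (algebraMap A H) := by
    have := hk 1
    rwa [pow_one] at this
  have hbot : RingHom.ker ψ = ⊥ := ker_eq_bot_of_flat I ψ hψ hfg hk1 hHh.jac
  have hinj : Function.Injective ψ := (RingHom.injective_iff_ker_eq_bot _).2 hbot
  let _ : Algebra R B := ((ψ : H →+* B).comp (algebraMap R H)).toAlgebra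
  have hstB : IsScalarTower A R B := by
    refine IsScalarTower.of_algebraMap_eq (fun a => ?_)
    change _ = ψ (algebraMap R H (algebraMap A R a))
    rw [← IsScalarTower.algebraMap_apply A R H, AlgHom.commutes]
  let ψR : H →ₐ[R] B := { (ψ : H →+* B) with commutes' := fun _ => rfl }
  let e : H ≃ₐ[R] B := AlgEquiv.ofBijective ψR ⟨hinj, hψ⟩
  exact ⟨R, inferInstance, inferInstance, inferInstance, hstB, hRet,
    isPairHenselization_of_algEquiv hH e⟩

end Groth.Agent.Helper26.PH
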