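import Mathlib
import Groth.Prelude.Def_Hens2
import Groth.Agent.Lib.Helper26.PHMore
import Groth.Agent.Lib.Helper26.PHLift

/-!
# Exactness can be tested on the henselized stalks along `V(I)` (helper26)
-/

set_option autoImplicit false

open TensorProduct

namespace Groth.Agent.Helper26.PH

universe u

/-- the maximal ideal does not generate the unit ideal in a henselization of the local ring -/
theorem map_maximal_ne_top (A : Type u) [CommRing A] (I : Ideal A) (𝔪 : Ideal A) [𝔪.IsMaximal]
    (hI : I ≤ 𝔪) (H : Type u) [CommRing H] [Algebra (Localization.AtPrime 𝔪) H] [Algebra A H]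
    [IsScalarTower A (Localization.AtPrime 𝔪) H]
    (hH : Hens2.IsPairHenselization (Localization.AtPrime 𝔪)
      (I.map (algebraMap A (Localization.AtPrime 𝔪))) H) :
    𝔪.map (algebraMap A H) ≠ ⊤ := by
  intro htop
  let κ := IsLocalRing.ResidueField (Localization.AtPrime 𝔪)
  have hbot : HenselianRing κ ⊥ := henselianRing_bot κ
  have hm : ∀ a ∈ 𝔪, IsLocalRing.residue (Localization.AtPrime 𝔪)
      (algebraMap A (Localization.AtPrime 𝔪) a) = 0 := by
    intro a ha
    rw [IsLocalRing.residue_eq_zero_iff, ← Localization.AtPrime.map_eq_maximalIdeal]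
    exact Ideal.mem_map_of_mem _ ha
  have hle : (I.map (algebraMap A (Localization.AtPrime 𝔪))).map
      (IsLocalRing.residue (Localization.AtPrime 𝔪)) ≤ ⊥ := by
    rw [Ideal.map_map, Ideal.map_le_iff_le_comap]
    intro a ha
    rw [Ideal.mem_comap, Ideal.mem_bot]
    exact hm a (hI ha)
  obtain ⟨g, hg, -⟩ := hH.2 κ ⊥ (IsLocalRing.residue (Localization.AtPrime 𝔪)) hbot hle
  have h1 : 𝔪.map (algebraMap A H) ≤ RingHom.ker g := by
    rw [Ideal.map_le_iff_le_comap]
    intro a ha
    rw [Ideal.mem_comap, RingHom.mem_ker, IsScalarTower.algebraMap_apply A (Localization.AtPrime 𝔪) H]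
    have := congrArg (fun k => k (algebraMap A (Localization.AtPrime 𝔪) a)) hg
    exact this.trans (hm a ha)
  rw [htop, top_le_iff] at h1
  exact (RingHom.ker_ne_top g) h1

theorem exact_iff_stalks (A : Type u) [CommRing A] (I : Ideal A) [HenselianRing A I]
    (M' M M'' : Type u) [AddCommGroup M'] [Module A M'] [AddCommGroup M] [Module A M]
    [AddCommGroup M''] [Module A M''] (f : M' →ₗ[A] M) (g : M →ₗ[A] M'') (hfg : g.comp f = 0) :
    Function.Exact f g ↔
    ∀ (p : Ideal A) [p.IsPrime], I ≤ p →
      ∀ (H : Type u) [CommRing H] [Algebra (Localization.AtPrime p) H] [Algebra A H]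
        [IsScalarTower A (Localization.AtPrime p) H],
        Hens2.IsPairHenselization (Localization.AtPrime p)
          (I.map (algebraMap A (Localization.AtPrime p))) H →
        Function.Exact (f.baseChange H) (g.baseChange H) := by
  constructor
  · intro hex p _ _ H _ _ _ _ hH
    have h1 : Module.Flat (Localization.AtPrime p) H := flat hH
    have h2 : Module.Flat A (Localization.AtPrime p) := IsLocalization.flat _ p.primeCompl
    have h3 : Module.Flat A H := Module.Flat.trans A (Localization.AtPrime p) H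
    have := Module.Flat.lTensor_exact H hex
    intro y
    rw [LinearMap.baseChange_eq_ltensor, LinearMap.baseChange_eq_ltensor]
    exact this y
  · intro h
    rw [LinearMap.exact_iff]
    apply le_antisymm
    swap
    · rintro _ ⟨x, rfl⟩
      exact congrArg (fun k => k x) hfg
    intro m₀ hm₀
    rw [LinearMap.mem_ker] at hm₀
    let 𝔞 : Ideal A := (LinearMap.range f).comap (LinearMap.toSpanSingleton A M m₀)
    have h𝔞 : ∀ a, a ∈ 𝔞 ↔ a • m₀ ∈ LinearMap.range f := fun a => Iff.rfl
    by_contra hcon
    have hne : 𝔞 ≠ ⊤ := by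
      intro htop
      apply hcon
      have : (1 : A) ∈ 𝔞 := by rw [htop]; trivial
      rw [h𝔞, one_smul] at this
      exact this
    obtain ⟨𝔪, h𝔪, hle⟩ := Ideal.exists_le_maximal 𝔞 hne
    have hI𝔪 : I ≤ 𝔪 := by
      refine (HenselianRing.jac (R := A) (I := I)).trans ?_
      exact sInf_le ⟨bot_le, h𝔪⟩
    let H := Colim (Localization.AtPrime 𝔪) (I.map (algebraMap A (Localization.AtPrime 𝔪)))
    let _ : Algebra A H :=
      ((algebraMap (Localization.AtPrime 𝔪) H).comp (algebraMap A (Localization.AtPrime 𝔪))).toAlgebra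
    have hst : IsScalarTower A (Localization.AtPrime 𝔪) H :=
      IsScalarTower.of_algebraMap_eq (fun _ => rfl)
    have hH : Hens2.IsPairHenselization (Localization.AtPrime 𝔪)
        (I.map (algebraMap A (Localization.AtPrime 𝔪))) H := colim_isPairHenselization _ _
    have hex := h 𝔪 hI𝔪 H hH
    have h1 : Module.Flat (Localization.AtPrime 𝔪) H := flat hH
    have h2 : Module.Flat A (Localization.AtPrime 𝔪) := IsLocalization.flat _ 𝔪.primeCompl
    have h3 : Module.Flat A H := Module.Flat.trans A (Localization.AtPrime 𝔪) H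
    -- `1 ⊗ m₀` is in the image
    have hk : g.baseChange H ((1 : H) ⊗ₜ[A] m₀) = 0 := by
      rw [LinearMap.baseChange_tmul, hm₀, tmul_zero]
    obtain ⟨ξ, hξ⟩ := (hex _).1 hk
    -- the quotient
    let N := M ⧸ LinearMap.range f
    let π : M →ₗ[A] N := (LinearMap.range f).mkQ
    have hπf : π.comp f = 0 := by
      ext x
      exact (Submodule.Quotient.mk_eq_zero _).2 ⟨x, rfl⟩
    have h0 : (1 : H) ⊗ₜ[A] π m₀ = 0 := by
      have : π.baseChange H ((1 : H) ⊗ₜ[A] m₀) = 0 := by
        rw [← hξ, ← LinearMap.comp_apply, ← LinearMap.baseChange_comp, hπf,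
          LinearMap.baseChange_zero, LinearMap.zero_apply]
      rwa [LinearMap.baseChange_tmul] at this
    let ι : (A ⧸ 𝔞) →ₗ[A] N :=
      Submodule.liftQ 𝔞 (LinearMap.toSpanSingleton A N (π m₀)) (by
        intro a ha
        rw [LinearMap.mem_ker, LinearMap.toSpanSingleton_apply, ← map_smul]
        exact (Submodule.Quotient.mk_eq_zero _).2 ((h𝔞 a).1 ha))
    have hι : Function.Injective ι := by
      rw [← LinearMap.ker_eq_bot, Submodule.ker_liftQ_eq_bot']
      apply le_antisymm
      · intro a ha
        rw [LinearMap.mem_ker, LinearMap.toSpanSingleton_apply, ← map_smul]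
        exact (Submodule.Quotient.mk_eq_zero _).2 ((h𝔞 a).1 ha)
      · intro a ha
        rw [LinearMap.mem_ker, LinearMap.toSpanSingleton_apply, ← map_smul] at ha
        exact (h𝔞 a).2 ((Submodule.Quotient.mk_eq_zero _).1 ha)
    have hιH : Function.Injective (ι.lTensor H) :=
      Module.Flat.lTensor_preserves_injective_linearMap ι hι
    have h4 : (1 : H) ⊗ₜ[A] (1 : A ⧸ 𝔞) = 0 := by
      apply hιH
      rw [LinearMap.lTensor_tmul, map_zero]
      have : ι 1 = π m₀ := by
        change ι (Submodule.Quotient.mk 1) = _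
        rw [Submodule.liftQ_apply, LinearMap.toSpanSingleton_apply, one_smul]
      rw [this, h0]
    have h5 : (1 : H) ∈ 𝔞.map (algebraMap A H) := by
      have := congrArg (TensorProduct.tensorQuotEquivQuotSMul H 𝔞) h4
      rw [map_zero, ← map_one (Ideal.Quotient.mk 𝔞), TensorProduct.tensorQuotEquivQuotSMul_tmul_mk,
        one_smul, Submodule.Quotient.mk_eq_zero, Ideal.smul_top_eq_map] at this
      exact this
    have h6 : 𝔞.map (algebraMap A H) ≤ 𝔪.map (algebraMap A H) := Ideal.map_mono hle
    exact map_maximal_ne_top A I 𝔪 hI𝔪 H hH ((Ideal.eq_top_iff_one _).2 (h6 h5))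

end Groth.Agent.Helper26.PH
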