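import Mathlib
import Groth.Prelude.Def_Hens2
import Groth.Agent.Lib.Helper26.PHFormal
import Groth.Agent.Lib.Helper26.PHPow

/-!
# h-formally étale / smooth maps and truncations (helper26)
-/

set_option autoImplicit false

open TensorProduct

namespace Groth.Agent.Helper26.PH

universe u

theorem fp_quotient_pow (A : Type u) [CommRing A] (I : Ideal A)
    (R : Type u) [CommRing R] [Algebra A R] [Algebra.FinitePresentation A R]
    (B : Type u) [CommRing B] [Algebra R B] [Algebra A B] [IsScalarTower A R B]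
    (hB : Hens2.IsPairHenselization R (I.map (algebraMap A R)) B) (r : ℕ) :
    Algebra.FinitePresentation (A ⧸ I ^ r) (B ⧸ (I ^ r).map (algebraMap A B)) := by
  obtain ⟨e⟩ := nonempty_algEquiv_quotient_pow A I R B hB r
  have h1 : Algebra.FinitePresentation (A ⧸ I ^ r) ((A ⧸ I ^ r) ⊗[A] R) := inferInstance
  have h2 : Algebra.FinitePresentation (A ⧸ I ^ r) (R ⧸ (I ^ r).map (algebraMap A R)) :=
    Algebra.FinitePresentation.equiv
      (Algebra.TensorProduct.quotIdealMapEquivQuotTensor R (I ^ r)).symm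
  exact Algebra.FinitePresentation.equiv e

theorem map_quotient_eq_bot {A : Type u} [CommRing A] (J : Ideal A) {E : Type u} [CommRing E]
    [Algebra A E] (K : Ideal E) (hE : J.map (algebraMap A E) = ⊥) :
    J.map (algebraMap A (E ⧸ K)) = ⊥ := by
  rw [IsScalarTower.algebraMap_eq A E (E ⧸ K), ← Ideal.map_map, hE, Ideal.map_bot]

theorem ker_mkₐ' {A : Type u} [CommRing A] {E : Type u} [CommRing E] [Algebra A E] (K : Ideal E) :
    RingHom.ker (Ideal.Quotient.mkₐ A K) = K := by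
  ext x
  rw [RingHom.mem_ker]
  exact Ideal.Quotient.eq_zero_iff_mem

theorem hFormallyEtale_iff (A : Type u) [CommRing A] (I : Ideal A)
    (R₀ : Type u) [CommRing R₀] [Algebra A R₀] [Algebra.FinitePresentation A R₀]
    (B : Type u) [CommRing B] [Algebra R₀ B] [Algebra A B] [IsScalarTower A R₀ B]
    (hB : Hens2.IsPairHenselization R₀ (I.map (algebraMap A R₀)) B) :
    (∀ (E C : Type u) [CommRing E] [CommRing C] [Algebra A E] [Algebra A C] (N : ℕ), 1 ≤ N →
        (I ^ N).map (algebraMap A E) = ⊥ → (I ^ N).map (algebraMap A C) = ⊥ →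
        ∀ (p : E →ₐ[A] C), Function.Surjective p → (∃ M : ℕ, 1 ≤ M ∧ RingHom.ker p ^ M = ⊥) →
        ∀ u : B →ₐ[A] C, ∃! v : B →ₐ[A] E, p.comp v = u) ↔
    ∀ r : ℕ, 1 ≤ r → Algebra.Etale (A ⧸ I ^ r) (B ⧸ (I ^ r).map (algebraMap A B)) := by
  constructor
  · intro H r hr
    have hfp := fp_quotient_pow A I R₀ B hB r
    have hker : ∀ (E : Type u) [CommRing E] [Algebra A E] (K : Ideal E), K ^ 2 = ⊥ →
        ∃ M : ℕ, 1 ≤ M ∧ RingHom.ker (Ideal.Quotient.mkₐ A K) ^ M = ⊥ := by
      intro E _ _ K hK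
      refine ⟨2, by norm_num, ?_⟩
      rw [ker_mkₐ']
      exact hK
    have hsm : Algebra.FormallySmooth (A ⧸ I ^ r) (B ⧸ (I ^ r).map (algebraMap A B)) := by
      refine PHFormal.formallySmooth_of_hlift ?_
      intro E _ _ K hE hK u
      obtain ⟨v, hv, -⟩ := H E (E ⧸ K) r hr hE (map_quotient_eq_bot _ K hE)
        (Ideal.Quotient.mkₐ A K) (Ideal.Quotient.mkₐ_surjective A K) (hker E K hK) u
      exact ⟨v, hv⟩
    have hun : Algebra.FormallyUnramified (A ⧸ I ^ r) (B ⧸ (I ^ r).map (algebraMap A B)) := by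
      refine PHFormal.formallyUnramified_of_hlift_unique ?_
      intro E _ _ K hE hK v₁ v₂ h
      obtain ⟨v, -, hv⟩ := H E (E ⧸ K) r hr hE (map_quotient_eq_bot _ K hE)
        (Ideal.Quotient.mkₐ A K) (Ideal.Quotient.mkₐ_surjective A K) (hker E K hK)
        ((Ideal.Quotient.mkₐ A K).comp v₁)
      exact (hv v₁ rfl).trans (hv v₂ h.symm).symm
    have : Algebra.FormallyEtale (A ⧸ I ^ r) (B ⧸ (I ^ r).map (algebraMap A B)) :=
      Algebra.FormallyEtale.of_formallyUnramified_and_formallySmooth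
    exact ⟨this, hfp⟩
  · intro H E C _ _ _ _ N hN hE hC p hp hM u
    obtain ⟨M, -, hker⟩ := hM
    have := H N hN
    have hnil : IsNilpotent (RingHom.ker (p : E →+* C)) := ⟨M, hker⟩
    obtain ⟨v, hv⟩ := PHFormal.exists_lift_of_formallySmooth hE hC p hp hnil u
    exact ⟨v, hv, fun v' hv' =>
      PHFormal.lift_unique_of_formallyUnramified hE p hnil v' v (hv'.trans hv.symm)⟩

theorem hFormallySmooth_iff (A : Type u) [CommRing A] (I : Ideal A)
    (R₀ : Type u) [CommRing R₀] [Algebra A R₀] [Algebra.FinitePresentation A R₀]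
    (B : Type u) [CommRing B] [Algebra R₀ B] [Algebra A B] [IsScalarTower A R₀ B]
    (hB : Hens2.IsPairHenselization R₀ (I.map (algebraMap A R₀)) B) :
    (∀ (E C : Type u) [CommRing E] [CommRing C] [Algebra A E] [Algebra A C] (N : ℕ), 1 ≤ N →
        (I ^ N).map (algebraMap A E) = ⊥ → (I ^ N).map (algebraMap A C) = ⊥ →
        ∀ (p : E →ₐ[A] C), Function.Surjective p → (∃ M : ℕ, 1 ≤ M ∧ RingHom.ker p ^ M = ⊥) →
        ∀ u : B →ₐ[A] C, ∃ v : B →ₐ[A] E, p.comp v = u) ↔
    ∀ r : ℕ, 1 ≤ r → Algebra.Smooth (A ⧸ I ^ r) (B ⧸ (I ^ r).map (algebraMap A B)) := by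
  constructor
  · intro H r hr
    have hfp := fp_quotient_pow A I R₀ B hB r
    have hsm : Algebra.FormallySmooth (A ⧸ I ^ r) (B ⧸ (I ^ r).map (algebraMap A B)) := by
      refine PHFormal.formallySmooth_of_hlift ?_
      intro E _ _ K hE hK u
      refine H E (E ⧸ K) r hr hE (map_quotient_eq_bot _ K hE)
        (Ideal.Quotient.mkₐ A K) (Ideal.Quotient.mkₐ_surjective A K) ⟨2, by norm_num, ?_⟩ u
      rw [ker_mkₐ']
      exact hK
    exact ⟨hsm, hfp⟩
  · intro H E C _ _ _ _ N hN hE hC p hp hM u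
    obtain ⟨M, -, hker⟩ := hM
    have := H N hN
    have hnil : IsNilpotent (RingHom.ker (p : E →+* C)) := ⟨M, hker⟩
    exact PHFormal.exists_lift_of_formallySmooth hE hC p hp hnil u

end Groth.Agent.Helper26.PH
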