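import Mathlib
import Groth.Prelude.Def_Hens2
import Groth.Agent.Lib.Helper26.PHQuick1
import Groth.Agent.Lib.Helper26.AdicIso
import Groth.Agent.Lib.Helper1.AdicNoeth

/-!
# The henselization of a Noetherian pair is Noetherian (helper26)
-/

set_option autoImplicit false
set_option linter.unusedSectionVars false
set_option linter.style.haveILetI false

open TensorProduct

namespace Groth.Agent.Helper26.PH

universe u

attribute [local instance] Algebra.TensorProduct.rightAlgebra

section
variable (A : Type u) [CommRing A] [IsNoetherianRing A] (I : Ideal A)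
    (B : Type u) [CommRing B] [Algebra A B] (hB : Hens2.IsPairHenselization A I B)

include hB in
theorem adicCompletion_map_bijective :
    Function.Bijective (AdicCompletion.map I (Algebra.linearMap A B) :
        AdicCompletion I A → AdicCompletion I B) := by
  apply Groth.Agent.Helper26.AdicIso.map_bijective
  · intro n a ha
    rw [Ideal.smul_top_eq_map] at ha
    have := pow_inj hB n a ha
    simpa using this
  · intro n b
    obtain ⟨x, hx⟩ := pow_surj hB n b
    refine ⟨x, ?_⟩
    rw [Ideal.smul_top_eq_map]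
    exact hx

include hB in
theorem exists_faithfullyFlat_noetherian :
    ∃ (T : Type u) (_ : CommRing T) (_ : IsNoetherianRing T) (_ : Algebra B T),
      Module.FaithfullyFlat B T := by
  let T := AdicCompletion I A
  have hIfg : I.FG := IsNoetherian.noetherian I
  haveI hTn : IsNoetherianRing T :=
    Groth.Agent.Helper1.isNoetherianRing_adicCompletion_of_fg A I hIfg
  haveI hTc : IsAdicComplete (I.map (algebraMap A T)) T :=
    AdicCompletion.isAdicComplete_self I hIfg
  have hTh : HenselianRing T (I.map (algebraMap A T)) := inferInstance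
  haveI : Module.Flat A T := inferInstance
  obtain ⟨ψ, hψ, -⟩ := hB.2 T (I.map (algebraMap A T)) (algebraMap A T) hTh le_rfl
  let ψA : B →ₐ[A] T := { ψ with commutes' := fun a => congrArg (fun g => g a) hψ }
  let γ : B ⊗[A] T →ₐ[A] T := Algebra.TensorProduct.productMap ψA (AlgHom.id A T)
  letI : Algebra (B ⊗[A] T) T := γ.toRingHom.toAlgebra
  have hγ1 : ∀ t : T, algebraMap T T t = algebraMap (B ⊗[A] T) T (algebraMap T (B ⊗[A] T) t) := by
    intro t
    change t = γ (1 ⊗ₜ t)
    rw [Algebra.TensorProduct.productMap_right_apply]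
    rfl
  haveI : IsScalarTower T (B ⊗[A] T) T := IsScalarTower.of_algebraMap_eq hγ1
  have hPO := isPO_tensor A B T
  have hC : Hens2.IsPairHenselization T (I.map (algebraMap A T)) T :=
    isPairHenselization_self _ hTh
  have hS := isPairHenselization_of_isPO_right hB hPO hC
  have hflatST : Module.Flat (B ⊗[A] T) T := flat hS
  letI : Algebra B T := ψ.toAlgebra
  have hγ2 : ∀ b : B, algebraMap B T b = algebraMap (B ⊗[A] T) T (algebraMap B (B ⊗[A] T) b) := by
    intro b
    change ψ b = γ (b ⊗ₜ 1)
    rw [Algebra.TensorProduct.productMap_left_apply]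
    rfl
  haveI : IsScalarTower B (B ⊗[A] T) T := IsScalarTower.of_algebraMap_eq hγ2
  haveI : Module.Flat B (B ⊗[A] T) := inferInstance
  haveI hflatBT : Module.Flat B T := Module.Flat.trans B (B ⊗[A] T) T
  refine ⟨T, inferInstance, hTn, inferInstance, ⟨?_⟩⟩
  intro 𝔫 h𝔫
  -- the contraction of `𝔫` to `A`
  let 𝔫' : Ideal A := 𝔫.comap (algebraMap A B)
  have hI𝔫 : I.map (algebraMap A B) ≤ 𝔫 := by
    refine hB.1.jac.trans ?_
    rw [Ideal.jacobson]
    exact sInf_le ⟨bot_le, h𝔫⟩
  have hI𝔫' : I ≤ 𝔫' := by
    intro i hi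
    exact hI𝔫 (Ideal.mem_map_of_mem _ hi)
  have h𝔫'ne : 𝔫' ≠ ⊤ := by
    intro h
    have h1 : (1 : A) ∈ 𝔫' := by rw [h]; trivial
    have h2 : algebraMap A B 1 ∈ 𝔫 := h1
    rw [map_one] at h2
    exact h𝔫.ne_top ((Ideal.eq_top_iff_one _).2 h2)
  let χ : T →+* A ⧸ 𝔫' :=
    (Ideal.Quotient.factor hI𝔫').comp (AdicCompletion.evalOneₐ I).toRingHom
  have hχalg : ∀ a : A, χ (algebraMap A T a) = Ideal.Quotient.mk 𝔫' a := by
    intro a
    change Ideal.Quotient.factor hI𝔫' ((AdicCompletion.evalOneₐ I) (algebraMap A T a)) = _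
    rw [AlgHom.commutes]
    rfl
  have hχψ : ∀ b ∈ 𝔫, χ (ψ b) = 0 := by
    intro b hb
    have hkill : I.map (algebraMap A B) ≤ RingHom.ker (χ.comp ψ) := by
      rw [Ideal.map_le_iff_le_comap]
      intro i hi
      rw [Ideal.mem_comap, RingHom.mem_ker]
      change χ (ψ (algebraMap A B i)) = 0
      have : ψ (algebraMap A B i) = algebraMap A T i := congrArg (fun g => g i) hψ
      rw [this, hχalg, Ideal.Quotient.eq_zero_iff_mem]
      exact hI𝔫' hi
    obtain ⟨a, ha⟩ := (bij_iff.1 (quotientMap_bijective hB)).2 b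
    have h1 : χ (ψ (b - algebraMap A B a)) = 0 := hkill ha
    have h2 : algebraMap A B a ∈ 𝔫 := by
      have : algebraMap A B a = b - (b - algebraMap A B a) := by ring
      rw [this]
      exact 𝔫.sub_mem hb (hI𝔫 ha)
    have h3 : χ (ψ (algebraMap A B a)) = 0 := by
      have : ψ (algebraMap A B a) = algebraMap A T a := congrArg (fun g => g a) hψ
      rw [this, hχalg, Ideal.Quotient.eq_zero_iff_mem]
      exact h2
    rw [map_sub, map_sub, h3, sub_zero] at h1
    exact h1
  intro htop
  have h1 : (1 : T) ∈ 𝔫 • (⊤ : Submodule B T) := by rw [htop]; trivial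
  have h2 : ∀ x ∈ 𝔫 • (⊤ : Submodule B T), χ x = 0 := by
    intro x hx
    refine Submodule.smul_induction_on hx (fun b hb t _ => ?_) (fun x y hx hy => ?_)
    · change χ (ψ b * t) = 0
      rw [map_mul, hχψ b hb, zero_mul]
    · rw [map_add, hx, hy, add_zero]
  have h3 := h2 1 h1
  rw [map_one] at h3
  haveI : Nontrivial (A ⧸ 𝔫') := Ideal.Quotient.nontrivial_iff.2 h𝔫'ne
  exact one_ne_zero h3

include hB in
theorem isNoetherianRing_of_isPairHenselization : IsNoetherianRing B := by
  obtain ⟨T, _, hT, _, hff⟩ := exists_faithfullyFlat_noetherian A I B hB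
  have h1 : IsNoetherian T (T ⊗[B] B) :=
    isNoetherian_of_linearEquiv (TensorProduct.AlgebraTensorModule.rid B T T).symm
  exact Submodule.IsNoetherian.of_isNoetherian_tensorProduct_of_faithfullyFlat h1

include hB in
theorem noetherian_flat_completion :
    IsNoetherianRing B ∧ Module.Flat A B ∧
      Function.Bijective (AdicCompletion.map I (Algebra.linearMap A B) :
        AdicCompletion I A → AdicCompletion I B) :=
  ⟨isNoetherianRing_of_isPairHenselization A I B hB, flat hB,
    adicCompletion_map_bijective A I B hB⟩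

end

end Groth.Agent.Helper26.PH
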