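import Mathlib
import Groth.Prelude.Def_Hens2
import Groth.Agent.Lib.Helper26.PHMore

/-!
# Strict henselization of the henselization of a pair (helper26)
-/

set_option autoImplicit false

open IsLocalRing

namespace Groth.Agent.Helper26.PH

universe u

theorem isStrictHenselization_of_pair
    (R : Type u) [CommRing R] [IsLocalRing R] (J : Ideal R) (hJ : J ≤ IsLocalRing.maximalIdeal R)
    (H : Type u) [CommRing H] [IsLocalRing H] [Algebra R H] [IsLocalHom (algebraMap R H)]
    (hH : Hens2.IsPairHenselization R J H)
    (S : Type u) [CommRing S] [IsLocalRing S] [Algebra H S] [IsLocalHom (algebraMap H S)]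
    [hS : Hensel.IsStrictHenselization H S]
    [Algebra R S] [IsScalarTower R H S] [IsLocalHom (algebraMap R S)] :
    Hensel.IsStrictHenselization R S := by
  have hJH : J.map (algebraMap R H) ≤ maximalIdeal H := by
    have := hH.1.jac
    rwa [IsLocalRing.jacobson_eq_maximalIdeal ⊥ bot_ne_top] at this
  -- every element of `H` is congruent to an element of `R` modulo `JH`
  have hsurjH : ∀ h : H, ∃ r : R, h - algebraMap R H r ∈ J.map (algebraMap R H) :=
    (bij_iff.1 (quotientMap_bijective hH)).2
  have hres : Function.Surjective (algebraMap (ResidueField R) (ResidueField H)) := by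
    intro x
    obtain ⟨h, rfl⟩ := residue_surjective x
    obtain ⟨r, hr⟩ := hsurjH h
    refine ⟨residue R r, ?_⟩
    rw [ResidueField.algebraMap_residue, eq_comm, ← sub_eq_zero, ← map_sub,
      residue_eq_zero_iff]
    exact hJH hr
  refine ⟨hS.henselian, ⟨hS.isSepClosure.sep_closed, ?_⟩, ?_⟩
  · have h1 : Algebra.IsSeparable (ResidueField R) (ResidueField H) := by
      refine ⟨fun x => ?_⟩
      obtain ⟨y, rfl⟩ := hres x
      exact isSeparable_algebraMap y
    have h2 : Algebra.IsSeparable (ResidueField H) (ResidueField S) := hS.isSepClosure.separable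
    exact Algebra.IsSeparable.trans (ResidueField R) (ResidueField H) (ResidueField S)
  · intro T _ _ f _ τ hτ
    have hle : J.map f ≤ maximalIdeal T := by
      rw [Ideal.map_le_iff_le_comap]
      intro j hj
      rw [Ideal.mem_comap, mem_maximalIdeal, mem_nonunits_iff]
      intro hu
      have : IsUnit j := (isUnit_map_iff f j).1 hu
      exact (mem_maximalIdeal j).1 (hJ hj) this
    obtain ⟨fH, hfH, hfHu⟩ := hH.2 T (maximalIdeal T) f inferInstance hle
    have hfH' : ∀ r, fH (algebraMap R H r) = f r := fun r => congrArg (fun g => g r) hfH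
    have hloc : IsLocalHom fH := by
      refine ⟨fun h hu => ?_⟩
      by_contra hh
      have hm : h ∈ maximalIdeal H := (mem_maximalIdeal h).2 hh
      obtain ⟨r, hr⟩ := hsurjH h
      have hrm : r ∈ maximalIdeal R := by
        rw [mem_maximalIdeal, mem_nonunits_iff]
        intro hru
        have h1 : algebraMap R H r ∈ maximalIdeal H := by
          have : algebraMap R H r = h - (h - algebraMap R H r) := by ring
          rw [this]
          exact sub_mem hm (hJH hr)
        exact (mem_maximalIdeal _).1 h1 (hru.map _)
      have h2 : fH (h - algebraMap R H r) ∈ maximalIdeal T := by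
        have : fH (h - algebraMap R H r) ∈ (J.map (algebraMap R H)).map fH :=
          Ideal.mem_map_of_mem _ hr
        rw [Ideal.map_map, hfH] at this
        exact hle this
      have h3 : f r ∈ maximalIdeal T := by
        rw [mem_maximalIdeal, mem_nonunits_iff]
        intro hfu
        exact (mem_maximalIdeal r).1 hrm ((isUnit_map_iff f r).1 hfu)
      have h4 : fH h ∈ maximalIdeal T := by
        have : fH h = fH (h - algebraMap R H r) + f r := by
          rw [map_sub, hfH']
          ring
        rw [this]
        exact add_mem h2 h3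
      exact (mem_maximalIdeal _).1 h4 hu
    have hτH : τ.comp (ResidueField.map (algebraMap H S)) = ResidueField.map fH := by
      apply RingHom.ext
      intro x
      obtain ⟨y, rfl⟩ := hres x
      obtain ⟨r, rfl⟩ := residue_surjective y
      have e1 := congrArg (fun g => g (residue R r)) hτ
      simp only [RingHom.comp_apply, ResidueField.map_residue] at e1
      simp only [RingHom.comp_apply, ResidueField.algebraMap_residue, ResidueField.map_residue]
      rw [hfH', ← e1, ← IsScalarTower.algebraMap_apply]
    obtain ⟨g, ⟨hg1, hg2⟩, hgu⟩ := hS.universal T fH τ hτH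
    refine ⟨g, ⟨?_, hg2⟩, ?_⟩
    · rw [IsScalarTower.algebraMap_eq R H S, ← RingHom.comp_assoc, hg1, hfH]
    · rintro g' ⟨hg'1, hg'2⟩
      apply hgu
      refine ⟨?_, hg'2⟩
      apply hfHu
      rw [RingHom.comp_assoc, ← IsScalarTower.algebraMap_eq, hg'1]

end Groth.Agent.Helper26.PH
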