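import Mathlib
import Groth.Prelude.Def_Hens2

namespace Groth.Agent.Helper26.PHens

universe u

theorem isUnit_sub_of_mem_jacobson {B : Type u} [CommRing B] {u x : B} (hu : IsUnit u)
    (hx : x ∈ Ideal.jacobson (⊥ : Ideal B)) : IsUnit (u - x) := by
  obtain ⟨v, hv⟩ := hu.exists_left_inv
  have h1 := (Ideal.mem_jacobson_bot.1 hx) (-v)
  have h2 : u - x = u * (x * -v + 1) := by
    linear_combination x * hv
  rw [h2]
  exact hu.mul h1

theorem away_map (A : Type u) [CommRing A] (I : Ideal A) (f₁ f₂ : A)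
    (h : (PrimeSpectrum.basicOpen f₂ : Set (PrimeSpectrum A)) ∩ PrimeSpectrum.zeroLocus (I : Set A) ⊆
      (PrimeSpectrum.basicOpen f₁ : Set (PrimeSpectrum A)) ∩ PrimeSpectrum.zeroLocus (I : Set A))
    (H₁ : Type u) [CommRing H₁] [Algebra (Localization.Away f₁) H₁] [Algebra A H₁]
    [IsScalarTower A (Localization.Away f₁) H₁]
    (hH₁ : Hens2.IsPairHenselization (Localization.Away f₁)
      (I.map (algebraMap A (Localization.Away f₁))) H₁)
    (H₂ : Type u) [CommRing H₂] [Algebra (Localization.Away f₂) H₂] [Algebra A H₂]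
    [IsScalarTower A (Localization.Away f₂) H₂]
    (hH₂ : Hens2.IsPairHenselization (Localization.Away f₂)
      (I.map (algebraMap A (Localization.Away f₂))) H₂) :
    Nonempty (H₁ →ₐ[A] H₂) ∧ Subsingleton (H₁ →ₐ[A] H₂) := by
  set J₂ := (I.map (algebraMap A (Localization.Away f₂))).map (algebraMap (Localization.Away f₂) H₂)
    with hJ₂
  have hJ₂eq : J₂ = I.map (algebraMap A H₂) := by
    rw [hJ₂, Ideal.map_map, ← IsScalarTower.algebraMap_eq]
  have hjac : J₂ ≤ Ideal.jacobson ⊥ := hH₂.1.jac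
  -- f₂ ∈ radical (I ⊔ span {f₁})
  have hrad : f₂ ∈ (I ⊔ Ideal.span {f₁}).radical := by
    rw [Ideal.radical_eq_sInf, Ideal.mem_sInf]
    rintro p ⟨hp, hpprime⟩
    by_contra hf₂
    have hpI : I ≤ p := le_sup_left.trans hp
    have hpf₁ : f₁ ∈ p := hp (Ideal.mem_sup_right (Ideal.subset_span rfl))
    have hmem : (⟨p, hpprime⟩ : PrimeSpectrum A) ∈
        (PrimeSpectrum.basicOpen f₂ : Set (PrimeSpectrum A)) ∩ PrimeSpectrum.zeroLocus (I : Set A) :=
      ⟨hf₂, fun x hx => hpI hx⟩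
    exact (h hmem).1 hpf₁
  obtain ⟨k, hk⟩ := hrad
  rw [Submodule.mem_sup] at hk
  obtain ⟨i, hi, y, hy, hiy⟩ := hk
  rw [Ideal.mem_span_singleton'] at hy
  obtain ⟨c, rfl⟩ := hy
  have hf₂unit : IsUnit (algebraMap A H₂ f₂) := by
    rw [IsScalarTower.algebraMap_apply A (Localization.Away f₂) H₂]
    exact (IsLocalization.Away.algebraMap_isUnit f₂).map _
  have hf₁unit : IsUnit (algebraMap A H₂ f₁) := by
    have h1 : algebraMap A H₂ c * algebraMap A H₂ f₁ = algebraMap A H₂ f₂ ^ k - algebraMap A H₂ i := by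
      rw [← map_mul, ← map_pow, ← map_sub, ← hiy]; congr 1; ring
    have h2 : IsUnit (algebraMap A H₂ f₂ ^ k - algebraMap A H₂ i) :=
      isUnit_sub_of_mem_jacobson (hf₂unit.pow k)
        (hjac (hJ₂eq ▸ Ideal.mem_map_of_mem _ hi))
    rw [← h1] at h2
    exact isUnit_of_mul_isUnit_right h2
  let ℓ : Localization.Away f₁ →+* H₂ := IsLocalization.Away.lift f₁ hf₁unit
  have hℓ : ∀ a : A, ℓ (algebraMap A (Localization.Away f₁) a) = algebraMap A H₂ a := fun a =>
    IsLocalization.Away.lift_eq f₁ hf₁unit a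
  have hle : (I.map (algebraMap A (Localization.Away f₁))).map ℓ ≤ J₂ := by
    rw [Ideal.map_map, hJ₂eq]
    have : ℓ.comp (algebraMap A (Localization.Away f₁)) = algebraMap A H₂ := RingHom.ext hℓ
    rw [this]
  obtain ⟨g, hg, hguniq⟩ := hH₁.2 H₂ J₂ ℓ hH₂.1 hle
  have hcomp : ∀ φ : H₁ →ₐ[A] H₂, φ.toRingHom.comp (algebraMap (Localization.Away f₁) H₁) = ℓ := by
    intro φ
    apply IsLocalization.ringHom_ext (Submonoid.powers f₁)
    ext a
    simp only [RingHom.coe_comp, Function.comp_apply, AlgHom.toRingHom_eq_coe, RingHom.coe_coe]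
    rw [← IsScalarTower.algebraMap_apply A (Localization.Away f₁) H₁, φ.commutes, hℓ]
  refine ⟨⟨{ g with commutes' := fun a => ?_ }⟩, ⟨fun φ ψ => ?_⟩⟩
  · have := congrArg (fun r => r (algebraMap A (Localization.Away f₁) a)) hg
    simp only [RingHom.coe_comp, Function.comp_apply, hℓ] at this
    rw [IsScalarTower.algebraMap_apply A (Localization.Away f₁) H₁]
    exact this
  · have h1 := hguniq φ.toRingHom (hcomp φ)
    have h2 := hguniq ψ.toRingHom (hcomp ψ)
    ext b
    have := congrArg (fun r => r b) (h1.trans h2.symm)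
    simpa using this

end Groth.Agent.Helper26.PHens
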