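import Mathlib
import Groth.Prelude.Def_Hens2
import Groth.Agent.Lib.Helper26.PHMore

/-!
# Henselian finitely presented algebras: the two descriptions (helper26)
-/

set_option autoImplicit false

open TensorProduct Polynomial

namespace Groth.Agent.Helper26.PH

universe u

variable {A : Type u} [CommRing A] (I : Ideal A)

/-- (ii) ⇒ (i) -/
theorem hfp_of_isPairHenselization (B : Type u) [CommRing B] [Algebra A B]
    (R : Type u) [CommRing R] [Algebra A R] [Algebra R B] [IsScalarTower A R B]
    [Algebra.FinitePresentation A R]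
    (hB : Hens2.IsPairHenselization R (I.map (algebraMap A R)) B) :
    ∃ (n : ℕ) (P : Type u) (_ : CommRing P) (_ : Algebra (MvPolynomial (Fin n) A) P)
      (_ : Algebra A P) (_ : IsScalarTower A (MvPolynomial (Fin n) A) P),
      Hens2.IsPairHenselization (MvPolynomial (Fin n) A)
        (I.map (algebraMap A (MvPolynomial (Fin n) A))) P ∧
      ∃ φ : P →ₐ[A] B, Function.Surjective φ ∧ (RingHom.ker φ).FG := by
  obtain ⟨n, f, hf, hker⟩ := Algebra.FinitePresentation.out (R := A) (A := R)
  let Q := MvPolynomial (Fin n) A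
  let JQ : Ideal Q := I.map (algebraMap A Q)
  let P := Colim Q JQ
  let _ : Algebra A P := ((algebraMap Q P).comp (algebraMap A Q)).toAlgebra
  have hst : IsScalarTower A Q P := IsScalarTower.of_algebraMap_eq (fun _ => rfl)
  have hP : Hens2.IsPairHenselization Q JQ P := colim_isPairHenselization Q JQ
  refine ⟨n, P, inferInstance, inferInstance, inferInstance, hst, hP, ?_⟩
  let 𝔞 : Ideal Q := RingHom.ker f.toRingHom
  let e : (Q ⧸ 𝔞) ≃+* R := RingHom.quotientKerEquivOfSurjective (f := f.toRingHom) hf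
  have he : ∀ q : Q, e (Ideal.Quotient.mk 𝔞 q) = f q := fun q => rfl
  have hQ := isPairHenselization_quotient hP 𝔞
  let P' := P ⧸ 𝔞.map (algebraMap Q P)
  let _ : Algebra R P' :=
    ((algebraMap (Q ⧸ 𝔞) P').comp (e.symm : R →+* Q ⧸ 𝔞)).toAlgebra
  have hR : Hens2.IsPairHenselization R (I.map (algebraMap A R)) P' := by
    refine isPairHenselization_of_ringEquiv e.symm (fun r => rfl) ?_ hQ
    have h1 : ((e.symm : R →+* Q ⧸ 𝔞).comp (algebraMap A R)) =
        (Ideal.Quotient.mk 𝔞).comp (algebraMap A Q) := by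
      apply RingHom.ext
      intro a
      change e.symm (algebraMap A R a) = Ideal.Quotient.mk 𝔞 (algebraMap A Q a)
      rw [RingEquiv.symm_apply_eq, he, AlgHom.commutes]
    rw [Ideal.map_map, h1, ← Ideal.map_map]
  obtain ⟨ε⟩ := nonempty_algEquiv hR hB
  let φ₀ : P →+* B := (ε : P' →+* B).comp (Ideal.Quotient.mk (𝔞.map (algebraMap Q P)))
  have hφ₀ : ∀ a : A, φ₀ (algebraMap A P a) = algebraMap A B a := by
    intro a
    change ε (Ideal.Quotient.mk _ (algebraMap Q P (algebraMap A Q a))) = _
    have h2 : Ideal.Quotient.mk (𝔞.map (algebraMap Q P)) (algebraMap Q P (algebraMap A Q a)) =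
        algebraMap R P' (algebraMap A R a) := by
      change _ = algebraMap (Q ⧸ 𝔞) P' (e.symm (algebraMap A R a))
      have : e.symm (algebraMap A R a) = Ideal.Quotient.mk 𝔞 (algebraMap A Q a) := by
        rw [RingEquiv.symm_apply_eq, he, AlgHom.commutes]
      rw [this]
      rfl
    rw [h2, AlgEquiv.commutes, ← IsScalarTower.algebraMap_apply]
  let φ : P →ₐ[A] B := { φ₀ with commutes' := hφ₀ }
  refine ⟨φ, ?_, ?_⟩
  · exact ε.surjective.comp Ideal.Quotient.mk_surjective
  · have hk : RingHom.ker φ = 𝔞.map (algebraMap Q P) := by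
      ext p
      rw [RingHom.mem_ker]
      change ε (Ideal.Quotient.mk _ p) = 0 ↔ _
      rw [map_eq_zero_iff ε ε.injective, Ideal.Quotient.eq_zero_iff_mem]
    rw [hk]
    exact hker.map _

/-- (i) ⇒ (ii) -/
theorem isPairHenselization_of_hfp (B : Type u) [CommRing B] [Algebra A B]
    (n : ℕ) (P : Type u) [CommRing P] [Algebra (MvPolynomial (Fin n) A) P]
    [Algebra A P] [IsScalarTower A (MvPolynomial (Fin n) A) P]
    (hP : Hens2.IsPairHenselization (MvPolynomial (Fin n) A)
      (I.map (algebraMap A (MvPolynomial (Fin n) A))) P)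
    (φ : P →ₐ[A] B) (hφ : Function.Surjective φ) (hker : (RingHom.ker φ).FG) :
    ∃ (R : Type u) (_ : CommRing R) (_ : Algebra A R) (_ : Algebra R B) (_ : IsScalarTower A R B),
      Algebra.FinitePresentation A R ∧
        Hens2.IsPairHenselization R (I.map (algebraMap A R)) B := by
  classical
  let Q := MvPolynomial (Fin n) A
  let JQ : Ideal Q := I.map (algebraMap A Q)
  obtain ⟨s, hs⟩ := hker
  obtain ⟨m, b, hb⟩ : ∃ (m : ℕ) (b : Fin m → P), Set.range b = (s : Set P) := by
    refine ⟨s.card, fun l => (s.equivFin.symm l : P), ?_⟩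
    ext p
    constructor
    · rintro ⟨l, rfl⟩
      exact (s.equivFin.symm l).2
    · intro hp
      exact ⟨s.equivFin ⟨p, hp⟩, by simp⟩
  obtain ⟨R', _, _, hN, σ, x, hx⟩ := exists_nbhd_rep_fin hP m b
  -- algebra structures on `R'`
  let _ : Algebra A R' := ((algebraMap Q R').comp (algebraMap A Q)).toAlgebra
  have hstR' : IsScalarTower A Q R' := IsScalarTower.of_algebraMap_eq (fun _ => rfl)
  let _ : Algebra R' P := σ.toRingHom.toAlgebra
  have hstP : IsScalarTower Q R' P :=
    IsScalarTower.of_algebraMap_eq (fun q => (σ.commutes q).symm)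
  have hstAP : IsScalarTower A R' P := by
    refine IsScalarTower.of_algebraMap_eq (fun a => ?_)
    rw [IsScalarTower.algebraMap_apply A Q P, IsScalarTower.algebraMap_apply Q R' P]
    rfl
  have hP' : Hens2.IsPairHenselization R' (JQ.map (algebraMap Q R')) P :=
    isPairHenselization_of_isNbhd hP R' hN
  let 𝔟 : Ideal R' := Ideal.span (Set.range x)
  have hQ := isPairHenselization_quotient hP' 𝔟
  have h𝔟P : 𝔟.map (algebraMap R' P) = RingHom.ker φ := by
    rw [← hs, ← hb, Ideal.map_span]
    congr 1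
    ext p
    constructor
    · rintro ⟨_, ⟨l, rfl⟩, rfl⟩
      exact ⟨l, (hx l).symm⟩
    · rintro ⟨l, rfl⟩
      exact ⟨x l, ⟨l, rfl⟩, hx l⟩
  let R := R' ⧸ 𝔟
  let P' := P ⧸ 𝔟.map (algebraMap R' P)
  -- the isomorphism `P' ≃ B`
  let ψ : P' ≃+* B :=
    (Ideal.quotEquivOfEq h𝔟P).trans (RingHom.quotientKerEquivOfSurjective (f := φ.toRingHom) hφ)
  have hψ : ∀ p : P, ψ (Ideal.Quotient.mk _ p) = φ p := fun p => rfl
  let _ : Algebra R B := ((ψ : P' →+* B).comp (algebraMap R P')).toAlgebra
  have hstB : IsScalarTower A R B := by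
    refine IsScalarTower.of_algebraMap_eq (fun a => ?_)
    change algebraMap A B a = ψ (algebraMap R P' (algebraMap A R a))
    have h1 : algebraMap A R a = Ideal.Quotient.mk 𝔟 (algebraMap A R' a) := rfl
    rw [h1, Ideal.Quotient.algebraMap_quotient_map_quotient, hψ,
      ← IsScalarTower.algebraMap_apply A R' P, AlgHom.commutes]
  refine ⟨R, inferInstance, inferInstance, inferInstance, hstB, ?_, ?_⟩
  · have := hN.etale
    have h1 : Algebra.FinitePresentation Q R' := inferInstance
    have h2 : Algebra.FinitePresentation A R' := Algebra.FinitePresentation.trans A Q R'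
    exact Algebra.FinitePresentation.quotient (Submodule.fg_span (Set.finite_range x))
  · have hJ : (JQ.map (algebraMap Q R')).map (Ideal.Quotient.mk 𝔟) =
        I.map (algebraMap A R) := by
      rw [Ideal.map_map, Ideal.map_map]
      rfl
    rw [hJ] at hQ
    let ψA : P' ≃ₐ[R] B := { ψ with commutes' := fun r => rfl }
    exact isPairHenselization_of_algEquiv hQ ψA

end Groth.Agent.Helper26.PH
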