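import Mathlib
import Groth.Prelude.Def_Hens2
import Groth.Agent.Lib.Helper26.PHPush3

/-!
# Composites of henselian finitely presented maps (helper26)
-/

set_option autoImplicit false

open TensorProduct

namespace Groth.Agent.Helper26.PH

universe u

/-- finitely many polynomials over the henselization descend to a neighbourhood -/
theorem exists_nbhd_lift_polys {R : Type u} [CommRing R] {J : Ideal R} {B : Type u} [CommRing B]
    [Algebra R B] (hB : Hens2.IsPairHenselization R J B) (k : ℕ)
    (s : Finset (MvPolynomial (Fin k) B)) :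
    ∃ (R' : Type u) (_ : CommRing R') (_ : Algebra R R') (_ : IsNbhd R J R') (σ : R' →ₐ[R] B)
      (m : ℕ) (pt : Fin m → MvPolynomial (Fin k) R'),
      Set.range (fun l => MvPolynomial.map (σ : R' →+* B) (pt l)) = (s : Set _) := by
  classical
  let cs : Finset B := s.biUnion (fun p => p.coeffs)
  obtain ⟨R', _, _, hN, σ, x, hx⟩ :=
    exists_nbhd_rep_fin hB cs.card (fun l => (cs.equivFin.symm l : B))
  have hr : ∀ c ∈ cs, c ∈ Set.range (σ : R' →+* B) := by
    intro c hc
    refine ⟨x (cs.equivFin ⟨c, hc⟩), ?_⟩
    change σ _ = c
    rw [hx, Equiv.symm_apply_apply]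
  have hl : ∀ p : s, ∃ q : MvPolynomial (Fin k) R', MvPolynomial.map (σ : R' →+* B) q = p.1 := by
    intro p
    have : p.1 ∈ Set.range (MvPolynomial.map (σ : R' →+* B)) := by
      rw [MvPolynomial.mem_range_map_iff_coeffs_subset]
      intro c hc
      exact hr c (Finset.mem_biUnion.2 ⟨p.1, p.2, hc⟩)
    exact this
  choose lift hlift using hl
  refine ⟨R', inferInstance, inferInstance, hN, σ, s.card,
    fun l => lift (s.equivFin.symm l), ?_⟩
  ext p
  constructor
  · rintro ⟨l, rfl⟩
    change MvPolynomial.map (σ : R' →+* B) (lift _) ∈ _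
    rw [hlift]
    exact (s.equivFin.symm l).2
  · intro hp
    refine ⟨s.equivFin ⟨p, hp⟩, ?_⟩
    change MvPolynomial.map (σ : R' →+* B) (lift _) = p
    rw [hlift, Equiv.symm_apply_apply]

theorem hfp_comp (A : Type u) [CommRing A] (I : Ideal A)
    (R : Type u) [CommRing R] [Algebra A R] [Algebra.FinitePresentation A R]
    (B : Type u) [CommRing B] [Algebra R B] [Algebra A B] [IsScalarTower A R B]
    (hB : Hens2.IsPairHenselization R (I.map (algebraMap A R)) B)
    (S : Type u) [CommRing S] [Algebra B S] [Algebra A S] [IsScalarTower A B S]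
    [Algebra.FinitePresentation B S]
    (C : Type u) [CommRing C] [Algebra S C] [Algebra B C] [Algebra A C] [IsScalarTower B S C]
    [IsScalarTower A B C]
    (hC : Hens2.IsPairHenselization S (I.map (algebraMap A S)) C) :
    ∃ (T : Type u) (_ : CommRing T) (_ : Algebra A T) (_ : Algebra T C) (_ : IsScalarTower A T C),
      Algebra.FinitePresentation A T ∧
        Hens2.IsPairHenselization T (I.map (algebraMap A T)) C := by
  classical
  obtain ⟨k, π, hπ, s, hs⟩ := Algebra.FinitePresentation.out (R := B) (A := S)
  obtain ⟨R', _, _, hN, σ, m, pt, hpt⟩ := exists_nbhd_lift_polys hB k s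
  let _ : Algebra A R' := ((algebraMap R R').comp (algebraMap A R)).toAlgebra
  have hst1 : IsScalarTower A R R' := IsScalarTower.of_algebraMap_eq (fun _ => rfl)
  let _ : Algebra R' B := σ.toRingHom.toAlgebra
  have hst2 : IsScalarTower R R' B :=
    IsScalarTower.of_algebraMap_eq (fun r => (σ.commutes r).symm)
  have hB' : Hens2.IsPairHenselization R' ((I.map (algebraMap A R)).map (algebraMap R R')) B :=
    isPairHenselization_of_isNbhd hB R' hN
  have hker : RingHom.ker (π : MvPolynomial (Fin k) B →+* S) =
      Ideal.span (Set.range (fun l => MvPolynomial.map (algebraMap R' B) (pt l))) := by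
    change RingHom.ker π.toRingHom = Ideal.span (Set.range (fun l =>
      MvPolynomial.map (σ : R' →+* B) (pt l)))
    rw [hpt, hs]
  let T := presT k pt
  let j : T →+* S := presJ (algebraMap R' B) k π pt hker
  let _ : Algebra T S := j.toAlgebra
  have hPO : IsPO (algebraMap R' B) (algebraMap R' T) (algebraMap B S) (algebraMap T S) :=
    isPO_pres (algebraMap R' B) k π pt hker hπ
  let _ : Algebra T C := ((algebraMap S C).comp j).toAlgebra
  have hst3 : IsScalarTower T S C := IsScalarTower.of_algebraMap_eq (fun _ => rfl)
  have hAB : algebraMap A B = (algebraMap R' B).comp (algebraMap A R') := by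
    rw [IsScalarTower.algebraMap_eq A R B, IsScalarTower.algebraMap_eq R R' B,
      RingHom.comp_assoc]
    rfl
  have hJ1 : I.map (algebraMap A S) =
      (((I.map (algebraMap A R)).map (algebraMap R R')).map (algebraMap R' T)).map
        (algebraMap T S) := by
    rw [Ideal.map_map, Ideal.map_map, Ideal.map_map, ← hPO.1, IsScalarTower.algebraMap_eq A B S,
      hAB]
    rfl
  rw [hJ1] at hC
  have hfin := isPairHenselization_of_isPO_left hB' hPO hC
  have hst4 : IsScalarTower A R' T := inferInstance
  have hst5 : @IsScalarTower A T C Algebra.toSMul Algebra.toSMul Algebra.toSMul := by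
    refine IsScalarTower.of_algebraMap_eq (fun a => ?_)
    have h0 : algebraMap A T a = algebraMap R' T (algebraMap A R' a) :=
      IsScalarTower.algebraMap_apply A R' T a
    rw [h0]
    change _ = algebraMap S C (algebraMap T S (algebraMap R' T (algebraMap A R' a)))
    have h1 : algebraMap T S (algebraMap R' T (algebraMap A R' a)) =
        algebraMap B S (algebraMap R' B (algebraMap A R' a)) :=
      (congrArg (fun g => g (algebraMap A R' a)) hPO.1).symm
    rw [h1, ← IsScalarTower.algebraMap_apply B S C]
    have h2 : algebraMap R' B (algebraMap A R' a) = algebraMap A B a :=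
      (congrArg (fun g => g a) hAB).symm
    rw [h2, ← IsScalarTower.algebraMap_apply A B C]
  refine ⟨T, inferInstance, inferInstance, inferInstance, hst5, ?_, ?_⟩
  · have := hN.etale
    have hfp1 : Algebra.FinitePresentation A R' := Algebra.FinitePresentation.trans A R R'
    have hfp2 : Algebra.FinitePresentation R' T :=
      Algebra.FinitePresentation.quotient (Submodule.fg_span (Set.finite_range pt))
    exact Algebra.FinitePresentation.trans A R' T
  · have hJ2 : ((I.map (algebraMap A R)).map (algebraMap R R')).map (algebraMap R' T) =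
        I.map (algebraMap A T) := by
      rw [Ideal.map_map, Ideal.map_map, IsScalarTower.algebraMap_eq A R' T]
      rfl
    rw [hJ2] at hfin
    exact hfin

end Groth.Agent.Helper26.PH
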