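import Mathlib

namespace Groth.Agent.Helper26.PLie

open Polynomial

universe u v
variable {k : Type u} [Field k] (p : ℕ) [hp : Fact p.Prime]

/-- recursive polynomials -/
noncomputable def Cp (b : ℕ → k) : ℕ → k[X]
  | 0 => Polynomial.C (b 0) * X ^ p
  | (i+1) => (Cp b i) ^ p + Polynomial.C (b (i+1)) * X ^ p

omit hp in
theorem Cp_zero (b : ℕ → k) : Cp p b 0 = Polynomial.C (b 0) * X ^ p := rfl
omit hp in
theorem Cp_succ (b : ℕ → k) (i : ℕ) :
    Cp p b (i+1) = (Cp p b i) ^ p + Polynomial.C (b (i+1)) * X ^ p := rfl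

theorem X_pow_dvd_Cp (b : ℕ → k) (i : ℕ) : (X : k[X]) ^ p ∣ Cp p b i := by
  have hp0 : p ≠ 0 := hp.out.ne_zero
  induction i with
  | zero => exact Dvd.intro_left _ rfl
  | succ i ih =>
    rw [Cp_succ]
    refine dvd_add ?_ (Dvd.intro_left _ rfl)
    exact ih.trans (dvd_pow_self _ hp0)

theorem Cp_eq_zero_of_lt (b : ℕ → k) (j0 : ℕ) (h0 : ∀ j < j0, b j = 0) (i : ℕ) (hi : i < j0) :
    Cp p b i = 0 := by
  have hp0 : p ≠ 0 := hp.out.ne_zero
  induction i with
  | zero => rw [Cp_zero, h0 0 hi]; simp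
  | succ i ih =>
    rw [Cp_succ, ih (by omega), h0 (i+1) hi]
    simp [hp0]

theorem natDegree_ge_of_ne_zero (b : ℕ → k) (i : ℕ) (h : Cp p b i ≠ 0) :
    p ≤ (Cp p b i).natDegree := by
  have := Polynomial.natDegree_le_of_dvd (X_pow_dvd_Cp p b i) h
  simpa using this

theorem Cp_ne_zero (b : ℕ → k) (j0 : ℕ) (h0 : ∀ j < j0, b j = 0) (hj0 : b j0 ≠ 0) (i : ℕ)
    (hi : j0 ≤ i) : Cp p b i ≠ 0 := by
  have hp0 : p ≠ 0 := hp.out.ne_zero
  have hp2 : 2 ≤ p := hp.out.two_le
  induction i, hi using Nat.le_induction with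
  | base =>
    rcases Nat.eq_zero_or_pos j0 with h | h
    · subst h
      rw [Cp_zero]
      exact mul_ne_zero (by simpa using hj0) (pow_ne_zero _ X_ne_zero)
    · obtain ⟨j, rfl⟩ : ∃ j, j0 = j + 1 := ⟨j0 - 1, by omega⟩
      rw [Cp_succ, Cp_eq_zero_of_lt p b (j+1) h0 j (by omega)]
      simp only [ne_eq, zero_pow hp0, zero_add]
      exact mul_ne_zero (by simpa using hj0) (pow_ne_zero _ X_ne_zero)
  | succ i hi ih =>
    rw [Cp_succ]
    intro hzero
    have h1 : (Cp p b i) ^ p = - (Polynomial.C (b (i+1)) * X ^ p) := eq_neg_of_add_eq_zero_left hzero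
    have h2 := congrArg Polynomial.natDegree h1
    rw [Polynomial.natDegree_pow, Polynomial.natDegree_neg] at h2
    have h3 : (Polynomial.C (b (i+1)) * (X : k[X]) ^ p).natDegree ≤ p := by
      refine (Polynomial.natDegree_C_mul_le _ _).trans ?_
      simp
    have h4 := natDegree_ge_of_ne_zero p b i ih
    have : p * p ≤ p := by
      calc p * p ≤ p * (Cp p b i).natDegree := Nat.mul_le_mul_left _ h4
        _ = _ := h2
        _ ≤ p := h3
    nlinarith

theorem exists_root [IsAlgClosed k] (b : ℕ → k) (i : ℕ) (h : Cp p b i ≠ 0) :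
    ∃ t : k, t ≠ 0 ∧ (Cp p b i).eval t = t := by
  have hp2 : 2 ≤ p := hp.out.two_le
  obtain ⟨G, hG⟩ := X_pow_dvd_Cp p b i
  have hG0 : G ≠ 0 := by
    rintro rfl
    exact h (by rw [hG, mul_zero])
  let H : k[X] := X ^ (p - 1) * G - 1
  have hdeg : H.degree ≠ 0 := by
    have h1 : (X ^ (p - 1) * G : k[X]).natDegree = (p - 1) + G.natDegree := by
      rw [Polynomial.natDegree_mul (pow_ne_zero _ X_ne_zero) hG0, Polynomial.natDegree_X_pow]
    have h2 : H.natDegree = (p - 1) + G.natDegree := by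
      rw [← h1]
      apply Polynomial.natDegree_sub_eq_left_of_natDegree_lt
      rw [h1, Polynomial.natDegree_one]
      omega
    intro h0
    have h3 : H.natDegree = 0 := Polynomial.natDegree_eq_of_degree_eq_some h0
    omega
  obtain ⟨t, ht⟩ := IsAlgClosed.exists_root H hdeg
  have ht' : t ^ (p - 1) * G.eval t = 1 := by
    have : H.eval t = 0 := ht
    simp only [H, eval_sub, eval_mul, eval_pow, eval_X, eval_one] at this
    exact sub_eq_zero.1 this
  refine ⟨t, ?_, ?_⟩
  · rintro rfl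
    rw [zero_pow (by omega), zero_mul] at ht'
    exact zero_ne_one ht'
  · rw [hG]
    simp only [eval_mul, eval_pow, eval_X]
    have : t ^ p = t * t ^ (p - 1) := by
      rw [← pow_succ']
      congr 1
      omega
    rw [this, mul_assoc, ht', mul_one]

section ring
variable {E : Type v} [Ring E] [Algebra k E] [CharP E p]

omit hp in
theorem commute_sum (u : E) {ι : Type*} (s : Finset ι) (c : ι → k) (n : ι → ℕ) (c0 : k) (n0 : ℕ) :
    Commute (c0 • u ^ n0) (∑ i ∈ s, c i • u ^ (n i)) := by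
  apply Commute.sum_right
  intro i _
  exact (((Commute.refl u).pow_pow n0 (n i)).smul_left c0).smul_right (c i)

theorem sum_pow (u : E) {ι : Type*} (s : Finset ι) (c : ι → k) (n : ι → ℕ) :
    (∑ i ∈ s, c i • u ^ (n i)) ^ p = ∑ i ∈ s, (c i) ^ p • u ^ (n i * p) := by
  classical
  have hp0 : p ≠ 0 := hp.out.ne_zero
  induction s using Finset.induction_on with
  | empty => simp [hp0]
  | insert a s ha ih =>
    rw [Finset.sum_insert ha, Finset.sum_insert ha,
      add_pow_char_of_commute p (commute_sum u s c n (c a) (n a)), ih, _root_.smul_pow, ← pow_mul]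

/-- Main computation. -/
theorem eigen (u : E) (d' : ℕ) (b : ℕ → k)
    (hrel : u ^ (p ^ (d' + 1)) = ∑ j ∈ Finset.range (d' + 1), b j • u ^ (p ^ j))
    (t : k) (ht : (Cp p b d').eval t = t) :
    (∑ j ∈ Finset.range (d' + 1), ((Cp p b j).eval t) • u ^ (p ^ j)) ^ p =
      ∑ j ∈ Finset.range (d' + 1), ((Cp p b j).eval t) • u ^ (p ^ j) := by
  rw [sum_pow]
  simp_rw [← pow_succ]
  rw [Finset.sum_range_succ, ht, hrel, Finset.smul_sum, Finset.sum_range_succ' _ d',
    ← add_assoc, ← Finset.sum_add_distrib, Finset.sum_range_succ' _ d']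
  congr 1
  · refine Finset.sum_congr rfl fun j _ => ?_
    rw [Cp_succ, eval_add, eval_pow, eval_mul, eval_C, eval_pow, eval_X, add_smul, smul_smul,
      mul_comm (t ^ p)]
  · rw [Cp_zero, eval_mul, eval_C, eval_pow, eval_X, smul_smul, mul_comm (t ^ p)]

end ring

end Groth.Agent.Helper26.PLie
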