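import Mathlib
import Groth.Agent.Lib.Helper26.PLie

namespace Groth.Agent.Helper26.PLie

open Polynomial

universe u v

theorem main (k : Type u) [Field k] [IsAlgClosed k]
    (p : ℕ) [hp : Fact p.Prime] [CharP k p] (V : Type v) [AddCommGroup V] [Module k V]
    [FiniteDimensional k V]
    (g : Submodule k (Module.End k V)) (hg : ∀ u ∈ g, u ^ p ∈ g) (hne : g ≠ ⊥) :
    ∃ u ∈ g, u ≠ 0 ∧ ∃ c : k, u ^ p = c • u := by
  classical
  have hp0 : p ≠ 0 := hp.out.ne_zero
  obtain ⟨u, hug, hu0⟩ := Submodule.exists_mem_ne_zero_of_ne_bot hne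
  have : Nontrivial (Module.End k V) := ⟨⟨u, 0, hu0⟩⟩
  have : CharP (Module.End k V) p :=
    charP_of_injective_algebraMap (algebraMap k (Module.End k V)).injective p
  let e : ℕ → Module.End k V := fun i => u ^ (p ^ i)
  have he_succ : ∀ i, e (i + 1) = (e i) ^ p := by
    intro i
    simp only [e]
    rw [← pow_mul, pow_succ]
  have heg : ∀ i, e i ∈ g := by
    intro i
    induction i with
    | zero => simpa [e] using hug
    | succ i ih => rw [he_succ]; exact hg _ ih
  let P : ℕ → Prop := fun d => e d ∈ Submodule.span k (Set.range (fun i : Fin d => e i))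
  have hex : ∃ d, P d := by
    by_contra hcon
    push Not at hcon
    have hli : ∀ d, LinearIndependent k (fun i : Fin d => e i) := by
      intro d
      induction d with
      | zero => exact linearIndependent_empty_type
      | succ d ih =>
        rw [linearIndependent_finSucc']
        exact ⟨ih, hcon d⟩
    have := (hli (Module.finrank k (Module.End k V) + 1)).fintype_card_le_finrank
    simp at this
  let d := Nat.find hex
  have hPd : P d := Nat.find_spec hex
  have hmin : ∀ j < d, ¬ P j := fun j hj => Nat.find_min hex hj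
  have hli : ∀ j ≤ d, LinearIndependent k (fun i : Fin j => e i) := by
    intro j
    induction j with
    | zero => intro _; exact linearIndependent_empty_type
    | succ j ih =>
      intro hj
      rw [linearIndependent_finSucc']
      exact ⟨ih (by omega), hmin j (by omega)⟩
  have hd0 : d ≠ 0 := by
    intro h0
    have h1 := hPd
    simp only [P] at h1
    rw [h0] at h1
    simp at h1
    exact hu0 (by simpa [e] using h1)
  obtain ⟨d', hd'⟩ : ∃ d', d = d' + 1 := ⟨d - 1, by omega⟩
  obtain ⟨b0, hb0⟩ := (Submodule.mem_span_range_iff_exists_fun k).1 hPd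
  let b : ℕ → k := fun j => if h : j < d then b0 ⟨j, h⟩ else 0
  have hrel : e d = ∑ j ∈ Finset.range d, b j • e j := by
    rw [← hb0, ← Fin.sum_univ_eq_sum_range (fun j => b j • e j) d]
    refine Finset.sum_congr rfl fun i _ => ?_
    simp [b]
  have hlid := hli d le_rfl
  rw [Fintype.linearIndependent_iff] at hlid
  have hend : e d' ≠ 0 := by
    intro h0
    have := hlid (fun i => if (i : ℕ) = d' then 1 else 0) (by
      rw [Fin.sum_univ_eq_sum_range (fun j => (if j = d' then (1 : k) else 0) • e j) d]
      rw [Finset.sum_eq_single d']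
      · simp [h0]
      · intro j _ hj; simp [hj]
      · intro h; exact absurd (Finset.mem_range.2 (by omega)) h) ⟨d', by omega⟩
    simp at this
  by_cases hall : ∀ j, b j = 0
  · refine ⟨e d', heg d', hend, 0, ?_⟩
    rw [← he_succ, ← hd', hrel, zero_smul]
    exact Finset.sum_eq_zero fun j _ => by rw [hall j, zero_smul]
  · push Not at hall
    let j0 := Nat.find hall
    have hj0 : b j0 ≠ 0 := Nat.find_spec hall
    have hj0min : ∀ j < j0, b j = 0 := fun j hj => not_not.1 (Nat.find_min hall hj)
    have hj0d : j0 < d := by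
      by_contra hcon
      apply hj0
      simp [b, hcon]
    have hC : Cp p b d' ≠ 0 := Cp_ne_zero p b j0 hj0min hj0 d' (by omega)
    obtain ⟨t, ht0, ht⟩ := exists_root p b d' hC
    have hrel' : u ^ (p ^ (d' + 1)) = ∑ j ∈ Finset.range (d' + 1), b j • u ^ (p ^ j) := by
      rw [← hd']; exact hrel
    have hw := eigen p u d' b hrel' t ht
    refine ⟨_, ?_, ?_, 1, by rw [hw, one_smul]⟩
    · exact Submodule.sum_mem _ fun j _ => Submodule.smul_mem _ _ (heg j)
    · intro hzero
      rw [← hd', ← Fin.sum_univ_eq_sum_range (fun j => ((Cp p b j).eval t) • u ^ (p ^ j)) d] at hzero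
      have := hlid (fun i => (Cp p b i).eval t) hzero ⟨d', by omega⟩
      simp only at this
      rw [ht] at this
      exact ht0 this

end Groth.Agent.Helper26.PLie
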