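import Mathlib
import Groth.Prelude.Def_W4c5spincurvestfNode

set_option autoImplicit false
universe u
open SpinCurv

namespace Groth.Agent.Lib.Helper26.PNode1

variable (R : Type u) [CommRing R] (π : R)

/-- The normal form map on polynomials: `x^a y^b ↦ π^min(a,b) T^(a-b)`. -/
noncomputable def N₀ : MvPolynomial (Fin 2) R →ₗ[R] (ℤ →₀ R) :=
  (MvPolynomial.basisMonomials (Fin 2) R).constr R
    (fun d => Finsupp.single ((d 0 : ℤ) - (d 1 : ℤ)) (π ^ (min (d 0) (d 1))))

lemma N₀_monomial (d : Fin 2 →₀ ℕ) (r : R) :
    N₀ R π (MvPolynomial.monomial d r) =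
      Finsupp.single ((d 0 : ℤ) - (d 1 : ℤ)) (r * π ^ (min (d 0) (d 1))) := by
  have h1 : MvPolynomial.monomial d r = r • (MvPolynomial.basisMonomials (Fin 2) R) d := by
    rw [MvPolynomial.coe_basisMonomials, MvPolynomial.smul_monomial, smul_eq_mul, mul_one]
  rw [h1, map_smul, N₀, Module.Basis.constr_basis, Finsupp.smul_single, smul_eq_mul]

/-- The generator of the ideal. -/
noncomputable abbrev rel : MvPolynomial (Fin 2) R :=
  MvPolynomial.X 0 * MvPolynomial.X 1 - MvPolynomial.C π

lemma N₀_rel_mul (h : MvPolynomial (Fin 2) R) : N₀ R π (rel R π * h) = 0 := by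
  have : (N₀ R π).comp (LinearMap.mulLeft R (rel R π)) = 0 := by
    apply (MvPolynomial.basisMonomials (Fin 2) R).ext
    intro d
    rw [MvPolynomial.coe_basisMonomials, LinearMap.comp_apply, LinearMap.mulLeft_apply,
      LinearMap.zero_apply]
    have h1 : rel R π * MvPolynomial.monomial d 1 =
        MvPolynomial.monomial (d + (Finsupp.single 0 1 + Finsupp.single 1 1)) 1 -
          MvPolynomial.monomial d π := by
      rw [rel, sub_mul, MvPolynomial.C_mul_monomial, mul_one, MvPolynomial.X, MvPolynomial.X,
        MvPolynomial.monomial_mul, MvPolynomial.monomial_mul, mul_one, mul_one, add_comm]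
    rw [h1, map_sub, N₀_monomial, N₀_monomial, sub_eq_zero]
    have e0 : (d + (Finsupp.single (0 : Fin 2) 1 + Finsupp.single (1 : Fin 2) 1) : Fin 2 →₀ ℕ) 0
        = d 0 + 1 := by
      simp
    have e1 : (d + (Finsupp.single (0 : Fin 2) 1 + Finsupp.single (1 : Fin 2) 1) : Fin 2 →₀ ℕ) 1
        = d 1 + 1 := by
      simp
    rw [e0, e1, Nat.add_min_add_right, pow_succ]
    congr 1
    · push_cast; ring
    · ring
  have := LinearMap.congr_fun this h
  simpa using this

lemma N₀_kills : (Ideal.span {rel R π}).restrictScalars R ≤ LinearMap.ker (N₀ R π) := by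
  intro z hz
  rw [Submodule.restrictScalars_mem, Ideal.mem_span_singleton'] at hz
  obtain ⟨a, rfl⟩ := hz
  rw [LinearMap.mem_ker, mul_comm, N₀_rel_mul]

/-- The normal form map on the quotient. -/
noncomputable def Nbar : PolyNodeRing R π →ₗ[R] (ℤ →₀ R) :=
  (Submodule.liftQ ((Ideal.span {rel R π}).restrictScalars R) (N₀ R π) (N₀_kills R π)).comp
    (Submodule.Quotient.restrictScalarsEquiv R (Ideal.span {rel R π})).symm.toLinearMap

lemma Nbar_mk (h : MvPolynomial (Fin 2) R) :
    Nbar R π (Ideal.Quotient.mk _ h) = N₀ R π h := by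
  unfold Nbar
  rw [LinearMap.comp_apply]
  have : (Ideal.Quotient.mk (Ideal.span {rel R π}) h) =
      (Submodule.Quotient.mk h : MvPolynomial (Fin 2) R ⧸ Ideal.span {rel R π}) := rfl
  rw [this, LinearEquiv.coe_coe, Submodule.Quotient.restrictScalarsEquiv_symm_mk,
    Submodule.liftQ_apply]

/-- The monomial basis elements `x^m` (m ≥ 0), `y^(-m)` (m < 0). -/
noncomputable def gen (m : ℤ) : PolyNodeRing R π :=
  if 0 ≤ m then PolyNodeRing.x R π ^ m.toNat else PolyNodeRing.y R π ^ (-m).toNat

lemma xy : PolyNodeRing.x R π * PolyNodeRing.y R π = algebraMap R _ π := by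
  show Ideal.Quotient.mk _ (MvPolynomial.X 0) * Ideal.Quotient.mk _ (MvPolynomial.X 1) =
    Ideal.Quotient.mk _ (MvPolynomial.C π)
  rw [← map_mul, Ideal.Quotient.eq]
  exact Ideal.mem_span_singleton_self _

lemma Nbar_gen (m : ℤ) : Nbar R π (gen R π m) = Finsupp.single m 1 := by
  unfold gen
  split_ifs with h
  · have : PolyNodeRing.x R π ^ m.toNat =
        Ideal.Quotient.mk _ (MvPolynomial.monomial (Finsupp.single 0 m.toNat) (1 : R)) := by
      rw [← MvPolynomial.X_pow_eq_monomial, map_pow]
    rw [this, Nbar_mk, N₀_monomial]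
    simp [Int.toNat_of_nonneg h]
  · push Not at h
    have : PolyNodeRing.y R π ^ (-m).toNat =
        Ideal.Quotient.mk _ (MvPolynomial.monomial (Finsupp.single 1 (-m).toNat) (1 : R)) := by
      rw [← MvPolynomial.X_pow_eq_monomial, map_pow]
    rw [this, Nbar_mk, N₀_monomial]
    have h2 : ((-m).toNat : ℤ) = -m := Int.toNat_of_nonneg (by omega)
    simp [h2]

/-- The inverse: linear combinations of the basis monomials. -/
noncomputable def Mmap : (ℤ →₀ R) →ₗ[R] PolyNodeRing R π :=
  Finsupp.linearCombination R (gen R π)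

lemma Mmap_single (m : ℤ) (r : R) : Mmap R π (Finsupp.single m r) = r • gen R π m := by
  unfold Mmap
  rw [Finsupp.linearCombination_single]

lemma Nbar_Mmap : (Nbar R π).comp (Mmap R π) = LinearMap.id := by
  apply Finsupp.lhom_ext
  intro m r
  rw [LinearMap.comp_apply, Mmap_single, map_smul, Nbar_gen, Finsupp.smul_single, smul_eq_mul,
    mul_one, LinearMap.id_apply]

lemma x_mul_gen (m : ℤ) :
    PolyNodeRing.x R π * gen R π m = (if 0 ≤ m then (1 : R) else π) • gen R π (m + 1) := by
  by_cases h : 0 ≤ m
  · have h1 : 0 ≤ m + 1 := by omega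
    unfold gen
    rw [if_pos h, if_pos h1, if_pos h, one_smul, ← pow_succ']
    congr 1
    omega
  · push Not at h
    have h1 : (-m).toNat = (-(m+1)).toNat + 1 := by omega
    unfold gen
    rw [if_neg (by omega), if_neg (by omega), h1, pow_succ', ← mul_assoc, xy]
    by_cases h2 : 0 ≤ m + 1
    · rw [if_pos h2]
      have : (-(m+1)).toNat = 0 := by omega
      have h3 : (m+1).toNat = 0 := by omega
      rw [this, h3, pow_zero, pow_zero]
      exact (Algebra.smul_def _ _).symm
    · rw [if_neg h2]
      exact (Algebra.smul_def _ _).symm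

lemma y_mul_gen (m : ℤ) :
    PolyNodeRing.y R π * gen R π m = (if m ≤ 0 then (1 : R) else π) • gen R π (m - 1) := by
  by_cases h : m ≤ 0
  · rw [if_pos h, one_smul]
    by_cases h0 : m = 0
    · subst h0
      unfold gen
      rw [if_pos le_rfl, if_neg (by omega)]
      simp
    · have hm : m < 0 := lt_of_le_of_ne h h0
      unfold gen
      rw [if_neg (by omega), if_neg (by omega), ← pow_succ']
      congr 1
      omega
  · push Not at h
    rw [if_neg (by omega)]
    have h1 : m.toNat = (m - 1).toNat + 1 := by omega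
    unfold gen
    rw [if_pos (by omega), if_pos (by omega), h1, pow_succ', ← mul_assoc,
      mul_comm (PolyNodeRing.y R π), xy]
    exact (Algebra.smul_def _ _).symm

lemma Mmap_surjective : Function.Surjective (Mmap R π) := by
  have hx : ∀ z ∈ LinearMap.range (Mmap R π), PolyNodeRing.x R π * z ∈ LinearMap.range (Mmap R π) := by
    rintro _ ⟨w, rfl⟩
    induction w using Finsupp.induction_linear with
    | zero => rw [map_zero, mul_zero]; exact Submodule.zero_mem _
    | add a b ha hb => rw [map_add, mul_add]; exact Submodule.add_mem _ ha hb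
    | single m r =>
      rw [Mmap_single, mul_smul_comm, x_mul_gen, smul_smul, ← Mmap_single]
      exact LinearMap.mem_range_self _ _
  have hy : ∀ z ∈ LinearMap.range (Mmap R π), PolyNodeRing.y R π * z ∈ LinearMap.range (Mmap R π) := by
    rintro _ ⟨w, rfl⟩
    induction w using Finsupp.induction_linear with
    | zero => rw [map_zero, mul_zero]; exact Submodule.zero_mem _
    | add a b ha hb => rw [map_add, mul_add]; exact Submodule.add_mem _ ha hb
    | single m r =>
      rw [Mmap_single, mul_smul_comm, y_mul_gen, smul_smul, ← Mmap_single]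
      exact LinearMap.mem_range_self _ _
  have key : ∀ h : MvPolynomial (Fin 2) R, ∀ z ∈ LinearMap.range (Mmap R π),
      Ideal.Quotient.mk (Ideal.span {rel R π}) h * z ∈ LinearMap.range (Mmap R π) := by
    intro h
    induction h using MvPolynomial.induction_on with
    | C a =>
      intro z hz
      have : Ideal.Quotient.mk (Ideal.span {rel R π}) (MvPolynomial.C a) * z = a • z :=
        (Algebra.smul_def (A := PolyNodeRing R π) a z).symm
      rw [this]; exact Submodule.smul_mem _ _ hz
    | add p q hp hq =>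
      intro z hz
      rw [map_add, add_mul]; exact Submodule.add_mem _ (hp z hz) (hq z hz)
    | mul_X p i hp =>
      intro z hz
      rw [map_mul, mul_assoc]
      apply hp
      fin_cases i
      · exact hx z hz
      · exact hy z hz
  intro z
  obtain ⟨h, rfl⟩ := Ideal.Quotient.mk_surjective z
  have h1 : (1 : PolyNodeRing R π) ∈ LinearMap.range (Mmap R π) := by
    refine ⟨Finsupp.single 0 1, ?_⟩
    rw [Mmap_single, one_smul]
    unfold gen
    simp
  have := key h 1 h1
  rwa [mul_one] at this

lemma Mmap_Nbar : (Mmap R π).comp (Nbar R π) = LinearMap.id := by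
  apply LinearMap.ext
  intro z
  obtain ⟨w, rfl⟩ := Mmap_surjective R π z
  rw [LinearMap.comp_apply, LinearMap.id_apply]
  have := LinearMap.congr_fun (Nbar_Mmap R π) w
  rw [LinearMap.comp_apply, LinearMap.id_apply] at this
  rw [this]

/-- The normal form basis as a linear equivalence. -/
noncomputable def nu : (ℤ →₀ R) ≃ₗ[R] PolyNodeRing R π :=
  LinearEquiv.ofLinearMap (Mmap R π) (Nbar R π) (Mmap_Nbar R π) (Nbar_Mmap R π)

lemma nu_single (m : ℤ) (r : R) : nu R π (Finsupp.single m r) = r • gen R π m :=
  Mmap_single R π m r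

end Groth.Agent.Lib.Helper26.PNode1
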