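import Mathlib
import Groth.Prelude.Def_W4c5spincurvestfNode
import Groth.Agent.Lib.Helper26.PNode1

set_option autoImplicit false
universe u
open SpinCurv
open scoped LaurentPolynomial

namespace Groth.Agent.Lib.Helper26.PNode2

open Groth.Agent.Lib.Helper26.PNode1

variable {R : Type u} [CommRing R]

/-- Diagonal scaling on finitely supported functions. -/
noncomputable def diag (u : ℤ → R) : (ℤ →₀ R) →ₗ[R] (ℤ →₀ R) where
  toFun w := Finsupp.onFinset w.support (fun m => u m * w m) (by
    intro m hm
    rw [Finsupp.mem_support_iff]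
    intro h
    exact hm (by rw [h, mul_zero]))
  map_add' a b := by ext m; simp [mul_add]
  map_smul' r a := by ext m; simp; ring

@[simp] lemma diag_apply (u : ℤ → R) (w : ℤ →₀ R) (m : ℤ) : diag u w m = u m * w m := rfl

lemma diag_single (u : ℤ → R) (m : ℤ) (r : R) :
    diag u (Finsupp.single m r) = Finsupp.single m (u m * r) := by
  ext k
  rw [diag_apply, Finsupp.single_apply, Finsupp.single_apply]
  split_ifs with h
  · rw [h]
  · rw [mul_zero]

/-- The reflection `k ↦ n - k` on finitely supported functions. -/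
noncomputable def refl (n : ℤ) : (ℤ →₀ R) ≃ₗ[R] (ℤ →₀ R) :=
  Finsupp.domLCongr (Equiv.subLeft n)

@[simp] lemma refl_apply (n : ℤ) (w : ℤ →₀ R) (m : ℤ) : refl n w m = w (n - m) := by
  unfold refl
  rw [Finsupp.domLCongr_apply, Finsupp.domCongr_apply, Finsupp.equivMapDomain_apply]
  simp only [Equiv.subLeft_symm_apply]
  congr 1
  ring

lemma refl_single (n : ℤ) (k : ℤ) (r : R) :
    refl n (Finsupp.single k r) = Finsupp.single (n - k) r := by
  unfold refl
  rw [Finsupp.domLCongr_apply, Finsupp.domCongr_apply, Finsupp.equivMapDomain_single]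
  simp

/-- Coefficients of a Laurent polynomial, as a linear map. -/
noncomputable def coeffL : R[T;T⁻¹] →ₗ[R] (ℤ →₀ R) where
  toFun f := f.coeff
  map_add' _ _ := rfl
  map_smul' _ _ := rfl

lemma coeffL_injective : Function.Injective (coeffL (R := R)) := by
  intro f g h
  exact AddMonoidAlgebra.coeffEquiv.injective h

lemma coeffL_C_mul_T (a : R) (m : ℤ) :
    coeffL (LaurentPolynomial.C a * LaurentPolynomial.T m) = Finsupp.single m a := by
  rw [← LaurentPolynomial.single_eq_C_mul_T]
  rfl

section Main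

variable (p q : R) (n : ℤ)

/-- multipliers -/
noncomputable def mult (π : R) (m : ℤ) : R := if 0 ≤ m then 1 else π ^ (-m).toNat

variable (gU : PolyNodeRing R q →ₐ[R] R[T;T⁻¹])
  (hgUs : gU (PolyNodeRing.x R q) = LaurentPolynomial.T 1)
  (hgUy : gU (PolyNodeRing.y R q) = LaurentPolynomial.C q * LaurentPolynomial.T (-1))
  (gV : PolyNodeRing R p →ₐ[R] R[T;T⁻¹])
  (hgVt : gV (PolyNodeRing.x R p) = LaurentPolynomial.T (-1))
  (hgVx : gV (PolyNodeRing.y R p) = LaurentPolynomial.C p * LaurentPolynomial.T 1)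

include hgUs hgUy in
lemma gU_gen (m : ℤ) :
    gU (gen R q m) = LaurentPolynomial.C (mult q m) * LaurentPolynomial.T m := by
  unfold gen mult
  split_ifs with h
  · rw [map_pow, hgUs, LaurentPolynomial.T_pow, map_one, one_mul, Int.toNat_of_nonneg h, mul_one]
  · push Not at h
    rw [map_pow, hgUy, mul_pow, ← map_pow, LaurentPolynomial.T_pow,
      Int.toNat_of_nonneg (by omega : 0 ≤ -m)]
    congr 2
    ring

include hgVt hgVx in
lemma gV_gen (k : ℤ) :
    gV (gen R p k) = LaurentPolynomial.C (mult p k) * LaurentPolynomial.T (-k) := by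
  unfold gen mult
  split_ifs with h
  · rw [map_pow, hgVt, LaurentPolynomial.T_pow, map_one, one_mul, Int.toNat_of_nonneg h]
    congr 1
    ring
  · push Not at h
    rw [map_pow, hgVx, mul_pow, ← map_pow, LaurentPolynomial.T_pow,
      Int.toNat_of_nonneg (by omega : 0 ≤ -k), mul_one]

include hgUs hgUy in
lemma coeff_gU_nu : (coeffL.comp gU.toLinearMap).comp (nu R q).toLinearMap = diag (mult q) := by
  apply Finsupp.lhom_ext
  intro m r
  rw [LinearMap.comp_apply, LinearMap.comp_apply, LinearEquiv.coe_coe, nu_single, map_smul,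
    AlgHom.toLinearMap_apply, gU_gen q gU hgUs hgUy, map_smul, coeffL_C_mul_T, diag_single,
    Finsupp.smul_single, smul_eq_mul, mul_comm]

include hgVt hgVx in
lemma coeff_gV_nu :
    ((coeffL.comp (LinearMap.mulLeft R (LaurentPolynomial.T n))).comp gV.toLinearMap).comp
      (nu R p).toLinearMap = (refl n).toLinearMap.comp (diag (mult p)) := by
  apply Finsupp.lhom_ext
  intro k r
  rw [LinearMap.comp_apply, LinearMap.comp_apply, LinearMap.comp_apply, LinearEquiv.coe_coe,
    nu_single, map_smul, AlgHom.toLinearMap_apply, gV_gen p gV hgVt hgVx, map_smul, map_smul,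
    LinearMap.mulLeft_apply, LinearMap.comp_apply, diag_single, LinearEquiv.coe_coe, refl_single]
  have : LaurentPolynomial.T n * (LaurentPolynomial.C (mult p k) * LaurentPolynomial.T (-k)) =
      LaurentPolynomial.C (mult p k) * LaurentPolynomial.T (n - k) := by
    rw [mul_left_comm, ← LaurentPolynomial.T_add, sub_eq_add_neg]
  rw [this, coeffL_C_mul_T, Finsupp.smul_single, smul_eq_mul, mul_comm]

/-- Free parameters ↦ kernel. -/
noncomputable def Xi : (ℤ →₀ R) →ₗ[R] (ℤ →₀ R) × (ℤ →₀ R) :=
  (diag (fun m => if 0 ≤ m then mult p (n - m) else 1)).prod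
    ((refl n).toLinearMap.comp (diag (fun m => if 0 ≤ m then 1 else mult q m)))

/-- Kernel ↦ free parameters. -/
noncomputable def Theta : (ℤ →₀ R) × (ℤ →₀ R) →ₗ[R] (ℤ →₀ R) :=
  (diag (fun m => if m < 0 then (1 : R) else 0)).comp (LinearMap.fst R _ _) +
    ((diag (fun m => if 0 ≤ m then (1 : R) else 0)).comp (refl n).toLinearMap).comp
      (LinearMap.snd R _ _)

lemma Theta_apply (a c : ℤ →₀ R) (m : ℤ) :
    Theta n (a, c) m = (if m < 0 then (1 : R) else 0) * a m +
      (if 0 ≤ m then (1 : R) else 0) * c (n - m) := by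
  unfold Theta
  simp

lemma Xi_fst (w : ℤ →₀ R) (m : ℤ) :
    (Xi p q n w).1 m = (if 0 ≤ m then mult p (n - m) else 1) * w m := by
  unfold Xi
  simp

lemma Xi_snd (w : ℤ →₀ R) (k : ℤ) :
    (Xi p q n w).2 k = (if 0 ≤ n - k then 1 else mult q (n - k)) * w (n - k) := by
  unfold Xi
  simp

lemma Theta_Xi (w : ℤ →₀ R) : Theta n (Xi p q n w) = w := by
  ext m
  have : Xi p q n w = ((Xi p q n w).1, (Xi p q n w).2) := rfl
  rw [this, Theta_apply, Xi_fst, Xi_snd, sub_sub_cancel]
  by_cases h : 0 ≤ m
  · have h' : ¬ m < 0 := by omega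
    simp [h, h']
  · have h' : m < 0 := by omega
    simp [h, h']

variable (hn : -1 ≤ n)

include hn in
lemma mult_of_neg (π : R) (m : ℤ) (hm : m < 0) : mult π (n - m) = 1 := by
  unfold mult
  rw [if_pos (by omega)]

lemma mult_of_nonneg (π : R) (m : ℤ) (hm : 0 ≤ m) : mult π m = 1 := by
  unfold mult
  rw [if_pos hm]

include hn in
lemma cond_Xi (w : ℤ →₀ R) :
    diag (mult q) (Xi p q n w).1 - refl n (diag (mult p) (Xi p q n w).2) = 0 := by
  ext m
  rw [Finsupp.sub_apply, diag_apply, refl_apply, diag_apply, Xi_fst, Xi_snd, sub_sub_cancel,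
    Finsupp.zero_apply]
  by_cases h : 0 ≤ m
  · simp only [h, if_true, mult_of_nonneg q m h]
    ring
  · have h' : m < 0 := by omega
    simp only [h, if_false, mult_of_neg n hn p m h']
    ring

include hn in
lemma Xi_Theta (a c : ℤ →₀ R)
    (hac : diag (mult q) a - refl n (diag (mult p) c) = 0) :
    Xi p q n (Theta n (a, c)) = (a, c) := by
  have hm : ∀ m : ℤ, mult q m * a m = mult p (n - m) * c (n - m) := by
    intro m
    have := DFunLike.congr_fun hac m
    rw [Finsupp.sub_apply, diag_apply, refl_apply, diag_apply, Finsupp.zero_apply,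
      sub_eq_zero] at this
    exact this
  apply Prod.ext
  · ext m
    rw [Xi_fst, Theta_apply]
    by_cases h : 0 ≤ m
    · have h' : ¬ m < 0 := by omega
      have := hm m
      rw [mult_of_nonneg q m h, one_mul] at this
      simp only [h, h', if_true, if_false, zero_mul, zero_add, one_mul]
      rw [this]
    · have h' : m < 0 := by omega
      simp [h, h']
  · ext k
    rw [Xi_snd, Theta_apply, sub_sub_cancel]
    by_cases h : 0 ≤ n - k
    · have h' : ¬ n - k < 0 := by omega
      simp only [h, h', if_true, if_false, zero_mul, zero_add, one_mul]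
    · have h' : n - k < 0 := by omega
      have := hm (n - k)
      rw [sub_sub_cancel] at this
      have hk : mult p k = 1 := mult_of_nonneg p k (by omega)
      rw [hk, one_mul] at this
      simp only [h, h', if_true, if_false, zero_mul, add_zero, one_mul]
      exact this

include hgUs hgUy hgVt hgVx in
lemma key (a c : ℤ →₀ R) :
    coeffL ((gU.toLinearMap.comp (LinearMap.fst R (PolyNodeRing R q) (PolyNodeRing R p)) -
        (LinearMap.mulLeft R (LaurentPolynomial.T n)).comp
          (gV.toLinearMap.comp (LinearMap.snd R (PolyNodeRing R q) (PolyNodeRing R p))))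
        (nu R q a, nu R p c)) =
      diag (mult q) a - refl n (diag (mult p) c) := by
  have h1 := LinearMap.congr_fun (coeff_gU_nu q gU hgUs hgUy) a
  have h2 := LinearMap.congr_fun (coeff_gV_nu p n gV hgVt hgVx) c
  simp only [LinearMap.comp_apply, LinearEquiv.coe_coe] at h1 h2
  rw [LinearMap.sub_apply, map_sub]
  simp only [LinearMap.comp_apply, LinearMap.fst_apply, LinearMap.snd_apply]
  rw [h1, h2]

include hgUs hgUy hgVt hgVx hn in
theorem main :
    Module.Free R (LinearMap.ker
      (gU.toLinearMap.comp (LinearMap.fst R (PolyNodeRing R q) (PolyNodeRing R p)) -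
        (LinearMap.mulLeft R (LaurentPolynomial.T n)).comp
          (gV.toLinearMap.comp (LinearMap.snd R (PolyNodeRing R q) (PolyNodeRing R p))))) := by
  set Φ := (gU.toLinearMap.comp (LinearMap.fst R (PolyNodeRing R q) (PolyNodeRing R p)) -
        (LinearMap.mulLeft R (LaurentPolynomial.T n)).comp
          (gV.toLinearMap.comp (LinearMap.snd R (PolyNodeRing R q) (PolyNodeRing R p)))) with hΦ
  let E : ((ℤ →₀ R) × (ℤ →₀ R)) ≃ₗ[R] (PolyNodeRing R q × PolyNodeRing R p) :=
    LinearEquiv.prodCongr (nu R q) (nu R p)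
  have hE : ∀ a c, E (a, c) = (nu R q a, nu R p c) := fun a c => rfl
  have hmem : ∀ w : ℤ →₀ R, E (Xi p q n w) ∈ LinearMap.ker Φ := by
    intro w
    rw [LinearMap.mem_ker]
    apply coeffL_injective
    have : Xi p q n w = ((Xi p q n w).1, (Xi p q n w).2) := rfl
    rw [this, hE, hΦ, key p q n gU hgUs hgUy gV hgVt hgVx, cond_Xi p q n hn, map_zero]
  let Ψ : (ℤ →₀ R) →ₗ[R] LinearMap.ker Φ :=
    LinearMap.codRestrict (LinearMap.ker Φ) (E.toLinearMap.comp (Xi p q n)) hmem
  have hΨ : ∀ w, (Ψ w : PolyNodeRing R q × PolyNodeRing R p) = E (Xi p q n w) := fun w => rfl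
  have hinj : Function.Injective Ψ := by
    intro w w' h
    have h1 : E (Xi p q n w) = E (Xi p q n w') := by rw [← hΨ, ← hΨ, h]
    have h2 := E.injective h1
    rw [← Theta_Xi p q n w, ← Theta_Xi p q n w', h2]
  have hsurj : Function.Surjective Ψ := by
    intro z
    obtain ⟨⟨a, c⟩, hac⟩ := E.surjective z.1
    have hz := z.2
    rw [LinearMap.mem_ker, ← hac, hE] at hz
    have hcond : diag (mult q) a - refl n (diag (mult p) c) = 0 := by
      rw [← key p q n gU hgUs hgUy gV hgVt hgVx, hz, map_zero]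
    refine ⟨Theta n (a, c), ?_⟩
    apply Subtype.ext
    rw [hΨ, Xi_Theta p q n hn a c hcond, hac]
  exact Module.Free.of_equiv (LinearEquiv.ofBijective Ψ ⟨hinj, hsurj⟩)

end Main

end Groth.Agent.Lib.Helper26.PNode2
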