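import Mathlib
import Groth.Prelude.Def_PP16
import Groth.Agent.Lib.Helper26.SymLift
import Groth.Agent.Lib.Helper26.PPGen

set_option autoImplicit false
universe u
open TensorProduct

namespace Groth.Agent.Lib.Helper26.PPMain1

open Groth.Agent.Lib.Helper26

variable (A B : Type u) [CommRing A] [CommRing B] [Algebra A B]

/-- The element `1 ⊗ b - b ⊗ 1`. -/
noncomputable def zeta (b : B) : B ⊗[A] B := (1 : B) ⊗ₜ[A] b - b ⊗ₜ[A] (1 : B)

lemma zeta_mem (b : B) : zeta A B b ∈ KaehlerDifferential.ideal A B :=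
  KaehlerDifferential.one_smul_sub_smul_one_mem_ideal A b

variable {A B}

lemma smul_mem_ideal (I : Ideal (B ⊗[A] B)) (b : B) {x : B ⊗[A] B} (hx : x ∈ I) : b • x ∈ I := by
  rw [Algebra.smul_def]
  exact Ideal.mul_mem_left _ _ hx

/-- The derivation `id ⊗ D` of `B ⊗ B`, linear over the left factor. -/
noncomputable def tensorDer (D : Derivation A B B) : Derivation B (B ⊗[A] B) (B ⊗[A] B) :=
  Derivation.mk' (TensorProduct.AlgebraTensorModule.map (LinearMap.id : B →ₗ[B] B)
    (D : B →ₗ[A] B)) (by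
    intro x y
    induction x using TensorProduct.induction_on with
    | zero => simp
    | add x₁ x₂ h₁ h₂ =>
      rw [add_mul, map_add, h₁, h₂, map_add]
      simp only [smul_eq_mul]
      ring
    | tmul a b =>
      induction y using TensorProduct.induction_on with
      | zero => simp
      | add y₁ y₂ h₁ h₂ =>
        rw [mul_add, map_add, h₁, h₂, map_add]
        simp only [smul_eq_mul]
        ring
      | tmul c d =>
        simp only [Algebra.TensorProduct.tmul_mul_tmul, AlgebraTensorModule.map_tmul,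
          LinearMap.id_apply, Derivation.coeFn_coe, smul_eq_mul, D.leibniz, tmul_add]
        rw [mul_comm c a])


lemma tensorDer_tmul (D : Derivation A B B) (a b : B) :
    tensorDer D (a ⊗ₜ[A] b) = a ⊗ₜ[A] D b := rfl

lemma lmul_tensorDer (D : Derivation A B B) (x : B ⊗[A] B) :
    Algebra.TensorProduct.lmul' A (tensorDer D x) = D.tensorProductTo x := by
  induction x using TensorProduct.induction_on with
  | zero => simp
  | add x y hx hy => rw [map_add, map_add, map_add, hx, hy]
  | tmul a b =>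
    rw [tensorDer_tmul, Algebra.TensorProduct.lmul'_apply_tmul, Derivation.tensorProductTo_tmul,
      smul_eq_mul]

lemma sub_lmul_mem (x : B ⊗[A] B) :
    x - (Algebra.TensorProduct.lmul' A x) • (1 : B ⊗[A] B) ∈ KaehlerDifferential.ideal A B := by
  rw [RingHom.mem_ker, map_sub]
  have : (Algebra.TensorProduct.lmul' A x) • (1 : B ⊗[A] B) = (Algebra.TensorProduct.lmul' A x) ⊗ₜ[A] (1 : B) := by
    rw [Algebra.smul_def, mul_one, Algebra.TensorProduct.algebraMap_apply]
    rfl
  rw [this]
  change Algebra.TensorProduct.lmul' A x - Algebra.TensorProduct.lmul' A ((Algebra.TensorProduct.lmul' A x) ⊗ₜ[A] (1 : B)) = 0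
  rw [Algebra.TensorProduct.lmul'_apply_tmul, mul_one, sub_self]

section Section

variable (A B)

/-- A `B`-linear section of `I → I/I² = Ω` exists when `Ω` is projective. -/
lemma exists_section [Module.Projective B (Ω[B⁄A])] :
    ∃ s : Ω[B⁄A] →ₗ[B] (B ⊗[A] B), ∃ hs : ∀ ω, s ω ∈ KaehlerDifferential.ideal A B,
      ∀ ω, KaehlerDifferential.fromIdeal A B ⟨s ω, hs ω⟩ = ω := by
  obtain ⟨h, hh⟩ := Module.projective_lifting_property
    ((KaehlerDifferential.fromIdeal A B).restrictScalars B) (LinearMap.id : Ω[B⁄A] →ₗ[B] Ω[B⁄A])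
    (KaehlerDifferential.fromIdeal_surjective A B)
  refine ⟨((KaehlerDifferential.ideal A B).subtype.restrictScalars B).comp h,
    fun ω => (h ω).2, fun ω => ?_⟩
  exact LinearMap.congr_fun hh ω

end Section


section Phi

variable (A B)
variable (ι : Type u) [Fintype ι]
variable (s : Ω[B⁄A] →ₗ[B] (B ⊗[A] B)) (hs : ∀ ω, s ω ∈ KaehlerDifferential.ideal A B)

include hs in
lemma prod_s_mem (v : ι → Ω[B⁄A]) :
    ∏ i, s (v i) ∈ (KaehlerDifferential.ideal A B ^ Fintype.card ι).restrictScalars B := by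
  have := PPGen.prod_mem_pow (KaehlerDifferential.ideal A B) Finset.univ (fun i => s (v i))
    (fun i _ => hs _)
  rwa [Finset.card_univ] at this

/-- The symmetric multilinear map `(ω_i) ↦ [∏ s(ω_i)]`. -/
noncomputable def muMap :
    MultilinearMap B (fun _ : ι => Ω[B⁄A]) (PP16.grI A B (Fintype.card ι)) :=
  (Submodule.mkQ _).compMultilinearMap
    (((MultilinearMap.mkPiAlgebra B ι (B ⊗[A] B)).compLinearMap (fun _ => s)).codRestrict
      ((KaehlerDifferential.ideal A B ^ Fintype.card ι).restrictScalars B) (fun v => by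
        simp only [MultilinearMap.compLinearMap_apply, MultilinearMap.mkPiAlgebra_apply]
        exact prod_s_mem A B ι s hs v))

lemma muMap_apply (v : ι → Ω[B⁄A]) :
    muMap A B ι s hs v = Submodule.Quotient.mk ⟨∏ i, s (v i), prod_s_mem A B ι s hs v⟩ := rfl

/-- The canonical map `Sym^ι Ω → I^n/I^(n+1)`, built from a section. -/
noncomputable def phi : SymmetricPower B ι (Ω[B⁄A]) →ₗ[B] PP16.grI A B (Fintype.card ι) :=
  SymLift.symLift (muMap A B ι s hs) (by
    intro e v
    rw [muMap_apply, muMap_apply]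
    congr 1
    apply Subtype.ext
    exact Equiv.prod_comp e (fun i => s (v i)))

lemma phi_tprod (v : ι → Ω[B⁄A]) :
    phi A B ι s hs (SymmetricPower.tprod B v) =
      Submodule.Quotient.mk ⟨∏ i, s (v i), prod_s_mem A B ι s hs v⟩ := by
  rw [phi, SymLift.symLift_tprod, muMap_apply]

variable (hs' : ∀ ω, KaehlerDifferential.fromIdeal A B ⟨s ω, hs ω⟩ = ω)

include hs' in
lemma s_D_sub_mem (b : B) :
    s (KaehlerDifferential.D A B b) - ((1 : B) ⊗ₜ[A] b - b ⊗ₜ[A] (1 : B)) ∈
      KaehlerDifferential.ideal A B ^ 2 := by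
  have h1 := hs' (KaehlerDifferential.D A B b)
  rw [KaehlerDifferential.D_apply] at h1
  have h2 := (Ideal.toCotangent_eq (I := KaehlerDifferential.ideal A B)
    (x := ⟨s ((KaehlerDifferential.ideal A B).toCotangent
      ⟨1 ⊗ₜ b - b ⊗ₜ 1, KaehlerDifferential.one_smul_sub_smul_one_mem_ideal A b⟩), hs _⟩)
    (y := ⟨1 ⊗ₜ b - b ⊗ₜ 1, KaehlerDifferential.one_smul_sub_smul_one_mem_ideal A b⟩)).mp h1
  rw [KaehlerDifferential.D_apply]
  exact h2

include hs' in
lemma phi_tprod_D (b : ι → B) :
    phi A B ι s hs (SymmetricPower.tprod B (fun i => KaehlerDifferential.D A B (b i))) =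
      PP16.zetaProd A B b := by
  classical
  rw [phi_tprod]
  unfold PP16.zetaProd
  rw [Submodule.Quotient.eq, Submodule.mem_comap]
  have := PPGen.prod_sub_prod_mem (KaehlerDifferential.ideal A B) Finset.univ
    (fun i => s (KaehlerDifferential.D A B (b i)))
    (fun i => (1 : B) ⊗ₜ[A] b i - b i ⊗ₜ[A] (1 : B)) (fun i _ => hs _)
    (fun i _ => KaehlerDifferential.one_smul_sub_smul_one_mem_ideal A (b i))
    (fun i _ => s_D_sub_mem A B s hs hs' (b i))
  rw [Finset.card_univ] at this
  exact this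

end Phi


section Surj

variable (A B)
variable (ι : Type u)

/-- The `B`-span of the products of `zeta`s over a finite set of indices. -/
noncomputable def W (s : Finset ι) : Submodule B (B ⊗[A] B) :=
  Submodule.span B (Set.range fun b : ι → B => ∏ i ∈ s, zeta A B (b i))

lemma W_le (s : Finset ι) :
    W A B ι s ≤ (KaehlerDifferential.ideal A B ^ s.card).restrictScalars B := by
  rw [W, Submodule.span_le]
  rintro _ ⟨b, rfl⟩
  exact PPGen.prod_mem_pow _ s _ (fun i _ => zeta_mem A B (b i))

lemma mem_span_zeta {x : B ⊗[A] B} (hx : x ∈ KaehlerDifferential.ideal A B) :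
    x ∈ Submodule.span B (Set.range fun c : B => zeta A B c) := by
  have := KaehlerDifferential.submodule_span_range_eq_ideal A B
  rw [← Submodule.restrictScalars_mem B, ← this] at hx
  exact hx

lemma mul_mem_W_insert [DecidableEq ι] (a : ι) (s : Finset ι) (ha : a ∉ s)
    (x : B ⊗[A] B) (hx : x ∈ KaehlerDifferential.ideal A B) (w : B ⊗[A] B) (hw : w ∈ W A B ι s) :
    x * w ∈ W A B ι (insert a s) := by
  have step1 : ∀ (b : ι → B), ∀ x ∈ Submodule.span B (Set.range fun c : B => zeta A B c),
      x * ∏ i ∈ s, zeta A B (b i) ∈ W A B ι (insert a s) := by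
    intro b x hx
    induction hx using Submodule.span_induction with
    | mem x hx =>
      obtain ⟨c, rfl⟩ := hx
      apply Submodule.subset_span
      refine ⟨Function.update b a c, ?_⟩
      simp only
      rw [Finset.prod_insert ha, Function.update_self]
      congr 1
      apply Finset.prod_congr rfl
      intro i hi
      have : i ≠ a := fun h => ha (h ▸ hi)
      rw [Function.update_of_ne this]
    | zero => rw [zero_mul]; exact zero_mem _
    | add x y _ _ hx hy => rw [add_mul]; exact add_mem hx hy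
    | smul β x _ hx => rw [smul_mul_assoc]; exact Submodule.smul_mem _ β hx
  have hx' := mem_span_zeta A B hx
  induction hw using Submodule.span_induction with
  | mem w hw =>
    obtain ⟨b, rfl⟩ := hw
    exact step1 b x hx'
  | zero => rw [mul_zero]; exact zero_mem _
  | add w₁ w₂ _ _ h₁ h₂ => rw [mul_add]; exact add_mem h₁ h₂
  | smul β w _ hw => rw [mul_smul_comm]; exact Submodule.smul_mem _ β hw

lemma exists_approx [DecidableEq ι] (s : Finset ι) :
    ∀ z ∈ KaehlerDifferential.ideal A B ^ s.card, ∃ w ∈ W A B ι s,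
      z - w ∈ KaehlerDifferential.ideal A B ^ (s.card + 1) := by
  induction s using Finset.induction_on with
  | empty =>
    intro z _
    refine ⟨(Algebra.TensorProduct.lmul' A z) • (1 : B ⊗[A] B), ?_, ?_⟩
    · apply Submodule.smul_mem
      apply Submodule.subset_span
      exact ⟨fun _ => 0, by simp⟩
    · rw [Finset.card_empty, zero_add, pow_one]
      exact sub_lmul_mem z
  | insert a s ha ih =>
    intro z hz
    rw [Finset.card_insert_of_notMem ha, pow_succ'] at hz
    rw [Finset.card_insert_of_notMem ha]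
    refine Submodule.mul_induction_on hz ?_ ?_
    · intro x hx y hy
      obtain ⟨w₀, hw₀, hyw⟩ := ih y hy
      refine ⟨x * w₀, mul_mem_W_insert A B ι a s ha x hx w₀ hw₀, ?_⟩
      rw [← mul_sub, pow_succ' _ (s.card + 1)]
      exact Ideal.mul_mem_mul hx hyw
    · intro z₁ z₂ h₁ h₂
      obtain ⟨w₁, hw₁, h₁'⟩ := h₁
      obtain ⟨w₂, hw₂, h₂'⟩ := h₂
      refine ⟨w₁ + w₂, add_mem hw₁ hw₂, ?_⟩
      rw [add_sub_add_comm]
      exact Ideal.add_mem _ h₁' h₂'

variable [Fintype ι]

lemma exists_preimage (φ : SymmetricPower B ι (Ω[B⁄A]) →ₗ[B] PP16.grI A B (Fintype.card ι))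
    (hφ : ∀ b : ι → B, φ (SymmetricPower.tprod B (fun i => KaehlerDifferential.D A B (b i))) =
      PP16.zetaProd A B b) :
    ∀ w ∈ W A B ι Finset.univ, ∃ x, ∀ hw, φ x = Submodule.Quotient.mk ⟨w, hw⟩ := by
  have hle := W_le A B ι Finset.univ
  rw [Finset.card_univ] at hle
  intro w hw
  induction hw using Submodule.span_induction with
  | mem w hw =>
    obtain ⟨b, rfl⟩ := hw
    exact ⟨_, fun _ => hφ b⟩
  | zero => exact ⟨0, fun _ => by rw [map_zero]; rfl⟩
  | add w₁ w₂ hw₁ hw₂ h₁ h₂ =>
    obtain ⟨x₁, hx₁⟩ := h₁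
    obtain ⟨x₂, hx₂⟩ := h₂
    refine ⟨x₁ + x₂, fun _ => ?_⟩
    rw [map_add, hx₁ (hle hw₁), hx₂ (hle hw₂)]
    rfl
  | smul β w hw h =>
    obtain ⟨x, hx⟩ := h
    refine ⟨β • x, fun _ => ?_⟩
    rw [map_smul, hx (hle hw)]
    rfl

theorem phi_surjective
    (φ : SymmetricPower B ι (Ω[B⁄A]) →ₗ[B] PP16.grI A B (Fintype.card ι))
    (hφ : ∀ b : ι → B, φ (SymmetricPower.tprod B (fun i => KaehlerDifferential.D A B (b i))) =
      PP16.zetaProd A B b) : Function.Surjective φ := by
  classical
  intro q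
  obtain ⟨⟨z, hz⟩, rfl⟩ := Submodule.Quotient.mk_surjective _ q
  have hz' : z ∈ KaehlerDifferential.ideal A B ^ (Finset.univ : Finset ι).card := by
    rw [Finset.card_univ]; exact hz
  obtain ⟨w, hw, hzw⟩ := exists_approx A B ι Finset.univ z hz'
  rw [Finset.card_univ] at hzw
  obtain ⟨x, hx⟩ := exists_preimage A B ι φ hφ w hw
  have hle := W_le A B ι Finset.univ
  rw [Finset.card_univ] at hle
  refine ⟨x, ?_⟩
  rw [hx (hle hw)]
  symm
  rw [Submodule.Quotient.eq, Submodule.mem_comap]
  exact hzw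

end Surj

end Groth.Agent.Lib.Helper26.PPMain1



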