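import Mathlib
import Groth.Prelude.Def_PP16
import Groth.Agent.Lib.Helper26.SymLift
import Groth.Agent.Lib.Helper26.PPGen
import Groth.Agent.Lib.Helper26.PPMain1
import Groth.Agent.Lib.Helper26.SymPoly
import Groth.Agent.Lib.Helper26.SymPoly2

set_option autoImplicit false
universe u
open TensorProduct

namespace Groth.Agent.Lib.Helper26.PPCert

open Groth.Agent.Lib.Helper26 Groth.Agent.Lib.Helper26.PPMain1

variable (A B : Type u) [CommRing A] [CommRing B] [Algebra A B]

/-- The linear form to polynomials attached to a coordinate map `sec`. -/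
noncomputable def ellOf {J : Type u} (sec : Ω[B⁄A] →ₗ[B] (J →₀ B)) :
    Ω[B⁄A] →ₗ[B] MvPolynomial J B :=
  Finsupp.linearCombination B (fun j => (MvPolynomial.X j : MvPolynomial J B)) ∘ₗ sec

/-- A certificate of differential smoothness that is stable under base change. -/
def HasCert : Prop :=
  ∃ (J : Type u) (v : J → Ω[B⁄A]) (sec : Ω[B⁄A] →ₗ[B] (J →₀ B))
    (s : Ω[B⁄A] →ₗ[B] (B ⊗[A] B)) (hs : ∀ ω, s ω ∈ KaehlerDifferential.ideal A B),
    (∀ ω, Finsupp.linearCombination B v (sec ω) = ω) ∧
    (∀ ω, KaehlerDifferential.fromIdeal A B ⟨s ω, hs ω⟩ = ω) ∧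
    ∀ (ι : Type u) [Fintype ι], ∃ L : (B ⊗[A] B) →ₗ[B] MvPolynomial J B,
      (∀ x ∈ KaehlerDifferential.ideal A B ^ (Fintype.card ι + 1), L x = 0) ∧
      ∀ ω : ι → Ω[B⁄A], L (∏ i, s (ω i)) = ∏ i, ellOf A B sec (ω i)

variable {A B}

lemma theta_ellOf_injective {J : Type u} (v : J → Ω[B⁄A]) (sec : Ω[B⁄A] →ₗ[B] (J →₀ B))
    (hsec : ∀ ω, Finsupp.linearCombination B v (sec ω) = ω) (ι : Type u) [Fintype ι] :
    Function.Injective (SymPoly.theta ι (ellOf A B sec)) := by
  have := SymPoly2.theta_injective_of_section (ι := ι)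
    (Finsupp.basisSingleOne : Module.Basis J B (J →₀ B)) sec (Finsupp.linearCombination B v) hsec
  rwa [SymPoly2.ell_basisSingleOne] at this

theorem isDiffSmooth_of_hasCert (h : HasCert A B) : PP16.IsDiffSmooth A B := by
  obtain ⟨J, v, sec, s, hs, hsec, hs', hL⟩ := h
  have hproj : Module.Projective B (Ω[B⁄A]) :=
    Module.Projective.of_split sec (Finsupp.linearCombination B v) (LinearMap.ext hsec)
  refine ⟨hproj, ?_⟩
  intro ι _
  refine ⟨phi A B ι s hs, phi_tprod_D A B ι s hs hs', ?_, ?_⟩
  · rw [injective_iff_map_eq_zero]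
    intro x hx
    obtain ⟨T, a, rfl⟩ := SymLift.exists_rep x
    have h1 : phi A B ι s hs (∑ k ∈ T, a k • SymmetricPower.tprod B k) =
        Submodule.Quotient.mk (∑ k ∈ T, a k •
          (⟨∏ i, s (k i), prod_s_mem A B ι s hs k⟩ :
            ↥((KaehlerDifferential.ideal A B ^ Fintype.card ι).restrictScalars B))) := by
      rw [map_sum, ← Submodule.mkQ_apply, map_sum]
      apply Finset.sum_congr rfl
      intro k _
      rw [map_smul, phi_tprod, map_smul]
      rfl
    rw [h1, Submodule.Quotient.mk_eq_zero, Submodule.mem_comap] at hx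
    have h2 : (∑ k ∈ T, a k • ∏ i, s (k i)) ∈
        KaehlerDifferential.ideal A B ^ (Fintype.card ι + 1) := by
      have : ((KaehlerDifferential.ideal A B ^ Fintype.card ι).restrictScalars B).subtype
          (∑ k ∈ T, a k •
          (⟨∏ i, s (k i), prod_s_mem A B ι s hs k⟩ :
            ↥((KaehlerDifferential.ideal A B ^ Fintype.card ι).restrictScalars B))) =
          ∑ k ∈ T, a k • ∏ i, s (k i) := by
        rw [map_sum]
        apply Finset.sum_congr rfl
        intro k _
        rw [map_smul]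
        rfl
      rw [← this]
      exact hx
    obtain ⟨L, hL1, hL2⟩ := hL ι
    have h3 := hL1 _ h2
    rw [map_sum] at h3
    apply theta_ellOf_injective v sec hsec ι
    rw [map_zero, map_sum, ← h3]
    apply Finset.sum_congr rfl
    intro k _
    rw [map_smul, map_smul, SymPoly.theta_tprod, hL2]
  · exact phi_surjective A B ι _ (phi_tprod_D A B ι s hs hs')


section Converse

variable (hB : PP16.IsDiffSmooth A B)
  (s : Ω[B⁄A] →ₗ[B] (B ⊗[A] B)) (hs : ∀ ω, s ω ∈ KaehlerDifferential.ideal A B)
  (hs' : ∀ ω, KaehlerDifferential.fromIdeal A B ⟨s ω, hs ω⟩ = ω)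

include hB hs' in
lemma phi_bijective (ι : Type u) [Fintype ι] : Function.Bijective (phi A B ι s hs) := by
  obtain ⟨φ, hφ, hbij⟩ := hB.2 ι
  have heq : φ = phi A B ι s hs := by
    apply SymPoly2.hom_ext_of_span (Set.range (KaehlerDifferential.D A B))
      (KaehlerDifferential.span_range_derivation A B)
    intro v hv
    choose b hb using hv
    have : v = fun i => KaehlerDifferential.D A B (b i) := funext (fun i => (hb i).symm)
    rw [this, hφ, phi_tprod_D A B ι s hs hs']
  rw [← heq]
  exact hbij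

include hB hs' in
lemma gr_projective (m : ℕ) : Module.Projective B (PP16.grI A B m) := by
  have hproj := hB.1
  have hc : Fintype.card (ULift.{u} (Fin m)) = m := by simp
  have key : ∀ k, k = m → Module.Projective B (PP16.grI A B k) →
      Module.Projective B (PP16.grI A B m) := by
    intro k hk h
    subst hk
    exact h
  apply key _ hc
  obtain ⟨sec, hsec⟩ := Module.projective_def'.mp hproj
  have h1 : Module.Projective B (SymmetricPower B (ULift.{u} (Fin m)) (Ω[B⁄A])) :=
    SymPoly2.projective_sym (ι := ULift.{u} (Fin m))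
      (Finsupp.basisSingleOne : Module.Basis (Ω[B⁄A]) B ((Ω[B⁄A]) →₀ B)) sec
      (Finsupp.linearCombination B id) (fun ω => LinearMap.congr_fun hsec ω)
  exact Module.Projective.of_equiv
    (LinearEquiv.ofBijective _ (phi_bijective hB s hs hs' (ULift.{u} (Fin m))))

include hB hs' in
lemma exists_retr (m : ℕ) : ∃ r : (B ⊗[A] B) →ₗ[B] (B ⊗[A] B),
    (∀ x, r x ∈ KaehlerDifferential.ideal A B ^ m) ∧
    ∀ x ∈ KaehlerDifferential.ideal A B ^ m, r x = x := by
  induction m with
  | zero =>
    refine ⟨LinearMap.id, fun x => ?_, fun x _ => rfl⟩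
    rw [pow_zero, Ideal.one_eq_top]
    trivial
  | succ m ih =>
    obtain ⟨r, hr1, hr2⟩ := ih
    have hproj := gr_projective hB s hs hs' m
    let q : ↥((KaehlerDifferential.ideal A B ^ m).restrictScalars B) →ₗ[B] PP16.grI A B m :=
      Submodule.mkQ _
    obtain ⟨σ, hσ⟩ := Module.projective_lifting_property q LinearMap.id
      (Submodule.mkQ_surjective _)
    let r' : (B ⊗[A] B) →ₗ[B] ↥((KaehlerDifferential.ideal A B ^ m).restrictScalars B) :=
      r.codRestrict _ hr1
    let t : ↥((KaehlerDifferential.ideal A B ^ m).restrictScalars B) →ₗ[B]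
        ↥((KaehlerDifferential.ideal A B ^ m).restrictScalars B) := LinearMap.id - σ ∘ₗ q
    refine ⟨((KaehlerDifferential.ideal A B ^ m).restrictScalars B).subtype ∘ₗ
      t ∘ₗ r', fun x => ?_, fun x hx => ?_⟩
    · have hq : q (t (r' x)) = 0 := by
        simp only [t]
        rw [LinearMap.sub_apply, map_sub, LinearMap.id_apply, LinearMap.comp_apply]
        have := LinearMap.congr_fun hσ (q (r' x))
        rw [LinearMap.comp_apply, LinearMap.id_apply] at this
        rw [this, sub_self]
      rw [Submodule.mkQ_apply, Submodule.Quotient.mk_eq_zero, Submodule.mem_comap] at hq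
      exact hq
    · have hxm : x ∈ KaehlerDifferential.ideal A B ^ m :=
        Ideal.pow_le_pow_right (Nat.le_succ m) hx
      have hr'x : r' x = ⟨x, hxm⟩ := Subtype.ext (hr2 x hxm)
      have hq0 : q ⟨x, hxm⟩ = 0 := by
        rw [Submodule.mkQ_apply, Submodule.Quotient.mk_eq_zero, Submodule.mem_comap]
        exact hx
      simp only [t, LinearMap.coe_comp, Function.comp_apply, LinearMap.sub_apply,
        LinearMap.id_apply, hr'x, hq0, map_zero, sub_zero]
      rfl

include hB hs' in
theorem hasCert_of_isDiffSmooth : HasCert A B := by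
  have hproj := hB.1
  obtain ⟨sec, hsec⟩ := Module.projective_def'.mp hproj
  refine ⟨Ω[B⁄A], id, sec, s, hs, fun ω => LinearMap.congr_fun hsec ω, hs', ?_⟩
  intro ι _
  obtain ⟨r, hr1, hr2⟩ := exists_retr hB s hs hs' (Fintype.card ι)
  let q : ↥((KaehlerDifferential.ideal A B ^ Fintype.card ι).restrictScalars B) →ₗ[B]
      PP16.grI A B (Fintype.card ι) := Submodule.mkQ _
  let r' : (B ⊗[A] B) →ₗ[B]
      ↥((KaehlerDifferential.ideal A B ^ Fintype.card ι).restrictScalars B) :=
    r.codRestrict _ hr1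
  let e := LinearEquiv.ofBijective _ (phi_bijective hB s hs hs' ι)
  refine ⟨SymPoly.theta ι (ellOf A B sec) ∘ₗ e.symm.toLinearMap ∘ₗ q ∘ₗ r', ?_, ?_⟩
  · intro x hx
    have hxm : x ∈ KaehlerDifferential.ideal A B ^ Fintype.card ι :=
      Ideal.pow_le_pow_right (Nat.le_succ _) hx
    have hr'x : r' x = ⟨x, hxm⟩ := Subtype.ext (hr2 x hxm)
    have hq0 : q ⟨x, hxm⟩ = 0 := by
      rw [Submodule.mkQ_apply, Submodule.Quotient.mk_eq_zero, Submodule.mem_comap]
      exact hx
    simp only [LinearMap.coe_comp, Function.comp_apply, hr'x, hq0, map_zero]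
  · intro ω
    have hmem := prod_s_mem A B ι s hs ω
    have hr'x : r' (∏ i, s (ω i)) = ⟨∏ i, s (ω i), hmem⟩ := Subtype.ext (hr2 _ hmem)
    have hq : q ⟨∏ i, s (ω i), hmem⟩ = e (SymmetricPower.tprod B ω) := by
      rw [LinearEquiv.ofBijective_apply, phi_tprod]
      rfl
    simp only [LinearMap.coe_comp, Function.comp_apply, hr'x, hq, LinearEquiv.coe_coe,
      LinearEquiv.symm_apply_apply, SymPoly.theta_tprod]

end Converse

end Groth.Agent.Lib.Helper26.PPCert
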