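import Mathlib
import Groth.Prelude.Def_PP16
import Groth.Agent.Lib.Helper26.SymLift
import Groth.Agent.Lib.Helper26.PPGen
import Groth.Agent.Lib.Helper26.PPMain1
import Groth.Agent.Lib.Helper26.SymPoly
import Groth.Agent.Lib.Helper26.SymPoly2
import Groth.Agent.Lib.Helper26.PPCert

set_option autoImplicit false
universe u
open TensorProduct

namespace Groth.Agent.Lib.Helper26.PPBC

open Groth.Agent.Lib.Helper26 Groth.Agent.Lib.Helper26.PPMain1 Groth.Agent.Lib.Helper26.PPCert

variable (A B A' B' : Type u) [CommRing A] [CommRing B] [Algebra A B]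
  [CommRing A'] [CommRing B'] [Algebra A' B'] [Algebra A A'] [Algebra B B'] [Algebra A B']
  [IsScalarTower A A' B'] [IsScalarTower A B B']

/-- The comparison map on differentials. -/
noncomputable abbrev iota : Ω[B⁄A] →ₗ[B] Ω[B'⁄A'] := KaehlerDifferential.map A A' B B'

/-- The comparison map on `B ⊗ B`. -/
noncomputable abbrev tau : B ⊗[A] B →ₐ[A] B' ⊗[A'] B' := PP16.tensorMap A B A' B'

lemma tau_zeta (b : B) : tau A B A' B' (zeta A B b) = zeta A' B' (algebraMap B B' b) := by
  unfold zeta
  rw [map_sub, PP16.tensorMap_tmul, PP16.tensorMap_tmul, map_one]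

lemma tau_mem {x : B ⊗[A] B} (hx : x ∈ KaehlerDifferential.ideal A B) :
    tau A B A' B' x ∈ KaehlerDifferential.ideal A' B' :=
  PP16.ideal_map_tensorMap_le A B A' B' (Ideal.mem_map_of_mem _ hx)

lemma tau_mem_pow {x : B ⊗[A] B} (n : ℕ) (hx : x ∈ KaehlerDifferential.ideal A B ^ n) :
    tau A B A' B' x ∈ KaehlerDifferential.ideal A' B' ^ n := by
  have h1 : (KaehlerDifferential.ideal A B ^ n).map (tau A B A' B') ≤
      KaehlerDifferential.ideal A' B' ^ n := by
    rw [Ideal.map_pow]
    exact Ideal.pow_right_mono (PP16.ideal_map_tensorMap_le A B A' B') n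
  exact h1 (Ideal.mem_map_of_mem _ hx)

lemma tensorProductTo_tau (x : B ⊗[A] B) :
    (KaehlerDifferential.D A' B').tensorProductTo (tau A B A' B' x) =
      iota A B A' B' ((KaehlerDifferential.D A B).tensorProductTo x) := by
  induction x using TensorProduct.induction_on with
  | zero => simp
  | tmul b c =>
    rw [PP16.tensorMap_tmul, Derivation.tensorProductTo_tmul, Derivation.tensorProductTo_tmul,
      map_smul, KaehlerDifferential.map_D, algebraMap_smul]
  | add x y hx hy => rw [map_add, map_add, map_add, map_add, hx, hy]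

lemma fromIdeal_tau (x : B ⊗[A] B) (hx : x ∈ KaehlerDifferential.ideal A B) :
    KaehlerDifferential.fromIdeal A' B' ⟨tau A B A' B' x, tau_mem A B A' B' hx⟩ =
      iota A B A' B' (KaehlerDifferential.fromIdeal A B ⟨x, hx⟩) := by
  have h1 := KaehlerDifferential.D_tensorProductTo
    (⟨tau A B A' B' x, tau_mem A B A' B' hx⟩ : KaehlerDifferential.ideal A' B')
  have h2 := KaehlerDifferential.D_tensorProductTo (⟨x, hx⟩ : KaehlerDifferential.ideal A B)
  change _ = KaehlerDifferential.fromIdeal A' B' _ at h1
  change _ = KaehlerDifferential.fromIdeal A B _ at h2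
  rw [← h1, ← h2]
  exact tensorProductTo_tau A B A' B' x


section Span

variable [Algebra.IsPushout A B A' B']

lemma isBaseChange_right :
    IsBaseChange A' (IsScalarTower.toAlgHom A B B').toLinearMap :=
  (Algebra.IsPushout.symm (inferInstance : Algebra.IsPushout A B A' B')).out

/-- The `B'`-span of the image of `I^n`. -/
noncomputable def W (n : ℕ) : Submodule B' (B' ⊗[A'] B') :=
  Submodule.span B' ((tau A B A' B') '' (KaehlerDifferential.ideal A B ^ n : Ideal (B ⊗[A] B)))

lemma smul_eq_algebraMap_smul (a : A') (y : B' ⊗[A'] B') :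
    a • y = (algebraMap A' B' a) • y := (algebraMap_smul B' a y).symm

lemma top_le_W0 : (⊤ : Submodule B' (B' ⊗[A'] B')) ≤ W A B A' B' 0 := by
  suffices h : ∀ x : B' ⊗[A'] B', x ∈ W A B A' B' 0 from fun x _ => h x
  intro x
  induction x using TensorProduct.induction_on with
  | zero => exact zero_mem _
  | tmul b c =>
    have h1 : b ⊗ₜ[A'] c = b • ((1 : B') ⊗ₜ[A'] c) := by
      rw [TensorProduct.smul_tmul', smul_eq_mul, mul_one]
    rw [h1]
    apply Submodule.smul_mem
    refine (isBaseChange_right A B A' B').inductionOn c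
      (fun c => (1 : B') ⊗ₜ[A'] c ∈ W A B A' B' 0) ?_ ?_ ?_ ?_
    · rw [TensorProduct.tmul_zero]
      exact zero_mem _
    · intro b0
      apply Submodule.subset_span
      refine ⟨(1 : B) ⊗ₜ[A] b0, ?_, ?_⟩
      · rw [pow_zero, Ideal.one_eq_top]
        trivial
      · rw [PP16.tensorMap_tmul, map_one]
        rfl
    · intro a n hn
      rw [TensorProduct.tmul_smul, smul_eq_algebraMap_smul]
      exact Submodule.smul_mem _ _ hn
    · intro n1 n2 h1 h2
      rw [TensorProduct.tmul_add]
      exact Submodule.add_mem _ h1 h2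
  | add x y hx hy => exact Submodule.add_mem _ hx hy

lemma zeta_mem_W1 (c : B') : zeta A' B' c ∈ W A B A' B' 1 := by
  refine (isBaseChange_right A B A' B').inductionOn c
    (fun c => zeta A' B' c ∈ W A B A' B' 1) ?_ ?_ ?_ ?_
  · unfold zeta
    rw [TensorProduct.tmul_zero, TensorProduct.zero_tmul, sub_zero]
    exact zero_mem _
  · intro b0
    apply Submodule.subset_span
    refine ⟨zeta A B b0, ?_, ?_⟩
    · rw [pow_one]
      exact zeta_mem A B b0
    · rw [tau_zeta]
      rfl
  · intro a n hn
    have : zeta A' B' (a • n) = (algebraMap A' B' a) • zeta A' B' n := by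
      unfold zeta
      rw [TensorProduct.tmul_smul, ← TensorProduct.smul_tmul', ← smul_sub,
        smul_eq_algebraMap_smul]
    rw [this]
    exact Submodule.smul_mem _ _ hn
  · intro n1 n2 h1 h2
    have : zeta A' B' (n1 + n2) = zeta A' B' n1 + zeta A' B' n2 := by
      unfold zeta
      rw [TensorProduct.tmul_add, TensorProduct.add_tmul]
      abel
    rw [this]
    exact Submodule.add_mem _ h1 h2

lemma W_mul_le (m n : ℕ) : W A B A' B' m * W A B A' B' n ≤ W A B A' B' (m + n) := by
  unfold W
  rw [Submodule.span_mul_span, Submodule.span_le]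
  rintro _ ⟨_, ⟨x, hx, rfl⟩, _, ⟨y, hy, rfl⟩, rfl⟩
  apply Submodule.subset_span
  refine ⟨x * y, ?_, map_mul _ _ _⟩
  rw [pow_add]
  exact Ideal.mul_mem_mul hx hy

lemma ideal_pow_le_W (n : ℕ) :
    (KaehlerDifferential.ideal A' B' ^ n).restrictScalars B' ≤ W A B A' B' n := by
  induction n with
  | zero =>
    intro x _
    exact top_le_W0 A B A' B' trivial
  | succ n ih =>
    intro x hx
    have hx' : x ∈ KaehlerDifferential.ideal A' B' * KaehlerDifferential.ideal A' B' ^ n := by
      rw [← pow_succ']
      exact hx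
    refine Submodule.mul_induction_on hx' ?_ ?_
    · intro u hu v hv
      have hu1 : u ∈ W A B A' B' 1 := by
        have h1 := mem_span_zeta A' B' hu
        have h2 : Submodule.span B' (Set.range fun c : B' => zeta A' B' c) ≤ W A B A' B' 1 := by
          rw [Submodule.span_le]
          rintro _ ⟨c, rfl⟩
          exact zeta_mem_W1 A B A' B' c
        exact h2 h1
      have hv1 : v ∈ W A B A' B' n := ih hv
      have := W_mul_le A B A' B' 1 n (Submodule.mul_mem_mul hu1 hv1)
      rwa [add_comm] at this
    · intro a c ha hc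
      exact Submodule.add_mem _ ha hc

end Span


section OmegaBC

variable [Algebra.IsPushout A B A' B']

lemma isBaseChange_iota : IsBaseChange B' (iota A B A' B') := by
  have hsymm : Algebra.IsPushout A A' B B' :=
    Algebra.IsPushout.symm (inferInstance : Algebra.IsPushout A B A' B')
  apply IsBaseChange.of_equiv (KaehlerDifferential.tensorKaehlerEquiv A A' B B')
  intro x
  have hx : x ∈ Submodule.span B (Set.range (KaehlerDifferential.D A B)) := by
    rw [KaehlerDifferential.span_range_derivation]
    trivial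
  induction hx using Submodule.span_induction with
  | mem x hx =>
    obtain ⟨b, rfl⟩ := hx
    rw [KaehlerDifferential.tensorKaehlerEquiv_tmul_D, one_smul, KaehlerDifferential.map_D]
  | zero => rw [TensorProduct.tmul_zero, map_zero, map_zero]
  | add x y _ _ hx hy => rw [TensorProduct.tmul_add, map_add, map_add, hx, hy]
  | smul b x _ hx =>
    have h1 : (1 : B') ⊗ₜ[B] (b • x) = (algebraMap B B' b) • ((1 : B') ⊗ₜ[B] x) := by
      rw [TensorProduct.tmul_smul, ← algebraMap_smul B' b ((1 : B') ⊗ₜ[B] x)]
    rw [h1, map_smul, hx, map_smul, algebraMap_smul]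

lemma span_range_iota : Submodule.span B' (Set.range (iota A B A' B')) = ⊤ := by
  rw [eq_top_iff]
  intro x _
  refine (isBaseChange_iota A B A' B').inductionOn x
    (fun x => x ∈ Submodule.span B' (Set.range (iota A B A' B'))) ?_ ?_ ?_ ?_
  · exact zero_mem _
  · intro m
    exact Submodule.subset_span ⟨m, rfl⟩
  · intro s n hn
    exact Submodule.smul_mem _ _ hn
  · intro n1 n2 h1 h2
    exact Submodule.add_mem _ h1 h2

end OmegaBC


section Lift

variable [Algebra.IsPushout A B A' B'] {J : Type u}

/-- Base change of polynomials, as a `B`-algebra map. -/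
noncomputable abbrev mp : MvPolynomial J B →ₐ[B] MvPolynomial J B' :=
  MvPolynomial.aeval (R := B) (S₁ := MvPolynomial J B') (fun j => MvPolynomial.X j)

variable (L : (B ⊗[A] B) →ₗ[B] MvPolynomial J B)

/-- The `A`-linear map `b ↦ L(1 ⊗ b)` pushed to `B'`-polynomials. -/
noncomputable def M0 : B →ₗ[A] MvPolynomial J B' :=
  ((mp B B' (J := J)).toLinearMap.restrictScalars A) ∘ₗ (L.restrictScalars A) ∘ₗ
    (Algebra.TensorProduct.includeRight : B →ₐ[A] B ⊗[A] B).toLinearMap

lemma M0_apply (b : B) : M0 A B B' L b = mp B B' (L ((1 : B) ⊗ₜ[A] b)) := rfl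

/-- Its `A'`-linear extension to `B'`. -/
noncomputable def M1 : B' →ₗ[A'] MvPolynomial J B' :=
  (isBaseChange_right A B A' B').lift (M0 A B B' L)

lemma M1_apply (b : B) : M1 A B A' B' L (algebraMap B B' b) = mp B B' (L ((1 : B) ⊗ₜ[A] b)) := by
  have := (isBaseChange_right A B A' B').lift_eq (M0 A B B' L) b
  exact this

/-- The base change of `L`. -/
noncomputable def Lbc : (B' ⊗[A'] B') →ₗ[B'] MvPolynomial J B' :=
  TensorProduct.AlgebraTensorModule.lift
    (LinearMap.toSpanSingleton B' (B' →ₗ[A'] MvPolynomial J B') (M1 A B A' B' L))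

lemma Lbc_tmul (b c : B') : Lbc A B A' B' L (b ⊗ₜ[A'] c) = b • M1 A B A' B' L c := by
  rw [Lbc, TensorProduct.AlgebraTensorModule.lift_tmul, LinearMap.toSpanSingleton_apply,
    LinearMap.smul_apply]

lemma Lbc_tau (x : B ⊗[A] B) : Lbc A B A' B' L (tau A B A' B' x) = mp B B' (L x) := by
  induction x using TensorProduct.induction_on with
  | zero => simp
  | tmul b c =>
    rw [PP16.tensorMap_tmul, Lbc_tmul, M1_apply]
    have h1 : b ⊗ₜ[A] c = b • ((1 : B) ⊗ₜ[A] c) := by
      rw [TensorProduct.smul_tmul', smul_eq_mul, mul_one]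
    rw [h1, map_smul, map_smul, algebraMap_smul]
  | add x y hx hy => rw [map_add, map_add, map_add, map_add, hx, hy]

lemma Lbc_eq_zero (n : ℕ) (hL : ∀ x ∈ KaehlerDifferential.ideal A B ^ n, L x = 0)
    (x : B' ⊗[A'] B') (hx : x ∈ KaehlerDifferential.ideal A' B' ^ n) :
    Lbc A B A' B' L x = 0 := by
  have key : ∀ w ∈ W A B A' B' n, Lbc A B A' B' L w = 0 := by
    intro w hW
    unfold W at hW
    induction hW using Submodule.span_induction with
    | mem w hw =>
      obtain ⟨y, hy, rfl⟩ := hw
      rw [Lbc_tau, hL y hy, map_zero]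
    | zero => exact map_zero _
    | add w1 w2 _ _ h1 h2 => rw [map_add, h1, h2, add_zero]
    | smul c w _ h1 => rw [map_smul, h1, smul_zero]
  exact key x (ideal_pow_le_W A B A' B' n hx)

end Lift


section Sec

variable [Algebra.IsPushout A B A' B'] {J : Type u}

/-- Coefficientwise base change of finitely supported functions. -/
noncomputable abbrev mr : (J →₀ B) →ₗ[B] (J →₀ B') :=
  Finsupp.mapRange.linearMap (Algebra.linearMap B B')

variable (sec : Ω[B⁄A] →ₗ[B] (J →₀ B)) (v : J → Ω[B⁄A])

/-- The base change of the coordinate map. -/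
noncomputable def secbc : Ω[B'⁄A'] →ₗ[B'] (J →₀ B') :=
  (isBaseChange_iota A B A' B').lift (mr B B' (J := J) ∘ₗ sec)

lemma secbc_iota (ω : Ω[B⁄A]) :
    secbc A B A' B' sec (iota A B A' B' ω) = mr B B' (sec ω) :=
  (isBaseChange_iota A B A' B').lift_eq _ ω

lemma linearCombination_mr (f : J →₀ B) :
    Finsupp.linearCombination B' (fun j => iota A B A' B' (v j)) (mr B B' f) =
      iota A B A' B' (Finsupp.linearCombination B v f) := by
  induction f using Finsupp.induction_linear with
  | zero => simp
  | add f g hf hg => rw [map_add, map_add, map_add, map_add, hf, hg]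
  | single j b =>
    rw [Finsupp.linearCombination_single, map_smul]
    simp only [Finsupp.mapRange.linearMap_apply, Finsupp.mapRange_single,
      Algebra.linearMap_apply, Finsupp.linearCombination_single, algebraMap_smul]

lemma linearCombination_X_mr (f : J →₀ B) :
    Finsupp.linearCombination B' (fun j => (MvPolynomial.X j : MvPolynomial J B')) (mr B B' f) =
      mp B B' (Finsupp.linearCombination B
        (fun j => (MvPolynomial.X j : MvPolynomial J B)) f) := by
  induction f using Finsupp.induction_linear with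
  | zero => simp
  | add f g hf hg => rw [map_add, map_add, map_add, map_add, hf, hg]
  | single j b =>
    rw [Finsupp.linearCombination_single, map_smul, MvPolynomial.aeval_X]
    simp only [Finsupp.mapRange.linearMap_apply, Finsupp.mapRange_single,
      Algebra.linearMap_apply, Finsupp.linearCombination_single, algebraMap_smul]

lemma ellOf_secbc_iota (ω : Ω[B⁄A]) :
    ellOf A' B' (secbc A B A' B' sec) (iota A B A' B' ω) = mp B B' (ellOf A B sec ω) := by
  unfold ellOf
  rw [LinearMap.comp_apply, LinearMap.comp_apply, secbc_iota, linearCombination_X_mr]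

lemma hsecbc (hsec : ∀ ω, Finsupp.linearCombination B v (sec ω) = ω) (ω' : Ω[B'⁄A']) :
    Finsupp.linearCombination B' (fun j => iota A B A' B' (v j))
      (secbc A B A' B' sec ω') = ω' := by
  have h := (isBaseChange_iota A B A' B').algHom_ext
    (Finsupp.linearCombination B' (fun j => iota A B A' B' (v j)) ∘ₗ secbc A B A' B' sec)
    LinearMap.id (fun ω => by
      rw [LinearMap.comp_apply, secbc_iota, linearCombination_mr, hsec, LinearMap.id_apply])
  exact LinearMap.congr_fun h ω'

end Sec


section Main

variable [Algebra.IsPushout A B A' B']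

theorem hasCert_baseChange (h : HasCert A B) : HasCert A' B' := by
  classical
  obtain ⟨J, v, sec, s, hs, hsec, hs', hL⟩ := h
  have hsec' := hsecbc A B A' B' sec v hsec
  have hproj : Module.Projective B' (Ω[B'⁄A']) :=
    Module.Projective.of_split (secbc A B A' B' sec)
      (Finsupp.linearCombination B' (fun j => iota A B A' B' (v j))) (LinearMap.ext hsec')
  obtain ⟨s', hs1, hs1'⟩ := exists_section A' B'
  refine ⟨J, fun j => iota A B A' B' (v j), secbc A B A' B' sec, s', hs1, hsec', hs1', ?_⟩
  intro ι _
  obtain ⟨L, hL1, hL2⟩ := hL ι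
  refine ⟨Lbc A B A' B' L, Lbc_eq_zero A B A' B' L _ hL1, ?_⟩
  -- the two linear maps on the symmetric power
  let Ψ₁ : SymmetricPower B' ι (Ω[B'⁄A']) →ₗ[B'] MvPolynomial J B' :=
    SymLift.symLift ((Lbc A B A' B' L).compMultilinearMap
      ((MultilinearMap.mkPiAlgebra B' ι (B' ⊗[A'] B')).compLinearMap (fun _ => s')))
      (fun σ w => by
        simp only [LinearMap.compMultilinearMap_apply, MultilinearMap.compLinearMap_apply,
          MultilinearMap.mkPiAlgebra_apply]
        congr 1
        exact Equiv.prod_comp σ (fun i => s' (w i)))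
  have hΨ₁ : ∀ w : ι → Ω[B'⁄A'], Ψ₁ (SymmetricPower.tprod B' w) =
      Lbc A B A' B' L (∏ i, s' (w i)) := by
    intro w
    simp only [Ψ₁, SymLift.symLift_tprod, LinearMap.compMultilinearMap_apply,
      MultilinearMap.compLinearMap_apply, MultilinearMap.mkPiAlgebra_apply]
  have heq : Ψ₁ = SymPoly.theta ι (ellOf A' B' (secbc A B A' B' sec)) := by
    apply SymPoly2.hom_ext_of_span (Set.range (iota A B A' B')) (span_range_iota A B A' B')
    intro w' hw'
    choose w hw using hw'
    have hwf : w' = fun i => iota A B A' B' (w i) := funext (fun i => (hw i).symm)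
    rw [hwf, hΨ₁, SymPoly.theta_tprod]
    -- compare `s' (ι w)` with `τ (s w)`
    have hd : ∀ i, s' (iota A B A' B' (w i)) - tau A B A' B' (s (w i)) ∈
        KaehlerDifferential.ideal A' B' ^ 2 := by
      intro i
      have e1 := hs1' (iota A B A' B' (w i))
      have e2 := fromIdeal_tau A B A' B' (s (w i)) (hs (w i))
      rw [hs' (w i)] at e2
      have e3 : (KaehlerDifferential.ideal A' B').toCotangent
          ⟨s' (iota A B A' B' (w i)), hs1 _⟩ =
          (KaehlerDifferential.ideal A' B').toCotangent
          ⟨tau A B A' B' (s (w i)), tau_mem A B A' B' (hs (w i))⟩ := e1.trans e2.symm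
      rw [Ideal.toCotangent_eq] at e3
      exact e3
    have hprod : (∏ i, s' (iota A B A' B' (w i))) - ∏ i, tau A B A' B' (s (w i)) ∈
        KaehlerDifferential.ideal A' B' ^ (Fintype.card ι + 1) := by
      have := PPGen.prod_sub_prod_mem (KaehlerDifferential.ideal A' B') Finset.univ
        (fun i => s' (iota A B A' B' (w i))) (fun i => tau A B A' B' (s (w i)))
        (fun i _ => hs1 _) (fun i _ => tau_mem A B A' B' (hs (w i))) (fun i _ => hd i)
      rwa [Finset.card_univ] at this
    have h0 := Lbc_eq_zero A B A' B' L _ hL1 _ hprod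
    rw [map_sub, sub_eq_zero] at h0
    rw [h0, ← map_prod, Lbc_tau, hL2, map_prod]
    apply Finset.prod_congr rfl
    intro i _
    rw [ellOf_secbc_iota]
  intro ω'
  rw [← hΨ₁, heq, SymPoly.theta_tprod]

theorem main (h : PP16.IsDiffSmooth A B) : PP16.IsDiffSmooth A' B' := by
  have hproj := h.1
  obtain ⟨s, hs, hs'⟩ := exists_section A B
  exact isDiffSmooth_of_hasCert
    (hasCert_baseChange A B A' B' (hasCert_of_isDiffSmooth h s hs hs'))

end Main

end Groth.Agent.Lib.Helper26.PPBC
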