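import Mathlib
import Groth.Prelude.Def_PP16
import Groth.Agent.Lib.Helper26.SymLift
import Groth.Agent.Lib.Helper26.PPGen
import Groth.Agent.Lib.Helper26.PPMain1
import Groth.Agent.Lib.Helper26.SymPoly

set_option autoImplicit false
universe u
open TensorProduct

namespace Groth.Agent.Lib.Helper26.PPBasis

open Groth.Agent.Lib.Helper26 Groth.Agent.Lib.Helper26.PPMain1

variable {A B : Type u} [CommRing A] [CommRing B] [Algebra A B]
variable {ι : Type} [Fintype ι] (z : ι → B)

/-- The monomial `ζ^p` in the elements `ζ_i = 1 ⊗ z_i - z_i ⊗ 1`. -/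
noncomputable def zpow (p : ι → ℕ) : B ⊗[A] B := ∏ i, zeta A B (z i) ^ p i

lemma zpow_mem (p : ι → ℕ) : zpow (A := A) z p ∈ KaehlerDifferential.ideal A B ^ (∑ i, p i) := by
  unfold zpow
  rw [← Finset.prod_pow_eq_pow_sum]
  exact Ideal.prod_mem_prod (fun i _ => Ideal.pow_mem_pow (zeta_mem A B (z i)) (p i))

lemma zpow_add (p q : ι → ℕ) : zpow (A := A) z (p + q) = zpow z p * zpow z q := by
  unfold zpow
  rw [← Finset.prod_mul_distrib]
  apply Finset.prod_congr rfl
  intro i _
  rw [Pi.add_apply, pow_add]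

lemma zpow_zero : zpow (A := A) z 0 = 1 := by
  unfold zpow
  simp

lemma zpow_single [DecidableEq ι] (i : ι) : zpow (A := A) z (Pi.single i 1) = zeta A B (z i) := by
  unfold zpow
  rw [Fintype.prod_eq_single i]
  · rw [Pi.single_eq_same, pow_one]
  · intro j hj
    rw [Pi.single_eq_of_ne hj, pow_zero]

/-- The span of the monomials of degree exactly `n`. -/
noncomputable def V (n : ℕ) : Submodule B (B ⊗[A] B) :=
  Submodule.span B ((zpow (A := A) z) '' {p | ∑ i, p i = n})

/-- The span of the monomials of degree at most `m`. -/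
noncomputable def U (m : ℕ) : Submodule B (B ⊗[A] B) :=
  Submodule.span B ((zpow (A := A) z) '' {p | ∑ i, p i ≤ m})

lemma V_le (n : ℕ) : V (A := A) z n ≤ (KaehlerDifferential.ideal A B ^ n).restrictScalars B := by
  unfold V
  rw [Submodule.span_le]
  rintro _ ⟨p, hp, rfl⟩
  have := zpow_mem (A := A) z p
  rw [Set.mem_ofPred_eq] at hp
  rw [hp] at this
  exact this

lemma V_le_U {n m : ℕ} (h : n ≤ m) : V (A := A) z n ≤ U z m := by
  apply Submodule.span_mono
  apply Set.image_mono
  intro p hp
  rw [Set.mem_ofPred_eq] at hp ⊢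
  omega

lemma U_mono {n m : ℕ} (h : n ≤ m) : U (A := A) z n ≤ U z m := by
  apply Submodule.span_mono
  apply Set.image_mono
  intro p hp
  rw [Set.mem_ofPred_eq] at hp ⊢
  omega

lemma V_mul_le (a b : ℕ) : V (A := A) z a * V z b ≤ V z (a + b) := by
  unfold V
  rw [Submodule.span_mul_span, Submodule.span_le]
  rintro _ ⟨_, ⟨p, hp, rfl⟩, _, ⟨q, hq, rfl⟩, rfl⟩
  apply Submodule.subset_span
  rw [Set.mem_ofPred_eq] at hp hq
  refine ⟨p + q, ?_, zpow_add z p q⟩
  rw [Set.mem_ofPred_eq]
  simp only [Pi.add_apply, Finset.sum_add_distrib, hp, hq]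


section Span

variable [DecidableEq ι] (b : Module.Basis ι B (Ω[B⁄A]))
  (hb : ∀ i, b i = KaehlerDifferential.D A B (z i))

include hb in
lemma ideal_le : (KaehlerDifferential.ideal A B).restrictScalars B ≤
    V z 1 ⊔ (KaehlerDifferential.ideal A B ^ 2).restrictScalars B := by
  intro x hx
  have hx' : x ∈ KaehlerDifferential.ideal A B := hx
  let f : ↥(KaehlerDifferential.ideal A B) →ₗ[B] Ω[B⁄A] :=
    (KaehlerDifferential.fromIdeal A B).restrictScalars B
  set ω := f ⟨x, hx'⟩ with hω
  let y : ↥(KaehlerDifferential.ideal A B) :=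
    ⟨x, hx'⟩ - ∑ i, (b.repr ω i) • (⟨zeta A B (z i), zeta_mem A B (z i)⟩ :
      ↥(KaehlerDifferential.ideal A B))
  have hfz : ∀ i, f ⟨zeta A B (z i), zeta_mem A B (z i)⟩ = b i := by
    intro i
    rw [hb i, KaehlerDifferential.D_apply]
    rfl
  have hy : f y = 0 := by
    simp only [y, map_sub, map_sum, map_smul, hfz]
    rw [← hω, b.sum_repr, sub_self]
  have hy2 : (y : B ⊗[A] B) ∈ KaehlerDifferential.ideal A B ^ 2 :=
    (Ideal.toCotangent_eq_zero _ y).mp hy
  have hyc : (y : B ⊗[A] B) = x - ∑ i, (b.repr ω i) • zeta A B (z i) := by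
    simp only [y, Submodule.coe_sub, Submodule.coe_sum, Submodule.coe_smul_of_tower]
  rw [Submodule.mem_sup]
  refine ⟨∑ i, (b.repr ω i) • zeta A B (z i), ?_, (y : B ⊗[A] B), hy2, ?_⟩
  · apply Submodule.sum_mem
    intro i _
    apply Submodule.smul_mem
    apply Submodule.subset_span
    exact ⟨Pi.single i 1, by simp [Set.mem_ofPred_eq], zpow_single z i⟩
  · rw [hyc]
    abel

include hb in
lemma pow_le (n : ℕ) : (KaehlerDifferential.ideal A B ^ n).restrictScalars B ≤
    V z n ⊔ (KaehlerDifferential.ideal A B ^ (n + 1)).restrictScalars B := by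
  induction n with
  | zero =>
    intro x _
    rw [Submodule.mem_sup]
    refine ⟨(Algebra.TensorProduct.lmul' A x) • (1 : B ⊗[A] B), ?_,
      x - (Algebra.TensorProduct.lmul' A x) • (1 : B ⊗[A] B), ?_, by abel⟩
    · apply Submodule.smul_mem
      apply Submodule.subset_span
      exact ⟨0, by simp [Set.mem_ofPred_eq], zpow_zero z⟩
    · rw [zero_add, pow_one]
      exact sub_lmul_mem x
  | succ n ih =>
    intro x hx
    have hx' : x ∈ KaehlerDifferential.ideal A B * KaehlerDifferential.ideal A B ^ n := by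
      rw [← pow_succ']
      exact hx
    refine Submodule.mul_induction_on hx' ?_ ?_
    · intro u hu v hv
      obtain ⟨u1, hu1, u2, hu2, rfl⟩ := Submodule.mem_sup.mp (ideal_le z b hb hu)
      obtain ⟨v1, hv1, v2, hv2, hv12⟩ := Submodule.mem_sup.mp (ih hv)
      have hu1I : u1 ∈ KaehlerDifferential.ideal A B := by
        have := V_le (A := A) z 1 hu1
        rwa [pow_one] at this
      have huv : u1 * v1 ∈ V (A := A) z (n + 1) := by
        have := V_mul_le z 1 n (Submodule.mul_mem_mul hu1 hv1)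
        rwa [add_comm] at this
      rw [Submodule.mem_sup]
      refine ⟨u1 * v1, huv, u1 * v2 + u2 * v, ?_, ?_⟩
      · apply Submodule.add_mem
        · have := Ideal.mul_mem_mul hu1I hv2
          rw [← pow_succ'] at this
          exact this
        · have := Ideal.mul_mem_mul hu2 hv
          rw [← pow_add] at this
          have h2 : 2 + n = n + 1 + 1 := by omega
          rw [h2] at this
          exact this
      · rw [← hv12]
        ring
    · intro a c ha hc
      exact Submodule.add_mem _ ha hc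

include hb in
lemma top_le (m : ℕ) : (⊤ : Submodule B (B ⊗[A] B)) ≤
    U z m ⊔ (KaehlerDifferential.ideal A B ^ (m + 1)).restrictScalars B := by
  induction m with
  | zero =>
    intro x _
    have h0 : x ∈ (KaehlerDifferential.ideal A B ^ 0).restrictScalars B := by
      rw [pow_zero, Ideal.one_eq_top]
      trivial
    exact sup_le_sup_right (V_le_U z (le_refl 0)) _ (pow_le z b hb 0 h0)
  | succ m ih =>
    calc (⊤ : Submodule B (B ⊗[A] B))
        ≤ U z m ⊔ (KaehlerDifferential.ideal A B ^ (m + 1)).restrictScalars B := ih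
      _ ≤ U z m ⊔ (V z (m + 1) ⊔
            (KaehlerDifferential.ideal A B ^ (m + 1 + 1)).restrictScalars B) :=
          sup_le_sup_left (pow_le z b hb (m + 1)) _
      _ ≤ U z (m + 1) ⊔ (KaehlerDifferential.ideal A B ^ (m + 1 + 1)).restrictScalars B := by
          rw [← sup_assoc]
          exact sup_le_sup_right (sup_le (U_mono z (Nat.le_succ m)) (V_le_U z (le_refl _))) _

end Span


section Indep

/-- A function from `ULift (Fin n)` hitting each index `i` exactly `p i` times. -/
lemma exists_fn (p : ι → ℕ) (n : ℕ) (hp : ∑ i, p i = n) :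
    ∃ g : ULift.{u} (Fin n) → ι,
      ∀ (M : Type u) [CommMonoid M] (f : ι → M), ∏ j, f (g j) = ∏ i, f i ^ p i := by
  have hcard : Fintype.card (ULift.{u} (Fin n)) = Fintype.card (Σ i, Fin (p i)) := by
    simp [hp]
  let e : ULift.{u} (Fin n) ≃ Σ i, Fin (p i) := Fintype.equivOfCardEq hcard
  refine ⟨fun j => (e j).1, fun M _ f => ?_⟩
  rw [Equiv.prod_comp e (fun x => f x.1), Fintype.prod_sigma]
  apply Finset.prod_congr rfl
  intro i _
  show ∏ _y : Fin (p i), f i = _
  rw [Finset.prod_const, Finset.card_univ, Fintype.card_fin]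

variable [DecidableEq ι] (hB : PP16.IsDiffSmooth A B) (b : Module.Basis ι B (Ω[B⁄A]))
  (hb : ∀ i, b i = KaehlerDifferential.D A B (z i))

lemma prod_X_pow (p : ι → ℕ) :
    ∏ i, (MvPolynomial.X i : MvPolynomial ι B) ^ p i =
      MvPolynomial.monomial (Finsupp.equivFunOnFinite.symm p) 1 := by
  rw [MvPolynomial.monomial_eq, map_one, one_mul, Finsupp.prod_fintype]
  · rfl
  · intro i
    rw [pow_zero]

include hB hb in
theorem indep_graded (n : ℕ) {κ : Type} (T : Finset κ) (P : κ → ι → ℕ)
    (hinj : Set.InjOn P T) (hP : ∀ k ∈ T, ∑ i, P k i = n) (c : κ → B)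
    (h : ∑ k ∈ T, c k • zpow (A := A) z (P k) ∈ KaehlerDifferential.ideal A B ^ (n + 1)) :
    ∀ k ∈ T, c k = 0 := by
  classical
  have hcard : Fintype.card (ULift.{u} (Fin n)) = n := by simp
  rcases T.eq_empty_or_nonempty with hT | ⟨k1, hk1⟩
  · intro k hk
    rw [hT] at hk
    exact absurd hk (Finset.notMem_empty _)
  obtain ⟨g1, _⟩ := exists_fn.{u} (P k1) n (hP k1 hk1)
  have hne : Nonempty (ULift.{u} (Fin n) → ι) := ⟨g1⟩
  choose! g hg using fun k (hk : k ∈ T) => exists_fn.{u} (P k) n (hP k hk)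
  obtain ⟨φ, hφ, hφbij⟩ := hB.2 (ULift.{u} (Fin n))
  set x : SymmetricPower B (ULift.{u} (Fin n)) (Ω[B⁄A]) :=
    ∑ k ∈ T, c k • SymmetricPower.tprod B (fun j => KaehlerDifferential.D A B (z (g k j)))
    with hx
  have hprod : ∀ k ∈ T, ∏ j, zeta A B (z (g k j)) = zpow (A := A) z (P k) := by
    intro k hk
    exact hg k hk (B ⊗[A] B) (fun i => zeta A B (z i))
  have hmemk : ∀ k, ∏ j, zeta A B (z (g k j)) ∈
      (KaehlerDifferential.ideal A B ^ Fintype.card (ULift.{u} (Fin n))).restrictScalars B := by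
    intro k
    have := PPGen.prod_mem_pow (KaehlerDifferential.ideal A B) Finset.univ
      (fun j => zeta A B (z (g k j))) (fun j _ => zeta_mem A B _)
    rwa [Finset.card_univ] at this
  have hφx : φ x = 0 := by
    rw [hx, map_sum]
    have e1 : ∀ k ∈ T, φ (c k • SymmetricPower.tprod B
        (fun j => KaehlerDifferential.D A B (z (g k j)))) =
        c k • (Submodule.Quotient.mk ⟨∏ j, zeta A B (z (g k j)), hmemk k⟩ :
          PP16.grI A B (Fintype.card (ULift.{u} (Fin n)))) := by
      intro k _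
      rw [map_smul, hφ]
      rfl
    rw [Finset.sum_congr rfl e1]
    have e0 : ∀ (y : κ → ↥((KaehlerDifferential.ideal A B ^
        Fintype.card (ULift.{u} (Fin n))).restrictScalars B)),
        ∑ k ∈ T, c k • (Submodule.Quotient.mk (y k) :
          PP16.grI A B (Fintype.card (ULift.{u} (Fin n)))) =
        Submodule.Quotient.mk (∑ k ∈ T, c k • y k) := by
      intro y
      rw [← Submodule.mkQ_apply, map_sum]
      apply Finset.sum_congr rfl
      intro k _
      rw [map_smul]
      rfl
    refine (e0 (fun k => ⟨∏ j, zeta A B (z (g k j)), hmemk k⟩)).trans ?_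
    rw [Submodule.Quotient.mk_eq_zero, Submodule.mem_comap]
    have e2 : ((KaehlerDifferential.ideal A B ^ Fintype.card (ULift.{u} (Fin n))).restrictScalars
        B).subtype (∑ k ∈ T, c k • (⟨∏ j, zeta A B (z (g k j)), hmemk k⟩ :
          ↥((KaehlerDifferential.ideal A B ^ Fintype.card (ULift.{u} (Fin n))).restrictScalars
            B))) = ∑ k ∈ T, c k • zpow (A := A) z (P k) := by
      rw [map_sum]
      apply Finset.sum_congr rfl
      intro k hk
      rw [map_smul, ← hprod k hk]
      rfl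
    rw [e2, hcard]
    exact h
  have hx0 : x = 0 := hφbij.1 (by rw [hφx, map_zero])
  have hθ : SymPoly.theta (ULift.{u} (Fin n)) (SymPoly.ell b) x =
      ∑ k ∈ T, c k • MvPolynomial.monomial (Finsupp.equivFunOnFinite.symm (P k)) (1 : B) := by
    rw [hx, map_sum]
    apply Finset.sum_congr rfl
    intro k hk
    rw [map_smul, SymPoly.theta_tprod]
    congr 1
    have e3 : ∀ j, SymPoly.ell b (KaehlerDifferential.D A B (z (g k j))) =
        (MvPolynomial.X (g k j) : MvPolynomial ι B) := by
      intro j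
      rw [← hb, SymPoly.ell_basis]
    simp only [e3]
    rw [hg k hk (MvPolynomial ι B) (fun i => MvPolynomial.X i), prod_X_pow]
  rw [hx0, map_zero] at hθ
  intro k0 hk0
  have hc := congrArg (MvPolynomial.coeff (Finsupp.equivFunOnFinite.symm (P k0))) hθ
  rw [MvPolynomial.coeff_zero, MvPolynomial.coeff_sum] at hc
  rw [Finset.sum_eq_single k0] at hc
  · rw [MvPolynomial.coeff_smul, MvPolynomial.coeff_monomial, if_pos rfl, smul_eq_mul,
      mul_one] at hc
    exact hc.symm
  · intro k hk hne
    rw [MvPolynomial.coeff_smul, MvPolynomial.coeff_monomial, if_neg, smul_zero]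
    intro heq
    exact hne (hinj hk hk0 (Finsupp.equivFunOnFinite.symm.injective heq))
  · intro hk
    exact absurd hk0 hk

include hB hb in
theorem indep_core (m : ℕ) (s : Finset {p : ι → ℕ // ∑ i, p i ≤ m})
    (g : {p : ι → ℕ // ∑ i, p i ≤ m} → B)
    (h : ∑ p ∈ s, g p • zpow (A := A) z p.1 ∈ KaehlerDifferential.ideal A B ^ (m + 1)) :
    ∀ p ∈ s, g p = 0 := by
  classical
  have key : ∀ n, ∀ p ∈ s, ∑ i, p.1 i = n → g p = 0 := by
    intro n
    induction n using Nat.strong_induction_on with
    | _ n ih =>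
      intro p hp hpn
      have hn : n ≤ m := hpn ▸ p.2
      obtain ⟨T, hT⟩ : ∃ T : Finset {p : ι → ℕ // ∑ i, p i ≤ m},
          T = s.filter (fun q => ∑ i, q.1 i = n) := ⟨_, rfl⟩
      obtain ⟨T', hT'⟩ : ∃ T' : Finset {p : ι → ℕ // ∑ i, p i ≤ m},
          T' = s.filter (fun q => ¬ ∑ i, q.1 i = n) := ⟨_, rfl⟩
      have hsplit : ∑ q ∈ T, g q • zpow (A := A) z q.1 ∈
          KaehlerDifferential.ideal A B ^ (n + 1) := by
        have h1 := Finset.sum_filter_add_sum_filter_not s (fun q => ∑ i, q.1 i = n)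
          (fun q => g q • zpow (A := A) z q.1)
        rw [← hT, ← hT'] at h1
        have h2 : ∑ q ∈ T', g q • zpow (A := A) z q.1 ∈
            KaehlerDifferential.ideal A B ^ (n + 1) := by
          apply Ideal.sum_mem
          intro q hq
          rw [hT', Finset.mem_filter] at hq
          rcases Nat.lt_or_gt_of_ne hq.2 with hlt | hgt
          · rw [ih _ hlt q hq.1 rfl, zero_smul]
            exact zero_mem _
          · apply smul_mem_ideal
            exact Ideal.pow_le_pow_right (by omega) (zpow_mem z q.1)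
        have h3 : ∑ p ∈ s, g p • zpow (A := A) z p.1 ∈
            KaehlerDifferential.ideal A B ^ (n + 1) :=
          Ideal.pow_le_pow_right (by omega) h
        rw [← h1] at h3
        exact (Submodule.add_mem_iff_left _ h2).mp h3
      have hinj : Set.InjOn (fun q : {p : ι → ℕ // ∑ i, p i ≤ m} => q.1) ↑T :=
        Subtype.val_injective.injOn
      have hP : ∀ q ∈ T, ∑ i, (fun q : {p : ι → ℕ // ∑ i, p i ≤ m} => q.1) q i = n := by
        intro q hq
        rw [hT] at hq
        exact (Finset.mem_filter.mp hq).2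
      have hmem : p ∈ T := by
        rw [hT]
        exact Finset.mem_filter.mpr ⟨hp, hpn⟩
      have := indep_graded z hB b hb n T
        (fun q : {p : ι → ℕ // ∑ i, p i ≤ m} => q.1) hinj hP g hsplit
      exact this p hmem
  intro p hp
  exact key _ p hp rfl

end Indep


section Main

variable (A B)

theorem main (hB : PP16.IsDiffSmooth A B) (ι : Type) [Fintype ι] [DecidableEq ι] (z : ι → B)
    (hz : ∃ b : Module.Basis ι B (Ω[B⁄A]), ∀ i, b i = KaehlerDifferential.D A B (z i))
    (m : ℕ) :
    ∃ bb : Module.Basis {p : ι → ℕ // ∑ i, p i ≤ m} B (PP16.P m A B),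
      ∀ p, bb p = ∏ i, (PP16.dn m A B (z i) - algebraMap B (PP16.P m A B) (z i)) ^ (p.1 i) := by
  obtain ⟨b, hb⟩ := hz
  let L : B ⊗[A] B →ₗ[B] PP16.P m A B :=
    (Ideal.Quotient.mkₐ B (KaehlerDifferential.ideal A B ^ (m + 1))).toLinearMap
  have hL : ∀ x, L x = Ideal.Quotient.mk (KaehlerDifferential.ideal A B ^ (m + 1)) x :=
    fun _ => rfl
  let v : {p : ι → ℕ // ∑ i, p i ≤ m} → PP16.P m A B := fun p => L (zpow z p.1)
  have hv : ∀ p, v p =
      ∏ i, (PP16.dn m A B (z i) - algebraMap B (PP16.P m A B) (z i)) ^ (p.1 i) := by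
    intro p
    simp only [v, hL, zpow, map_prod, map_pow]
    rfl
  have hli : LinearIndependent B v := by
    rw [linearIndependent_iff']
    intro s g hsum p hp
    apply indep_core z hB b hb m s g _ p hp
    rw [← Ideal.Quotient.eq_zero_iff_mem, ← hL, map_sum, ← hsum]
    apply Finset.sum_congr rfl
    intro q _
    rw [map_smul]
  have hsp : ⊤ ≤ Submodule.span B (Set.range v) := by
    intro y _
    obtain ⟨x, rfl⟩ := Ideal.Quotient.mk_surjective y
    have hx := top_le z b hb m (Submodule.mem_top : x ∈ (⊤ : Submodule B (B ⊗[A] B)))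
    obtain ⟨u, hu, w, hw, rfl⟩ := Submodule.mem_sup.mp hx
    have hw' : Ideal.Quotient.mk (KaehlerDifferential.ideal A B ^ (m + 1)) w = 0 :=
      Ideal.Quotient.eq_zero_iff_mem.mpr hw
    rw [map_add, hw', add_zero, ← hL]
    have hU : U z m ≤ (Submodule.span B (Set.range v)).comap L := by
      unfold U
      rw [Submodule.span_le]
      rintro _ ⟨p, hp, rfl⟩
      rw [Set.mem_ofPred_eq] at hp
      exact Submodule.subset_span ⟨⟨p, hp⟩, rfl⟩
    exact hU hu
  refine ⟨Module.Basis.mk hli hsp, fun p => ?_⟩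
  rw [Module.Basis.mk_apply, hv]

end Main

end Groth.Agent.Lib.Helper26.PPBasis
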