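import Mathlib
import Groth.Prelude.Def_PP16
import Groth.Agent.Lib.Helper26.SymLift
import Groth.Agent.Lib.Helper26.PPGen
import Groth.Agent.Lib.Helper26.PPMain1
import Groth.Agent.Lib.Helper26.SymPoly
import Groth.Agent.Lib.Helper26.SymPoly2
import Groth.Agent.Lib.Helper26.PPCert
import Groth.Agent.Lib.Helper26.PPBC

set_option autoImplicit false
universe u
open TensorProduct

namespace Groth.Agent.Lib.Helper26.PPDesc

open Groth.Agent.Lib.Helper26 Groth.Agent.Lib.Helper26.PPMain1 Groth.Agent.Lib.Helper26.PPCert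
  Groth.Agent.Lib.Helper26.PPBC

section FPDescent

variable {R : Type*} [CommRing R] (T : Type*) [CommRing T] [Algebra R T]
  [Module.FaithfullyFlat R T] {M : Type*} [AddCommGroup M] [Module R M]

/-- Finite presentation of modules descends along faithfully flat base change. -/
lemma finitePresentation_descent [Module.Finite R M]
    [Module.FinitePresentation T (T ⊗[R] M)] : Module.FinitePresentation R M := by
  obtain ⟨n, f, hf⟩ := Module.Finite.exists_fin' R M
  have hex : Function.Exact (LinearMap.ker f).subtype f := LinearMap.exact_subtype_ker_map f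
  have hex' : Function.Exact (AlgebraTensorModule.lTensor T T (LinearMap.ker f).subtype)
      (AlgebraTensorModule.lTensor T T f) := lTensor_exact T hex hf
  have hsurj : Function.Surjective (AlgebraTensorModule.lTensor T T f) :=
    LinearMap.lTensor_surjective T hf
  have hker : (LinearMap.ker (AlgebraTensorModule.lTensor T T f)).FG :=
    Module.FinitePresentation.fg_ker _ hsurj
  have hrange : LinearMap.range (AlgebraTensorModule.lTensor T T (LinearMap.ker f).subtype) =
      LinearMap.ker (AlgebraTensorModule.lTensor T T f) := (LinearMap.exact_iff.mp hex').symm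
  have hinj : Function.Injective (AlgebraTensorModule.lTensor T T (LinearMap.ker f).subtype) :=
    Module.Flat.lTensor_preserves_injective_linearMap _ (Submodule.injective_subtype _)
  have hfinT : Module.Finite T (T ⊗[R] (LinearMap.ker f)) := by
    have e := LinearEquiv.ofInjective _ hinj
    have hfr : Module.Finite T
        (LinearMap.range (AlgebraTensorModule.lTensor T T (LinearMap.ker f).subtype)) := by
      rw [Module.Finite.iff_fg, hrange]
      exact hker
    exact Module.Finite.equiv e.symm
  have hK : Module.Finite R (LinearMap.ker f) :=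
    Module.Finite.of_finite_tensorProduct_of_faithfullyFlat T
  exact Module.finitePresentation_of_surjective f hf (Module.Finite.iff_fg.mp hK)

end FPDescent


section General

variable {A B : Type u} [CommRing A] [CommRing B] [Algebra A B]

/-- The symbol maps exist for any choice of coordinate map. -/
lemma exists_L (hB : PP16.IsDiffSmooth A B)
    (s : Ω[B⁄A] →ₗ[B] (B ⊗[A] B)) (hs : ∀ ω, s ω ∈ KaehlerDifferential.ideal A B)
    (hs' : ∀ ω, KaehlerDifferential.fromIdeal A B ⟨s ω, hs ω⟩ = ω)
    {J : Type u} (sec : Ω[B⁄A] →ₗ[B] (J →₀ B)) (ι : Type u) [Fintype ι] :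
    ∃ L : (B ⊗[A] B) →ₗ[B] MvPolynomial J B,
      (∀ x ∈ KaehlerDifferential.ideal A B ^ (Fintype.card ι + 1), L x = 0) ∧
      ∀ ω : ι → Ω[B⁄A], L (∏ i, s (ω i)) = ∏ i, ellOf A B sec (ω i) := by
  obtain ⟨r, hr1, hr2⟩ := exists_retr hB s hs hs' (Fintype.card ι)
  let q : ↥((KaehlerDifferential.ideal A B ^ Fintype.card ι).restrictScalars B) →ₗ[B]
      PP16.grI A B (Fintype.card ι) := Submodule.mkQ _
  let r' : (B ⊗[A] B) →ₗ[B]
      ↥((KaehlerDifferential.ideal A B ^ Fintype.card ι).restrictScalars B) :=
    r.codRestrict _ hr1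
  let e := LinearEquiv.ofBijective _ (phi_bijective hB s hs hs' ι)
  refine ⟨SymPoly.theta ι (ellOf A B sec) ∘ₗ e.symm.toLinearMap ∘ₗ q ∘ₗ r', ?_, ?_⟩
  · intro x hx
    have hxm : x ∈ KaehlerDifferential.ideal A B ^ Fintype.card ι :=
      Ideal.pow_le_pow_right (Nat.le_succ _) hx
    have hr'x : r' x = ⟨x, hxm⟩ := Subtype.ext (hr2 x hxm)
    have hq0 : q ⟨x, hxm⟩ = 0 := by
      rw [Submodule.mkQ_apply, Submodule.Quotient.mk_eq_zero, Submodule.mem_comap]
      exact hx
    simp only [LinearMap.coe_comp, Function.comp_apply, hr'x, hq0, map_zero]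
  · intro ω
    have hmem := prod_s_mem A B ι s hs ω
    have hr'x : r' (∏ i, s (ω i)) = ⟨∏ i, s (ω i), hmem⟩ := Subtype.ext (hr2 _ hmem)
    have hq : q ⟨∏ i, s (ω i), hmem⟩ = e (SymmetricPower.tprod B ω) := by
      rw [LinearEquiv.ofBijective_apply, phi_tprod]
      rfl
    simp only [LinearMap.coe_comp, Function.comp_apply, hr'x, hq, LinearEquiv.coe_coe,
      LinearEquiv.symm_apply_apply, SymPoly.theta_tprod]

end General

section Descent

variable (A B A' B' : Type u) [CommRing A] [CommRing B] [Algebra A B]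
  [CommRing A'] [CommRing B'] [Algebra A' B'] [Algebra A A'] [Algebra B B'] [Algebra A B']
  [IsScalarTower A A' B'] [IsScalarTower A B B'] [Algebra.IsPushout A B A' B']
  [Module.FaithfullyFlat A A']

include A A' in
lemma faithfullyFlat_top : Module.FaithfullyFlat B B' :=
  Module.FaithfullyFlat.of_linearEquiv B (B ⊗[A] A')
    (Algebra.IsPushout.equiv A B A' B').symm.toLinearEquiv

lemma tau_smul (b : B) (x : B ⊗[A] B) :
    tau A B A' B' (b • x) = (algebraMap B B' b) • tau A B A' B' x := by
  rw [Algebra.smul_def, Algebra.smul_def, map_mul]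
  congr 1
  rw [Algebra.TensorProduct.algebraMap_apply, Algebra.TensorProduct.algebraMap_apply]
  exact PP16.tensorMap_tmul A B A' B' b 1 |>.trans (by rw [map_one]; rfl)

lemma mp_injective {J : Type u} (hinj : Function.Injective (algebraMap B B')) :
    Function.Injective (mp B B' (J := J)) := by
  have h : ∀ p : MvPolynomial J B, mp B B' p = MvPolynomial.map (algebraMap B B') p := by
    intro p
    induction p using MvPolynomial.induction_on with
    | C a =>
      rw [MvPolynomial.aeval_C, MvPolynomial.map_C]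
      rfl
    | add p q hp hq => rw [map_add, map_add, hp, hq]
    | mul_X p i hp => rw [map_mul, map_mul, hp, MvPolynomial.aeval_X, MvPolynomial.map_X]
  intro p q hpq
  rw [h, h] at hpq
  exact MvPolynomial.map_injective _ hinj hpq

theorem omega_finite_projective (h : PP16.IsDiffSmooth A' B')
    (hfin : Module.Finite B' (Ω[B'⁄A'])) :
    Module.Finite B (Ω[B⁄A]) ∧ Module.Projective B (Ω[B⁄A]) := by
  have hsymm : Algebra.IsPushout A A' B B' :=
    Algebra.IsPushout.symm (inferInstance : Algebra.IsPushout A B A' B')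
  have hff : Module.FaithfullyFlat B B' := faithfullyFlat_top A B A' B'
  have hproj' := h.1
  let e : B' ⊗[B] Ω[B⁄A] ≃ₗ[B'] Ω[B'⁄A'] := KaehlerDifferential.tensorKaehlerEquiv A A' B B'
  have h1 : Module.Finite B' (B' ⊗[B] Ω[B⁄A]) := Module.Finite.equiv e.symm
  have h2 : Module.Finite B (Ω[B⁄A]) :=
    Module.Finite.of_finite_tensorProduct_of_faithfullyFlat B'
  have h3 : Module.Flat B' (B' ⊗[B] Ω[B⁄A]) := Module.Flat.of_linearEquiv e
  have h4 : Module.Flat B (Ω[B⁄A]) := Module.Flat.of_flat_tensorProduct B _ B'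
  have h5 : Module.FinitePresentation B' (Ω[B'⁄A']) := Module.finitePresentation_of_projective _ _
  have h6 : Module.FinitePresentation B' (B' ⊗[B] Ω[B⁄A]) :=
    Module.FinitePresentation.of_equiv e.symm
  have h7 : Module.FinitePresentation B (Ω[B⁄A]) := finitePresentation_descent B'
  exact ⟨h2, Module.Flat.projective_of_finitePresentation⟩

theorem main (h : PP16.IsDiffSmooth A' B') (hfin : Module.Finite B' (Ω[B'⁄A'])) :
    PP16.IsDiffSmooth A B ∧ Module.Finite B (Ω[B⁄A]) := by
  classical
  obtain ⟨hfinB, hproj⟩ := omega_finite_projective A B A' B' h hfin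
  refine ⟨⟨hproj, ?_⟩, hfinB⟩
  have hff : Module.FaithfullyFlat B B' := faithfullyFlat_top A B A' B'
  have hinjB : Function.Injective (algebraMap B B') := FaithfulSMul.algebraMap_injective B B'
  obtain ⟨sec, hsec⟩ := Module.projective_def'.mp hproj
  have hsec1 : ∀ ω, Finsupp.linearCombination B (id : Ω[B⁄A] → Ω[B⁄A]) (sec ω) = ω :=
    fun ω => LinearMap.congr_fun hsec ω
  obtain ⟨s, hs, hs'⟩ := exists_section A B
  have hproj' := h.1
  obtain ⟨s', hs1, hs1'⟩ := exists_section A' B'
  intro ι _
  refine ⟨phi A B ι s hs, phi_tprod_D A B ι s hs hs', ?_,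
    phi_surjective A B ι _ (phi_tprod_D A B ι s hs hs')⟩
  rw [injective_iff_map_eq_zero]
  intro x hx
  obtain ⟨T, a, rfl⟩ := SymLift.exists_rep x
  have h1 : phi A B ι s hs (∑ k ∈ T, a k • SymmetricPower.tprod B k) =
      Submodule.Quotient.mk (∑ k ∈ T, a k •
        (⟨∏ i, s (k i), prod_s_mem A B ι s hs k⟩ :
          ↥((KaehlerDifferential.ideal A B ^ Fintype.card ι).restrictScalars B))) := by
    rw [map_sum, ← Submodule.mkQ_apply, map_sum]
    apply Finset.sum_congr rfl
    intro k _
    rw [map_smul, phi_tprod, map_smul]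
    rfl
  rw [h1, Submodule.Quotient.mk_eq_zero, Submodule.mem_comap] at hx
  have h2 : (∑ k ∈ T, a k • ∏ i, s (k i)) ∈
      KaehlerDifferential.ideal A B ^ (Fintype.card ι + 1) := by
    have : ((KaehlerDifferential.ideal A B ^ Fintype.card ι).restrictScalars B).subtype
        (∑ k ∈ T, a k •
        (⟨∏ i, s (k i), prod_s_mem A B ι s hs k⟩ :
          ↥((KaehlerDifferential.ideal A B ^ Fintype.card ι).restrictScalars B))) =
        ∑ k ∈ T, a k • ∏ i, s (k i) := by
      rw [map_sum]
      apply Finset.sum_congr rfl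
      intro k _
      rw [map_smul]
      rfl
    rw [← this]
    exact hx
  -- the certificate upstairs
  obtain ⟨L', hL1, hL2⟩ := exists_L h s' hs1 hs1' (secbc A B A' B' sec) ι
  have h3 := hL1 _ (tau_mem_pow A B A' B' _ h2)
  rw [map_sum, map_sum] at h3
  have h4 : ∀ k ∈ T, L' (tau A B A' B' (a k • ∏ i, s (k i))) =
      mp B B' (a k • ∏ i, ellOf A B sec (k i)) := by
    intro k _
    rw [tau_smul, map_smul, map_prod]
    have hd : ∀ i, s' (iota A B A' B' (k i)) - tau A B A' B' (s (k i)) ∈
        KaehlerDifferential.ideal A' B' ^ 2 := by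
      intro i
      have e1 := hs1' (iota A B A' B' (k i))
      have e2 := fromIdeal_tau A B A' B' (s (k i)) (hs (k i))
      rw [hs' (k i)] at e2
      have e3 : (KaehlerDifferential.ideal A' B').toCotangent
          ⟨s' (iota A B A' B' (k i)), hs1 _⟩ =
          (KaehlerDifferential.ideal A' B').toCotangent
          ⟨tau A B A' B' (s (k i)), tau_mem A B A' B' (hs (k i))⟩ := e1.trans e2.symm
      rw [Ideal.toCotangent_eq] at e3
      exact e3
    have hprod : (∏ i, s' (iota A B A' B' (k i))) - ∏ i, tau A B A' B' (s (k i)) ∈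
        KaehlerDifferential.ideal A' B' ^ (Fintype.card ι + 1) := by
      have := PPGen.prod_sub_prod_mem (KaehlerDifferential.ideal A' B') Finset.univ
        (fun i => s' (iota A B A' B' (k i))) (fun i => tau A B A' B' (s (k i)))
        (fun i _ => hs1 _) (fun i _ => tau_mem A B A' B' (hs (k i))) (fun i _ => hd i)
      rwa [Finset.card_univ] at this
    have h0 := hL1 _ hprod
    rw [map_sub, sub_eq_zero] at h0
    rw [← h0, hL2, map_smul, algebraMap_smul, map_prod]
    congr 1
    apply Finset.prod_congr rfl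
    intro i _
    rw [ellOf_secbc_iota]
  rw [Finset.sum_congr rfl h4, ← map_sum] at h3
  have h5 : ∑ k ∈ T, a k • ∏ i, ellOf A B sec (k i) = 0 :=
    mp_injective B B' hinjB (by rw [h3, map_zero])
  apply theta_ellOf_injective (id : Ω[B⁄A] → Ω[B⁄A]) sec hsec1 ι
  rw [map_zero, map_sum, ← h5]
  apply Finset.sum_congr rfl
  intro k _
  rw [map_smul, SymPoly.theta_tprod]

end Descent

end Groth.Agent.Lib.Helper26.PPDesc
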