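import Mathlib
import Groth.Prelude.Def_PP16
import Groth.Agent.Lib.Helper26.SymLift
import Groth.Agent.Lib.Helper26.PPGen
import Groth.Agent.Lib.Helper26.PPMain1
import Groth.Agent.Lib.Helper26.SymPoly

set_option autoImplicit false
universe u
open TensorProduct

namespace Groth.Agent.Lib.Helper26.PPFS

open Groth.Agent.Lib.Helper26 Groth.Agent.Lib.Helper26.PPMain1

variable {A B : Type u} [CommRing A] [CommRing B] [Algebra A B]

section Lift

/-- Lifting an algebra map along `S'/M^N → S'/M^2` using formal smoothness. -/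
lemma exists_lift_pow {S' : Type u} [CommRing S'] [Algebra A S'] [Algebra.FormallySmooth A B]
    (Mv : Ideal S') (N : ℕ) (hN : 2 ≤ N) (g1 : B →ₐ[A] S' ⧸ Mv ^ 2) :
    ∃ g : B →ₐ[A] S' ⧸ Mv ^ N,
      ∀ b, Ideal.Quotient.factor (Ideal.pow_le_pow_right hN) (g b) = g1 b := by
  let π : (S' ⧸ Mv ^ N) →ₐ[A] (S' ⧸ Mv ^ 2) :=
    Ideal.Quotient.factorₐ A (Ideal.pow_le_pow_right hN)
  have hsurj : Function.Surjective π :=
    Ideal.Quotient.factor_surjective (Ideal.pow_le_pow_right hN)
  have hnil : IsNilpotent (RingHom.ker (π : (S' ⧸ Mv ^ N) →+* (S' ⧸ Mv ^ 2))) := by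
    refine ⟨N, ?_⟩
    have : RingHom.ker (π : (S' ⧸ Mv ^ N) →+* (S' ⧸ Mv ^ 2)) =
        (Mv ^ 2).map (Ideal.Quotient.mk (Mv ^ N)) :=
      Ideal.Quotient.factor_ker (Ideal.pow_le_pow_right hN)
    rw [this, ← Ideal.map_pow, ← pow_mul, Ideal.zero_eq_bot, Ideal.map_eq_bot_iff_le_ker,
      Ideal.mk_ker]
    exact Ideal.pow_le_pow_right (by omega)
  exact ⟨Algebra.FormallySmooth.liftOfSurjective g1 π hsurj hnil,
    fun b => Algebra.FormallySmooth.liftOfSurjective_apply g1 π hsurj hnil b⟩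

end Lift

section G1

variable {J : Type u} (ℓ : Ω[B⁄A] →ₗ[B] MvPolynomial J B)
  (hℓ : ∀ ω, ℓ ω ∈ MvPolynomial.idealOfVars J B)

/-- The first-order algebra map `b ↦ b + ℓ(db)`. -/
noncomputable def g1 : B →ₐ[A] (MvPolynomial J B ⧸ (MvPolynomial.idealOfVars J B) ^ 2) :=
  { toFun := fun b => Ideal.Quotient.mk _ (MvPolynomial.C b + ℓ (KaehlerDifferential.D A B b))
    map_one' := by simp
    map_mul' := fun b b' => by
      rw [← map_mul, Ideal.Quotient.eq, Derivation.leibniz, map_add, map_smul, map_smul]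
      have : MvPolynomial.C (b * b') + (b • ℓ (KaehlerDifferential.D A B b') +
          b' • ℓ (KaehlerDifferential.D A B b)) -
          (MvPolynomial.C b + ℓ (KaehlerDifferential.D A B b)) *
            (MvPolynomial.C b' + ℓ (KaehlerDifferential.D A B b')) =
          -(ℓ (KaehlerDifferential.D A B b) * ℓ (KaehlerDifferential.D A B b')) := by
        simp only [MvPolynomial.smul_eq_C_mul, map_mul]
        ring
      rw [this]
      apply neg_mem
      rw [pow_two]
      exact Ideal.mul_mem_mul (hℓ _) (hℓ _)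
    map_zero' := by simp
    map_add' := fun b b' => by
      rw [← map_add]
      congr 1
      simp only [map_add]
      ring
    commutes' := fun a => by
      simp only [Derivation.map_algebraMap, map_zero, add_zero]
      rfl }

lemma g1_apply (b : B) : g1 ℓ hℓ b =
    Ideal.Quotient.mk _ (MvPolynomial.C b + ℓ (KaehlerDifferential.D A B b)) := rfl

end G1


section KeyFS

variable {J : Type u}

lemma mem_idealOfVars_of_isHomogeneous_one {p : MvPolynomial J B} (hp : p.IsHomogeneous 1) :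
    p ∈ MvPolynomial.idealOfVars J B := by
  have h := (MvPolynomial.mem_pow_idealOfVars_iff' 1 p).mpr ?_
  · rwa [pow_one] at h
  intro x hx
  by_contra h
  have h1 := hp h
  have h2 : Finsupp.degree x = 1 := by
    rw [← h1, Finsupp.degree_eq_weight_one]
    rfl
  omega

variable [Algebra.FormallySmooth A B] (ℓ : Ω[B⁄A] →ₗ[B] MvPolynomial J B)
  (hℓ : ∀ ω, (ℓ ω).IsHomogeneous 1)
variable (s : Ω[B⁄A] →ₗ[B] (B ⊗[A] B)) (hs : ∀ ω, s ω ∈ KaehlerDifferential.ideal A B)
  (hs' : ∀ ω, KaehlerDifferential.fromIdeal A B ⟨s ω, hs ω⟩ = ω)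

include hℓ hs hs' in
theorem keyFS (ι : Type u) [Fintype ι] (T : Finset (ι → Ω[B⁄A])) (a : (ι → Ω[B⁄A]) → B)
    (hz : (∑ k ∈ T, a k • ∏ i, s (k i)) ∈
      KaehlerDifferential.ideal A B ^ (Fintype.card ι + 1)) :
    ∑ k ∈ T, a k • ∏ i, ℓ (k i) = 0 := by
  classical
  set n := Fintype.card ι with hn
  set Mv := MvPolynomial.idealOfVars J B with hMv
  have hmem : ∀ ω, ℓ ω ∈ Mv := fun ω => mem_idealOfVars_of_isHomogeneous_one (hℓ ω)
  have hN : 2 ≤ n + 2 := by omega
  obtain ⟨g, hg⟩ := exists_lift_pow (A := A) (B := B) Mv (n + 2) hN (g1 ℓ hmem)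
  let G : B ⊗[A] B →ₐ[B] (MvPolynomial J B ⧸ Mv ^ (n + 2)) :=
    Algebra.TensorProduct.lift (Algebra.ofId B _) g (fun _ _ => Commute.all _ _)
  -- first-order behaviour of `G`
  have hG2 : ∀ x : B ⊗[A] B, Ideal.Quotient.factor (Ideal.pow_le_pow_right hN) (G x) =
      Ideal.Quotient.mk (Mv ^ 2) (MvPolynomial.C (Algebra.TensorProduct.lmul' A x) +
        ℓ ((KaehlerDifferential.D A B).tensorProductTo x)) := by
    intro x
    induction x using TensorProduct.induction_on with
    | zero => simp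
    | tmul b b' =>
      have e1 : G (b ⊗ₜ[A] b') = algebraMap B _ b * g b' := by
        simp only [G, Algebra.TensorProduct.lift_tmul, Algebra.ofId_apply]
      rw [e1, map_mul, hg, g1_apply, Algebra.TensorProduct.lmul'_apply_tmul,
        Derivation.tensorProductTo_tmul, map_smul, MvPolynomial.smul_eq_C_mul]
      have e2 : Ideal.Quotient.factor (Ideal.pow_le_pow_right hN)
          (algebraMap B (MvPolynomial J B ⧸ Mv ^ (n + 2)) b) =
          Ideal.Quotient.mk (Mv ^ 2) (MvPolynomial.C b) := rfl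
      rw [e2, ← map_mul]
      congr 1
      rw [map_mul]
      ring
    | add x y hx hy =>
      rw [map_add, map_add, hx, hy, ← map_add]
      congr 1
      simp only [map_add]
      ring
  -- representatives
  have hrep : ∀ ω : Ω[B⁄A], ∃ y : MvPolynomial J B, G (s ω) = Ideal.Quotient.mk _ y ∧
      y - ℓ ω ∈ Mv ^ 2 := by
    intro ω
    obtain ⟨y, hy⟩ := Ideal.Quotient.mk_surjective (G (s ω))
    refine ⟨y, hy.symm, ?_⟩
    have h1 := hG2 (s ω)
    have h2 : Algebra.TensorProduct.lmul' A (s ω) = 0 := hs ω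
    have h3 : (KaehlerDifferential.D A B).tensorProductTo (s ω) = ω := by
      have := KaehlerDifferential.D_tensorProductTo (⟨s ω, hs ω⟩ : KaehlerDifferential.ideal A B)
      rw [this]
      exact hs' ω
    rw [h2, h3, map_zero, zero_add, ← hy] at h1
    have h4 : Ideal.Quotient.factor (Ideal.pow_le_pow_right hN)
        (Ideal.Quotient.mk (Mv ^ (n + 2)) y) = Ideal.Quotient.mk (Mv ^ 2) y := rfl
    rw [h4, Ideal.Quotient.eq] at h1
    exact h1
  choose y hy1 hy2 using hrep
  have hymem : ∀ ω, y ω ∈ Mv := by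
    intro ω
    have h1 : y ω - ℓ ω ∈ Mv := Ideal.pow_le_self (by norm_num) (hy2 ω)
    have := Mv.add_mem h1 (hmem ω)
    rwa [sub_add_cancel] at this
  -- `G` maps `I^(n+1)` into the image of `Mv^(n+1)`
  have hGI : ∀ x ∈ KaehlerDifferential.ideal A B, G x ∈ Mv.map (Ideal.Quotient.mk (Mv ^ (n + 2))) := by
    intro x hx
    obtain ⟨y', hy'⟩ := Ideal.Quotient.mk_surjective (G x)
    have h1 := hG2 x
    have h2 : Algebra.TensorProduct.lmul' A x = 0 := hx
    rw [h2, map_zero, zero_add, ← hy'] at h1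
    have h4 : Ideal.Quotient.factor (Ideal.pow_le_pow_right hN)
        (Ideal.Quotient.mk (Mv ^ (n + 2)) y') = Ideal.Quotient.mk (Mv ^ 2) y' := rfl
    rw [h4, Ideal.Quotient.eq] at h1
    have h5 : y' - ℓ ((KaehlerDifferential.D A B).tensorProductTo x) ∈ Mv :=
      Ideal.pow_le_self (by norm_num) h1
    have h6 := Mv.add_mem h5 (hmem ((KaehlerDifferential.D A B).tensorProductTo x))
    rw [sub_add_cancel] at h6
    rw [← hy']
    exact Ideal.mem_map_of_mem _ h6
  have hGpow : KaehlerDifferential.ideal A B ^ (n + 1) ≤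
      ((Mv ^ (n + 1)).map (Ideal.Quotient.mk (Mv ^ (n + 2)))).comap G.toRingHom := by
    have h1 : KaehlerDifferential.ideal A B ≤
        (Mv.map (Ideal.Quotient.mk (Mv ^ (n + 2)))).comap G.toRingHom := fun x hx => hGI x hx
    calc KaehlerDifferential.ideal A B ^ (n + 1)
        ≤ ((Mv.map (Ideal.Quotient.mk (Mv ^ (n + 2)))).comap G.toRingHom) ^ (n + 1) :=
          Ideal.pow_right_mono h1 _
      _ ≤ ((Mv.map (Ideal.Quotient.mk (Mv ^ (n + 2)))) ^ (n + 1)).comap G.toRingHom :=
          Ideal.le_comap_pow _ _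
      _ = _ := by rw [Ideal.map_pow]
  have hGz := hGpow hz
  rw [Ideal.mem_comap] at hGz
  have hGz' : G.toRingHom (∑ k ∈ T, a k • ∏ i, s (k i)) =
      Ideal.Quotient.mk (Mv ^ (n + 2)) (∑ k ∈ T, a k • ∏ i, y (k i)) := by
    change G (∑ k ∈ T, a k • ∏ i, s (k i)) = _
    rw [map_sum, map_sum]
    apply Finset.sum_congr rfl
    intro k _
    rw [map_smul, map_prod]
    have e3 : (∏ x, G (s (k x))) = Ideal.Quotient.mk (Mv ^ (n + 2)) (∏ x, y (k x)) := by
      rw [map_prod]
      exact Finset.prod_congr rfl (fun i _ => hy1 _)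
    rw [e3]
    rfl
  rw [hGz', Ideal.mem_quotient_iff_mem_sup] at hGz
  have hsup : Mv ^ (n + 1) ⊔ Mv ^ (n + 2) = Mv ^ (n + 1) :=
    sup_eq_left.mpr (Ideal.pow_le_pow_right (by omega))
  rw [hsup] at hGz
  have hdiff : (∑ k ∈ T, a k • ∏ i, y (k i)) - ∑ k ∈ T, a k • ∏ i, ℓ (k i) ∈ Mv ^ (n + 1) := by
    rw [← Finset.sum_sub_distrib]
    apply Ideal.sum_mem
    intro k _
    rw [← smul_sub, MvPolynomial.smul_eq_C_mul]
    apply Ideal.mul_mem_left
    have := PPGen.prod_sub_prod_mem Mv Finset.univ (fun i => y (k i)) (fun i => ℓ (k i))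
      (fun i _ => hymem _) (fun i _ => hmem _) (fun i _ => hy2 _)
    rwa [Finset.card_univ] at this
  have hfin : ∑ k ∈ T, a k • ∏ i, ℓ (k i) ∈ Mv ^ (n + 1) :=
    (Submodule.sub_mem_iff_right _ hGz).mp hdiff
  exact SymPoly.eq_zero_of_isHomogeneous_of_mem
    (SymPoly.sum_smul_prod_isHomogeneous ℓ hℓ T a (fun k => k)) hfin

end KeyFS


section Main

variable (A B)

theorem main [Algebra.FormallySmooth A B] : PP16.IsDiffSmooth A B := by
  have hproj : Module.Projective B (Ω[B⁄A]) := inferInstance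
  refine ⟨hproj, ?_⟩
  obtain ⟨ℓ, hℓ, hinj⟩ := SymPoly.exists_ell_of_projective B (Ω[B⁄A])
  obtain ⟨s, hs, hs'⟩ := exists_section A B
  intro ι _
  refine ⟨phi A B ι s hs, phi_tprod_D A B ι s hs hs', ?_, ?_⟩
  · rw [injective_iff_map_eq_zero]
    intro x hx
    obtain ⟨T, a, rfl⟩ := SymLift.exists_rep x
    have h1 : phi A B ι s hs (∑ k ∈ T, a k • SymmetricPower.tprod B k) =
        Submodule.Quotient.mk (∑ k ∈ T, a k •
          (⟨∏ i, s (k i), prod_s_mem A B ι s hs k⟩ :
            ↥((KaehlerDifferential.ideal A B ^ Fintype.card ι).restrictScalars B))) := by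
      rw [map_sum, ← Submodule.mkQ_apply, map_sum]
      apply Finset.sum_congr rfl
      intro k _
      rw [map_smul, phi_tprod, map_smul]
      rfl
    rw [h1, Submodule.Quotient.mk_eq_zero, Submodule.mem_comap] at hx
    have h2 : (∑ k ∈ T, a k • ∏ i, s (k i)) ∈
        KaehlerDifferential.ideal A B ^ (Fintype.card ι + 1) := by
      have : ((KaehlerDifferential.ideal A B ^ Fintype.card ι).restrictScalars B).subtype
          (∑ k ∈ T, a k •
          (⟨∏ i, s (k i), prod_s_mem A B ι s hs k⟩ :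
            ↥((KaehlerDifferential.ideal A B ^ Fintype.card ι).restrictScalars B))) =
          ∑ k ∈ T, a k • ∏ i, s (k i) := by
        rw [map_sum]
        apply Finset.sum_congr rfl
        intro k _
        rw [map_smul]
        rfl
      rw [← this]
      exact hx
    have h3 := keyFS ℓ hℓ s hs hs' ι T a h2
    apply hinj ι
    rw [map_zero, map_sum]
    rw [← h3]
    apply Finset.sum_congr rfl
    intro k _
    rw [map_smul, SymPoly.theta_tprod]
  · exact phi_surjective A B ι _ (phi_tprod_D A B ι s hs hs')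

end Main

end Groth.Agent.Lib.Helper26.PPFS
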