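import Mathlib
import Groth.Prelude.Def_PP16
import Groth.Agent.Lib.Helper26.PPMain1
import Groth.Agent.Lib.Helper26.PPBasis
import Groth.Agent.Lib.Helper26.PPFS

set_option autoImplicit false
universe u
open TensorProduct

namespace Groth.Agent.Lib.Helper26.PPFrac

open Groth.Agent.Lib.Helper26 Groth.Agent.Lib.Helper26.PPMain1 Groth.Agent.Lib.Helper26.PPBasis

section General

variable {A B : Type u} [CommRing A] [CommRing B] [Algebra A B]
variable {ι : Type} [Fintype ι] [DecidableEq ι] (z : ι → B) (n : ℕ)

lemma degree_eq (m : ι →₀ ℕ) : Finsupp.degree m = ∑ i, m i := by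
  rw [Finsupp.degree]
  apply Finset.sum_subset (Finset.subset_univ _)
  intro i _ hi
  rwa [Finsupp.mem_support_iff, not_not] at hi

/-- The images of the `ζ_i` in `P^n`. -/
noncomputable def zb (A : Type u) [CommRing A] [Algebra A B] (z : ι → B) (n : ℕ) (i : ι) : PP16.P n A B :=
  PP16.dn n A B (z i) - algebraMap B (PP16.P n A B) (z i)

lemma zb_eq (i : ι) : zb A z n i =
    Ideal.Quotient.mk (KaehlerDifferential.ideal A B ^ (n + 1)) (zeta A B (z i)) := rfl

lemma prod_zb (p : ι → ℕ) : ∏ i, zb A z n i ^ p i =
    Ideal.Quotient.mk (KaehlerDifferential.ideal A B ^ (n + 1)) (zpow (A := A) z p) := by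
  simp only [zb_eq, zpow, map_prod, map_pow]

lemma prod_zb_eq_zero (p : ι → ℕ) (hp : n < ∑ i, p i) : ∏ i, zb A z n i ^ p i = 0 := by
  rw [prod_zb, Ideal.Quotient.eq_zero_iff_mem]
  exact Ideal.pow_le_pow_right (by omega) (zpow_mem z p)

lemma aeval_monomial_one (m : ι →₀ ℕ) :
    MvPolynomial.aeval (R := B) (zb A z n) (MvPolynomial.monomial m (1 : B)) =
      ∏ i, zb A z n i ^ m i := by
  rw [MvPolynomial.aeval_monomial, map_one, one_mul, Finsupp.prod_fintype]
  intro i
  rw [pow_zero]

theorem truncated (bb : Module.Basis {p : ι → ℕ // ∑ i, p i ≤ n} B (PP16.P n A B))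
    (hbb : ∀ p, bb p = ∏ i, zb A z n i ^ (p.1 i)) :
    Function.Surjective (MvPolynomial.aeval (R := B) (zb A z n)) ∧
      RingHom.ker (MvPolynomial.aeval (R := B) (zb A z n)).toRingHom =
        (Ideal.span (Set.range (MvPolynomial.X : ι → MvPolynomial ι B))) ^ (n + 1) := by
  constructor
  · -- surjectivity
    intro y
    have hy : y ∈ Submodule.span B (Set.range bb) := by
      rw [bb.span_eq]
      trivial
    have hle : Submodule.span B (Set.range bb) ≤
        LinearMap.range (MvPolynomial.aeval (R := B) (zb A z n)).toLinearMap := by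
      rw [Submodule.span_le]
      rintro _ ⟨p, rfl⟩
      refine ⟨MvPolynomial.monomial (Finsupp.equivFunOnFinite.symm p.1) 1, ?_⟩
      rw [AlgHom.toLinearMap_apply, aeval_monomial_one, hbb]
      rfl
    obtain ⟨x, hx⟩ := hle hy
    exact ⟨x, hx⟩
  · -- kernel
    have hcoord : ∀ (m0 : ι →₀ ℕ) (h0 : ∑ i, m0 i ≤ n) (m : ι →₀ ℕ),
        bb.coord ⟨(m0 : ι → ℕ), h0⟩
          (MvPolynomial.aeval (R := B) (zb A z n) (MvPolynomial.monomial m (1 : B))) =
          if m = m0 then 1 else 0 := by
      intro m0 h0 m
      rw [aeval_monomial_one]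
      by_cases hm : ∑ i, m i ≤ n
      · rw [← hbb ⟨(m : ι → ℕ), hm⟩, Module.Basis.coord_apply, Module.Basis.repr_self,
          Finsupp.single_apply]
        by_cases hmm : m = m0
        · subst hmm
          rw [if_pos rfl, if_pos rfl]
        · rw [if_neg hmm, if_neg]
          intro h
          apply hmm
          have := congrArg Subtype.val h
          exact DFunLike.coe_injective this
      · rw [prod_zb_eq_zero z n _ (by omega), map_zero, if_neg]
        rintro rfl
        exact hm h0
    ext P
    rw [RingHom.mem_ker, MvPolynomial.mem_pow_idealOfVars_iff']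
    constructor
    · intro hP m0 hm0
      rw [degree_eq] at hm0
      have h0 : ∑ i, m0 i ≤ n := by omega
      have h1 : bb.coord ⟨(m0 : ι → ℕ), h0⟩ (MvPolynomial.aeval (R := B) (zb A z n) P) = 0 := by
        have : (MvPolynomial.aeval (R := B) (zb A z n)) P = 0 := hP
        rw [this, map_zero]
      conv_lhs at h1 => rw [MvPolynomial.as_sum P]
      rw [map_sum, map_sum] at h1
      have e : ∀ m ∈ P.support, bb.coord ⟨(m0 : ι → ℕ), h0⟩
          (MvPolynomial.aeval (R := B) (zb A z n) (MvPolynomial.monomial m (MvPolynomial.coeff m P))) =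
          MvPolynomial.coeff m P * (if m = m0 then 1 else 0) := by
        intro m _
        have e1 : MvPolynomial.monomial m (MvPolynomial.coeff m P) =
            MvPolynomial.coeff m P • MvPolynomial.monomial m (1 : B) := by
          rw [MvPolynomial.smul_monomial, smul_eq_mul, mul_one]
        rw [e1, map_smul, map_smul, hcoord, smul_eq_mul]
      rw [Finset.sum_congr rfl e] at h1
      by_cases hs : m0 ∈ P.support
      · rw [Finset.sum_eq_single m0] at h1
        · rwa [if_pos rfl, mul_one] at h1
        · intro m _ hm
          rw [if_neg hm, mul_zero]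
        · intro h
          exact absurd hs h
      · rwa [MvPolynomial.mem_support_iff, not_not] at hs
    · intro hP
      change (MvPolynomial.aeval (R := B) (zb A z n)) P = 0
      rw [MvPolynomial.as_sum P, map_sum]
      apply Finset.sum_eq_zero
      intro m hm
      have e1 : MvPolynomial.monomial m (MvPolynomial.coeff m P) =
          MvPolynomial.coeff m P • MvPolynomial.monomial m (1 : B) := by
        rw [MvPolynomial.smul_monomial, smul_eq_mul, mul_one]
      rw [e1, map_smul, aeval_monomial_one]
      have hdeg : n < ∑ i, m i := by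
        by_contra hcon
        have := hP m (by rw [degree_eq]; omega)
        rw [MvPolynomial.mem_support_iff] at hm
        exact hm this
      rw [prod_zb_eq_zero z n _ hdeg, smul_zero]

end General


section Frac

variable (k : Type u) [Field k] (r n : ℕ)

theorem main :
    Function.Surjective
        (MvPolynomial.aeval (R := FractionRing (MvPolynomial (Fin r) k))
          (S₁ := PP16.P n k (FractionRing (MvPolynomial (Fin r) k)))
          (fun i : Fin r =>
            PP16.dn n k (FractionRing (MvPolynomial (Fin r) k))
                (algebraMap (MvPolynomial (Fin r) k) (FractionRing (MvPolynomial (Fin r) k)) (MvPolynomial.X i)) -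
              algebraMap (FractionRing (MvPolynomial (Fin r) k)) (PP16.P n k (FractionRing (MvPolynomial (Fin r) k)))
                (algebraMap (MvPolynomial (Fin r) k) (FractionRing (MvPolynomial (Fin r) k)) (MvPolynomial.X i)))) ∧
      RingHom.ker
          (MvPolynomial.aeval (R := FractionRing (MvPolynomial (Fin r) k))
            (S₁ := PP16.P n k (FractionRing (MvPolynomial (Fin r) k)))
            (fun i : Fin r =>
              PP16.dn n k (FractionRing (MvPolynomial (Fin r) k))
                  (algebraMap (MvPolynomial (Fin r) k) (FractionRing (MvPolynomial (Fin r) k)) (MvPolynomial.X i)) -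
                algebraMap (FractionRing (MvPolynomial (Fin r) k)) (PP16.P n k (FractionRing (MvPolynomial (Fin r) k)))
                  (algebraMap (MvPolynomial (Fin r) k) (FractionRing (MvPolynomial (Fin r) k)) (MvPolynomial.X i)))).toRingHom =
        (Ideal.span (Set.range (MvPolynomial.X : Fin r → MvPolynomial (Fin r) (FractionRing (MvPolynomial (Fin r) k))))) ^ (n + 1) := by
  have hsm : Algebra.FormallySmooth k (FractionRing (MvPolynomial (Fin r) k)) := inferInstance
  have hB : PP16.IsDiffSmooth k (FractionRing (MvPolynomial (Fin r) k)) := PPFS.main _ _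
  let z : Fin r → FractionRing (MvPolynomial (Fin r) k) :=
    fun i => algebraMap (MvPolynomial (Fin r) k) (FractionRing (MvPolynomial (Fin r) k))
      (MvPolynomial.X i)
  let b' : Module.Basis (Fin r) (FractionRing (MvPolynomial (Fin r) k))
      (Ω[FractionRing (MvPolynomial (Fin r) k)⁄k]) :=
    (KaehlerDifferential.mvPolynomialBasis k (Fin r)).ofIsLocalizedModule
      (FractionRing (MvPolynomial (Fin r) k)) (nonZeroDivisors (MvPolynomial (Fin r) k))
      (KaehlerDifferential.map k k (MvPolynomial (Fin r) k)
        (FractionRing (MvPolynomial (Fin r) k)))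
  have hb' : ∀ i, b' i = KaehlerDifferential.D k (FractionRing (MvPolynomial (Fin r) k)) (z i) := by
    intro i
    simp only [b', Module.Basis.ofIsLocalizedModule_apply,
      KaehlerDifferential.mvPolynomialBasis_apply, KaehlerDifferential.map_D]
    rfl
  obtain ⟨bb, hbb⟩ := PPBasis.main k (FractionRing (MvPolynomial (Fin r) k)) hB (Fin r) z
    ⟨b', hb'⟩ n
  exact truncated (A := k) z n bb hbb

end Frac

end Groth.Agent.Lib.Helper26.PPFrac
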