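import Mathlib
import Groth.Prelude.Def_PP16
import Groth.Agent.Lib.Helper26.SymLift
import Groth.Agent.Lib.Helper26.PPGen
import Groth.Agent.Lib.Helper26.PPMain1

set_option autoImplicit false
universe u
open TensorProduct

namespace Groth.Agent.Lib.Helper26.PPMain2

open Groth.Agent.Lib.Helper26 Groth.Agent.Lib.Helper26.PPMain1

variable {A B : Type u} [CommRing A] [CommRing B] [Algebra A B]

lemma smul_one_eq (c : B) : c • (1 : B ⊗[A] B) = c ⊗ₜ[A] (1 : B) := by
  rw [Algebra.smul_def, mul_one, Algebra.TensorProduct.algebraMap_apply]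
  rfl

lemma lmul_smul_one (c : B) : Algebra.TensorProduct.lmul' A (c • (1 : B ⊗[A] B)) = c := by
  rw [smul_one_eq, Algebra.TensorProduct.lmul'_apply_tmul, mul_one]

variable {J : Type u} (e : Module.Basis J B (Ω[B⁄A]))

/-- The coordinate derivation `c_j ∘ d`. -/
noncomputable def coordDer (j : J) : Derivation A B B :=
  (e.coord j).compDer (KaehlerDifferential.D A B)

lemma lift_coordDer (j : J) : (coordDer e j).liftKaehlerDifferential = e.coord j :=
  Derivation.liftKaehlerDifferential_unique _ _ (Derivation.liftKaehlerDifferential_comp _)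

variable (s : Ω[B⁄A] →ₗ[B] (B ⊗[A] B)) (hs : ∀ ω, s ω ∈ KaehlerDifferential.ideal A B)
  (hs' : ∀ ω, KaehlerDifferential.fromIdeal A B ⟨s ω, hs ω⟩ = ω)

include hs' in
lemma tensorDer_s_sub_mem (j : J) (ω : Ω[B⁄A]) :
    tensorDer (coordDer e j) (s ω) - (e.coord j ω) • (1 : B ⊗[A] B) ∈
      KaehlerDifferential.ideal A B := by
  have h1 := sub_lmul_mem (tensorDer (coordDer e j) (s ω))
  rw [lmul_tensorDer] at h1
  have h2 : (coordDer e j).tensorProductTo (s ω) = e.coord j ω := by
    have := Derivation.liftKaehlerDifferential_apply (coordDer e j) ⟨s ω, hs ω⟩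
    rw [lift_coordDer] at this
    rw [← this]
    congr 1
    exact hs' ω
  rwa [h2] at h1

/-- The linear form `ω ↦ Σ c_j(ω) X_j`. -/
noncomputable def ell : Ω[B⁄A] →ₗ[B] MvPolynomial J B :=
  e.constr B (fun j => (MvPolynomial.X j : MvPolynomial J B))

lemma ell_basis (j : J) : ell e (e j) = MvPolynomial.X j := by
  rw [ell, Module.Basis.constr_basis]

lemma pderiv_ell (j : J) (ω : Ω[B⁄A]) :
    MvPolynomial.pderiv j (ell e ω) = MvPolynomial.C (e.coord j ω) := by
  classical
  have : ((MvPolynomial.pderiv j : Derivation B (MvPolynomial J B) (MvPolynomial J B)) :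
      MvPolynomial J B →ₗ[B] MvPolynomial J B) ∘ₗ ell e =
      (Algebra.linearMap B (MvPolynomial J B)) ∘ₗ (e.coord j) := by
    apply e.ext
    intro j'
    simp only [LinearMap.coe_comp, Function.comp_apply, ell_basis, Derivation.coeFn_coe,
      Algebra.linearMap_apply, MvPolynomial.algebraMap_eq, Module.Basis.coord_apply,
      Module.Basis.repr_self, MvPolynomial.pderiv_X]
    by_cases h : j' = j
    · subst h
      simp
    · rw [Finsupp.single_eq_of_ne (Ne.symm h), Pi.single_eq_of_ne h]
      simp
  exact LinearMap.congr_fun this ω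

lemma constantCoeff_ell (ω : Ω[B⁄A]) : MvPolynomial.constantCoeff (ell e ω) = 0 := by
  have : (MvPolynomial.lcoeff B (0 : J →₀ ℕ)) ∘ₗ ell e = 0 := by
    apply e.ext
    intro j'
    simp [ell_basis, MvPolynomial.lcoeff]
  rw [MvPolynomial.constantCoeff_eq]
  exact LinearMap.congr_fun this ω


section Key

variable [Algebra ℚ B]

include hs hs' in
/-- The key induction: a relation among products modulo `I^(n+1)` gives the corresponding
polynomial relation. -/
theorem key (ι : Type u) [DecidableEq ι] (n : ℕ) :
    ∀ (κ : Type u) (T : Finset κ) (a : κ → B) (S : κ → Finset ι) (w : κ → ι → Ω[B⁄A]),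
      (∀ k ∈ T, (S k).card = n) →
      (∑ k ∈ T, a k • ∏ i ∈ S k, s (w k i)) ∈ KaehlerDifferential.ideal A B ^ (n + 1) →
      ∑ k ∈ T, a k • ∏ i ∈ S k, ell e (w k i) = 0 := by
  induction n with
  | zero =>
    intro κ T a S w hS hz
    have hS' : ∀ k ∈ T, S k = ∅ := fun k hk => Finset.card_eq_zero.mp (hS k hk)
    have e1 : ∑ k ∈ T, a k • ∏ i ∈ S k, s (w k i) = (∑ k ∈ T, a k) • (1 : B ⊗[A] B) := by
      rw [Finset.sum_smul]
      apply Finset.sum_congr rfl
      intro k hk
      rw [hS' k hk, Finset.prod_empty]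
    rw [e1, zero_add, pow_one, RingHom.mem_ker] at hz
    have hz' : Algebra.TensorProduct.lmul' A ((∑ k ∈ T, a k) • (1 : B ⊗[A] B)) = 0 := hz
    rw [lmul_smul_one] at hz'
    have e2 : ∑ k ∈ T, a k • ∏ i ∈ S k, ell e (w k i) =
        (∑ k ∈ T, a k) • (1 : MvPolynomial J B) := by
      rw [Finset.sum_smul]
      apply Finset.sum_congr rfl
      intro k hk
      rw [hS' k hk, Finset.prod_empty]
    rw [e2, hz', zero_smul]
  | succ n ih =>
    intro κ T a S w hS hz
    apply PPGen.eq_zero_of_pderiv_eq_zero
    · rw [map_sum]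
      apply Finset.sum_eq_zero
      intro k hk
      rw [MvPolynomial.smul_eq_C_mul, map_mul, map_prod]
      have hne : (S k).Nonempty := Finset.card_pos.mp (by rw [hS k hk]; omega)
      obtain ⟨i, hi⟩ := hne
      rw [Finset.prod_eq_zero hi (constantCoeff_ell e _), mul_zero]
    · intro j
      have hp : MvPolynomial.pderiv j (∑ k ∈ T, a k • ∏ i ∈ S k, ell e (w k i)) =
          ∑ x ∈ T.sigma S, (a x.1 * e.coord j (w x.1 x.2)) •
            ∏ i ∈ (S x.1).erase x.2, ell e (w x.1 i) := by
        rw [map_sum, Finset.sum_sigma]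
        apply Finset.sum_congr rfl
        intro k hk
        rw [Derivation.map_smul, PPGen.leibniz_prod, Finset.smul_sum]
        apply Finset.sum_congr rfl
        intro p hp
        rw [pderiv_ell, MvPolynomial.C_mul', smul_smul]
      rw [hp]
      apply ih (Σ _ : κ, ι) (T.sigma S) (fun x => a x.1 * e.coord j (w x.1 x.2))
        (fun x => (S x.1).erase x.2) (fun x => w x.1)
      · intro x hx
        rw [Finset.mem_sigma] at hx
        rw [Finset.card_erase_of_mem hx.2, hS x.1 hx.1]
        rfl
      · have hδ := PPGen.deriv_mem_pow (tensorDer (coordDer e j))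
          (KaehlerDifferential.ideal A B) (n + 1) _ hz
        have hδz : tensorDer (coordDer e j) (∑ k ∈ T, a k • ∏ i ∈ S k, s (w k i)) =
            ∑ x ∈ T.sigma S, a x.1 • (tensorDer (coordDer e j) (s (w x.1 x.2)) *
              ∏ i ∈ (S x.1).erase x.2, s (w x.1 i)) := by
          rw [map_sum, Finset.sum_sigma]
          apply Finset.sum_congr rfl
          intro k hk
          rw [Derivation.map_smul, PPGen.leibniz_prod, Finset.smul_sum]
        rw [hδz] at hδ
        have hdiff : (∑ x ∈ T.sigma S, a x.1 • (tensorDer (coordDer e j) (s (w x.1 x.2)) *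
              ∏ i ∈ (S x.1).erase x.2, s (w x.1 i))) -
            ∑ x ∈ T.sigma S, (a x.1 * e.coord j (w x.1 x.2)) •
              ∏ i ∈ (S x.1).erase x.2, s (w x.1 i) ∈
            KaehlerDifferential.ideal A B ^ (n + 1) := by
          rw [← Finset.sum_sub_distrib]
          apply Ideal.sum_mem
          intro x hx
          rw [Finset.mem_sigma] at hx
          have e3 : a x.1 • (tensorDer (coordDer e j) (s (w x.1 x.2)) *
              ∏ i ∈ (S x.1).erase x.2, s (w x.1 i)) -
              (a x.1 * e.coord j (w x.1 x.2)) • ∏ i ∈ (S x.1).erase x.2, s (w x.1 i) =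
              a x.1 • ((tensorDer (coordDer e j) (s (w x.1 x.2)) -
                (e.coord j (w x.1 x.2)) • (1 : B ⊗[A] B)) *
                ∏ i ∈ (S x.1).erase x.2, s (w x.1 i)) := by
            rw [mul_smul, sub_mul, smul_mul_assoc, one_mul, smul_sub]
          rw [e3]
          apply smul_mem_ideal
          have h1 := tensorDer_s_sub_mem e s hs hs' j (w x.1 x.2)
          have h2 := PPGen.prod_mem_pow (KaehlerDifferential.ideal A B) ((S x.1).erase x.2)
            (fun i => s (w x.1 i)) (fun i _ => hs _)
          rw [Finset.card_erase_of_mem hx.2, hS x.1 hx.1] at h2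
          have h3 := Ideal.mul_mem_mul h1 h2
          rw [← pow_succ'] at h3
          exact h3
        exact (Submodule.sub_mem_iff_right _ hδ).mp hdiff

end Key


section Theta

variable (ι : Type u) [Fintype ι]

/-- The polynomial-valued symmetric multilinear map `(ω_i) ↦ ∏ ℓ(ω_i)`. -/
noncomputable def polyMul : MultilinearMap B (fun _ : ι => Ω[B⁄A]) (MvPolynomial J B) :=
  (MultilinearMap.mkPiAlgebra B ι (MvPolynomial J B)).compLinearMap (fun _ => ell e)

lemma polyMul_apply (v : ι → Ω[B⁄A]) : polyMul e ι v = ∏ i, ell e (v i) := by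
  simp [polyMul]

/-- The comparison map from the symmetric power to polynomials. -/
noncomputable def theta : SymmetricPower B ι (Ω[B⁄A]) →ₗ[B] MvPolynomial J B :=
  SymLift.symLift (polyMul e ι) (fun σ v => by
    rw [polyMul_apply, polyMul_apply]
    exact Equiv.prod_comp σ (fun i => ell e (v i)))

lemma theta_tprod (v : ι → Ω[B⁄A]) :
    theta e ι (SymmetricPower.tprod B v) = ∏ i, ell e (v i) := by
  rw [theta, SymLift.symLift_tprod, polyMul_apply]

/-- The exponent vector of a map `g : ι → J`. -/
noncomputable def expo (g : ι → J) : J →₀ ℕ := ∑ i, Finsupp.single (g i) 1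

lemma prod_X (g : ι → J) :
    ∏ i, (MvPolynomial.X (g i) : MvPolynomial J B) = MvPolynomial.monomial (expo ι g) 1 := by
  rw [expo, MvPolynomial.monomial_sum_one]
  rfl

open Classical in
/-- The candidate inverse on monomials. -/
noncomputable def Emon (m : J →₀ ℕ) : SymmetricPower B ι (Ω[B⁄A]) :=
  if h : ∃ g : ι → J, expo ι g = m then SymmetricPower.tprod B (fun i => e (h.choose i)) else 0

lemma Emon_expo (g : ι → J) :
    Emon e ι (expo ι g) = SymmetricPower.tprod B (fun i => e (g i)) := by
  classical
  have h : ∃ g' : ι → J, expo ι g' = expo ι g := ⟨g, rfl⟩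
  rw [Emon, dif_pos h]
  obtain ⟨σ, hσ⟩ := PPGen.exists_perm_of_count_eq g h.choose h.choose_spec.symm
  have : (fun i => e (h.choose i)) = fun i => (fun i => e (g i)) (σ i) := by
    funext i
    rw [hσ i]
  rw [this]
  exact SymmetricPower.tprod_equiv σ (fun i => e (g i))

/-- The candidate inverse of `theta`. -/
noncomputable def rho : MvPolynomial J B →ₗ[B] SymmetricPower B ι (Ω[B⁄A]) :=
  (MvPolynomial.basisMonomials J B).constr B (Emon e ι)

lemma rho_monomial (m : J →₀ ℕ) : rho e ι (MvPolynomial.monomial m 1) = Emon e ι m := by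
  have := (MvPolynomial.basisMonomials J B).constr_basis B (Emon e ι) m
  rw [MvPolynomial.coe_basisMonomials] at this
  exact this

theorem rho_theta : rho e ι ∘ₗ theta e ι = LinearMap.id := by
  have key : ((rho e ι ∘ₗ theta e ι).compMultilinearMap (SymmetricPower.tprod B)) =
      (LinearMap.id : SymmetricPower B ι (Ω[B⁄A]) →ₗ[B] _).compMultilinearMap
        (SymmetricPower.tprod B) := by
    apply Module.Basis.ext_multilinear (fun _ => e)
    intro g
    simp only [LinearMap.compMultilinearMap_apply, LinearMap.coe_comp, Function.comp_apply,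
      theta_tprod, ell_basis, prod_X, rho_monomial, Emon_expo, LinearMap.id_coe, id_eq]
  apply SymLift.hom_ext
  intro v
  exact congrFun (congrArg DFunLike.coe key) v

theorem theta_injective : Function.Injective (theta e ι) := by
  intro x y hxy
  have h1 := LinearMap.congr_fun (rho_theta e ι) x
  have h2 := LinearMap.congr_fun (rho_theta e ι) y
  simp only [LinearMap.coe_comp, Function.comp_apply, LinearMap.id_coe, id_eq] at h1 h2
  rw [← h1, ← h2, hxy]

end Theta


section Main

variable (A B)

theorem main [Algebra ℚ B] (hΩ : Module.Free B (Ω[B⁄A])) : PP16.IsDiffSmooth A B := by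
  have hproj : Module.Projective B (Ω[B⁄A]) := Module.Projective.of_free
  refine ⟨hproj, ?_⟩
  intro ι _
  classical
  let e := Module.Free.chooseBasis B (Ω[B⁄A])
  obtain ⟨s, hs, hs'⟩ := exists_section A B
  refine ⟨phi A B ι s hs, phi_tprod_D A B ι s hs hs', ?_, ?_⟩
  · rw [injective_iff_map_eq_zero]
    intro x hx
    obtain ⟨T, a, rfl⟩ := SymLift.exists_rep x
    have h1 : phi A B ι s hs (∑ k ∈ T, a k • SymmetricPower.tprod B k) =
        Submodule.Quotient.mk (∑ k ∈ T, a k •
          (⟨∏ i, s (k i), prod_s_mem A B ι s hs k⟩ :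
            ↥((KaehlerDifferential.ideal A B ^ Fintype.card ι).restrictScalars B))) := by
      rw [map_sum, ← Submodule.mkQ_apply, map_sum]
      apply Finset.sum_congr rfl
      intro k _
      rw [map_smul, phi_tprod, map_smul]
      rfl
    rw [h1, Submodule.Quotient.mk_eq_zero, Submodule.mem_comap] at hx
    have h2 : (∑ k ∈ T, a k • ∏ i ∈ (Finset.univ : Finset ι), s (k i)) ∈
        KaehlerDifferential.ideal A B ^ (Fintype.card ι + 1) := by
      have : ((KaehlerDifferential.ideal A B ^ Fintype.card ι).restrictScalars B).subtype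
          (∑ k ∈ T, a k •
          (⟨∏ i, s (k i), prod_s_mem A B ι s hs k⟩ :
            ↥((KaehlerDifferential.ideal A B ^ Fintype.card ι).restrictScalars B))) =
          ∑ k ∈ T, a k • ∏ i ∈ (Finset.univ : Finset ι), s (k i) := by
        rw [map_sum]
        apply Finset.sum_congr rfl
        intro k _
        rw [map_smul]
        rfl
      rw [← this]
      exact hx
    have h3 := key e s hs hs' ι (Fintype.card ι) (ι → Ω[B⁄A]) T a (fun _ => Finset.univ)
      (fun k => k) (fun _ _ => Finset.card_univ) h2
    apply theta_injective e ι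
    rw [map_zero, map_sum]
    rw [← h3]
    apply Finset.sum_congr rfl
    intro k _
    rw [map_smul, theta_tprod]
  · exact phi_surjective A B ι _ (phi_tprod_D A B ι s hs hs')

end Main

end Groth.Agent.Lib.Helper26.PPMain2


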