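import Mathlib
import Groth.Prelude.Def_PP16
import Groth.Prelude.Def_DiffOp
import Groth.Agent.Lib.Helper5.DiffOp
import Groth.Agent.Lib.Helper26.SymLift
import Groth.Agent.Lib.Helper26.PPGen
import Groth.Agent.Lib.Helper26.PPMain1
import Groth.Agent.Lib.Helper26.SymPoly
import Groth.Agent.Lib.Helper26.PPBasis

set_option autoImplicit false
universe u
open TensorProduct

namespace Groth.Agent.Lib.Helper26.PPOps

open Groth.Agent.Lib.Helper26 Groth.Agent.Lib.Helper26.PPMain1 Groth.Agent.Lib.Helper26.PPBasis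

section General

variable {B : Type*} [CommRing B] {C : Type*} [CommRing C] [Algebra B C]
  {ι : Type*} [Fintype ι] [DecidableEq ι]

/-- The multi-binomial coefficient matrix. -/
noncomputable def Mc (a : ι → B) (q r : ι → ℕ) : B :=
  ∏ i, ((q i).choose (r i) : B) * a i ^ (q i - r i)

lemma Mc_self (a : ι → B) (q : ι → ℕ) : Mc a q q = 1 := by
  unfold Mc
  apply Finset.prod_eq_one
  intro i _
  rw [Nat.choose_self, Nat.sub_self, pow_zero, Nat.cast_one, one_mul]

lemma Mc_eq (a : ι → B) (q p : ι → ℕ) :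
    Mc a q p = ((∏ i, (q i).choose (p i) : ℕ) : B) * ∏ i, a i ^ (q i - p i) := by
  unfold Mc
  rw [Finset.prod_mul_distrib, Nat.cast_prod]

lemma Mc_eq_zero (a : ι → B) (q p : ι → ℕ)
    (h : p ∉ Fintype.piFinset (fun i => Finset.range (q i + 1))) : Mc a q p = 0 := by
  rw [Fintype.mem_piFinset] at h
  push Not at h
  obtain ⟨i, hi⟩ := h
  rw [Finset.mem_range] at hi
  unfold Mc
  apply Finset.prod_eq_zero (Finset.mem_univ i)
  rw [Nat.choose_eq_zero_of_lt (by omega), Nat.cast_zero, zero_mul]

lemma sum_Mc_delta (a : ι → B) (q p : ι → ℕ) :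
    ∑ r ∈ Fintype.piFinset (fun i => Finset.range (q i + 1)),
      Mc a q r * (if r = p then (1 : B) else 0) = Mc a q p := by
  by_cases hp : p ∈ Fintype.piFinset (fun i => Finset.range (q i + 1))
  · rw [Finset.sum_eq_single p]
    · rw [if_pos rfl, mul_one]
    · intro r _ hr
      rw [if_neg hr, mul_zero]
    · intro h
      exact absurd hp h
  · rw [Mc_eq_zero a q p hp]
    apply Finset.sum_eq_zero
    intro r hr
    have : r ≠ p := fun h => hp (h ▸ hr)
    rw [if_neg this, mul_zero]

lemma prod_add_pow (ζ : ι → C) (a : ι → B) (q : ι → ℕ) :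
    ∏ i, (ζ i + algebraMap B C (a i)) ^ q i =
      ∑ r ∈ Fintype.piFinset (fun i => Finset.range (q i + 1)),
        Mc a q r • ∏ i, ζ i ^ r i := by
  simp_rw [add_pow]
  rw [Finset.prod_univ_sum]
  apply Finset.sum_congr rfl
  intro r _
  unfold Mc
  rw [Algebra.smul_def, map_prod, ← Finset.prod_mul_distrib]
  apply Finset.prod_congr rfl
  intro i _
  rw [map_mul, map_natCast, map_pow]
  ring

lemma sum_lt_of_mem_piFinset {q r : ι → ℕ}
    (hr : r ∈ Fintype.piFinset (fun i => Finset.range (q i + 1))) (hne : r ≠ q) :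
    ∑ i, r i < ∑ i, q i := by
  rw [Fintype.mem_piFinset] at hr
  have hle : ∀ i, r i ≤ q i := fun i => by
    have := hr i
    rw [Finset.mem_range] at this
    omega
  have : ∃ i, r i ≠ q i := by
    by_contra hcon
    push Not at hcon
    exact hne (funext hcon)
  obtain ⟨i, hi⟩ := this
  apply Finset.sum_lt_sum (fun i _ => hle i)
  exact ⟨i, Finset.mem_univ i, lt_of_le_of_ne (hle i) hi⟩

end General


section Expansion

variable {A B : Type u} [CommRing A] [CommRing B] [Algebra A B]
variable {ι : Type} [Fintype ι] [DecidableEq ι] (z : ι → B)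

lemma one_tmul_eq (b : B) :
    (1 : B) ⊗ₜ[A] b = zeta A B b + algebraMap B (B ⊗[A] B) b := by
  have : algebraMap B (B ⊗[A] B) b = b ⊗ₜ[A] (1 : B) := by
    rw [Algebra.TensorProduct.algebraMap_apply]
    rfl
  rw [this, zeta, sub_add_cancel]

lemma one_tmul_prod (q : ι → ℕ) :
    (1 : B) ⊗ₜ[A] (∏ i, z i ^ q i) =
      ∑ r ∈ Fintype.piFinset (fun i => Finset.range (q i + 1)),
        Mc z q r • zpow (A := A) z r := by
  have h1 : (1 : B) ⊗ₜ[A] (∏ i, z i ^ q i) =
      ∏ i, (zeta A B (z i) + algebraMap B (B ⊗[A] B) (z i)) ^ q i := by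
    have : (1 : B) ⊗ₜ[A] (∏ i, z i ^ q i) =
        (Algebra.TensorProduct.includeRight : B →ₐ[A] B ⊗[A] B) (∏ i, z i ^ q i) := rfl
    rw [this, map_prod]
    apply Finset.prod_congr rfl
    intro i _
    rw [map_pow, ← one_tmul_eq]
    rfl
  rw [h1, prod_add_pow]
  rfl

end Expansion

section Forward

variable {A B : Type u} [CommRing A] [CommRing B] [Algebra A B]
variable {ι : Type} [Fintype ι] [DecidableEq ι] (z : ι → B)

/-- The operator attached to a basis of `P^m` and an index. -/
noncomputable def opOf (m : ℕ)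
    (bb : Module.Basis {p : ι → ℕ // ∑ i, p i ≤ m} B (PP16.P m A B))
    (p : {p : ι → ℕ // ∑ i, p i ≤ m}) : B →ₗ[A] B :=
  ((bb.coord p).restrictScalars A) ∘ₗ (PP16.dn m A B).toLinearMap

lemma opOf_apply (m : ℕ)
    (bb : Module.Basis {p : ι → ℕ // ∑ i, p i ≤ m} B (PP16.P m A B))
    (p : {p : ι → ℕ // ∑ i, p i ≤ m}) (c : B) :
    opOf m bb p c = bb.coord p (Ideal.Quotient.mk _ ((1 : B) ⊗ₜ[A] c)) := rfl

lemma linearize_opOf (m : ℕ)
    (bb : Module.Basis {p : ι → ℕ // ∑ i, p i ≤ m} B (PP16.P m A B))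
    (p : {p : ι → ℕ // ∑ i, p i ≤ m}) (x : B ⊗[A] B) :
    Diff16.linearize A B B B (opOf m bb p) x =
      bb.coord p (Ideal.Quotient.mk (KaehlerDifferential.ideal A B ^ (m + 1)) x) := by
  induction x using TensorProduct.induction_on with
  | zero => simp
  | tmul c d =>
    rw [Groth.Agent.Helper5.linearize_tmul, opOf_apply]
    have : (Ideal.Quotient.mk (KaehlerDifferential.ideal A B ^ (m + 1)) (c ⊗ₜ[A] d) :
        PP16.P m A B) = c • Ideal.Quotient.mk (KaehlerDifferential.ideal A B ^ (m + 1))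
          ((1 : B) ⊗ₜ[A] d) := by
      have e : c ⊗ₜ[A] d = c • ((1 : B) ⊗ₜ[A] d) := by
        rw [TensorProduct.smul_tmul', smul_eq_mul, mul_one]
      rw [e]
      rfl
    rw [this, map_smul]
  | add x y hx hy => rw [map_add, map_add, map_add, hx, hy]

lemma isDiffOpLE_opOf (m : ℕ)
    (bb : Module.Basis {p : ι → ℕ // ∑ i, p i ≤ m} B (PP16.P m A B))
    (p : {p : ι → ℕ // ∑ i, p i ≤ m}) :
    Diff16.IsDiffOpLE A B B B m (opOf m bb p) := by
  rw [Groth.Agent.Helper5.isDiffOpLE_iff_linearize]
  intro x hx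
  rw [linearize_opOf, Ideal.Quotient.eq_zero_iff_mem.mpr hx, map_zero]

lemma opOf_prod (m : ℕ)
    (bb : Module.Basis {p : ι → ℕ // ∑ i, p i ≤ m} B (PP16.P m A B))
    (hbb : ∀ p, bb p = Ideal.Quotient.mk (KaehlerDifferential.ideal A B ^ (m + 1))
      (zpow (A := A) z p.1))
    (p : ι → ℕ) (hp : ∑ i, p i = m) (q : ι → ℕ) :
    opOf m bb ⟨p, hp.le⟩ (∏ i, z i ^ q i) = Mc z q p := by
  rw [opOf_apply, one_tmul_prod, map_sum, map_sum]
  rw [← sum_Mc_delta z q p]
  apply Finset.sum_congr rfl
  intro r _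
  have e1 : (Ideal.Quotient.mk (KaehlerDifferential.ideal A B ^ (m + 1))
      (Mc z q r • zpow (A := A) z r) : PP16.P m A B) =
      Mc z q r • Ideal.Quotient.mk (KaehlerDifferential.ideal A B ^ (m + 1))
        (zpow (A := A) z r) := rfl
  rw [e1, map_smul, smul_eq_mul]
  congr 1
  by_cases hr : ∑ i, r i ≤ m
  · rw [← hbb ⟨r, hr⟩, Module.Basis.coord_apply, Module.Basis.repr_self, Finsupp.single_apply]
    by_cases hrp : r = p
    · subst hrp
      rw [if_pos rfl, if_pos rfl]
    · rw [if_neg hrp, if_neg]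
      intro h
      exact hrp (congrArg Subtype.val h)
  · have hmem : zpow (A := A) z r ∈ KaehlerDifferential.ideal A B ^ (m + 1) :=
      Ideal.pow_le_pow_right (by omega) (zpow_mem z r)
    rw [Ideal.Quotient.eq_zero_iff_mem.mpr hmem, map_zero, if_neg]
    intro h
    rw [h] at hr
    omega

end Forward


section ForwardMain

variable {A B : Type u} [CommRing A] [CommRing B] [Algebra A B]
variable {ι : Type} [Fintype ι] [DecidableEq ι] (z : ι → B)

theorem forward (hB : PP16.IsDiffSmooth A B) (b : Module.Basis ι B (Ω[B⁄A]))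
    (hb : ∀ i, b i = KaehlerDifferential.D A B (z i)) :
    ∃ Dp : (ι → ℕ) → (B →ₗ[A] B),
      (∀ p, ∃ k : ℕ, Diff16.IsDiffOpLE A B B B k (Dp p)) ∧
      ∀ p q : ι → ℕ, Dp p (∏ i, z i ^ q i) =
        ((∏ i, Nat.choose (q i) (p i) : ℕ) : B) * ∏ i, z i ^ (q i - p i) := by
  have hex : ∀ m, ∃ bb : Module.Basis {p : ι → ℕ // ∑ i, p i ≤ m} B (PP16.P m A B),
      ∀ p, bb p = Ideal.Quotient.mk (KaehlerDifferential.ideal A B ^ (m + 1))
        (zpow (A := A) z p.1) := by
    intro m
    obtain ⟨bb, hbb⟩ := PPBasis.main A B hB ι z ⟨b, hb⟩ m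
    refine ⟨bb, fun p => ?_⟩
    rw [hbb]
    simp only [zpow, map_prod, map_pow]
    rfl
  choose bb hbb using hex
  refine ⟨fun p => opOf (∑ i, p i) (bb _) ⟨p, le_rfl⟩,
    fun p => ⟨_, isDiffOpLE_opOf _ _ _⟩, fun p q => ?_⟩
  rw [opOf_prod z _ (bb _) (hbb _) p rfl q, Mc_eq]

end ForwardMain


section Cnt

variable {ι' : Type*} [Fintype ι'] {ι : Type*} [Fintype ι] [DecidableEq ι]

/-- The number of times `g` hits `i`. -/
def cnt (g : ι' → ι) (i : ι) : ℕ := (Finset.univ.filter (fun j => g j = i)).card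

lemma prod_comp_cnt {M : Type*} [CommMonoid M] (g : ι' → ι) (f : ι → M) :
    ∏ j, f (g j) = ∏ i, f i ^ cnt g i := by
  rw [← Finset.prod_fiberwise Finset.univ g (fun j => f (g j))]
  apply Finset.prod_congr rfl
  intro i _
  rw [Finset.prod_congr rfl (fun j hj => by rw [(Finset.mem_filter.mp hj).2]),
    Finset.prod_const]
  rfl

lemma sum_cnt (g : ι' → ι) : ∑ i, cnt g i = Fintype.card ι' := by
  rw [← Finset.card_univ]
  exact (Finset.card_eq_sum_card_fiberwise (fun x _ => Finset.mem_univ (g x))).symm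

end Cnt

section Backward

variable {A B : Type u} [CommRing A] [CommRing B] [Algebra A B]
variable {ι : Type} [Fintype ι] [DecidableEq ι] (z : ι → B)
variable (Dp : (ι → ℕ) → (B →ₗ[A] B))

/-- The linearisation of the operator `Dp p`. -/
noncomputable def uu (p : ι → ℕ) : B ⊗[A] B →ₗ[A] B := Diff16.linearize A B B B (Dp p)

lemma uu_smul (p : ι → ℕ) (c : B) (x : B ⊗[A] B) : uu Dp p (c • x) = c * uu Dp p x := by
  induction x using TensorProduct.induction_on with
  | zero => simp
  | tmul d e =>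
    rw [TensorProduct.smul_tmul', uu, Groth.Agent.Helper5.linearize_tmul,
      Groth.Agent.Helper5.linearize_tmul, smul_eq_mul, smul_eq_mul, smul_eq_mul, mul_assoc]
  | add x y hx hy => rw [smul_add, map_add, map_add, hx, hy, mul_add]

variable (hord : ∀ p, ∃ k : ℕ, Diff16.IsDiffOpLE A B B B k (Dp p))
  (hform : ∀ p q : ι → ℕ, Dp p (∏ i, z i ^ q i) =
    ((∏ i, Nat.choose (q i) (p i) : ℕ) : B) * ∏ i, z i ^ (q i - p i))

include hform in
lemma uu_one_tmul (p q : ι → ℕ) :
    uu Dp p ((1 : B) ⊗ₜ[A] (∏ i, z i ^ q i)) = Mc z q p := by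
  rw [uu, Groth.Agent.Helper5.linearize_tmul, one_smul, hform, Mc_eq]

include hform in
lemma uu_zpow (p : ι → ℕ) : ∀ q : ι → ℕ,
    uu Dp p (zpow (A := A) z q) = if q = p then 1 else 0 := by
  intro q
  induction hn : ∑ i, q i using Nat.strong_induction_on generalizing q with
  | _ n ih =>
    have h1 := uu_one_tmul z Dp hform p q
    rw [one_tmul_prod, map_sum] at h1
    have h2 := sum_Mc_delta z q p
    have h3 : ∑ r ∈ Fintype.piFinset (fun i => Finset.range (q i + 1)),
        Mc z q r * (uu Dp p (zpow (A := A) z r) - if r = p then (1 : B) else 0) = 0 := by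
      simp_rw [mul_sub]
      rw [Finset.sum_sub_distrib, h2, ← h1]
      simp_rw [uu_smul]
      exact sub_self _
    rw [Finset.sum_eq_single q] at h3
    · rw [Mc_self, one_mul, sub_eq_zero] at h3
      exact h3
    · intro r hr hne
      rw [ih (∑ i, r i) (by rw [← hn]; exact sum_lt_of_mem_piFinset hr hne) r rfl, sub_self,
        mul_zero]
    · intro h
      exfalso
      apply h
      rw [Fintype.mem_piFinset]
      intro i
      rw [Finset.mem_range]
      omega

/-- The span of the monomials of degree at least `n`. -/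
noncomputable def Vge (n : ℕ) : Submodule B (B ⊗[A] B) :=
  Submodule.span B ((zpow (A := A) z) '' {p | n ≤ ∑ i, p i})

lemma V_le_Vge {n N : ℕ} (h : n ≤ N) : V (A := A) z N ≤ Vge z n := by
  apply Submodule.span_mono
  apply Set.image_mono
  intro p hp
  rw [Set.mem_ofPred_eq] at hp ⊢
  omega

variable (hz : Submodule.span B (Set.range fun i => KaehlerDifferential.D A B (z i)) = ⊤)

include hz in
lemma ideal_le' : (KaehlerDifferential.ideal A B).restrictScalars B ≤
    V z 1 ⊔ (KaehlerDifferential.ideal A B ^ 2).restrictScalars B := by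
  intro x hx
  have hx' : x ∈ KaehlerDifferential.ideal A B := hx
  let f : ↥(KaehlerDifferential.ideal A B) →ₗ[B] Ω[B⁄A] :=
    (KaehlerDifferential.fromIdeal A B).restrictScalars B
  have hω : f ⟨x, hx'⟩ ∈
      Submodule.span B (Set.range fun i => KaehlerDifferential.D A B (z i)) := by
    rw [hz]
    trivial
  obtain ⟨c, hc⟩ := (Submodule.mem_span_range_iff_exists_fun B).mp hω
  let y : ↥(KaehlerDifferential.ideal A B) :=
    ⟨x, hx'⟩ - ∑ i, c i • (⟨zeta A B (z i), zeta_mem A B (z i)⟩ :
      ↥(KaehlerDifferential.ideal A B))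
  have hfz : ∀ i, f ⟨zeta A B (z i), zeta_mem A B (z i)⟩ = KaehlerDifferential.D A B (z i) := by
    intro i
    rw [KaehlerDifferential.D_apply]
    rfl
  have hy : f y = 0 := by
    simp only [y, map_sub, map_sum, map_smul, hfz]
    rw [hc, sub_self]
  have hy2 : (y : B ⊗[A] B) ∈ KaehlerDifferential.ideal A B ^ 2 :=
    (Ideal.toCotangent_eq_zero _ y).mp hy
  have hyc : (y : B ⊗[A] B) = x - ∑ i, c i • zeta A B (z i) := by
    simp only [y, Submodule.coe_sub, Submodule.coe_sum, Submodule.coe_smul_of_tower]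
  rw [Submodule.mem_sup]
  refine ⟨∑ i, c i • zeta A B (z i), ?_, (y : B ⊗[A] B), hy2, ?_⟩
  · apply Submodule.sum_mem
    intro i _
    apply Submodule.smul_mem
    apply Submodule.subset_span
    exact ⟨Pi.single i 1, by simp [Set.mem_ofPred_eq], zpow_single z i⟩
  · rw [hyc]
    abel

include hz in
lemma pow_le' (n : ℕ) : (KaehlerDifferential.ideal A B ^ n).restrictScalars B ≤
    V z n ⊔ (KaehlerDifferential.ideal A B ^ (n + 1)).restrictScalars B := by
  induction n with
  | zero =>
    intro x _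
    rw [Submodule.mem_sup]
    refine ⟨(Algebra.TensorProduct.lmul' A x) • (1 : B ⊗[A] B), ?_,
      x - (Algebra.TensorProduct.lmul' A x) • (1 : B ⊗[A] B), ?_, by abel⟩
    · apply Submodule.smul_mem
      apply Submodule.subset_span
      exact ⟨0, by simp [Set.mem_ofPred_eq], zpow_zero z⟩
    · rw [zero_add, pow_one]
      exact sub_lmul_mem x
  | succ n ih =>
    intro x hx
    have hx' : x ∈ KaehlerDifferential.ideal A B * KaehlerDifferential.ideal A B ^ n := by
      rw [← pow_succ']
      exact hx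
    refine Submodule.mul_induction_on hx' ?_ ?_
    · intro u hu v hv
      obtain ⟨u1, hu1, u2, hu2, rfl⟩ := Submodule.mem_sup.mp (ideal_le' z hz hu)
      obtain ⟨v1, hv1, v2, hv2, hv12⟩ := Submodule.mem_sup.mp (ih hv)
      have hu1I : u1 ∈ KaehlerDifferential.ideal A B := by
        have := V_le (A := A) z 1 hu1
        rwa [pow_one] at this
      have huv : u1 * v1 ∈ V (A := A) z (n + 1) := by
        have := V_mul_le z 1 n (Submodule.mul_mem_mul hu1 hv1)
        rwa [add_comm] at this
      rw [Submodule.mem_sup]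
      refine ⟨u1 * v1, huv, u1 * v2 + u2 * v, ?_, ?_⟩
      · apply Submodule.add_mem
        · have := Ideal.mul_mem_mul hu1I hv2
          rw [← pow_succ'] at this
          exact this
        · have := Ideal.mul_mem_mul hu2 hv
          rw [← pow_add] at this
          have h2 : 2 + n = n + 1 + 1 := by omega
          rw [h2] at this
          exact this
      · rw [← hv12]
        ring
    · intro a c ha hc
      exact Submodule.add_mem _ ha hc

include hz in
lemma pow_le_ge (n : ℕ) : ∀ N, n ≤ N → (KaehlerDifferential.ideal A B ^ n).restrictScalars B ≤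
    Vge z n ⊔ (KaehlerDifferential.ideal A B ^ N).restrictScalars B := by
  intro N hN
  induction N, hN using Nat.le_induction with
  | base => exact le_sup_right
  | succ N hN ih =>
    calc (KaehlerDifferential.ideal A B ^ n).restrictScalars B
        ≤ Vge z n ⊔ (KaehlerDifferential.ideal A B ^ N).restrictScalars B := ih
      _ ≤ Vge z n ⊔ (V z N ⊔ (KaehlerDifferential.ideal A B ^ (N + 1)).restrictScalars B) :=
          sup_le_sup_left (pow_le' z hz N) _
      _ ≤ Vge z n ⊔ (KaehlerDifferential.ideal A B ^ (N + 1)).restrictScalars B := by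
          rw [← sup_assoc]
          exact sup_le_sup_right (sup_le le_rfl (V_le_Vge z hN)) _

include hord hform hz in
theorem indep' (p : ι → ℕ) (n : ℕ) (hp : ∑ i, p i = n) {κ : Type*} (T : Finset κ)
    (P : κ → ι → ℕ) (c : κ → B)
    (h : ∑ k ∈ T, c k • zpow (A := A) z (P k) ∈ KaehlerDifferential.ideal A B ^ (n + 1)) :
    ∑ k ∈ T, (if P k = p then c k else 0) = 0 := by
  obtain ⟨k0, hk0⟩ := hord p
  rw [Groth.Agent.Helper5.isDiffOpLE_iff_linearize] at hk0
  have hle := pow_le_ge z hz (n + 1) (max k0 n + 1) (by omega) h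
  have hV : ∀ w ∈ Vge (A := A) z (n + 1), uu Dp p w = 0 := by
    intro w hw
    unfold Vge at hw
    induction hw using Submodule.span_induction with
    | mem x hx =>
      obtain ⟨r, hr, rfl⟩ := hx
      rw [Set.mem_ofPred_eq] at hr
      rw [uu_zpow z Dp hform, if_neg]
      rintro rfl
      omega
    | zero => exact map_zero _
    | add x y _ _ hx hy => rw [map_add, hx, hy, add_zero]
    | smul c x _ hx => rw [uu_smul, hx, mul_zero]
  obtain ⟨w, hw, y, hy, hwy⟩ := Submodule.mem_sup.mp hle
  have huw : uu Dp p w = 0 := hV w hw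
  have huy : uu Dp p y = 0 := hk0 y (Ideal.pow_le_pow_right (by omega) hy)
  have hzero : uu Dp p (∑ k ∈ T, c k • zpow (A := A) z (P k)) = 0 := by
    rw [← hwy, map_add, huw, huy, add_zero]
  rw [map_sum] at hzero
  refine Eq.trans ?_ hzero
  apply Finset.sum_congr rfl
  intro k _
  rw [uu_smul, uu_zpow z Dp hform]
  split_ifs <;> simp

include hord hform hz in
theorem linearIndependent_dz :
    LinearIndependent B (fun i => KaehlerDifferential.D A B (z i)) := by
  rw [Fintype.linearIndependent_iff]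
  intro c hc i0
  let f : ↥(KaehlerDifferential.ideal A B) →ₗ[B] Ω[B⁄A] :=
    (KaehlerDifferential.fromIdeal A B).restrictScalars B
  let y : ↥(KaehlerDifferential.ideal A B) :=
    ∑ i, c i • (⟨zeta A B (z i), zeta_mem A B (z i)⟩ : ↥(KaehlerDifferential.ideal A B))
  have hfz : ∀ i, f ⟨zeta A B (z i), zeta_mem A B (z i)⟩ = KaehlerDifferential.D A B (z i) := by
    intro i
    rw [KaehlerDifferential.D_apply]
    rfl
  have hy : f y = 0 := by
    simp only [y, map_sum, map_smul, hfz]
    exact hc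
  have hy2 : (y : B ⊗[A] B) ∈ KaehlerDifferential.ideal A B ^ 2 :=
    (Ideal.toCotangent_eq_zero _ y).mp hy
  have hyc : (y : B ⊗[A] B) = ∑ i, c i • zpow (A := A) z (Pi.single i 1) := by
    simp only [y, Submodule.coe_sum, Submodule.coe_smul_of_tower, zpow_single]
  rw [hyc] at hy2
  have := indep' z Dp hord hform hz (Pi.single i0 1) 1 (by simp) Finset.univ
    (fun i => Pi.single i 1) c hy2
  rw [Finset.sum_eq_single i0] at this
  · rwa [if_pos rfl] at this
  · intro i _ hi
    rw [if_neg]
    intro h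
    apply hi
    have h1 := congrFun h i
    rw [Pi.single_eq_same] at h1
    by_contra hne
    rw [Pi.single_eq_of_ne hne] at h1
    exact one_ne_zero h1
  · intro h
    exact absurd (Finset.mem_univ i0) h

end Backward


section BackwardMain

variable {A B : Type u} [CommRing A] [CommRing B] [Algebra A B]
variable {ι : Type} [Fintype ι] [DecidableEq ι] (z : ι → B)
variable (Dp : (ι → ℕ) → (B →ₗ[A] B))
variable (hord : ∀ p, ∃ k : ℕ, Diff16.IsDiffOpLE A B B B k (Dp p))
  (hform : ∀ p q : ι → ℕ, Dp p (∏ i, z i ^ q i) =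
    ((∏ i, Nat.choose (q i) (p i) : ℕ) : B) * ∏ i, z i ^ (q i - p i))
variable (hz : Submodule.span B (Set.range fun i => KaehlerDifferential.D A B (z i)) = ⊤)

lemma tprod_expand (b : Module.Basis ι B (Ω[B⁄A])) (ι' : Type u) [Fintype ι']
    [DecidableEq ι'] (k : ι' → Ω[B⁄A]) :
    SymmetricPower.tprod B k = ∑ g : ι' → ι, (∏ j, b.repr (k j) (g j)) •
      SymmetricPower.tprod B (fun j => b (g j)) := by
  have hk : k = fun j => ∑ i, b.repr (k j) i • b i :=
    funext (fun j => (b.sum_repr (k j)).symm)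
  conv_lhs => rw [hk]
  rw [MultilinearMap.map_sum]
  apply Finset.sum_congr rfl
  intro g _
  rw [MultilinearMap.map_smul_univ]

include hord hform hz in
theorem backward : PP16.IsDiffSmooth A B ∧
    ∃ b : Module.Basis ι B (Ω[B⁄A]), ∀ i, b i = KaehlerDifferential.D A B (z i) := by
  classical
  have hli := linearIndependent_dz z Dp hord hform hz
  let b : Module.Basis ι B (Ω[B⁄A]) := Module.Basis.mk hli (by rw [hz])
  have hb : ∀ i, b i = KaehlerDifferential.D A B (z i) := fun i => Module.Basis.mk_apply _ _ i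
  have hproj : Module.Projective B (Ω[B⁄A]) := Module.Projective.of_basis b
  refine ⟨⟨hproj, ?_⟩, b, hb⟩
  intro ι' _
  obtain ⟨s, hs, hs'⟩ := exists_section A B
  refine ⟨phi A B ι' s hs, phi_tprod_D A B ι' s hs hs', ?_,
    phi_surjective A B ι' _ (phi_tprod_D A B ι' s hs hs')⟩
  rw [injective_iff_map_eq_zero]
  intro x hx
  apply SymPoly.theta_injective ι' b
  rw [map_zero]
  obtain ⟨T, a, rfl⟩ := SymLift.exists_rep x
  set Cg : (ι' → ι) → B := fun g => ∑ k ∈ T, a k * ∏ j, b.repr (k j) (g j) with hCg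
  have hxeq : ∑ k ∈ T, a k • SymmetricPower.tprod B k =
      ∑ g : ι' → ι, Cg g • SymmetricPower.tprod B
        (fun j => KaehlerDifferential.D A B (z (g j))) := by
    simp only [hCg, Finset.sum_smul]
    rw [Finset.sum_comm]
    apply Finset.sum_congr rfl
    intro k _
    rw [tprod_expand b ι' k, Finset.smul_sum]
    apply Finset.sum_congr rfl
    intro g _
    rw [smul_smul]
    simp only [hb]
  rw [hxeq] at hx ⊢
  -- consequences of `hx`
  have hmemg : ∀ g : ι' → ι, ∏ j, zeta A B (z (g j)) ∈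
      (KaehlerDifferential.ideal A B ^ Fintype.card ι').restrictScalars B := by
    intro g
    have := PPGen.prod_mem_pow (KaehlerDifferential.ideal A B) Finset.univ
      (fun j => zeta A B (z (g j))) (fun j _ => zeta_mem A B _)
    rwa [Finset.card_univ] at this
  have hrel : ∑ g : ι' → ι, Cg g • zpow (A := A) z (cnt g) ∈
      KaehlerDifferential.ideal A B ^ (Fintype.card ι' + 1) := by
    rw [map_sum] at hx
    have e1 : ∀ g ∈ (Finset.univ : Finset (ι' → ι)), phi A B ι' s hs (Cg g •
        SymmetricPower.tprod B (fun j => KaehlerDifferential.D A B (z (g j)))) =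
        Cg g • (Submodule.Quotient.mk ⟨∏ j, zeta A B (z (g j)), hmemg g⟩ :
          PP16.grI A B (Fintype.card ι')) := by
      intro g _
      rw [map_smul, phi_tprod_D A B ι' s hs hs']
      rfl
    rw [Finset.sum_congr rfl e1] at hx
    have e0 : ∀ (y : (ι' → ι) → ↥((KaehlerDifferential.ideal A B ^
        Fintype.card ι').restrictScalars B)),
        ∑ g, Cg g • (Submodule.Quotient.mk (y g) : PP16.grI A B (Fintype.card ι')) =
        Submodule.Quotient.mk (∑ g, Cg g • y g) := by
      intro y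
      rw [← Submodule.mkQ_apply, map_sum]
      apply Finset.sum_congr rfl
      intro k _
      rw [map_smul]
      rfl
    rw [e0 (fun g => ⟨∏ j, zeta A B (z (g j)), hmemg g⟩), Submodule.Quotient.mk_eq_zero,
      Submodule.mem_comap] at hx
    have e2 : ((KaehlerDifferential.ideal A B ^ Fintype.card ι').restrictScalars B).subtype
        (∑ g : ι' → ι, Cg g • (⟨∏ j, zeta A B (z (g j)), hmemg g⟩ :
          ↥((KaehlerDifferential.ideal A B ^ Fintype.card ι').restrictScalars B))) =
        ∑ g : ι' → ι, Cg g • zpow (A := A) z (cnt g) := by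
      rw [map_sum]
      apply Finset.sum_congr rfl
      intro g _
      rw [map_smul]
      congr 1
      exact prod_comp_cnt g (fun i => zeta A B (z i))
    rw [e2] at hx
    exact hx
  -- the polynomial side
  have hθ : SymPoly.theta ι' (SymPoly.ell b) (∑ g : ι' → ι, Cg g • SymmetricPower.tprod B
      (fun j => KaehlerDifferential.D A B (z (g j)))) =
      ∑ g : ι' → ι, Cg g • MvPolynomial.monomial (Finsupp.equivFunOnFinite.symm (cnt g))
        (1 : B) := by
    rw [map_sum]
    apply Finset.sum_congr rfl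
    intro g _
    rw [map_smul, SymPoly.theta_tprod]
    congr 1
    have e3 : ∀ j, SymPoly.ell b (KaehlerDifferential.D A B (z (g j))) =
        (MvPolynomial.X (g j) : MvPolynomial ι B) := by
      intro j
      rw [← hb, SymPoly.ell_basis]
    simp only [e3]
    rw [prod_comp_cnt g (fun i => (MvPolynomial.X i : MvPolynomial ι B)), prod_X_pow]
  rw [hθ]
  ext m
  rw [MvPolynomial.coeff_zero, MvPolynomial.coeff_sum]
  have e4 : ∀ g ∈ (Finset.univ : Finset (ι' → ι)),
      MvPolynomial.coeff m (Cg g • MvPolynomial.monomial (Finsupp.equivFunOnFinite.symm (cnt g))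
        (1 : B)) = if cnt g = (m : ι → ℕ) then Cg g else 0 := by
    intro g _
    rw [MvPolynomial.coeff_smul, MvPolynomial.coeff_monomial, smul_eq_mul]
    by_cases hgm : cnt g = (m : ι → ℕ)
    · rw [if_pos hgm, if_pos, mul_one]
      rw [hgm]
      exact Finsupp.equivFunOnFinite.symm_apply_apply m
    · rw [if_neg hgm, if_neg, mul_zero]
      intro h
      apply hgm
      rw [← h]
      rfl
  rw [Finset.sum_congr rfl e4]
  by_cases hm : ∑ i, m i = Fintype.card ι'
  · exact indep' z Dp hord hform hz (m : ι → ℕ) (Fintype.card ι') hm Finset.univ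
      (fun g => cnt g) Cg hrel
  · apply Finset.sum_eq_zero
    intro g _
    rw [if_neg]
    intro h
    apply hm
    rw [← h, sum_cnt]

end BackwardMain

section Main

variable (A B : Type u) [CommRing A] [CommRing B] [Algebra A B]

theorem main (ι : Type) [Fintype ι] [DecidableEq ι] (z : ι → B)
    (hz : Submodule.span B (Set.range fun i => KaehlerDifferential.D A B (z i)) = ⊤) :
    (PP16.IsDiffSmooth A B ∧
        ∃ b : Module.Basis ι B (Ω[B⁄A]), ∀ i, b i = KaehlerDifferential.D A B (z i)) ↔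
      ∃ Dp : (ι → ℕ) → (B →ₗ[A] B),
        (∀ p, ∃ k : ℕ, Diff16.IsDiffOpLE A B B B k (Dp p)) ∧
        ∀ p q : ι → ℕ, Dp p (∏ i, z i ^ q i) =
          ((∏ i, Nat.choose (q i) (p i) : ℕ) : B) * ∏ i, z i ^ (q i - p i) := by
  constructor
  · rintro ⟨hB, b, hb⟩
    exact forward z hB b hb
  · rintro ⟨Dp, hord, hform⟩
    exact backward z Dp hord hform hz

end Main

end Groth.Agent.Lib.Helper26.PPOps
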