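import Mathlib
import Groth.Prelude.Def_CAlgX
import Groth.Agent.Lib.Helper6.QRegGen

set_option autoImplicit false
universe u
open MvPolynomial

namespace Groth.Agent.Lib.Helper26.QRLoc

variable {R : Type u} [CommRing R]

/-- Elementwise form of "after inverting `g`, the ideal `J` is generated by the quasi-regular
sequence `y`". -/
structure LQR (J : Ideal R) (g : R) {r : ℕ} (y : Fin r → R) : Prop where
  mem : ∀ a, y a ∈ J
  gen : ∀ m ∈ J, ∃ k : ℕ, g ^ k * m ∈ Ideal.span (Set.range y)
  qr : ∀ (n : ℕ) (F : MvPolynomial (Fin r) R), F.IsHomogeneous n →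
    MvPolynomial.eval y F ∈ J ^ (n + 1) → ∀ d, ∃ k : ℕ, g ^ k * F.coeff d ∈ J

section

variable (g : R) (S : Type u) [CommRing S] [Algebra R S] [IsLocalization.Away g S]

include g in
lemma map_mem_map_iff (I : Ideal R) (m : R) :
    algebraMap R S m ∈ I.map (algebraMap R S) ↔ ∃ k : ℕ, g ^ k * m ∈ I := by
  have h := IsLocalization.mk'_mem_map_algebraMap_iff (Submonoid.powers g) S I m 1
  rw [IsLocalization.mk'_one] at h
  rw [h]
  constructor
  · rintro ⟨s, ⟨k, rfl⟩, hs⟩
    exact ⟨k, hs⟩
  · rintro ⟨k, hk⟩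
    exact ⟨g ^ k, ⟨k, rfl⟩, hk⟩

include g in
lemma isUnit_map_pow (k : ℕ) : IsUnit (algebraMap R S (g ^ k)) := by
  rw [map_pow]
  exact IsLocalization.Away.algebraMap_pow_isUnit g k

lemma map_eval {r : ℕ} (y : Fin r → R) (F : MvPolynomial (Fin r) R) :
    algebraMap R S (eval y F) = eval (fun a => algebraMap R S (y a)) (map (algebraMap R S) F) := by
  rw [eval_map, eval₂_comp]
  rfl

lemma span_comp {r : ℕ} (y : Fin r → R) :
    Ideal.span (Set.range fun a => algebraMap R S (y a)) =
      (Ideal.span (Set.range y)).map (algebraMap R S) := by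
  rw [Ideal.map_span, ← Set.range_comp]
  rfl

/-- From honest local data to elementwise data. -/
theorem lqr_of_local (J : Ideal R) {r : ℕ} (f : Fin r → S) (hf : CAlgX.IsQuasiRegular f)
    (hspan : Ideal.span (Set.range f) = J.map (algebraMap R S)) :
    ∃ y : Fin r → R, LQR J g y := by
  have h1 : ∀ a, ∃ x : J × Submonoid.powers g,
      f a * algebraMap R S x.2 = algebraMap R S x.1 := by
    intro a
    have : f a ∈ J.map (algebraMap R S) := hspan ▸ Ideal.subset_span ⟨a, rfl⟩
    exact (IsLocalization.mem_map_algebraMap_iff (Submonoid.powers g) S).1 this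
  choose x hx using h1
  let y : Fin r → R := fun a => ((x a).1 : R)
  have hunit : ∀ a, IsUnit (algebraMap R S ((x a).2 : R)) := fun a =>
    IsLocalization.map_units S (x a).2
  have hspan' : Ideal.span (Set.range fun a => algebraMap R S (y a)) =
      Ideal.span (Set.range f) := by
    apply le_antisymm
    · rw [Ideal.span_le]
      rintro _ ⟨a, rfl⟩
      change algebraMap R S ((x a).1 : R) ∈ _
      rw [← hx a]
      exact Ideal.mul_mem_right _ _ (Ideal.subset_span ⟨a, rfl⟩)
    · rw [Ideal.span_le]
      rintro _ ⟨a, rfl⟩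
      have : f a * algebraMap R S ((x a).2 : R) ∈
          Ideal.span (Set.range fun a => algebraMap R S (y a)) := by
        rw [hx a]
        exact Ideal.subset_span ⟨a, rfl⟩
      exact (Ideal.mul_unit_mem_iff_mem _ (hunit a)).1 this
  have hq : CAlgX.IsQuasiRegular (fun a => algebraMap R S (y a)) :=
    Groth.Agent.Helper6.QRegGen.isQuasiRegular_of_span_eq f _ hf hspan'
  have hJ : Ideal.span (Set.range fun a => algebraMap R S (y a)) = J.map (algebraMap R S) :=
    hspan'.trans hspan
  refine ⟨y, ⟨fun a => (x a).1.2, ?_, ?_⟩⟩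
  · intro m hm
    have : algebraMap R S m ∈ (Ideal.span (Set.range y)).map (algebraMap R S) := by
      rw [← span_comp, hJ]
      exact Ideal.mem_map_of_mem _ hm
    exact (map_mem_map_iff g S _ m).1 this
  · intro n F hF hev d
    have h2 : eval (fun a => algebraMap R S (y a)) (map (algebraMap R S) F) ∈
        Ideal.span (Set.range fun a => algebraMap R S (y a)) ^ (n + 1) := by
      rw [← map_eval, hJ, ← Ideal.map_pow]
      exact Ideal.mem_map_of_mem _ hev
    have h3 := hq n _ (hF.map (algebraMap R S)) h2 d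
    rw [coeff_map, hJ] at h3
    exact (map_mem_map_iff g S _ _).1 h3

/-- From elementwise data to honest local data. -/
theorem local_of_lqr (J : Ideal R) {r : ℕ} (y : Fin r → R) (h : LQR J g y) :
    CAlgX.IsQuasiRegular (fun a => algebraMap R S (y a)) ∧
      Ideal.span (Set.range fun a => algebraMap R S (y a)) = J.map (algebraMap R S) := by
  classical
  have hle : Ideal.span (Set.range y) ≤ J := by
    rw [Ideal.span_le]
    rintro _ ⟨a, rfl⟩
    exact h.mem a
  have hJ : Ideal.span (Set.range fun a => algebraMap R S (y a)) = J.map (algebraMap R S) := by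
    rw [span_comp]
    apply le_antisymm (Ideal.map_mono hle)
    rw [Ideal.map_le_iff_le_comap]
    intro m hm
    rw [Ideal.mem_comap, map_mem_map_iff g S]
    exact h.gen m hm
  refine ⟨?_, hJ⟩
  intro n F' hF' hev d
  obtain ⟨b, hb⟩ := IsLocalization.exist_integer_multiples (Submonoid.powers g) F'.support
    (fun d => F'.coeff d)
  choose! c hc using hb
  let F : MvPolynomial (Fin r) R := ∑ d ∈ F'.support, monomial d (c d)
  have hFh : F.IsHomogeneous n := by
    apply IsHomogeneous.sum
    intro d hd
    apply isHomogeneous_monomial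
    have := hF' (mem_support_iff.1 hd)
    rwa [Finsupp.degree_eq_weight_one]
  have hmap : map (algebraMap R S) F = C (algebraMap R S (b : R)) * F' := by
    ext e
    rw [coeff_map, coeff_C_mul]
    simp only [F, coeff_sum, coeff_monomial]
    rw [Finset.sum_ite_eq' F'.support e]
    by_cases he : e ∈ F'.support
    · rw [if_pos he, hc e he, Algebra.smul_def]
    · rw [if_neg he, map_zero, notMem_support_iff.1 he, mul_zero]
  have hb' : IsUnit (algebraMap R S (b : R)) := IsLocalization.map_units S b
  have h1 : algebraMap R S (eval y F) ∈ (J ^ (n + 1)).map (algebraMap R S) := by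
    rw [map_eval, hmap, map_mul, eval_C, Ideal.map_pow, ← hJ]
    exact Ideal.mul_mem_left _ _ hev
  obtain ⟨k, hk⟩ := (map_mem_map_iff g S _ _).1 h1
  have h2 : eval y (C (g ^ k) * F) ∈ J ^ (n + 1) := by
    rw [map_mul, eval_C]
    exact hk
  obtain ⟨k', hk'⟩ := h.qr n _ (hFh.C_mul (g ^ k)) h2 d
  rw [coeff_C_mul] at hk'
  have h3 : algebraMap R S (F.coeff d) ∈ J.map (algebraMap R S) := by
    rw [map_mem_map_iff g S]
    refine ⟨k' + k, ?_⟩
    rw [pow_add, mul_assoc]
    exact hk'
  rw [← coeff_map, hmap, coeff_C_mul] at h3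
  rw [hJ]
  exact (Ideal.unit_mul_mem_iff_mem _ hb').1 h3

end

end Groth.Agent.Lib.Helper26.QRLoc
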