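import Mathlib
import Groth.Prelude.Def_PP16
import Groth.Agent.Lib.Helper26.QRLoc
import Groth.Agent.Lib.Helper26.QRSym

set_option autoImplicit false
universe u
open TensorProduct

namespace Groth.Agent.Lib.Helper26.QRBwd

open Groth.Agent.Lib.Helper26

variable {R : Type u} [CommRing R] (J : Ideal R)

lemma mk_smul (c : R) (m : J.Cotangent) : Ideal.Quotient.mk J c • m = c • m := by
  rw [← Ideal.Quotient.algebraMap_eq, algebraMap_smul]

lemma finite_cotangent (hfg : J.FG) : Module.Finite (R ⧸ J) J.Cotangent := by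
  have hfinR : Module.Finite R J := Module.Finite.iff_fg.2 hfg
  have hfinRC : Module.Finite R J.Cotangent :=
    Module.Finite.of_surjective J.toCotangent J.toCotangent_surjective
  exact Module.Finite.of_restrictScalars_finite R _ _

/-- Local basis of the conormal module by classes of elements of `J`. -/
theorem exists_local_basis (hfg : J.FG) [Module.Projective (R ⧸ J) J.Cotangent]
    (P : Ideal R) [P.IsPrime] (hJP : J ≤ P) :
    ∃ (g : R) (_ : g ∉ P) (r : ℕ) (y : Fin r → ↥J)
      (b : Module.Basis (Fin r) (Localization (Submonoid.powers (Ideal.Quotient.mk J g)))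
        (LocalizedModule (Submonoid.powers (Ideal.Quotient.mk J g)) J.Cotangent)),
      ∀ a, b a = LocalizedModule.mkLinearMap _ _ (J.toCotangent (y a)) := by
  have hfin := finite_cotangent J hfg
  have hfp : Module.FinitePresentation (R ⧸ J) J.Cotangent :=
    Module.finitePresentation_of_projective _ _
  let 𝔮 : Ideal (R ⧸ J) := P.map (Ideal.Quotient.mk J)
  have h𝔮 : 𝔮.IsPrime := Ideal.map_isPrime_of_surjective Ideal.Quotient.mk_surjective
    (by rw [Ideal.mk_ker]; exact hJP)
  have hfree : Module.Free (Localization.AtPrime 𝔮) (LocalizedModule 𝔮.primeCompl J.Cotangent) :=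
    Module.free_of_flat_of_isLocalRing
  let b0 := Module.finBasis (Localization.AtPrime 𝔮) (LocalizedModule 𝔮.primeCompl J.Cotangent)
  obtain ⟨rbar, hr, b', -⟩ := Module.FinitePresentation.exists_basis_localizedModule_powers
    𝔮.primeCompl (LocalizedModule.mkLinearMap 𝔮.primeCompl J.Cotangent) (Localization.AtPrime 𝔮) b0
  obtain ⟨g, rfl⟩ := Ideal.Quotient.mk_surjective rbar
  have hgP : g ∉ P := fun hg => hr (Ideal.mem_map_of_mem _ hg)
  have hrep : ∀ x : LocalizedModule (Submonoid.powers (Ideal.Quotient.mk J g)) J.Cotangent,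
      ∃ (m : J.Cotangent) (s : Submonoid.powers (Ideal.Quotient.mk J g)),
        x = LocalizedModule.mk m s := by
    intro x
    induction x using LocalizedModule.induction_on with
    | h m s => exact ⟨m, s, rfl⟩
  choose m s hms using fun a => hrep (b' a)
  have hu : ∀ a, IsUnit (algebraMap (R ⧸ J)
      (Localization (Submonoid.powers (Ideal.Quotient.mk J g))) (s a)) :=
    fun a => IsLocalization.map_units _ (s a)
  choose y hy using fun a => J.toCotangent_surjective (m a)
  refine ⟨g, hgP, _, y, b'.isUnitSMul hu, ?_⟩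
  intro a
  rw [Module.Basis.isUnitSMul_apply, hms a, hy a, algebraMap_smul,
    LocalizedModule.mkLinearMap_apply, LocalizedModule.smul'_mk]
  exact LocalizedModule.mk_cancel (s a) (m a)

/-- Modulo `J²` and after inverting `g`, the `y a` generate `J`. -/
theorem exists_approx {g : R} {r : ℕ} (y : Fin r → ↥J)
    (b : Module.Basis (Fin r) (Localization (Submonoid.powers (Ideal.Quotient.mk J g)))
        (LocalizedModule (Submonoid.powers (Ideal.Quotient.mk J g)) J.Cotangent))
    (hb : ∀ a, b a = LocalizedModule.mkLinearMap _ _ (J.toCotangent (y a)))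
    (z : ↥J) :
    ∃ (k : ℕ) (c : Fin r → R), g ^ k * (z : R) - ∑ a, c a * (y a : R) ∈ J ^ 2 := by
  obtain ⟨S, hS⟩ : ∃ S, S = Submonoid.powers (Ideal.Quotient.mk J g) := ⟨_, rfl⟩
  subst hS
  let f := LocalizedModule.mkLinearMap (Submonoid.powers (Ideal.Quotient.mk J g)) J.Cotangent
  let x := f (J.toCotangent z)
  obtain ⟨b₀, hb₀⟩ := IsLocalization.exist_integer_multiples_of_finite
    (Submonoid.powers (Ideal.Quotient.mk J g)) (fun a => b.repr x a)
  choose q hq using hb₀
  have h1 : ((b₀ : R ⧸ J)) • x = f (∑ a, q a • J.toCotangent (y a)) := by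
    conv_lhs => rw [← b.sum_repr x]
    rw [Finset.smul_sum, map_sum]
    apply Finset.sum_congr rfl
    intro a _
    rw [map_smul, ← hb, ← algebraMap_smul
      (Localization (Submonoid.powers (Ideal.Quotient.mk J g))) (q a) (b a), hq a, smul_assoc]
  have h2 : f (((b₀ : R ⧸ J)) • J.toCotangent z - ∑ a, q a • J.toCotangent (y a)) = 0 := by
    rw [map_sub, map_smul, h1, sub_self]
  obtain ⟨s', hs'⟩ := (IsLocalizedModule.eq_zero_iff
    (Submonoid.powers (Ideal.Quotient.mk J g)) f).1 h2
  obtain ⟨k, hk⟩ := b₀.2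
  obtain ⟨k', hk'⟩ := s'.2
  replace hk : (Ideal.Quotient.mk J g) ^ k = (b₀ : R ⧸ J) := hk
  replace hk' : (Ideal.Quotient.mk J g) ^ k' = (s' : R ⧸ J) := hk'
  choose c hc using fun a => Ideal.Quotient.mk_surjective (q a)
  refine ⟨k' + k, fun a => g ^ k' * c a, ?_⟩
  let w : ↥J := g ^ k' • (g ^ k • z - ∑ a, c a • y a)
  have hw : J.toCotangent w = 0 := by
    rw [← hs']
    simp only [w, map_smul, map_sub, map_sum]
    rw [Submonoid.smul_def, ← hk', ← hk, ← map_pow, ← map_pow, mk_smul, mk_smul]
    congr 2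
    apply Finset.sum_congr rfl
    intro a _
    rw [← hc a, mk_smul]
  rw [Ideal.toCotangent_eq_zero] at hw
  convert hw using 1
  simp only [w, Submodule.coe_smul_of_tower, smul_eq_mul, AddSubgroupClass.coe_sub,
    AddSubmonoidClass.coe_finsetSum]
  rw [mul_sub, Finset.mul_sum, pow_add, mul_assoc]
  congr 1
  apply Finset.sum_congr rfl
  intro a _
  ring


/-- Nakayama via the determinant trick: from generation modulo `J²` to honest generation. -/
theorem exists_mul_mem_span (hfg : J.FG) {g : R} {r : ℕ} (y : Fin r → ↥J)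
    (happ : ∀ z : ↥J, ∃ (k : ℕ) (c : Fin r → R),
      g ^ k * (z : R) - ∑ a, c a * (y a : R) ∈ J ^ 2) :
    ∃ (g₁ : R) (N : ℕ), g₁ - g ^ N ∈ J ∧
      ∀ m ∈ J, g₁ * m ∈ Ideal.span (Set.range fun a => (y a : R)) := by
  obtain ⟨s, z, hz⟩ := Submodule.fg_iff_exists_fin_generating_family.1 hfg
  have hzJ : ∀ b, z b ∈ J := fun b => hz ▸ Submodule.subset_span ⟨b, rfl⟩
  choose k c hkc using fun b => happ ⟨z b, hzJ b⟩
  obtain ⟨K, hK⟩ : ∃ K, K = ∑ b, k b := ⟨_, rfl⟩
  have hJ2 : J ^ 2 = J • Submodule.span R (Set.range z) := by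
    rw [hz, pow_two]
    rfl
  have h1 : ∀ b, ∃ u ∈ Ideal.span (Set.range fun a => (y a : R)), ∃ j : Fin s → R,
      (∀ c', j c' ∈ J) ∧ g ^ K * z b = u + ∑ c', j c' * z c' := by
    intro b
    have hle : k b ≤ K := hK ▸ Finset.single_le_sum (f := k) (fun _ _ => Nat.zero_le _)
      (Finset.mem_univ b)
    have h2 : g ^ (K - k b) * (g ^ (k b) * z b - ∑ a, c b a * (y a : R)) ∈ J ^ 2 :=
      Ideal.mul_mem_left _ _ (hkc b)
    rw [hJ2, Submodule.mem_ideal_smul_span_iff_exists_sum] at h2
    obtain ⟨j, hj, hjs⟩ := h2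
    refine ⟨g ^ (K - k b) * ∑ a, c b a * (y a : R), ?_, j, hj, ?_⟩
    · apply Ideal.mul_mem_left
      apply Ideal.sum_mem
      intro a _
      exact Ideal.mul_mem_left _ _ (Ideal.subset_span ⟨a, rfl⟩)
    · rw [Finsupp.sum_fintype _ _ (by simp)] at hjs
      simp only [smul_eq_mul] at hjs
      rw [hjs, mul_sub, ← mul_assoc, ← pow_add, Nat.sub_add_cancel hle]
      ring
  choose u hu j hj huj using h1
  let A : Matrix (Fin s) (Fin s) R := (g ^ K) • (1 : Matrix (Fin s) (Fin s) R) - Matrix.of j
  have hA : A.mulVec z = u := by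
    funext b
    rw [Matrix.sub_mulVec, Matrix.smul_mulVec, Matrix.one_mulVec]
    simp only [Pi.sub_apply, Pi.smul_apply, smul_eq_mul, Matrix.mulVec, dotProduct,
      Matrix.of_apply]
    rw [huj b]
    ring
  have hdet : ∀ b, A.det * z b ∈ Ideal.span (Set.range fun a => (y a : R)) := by
    intro b
    have h3 : A.adjugate.mulVec (A.mulVec z) = A.det • z := by
      rw [Matrix.mulVec_mulVec, Matrix.adjugate_mul, Matrix.smul_mulVec, Matrix.one_mulVec]
    rw [hA] at h3
    have h4 := congrFun h3 b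
    simp only [Pi.smul_apply, smul_eq_mul] at h4
    rw [← h4]
    simp only [Matrix.mulVec, dotProduct]
    apply Ideal.sum_mem
    intro c' _
    exact Ideal.mul_mem_left _ _ (hu c')
  have hdetJ : A.det - g ^ (K * s) ∈ J := by
    rw [← Ideal.Quotient.eq_zero_iff_mem, map_sub, sub_eq_zero, RingHom.map_det]
    have h5 : (Ideal.Quotient.mk J).mapMatrix A =
        ((Ideal.Quotient.mk J g) ^ K) • (1 : Matrix (Fin s) (Fin s) (R ⧸ J)) := by
      ext b c'
      simp only [RingHom.mapMatrix_apply, Matrix.map_apply, A, Matrix.sub_apply, Matrix.smul_apply,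
        Matrix.of_apply, map_sub, smul_eq_mul, map_mul, map_pow]
      rw [Ideal.Quotient.eq_zero_iff_mem.2 (hj b c'), sub_zero]
      by_cases hbc : b = c'
      · subst hbc; simp
      · simp [Matrix.one_apply_ne hbc]
    rw [h5, Matrix.det_smul, Matrix.det_one, mul_one, Fintype.card_fin, map_pow, ← pow_mul]
  refine ⟨A.det, K * s, hdetJ, ?_⟩
  intro m hm
  rw [← hz, Submodule.mem_span_range_iff_exists_fun] at hm
  obtain ⟨t, rfl⟩ := hm
  rw [Finset.mul_sum]
  apply Ideal.sum_mem
  intro b _
  rw [smul_eq_mul, mul_left_comm]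
  exact Ideal.mul_mem_left _ _ (hdet b)


/-- The coordinate functional into polynomials over the localized quotient. -/
theorem exists_ell {g : R} {r : ℕ} (y : Fin r → ↥J)
    (b : Module.Basis (Fin r) (Localization (Submonoid.powers (Ideal.Quotient.mk J g)))
        (LocalizedModule (Submonoid.powers (Ideal.Quotient.mk J g)) J.Cotangent))
    (hb : ∀ a, b a = LocalizedModule.mkLinearMap _ _ (J.toCotangent (y a))) :
    ∃ ℓ : J.Cotangent →ₗ[R]
        MvPolynomial (Fin r) (Localization (Submonoid.powers (Ideal.Quotient.mk J g))),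
      ∀ a, ℓ (J.toCotangent (y a)) = MvPolynomial.X a := by
  let f := LocalizedModule.mkLinearMap (Submonoid.powers (Ideal.Quotient.mk J g)) J.Cotangent
  let L1 : LocalizedModule (Submonoid.powers (Ideal.Quotient.mk J g)) J.Cotangent
      →ₗ[Localization (Submonoid.powers (Ideal.Quotient.mk J g))]
      MvPolynomial (Fin r) (Localization (Submonoid.powers (Ideal.Quotient.mk J g))) :=
    (Finsupp.linearCombination (Localization (Submonoid.powers (Ideal.Quotient.mk J g)))
      (fun a => (MvPolynomial.X a :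
        MvPolynomial (Fin r) (Localization (Submonoid.powers (Ideal.Quotient.mk J g)))))) ∘ₗ
      b.repr.toLinearMap
  let L2 : J.Cotangent →ₗ[R ⧸ J]
      MvPolynomial (Fin r) (Localization (Submonoid.powers (Ideal.Quotient.mk J g))) :=
    (L1.restrictScalars (R ⧸ J)) ∘ₗ f
  refine ⟨L2.restrictScalars R, ?_⟩
  intro a
  show L1 (f (J.toCotangent (y a))) = _
  rw [← hb a]
  simp [L1]

theorem exists_lqr (hfg : J.FG) (hproj : Module.Projective (R ⧸ J) J.Cotangent)
    (hsym : PP16.SymGrBijective R J) (P : Ideal R) [hP : P.IsPrime] (hJP : J ≤ P) :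
    ∃ g : R, g ∉ P ∧ ∃ (r : ℕ) (y : Fin r → R), QRLoc.LQR J g y := by
  obtain ⟨g, hgP, r, y, b, hb⟩ := exists_local_basis J hfg P hJP
  obtain ⟨g₁, N, hg₁, hgen⟩ := exists_mul_mem_span J hfg y (exists_approx J y b hb)
  obtain ⟨ℓ, hℓ⟩ := exists_ell J y b hb
  have hg₁P : g₁ ∉ P := by
    intro h
    have h2 : g ^ N ∈ P := by
      have := P.sub_mem h (hJP hg₁)
      simpa using this
    exact hgP (hP.mem_of_pow_mem N h2)
  refine ⟨g * g₁, fun h => (hP.mem_or_mem h).elim hgP hg₁P, r, fun a => (y a : R), ?_⟩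
  refine ⟨fun a => (y a).2, ?_, ?_⟩
  · intro m hm
    refine ⟨1, ?_⟩
    rw [pow_one, mul_assoc]
    exact Ideal.mul_mem_left _ _ (hgen m hm)
  · intro n F hF hev d
    have key : ∃ k : ℕ, g ^ k * F.coeff d ∈ J := by
      rcases Nat.eq_zero_or_pos n with hn | hn
      · subst hn
        refine ⟨0, ?_⟩
        rw [pow_zero, one_mul]
        by_cases hF0 : F = 0
        · rw [hF0, MvPolynomial.coeff_zero]
          exact zero_mem _
        · have htd := hF.totalDegree hF0
          rw [MvPolynomial.totalDegree_eq_zero_iff_eq_C] at htd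
          rw [htd, MvPolynomial.eval_C, zero_add, pow_one] at hev
          rw [htd, MvPolynomial.coeff_C]
          split_ifs
          · exact hev
          · exact zero_mem _
      · have hne : Nonempty (ULift.{u} (Fin n)) := ⟨⟨⟨0, hn⟩⟩⟩
        obtain ⟨φ, hφ, hφbij⟩ := hsym (ULift.{u} (Fin n))
        have hinj : Function.Injective (QRSym.phiJ J (ULift.{u} (Fin n))) := by
          rw [← QRSym.eq_phiJ J _ φ hφ]
          exact hφbij.1
        have h0 := QRSym.map_eq_zero_of_injective y n hinj ℓ hℓ F hF hev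
        have h1 : algebraMap R (Localization (Submonoid.powers (Ideal.Quotient.mk J g)))
            (F.coeff d) = 0 := by
          have := congrArg (MvPolynomial.coeff d) h0
          rwa [MvPolynomial.coeff_map, MvPolynomial.coeff_zero] at this
        rw [IsScalarTower.algebraMap_apply R (R ⧸ J)
          (Localization (Submonoid.powers (Ideal.Quotient.mk J g))),
          Ideal.Quotient.algebraMap_eq] at h1
        have h1' : algebraMap (R ⧸ J) (Localization (Submonoid.powers (Ideal.Quotient.mk J g)))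
            (Ideal.Quotient.mk J (F.coeff d)) =
            algebraMap (R ⧸ J) (Localization (Submonoid.powers (Ideal.Quotient.mk J g))) 0 := by
          rw [h1, map_zero]
        obtain ⟨k, hk⟩ := IsLocalization.Away.exists_of_eq (Ideal.Quotient.mk J g) h1'
        rw [mul_zero, ← map_pow, ← map_mul] at hk
        exact ⟨k, Ideal.Quotient.eq_zero_iff_mem.1 hk⟩
    obtain ⟨k, hk⟩ := key
    refine ⟨k, ?_⟩
    rw [mul_pow, mul_comm (g ^ k), mul_assoc]
    exact Ideal.mul_mem_left _ _ hk

theorem isLocallyQuasiRegular (hfg : J.FG) (hproj : Module.Projective (R ⧸ J) J.Cotangent)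
    (hsym : PP16.SymGrBijective R J) : PP16.IsLocallyQuasiRegular R J := by
  intro P _ hJP
  obtain ⟨g, hgP, r, y, hy⟩ := exists_lqr J hfg hproj hsym P hJP
  obtain ⟨h1, h2⟩ := QRLoc.local_of_lqr g (Localization.Away g) J y hy
  exact ⟨g, hgP, r, fun a => algebraMap R (Localization.Away g) (y a), h1, h2⟩

end Groth.Agent.Lib.Helper26.QRBwd
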