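import Mathlib
import Groth.Prelude.Def_PP16
import Groth.Agent.Lib.Helper26.QRLoc
import Groth.Agent.Lib.Helper26.QRSym
import Groth.Agent.Lib.Helper6.QRegGen2

set_option autoImplicit false
universe u
open TensorProduct

namespace Groth.Agent.Lib.Helper26.QRFwd

open Groth.Agent.Lib.Helper26

section FreeLoc

variable {Q : Type u} [CommRing Q] {M : Type u} [AddCommGroup M] [Module Q M]

/-- A module that is "free on `ybar` up to `S`-torsion" has a free localization. -/
theorem free_localizedModule (S : Submonoid Q) {r : ℕ} (ybar : Fin r → M)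
    (hA : ∀ m : M, ∃ s ∈ S, s • m ∈ Submodule.span Q (Set.range ybar))
    (hB : ∀ q : Fin r → Q, ∑ a, q a • ybar a = 0 → ∀ a, ∃ s ∈ S, s * q a = 0) :
    Module.Free (Localization S) (LocalizedModule S M) ∧
      Module.Finite (Localization S) (LocalizedModule S M) := by
  classical
  let π : (Fin r → Q) →ₗ[Q] M := Fintype.linearCombination Q ybar
  have hπ : ∀ v, π v = ∑ a, v a • ybar a := fun v => Fintype.linearCombination_apply Q ybar v
  let L := LocalizedModule.map S π
  have hinj : Function.Injective L := by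
    rw [injective_iff_map_eq_zero]
    intro x hx
    induction x using LocalizedModule.induction_on with
    | h v s =>
      rw [LocalizedModule.map_mk, ← LocalizedModule.zero_mk (1 : S), LocalizedModule.mk_eq] at hx
      obtain ⟨u, hu⟩ := hx
      rw [one_smul, smul_zero, smul_zero] at hu
      have h1 : ∑ a, ((u : Q) * v a) • ybar a = 0 := by
        have : (u : Q) • π v = 0 := hu
        rw [hπ, Finset.smul_sum] at this
        simpa only [smul_smul] using this
      choose t ht ht0 using hB (fun a => (u : Q) * v a) h1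
      rw [← LocalizedModule.zero_mk (1 : S), LocalizedModule.mk_eq]
      refine ⟨⟨∏ a, t a, Submonoid.prod_mem S (fun a _ => ht a)⟩ * u, ?_⟩
      rw [one_smul, smul_zero, smul_zero]
      funext a
      change ((∏ b, t b) * (u : Q)) • v a = 0
      rw [smul_eq_mul, ← Finset.mul_prod_erase Finset.univ t (Finset.mem_univ a)]
      calc (t a * ∏ b ∈ Finset.univ.erase a, t b) * (u : Q) * v a
          = (∏ b ∈ Finset.univ.erase a, t b) * (t a * ((u : Q) * v a)) := by ring
        _ = 0 := by rw [ht0 a, mul_zero]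
  have hsurj : Function.Surjective L := by
    intro x
    induction x using LocalizedModule.induction_on with
    | h m s =>
      obtain ⟨s', hs', hm⟩ := hA m
      rw [Submodule.mem_span_range_iff_exists_fun] at hm
      obtain ⟨c, hc⟩ := hm
      refine ⟨LocalizedModule.mk c (⟨s', hs'⟩ * s), ?_⟩
      rw [LocalizedModule.map_mk, hπ, hc]
      exact LocalizedModule.mk_cancel_common_left (⟨s', hs'⟩ : S) s m
  let e : LocalizedModule S (Fin r → Q) ≃ₗ[Localization S] LocalizedModule S M :=
    LinearEquiv.ofBijective L ⟨hinj, hsurj⟩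
  have hfree : Module.Free (Localization S) (LocalizedModule S (Fin r → Q)) :=
    Module.free_of_isLocalizedModule S (LocalizedModule.mkLinearMap S (Fin r → Q))
  have hfin : Module.Finite (Localization S) (LocalizedModule S (Fin r → Q)) :=
    Module.Finite.of_isLocalizedModule S (Rₚ := Localization S)
      (LocalizedModule.mkLinearMap S (Fin r → Q))
  exact ⟨Module.Free.of_equiv e, Module.Finite.equiv e⟩

end FreeLoc

variable {R : Type u} [CommRing R] (J : Ideal R)

/-- Elementwise form of local quasi-regularity. -/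
lemma exists_lqr (h : PP16.IsLocallyQuasiRegular R J) (P : Ideal R) [P.IsPrime] (hP : J ≤ P) :
    ∃ g : R, g ∉ P ∧ ∃ (r : ℕ) (y : Fin r → R), QRLoc.LQR J g y := by
  obtain ⟨g, hg, r, f, hf, hspan⟩ := h P hP
  obtain ⟨y, hy⟩ := QRLoc.lqr_of_local g (Localization.Away g) J f hf hspan
  exact ⟨g, hg, r, y, hy⟩

theorem fg (h : PP16.IsLocallyQuasiRegular R J) : J.FG := by
  let t : Set R := {g | (J.map (algebraMap R (Localization.Away g))).FG}
  refine Ideal.fg_of_localizationSpan t ?_ (fun g => g.2)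
  by_contra hne
  obtain ⟨P, hPmax, hle⟩ := Ideal.exists_le_maximal _ hne
  have : P.IsPrime := hPmax.isPrime
  by_cases hJP : J ≤ P
  · obtain ⟨g, hg, r, f, hf, hspan⟩ := h P hJP
    apply hg
    apply hle
    apply Ideal.subset_span
    show (J.map _).FG
    rw [← hspan]
    exact Submodule.fg_span (Set.finite_range f)
  · obtain ⟨j, hjJ, hjP⟩ := SetLike.not_le_iff_exists.1 hJP
    apply hjP
    apply hle
    apply Ideal.subset_span
    show (J.map _).FG
    have : J.map (algebraMap R (Localization.Away j)) = ⊤ := by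
      apply Ideal.eq_top_of_isUnit_mem _ (Ideal.mem_map_of_mem _ hjJ)
      exact IsLocalization.Away.algebraMap_isUnit j
    rw [this]
    exact ⟨{1}, by simp⟩

section Proj

variable {J} {g : R} {r : ℕ} {y : Fin r → R} (hy : QRLoc.LQR J g y)

include hy in
lemma hA_of_lqr (S : Submonoid (R ⧸ J)) (hS : Ideal.Quotient.mk J g ∈ S) (m : J.Cotangent) :
    ∃ s ∈ S, s • m ∈ Submodule.span (R ⧸ J)
      (Set.range fun a => J.toCotangent ⟨y a, hy.mem a⟩) := by
  obtain ⟨z, rfl⟩ := J.toCotangent_surjective m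
  obtain ⟨k, hk⟩ := hy.gen z z.2
  rw [Ideal.mem_span_range_iff_exists_fun] at hk
  obtain ⟨c, hc⟩ := hk
  refine ⟨(Ideal.Quotient.mk J g) ^ k, pow_mem hS k, ?_⟩
  have h1 : (Ideal.Quotient.mk J g) ^ k • J.toCotangent z =
      ∑ a, (Ideal.Quotient.mk J (c a)) • J.toCotangent ⟨y a, hy.mem a⟩ := by
    rw [Groth.Agent.Helper6.QRegGen.toCotangent_sum, ← map_pow, ← Ideal.Quotient.algebraMap_eq,
      algebraMap_smul, ← map_smul]
    congr 1
    apply Subtype.ext
    simp only [Submodule.coe_smul_of_tower, smul_eq_mul, AddSubmonoidClass.coe_finsetSum]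
    exact hc.symm
  rw [h1]
  exact Submodule.sum_mem _ (fun a _ => Submodule.smul_mem _ _ (Submodule.subset_span ⟨a, rfl⟩))

include hy in
lemma hB_of_lqr (S : Submonoid (R ⧸ J)) (hS : Ideal.Quotient.mk J g ∈ S) (q : Fin r → R ⧸ J)
    (hq : ∑ a, q a • J.toCotangent ⟨y a, hy.mem a⟩ = 0) (a : Fin r) :
    ∃ s ∈ S, s * q a = 0 := by
  classical
  choose c hc using fun a => Ideal.Quotient.mk_surjective (q a)
  have h1 : ∑ a, (Ideal.Quotient.mk J (c a)) • J.toCotangent ⟨y a, hy.mem a⟩ = 0 := by
    simpa only [hc] using hq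
  rw [Groth.Agent.Helper6.QRegGen.toCotangent_sum, Ideal.toCotangent_eq_zero] at h1
  have hh : (∑ j, MvPolynomial.C (c j) * MvPolynomial.X j :
      MvPolynomial (Fin r) R).IsHomogeneous 1 := by
    apply MvPolynomial.IsHomogeneous.sum
    intro i _
    simpa using (MvPolynomial.isHomogeneous_C (Fin r) (c i)).mul (MvPolynomial.isHomogeneous_X R i)
  have hev : MvPolynomial.eval y (∑ j, MvPolynomial.C (c j) * MvPolynomial.X j) ∈ J ^ (1 + 1) := by
    convert h1 using 1
    simp
  obtain ⟨k, hk⟩ := hy.qr 1 _ hh hev (Finsupp.single a 1)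
  have hcoef : MvPolynomial.coeff (Finsupp.single a 1)
      (∑ j, MvPolynomial.C (c j) * MvPolynomial.X j : MvPolynomial (Fin r) R) = c a := by
    simp [MvPolynomial.coeff_sum, MvPolynomial.coeff_C_mul, MvPolynomial.coeff_X,
      Finsupp.single_left_inj]
  rw [hcoef] at hk
  refine ⟨(Ideal.Quotient.mk J g) ^ k, pow_mem hS k, ?_⟩
  rw [← hc a, ← map_pow, ← map_mul]
  exact Ideal.Quotient.eq_zero_iff_mem.2 hk

end Proj

theorem projective (h : PP16.IsLocallyQuasiRegular R J) :
    Module.Projective (R ⧸ J) J.Cotangent := by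
  have hfg := fg J h
  have hfinR : Module.Finite R J := Module.Finite.iff_fg.2 hfg
  have hfinRC : Module.Finite R J.Cotangent :=
    Module.Finite.of_surjective J.toCotangent J.toCotangent_surjective
  have hfin : Module.Finite (R ⧸ J) J.Cotangent := Module.Finite.of_restrictScalars_finite R _ _
  have key : ∀ (𝔮 : Ideal (R ⧸ J)) [𝔮.IsPrime], ∃ g : R, Ideal.Quotient.mk J g ∉ 𝔮 ∧
      ∃ (r : ℕ) (y : Fin r → R), QRLoc.LQR J g y := by
    intro 𝔮 _
    have hJP : J ≤ 𝔮.comap (Ideal.Quotient.mk J) := by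
      intro x hx
      rw [Ideal.mem_comap, Ideal.Quotient.eq_zero_iff_mem.2 hx]
      exact zero_mem _
    obtain ⟨g, hg, r, y, hy⟩ := exists_lqr J h (𝔮.comap (Ideal.Quotient.mk J)) hJP
    exact ⟨g, hg, r, y, hy⟩
  have hfp : Module.FinitePresentation (R ⧸ J) J.Cotangent := by
    let s : Set (R ⧸ J) := {q | Module.FinitePresentation (Localization.Away q)
      (LocalizedModule.Away q J.Cotangent)}
    refine Module.FinitePresentation.of_localizationSpan s ?_ (fun q => q.2)
    by_contra hne
    obtain ⟨𝔮, hmax, hle⟩ := Ideal.exists_le_maximal _ hne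
    have : 𝔮.IsPrime := hmax.isPrime
    obtain ⟨g, hg, r, y, hy⟩ := key 𝔮
    apply hg
    apply hle
    apply Ideal.subset_span
    show Module.FinitePresentation _ _
    obtain ⟨hfree, hfin'⟩ := free_localizedModule (Submonoid.powers (Ideal.Quotient.mk J g))
      (fun a => J.toCotangent ⟨y a, hy.mem a⟩)
      (hA_of_lqr hy _ (Submonoid.mem_powers _))
      (hB_of_lqr hy _ (Submonoid.mem_powers _))
    exact Module.finitePresentation_of_projective _ _
  apply Module.projective_of_localization_maximal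
  intro 𝔮 hmax
  have : 𝔮.IsPrime := hmax.isPrime
  obtain ⟨g, hg, r, y, hy⟩ := key 𝔮
  obtain ⟨hfree, hfin'⟩ := free_localizedModule 𝔮.primeCompl
    (fun a => J.toCotangent ⟨y a, hy.mem a⟩)
    (hA_of_lqr hy _ hg) (hB_of_lqr hy _ hg)
  exact Module.Projective.of_free

theorem symGrBijective (h : PP16.IsLocallyQuasiRegular R J) : PP16.SymGrBijective R J := by
  intro ι _ _
  refine ⟨QRSym.phiJ J ι, QRSym.phiJ_tprod J ι, ?_, QRSym.phiJ_surjective J ι⟩
  rw [injective_iff_map_eq_zero]
  intro ξ hξ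
  by_contra hne
  let I : Ideal R := LinearMap.ker (LinearMap.toSpanSingleton R _ ξ)
  have hmem : ∀ c : R, c ∈ I ↔ c • ξ = 0 := by
    intro c
    rw [LinearMap.mem_ker, LinearMap.toSpanSingleton_apply]
  have hI : I ≠ ⊤ := by
    intro htop
    apply hne
    have h1 : (1 : R) ∈ I := htop ▸ Submodule.mem_top
    rw [hmem, one_smul] at h1
    exact h1
  obtain ⟨P, hmax, hle⟩ := Ideal.exists_le_maximal I hI
  have hprime : P.IsPrime := hmax.isPrime
  by_cases hJP : J ≤ P
  · obtain ⟨g, hg, r, y, hy⟩ := exists_lqr J h P hJP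
    obtain ⟨N, hN⟩ := QRSym.exists_pow_smul_eq_zero ι (fun a => (⟨y a, hy.mem a⟩ : ↥J)) g
      hy.gen (hy.qr _) ξ hξ
    exact hg (hprime.mem_of_pow_mem N (hle ((hmem _).2 hN)))
  · obtain ⟨j, hjJ, hjP⟩ := SetLike.not_le_iff_exists.1 hJP
    exact hjP (hle ((hmem _).2 (QRSym.smul_sym_eq_zero J hjJ ξ)))

end Groth.Agent.Lib.Helper26.QRFwd
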