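import Mathlib
import Groth.Prelude.Def_PP16
import Groth.Agent.Lib.Helper26.QRSym
import Groth.Agent.Lib.Helper26.PPMain1
import Groth.Agent.Lib.Helper26.PPCert
import Groth.Agent.Lib.Helper26.QRFwd
import Groth.Agent.Lib.Helper26.QRBwd

set_option autoImplicit false
universe u
open TensorProduct

namespace Groth.Agent.Lib.Helper26.PPQR

open Groth.Agent.Lib.Helper26 Groth.Agent.Lib.Helper26.PPMain1

variable (A B : Type u) [CommRing A] [CommRing B] [Algebra A B]

/-- The identity, from the cotangent module of the diagonal ideal to the Kähler differentials. -/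
noncomputable def toOmega : (KaehlerDifferential.ideal A B).Cotangent →ₗ[B ⊗[A] B] Ω[B⁄A] :=
  LinearMap.id

/-- The identity, from the Kähler differentials to the cotangent module of the diagonal ideal. -/
noncomputable def ofOmega : Ω[B⁄A] →ₗ[B ⊗[A] B] (KaehlerDifferential.ideal A B).Cotangent :=
  LinearMap.id

@[simp] lemma toOmega_ofOmega (m : Ω[B⁄A]) : toOmega A B (ofOmega A B m) = m := rfl
@[simp] lemma ofOmega_toOmega (m : (KaehlerDifferential.ideal A B).Cotangent) :
    ofOmega A B (toOmega A B m) = m := rfl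

lemma toOmega_toCotangent (x : ↥(KaehlerDifferential.ideal A B)) :
    toOmega A B ((KaehlerDifferential.ideal A B).toCotangent x) =
      KaehlerDifferential.fromIdeal A B x := rfl

lemma smul_eq_lmul_smul (r : B ⊗[A] B) (m : Ω[B⁄A]) :
    r • m = (Algebra.TensorProduct.lmul' A r : B) • m := by
  have h1 : (Algebra.TensorProduct.lmul' A r : B) • m =
      ((Algebra.TensorProduct.lmul' A r : B) • (1 : B ⊗[A] B)) • m := by
    rw [smul_assoc, one_smul]
  rw [h1, ← sub_eq_zero, ← sub_smul]
  exact QRSym.smul_cotangent_eq_zero (KaehlerDifferential.ideal A B) (sub_lmul_mem r) m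

variable (ι : Type u)

/-- `Sym_B^ι Ω` as a module over `B ⊗ B` through multiplication. -/
@[reducible] noncomputable def modSymB : Module (B ⊗[A] B) (SymmetricPower B ι (Ω[B⁄A])) :=
  Module.compHom _ (Algebra.TensorProduct.lmul' A : B ⊗[A] B →ₐ[A] B).toRingHom

/-- `Sym_{B⊗B}^ι (I/I²)` as a module over `B` through the left factor. -/
@[reducible] noncomputable def modSymR :
    Module B (SymmetricPower (B ⊗[A] B) ι (KaehlerDifferential.ideal A B).Cotangent) :=
  Module.compHom _ (algebraMap B (B ⊗[A] B))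

attribute [local instance] modSymB modSymR

lemma smul_symB (r : B ⊗[A] B) (x : SymmetricPower B ι (Ω[B⁄A])) :
    r • x = (Algebra.TensorProduct.lmul' A r : B) • x := rfl

lemma smul_symR (b : B)
    (x : SymmetricPower (B ⊗[A] B) ι (KaehlerDifferential.ideal A B).Cotangent) :
    b • x = (algebraMap B (B ⊗[A] B) b) • x := rfl

/-- The `B ⊗ B`-multilinear version of `tprod_B`. -/
noncomputable def tprodBR : MultilinearMap (B ⊗[A] B)
    (fun _ : ι => Ω[B⁄A]) (SymmetricPower B ι (Ω[B⁄A])) where
  toFun ω := SymmetricPower.tprod B ω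
  map_update_add' := by
    intro _ ω i a b
    exact (SymmetricPower.tprod B (M := Ω[B⁄A])).map_update_add ω i a b
  map_update_smul' := by
    intro _ ω i r a
    rw [smul_eq_lmul_smul, smul_symB]
    exact (SymmetricPower.tprod B (M := Ω[B⁄A])).map_update_smul ω i _ a

/-- The `B`-multilinear version of `tprod_{B⊗B}`. -/
noncomputable def tprodRB : MultilinearMap B
    (fun _ : ι => Ω[B⁄A])
    (SymmetricPower (B ⊗[A] B) ι (KaehlerDifferential.ideal A B).Cotangent) where
  toFun ω := SymmetricPower.tprod (B ⊗[A] B) (fun i => ofOmega A B (ω i))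
  map_update_add' := by
    intro _ ω i a b
    have e : ∀ c, (fun j => ofOmega A B (Function.update ω i c j)) =
        Function.update (fun j => ofOmega A B (ω j)) i (ofOmega A B c) := by
      intro c
      funext j
      by_cases hj : j = i
      · subst hj; simp
      · simp [Function.update_of_ne hj]
    rw [e, e, e, map_add, MultilinearMap.map_update_add]
  map_update_smul' := by
    intro _ ω i b a
    have e : ∀ c, (fun j => ofOmega A B (Function.update ω i c j)) =
        Function.update (fun j => ofOmega A B (ω j)) i (ofOmega A B c) := by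
      intro c
      funext j
      by_cases hj : j = i
      · subst hj; simp
      · simp [Function.update_of_ne hj]
    rw [e, e, smul_symR, ← algebraMap_smul (B ⊗[A] B) b a, map_smul,
      MultilinearMap.map_update_smul]

variable [Fintype ι]

lemma tprodBR_perm (σ : Equiv.Perm ι) (ω : ι → (KaehlerDifferential.ideal A B).Cotangent) :
    ((tprodBR A B ι).compLinearMap (fun _ => toOmega A B)) (fun i => ω (σ i)) =
      ((tprodBR A B ι).compLinearMap (fun _ => toOmega A B)) ω :=
  SymmetricPower.tprod_equiv σ (fun i => toOmega A B (ω i))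

lemma tprodRB_perm (σ : Equiv.Perm ι) (ω : ι → Ω[B⁄A]) :
    (tprodRB A B ι) (fun i => ω (σ i)) = (tprodRB A B ι) ω :=
  SymmetricPower.tprod_equiv σ (fun i => ofOmega A B (ω i))

/-- The comparison map `Sym_{B⊗B}(I/I²) → Sym_B(Ω)`. -/
noncomputable def alpha : SymmetricPower (B ⊗[A] B) ι (KaehlerDifferential.ideal A B).Cotangent
    →ₗ[B ⊗[A] B] SymmetricPower B ι (Ω[B⁄A]) :=
  SymLift.symLift ((tprodBR A B ι).compLinearMap (fun _ => toOmega A B)) (tprodBR_perm A B ι)

lemma alpha_tprod (ω : ι → (KaehlerDifferential.ideal A B).Cotangent) :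
    alpha A B ι (SymmetricPower.tprod (B ⊗[A] B) ω) =
      SymmetricPower.tprod B (fun i => toOmega A B (ω i)) := by
  rw [alpha, SymLift.symLift_tprod]
  rfl

/-- The comparison map `Sym_B(Ω) → Sym_{B⊗B}(I/I²)`. -/
noncomputable def beta : SymmetricPower B ι (Ω[B⁄A]) →ₗ[B]
    SymmetricPower (B ⊗[A] B) ι (KaehlerDifferential.ideal A B).Cotangent :=
  SymLift.symLift (tprodRB A B ι) (tprodRB_perm A B ι)

lemma beta_tprod (ω : ι → Ω[B⁄A]) :
    beta A B ι (SymmetricPower.tprod B ω) =
      SymmetricPower.tprod (B ⊗[A] B) (fun i => ofOmega A B (ω i)) := by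
  rw [beta, SymLift.symLift_tprod]
  rfl

lemma alpha_surjective : Function.Surjective (alpha A B ι) := by
  intro x
  obtain ⟨T, a, rfl⟩ := SymLift.exists_rep x
  refine ⟨∑ k ∈ T, (a k • (1 : B ⊗[A] B)) •
    SymmetricPower.tprod (B ⊗[A] B) (fun i => ofOmega A B (k i)), ?_⟩
  rw [map_sum]
  apply Finset.sum_congr rfl
  intro k _
  rw [map_smul, alpha_tprod, smul_symB]
  congr 1
  rw [Algebra.smul_def, mul_one, Algebra.TensorProduct.algebraMap_apply]
  simp

lemma beta_alpha [Nonempty ι]
    (ξ : SymmetricPower (B ⊗[A] B) ι (KaehlerDifferential.ideal A B).Cotangent) :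
    beta A B ι (alpha A B ι ξ) = ξ := by
  have hξ : ξ ∈ Submodule.span (B ⊗[A] B) (Set.range (SymmetricPower.tprod (B ⊗[A] B) (ι := ι)
      (M := (KaehlerDifferential.ideal A B).Cotangent))) := by
    rw [SymmetricPower.span_tprod_eq_top]; trivial
  induction hξ using Submodule.span_induction with
  | mem ξ h =>
    obtain ⟨ω, rfl⟩ := h
    rw [alpha_tprod, beta_tprod]
    rfl
  | zero => rw [map_zero, map_zero]
  | add ξ₁ ξ₂ _ _ h₁ h₂ => rw [map_add, map_add, h₁, h₂]
  | smul r ξ _ h =>
    rw [map_smul, smul_symB, map_smul, h, smul_symR, ← sub_eq_zero, ← sub_smul]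
    have : (algebraMap B (B ⊗[A] B)) ((Algebra.TensorProduct.lmul' A) r) - r ∈
        KaehlerDifferential.ideal A B := by
      have := sub_lmul_mem (A := A) r
      rw [Algebra.smul_def, mul_one] at this
      rw [← neg_sub]
      exact neg_mem this
    exact QRSym.smul_sym_eq_zero (KaehlerDifferential.ideal A B) this ξ

lemma alpha_injective [Nonempty ι] : Function.Injective (alpha A B ι) := by
  intro x y hxy
  rw [← beta_alpha A B ι x, ← beta_alpha A B ι y, hxy]


section Compare

variable (s : Ω[B⁄A] →ₗ[B] (B ⊗[A] B)) (hs : ∀ ω, s ω ∈ KaehlerDifferential.ideal A B)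
  (hs' : ∀ ω, KaehlerDifferential.fromIdeal A B ⟨s ω, hs ω⟩ = ω)

lemma mkJ_eq_zero (w : B ⊗[A] B) (hw : w ∈ KaehlerDifferential.ideal A B ^ Fintype.card ι) :
    (Submodule.Quotient.mk ⟨w, hw⟩ :
      PP16.grJ (B ⊗[A] B) (KaehlerDifferential.ideal A B) (Fintype.card ι)) = 0 ↔
      w ∈ KaehlerDifferential.ideal A B ^ (Fintype.card ι + 1) := by
  rw [Submodule.Quotient.mk_eq_zero, Submodule.mem_comap]
  rfl

lemma mkI_eq_zero (w : B ⊗[A] B)
    (hw : w ∈ (KaehlerDifferential.ideal A B ^ Fintype.card ι).restrictScalars B) :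
    (Submodule.Quotient.mk ⟨w, hw⟩ : PP16.grI A B (Fintype.card ι)) = 0 ↔
      w ∈ KaehlerDifferential.ideal A B ^ (Fintype.card ι + 1) := by
  rw [Submodule.Quotient.mk_eq_zero, Submodule.mem_comap]
  rfl

include hs' in
lemma exists_reps (ξ : SymmetricPower (B ⊗[A] B) ι (KaehlerDifferential.ideal A B).Cotangent) :
    ∃ (w w' : B ⊗[A] B) (hw : w ∈ KaehlerDifferential.ideal A B ^ Fintype.card ι)
      (hw' : w' ∈ (KaehlerDifferential.ideal A B ^ Fintype.card ι).restrictScalars B),
      w - w' ∈ KaehlerDifferential.ideal A B ^ (Fintype.card ι + 1) ∧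
      QRSym.phiJ (KaehlerDifferential.ideal A B) ι ξ = Submodule.Quotient.mk ⟨w, hw⟩ ∧
      phi A B ι s hs (alpha A B ι ξ) = Submodule.Quotient.mk ⟨w', hw'⟩ := by
  classical
  have hξ : ξ ∈ Submodule.span (B ⊗[A] B) (Set.range (SymmetricPower.tprod (B ⊗[A] B) (ι := ι)
      (M := (KaehlerDifferential.ideal A B).Cotangent))) := by
    rw [SymmetricPower.span_tprod_eq_top]; trivial
  induction hξ using Submodule.span_induction with
  | mem ξ h =>
    obtain ⟨ω, rfl⟩ := h
    have h1 : ∏ i, ((QRSym.sec (KaehlerDifferential.ideal A B) (ω i) :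
        ↥(KaehlerDifferential.ideal A B)) : B ⊗[A] B) ∈
        KaehlerDifferential.ideal A B ^ Fintype.card ι := by
      simpa using PP16.prod_mem_pow (KaehlerDifferential.ideal A B) Finset.univ
        (fun i => ((QRSym.sec (KaehlerDifferential.ideal A B) (ω i) :
          ↥(KaehlerDifferential.ideal A B)) : B ⊗[A] B)) (fun i _ => (QRSym.sec _ (ω i)).2)
    refine ⟨_, _, h1, prod_s_mem A B ι s hs (fun i => toOmega A B (ω i)), ?_, ?_, ?_⟩
    · have := PPGen.prod_sub_prod_mem (KaehlerDifferential.ideal A B) Finset.univ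
        (fun i => ((QRSym.sec (KaehlerDifferential.ideal A B) (ω i) :
          ↥(KaehlerDifferential.ideal A B)) : B ⊗[A] B))
        (fun i => s (toOmega A B (ω i))) (fun i _ => (QRSym.sec _ (ω i)).2)
        (fun i _ => hs _) (fun i _ => by
          have e1 : (KaehlerDifferential.ideal A B).toCotangent
              (QRSym.sec (KaehlerDifferential.ideal A B) (ω i)) =
              (KaehlerDifferential.ideal A B).toCotangent ⟨s (toOmega A B (ω i)), hs _⟩ := by
            rw [QRSym.toCotangent_sec]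
            exact (hs' (toOmega A B (ω i))).symm
          exact (Ideal.toCotangent_eq _).1 e1)
      rwa [Finset.card_univ] at this
    · rw [QRSym.phiJ, SymLift.symLift_tprod]
      rfl
    · rw [alpha_tprod, phi_tprod]
  | zero =>
    refine ⟨0, 0, zero_mem _, zero_mem _, by simp, ?_, ?_⟩
    · rw [map_zero]; rfl
    · rw [map_zero, map_zero]; rfl
  | add ξ₁ ξ₂ _ _ h₁ h₂ =>
    obtain ⟨w₁, w₁', hw₁, hw₁', hd₁, e₁, e₁'⟩ := h₁
    obtain ⟨w₂, w₂', hw₂, hw₂', hd₂, e₂, e₂'⟩ := h₂
    refine ⟨w₁ + w₂, w₁' + w₂', add_mem hw₁ hw₂, add_mem hw₁' hw₂', ?_, ?_, ?_⟩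
    · rw [add_sub_add_comm]
      exact add_mem hd₁ hd₂
    · rw [map_add, e₁, e₂]; rfl
    · rw [map_add, map_add, e₁', e₂']; rfl
  | smul r ξ _ h =>
    obtain ⟨w, w', hw, hw', hd, e, e'⟩ := h
    refine ⟨r * w, (Algebra.TensorProduct.lmul' A r : B) • w', Ideal.mul_mem_left _ _ hw,
      Submodule.smul_mem _ _ hw', ?_, ?_, ?_⟩
    · have h2 : r * w - (Algebra.TensorProduct.lmul' A r : B) • w' =
          r * (w - w') + (r - (Algebra.TensorProduct.lmul' A r : B) • (1 : B ⊗[A] B)) * w' := by
        rw [sub_mul, smul_mul_assoc, one_mul]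
        ring
      rw [h2]
      refine add_mem (Ideal.mul_mem_left _ _ hd) ?_
      rw [pow_succ']
      exact Ideal.mul_mem_mul (sub_lmul_mem r) hw'
    · rw [map_smul, e]; rfl
    · rw [map_smul, smul_symB, map_smul, e']; rfl

include hs' in
theorem phi_injective_iff [Nonempty ι] :
    Function.Injective (phi A B ι s hs) ↔
      Function.Injective (QRSym.phiJ (KaehlerDifferential.ideal A B) ι) := by
  constructor
  · intro h
    rw [injective_iff_map_eq_zero]
    intro ξ hξ
    obtain ⟨w, w', hw, hw', hd, e, e'⟩ := exists_reps A B ι s hs hs' ξ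
    rw [e, mkJ_eq_zero] at hξ
    have h1 : w' ∈ KaehlerDifferential.ideal A B ^ (Fintype.card ι + 1) := by
      have := sub_mem hξ hd
      rwa [sub_sub_cancel] at this
    have h2 : phi A B ι s hs (alpha A B ι ξ) = 0 := by
      rw [e', mkI_eq_zero]
      exact h1
    have h3 : alpha A B ι ξ = 0 := h (h2.trans (map_zero _).symm)
    exact alpha_injective A B ι (h3.trans (map_zero _).symm)
  · intro h
    rw [injective_iff_map_eq_zero]
    intro x hx
    obtain ⟨ξ, rfl⟩ := alpha_surjective A B ι x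
    obtain ⟨w, w', hw, hw', hd, e, e'⟩ := exists_reps A B ι s hs hs' ξ
    rw [e', mkI_eq_zero] at hx
    have h1 : w ∈ KaehlerDifferential.ideal A B ^ (Fintype.card ι + 1) := by
      have := add_mem hd hx
      rwa [sub_add_cancel] at this
    have h2 : QRSym.phiJ (KaehlerDifferential.ideal A B) ι ξ = 0 := by
      rw [e, mkJ_eq_zero]
      exact h1
    rw [h (h2.trans (map_zero _).symm), map_zero]

end Compare


section Proj

lemma lmul'_surjective : Function.Surjective (Algebra.TensorProduct.lmul' A : B ⊗[A] B →ₐ[A] B) :=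
  fun b => ⟨b ⊗ₜ 1, by simp⟩

/-- The ring isomorphism `(B ⊗ B)/I ≃ B`. -/
noncomputable def quotEquiv : ((B ⊗[A] B) ⧸ KaehlerDifferential.ideal A B) ≃+* B :=
  (Ideal.quotientKerAlgEquivOfSurjective (lmul'_surjective A B)).toRingEquiv

lemma quotEquiv_mk (r : B ⊗[A] B) :
    quotEquiv A B (Ideal.Quotient.mk _ r) = Algebra.TensorProduct.lmul' A r := rfl

attribute [local instance] RingHomInvPair.of_ringEquiv RingHomInvPair.of_ringEquiv_symm

/-- The identity as a semilinear equivalence over `(B ⊗ B)/I ≃ B`. -/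
noncomputable def semiEquiv : (KaehlerDifferential.ideal A B).Cotangent
    ≃ₛₗ[(quotEquiv A B : ((B ⊗[A] B) ⧸ KaehlerDifferential.ideal A B) →+* B)] Ω[B⁄A] where
  toFun := toOmega A B
  invFun := ofOmega A B
  map_add' := map_add _
  map_smul' := by
    intro q m
    obtain ⟨r, rfl⟩ := Ideal.Quotient.mk_surjective q
    rw [QRBwd.mk_smul, map_smul, smul_eq_lmul_smul]
    rfl
  left_inv := fun _ => rfl
  right_inv := fun _ => rfl

theorem projective_iff : Module.Projective B (Ω[B⁄A]) ↔
    Module.Projective ((B ⊗[A] B) ⧸ KaehlerDifferential.ideal A B)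
      (KaehlerDifferential.ideal A B).Cotangent := by
  constructor
  · intro h
    exact Module.Projective.of_equiv (semiEquiv A B).symm
  · intro h
    exact Module.Projective.of_equiv (semiEquiv A B)

end Proj

section Empty

variable (s : Ω[B⁄A] →ₗ[B] (B ⊗[A] B)) (hs : ∀ ω, s ω ∈ KaehlerDifferential.ideal A B)

lemma phi_injective_of_isEmpty [IsEmpty ι] : Function.Injective (phi A B ι s hs) := by
  rw [injective_iff_map_eq_zero]
  intro x hx
  obtain ⟨T, a, rfl⟩ := SymLift.exists_rep x
  have hk : ∀ k : ι → Ω[B⁄A], k = isEmptyElim := fun k => funext (fun i => isEmptyElim i)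
  have h1 : ∑ k ∈ T, a k • SymmetricPower.tprod B k =
      (∑ k ∈ T, a k) • SymmetricPower.tprod B (isEmptyElim : ι → Ω[B⁄A]) := by
    rw [Finset.sum_smul]
    apply Finset.sum_congr rfl
    intro k _
    rw [hk k]
  rw [h1] at hx ⊢
  rw [map_smul, phi_tprod] at hx
  have h2 : (∑ k ∈ T, a k) • (Submodule.Quotient.mk
      ⟨∏ i, s ((isEmptyElim : ι → Ω[B⁄A]) i), prod_s_mem A B ι s hs _⟩ :
        PP16.grI A B (Fintype.card ι)) =
      Submodule.Quotient.mk ⟨(∑ k ∈ T, a k) • ∏ i, s ((isEmptyElim : ι → Ω[B⁄A]) i),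
        Submodule.smul_mem _ _ (prod_s_mem A B ι s hs _)⟩ := rfl
  rw [h2, mkI_eq_zero, Finset.univ_eq_empty, Finset.prod_empty, Fintype.card_eq_zero, zero_add,
    pow_one] at hx
  have h3 : Algebra.TensorProduct.lmul' A ((∑ k ∈ T, a k) • (1 : B ⊗[A] B)) = 0 := hx
  rw [Algebra.smul_def, mul_one, Algebra.TensorProduct.algebraMap_apply] at h3
  simp only [Algebra.algebraMap_self, RingHom.id_apply, Algebra.TensorProduct.lmul'_apply_tmul,
    mul_one] at h3
  rw [h3, zero_smul]

end Empty

section Main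

theorem main [Algebra.FiniteType A B] :
    PP16.IsDiffSmooth A B ↔
      PP16.IsLocallyQuasiRegular (B ⊗[A] B) (KaehlerDifferential.ideal A B) := by
  constructor
  · intro hB
    have hproj := hB.1
    obtain ⟨s, hs, hs'⟩ := exists_section A B
    refine QRBwd.isLocallyQuasiRegular _ (KaehlerDifferential.ideal_fg A B)
      ((projective_iff A B).1 hproj) ?_
    intro ι _ _
    refine ⟨QRSym.phiJ _ ι, QRSym.phiJ_tprod _ ι, ?_, QRSym.phiJ_surjective _ ι⟩
    exact (phi_injective_iff A B ι s hs hs').1 (PPCert.phi_bijective hB s hs hs' ι).1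
  · intro hq
    have hproj : Module.Projective B (Ω[B⁄A]) :=
      (projective_iff A B).2 (QRFwd.projective _ hq)
    have hsym := QRFwd.symGrBijective _ hq
    obtain ⟨s, hs, hs'⟩ := exists_section A B
    refine ⟨hproj, fun ι _ => ⟨phi A B ι s hs, phi_tprod_D A B ι s hs hs', ?_,
      phi_surjective A B ι _ (phi_tprod_D A B ι s hs hs')⟩⟩
    rcases isEmpty_or_nonempty ι with hι | hι
    · exact phi_injective_of_isEmpty A B ι s hs
    · rw [phi_injective_iff A B ι s hs hs']
      obtain ⟨φ, hφ, hbij⟩ := hsym ι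
      rw [← QRSym.eq_phiJ _ ι φ hφ]
      exact hbij.1

end Main

end Groth.Agent.Lib.Helper26.PPQR
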