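import Mathlib
import Groth.Prelude.Def_PP16

universe u

namespace Groth.Agent.Lib.Helper26.PPSec1

open scoped TensorProduct

variable (R B : Type u) [CommRing R] [CommRing B] [Algebra R B] (σ : B →ₐ[R] R)

/-- `a ⊗ b ↦ σ(a) b`. -/
noncomputable def Phi : B ⊗[R] B →ₐ[R] B :=
  Algebra.TensorProduct.lift ((Algebra.ofId R B).comp σ) (AlgHom.id R B) (fun _ _ => Commute.all _ _)

theorem Phi_tmul (a b : B) : Phi R B σ (a ⊗ₜ b) = algebraMap R B (σ a) * b := by
  simp [Phi, Algebra.TensorProduct.lift_tmul, Algebra.ofId_apply]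

theorem Phi_gen (b : B) : Phi R B σ ((1 : B) ⊗ₜ[R] b - b ⊗ₜ[R] (1 : B)) = b - algebraMap R B (σ b) := by
  rw [map_sub, Phi_tmul, Phi_tmul, map_one, map_one, one_mul, mul_one]

theorem sub_mem_ker (b : B) : b - algebraMap R B (σ b) ∈ RingHom.ker σ.toRingHom := by
  rw [RingHom.mem_ker]
  change σ (b - algebraMap R B (σ b)) = 0
  rw [map_sub, AlgHom.commutes]
  simp

theorem Phi_surjective : Function.Surjective (Phi R B σ) := fun b => ⟨1 ⊗ₜ b, by
  rw [Phi_tmul, map_one, map_one, one_mul]⟩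

theorem map_ideal_le :
    (KaehlerDifferential.ideal R B).map (Phi R B σ) ≤ RingHom.ker σ.toRingHom := by
  rw [← KaehlerDifferential.span_range_eq_ideal, Ideal.map_span, Ideal.span_le]
  rintro _ ⟨_, ⟨b, rfl⟩, rfl⟩
  rw [Phi_gen]
  exact sub_mem_ker R B σ b

theorem ker_le_map_ideal :
    RingHom.ker σ.toRingHom ≤ (KaehlerDifferential.ideal R B).map (Phi R B σ) := by
  intro b hb
  have hσ : σ b = 0 := hb
  have : b = Phi R B σ ((1 : B) ⊗ₜ[R] b - b ⊗ₜ[R] (1 : B)) := by
    rw [Phi_gen, hσ, map_zero, sub_zero]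
  rw [this]
  exact Ideal.mem_map_of_mem _ (KaehlerDifferential.one_smul_sub_smul_one_mem_ideal R b)

theorem map_ideal_pow (n : ℕ) :
    ((KaehlerDifferential.ideal R B) ^ n).map (Phi R B σ) = (RingHom.ker σ.toRingHom) ^ n := by
  rw [Ideal.map_pow]
  congr 1
  exact le_antisymm (map_ideal_le R B σ) (ker_le_map_ideal R B σ)

/-- The ideal of `B ⊗ B` generated by `i ⊗ 1`, `i ∈ ker σ`. -/
noncomputable def J : Ideal (B ⊗[R] B) :=
  (RingHom.ker σ.toRingHom).map (Algebra.TensorProduct.includeLeft : B →ₐ[R] B ⊗[R] B)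

theorem sub_mem_J (w : B ⊗[R] B) : w - (1 : B) ⊗ₜ[R] (Phi R B σ w) ∈ J R B σ := by
  induction w using TensorProduct.induction_on with
  | zero => simp
  | tmul a c =>
    rw [Phi_tmul]
    have h1 : (1 : B) ⊗ₜ[R] (algebraMap R B (σ a) * c) = (algebraMap R B (σ a)) ⊗ₜ[R] c := by
      rw [← Algebra.smul_def, TensorProduct.tmul_smul, TensorProduct.smul_tmul', Algebra.smul_def,
        mul_one]
    rw [h1, ← TensorProduct.sub_tmul]
    have h2 : (a - algebraMap R B (σ a)) ⊗ₜ[R] c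
        = ((1 : B) ⊗ₜ[R] c) * ((a - algebraMap R B (σ a)) ⊗ₜ[R] (1 : B)) := by
      rw [Algebra.TensorProduct.tmul_mul_tmul, one_mul, mul_one]
    rw [h2]
    apply Ideal.mul_mem_left
    exact Ideal.mem_map_of_mem _ (sub_mem_ker R B σ a)
  | add x y hx hy =>
    have : x + y - (1 : B) ⊗ₜ[R] (Phi R B σ (x + y))
        = (x - (1 : B) ⊗ₜ[R] (Phi R B σ x)) + (y - (1 : B) ⊗ₜ[R] (Phi R B σ y)) := by
      rw [map_add, TensorProduct.tmul_add]; ring
    rw [this]
    exact (J R B σ).add_mem hx hy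

theorem mem_J_of_Phi_eq_zero (w : B ⊗[R] B) (hw : Phi R B σ w = 0) : w ∈ J R B σ := by
  have := sub_mem_J R B σ w
  rw [hw, TensorProduct.tmul_zero, sub_zero] at this
  exact this

/-- The projection `y ↦ y - mult(y) ⊗ 1` onto the kernel of multiplication. -/
noncomputable def rho (y : B ⊗[R] B) : B ⊗[R] B :=
  y - (Algebra.TensorProduct.lmul' R y) ⊗ₜ[R] (1 : B)

theorem rho_mem (y : B ⊗[R] B) : rho R B y ∈ KaehlerDifferential.ideal R B := by
  unfold rho KaehlerDifferential.ideal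
  rw [RingHom.mem_ker]
  rw [map_sub, Algebra.TensorProduct.lmul'_apply_tmul, mul_one, sub_self]

theorem rho_eq_self {w : B ⊗[R] B} (hw : w ∈ KaehlerDifferential.ideal R B) : rho R B w = w := by
  have : Algebra.TensorProduct.lmul' R w = 0 := hw
  unfold rho
  rw [this, TensorProduct.zero_tmul, sub_zero]

theorem rho_add (x y : B ⊗[R] B) : rho R B (x + y) = rho R B x + rho R B y := by
  unfold rho
  rw [map_add, TensorProduct.add_tmul]; ring

theorem rho_left_mul (a : B) (y : B ⊗[R] B) :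
    rho R B ((a ⊗ₜ[R] (1 : B)) * y) = (a ⊗ₜ[R] (1 : B)) * rho R B y := by
  unfold rho
  rw [map_mul, Algebra.TensorProduct.lmul'_apply_tmul, mul_one, mul_sub,
    Algebra.TensorProduct.tmul_mul_tmul, mul_one]

theorem mem_J_mul_of_mem_inf (w : B ⊗[R] B) (hJ : w ∈ J R B σ)
    (hΔ : w ∈ KaehlerDifferential.ideal R B) :
    w ∈ J R B σ * KaehlerDifferential.ideal R B := by
  have key : ∀ w ∈ J R B σ, ∀ y : B ⊗[R] B,
      rho R B (y * w) ∈ J R B σ * KaehlerDifferential.ideal R B := by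
    intro w hw
    unfold J at hw
    rw [Ideal.map] at hw
    induction hw using Submodule.span_induction with
    | mem g hg =>
      obtain ⟨i, hi, rfl⟩ := hg
      intro y
      change rho R B (y * (i ⊗ₜ[R] (1 : B))) ∈ _
      rw [mul_comm y, rho_left_mul]
      exact Ideal.mul_mem_mul (Ideal.mem_map_of_mem _ hi) (rho_mem R B y)
    | zero =>
      intro y
      rw [mul_zero]
      have : rho R B (0 : B ⊗[R] B) = 0 := by unfold rho; simp
      rw [this]; exact Ideal.zero_mem _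
    | add u v _ _ hu hv =>
      intro y
      rw [mul_add, rho_add]
      exact Ideal.add_mem _ (hu y) (hv y)
    | smul c u _ hu =>
      intro y
      rw [smul_eq_mul, ← mul_assoc]
      exact hu (y * c)
  have := key w hJ 1
  rw [one_mul, rho_eq_self R B hΔ] at this
  exact this

end Groth.Agent.Lib.Helper26.PPSec1
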