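import Mathlib
import Groth.Prelude.Def_PP16
import Groth.Agent.Lib.Helper26.PPSec1

universe u

namespace Groth.Agent.Lib.Helper26.PPSec2

open scoped TensorProduct
open Groth.Agent.Lib.Helper26.PPSec1

variable (R B : Type u) [CommRing R] [CommRing B] [Algebra R B] (σ : B →ₐ[R] R) (n : ℕ)

/-- The induced map `P^n → B / I^(n+1)`. -/
noncomputable def PhiBar : PP16.P n R B →ₐ[R] B ⧸ (RingHom.ker σ.toRingHom) ^ (n + 1) :=
  Ideal.Quotient.liftₐ ((KaehlerDifferential.ideal R B) ^ (n + 1))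
    ((Ideal.Quotient.mkₐ R ((RingHom.ker σ.toRingHom) ^ (n + 1))).comp (Phi R B σ))
    (fun x hx => by
      rw [AlgHom.comp_apply, Ideal.Quotient.mkₐ_eq_mk, Ideal.Quotient.eq_zero_iff_mem,
        ← map_ideal_pow R B σ (n + 1)]
      exact Ideal.mem_map_of_mem _ hx)

theorem PhiBar_mk (x : B ⊗[R] B) :
    PhiBar R B σ n (Ideal.Quotient.mk _ x) = Ideal.Quotient.mk _ (Phi R B σ x) := rfl

theorem smul_mk (b : B) (x : B ⊗[R] B) :
    b • (Ideal.Quotient.mk ((KaehlerDifferential.ideal R B) ^ (n + 1)) x : PP16.P n R B)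
      = Ideal.Quotient.mk _ ((b ⊗ₜ[R] (1 : B)) * x) := by
  rw [Algebra.smul_def]
  rfl

/-- Elements of `I • T` are killed by `PhiBar`. -/
theorem PhiBar_eq_zero_of_mem (t : PP16.P n R B)
    (ht : t ∈ RingHom.ker σ.toRingHom • (PP16.augIdeal n R B).restrictScalars B) :
    PhiBar R B σ n t = 0 := by
  refine Submodule.smul_induction_on ht ?_ ?_
  · intro i hi t' _
    obtain ⟨x, rfl⟩ := Ideal.Quotient.mk_surjective t'
    rw [smul_mk, PhiBar_mk, map_mul, Phi_tmul]
    have : σ i = 0 := hi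
    rw [this, map_zero, zero_mul, zero_mul, map_zero]
  · intro x y hx hy
    rw [map_add, hx, hy, add_zero]

/-- Elements of the augmentation ideal killed by `PhiBar` lie in `I • T`. -/
theorem mem_of_PhiBar_eq_zero (t : PP16.P n R B) (ht : t ∈ PP16.augIdeal n R B)
    (h0 : PhiBar R B σ n t = 0) :
    t ∈ RingHom.ker σ.toRingHom • (PP16.augIdeal n R B).restrictScalars B := by
  unfold PP16.augIdeal at ht
  obtain ⟨x, hx, rfl⟩ := (Ideal.mem_map_iff_of_surjective _ Ideal.Quotient.mk_surjective).mp ht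
  rw [PhiBar_mk, Ideal.Quotient.eq_zero_iff_mem, ← map_ideal_pow R B σ (n + 1)] at h0
  obtain ⟨z, hz, hzx⟩ := (Ideal.mem_map_iff_of_surjective _ (Phi_surjective R B σ)).mp h0
  have hzΔ : z ∈ KaehlerDifferential.ideal R B := Ideal.pow_le_self (by omega) hz
  set w := x - z with hw
  have hwΦ : Phi R B σ w = 0 := by
    rw [hw, map_sub]
    change Phi R B σ x - Phi R B σ z = 0
    rw [← hzx]
    exact sub_self _
  have hwΔ : w ∈ KaehlerDifferential.ideal R B := Ideal.sub_mem _ hx hzΔ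
  have hwJ : w ∈ J R B σ := mem_J_of_Phi_eq_zero R B σ w hwΦ
  have hwJΔ := mem_J_mul_of_mem_inf R B σ w hwJ hwΔ
  have hxw : (Ideal.Quotient.mk ((KaehlerDifferential.ideal R B) ^ (n + 1)) x : PP16.P n R B)
      = Ideal.Quotient.mk _ w := by
    rw [hw, map_sub, Ideal.Quotient.eq_zero_iff_mem.mpr hz, sub_zero]
  rw [hxw]
  -- elements of J * Δ map into I • T
  refine Submodule.mul_induction_on hwJΔ ?_ ?_
  · intro j hj δ hδ
    -- generalize over δ
    revert δ
    unfold J at hj
    rw [Ideal.map] at hj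
    induction hj using Submodule.span_induction with
    | mem g hg =>
      obtain ⟨i, hi, rfl⟩ := hg
      intro δ hδ
      change (Ideal.Quotient.mk _ ((i ⊗ₜ[R] (1 : B)) * δ) : PP16.P n R B) ∈ _
      rw [← smul_mk]
      apply Submodule.smul_mem_smul hi
      exact Ideal.mem_map_of_mem _ hδ
    | zero =>
      intro δ _
      rw [zero_mul, map_zero]
      exact Submodule.zero_mem _
    | add u v _ _ hu hv =>
      intro δ hδ
      rw [add_mul, map_add]
      exact Submodule.add_mem _ (hu δ hδ) (hv δ hδ)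
    | smul c u _ hu =>
      intro δ hδ
      rw [smul_eq_mul, mul_assoc, mul_comm u, ← mul_assoc, mul_comm]
      rw [mul_comm c δ]
      exact hu (δ * c) (Ideal.mul_mem_right _ _ hδ)
  · intro u v hu hv
    rw [map_add]
    exact Submodule.add_mem _ hu hv

end Groth.Agent.Lib.Helper26.PPSec2
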