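import Mathlib
import Groth.Prelude.Def_PP16
import Groth.Agent.Lib.Helper26.PPSec2

universe u

namespace Groth.Agent.Lib.Helper26.PPSec3

open scoped TensorProduct
open Groth.Agent.Lib.Helper26.PPSec1 Groth.Agent.Lib.Helper26.PPSec2

theorem map_mem_augIdeal (n : ℕ) (R SY SX : Type u)
    [CommRing R] [CommRing SY] [CommRing SX] [Algebra R SY] [Algebra R SX] [Algebra SY SX]
    [IsScalarTower R SY SX] (y : PP16.P n R SY) (hy : y ∈ PP16.augIdeal n R SY) :
    PP16.map n R SY R SX y ∈ PP16.augIdeal n R SX := by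
  unfold PP16.augIdeal at hy ⊢
  obtain ⟨x, hx, rfl⟩ := (Ideal.mem_map_iff_of_surjective _ Ideal.Quotient.mk_surjective).mp hy
  rw [PP16.map_mk]
  apply Ideal.mem_map_of_mem
  exact PP16.ideal_map_tensorMap_le R SY R SX (Ideal.mem_map_of_mem _ hx)

theorem main' (R SY SX : Type u)
    [CommRing R] [CommRing SY] [CommRing SX] [Algebra R SY] [Algebra R SX] [Algebra SY SX]
    [IsScalarTower R SY SX] (σ : SX →ₐ[R] R) (n : ℕ) :
    (∀ y ∈ PP16.augIdeal n R SY,
        PP16.map n R SY R SX y ∈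
          RingHom.ker σ.toRingHom • (PP16.augIdeal n R SX).restrictScalars SX) ↔
      (∀ b : SY, algebraMap SY SX b ∈ RingHom.ker σ.toRingHom →
        algebraMap SY SX b ∈ RingHom.ker σ.toRingHom ^ (n + 1)) := by
  -- value on generators
  have hgen : ∀ b : SY, PhiBar R SX σ n (PP16.map n R SY R SX
      (Ideal.Quotient.mk _ ((1 : SY) ⊗ₜ[R] b - b ⊗ₜ[R] (1 : SY))))
      = Ideal.Quotient.mk _ (algebraMap SY SX b - algebraMap R SX (σ (algebraMap SY SX b))) := by
    intro b
    rw [PP16.map_mk, map_sub, PP16.tensorMap_tmul, PP16.tensorMap_tmul, map_one, PhiBar_mk, Phi_gen]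
  constructor
  · intro h b hb
    have hmem : (Ideal.Quotient.mk ((KaehlerDifferential.ideal R SY) ^ (n + 1))
        ((1 : SY) ⊗ₜ[R] b - b ⊗ₜ[R] (1 : SY)) : PP16.P n R SY) ∈ PP16.augIdeal n R SY := by
      unfold PP16.augIdeal
      exact Ideal.mem_map_of_mem _ (KaehlerDifferential.one_smul_sub_smul_one_mem_ideal R b)
    have h1 := PhiBar_eq_zero_of_mem R SX σ n _ (h _ hmem)
    rw [hgen] at h1
    have hσ : σ (algebraMap SY SX b) = 0 := hb
    rw [hσ, map_zero, sub_zero, Ideal.Quotient.eq_zero_iff_mem] at h1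
    exact h1
  · intro h y hy
    apply mem_of_PhiBar_eq_zero R SX σ n _ (map_mem_augIdeal n R SY SX y hy)
    -- the composite ring hom kills the augmentation ideal
    let Ψ : PP16.P n R SY →+* SX ⧸ (RingHom.ker σ.toRingHom) ^ (n + 1) :=
      (PhiBar R SX σ n).toRingHom.comp (PP16.map n R SY R SX).toRingHom
    have hΨ : PP16.augIdeal n R SY ≤ RingHom.ker Ψ := by
      unfold PP16.augIdeal
      rw [Ideal.map_le_iff_le_comap]
      have hspan := KaehlerDifferential.span_range_eq_ideal R SY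
      have hle : Ideal.span (Set.range fun s : SY => (1 : SY) ⊗ₜ[R] s - s ⊗ₜ[R] (1 : SY))
          ≤ Ideal.comap (Ideal.Quotient.mk (KaehlerDifferential.ideal R SY ^ (n + 1)))
            (RingHom.ker Ψ) := ?_
      · intro x hx
        rw [← hspan] at hx
        exact hle hx
      rw [Ideal.span_le]
      rintro _ ⟨b, rfl⟩
      rw [SetLike.mem_coe, Ideal.mem_comap, RingHom.mem_ker]
      change PhiBar R SX σ n (PP16.map n R SY R SX
        (Ideal.Quotient.mk _ ((1 : SY) ⊗ₜ[R] b - b ⊗ₜ[R] (1 : SY)))) = 0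
      rw [hgen, Ideal.Quotient.eq_zero_iff_mem]
      set c : SY := b - algebraMap R SY (σ (algebraMap SY SX b)) with hc
      have hc' : algebraMap SY SX c
          = algebraMap SY SX b - algebraMap R SX (σ (algebraMap SY SX b)) := by
        rw [hc, map_sub, ← IsScalarTower.algebraMap_apply R SY SX]
      rw [← hc']
      apply h c
      rw [hc']
      exact sub_mem_ker R SX σ _
    exact hΨ hy

theorem main (R SY SX : Type u)
    [CommRing R] [CommRing SY] [CommRing SX] [Algebra R SY] [Algebra R SX] [Algebra SY SX]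
    [IsScalarTower R SY SX] (σ : SX →ₐ[R] R) (e : ℕ) (he : 1 ≤ e) :
    (∀ y ∈ PP16.augIdeal (e - 1) R SY,
        PP16.map (e - 1) R SY R SX y ∈
          RingHom.ker σ.toRingHom • (PP16.augIdeal (e - 1) R SX).restrictScalars SX) ↔
      (∀ b : SY, algebraMap SY SX b ∈ RingHom.ker σ.toRingHom →
        algebraMap SY SX b ∈ RingHom.ker σ.toRingHom ^ e) := by
  obtain ⟨n, rfl⟩ : ∃ n, e = n + 1 := ⟨e - 1, by omega⟩
  rw [Nat.add_sub_cancel]
  exact main' R SY SX σ n

end Groth.Agent.Lib.Helper26.PPSec3
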