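import Mathlib

set_option autoImplicit false
universe u

namespace Groth.Agent.Helper26.PSNorm

open PowerSeries IsLocalRing

variable {R : Type u} [CommRing R] [IsDomain R] [IsDiscreteValuationRing R]

/-- normalisation: a power series over a DVR with a non-zero coefficient is `ϖ^k` times a power
series with non-zero reduction. -/
lemma exists_normal (ϖ : R) (hϖ : Irreducible ϖ) :
    ∀ (m : ℕ) (g : PowerSeries R), (∃ (j : ℕ) (u : Rˣ), coeff j g = u * ϖ ^ m) →
      ∃ (k : ℕ) (g' : PowerSeries R), g = C (ϖ ^ k) * g' ∧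
        PowerSeries.map (residue R) g' ≠ 0 := by
  intro m
  induction m with
  | zero =>
    rintro g ⟨j, u, hj⟩
    refine ⟨0, g, by simp, ?_⟩
    intro h
    have h1 : coeff j (PowerSeries.map (residue R) g) = 0 := by rw [h]; simp
    rw [PowerSeries.coeff_map, hj, pow_zero, mul_one, residue_eq_zero_iff] at h1
    exact (IsLocalRing.mem_maximalIdeal _).1 h1 u.isUnit
  | succ m ih =>
    rintro g ⟨j, u, hj⟩
    by_cases h : PowerSeries.map (residue R) g = 0
    · have hdiv : ∀ i, ϖ ∣ coeff i g := by
        intro i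
        have h1 : coeff i (PowerSeries.map (residue R) g) = 0 := by rw [h]; simp
        rw [PowerSeries.coeff_map, residue_eq_zero_iff, hϖ.maximalIdeal_eq,
          Ideal.mem_span_singleton] at h1
        exact h1
      choose q hq using hdiv
      have hg : g = C ϖ * PowerSeries.mk q := by
        ext i
        rw [PowerSeries.coeff_C_mul, PowerSeries.coeff_mk, ← hq]
      have hqj : coeff j (PowerSeries.mk q) = u * ϖ ^ m := by
        rw [PowerSeries.coeff_mk]
        have := hq j
        rw [hj, pow_succ, ← mul_assoc, mul_comm ϖ] at this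
        exact (mul_right_cancel₀ hϖ.ne_zero this).symm
      obtain ⟨k, g', hk, hg'⟩ := ih (PowerSeries.mk q) ⟨j, u, hqj⟩
      refine ⟨k + 1, g', ?_, hg'⟩
      rw [hg, hk, pow_succ', map_mul, mul_assoc]
    · exact ⟨0, g, by simp, h⟩

lemma exists_normal' (ϖ : R) (hϖ : Irreducible ϖ) (g : PowerSeries R) (hg : g ≠ 0) :
    ∃ (k : ℕ) (g' : PowerSeries R), g = C (ϖ ^ k) * g' ∧
        PowerSeries.map (residue R) g' ≠ 0 := by
  have : ∃ j, coeff j g ≠ 0 := by
    by_contra h
    push Not at h
    exact hg (PowerSeries.ext (by simpa using h))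
  obtain ⟨j, hj⟩ := this
  obtain ⟨m, u, hu⟩ := IsDiscreteValuationRing.eq_unit_mul_pow_irreducible hj hϖ
  exact exists_normal ϖ hϖ m g ⟨j, u, hu⟩

end Groth.Agent.Helper26.PSNorm
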