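import Mathlib
import Groth.Agent.Lib.Helper26.PSNorm

set_option autoImplicit false
universe u

namespace Groth.Agent.Helper26.PSNorm

open PowerSeries IsLocalRing Polynomial

theorem main
    (R : Type u) [CommRing R] [IsDomain R] [IsDiscreteValuationRing R]
    (K : Type u) [Field K] [Algebra R K] [IsFractionRing R K]
    (f : R[X]) (h0 : f.coeff 0 ≠ 0) (hslope : ∃ i : ℕ, 0 < i ∧ ¬ (f.coeff 0 ∣ f.coeff i))
    (b : PowerSeries K)
    (hb : b * ((f.map (algebraMap R K) : K[X]) : PowerSeries K) = PowerSeries.C (algebraMap R K (f.coeff 0))) :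
    ∀ c : R, c ≠ 0 → ∃ j : ℕ, algebraMap R K c * PowerSeries.coeff j b ∉ (algebraMap R K).range := by
  intro c hc
  by_contra hcon
  push Not at hcon
  choose G hG using hcon
  obtain ⟨ϖ, hϖ⟩ := IsDiscreteValuationRing.exists_irreducible R
  have hmapG : PowerSeries.map (algebraMap R K) (PowerSeries.mk G) =
      PowerSeries.C (algebraMap R K c) * b := by
    ext j
    rw [PowerSeries.coeff_map, PowerSeries.coeff_mk, hG, PowerSeries.coeff_C_mul]
  have hGF : PowerSeries.mk G * (f : PowerSeries R) = PowerSeries.C (c * f.coeff 0) := by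
    apply PowerSeries.map_injective (algebraMap R K) (IsFractionRing.injective R K)
    rw [map_mul, hmapG, ← Polynomial.polynomial_map_coe, mul_assoc, hb, PowerSeries.map_C,
      map_mul, map_mul]
  have hGne : PowerSeries.mk G ≠ 0 := by
    intro h
    rw [h, zero_mul] at hGF
    have h1 := congrArg (PowerSeries.coeff 0) hGF
    simp only [map_zero, PowerSeries.coeff_zero_C] at h1
    exact mul_ne_zero hc h0 h1.symm
  have hFne : (f : PowerSeries R) ≠ 0 := by
    intro h
    rw [h, mul_zero] at hGF
    have h1 := congrArg (PowerSeries.coeff 0) hGF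
    simp only [map_zero, PowerSeries.coeff_zero_C] at h1
    exact mul_ne_zero hc h0 h1.symm
  obtain ⟨k, G', hG', hG'ne⟩ := exists_normal' ϖ hϖ _ hGne
  obtain ⟨e, F', hF', hF'ne⟩ := exists_normal' ϖ hϖ _ hFne
  -- G' * F' is a constant
  have hprod : PowerSeries.C (ϖ ^ (k + e)) * (G' * F') = PowerSeries.C (c * f.coeff 0) := by
    rw [← hGF, hG', hF', pow_add, map_mul]
    ring
  have hconst : G' * F' = PowerSeries.C (PowerSeries.coeff 0 (G' * F')) := by
    ext i
    rcases Nat.eq_zero_or_pos i with rfl | hi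
    · simp
    · have h1 := congrArg (PowerSeries.coeff i) hprod
      rw [PowerSeries.coeff_C_mul, PowerSeries.coeff_C, if_neg hi.ne'] at h1
      rw [PowerSeries.coeff_C, if_neg hi.ne']
      exact (mul_eq_zero.1 h1).resolve_left (pow_ne_zero _ hϖ.ne_zero)
  -- constant coefficient of F' is a non-unit
  have hF0 : ¬ IsUnit (PowerSeries.coeff 0 F') := by
    intro hu
    obtain ⟨i, hi, hdiv⟩ := hslope
    apply hdiv
    have e0 : f.coeff 0 = ϖ ^ e * PowerSeries.coeff 0 F' := by
      have := congrArg (PowerSeries.coeff 0) hF'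
      rwa [Polynomial.coeff_coe, PowerSeries.coeff_C_mul] at this
    have ei : f.coeff i = ϖ ^ e * PowerSeries.coeff i F' := by
      have := congrArg (PowerSeries.coeff i) hF'
      rwa [Polynomial.coeff_coe, PowerSeries.coeff_C_mul] at this
    obtain ⟨v, hv⟩ := hu
    refine ⟨↑v⁻¹ * PowerSeries.coeff i F', ?_⟩
    rw [e0, ei, ← hv]
    rw [mul_assoc, ← mul_assoc (v : R), Units.mul_inv, one_mul]
  have hres : residue R (PowerSeries.coeff 0 (G' * F')) = 0 := by
    rw [PowerSeries.coeff_zero_eq_constantCoeff_apply, map_mul, map_mul,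
      ← PowerSeries.coeff_zero_eq_constantCoeff_apply F']
    have : residue R (PowerSeries.coeff 0 F') = 0 := by
      rw [residue_eq_zero_iff]
      exact (IsLocalRing.mem_maximalIdeal _).2 hF0
    rw [this, mul_zero]
  have hzero : PowerSeries.map (residue R) G' * PowerSeries.map (residue R) F' = 0 := by
    rw [← map_mul, hconst, PowerSeries.map_C, hres, map_zero]
  rcases mul_eq_zero.1 hzero with h | h
  · exact hG'ne h
  · exact hF'ne h

end Groth.Agent.Helper26.PSNorm
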