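import Mathlib
import Groth.Agent.Lib.Helper26.HiggsSS

/-!
# Twisted pairs: kernels and cokernels, and the maximal destabilising invariant subbundle
-/

set_option autoImplicit false
set_option maxHeartbeats 800000
set_option linter.style.haveILetI false
set_option linter.unusedSectionVars false
set_option linter.unusedVariables false
universe u
open CategoryTheory CategoryTheory.Limits AlgebraicGeometry Opposite TopologicalSpace TensorProduct
open Groth.Agent.Helper13.QCoh Groth.Agent.Helper13.FinType Groth.Agent.Helper13.LocFree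
open Groth.Agent.Helper13.Tensor Groth.Agent.Helper13.TwistSES
open Groth.Agent.Helper20.RankFn Groth.Agent.Helper20.VBMap Groth.Agent.Helper26.DegTensor
open Groth.Agent.Helper26.HiggsSS

namespace Groth.Agent.Helper26.PairHom

section Pair

variable {X : Scheme.{u}} (L : X.Modules)

/-- `f` intertwines the twisted endomorphisms `χA`, `χB`. -/
def IsPairHom {A B : X.Modules} (χA : A ⟶ CohB1.tensorMod A L) (χB : B ⟶ CohB1.tensorMod B L)
    (f : A ⟶ B) : Prop :=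
  χA ≫ Groth.Agent.Helper13.Tensor.map f (𝟙 L) = f ≫ χB

variable {L}

theorem IsPairHom.comp {A B C : X.Modules} {χA : A ⟶ CohB1.tensorMod A L}
    {χB : B ⟶ CohB1.tensorMod B L} {χC : C ⟶ CohB1.tensorMod C L} {f : A ⟶ B} {g : B ⟶ C}
    (hf : IsPairHom L χA χB f) (hg : IsPairHom L χB χC g) : IsPairHom L χA χC (f ≫ g) := by
  unfold IsPairHom at *
  have h := Groth.Agent.Helper13.Tensor.map_comp f g (𝟙 L) (𝟙 L)
  rw [Category.comp_id] at h
  rw [h, ← Category.assoc, hf, Category.assoc, hg, Category.assoc]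

theorem isPairHom_id {A : X.Modules} (χA : A ⟶ CohB1.tensorMod A L) : IsPairHom L χA χA (𝟙 A) := by
  unfold IsPairHom
  rw [Groth.Agent.Helper13.Tensor.map_id, Category.comp_id, Category.id_comp]

/-- the cokernel of a morphism of pairs is a pair. -/
theorem exists_coker {A B : X.Modules} (χA : A ⟶ CohB1.tensorMod A L)
    (χB : B ⟶ CohB1.tensorMod B L) (f : A ⟶ B) (hf : IsPairHom L χA χB f) :
    ∃ χC : cokernel f ⟶ CohB1.tensorMod (cokernel f) L, IsPairHom L χB χC (cokernel.π f) := by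
  have h0 : f ≫ χB ≫ Groth.Agent.Helper13.Tensor.map (cokernel.π f) (𝟙 L) = 0 := by
    unfold IsPairHom at hf
    rw [← Category.assoc, ← hf, Category.assoc]
    have h := Groth.Agent.Helper13.Tensor.map_comp f (cokernel.π f) (𝟙 L) (𝟙 L)
    rw [Category.comp_id, cokernel.condition, map_zero_left] at h
    rw [← h, comp_zero]
  refine ⟨cokernel.desc f (χB ≫ Groth.Agent.Helper13.Tensor.map (cokernel.π f) (𝟙 L)) h0, ?_⟩
  unfold IsPairHom
  rw [cokernel.π_desc]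

/-- the kernel of a morphism of pairs is a pair. -/
theorem exists_ker (hL : PicF.IsInvertible L) {A B : X.Modules} (χA : A ⟶ CohB1.tensorMod A L)
    (χB : B ⟶ CohB1.tensorMod B L) (f : A ⟶ B) (hf : IsPairHom L χA χB f) :
    ∃ χK : kernel f ⟶ CohB1.tensorMod (kernel f) L, IsPairHom L χK χA (kernel.ι f) := by
  let S : ShortComplex X.Modules :=
    ShortComplex.mk (kernel.ι f) (Abelian.coimage.π f) (cokernel.condition _)
  have hS : S.ShortExact :=
    ShortComplex.ShortExact.mk' (ShortComplex.exact_cokernel (kernel.ι f))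
      (inferInstanceAs (Mono (kernel.ι f))) (inferInstanceAs (Epi (cokernel.π (kernel.ι f))))
  have hT := tensorSC_shortExact S hS L hL
  haveI := hT.mono_f
  haveI : Mono (Groth.Agent.Helper13.Tensor.map (Abelian.factorThruCoimage f) (𝟙 L)) :=
    mono_map_id _ L hL
  have hfac : Groth.Agent.Helper13.Tensor.map (Abelian.coimage.π f) (𝟙 L) ≫
      Groth.Agent.Helper13.Tensor.map (Abelian.factorThruCoimage f) (𝟙 L) =
      Groth.Agent.Helper13.Tensor.map f (𝟙 L) := by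
    rw [← Groth.Agent.Helper13.Tensor.map_comp, Abelian.coimage.fac, Category.comp_id]
  have h0 : (kernel.ι f ≫ χA) ≫ Groth.Agent.Helper13.Tensor.map (Abelian.coimage.π f) (𝟙 L) = 0 := by
    rw [← cancel_mono (Groth.Agent.Helper13.Tensor.map (Abelian.factorThruCoimage f) (𝟙 L)),
      zero_comp, Category.assoc, Category.assoc, hfac]
    unfold IsPairHom at hf
    rw [hf, kernel.condition_assoc, zero_comp]
  exact ⟨hT.exact.lift (kernel.ι f ≫ χA) h0, hT.exact.lift_f _ _⟩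

end Pair

section HN

variable (k : Type u) [Field k] (X : Scheme.{u}) [X.Over (Spec (CommRingCat.of k))]
  [IsProper (X ↘ Spec (CommRingCat.of k))]

/-- the first Harder–Narasimhan step inside a class of subbundles. -/
theorem mainP (hdim : topologicalKrullDim X = 1)
    (r : ℕ) (hr : 0 < r) (E : X.Modules) (hE : FlatMod.IsFinLocFreeOfRank r E)
    (Q : ∀ (G : X.Modules), ℕ → (G ⟶ E) → Prop)
    (hQ : ∃ (G : X.Modules) (r' : ℕ) (j : G ⟶ E), Mono j ∧ 0 < r' ∧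
      FlatMod.IsFinLocFreeOfRank r' G ∧ Q G r' j) :
    ∃ (E₁ : X.Modules) (r₁ : ℕ) (i₁ : E₁ ⟶ E), Mono i₁ ∧ 0 < r₁ ∧ FlatMod.IsFinLocFreeOfRank r₁ E₁ ∧
      Q E₁ r₁ i₁ ∧
      (∀ (G : X.Modules) (r' : ℕ) (j : G ⟶ E), Mono j → 0 < r' → FlatMod.IsFinLocFreeOfRank r' G →
        Q G r' j → Curv2.deg k X G r' * (r₁ : ℤ) ≤ Curv2.deg k X E₁ r₁ * (r' : ℤ)) ∧
      (∀ (G : X.Modules) (r' : ℕ) (j : G ⟶ E), Mono j → 0 < r' → FlatMod.IsFinLocFreeOfRank r' G →
        Q G r' j →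
        Curv2.deg k X G r' * (r₁ : ℤ) = Curv2.deg k X E₁ r₁ * (r' : ℤ) → r' ≤ r₁) := by
  haveI : Nonempty X := Groth.Agent.Helper26.CurveDeg.nonempty_of_dim hdim
  obtain ⟨N, hN⟩ := Groth.Agent.Helper26.CurveDeg.main k X (le_of_eq hdim) r E hE
  let σ : ℤ → ℕ → ℤ := fun d r' => d * ((r.factorial / r' : ℕ) : ℤ) * ((r : ℤ) + 1) + (r' : ℤ)
  let P : ℤ → Prop := fun z => ∃ (G : X.Modules) (r' : ℕ) (j : G ⟶ E), Mono j ∧ 0 < r' ∧
    FlatMod.IsFinLocFreeOfRank r' G ∧ Q G r' j ∧ z = σ (Curv2.deg k X G r') r'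
  have hrank : ∀ (G : X.Modules) (r' : ℕ) (j : G ⟶ E), Mono j →
      FlatMod.IsFinLocFreeOfRank r' G → r' ≤ r := by
    intro G r' j hj hG
    haveI := hj
    exact Groth.Agent.Helper26.CurveDeg.rank_le_of_mono G E r' r hG hE j
  have hbdd : ∃ b, ∀ z, P z → z ≤ b := by
    refine ⟨|N| * (r.factorial : ℤ) * ((r : ℤ) + 1) + (r : ℤ), ?_⟩
    rintro z ⟨G, r', j, hj, hr', hG, -, rfl⟩
    have h1 : Curv2.deg k X G r' ≤ |N| := (hN G r' j hj hG).trans (le_abs_self N)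
    have h2 : r' ≤ r := hrank G r' j hj hG
    have h3 : r.factorial / r' ≤ r.factorial := Nat.div_le_self _ _
    have h3' : ((r.factorial / r' : ℕ) : ℤ) ≤ (r.factorial : ℤ) := by exact_mod_cast h3
    have h4 : (0 : ℤ) ≤ ((r.factorial / r' : ℕ) : ℤ) := by positivity
    have h5 : Curv2.deg k X G r' * ((r.factorial / r' : ℕ) : ℤ) ≤ |N| * (r.factorial : ℤ) :=
      (mul_le_mul_of_nonneg_right h1 h4).trans (mul_le_mul_of_nonneg_left h3' (abs_nonneg N))
    have h6 : (0 : ℤ) ≤ (r : ℤ) + 1 := by positivity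
    have h7 := mul_le_mul_of_nonneg_right h5 h6
    have h8 : (r' : ℤ) ≤ (r : ℤ) := by exact_mod_cast h2
    show Curv2.deg k X G r' * ((r.factorial / r' : ℕ) : ℤ) * ((r : ℤ) + 1) + (r' : ℤ) ≤ _
    linarith
  have hinh : ∃ z, P z := by
    obtain ⟨G, r', j, hj, hr', hG, hQG⟩ := hQ
    exact ⟨_, G, r', j, hj, hr', hG, hQG, rfl⟩
  obtain ⟨ub, ⟨E₁, r₁, i₁, hi₁, hr₁, hE₁, hQ₁, hub⟩, hmax⟩ :=
    Int.exists_greatest_of_bdd hbdd hinh
  have hr₁r : r₁ ≤ r := hrank E₁ r₁ i₁ hi₁ hE₁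
  have key : ∀ (G : X.Modules) (r' : ℕ) (j : G ⟶ E), Mono j → 0 < r' →
      FlatMod.IsFinLocFreeOfRank r' G → Q G r' j →
      Curv2.deg k X G r' * ((r.factorial / r' : ℕ) : ℤ) ≤
        Curv2.deg k X E₁ r₁ * ((r.factorial / r₁ : ℕ) : ℤ) ∧
      (Curv2.deg k X G r' * ((r.factorial / r' : ℕ) : ℤ) =
        Curv2.deg k X E₁ r₁ * ((r.factorial / r₁ : ℕ) : ℤ) → r' ≤ r₁) := by
    intro G r' j hj hr' hG hQG
    have h1 : σ (Curv2.deg k X G r') r' ≤ ub := hmax _ ⟨G, r', j, hj, hr', hG, hQG, rfl⟩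
    rw [hub] at h1
    have h1' : Curv2.deg k X G r' * ((r.factorial / r' : ℕ) : ℤ) * ((r : ℤ) + 1) + (r' : ℤ) ≤
        Curv2.deg k X E₁ r₁ * ((r.factorial / r₁ : ℕ) : ℤ) * ((r : ℤ) + 1) + (r₁ : ℤ) := h1
    have h2 : (r' : ℤ) ≤ (r : ℤ) := by exact_mod_cast hrank G r' j hj hG
    have h3 : (r₁ : ℤ) ≤ (r : ℤ) := by exact_mod_cast hr₁r
    have h4 : (0 : ℤ) < (r' : ℤ) := by exact_mod_cast hr'
    have h5 : (0 : ℤ) < (r₁ : ℤ) := by exact_mod_cast hr₁
    constructor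
    · by_contra hlt
      rw [not_le] at hlt
      have h6 : Curv2.deg k X E₁ r₁ * ((r.factorial / r₁ : ℕ) : ℤ) + 1 ≤
          Curv2.deg k X G r' * ((r.factorial / r' : ℕ) : ℤ) := hlt
      have h7 : (0 : ℤ) ≤ (r : ℤ) + 1 := by positivity
      have h8 := mul_le_mul_of_nonneg_right h6 h7
      nlinarith
    · intro heq
      rw [heq] at h1'
      have : (r' : ℤ) ≤ (r₁ : ℤ) := by linarith
      exact_mod_cast this
  refine ⟨E₁, r₁, i₁, hi₁, hr₁, hE₁, hQ₁, ?_, ?_⟩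
  · intro G r' j hj hr' hG hQG
    exact Groth.Agent.Helper26.HNFirst.cross_le r r' r₁ hr' hr₁ (hrank G r' j hj hG) hr₁r _ _
      (key G r' j hj hr' hG hQG).1
  · intro G r' j hj hr' hG hQG heq
    apply (key G r' j hj hr' hG hQG).2
    apply le_antisymm (key G r' j hj hr' hG hQG).1
    exact Groth.Agent.Helper26.HNFirst.cross_le' r r₁ r' hr₁ hr' hr₁r (hrank G r' j hj hG) _ _
      (le_of_eq heq.symm)

end HN

section Main

variable (k : Type u) [Field k] {X : Scheme.{u}} [X.Over (Spec (CommRingCat.of k))] [IsIntegral X]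
  [IsProper (X ↘ Spec (CommRingCat.of k))] [Smooth (X ↘ Spec (CommRingCat.of k))]

/-- **the maximal destabilising invariant subbundle of a pair is invariant under every endomorphism
of the pair.** -/
theorem invariant_of_max_pair (hdim : topologicalKrullDim X = 1) (L : X.Modules)
    (hL : PicF.IsInvertible L) (r : ℕ) (E : X.Modules)
    (hE : FlatMod.IsFinLocFreeOfRank r E) (φ : E ⟶ CohB1.tensorMod E L) (ψ : E ⟶ E)
    (hψ : IsPairHom L φ φ ψ)
    (G : X.Modules) (n : ℕ) (hn : 0 < n) (j : G ⟶ E) [Mono j]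
    (hG : FlatMod.IsFinLocFreeOfRank n G) (χ : G ⟶ CohB1.tensorMod G L)
    (hχ : IsPairHom L χ φ j)
    (hmax : ∀ (G' : X.Modules) (r' : ℕ) (j' : G' ⟶ E), Mono j' → 0 < r' →
      FlatMod.IsFinLocFreeOfRank r' G' →
      (∃ χ' : G' ⟶ CohB1.tensorMod G' L, IsPairHom L χ' φ j') →
      Curv2.deg k X G' r' * (n : ℤ) ≤ Curv2.deg k X G n * (r' : ℤ))
    (hmaxrk : ∀ (G' : X.Modules) (r' : ℕ) (j' : G' ⟶ E), Mono j' → 0 < r' →
      FlatMod.IsFinLocFreeOfRank r' G' →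
      (∃ χ' : G' ⟶ CohB1.tensorMod G' L, IsPairHom L χ' φ j') →
      Curv2.deg k X G' r' * (n : ℤ) = Curv2.deg k X G n * (r' : ℤ) → r' ≤ n) :
    ∃ ψ' : G ⟶ G, ψ' ≫ j = j ≫ ψ := by
  classical
  haveI hN : IsLocallyNoetherian X := isLocallyNoetherian_of_proper k
  have hreg : ∀ x : X, IsRegularLocalRing (X.presheaf.stalk x) := hreg_of_smooth k
  have hGl := Groth.Agent.Helper20.VBIndec.isFinLocFree_of_rank n G hG
  have hEl := Groth.Agent.Helper20.VBIndec.isFinLocFree_of_rank r E hE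
  have hGc : Coh.IsCoh G := Groth.Agent.Helper9.ResVan.isCoh_of_isFinLocFree G hGl
  have hEc : Coh.IsCoh E := Groth.Agent.Helper9.ResVan.isCoh_of_isFinLocFree E hEl
  have hQc : Coh.IsCoh (cokernel j) := (Groth.Agent.S9514.result X hGc hEc j).2
  let S : ShortComplex X.Modules := ShortComplex.mk j (cokernel.π j) (cokernel.condition j)
  have hS : S.ShortExact :=
    ShortComplex.ShortExact.mk' (ShortComplex.exact_cokernel j)
      (inferInstanceAs (Mono j)) (inferInstanceAs (Epi (cokernel.π j)))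
  -- the pair structure on the quotient
  obtain ⟨φQ, hφQ⟩ := exists_coker χ φ j hχ
  -- the obstruction to invariance
  obtain ⟨ρ, hρdef⟩ : ∃ ρ : G ⟶ cokernel j, ρ = j ≫ ψ ≫ cokernel.π j := ⟨_, rfl⟩
  have hρ : IsPairHom L χ φQ ρ := by
    rw [hρdef]
    exact hχ.comp (hψ.comp hφQ)
  suffices hρ0 : ρ = 0 by
    haveI : Mono S.f := inferInstanceAs (Mono j)
    refine ⟨hS.exact.lift (j ≫ ψ) ?_, hS.exact.lift_f _ _⟩
    rw [hρdef] at hρ0
    exact (Category.assoc _ _ _).trans hρ0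
  have hK'c : Coh.IsCoh (kernel ρ) := (Groth.Agent.S9514.result X hGc hQc ρ).1
  have hCc : Coh.IsCoh (cokernel ρ) := (Groth.Agent.S9514.result X hGc hQc ρ).2
  obtain ⟨χK, hχK⟩ := exists_ker hL χ φQ ρ hρ
  obtain ⟨χC, hχC⟩ := exists_coker χ φQ ρ hρ
  obtain ⟨p, hpdef⟩ : ∃ p : E ⟶ cokernel ρ, p = cokernel.π j ≫ cokernel.π ρ := ⟨_, rfl⟩
  haveI : Epi p := by rw [hpdef]; exact epi_comp _ _
  have hp : IsPairHom L φ χC p := by
    rw [hpdef]
    exact hφQ.comp hχC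
  obtain ⟨χI, hχI⟩ := exists_ker hL φ χC p hp
  have hG'c : Coh.IsCoh (kernel p) := (Groth.Agent.S9514.result X hEc hCc p).1
  have hK'l : FlatMod.IsFinLocFree (kernel ρ) :=
    isFinLocFree_of_mono hreg hdim.le hK'c hGl (kernel.ι ρ)
  have hG'l : FlatMod.IsFinLocFree (kernel p) :=
    isFinLocFree_of_mono hreg hdim.le hG'c hEl (kernel.ι p)
  obtain ⟨k', hk'⟩ : ∃ k' : ℕ, k' = rk (kernel ρ) (genericPoint X) := ⟨_, rfl⟩
  obtain ⟨g', hg'⟩ : ∃ g' : ℕ, g' = rk (kernel p) (genericPoint X) := ⟨_, rfl⟩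
  have hK'r : FlatMod.IsFinLocFreeOfRank k' (kernel ρ) := by
    rw [hk']; exact isFinLocFreeOfRank_of_preconnected _ hK'l _
  have hG'r : FlatMod.IsFinLocFreeOfRank g' (kernel p) := by
    rw [hg']; exact isFinLocFreeOfRank_of_preconnected _ hG'l _
  have key : ∀ f : X.Modules → ℤ, IsAdditive X f →
      (∀ {A B : X.Modules}, (A ≅ B) → f A = f B) →
      f (kernel p) = f G + f G - f (kernel ρ) := by
    intro f hf hiso
    have h1 := additive_ker_epi f hf hEc hCc p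
    have h2 := additive_four f hf hiso hGc hQc ρ
    have h3 := hf S hS hGc hEc hQc
    change f E = f G + f (cokernel j) at h3
    linarith
  have keyχ := key (Curv2.euler k X) (euler_additive k X) (fun e => euler_of_iso k X e)
  have keyrk := key (fun F => (rk F (genericPoint X) : ℤ)) (rk_additive (genericPoint X))
    (fun e => congrArg (Nat.cast) (rk_of_iso e _))
  try simp only at keyrk
  rw [← hg', ← hk', rk_eq_of_isFinLocFreeOfRank _ _ hG] at keyrk
  have hk'le : k' ≤ n :=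
    Groth.Agent.Helper26.CurveDeg.rank_le_of_mono (kernel ρ) G k' n hK'r hG (kernel.ι ρ)
  have hg'eq : (g' : ℤ) = 2 * (n : ℤ) - (k' : ℤ) := by
    linarith
  have hn0 : (0 : ℤ) < (n : ℤ) := by exact_mod_cast hn
  have hk'le' : (k' : ℤ) ≤ (n : ℤ) := by exact_mod_cast hk'le
  have hg'pos : 0 < g' := by
    have : (0 : ℤ) < (g' : ℤ) := by rw [hg'eq]; linarith
    exact_mod_cast this
  -- both are invariant subbundles of `E`
  have hm1 := hmax _ g' (kernel.ι p) inferInstance hg'pos hG'r ⟨χI, hχI⟩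
  have hKbound : Curv2.deg k X (kernel ρ) k' * (n : ℤ) ≤ Curv2.deg k X G n * (k' : ℤ) := by
    rcases Nat.eq_zero_or_pos k' with h0 | hpos
    · have hz : IsZero (kernel ρ) := isZero_of_rk_eq_zero _ hK'l (fun y => by
        rw [rk_eq_of_isFinLocFreeOfRank _ _ hK'r y]; exact h0)
      have he0 := euler_eq_zero_of_isZero k (kernel ρ) hz hK'c
      unfold Curv2.deg
      rw [he0, h0]
      simp
    · exact hmax _ k' (kernel.ι ρ ≫ j) (mono_comp _ _) hpos hK'r ⟨χK, hχK.comp hχ⟩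
  have hdegG' : Curv2.deg k X (kernel p) g' =
      2 * Curv2.deg k X G n - Curv2.deg k X (kernel ρ) k' := by
    unfold Curv2.deg
    rw [hg'eq]
    linarith
  rw [hdegG'] at hm1
  rw [hg'eq] at hm1
  have heq1 : Curv2.deg k X (kernel ρ) k' * (n : ℤ) = Curv2.deg k X G n * (k' : ℤ) := by
    linarith
  have heq2 : Curv2.deg k X (kernel p) g' * (n : ℤ) = Curv2.deg k X G n * (g' : ℤ) := by
    rw [hdegG', hg'eq]
    linarith
  have hrk := hmaxrk _ g' (kernel.ι p) inferInstance hg'pos hG'r ⟨χI, hχI⟩ heq2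
  have hk'n : k' = n := by
    have h1 : (g' : ℤ) ≤ (n : ℤ) := by exact_mod_cast hrk
    have h2 : (n : ℤ) ≤ (k' : ℤ) := by linarith
    have h3 : n ≤ k' := by exact_mod_cast h2
    omega
  subst hk'n
  have hdeq : Curv2.deg k X (kernel ρ) k' = Curv2.deg k X G k' :=
    mul_right_cancel₀ (ne_of_gt hn0) heq1
  have heul : Curv2.euler k X (kernel ρ) = Curv2.euler k X G := by
    unfold Curv2.deg at hdeq
    linarith
  haveI : IsIso (kernel.ι ρ) :=
    isIso_of_mono_of_rank_euler k hdim k' hK'r hG (kernel.ι ρ) heul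
  have hcond := kernel.condition ρ
  rw [← cancel_epi (kernel.ι ρ), hcond, comp_zero]

/-- **a triple `(E, φ, ψ)` with `ψ` an endomorphism of the pair `(E, φ)` is semistable iff the
pair is.** -/
theorem main16005 (hdim : topologicalKrullDim X = 1) (L : X.Modules)
    (hL : PicF.IsInvertible L) (r : ℕ) (hr : 0 < r) (E : X.Modules)
    (hE : FlatMod.IsFinLocFreeOfRank r E) (φ : E ⟶ CohB1.tensorMod E L) (ψ : E ⟶ E)
    (hcomm : ψ ≫ φ = φ ≫ Groth.Agent.Helper13.Tensor.map ψ (𝟙 L)) :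
    (∀ (G : X.Modules) (n : ℕ) (j : G ⟶ E) (χ : G ⟶ CohB1.tensorMod G L) (ψ' : G ⟶ G), Mono j →
      0 < n → FlatMod.IsFinLocFreeOfRank n G →
      χ ≫ Groth.Agent.Helper13.Tensor.map j (𝟙 L) = j ≫ φ → ψ' ≫ j = j ≫ ψ →
      Curv2.deg k X G n * (r : ℤ) ≤ Curv2.deg k X E r * (n : ℤ)) ↔
    (∀ (G : X.Modules) (n : ℕ) (j : G ⟶ E) (χ : G ⟶ CohB1.tensorMod G L), Mono j → 0 < n →
      FlatMod.IsFinLocFreeOfRank n G →
      χ ≫ Groth.Agent.Helper13.Tensor.map j (𝟙 L) = j ≫ φ →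
      Curv2.deg k X G n * (r : ℤ) ≤ Curv2.deg k X E r * (n : ℤ)) := by
  constructor
  · intro hT G n j χ hj hn hG hχ
    obtain ⟨E₁, r₁, i₁, hi₁, hr₁, hE₁, ⟨χ₁, hχ₁⟩, hmax, hmaxrk⟩ :=
      mainP k X hdim r hr E hE
        (fun G' _ j' => ∃ χ' : G' ⟶ CohB1.tensorMod G' L, IsPairHom L χ' φ j')
        ⟨E, r, 𝟙 E, inferInstance, hr, hE, φ, isPairHom_id φ⟩
    haveI := hi₁
    obtain ⟨ψ', hψ'⟩ := invariant_of_max_pair k hdim L hL r E hE φ ψ hcomm.symm E₁ r₁ hr₁ i₁ hE₁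
      χ₁ hχ₁ hmax hmaxrk
    have h1 := hT E₁ r₁ i₁ χ₁ ψ' hi₁ hr₁ hE₁ hχ₁ hψ'
    have h2 := hmax G n j hj hn hG ⟨χ, hχ⟩
    have hr₁' : (0 : ℤ) < (r₁ : ℤ) := by exact_mod_cast hr₁
    have hn' : (0 : ℤ) ≤ (n : ℤ) := by positivity
    have hr' : (0 : ℤ) ≤ (r : ℤ) := by positivity
    have h3 : Curv2.deg k X G n * (r : ℤ) * (r₁ : ℤ) ≤
        Curv2.deg k X E r * (n : ℤ) * (r₁ : ℤ) := by
      have h2' := mul_le_mul_of_nonneg_right h2 hr'
      have h1' := mul_le_mul_of_nonneg_right h1 hn'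
      linarith
    exact le_of_mul_le_mul_right h3 hr₁'
  · intro hP G n j χ ψ' hj hn hG hχ _
    exact hP G n j χ hj hn hG hχ

end Main

end Groth.Agent.Helper26.PairHom
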