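import Mathlib

set_option autoImplicit false

namespace Groth.Agent.Helper26.PermReg

universe u

open RingTheory.Sequence

variable {S : Type u}

theorem setOf_mem_take_ofFn {r : ℕ} (g : Fin r → S) (k : ℕ) :
    {s | s ∈ (List.ofFn g).take k} = g '' {j : Fin r | j.val < k} := by
  ext s
  simp only [Set.mem_ofPred_eq, Set.mem_image]
  rw [List.mem_take_iff_getElem]
  constructor
  · rintro ⟨i, hi, rfl⟩
    rw [List.length_ofFn] at hi
    refine ⟨⟨i, (lt_min_iff.1 hi).2⟩, (lt_min_iff.1 hi).1, ?_⟩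
    rw [List.getElem_ofFn]
  · rintro ⟨j, hj, rfl⟩
    refine ⟨j.val, ?_, ?_⟩
    · rw [List.length_ofFn]
      exact lt_min_iff.2 ⟨hj, j.2⟩
    · rw [List.getElem_ofFn]

theorem setOf_mem_ofFn {r : ℕ} (g : Fin r → S) :
    {s | s ∈ List.ofFn g} = Set.range g := by
  ext s
  simp [List.mem_ofFn]

variable [CommRing S]

theorem isRegular_ofFn_iff {r : ℕ} (g : Fin r → S) :
    IsRegular S (List.ofFn g) ↔
      (∀ k : Fin r, ∀ x : S, g k * x ∈ Ideal.span (g '' {j | j < k}) →
        x ∈ Ideal.span (g '' {j | j < k})) ∧ Ideal.span (Set.range g) ≠ ⊤ := by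
  rw [isRegular_iff, isWeaklyRegular_iff_Fin]
  have h2 : ((⊤ : Submodule S S) ≠ Ideal.ofList (List.ofFn g) • ⊤) ↔
      Ideal.span (Set.range g) ≠ ⊤ := by
    rw [Ideal.ofList, setOf_mem_ofFn, smul_eq_mul, Ideal.mul_top, ne_comm]
  rw [h2]
  refine and_congr ?_ Iff.rfl
  constructor
  · intro h k x hx
    have hk : k.val < (List.ofFn g).length := by rw [List.length_ofFn]; exact k.2
    have := h ⟨k.val, hk⟩
    rw [isSMulRegular_quotient_iff_mem_of_smul_mem] at this
    have h3 : (Ideal.ofList (List.take k.val (List.ofFn g)) • ⊤ : Submodule S S) =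
        Ideal.span (g '' {j | j < k}) := by
      rw [Ideal.ofList, setOf_mem_take_ofFn, smul_eq_mul, Ideal.mul_top]
      rfl
    simp only [h3] at this
    have h4 : (List.ofFn g)[(⟨k.val, hk⟩ : Fin (List.ofFn g).length)] = g k := by
      simp
    rw [h4] at this
    exact this x hx
  · intro h i
    have hi : i.val < r := lt_of_lt_of_eq i.2 (List.length_ofFn (f := g))
    rw [isSMulRegular_quotient_iff_mem_of_smul_mem]
    have h3 : (Ideal.ofList (List.take i.val (List.ofFn g)) • ⊤ : Submodule S S) =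
        Ideal.span (g '' {j | j < (⟨i.val, hi⟩ : Fin r)}) := by
      rw [Ideal.ofList, setOf_mem_take_ofFn, smul_eq_mul, Ideal.mul_top]
      rfl
    have h4 : (List.ofFn g)[i] = g ⟨i.val, hi⟩ := by
      simp
    rw [h3, h4]
    exact h ⟨i.val, hi⟩

end Groth.Agent.Helper26.PermReg
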