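import Mathlib
import Groth.Agent.Lib.Helper26.PermReg1

set_option autoImplicit false

namespace Groth.Agent.Helper26.PermReg

universe u

open RingTheory.Sequence

variable {R : Type u} [CommRing R]

/-- `a` is a nonzerodivisor modulo `I`. -/
def NZD (I : Ideal R) (a : R) : Prop := ∀ x, a * x ∈ I → x ∈ I

theorem NZD.swap {I : Ideal R} {a b : R} (h1 : NZD I a) (h2 : NZD (I ⊔ Ideal.span {a}) b) :
    NZD (I ⊔ Ideal.span {b}) a := by
  intro x hx
  obtain ⟨u, hu, w, hw, huw⟩ := Submodule.mem_sup.1 hx
  obtain ⟨y, rfl⟩ := Ideal.mem_span_singleton'.1 hw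
  -- a x = u + y b
  have hy : y ∈ I ⊔ Ideal.span {a} := by
    apply h2
    have : b * y = -u + x * a := by linear_combination huw
    rw [this]
    exact Submodule.add_mem_sup (I.neg_mem hu) (Ideal.mem_span_singleton'.2 ⟨x, rfl⟩)
  obtain ⟨v, hv, w', hw', hvw⟩ := Submodule.mem_sup.1 hy
  obtain ⟨z, rfl⟩ := Ideal.mem_span_singleton'.1 hw'
  have h4 : x - b * z ∈ I := by
    apply h1
    have : a * (x - b * z) = u + b * v := by rw [← hvw] at huw; linear_combination -huw
    rw [this]
    exact I.add_mem hu (I.mul_mem_left _ hv)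
  have : x = (x - b * z) + z * b := by ring
  rw [this]
  exact Submodule.add_mem_sup h4 (Ideal.mem_span_singleton'.2 ⟨z, rfl⟩)

variable {r : ℕ} (f : Fin r → R)

/-- the ideal generated by the `f j`, `j ∈ E`. -/
def II (E : Finset (Fin r)) : Ideal R := Ideal.span (f '' (E : Set (Fin r)))

theorem II_mono {E E' : Finset (Fin r)} (h : E ⊆ E') : II f E ≤ II f E' :=
  Ideal.span_mono (Set.image_mono (by exact_mod_cast h))

theorem II_insert (E : Finset (Fin r)) (m : Fin r) :
    II f (insert m E) = II f E ⊔ Ideal.span {f m} := by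
  unfold II
  rw [Finset.coe_insert, Set.image_insert_eq, Ideal.span_insert, sup_comm]

/-- ordered condition -/
def CondOrd : Prop := ∀ (E : Finset (Fin r)) (i : Fin r), (∀ j ∈ E, j < i) → NZD (II f E) (f i)

/-- unordered condition -/
def CondAll : Prop := ∀ (E : Finset (Fin r)) (i : Fin r), i ∉ E → NZD (II f E) (f i)

theorem condAll_of_condOrd (h : CondOrd f) : CondAll f := by
  have key : ∀ n : ℕ, ∀ (E : Finset (Fin r)) (i : Fin r), i ∉ E →
      (E.filter (fun j => i < j)).card = n → NZD (II f E) (f i) := by
    intro n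
    induction n with
    | zero =>
      intro E i hi hn
      apply h
      intro j hj
      rw [Finset.card_eq_zero, Finset.filter_eq_empty_iff] at hn
      have h1 := hn hj
      have h2 : j ≠ i := fun h => hi (h ▸ hj)
      exact lt_of_le_of_ne (not_lt.1 h1) h2
    | succ n ih =>
      intro E i hi hn
      have hne : (E.filter (fun j => i < j)).Nonempty := by
        rw [← Finset.card_pos, hn]; exact Nat.succ_pos n
      obtain ⟨j₀, hj₀⟩ := hne
      rw [Finset.mem_filter] at hj₀
      have hE : E.Nonempty := ⟨j₀, hj₀.1⟩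
      set m := E.max' hE with hm
      have hmE : m ∈ E := Finset.max'_mem E hE
      have him : i < m := lt_of_lt_of_le hj₀.2 (Finset.le_max' E j₀ hj₀.1)
      set E' := E.erase m with hE'
      have hEE' : E = insert m E' := (Finset.insert_erase hmE).symm
      have hiE' : i ∉ E' := fun h => hi (Finset.mem_of_mem_erase h)
      have hlt : ∀ j ∈ E', j < m := by
        intro j hj
        have h1 := Finset.mem_erase.1 hj
        exact lt_of_le_of_ne (Finset.le_max' E j h1.2) h1.1
      have hcard : (E'.filter (fun j => i < j)).card = n := by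
        have h1 : E.filter (fun j => i < j) = insert m (E'.filter (fun j => i < j)) := by
          rw [hEE', Finset.filter_insert, if_pos him]
        have h2 : m ∉ E'.filter (fun j => i < j) := by
          intro h
          exact (Finset.mem_erase.1 (Finset.mem_filter.1 h).1).1 rfl
        rw [h1, Finset.card_insert_of_notMem h2] at hn
        exact Nat.succ_injective hn
      have a1 : NZD (II f E') (f i) := ih E' i hiE' hcard
      have a3 : NZD (II f (insert i E')) (f m) := by
        apply h
        intro j hj
        rcases Finset.mem_insert.1 hj with rfl | hj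
        · exact him
        · exact hlt j hj
      rw [II_insert] at a3
      rw [hEE', II_insert]
      exact NZD.swap a1 a3
  intro E i hi
  exact key _ E i hi rfl

theorem condOrd_of_condAll (h : CondAll f) : CondOrd f := by
  intro E i hE
  apply h
  intro hi
  exact lt_irrefl _ (hE i hi)

theorem exists_perm (E : Finset (Fin r)) (i : Fin r) (hi : i ∉ E) :
    ∃ (σ : Equiv.Perm (Fin r)) (k : Fin r), σ '' {j | j < k} = (E : Set (Fin r)) ∧ σ k = i := by
  classical
  have hc : E.card < r := by
    have h1 : (insert i E).card ≤ Fintype.card (Fin r) := Finset.card_le_univ _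
    rw [Finset.card_insert_of_notMem hi, Fintype.card_fin] at h1
    exact h1
  let k : Fin r := ⟨E.card, hc⟩
  have hcard : Fintype.card {j : Fin r // j < k} = Fintype.card {x : Fin r // x ∈ E} := by
    rw [Fintype.card_coe, Fintype.card_subtype]
    have : (Finset.univ.filter (fun j : Fin r => j < k)) = Finset.Iio k := by
      ext j; simp
    rw [this, Fin.card_Iio]
  let e₁ : {j : Fin r // j < k} ≃ {x : Fin r // x ∈ E} := Fintype.equivOfCardEq hcard
  let σ₁ : Equiv.Perm (Fin r) := e₁.extendSubtype
  have hmem : ∀ j, j < k → σ₁ j ∈ E := fun j hj => Equiv.extendSubtype_mem e₁ j hj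
  have hnmem : ∀ j, ¬ j < k → σ₁ j ∉ E := fun j hj => Equiv.extendSubtype_not_mem e₁ j hj
  have hi' : σ₁ k ∉ E := hnmem k (lt_irrefl k)
  refine ⟨σ₁.trans (Equiv.swap (σ₁ k) i), k, ?_, ?_⟩
  · ext x
    simp only [Set.mem_image, Set.mem_ofPred_eq, Equiv.trans_apply, Finset.mem_coe]
    constructor
    · rintro ⟨j, hj, rfl⟩
      have h1 := hmem j hj
      rw [Equiv.swap_apply_of_ne_of_ne]
      · exact h1
      · intro h; exact hi' (h ▸ h1)
      · intro h; exact hi (h ▸ h1)
    · intro hx
      refine ⟨σ₁.symm x, ?_, ?_⟩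
      · by_contra hlt
        have := hnmem _ hlt
        rw [Equiv.apply_symm_apply] at this
        exact this hx
      · rw [Equiv.apply_symm_apply, Equiv.swap_apply_of_ne_of_ne]
        · intro h; exact hi' (h ▸ hx)
        · intro h; exact hi (h ▸ hx)
  · rw [Equiv.trans_apply, Equiv.swap_apply_left]

theorem all_perm_iff (hf : Ideal.span (Set.range f) ≠ ⊤) :
    (∀ σ : Equiv.Perm (Fin r), IsRegular R (List.ofFn (f ∘ σ))) ↔ CondAll f := by
  classical
  constructor
  · intro h E i hi
    obtain ⟨σ, k, hσ, hk⟩ := exists_perm E i hi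
    have h1 := ((isRegular_ofFn_iff (f ∘ σ)).1 (h σ)).1 k
    have h2 : (f ∘ σ) '' {j | j < k} = f '' (E : Set (Fin r)) := by
      rw [Set.image_comp, hσ]
    rw [h2] at h1
    intro x hx
    apply h1
    rw [Function.comp_apply, hk]
    exact hx
  · intro h σ
    rw [isRegular_ofFn_iff]
    constructor
    · intro k x hx
      have h2 : (f ∘ σ) '' {j | j < k} =
          f '' ((Finset.image σ (Finset.univ.filter (fun j => j < k)) : Finset (Fin r)) :
            Set (Fin r)) := by
        rw [Set.image_comp]
        congr 1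
        ext x
        simp
      rw [h2] at hx ⊢
      refine h _ (σ k) ?_ x hx
      intro hmem
      obtain ⟨j, hj, hjk⟩ := Finset.mem_image.1 hmem
      rw [Finset.mem_filter] at hj
      have := σ.injective hjk
      rw [this] at hj
      exact lt_irrefl _ hj.2
    · rw [Function.Surjective.range_comp σ.surjective]
      exact hf

end Groth.Agent.Helper26.PermReg
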