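import Mathlib
import Groth.Agent.Lib.Helper26.PermReg2

set_option autoImplicit false

namespace Groth.Agent.Helper26.PermReg

universe u

open RingTheory.Sequence

variable {R : Type u} [CommRing R] {r : ℕ} (f : Fin r → R)

/-- the elements `f_i x_i`. -/
noncomputable def gg (i : Fin r) : MvPolynomial (Fin r) R :=
  MvPolynomial.C (f i) * MvPolynomial.X i

/-- the indices `< k` in the support of `e`. -/
def EE (k : ℕ) (e : Fin r →₀ ℕ) : Finset (Fin r) := e.support.filter (fun j => j.val < k)

theorem EE_mono (k : ℕ) {d e : Fin r →₀ ℕ} (h : d ≤ e) : EE k d ⊆ EE k e := by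
  intro j hj
  rw [EE, Finset.mem_filter] at hj ⊢
  refine ⟨?_, hj.2⟩
  rw [Finsupp.mem_support_iff] at hj ⊢
  have := h j
  omega

/-- the ideal generated by the first `k` of the `f_i x_i`. -/
noncomputable def JJ (k : ℕ) : Ideal (MvPolynomial (Fin r) R) :=
  Ideal.span (gg f '' {j | j.val < k})

theorem monomial_mem_JJ (k : ℕ) (e : Fin r →₀ ℕ) (c : R) (hc : c ∈ II f (EE k e)) :
    MvPolynomial.monomial e c ∈ JJ f k := by
  unfold II at hc
  induction hc using Submodule.span_induction with
  | mem c hc =>
    obtain ⟨j, hj, rfl⟩ := hc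
    rw [Finset.mem_coe, EE, Finset.mem_filter, Finsupp.mem_support_iff] at hj
    have h1 : MvPolynomial.monomial e (f j) =
        gg f j * MvPolynomial.monomial (e - Finsupp.single j 1) 1 := by
      unfold gg
      rw [MvPolynomial.X, mul_assoc, MvPolynomial.monomial_mul, MvPolynomial.C_mul_monomial,
        mul_one, mul_one]
      congr 1
      rw [add_tsub_cancel_of_le]
      rw [Finsupp.single_le_iff]
      exact Nat.one_le_iff_ne_zero.2 hj.1
    rw [h1]
    exact Ideal.mul_mem_right _ _ (Ideal.subset_span ⟨j, hj.2, rfl⟩)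
  | zero => rw [map_zero]; exact Ideal.zero_mem _
  | add a b _ _ ha hb => rw [map_add]; exact Ideal.add_mem _ ha hb
  | smul a c _ hc =>
    rw [smul_eq_mul, ← MvPolynomial.C_mul_monomial]
    exact Ideal.mul_mem_left _ _ hc

theorem mem_JJ_iff (k : ℕ) (p : MvPolynomial (Fin r) R) :
    p ∈ JJ f k ↔ ∀ e, MvPolynomial.coeff e p ∈ II f (EE k e) := by
  classical
  constructor
  · intro hp
    unfold JJ at hp
    induction hp using Submodule.span_induction with
    | mem p hp =>
      obtain ⟨j, hj, rfl⟩ := hp
      intro e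
      unfold gg
      rw [MvPolynomial.coeff_C_mul, MvPolynomial.coeff_X]
      split_ifs with h
      · rw [mul_one]
        apply Ideal.subset_span
        refine ⟨j, ?_, rfl⟩
        rw [Finset.mem_coe, EE, Finset.mem_filter, ← h, Finsupp.mem_support_iff,
          Finsupp.single_eq_same]
        exact ⟨one_ne_zero, hj⟩
      · rw [mul_zero]; exact Ideal.zero_mem _
    | zero => intro e; rw [MvPolynomial.coeff_zero]; exact Ideal.zero_mem _
    | add a b _ _ ha hb => intro e; rw [MvPolynomial.coeff_add]; exact Ideal.add_mem _ (ha e) (hb e)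
    | smul q p _ hp =>
      intro e
      rw [smul_eq_mul, MvPolynomial.coeff_mul]
      refine Ideal.sum_mem _ fun x hx => ?_
      refine Ideal.mul_mem_left _ _ (II_mono f (EE_mono k ?_) (hp x.2))
      have hx' := Finset.HasAntidiagonal.mem_antidiagonal.1 hx
      rw [← hx']
      exact le_add_self
  · intro h
    rw [← MvPolynomial.support_sum_monomial_coeff p]
    exact Ideal.sum_mem _ fun e _ => monomial_mem_JJ f k e _ (h e)

/-- the indicator exponent of a finite set. -/
noncomputable def ind (E : Finset (Fin r)) : Fin r →₀ ℕ :=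
  Finsupp.equivFunOnFinite.symm (fun j => if j ∈ E then 1 else 0)

theorem ind_apply (E : Finset (Fin r)) (j : Fin r) : ind E j = if j ∈ E then 1 else 0 := rfl

theorem nzd_iff (k : Fin r) :
    NZD (JJ f k.val) (gg f k) ↔
      ∀ E : Finset (Fin r), (∀ j ∈ E, j < k) → NZD (II f E) (f k) := by
  classical
  constructor
  · intro h E hE x hx
    have hEE : EE k.val (Finsupp.single k 1 + ind E) = E := by
      ext j
      rw [EE, Finset.mem_filter, Finsupp.mem_support_iff, Finsupp.add_apply, ind_apply]
      constructor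
      · rintro ⟨h1, h2⟩
        have : j ≠ k := fun h => by rw [h] at h2; exact lt_irrefl _ h2
        rw [Finsupp.single_eq_of_ne this, zero_add] at h1
        by_contra hj
        rw [if_neg hj] at h1
        exact h1 rfl
      · intro hj
        refine ⟨?_, hE j hj⟩
        rw [if_pos hj]
        omega
    have hEE' : EE k.val (ind E) = E := by
      ext j
      rw [EE, Finset.mem_filter, Finsupp.mem_support_iff, ind_apply]
      constructor
      · rintro ⟨h1, _⟩
        by_contra hj
        rw [if_neg hj] at h1
        exact h1 rfl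
      · intro hj
        refine ⟨?_, hE j hj⟩
        rw [if_pos hj]
        exact one_ne_zero
    have h1 : gg f k * MvPolynomial.monomial (ind E) x =
        MvPolynomial.monomial (Finsupp.single k 1 + ind E) (f k * x) := by
      unfold gg
      rw [MvPolynomial.X, mul_assoc, MvPolynomial.monomial_mul, MvPolynomial.C_mul_monomial,
        one_mul]
    have h2 : gg f k * MvPolynomial.monomial (ind E) x ∈ JJ f k.val := by
      rw [h1]
      apply monomial_mem_JJ
      rw [hEE]
      exact hx
    have h3 := (mem_JJ_iff f k.val _).1 (h _ h2) (ind E)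
    rw [MvPolynomial.coeff_monomial, if_pos rfl, hEE'] at h3
    exact h3
  · intro h p hp
    rw [mem_JJ_iff] at hp ⊢
    intro e
    have h1 := hp (Finsupp.single k 1 + e)
    unfold gg at h1
    rw [mul_assoc, MvPolynomial.coeff_C_mul, MvPolynomial.coeff_X_mul] at h1
    have hEE : EE k.val (Finsupp.single k 1 + e) = EE k.val e := by
      ext j
      rw [EE, EE, Finset.mem_filter, Finset.mem_filter, Finsupp.mem_support_iff,
        Finsupp.mem_support_iff, Finsupp.add_apply]
      constructor
      · rintro ⟨h1, h2⟩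
        have : j ≠ k := fun h => by rw [h] at h2; exact lt_irrefl _ h2
        rw [Finsupp.single_eq_of_ne this, zero_add] at h1
        exact ⟨h1, h2⟩
      · rintro ⟨h1, h2⟩
        have : j ≠ k := fun h => by rw [h] at h2; exact lt_irrefl _ h2
        rw [Finsupp.single_eq_of_ne this, zero_add]
        exact ⟨h1, h2⟩
    rw [hEE] at h1
    refine h (EE k.val e) ?_ _ h1
    intro j hj
    rw [EE, Finset.mem_filter] at hj
    exact hj.2

theorem span_range_gg_ne_top (hf : Ideal.span (Set.range f) ≠ ⊤) :
    Ideal.span (Set.range (gg f)) ≠ ⊤ := by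
  intro h
  have h1 : Set.range (gg f) = gg f '' {j | j.val < r} := by
    ext x
    simp
  rw [h1] at h
  have h2 : (1 : MvPolynomial (Fin r) R) ∈ JJ f r := by
    unfold JJ
    rw [h]
    trivial
  have h3 := (mem_JJ_iff f r _).1 h2 0
  have h4 : EE r (0 : Fin r →₀ ℕ) = ∅ := by
    rw [EE, Finsupp.support_zero, Finset.filter_empty]
  rw [h4, II, Finset.coe_empty, Set.image_empty, Ideal.span_empty, MvPolynomial.coeff_zero_one,
    Ideal.mem_bot] at h3
  apply hf
  rw [Ideal.eq_top_iff_one, h3]
  exact Ideal.zero_mem _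

theorem isRegular_gg_iff (hf : Ideal.span (Set.range f) ≠ ⊤) :
    IsRegular (MvPolynomial (Fin r) R) (List.ofFn (gg f)) ↔ CondOrd f := by
  rw [isRegular_ofFn_iff]
  constructor
  · rintro ⟨h, _⟩ E i hE
    exact (nzd_iff f i).1 (h i) E hE
  · intro h
    refine ⟨fun k => ?_, span_range_gg_ne_top f hf⟩
    exact (nzd_iff f k).2 (fun E hE => h E k hE)

theorem main (hf : Ideal.span (Set.range f) ≠ ⊤) :
    (∀ σ : Equiv.Perm (Fin r), IsRegular R (List.ofFn (f ∘ σ))) ↔
      IsRegular (MvPolynomial (Fin r) R)
        (List.ofFn fun i => MvPolynomial.C (f i) * MvPolynomial.X i) := by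
  rw [all_perm_iff f hf]
  change _ ↔ IsRegular (MvPolynomial (Fin r) R) (List.ofFn (gg f))
  rw [isRegular_gg_iff f hf]
  exact ⟨condOrd_of_condAll f, condAll_of_condOrd f⟩

end Groth.Agent.Helper26.PermReg
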