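import Mathlib

namespace Groth.Agent.Lib.Helper26.Pfaff1

open Matrix

/-- explicit equivalence isolating two distinct indices. -/
def sumEquiv {n : Type*} [DecidableEq n] (i j : n) (hne : i ≠ j) :
    Fin 2 ⊕ {l : n // l ≠ i ∧ l ≠ j} ≃ n where
  toFun := Sum.elim ![i, j] Subtype.val
  invFun l := if hi : l = i then Sum.inl 0 else
    if hj : l = j then Sum.inl 1 else Sum.inr ⟨l, hi, hj⟩
  left_inv := by
    rintro (a | ⟨l, hl1, hl2⟩)
    · fin_cases a
      · simp
      · simp [hne.symm]
    · simp [hl1, hl2]
  right_inv := by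
    intro l
    by_cases hi : l = i
    · simp [hi]
    · by_cases hj : l = j
      · subst hj
        simp [hne.symm]
      · simp [hi, hj]

theorem det_isSquare_of_skew {K : Type*} [Field K] (h2 : (2 : K) ≠ 0) :
    ∀ (N : ℕ) (n : Type) [Fintype n] [DecidableEq n], Fintype.card n = N →
      ∀ S : Matrix n n K, S.transpose = -S → ∃ d : K, S.det = d ^ 2 := by
  intro N
  induction N using Nat.strong_induction_on with
  | _ N ih =>
    intro n _ _ hcard S hS
    have hskew : ∀ u v, S v u = - S u v := fun u v => by
      have := congrFun (congrFun hS u) v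
      simpa using this
    have hdiag : ∀ i, S i i = 0 := by
      intro i
      have h := hskew i i
      have h' : (2 : K) * S i i = 0 := by
        rw [two_mul]; nth_rewrite 1 [h]; simp
      rcases mul_eq_zero.mp h' with h'' | h''
      · exact absurd h'' h2
      · exact h''
    by_cases h0 : ∀ i j, S i j = 0
    · have : S = 0 := Matrix.ext h0
      subst this
      rcases isEmpty_or_nonempty n with he | hne
      · exact ⟨1, by rw [Matrix.det_isEmpty]; simp⟩
      · exact ⟨0, by rw [Matrix.det_zero]; simp⟩
    · push Not at h0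
      obtain ⟨i, j, hij⟩ := h0
      have hne : i ≠ j := fun h => hij (h ▸ hdiag i)
      set e := sumEquiv i j hne with he
      have hcard' : Fintype.card {l : n // l ≠ i ∧ l ≠ j} < N := by
        have := Fintype.card_congr e
        rw [Fintype.card_sum, Fintype.card_fin, hcard] at this
        omega
      have hdet : (S.submatrix e e).det = S.det := Matrix.det_submatrix_equiv_self e S
      have hS' : (S.submatrix e e).transpose = -(S.submatrix e e) := by
        rw [Matrix.transpose_submatrix, hS, Matrix.submatrix_neg]
        rfl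
      obtain ⟨A, B, C, D, hblocks⟩ : ∃ A B C D, S.submatrix e e = Matrix.fromBlocks A B C D :=
        ⟨_, _, _, _, (Matrix.fromBlocks_toBlocks (S.submatrix e e)).symm⟩
      rw [hblocks, Matrix.fromBlocks_transpose, Matrix.fromBlocks_neg, Matrix.fromBlocks_inj] at hS'
      obtain ⟨hAt, hCt, hBt, hDt⟩ := hS'
      have hA : ∀ x y, A x y = S (e (Sum.inl x)) (e (Sum.inl y)) := by
        intro x y
        have := congrFun (congrFun hblocks (Sum.inl x)) (Sum.inl y)
        rw [Matrix.fromBlocks_apply₁₁] at this
        rw [← this]; rfl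
      have he0 : e (Sum.inl 0) = i := rfl
      have he1 : e (Sum.inl 1) = j := rfl
      have hdetA : A.det = (S i j) ^ 2 := by
        rw [Matrix.det_fin_two, hA, hA, hA, hA, he0, he1, hdiag, hdiag, hskew i j]
        ring
      have : Invertible A := Matrix.invertibleOfIsUnitDet A (by
        rw [hdetA]; exact isUnit_iff_ne_zero.mpr (pow_ne_zero 2 hij))
      have hinvt : (⅟A).transpose = -⅟A := by
        have h1 : (⅟A).transpose * A.transpose = 1 := by
          rw [← Matrix.transpose_mul, mul_invOf_self, Matrix.transpose_one]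
        rw [hAt, mul_neg, ← neg_mul] at h1
        have h3 := invOf_eq_left_inv h1
        calc (⅟A).transpose = -(-(⅟A).transpose) := (neg_neg _).symm
          _ = -⅟A := by rw [← h3]
      have hT : (D - C * ⅟A * B).transpose = -(D - C * ⅟A * B) := by
        rw [Matrix.transpose_sub, Matrix.transpose_mul, Matrix.transpose_mul, hDt, hBt, hCt, hinvt]
        simp only [Matrix.neg_mul, Matrix.mul_neg, neg_neg, Matrix.mul_assoc]
        abel
      obtain ⟨d', hd'⟩ := ih _ hcard' {l : n // l ≠ i ∧ l ≠ j} rfl _ hT
      refine ⟨S i j * d', ?_⟩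
      rw [← hdet, hblocks, Matrix.det_fromBlocks₁₁, hdetA, hd']
      ring

theorem exists_sq_of_sq_fraction {R : Type*} [CommRing R] [IsDomain R] [IsIntegrallyClosed R]
    (f : R) (d : FractionRing R) (h : algebraMap R (FractionRing R) f = d ^ 2) :
    ∃ g : R, f = g ^ 2 := by
  have hint : IsIntegral R d := by
    refine ⟨Polynomial.X ^ 2 - Polynomial.C f, Polynomial.monic_X_pow_sub_C f (by norm_num), ?_⟩
    simp [h]
  obtain ⟨g, hg⟩ := IsIntegrallyClosed.algebraMap_eq_of_integral hint
  refine ⟨g, IsFractionRing.injective R (FractionRing R) ?_⟩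
  rw [h, map_pow, hg]

end Groth.Agent.Lib.Helper26.Pfaff1
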