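import Mathlib
import Groth.Agent.Lib.Helper26.Pfaff1

namespace Groth.Agent.Lib.Helper26.Pfaff2

open Matrix MvPolynomial

section generic
variable (n : Type) [Fintype n] [DecidableEq n]

/-- generic skew matrix -/
noncomputable def G : Matrix n n (MvPolynomial (n × n) ℂ) := fun i j => X (i, j) - X (j, i)

omit [Fintype n] [DecidableEq n] in
theorem G_transpose : (G n).transpose = -G n := by
  ext i j; simp [G]

theorem exists_pf : ∃ pf : MvPolynomial (n × n) ℂ, (G n).det = pf ^ 2 := by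
  have h2 : (2 : FractionRing (MvPolynomial (n × n) ℂ)) ≠ 0 := by
    have hinj : Function.Injective ((algebraMap (MvPolynomial (n × n) ℂ)
        (FractionRing (MvPolynomial (n × n) ℂ))).comp (algebraMap ℂ (MvPolynomial (n × n) ℂ))) :=
      RingHom.injective _
    have : ((algebraMap (MvPolynomial (n × n) ℂ)
        (FractionRing (MvPolynomial (n × n) ℂ))).comp (algebraMap ℂ (MvPolynomial (n × n) ℂ))) 2 ≠ 0 := by
      rw [Ne, map_eq_zero_iff _ hinj]; norm_num
    simpa using this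
  have hskew : ((G n).map (algebraMap (MvPolynomial (n × n) ℂ)
      (FractionRing (MvPolynomial (n × n) ℂ)))).transpose =
      -((G n).map (algebraMap (MvPolynomial (n × n) ℂ)
        (FractionRing (MvPolynomial (n × n) ℂ)))) := by
    rw [← Matrix.transpose_map, G_transpose]; ext i j; simp
  obtain ⟨d, hd⟩ := Pfaff1.det_isSquare_of_skew h2 _ n rfl _ hskew
  have : algebraMap (MvPolynomial (n × n) ℂ) (FractionRing (MvPolynomial (n × n) ℂ)) (G n).det
      = d ^ 2 := by
    rw [← hd, RingHom.map_det]; rfl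
  exact Pfaff1.exists_sq_of_sq_fraction _ d this

noncomputable def pfOf {R : Type*} [CommRing R] (pf : MvPolynomial (n × n) ℂ) (f : ℂ →+* R)
    (S : Matrix n n R) : R :=
  eval₂ f (fun ij => f (1/2) * S ij.1 ij.2) pf

theorem det_eq_pfOf_sq {pf : MvPolynomial (n × n) ℂ} (hpf : (G n).det = pf ^ 2)
    {R : Type*} [CommRing R] (f : ℂ →+* R) (S : Matrix n n R) (hS : S.transpose = -S) :
    S.det = (pfOf n pf f S) ^ 2 := by
  have hmap : (eval₂Hom f (fun ij : n × n => f (1/2) * S ij.1 ij.2)).mapMatrix (G n) = S := by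
    ext i j
    simp only [RingHom.mapMatrix_apply, Matrix.map_apply, G, coe_eval₂Hom, eval₂_sub, eval₂_X]
    have hji : S j i = - S i j := by
      have := congrFun (congrFun hS i) j
      simpa using this
    rw [hji, mul_neg, sub_neg_eq_add, ← add_mul, ← map_add]
    norm_num
  have := RingHom.map_det (eval₂Hom f (fun ij : n × n => f (1/2) * S ij.1 ij.2)) (G n)
  rw [hmap, hpf, map_pow] at this
  exact this.symm

omit [Fintype n] [DecidableEq n] in
theorem map_pfOf {R R' : Type*} [CommRing R] [CommRing R'] (pf : MvPolynomial (n × n) ℂ)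
    (f : ℂ →+* R) (ψ : R →+* R') (S : Matrix n n R) :
    ψ (pfOf n pf f S) = pfOf n pf (ψ.comp f) (S.map ψ) := by
  unfold pfOf
  rw [eval₂_comp_left]
  congr 1
  ext ij
  simp

end generic

section main
variable (m : ℕ)

/-- the standard symplectic form (with the sign convention of the statement) -/
abbrev Jm (R : Type*) [CommRing R] : Matrix (Fin m ⊕ Fin m) (Fin m ⊕ Fin m) R :=
  Matrix.fromBlocks 0 1 (-1) 0

theorem Jm_eq (R : Type*) [CommRing R] : Jm m R = (Matrix.J (Fin m) R).transpose := by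
  rw [Matrix.J_transpose]
  simp [Jm, Matrix.J, Matrix.fromBlocks_neg]

theorem Jm_transpose (R : Type*) [CommRing R] : (Jm m R).transpose = -Jm m R := by
  simp [Jm, Matrix.fromBlocks_transpose, Matrix.fromBlocks_neg]

theorem Jm_det_mul (R : Type*) [CommRing R] : (Jm m R).det * (Jm m R).det = 1 := by
  rw [Jm_eq, Matrix.det_transpose, Matrix.J_det_mul_J_det]

theorem Jm_map {R R' : Type*} [CommRing R] [CommRing R'] (ψ : R →+* R') :
    (Jm m R).map ψ = Jm m R' := by
  have h1 : ((-1 : Matrix (Fin m) (Fin m) R)).map ψ = -1 := by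
    ext i j
    by_cases h : i = j <;> simp [h, Matrix.one_apply]
  have h2 : ((1 : Matrix (Fin m) (Fin m) R)).map ψ = 1 := by
    ext i j
    by_cases h : i = j <;> simp [h, Matrix.one_apply]
  have h3 : ((0 : Matrix (Fin m) (Fin m) R)).map ψ = 0 := by
    ext i j
    simp
  rw [Jm, Matrix.fromBlocks_map, h1, h2, h3]

theorem skew_of_rel {R : Type*} [CommRing R] (A : Matrix (Fin m ⊕ Fin m) (Fin m ⊕ Fin m) R)
    (hA : A.transpose * Jm m R = Jm m R * A) : (Jm m R * A).transpose = -(Jm m R * A) := by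
  rw [Matrix.transpose_mul, Jm_transpose, Matrix.mul_neg, hA]

theorem gen_map_eval (A : Matrix (Fin m ⊕ Fin m) (Fin m ⊕ Fin m) ℂ) :
    (Matrix.of (fun i j => (MvPolynomial.X (i, j) :
        MvPolynomial ((Fin m ⊕ Fin m) × (Fin m ⊕ Fin m)) ℂ))).map
      (MvPolynomial.eval (fun ij : (Fin m ⊕ Fin m) × (Fin m ⊕ Fin m) => (A ij.1 ij.2))) = A := by
  ext i j
  simp only [Matrix.map_apply, Matrix.of_apply, MvPolynomial.eval_X]

theorem gen_map_eval' (A : Matrix (Fin m ⊕ Fin m) (Fin m ⊕ Fin m) ℂ) :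
    (Matrix.scalar (Fin m ⊕ Fin m) (MvPolynomial.C Polynomial.X) -
      Matrix.of (fun i j => (MvPolynomial.X (i, j) :
        MvPolynomial ((Fin m ⊕ Fin m) × (Fin m ⊕ Fin m)) (Polynomial ℂ)))).map
      (MvPolynomial.eval (fun ij : (Fin m ⊕ Fin m) × (Fin m ⊕ Fin m) =>
        Polynomial.C (A ij.1 ij.2))) = A.charmatrix := by
  refine Matrix.ext fun i j => ?_
  by_cases hij : i = j
  · subst hij
    simp only [Matrix.map_apply, Matrix.sub_apply, Matrix.of_apply, map_sub, MvPolynomial.eval_X,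
      Matrix.scalar_apply, Matrix.diagonal_apply_eq, MvPolynomial.eval_C,
      Matrix.charmatrix_apply_eq]
  · simp only [Matrix.map_apply, Matrix.sub_apply, Matrix.of_apply, map_sub, MvPolynomial.eval_X,
      Matrix.scalar_apply, Matrix.diagonal_apply_ne _ hij, map_zero, map_neg,
      Matrix.charmatrix_apply_ne _ _ _ hij, zero_sub]

set_option maxHeartbeats 800000 in
theorem main2 :
    (∃ Q : MvPolynomial ((Fin m ⊕ Fin m) × (Fin m ⊕ Fin m)) ℂ,
      ∀ A : Matrix (Fin m ⊕ Fin m) (Fin m ⊕ Fin m) ℂ,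
        A.transpose * Matrix.fromBlocks 0 1 (-1) 0 = Matrix.fromBlocks 0 1 (-1) 0 * A →
        A.det = (MvPolynomial.eval (fun ij => A ij.1 ij.2) Q) ^ 2) := by
  obtain ⟨pf, hpf⟩ := exists_pf (Fin m ⊕ Fin m)
  obtain ⟨c, hc⟩ : ∃ c : ℂ, c ^ 2 = (Jm m ℂ).det := IsAlgClosed.exists_pow_nat_eq _ (by norm_num)
  refine ⟨MvPolynomial.C c * pfOf (Fin m ⊕ Fin m) pf MvPolynomial.C
        (Jm m (MvPolynomial ((Fin m ⊕ Fin m) × (Fin m ⊕ Fin m)) ℂ) *
            Matrix.of (fun i j => MvPolynomial.X (i, j))), ?_⟩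
  intro A hA
  rw [map_mul, MvPolynomial.eval_C, map_pfOf]
  have h1 : (MvPolynomial.eval (fun ij : (Fin m ⊕ Fin m) × (Fin m ⊕ Fin m) =>
      (A ij.1 ij.2))).comp MvPolynomial.C = RingHom.id ℂ := by
    ext z; simp
  have h2 : (Jm m (MvPolynomial ((Fin m ⊕ Fin m) × (Fin m ⊕ Fin m)) ℂ) *
          Matrix.of (fun i j => MvPolynomial.X (i, j))).map
      (MvPolynomial.eval (fun ij : (Fin m ⊕ Fin m) × (Fin m ⊕ Fin m) =>
        (A ij.1 ij.2))) = Jm m ℂ * A := by
    rw [Matrix.map_mul, Jm_map, gen_map_eval]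
  rw [h1, h2]
  have hdet := det_eq_pfOf_sq (Fin m ⊕ Fin m) hpf (RingHom.id ℂ) _ (skew_of_rel m A hA)
  rw [Matrix.det_mul] at hdet
  have hJ1 := Jm_det_mul m ℂ
  calc A.det = (Jm m ℂ).det * ((Jm m ℂ).det * A.det) := by
        rw [← mul_assoc, hJ1, one_mul]
    _ = _ := by
        rw [hdet, ← hc]
        ring

set_option maxHeartbeats 800000 in
theorem main1 :
    (∃ P : MvPolynomial ((Fin m ⊕ Fin m) × (Fin m ⊕ Fin m)) (Polynomial ℂ),
      ∀ A : Matrix (Fin m ⊕ Fin m) (Fin m ⊕ Fin m) ℂ,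
        A.transpose * Matrix.fromBlocks 0 1 (-1) 0 = Matrix.fromBlocks 0 1 (-1) 0 * A →
        A.charpoly = (MvPolynomial.eval (fun ij => Polynomial.C (A ij.1 ij.2)) P) ^ 2) := by
  obtain ⟨pf, hpf⟩ := exists_pf (Fin m ⊕ Fin m)
  obtain ⟨c, hc⟩ : ∃ c : ℂ, c ^ 2 = (Jm m ℂ).det := IsAlgClosed.exists_pow_nat_eq _ (by norm_num)
  refine ⟨MvPolynomial.C (Polynomial.C c) *
      pfOf (Fin m ⊕ Fin m) pf ((MvPolynomial.C).comp Polynomial.C)
        (Jm m (MvPolynomial ((Fin m ⊕ Fin m) × (Fin m ⊕ Fin m)) (Polynomial ℂ)) *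
          (Matrix.scalar (Fin m ⊕ Fin m) (MvPolynomial.C Polynomial.X) -
            Matrix.of (fun i j => MvPolynomial.X (i, j)))), ?_⟩
  intro A hA
  rw [map_mul, MvPolynomial.eval_C, map_pfOf]
  have h1 : (MvPolynomial.eval (fun ij : (Fin m ⊕ Fin m) × (Fin m ⊕ Fin m) =>
      Polynomial.C (A ij.1 ij.2))).comp ((MvPolynomial.C).comp Polynomial.C) = Polynomial.C := by
    ext z; simp
  have h2 : (Jm m (MvPolynomial ((Fin m ⊕ Fin m) × (Fin m ⊕ Fin m)) (Polynomial ℂ)) *
        (Matrix.scalar (Fin m ⊕ Fin m) (MvPolynomial.C Polynomial.X) -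
          Matrix.of (fun i j => MvPolynomial.X (i, j)))).map
      (MvPolynomial.eval (fun ij : (Fin m ⊕ Fin m) × (Fin m ⊕ Fin m) =>
        Polynomial.C (A ij.1 ij.2))) = Jm m (Polynomial ℂ) * A.charmatrix := by
    rw [Matrix.map_mul, Jm_map, gen_map_eval']
  rw [h1, h2]
  have hrel : (A.transpose).map Polynomial.C * Jm m (Polynomial ℂ) =
      Jm m (Polynomial ℂ) * A.map Polynomial.C := by
    have := congrArg (fun M => M.map (Polynomial.C : ℂ →+* Polynomial ℂ)) hA
    simp only [Matrix.map_mul] at this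
    rw [show (Matrix.fromBlocks 0 1 (-1) 0 : Matrix (Fin m ⊕ Fin m) (Fin m ⊕ Fin m) ℂ) = Jm m ℂ
      from rfl, Jm_map] at this
    exact this
  have hskew : (Jm m (Polynomial ℂ) * A.charmatrix).transpose =
      -(Jm m (Polynomial ℂ) * A.charmatrix) := by
    rw [Matrix.transpose_mul, Jm_transpose, ← Matrix.charmatrix_transpose, Matrix.mul_neg]
    congr 1
    rw [Matrix.charmatrix, Matrix.charmatrix, Matrix.sub_mul, Matrix.mul_sub,
      RingHom.mapMatrix_apply, RingHom.mapMatrix_apply, hrel]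
    congr 1
    exact Matrix.scalar_comm _ (fun r => Commute.all _ _) _
  have hdet := det_eq_pfOf_sq (Fin m ⊕ Fin m) hpf Polynomial.C _ hskew
  rw [Matrix.det_mul] at hdet
  have hJ : (Jm m (Polynomial ℂ)).det = Polynomial.C (c ^ 2) := by
    rw [hc, ← Jm_map m (Polynomial.C : ℂ →+* Polynomial ℂ)]
    exact (RingHom.map_det _ _).symm
  have hJ1 := Jm_det_mul m (Polynomial ℂ)
  calc A.charpoly = (Jm m (Polynomial ℂ)).det * ((Jm m (Polynomial ℂ)).det * A.charpoly) := by
        rw [← mul_assoc, hJ1, one_mul]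
    _ = _ := by
        rw [Matrix.charpoly, hdet, hJ, map_pow]
        ring

end main

end Groth.Agent.Lib.Helper26.Pfaff2
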