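import Mathlib
import Groth.Agent.Lib.Helper26.PnPicMain
import Groth.Agent.Lib.Helper26.HomVan
import Groth.Agent.Lib.Helper26.ExtSum
import Groth.Agent.Lib.Helper26.PnTwist
import Groth.Agent.Lib.Helper29.ExtSplit
import Groth.Agent.S0844

/-!
# Extensions of line bundles on `P^n_k`, `n ≥ 2`, split
-/

set_option autoImplicit false
set_option maxHeartbeats 400000
set_option linter.unusedSectionVars false
set_option linter.unusedVariables false
universe u
open CategoryTheory CategoryTheory.Limits AlgebraicGeometry Opposite TopologicalSpace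
open RefHull Groth.Agent.Helper26.HomVan

namespace Groth.Agent.Helper26.PnPic

theorem isInvertible_of_rank_one {X : Scheme.{u}} (M : X.Modules)
    (h : FlatMod.IsFinLocFreeOfRank 1 M) : PicF.IsInvertible M := fun x => by
  obtain ⟨U, hxU, ⟨e⟩⟩ := h x
  exact ⟨U, hxU, ⟨e ≪≫
    coproductUniqueIso (fun _ : Fin 1 => Coh.structureModule (U : Scheme.{u}))⟩⟩

variable (k : Type u) [Field k] (n : ℕ)

theorem subsingleton_ext_twist (hn : 2 ≤ n) (a b : ℤ) :
    Subsingleton (Abelian.Ext.{u} (Twist.twistProjSpace n k b) (Twist.twistProjSpace n k a) 1) := by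
  have hflf : FlatMod.IsFinLocFree (Twist.twistProjSpace n k b) :=
    Groth.Agent.Helper29.ExtSplit.isFinLocFree_of_isInvertible _
      (Groth.Agent.Helper26.PnTwist.isInvertible_twist n k b)
  obtain ⟨e⟩ := Groth.Agent.Helper29.ExtFLF.nonempty_ext_addEquiv_HH
    (Twist.twistProjSpace n k b) (Twist.twistProjSpace n k a) hflf 1
  obtain ⟨ε⟩ := nonempty_homSh_twist_iso n k b a
  have h1 : Subsingleton (Coh.HH (CohB1.ProjSpace n k) (Twist.twistProjSpace n k (a + -b)) 1) :=
    Groth.Agent.S0844.result k n (a + -b) 1 (by omega) (by omega)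
  have h2 := subsingleton_HH_of_iso k ε 1 h1
  exact e.toEquiv.subsingleton

theorem split_main (hn : 2 ≤ n) (S : ShortComplex (CohB1.ProjSpace n k).Modules)
    (hS : S.ShortExact)
    (h₁ : FlatMod.IsFinLocFreeOfRank 1 S.X₁) (h₃ : FlatMod.IsFinLocFreeOfRank 1 S.X₃) :
    ∃ a b : ℤ, Nonempty (S.X₂ ≅ Twist.twistProjSpace n k a ⊞ Twist.twistProjSpace n k b) := by
  obtain ⟨a, ⟨e₁⟩⟩ := exists_iso_twist n k S.X₁ (isInvertible_of_rank_one _ h₁)
  obtain ⟨b, ⟨e₃⟩⟩ := exists_iso_twist n k S.X₃ (isInvertible_of_rank_one _ h₃)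
  refine ⟨a, b, ?_⟩
  have hsub : Subsingleton (Abelian.Ext.{u} S.X₃ S.X₁ 1) :=
    Groth.Agent.Helper26.ExtSum.subsingleton_of_iso_left e₃ 1
      (Groth.Agent.Helper26.ExtSum.subsingleton_of_iso_right e₁ 1
        (subsingleton_ext_twist k n hn a b))
  obtain ⟨⟨s, hs⟩⟩ := Groth.Agent.Helper29.ExtSplit.isSplitEpi_of_subsingleton_ext S hS hsub
  have := hS.mono_f
  let sp : S.Splitting := ShortComplex.Splitting.ofExactOfSection S hS.exact s hs inferInstance
  exact ⟨sp.isoBinaryBiproduct ≪≫ biprod.mapIso e₁ e₃⟩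

end Groth.Agent.Helper26.PnPic
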