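import Mathlib
import Groth.Agent.Lib.Helper26.HomVan
import Groth.Agent.Lib.Helper26.PnEuler

/-!
# `O(d) ≅ O(d')` on `P^n_k`, `n ≥ 1`, forces `d = d'`
-/

set_option autoImplicit false
set_option maxHeartbeats 400000
set_option linter.unusedSectionVars false
set_option linter.unusedVariables false
universe u
open CategoryTheory CategoryTheory.Limits AlgebraicGeometry Opposite TopologicalSpace
open RefHull Groth.Agent.Lead.HomSh Groth.Agent.Helper26.HomPre Groth.Agent.Helper26.DualFun
open Groth.Agent.Helper26.HomVan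

namespace Groth.Agent.Helper26.PnPic

/-- `𝓗om(-, G)` sends isomorphisms to isomorphisms. -/
noncomputable def preIso' {X : Scheme.{u}} {F F' : X.Modules} (G : X.Modules) (e : F ≅ F') :
    homSh F' G ≅ homSh F G where
  hom := pre G e.hom
  inv := pre G e.inv
  hom_inv_id := by rw [← pre_comp, e.inv_hom_id, pre_id]
  inv_hom_id := by rw [← pre_comp, e.hom_inv_id, pre_id]

variable (k : Type u) [Field k] (n : ℕ)

theorem finrank_h0_neg (hn : 1 ≤ n) (m : ℤ) (hm : m < 0) :
    Module.finrank k (Coh.HH (CohB1.ProjSpace n k) (Twist.twistProjSpace n k m) 0) = 0 :=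
  Groth.Agent.Helper26.PnCoh.finrank_H_zero k n m 0 (by omega) (by omega)

theorem finrank_h0_zero :
    Module.finrank k (Coh.HH (CohB1.ProjSpace n k) (Twist.twistProjSpace n k 0) 0) = 1 := by
  have h := Groth.Agent.Helper26.PnCoh.finrank_H0 k n 0
  rw [Nat.cast_zero, zero_add, Nat.choose_self] at h
  exact h

theorem finrank_h0_hom' (a b : ℤ) :
    Module.finrank k (Coh.HH (CohB1.ProjSpace n k)
      (homSh (Twist.twistProjSpace n k a) (Twist.twistProjSpace n k b)) 0) =
    Module.finrank k (Coh.HH (CohB1.ProjSpace n k) (Twist.twistProjSpace n k (b + -a)) 0) := by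
  obtain ⟨e⟩ := nonempty_homSh_twist_iso n k a b
  exact finrank_HH_of_iso k e 0

theorem eq_of_twist_iso (hn : 1 ≤ n) (d d' : ℤ)
    (e : Twist.twistProjSpace n k d ≅ Twist.twistProjSpace n k d') : d = d' := by
  have key : ∀ a : ℤ, Module.finrank k (Coh.HH (CohB1.ProjSpace n k)
      (Twist.twistProjSpace n k (a + -d')) 0) =
      Module.finrank k (Coh.HH (CohB1.ProjSpace n k) (Twist.twistProjSpace n k (a + -d)) 0) := by
    intro a
    rw [← finrank_h0_hom', ← finrank_h0_hom']
    exact finrank_HH_of_iso k (preIso' (Twist.twistProjSpace n k a) e) 0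
  have h1 : d' ≤ d := by
    by_contra hlt
    have h := key d
    rw [add_neg_cancel, finrank_h0_zero, finrank_h0_neg k n hn _ (by omega)] at h
    exact absurd h (by norm_num)
  have h2 : d ≤ d' := by
    by_contra hlt
    have h := key d'
    rw [add_neg_cancel, finrank_h0_zero, finrank_h0_neg k n hn _ (by omega)] at h
    exact absurd h (by norm_num)
  omega

end Groth.Agent.Helper26.PnPic
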