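import Mathlib
import Groth.Prelude.Def_W4c5normfunctorschNorm

set_option autoImplicit false
universe u

namespace Groth.Agent.Helper26.PolNorm

open scoped TensorProduct

theorem law_ext_of_rings {R : Type u} [CommRing R] {M N : Type u} [AddCommGroup M] [Module R M]
    [AddCommGroup N] [Module R N] (F G : M →ₚₗ[R] N)
    (h : ∀ (S : Type u) [CommRing S] [Algebra R S] (x : S ⊗[R] M), F.toFun' S x = G.toFun' S x) :
    F = G := by
  apply PolynomialLaw.ext
  funext S _ _ x
  let e : R ⊗[R] S ≃ₐ[R] S := Algebra.TensorProduct.lid R S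
  have hx : x = e.toAlgHom.toLinearMap.rTensor M (e.symm.toAlgHom.toLinearMap.rTensor M x) := by
    rw [← LinearMap.comp_apply, ← LinearMap.rTensor_comp]
    have : e.toAlgHom.toLinearMap ∘ₗ e.symm.toAlgHom.toLinearMap = LinearMap.id := by
      ext s; simp
    rw [this, LinearMap.rTensor_id, LinearMap.id_apply]
  rw [hx]
  have h1 := congrFun (F.isCompat' e.toAlgHom) (e.symm.toAlgHom.toLinearMap.rTensor M x)
  have h2 := congrFun (G.isCompat' e.toAlgHom) (e.symm.toAlgHom.toLinearMap.rTensor M x)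
  simp only [Function.comp_apply] at h1 h2
  rw [← h1, ← h2, h (R ⊗[R] S)]

end Groth.Agent.Helper26.PolNorm

namespace Groth.Agent.Helper26.PolNorm

open scoped TensorProduct

section Main

variable {R R' Q Q' : Type u} [CommRing R] [CommRing R'] [Algebra R R']
    [CommRing Q] [Algebra R Q] [CommRing Q'] [Algebra R Q'] [Algebra Q Q'] [Algebra R' Q']
    [IsScalarTower R Q Q'] [IsScalarTower R R' Q'] [Algebra.IsPushout R R' Q Q']

/-- the algebra iso `P ⊗[R] R' ≃ P ⊗[Q] Q'` -/
noncomputable def eps (P : Type u) [CommRing P] [Algebra R P] [Algebra Q P] [IsScalarTower R Q P] :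
    P ⊗[R] R' ≃ₐ[P] P ⊗[Q] Q' :=
  haveI : Algebra.IsPushout R Q R' Q' := Algebra.IsPushout.symm inferInstance
  (Algebra.TensorProduct.cancelBaseChange R Q P P R').symm.trans
    (Algebra.TensorProduct.congr AlgEquiv.refl (Algebra.IsPushout.equiv R Q R' Q'))

theorem eps_tmul (P : Type u) [CommRing P] [Algebra R P] [Algebra Q P] [IsScalarTower R Q P]
    (p : P) (r' : R') :
    eps (R := R) (R' := R') (Q := Q) (Q' := Q') P (p ⊗ₜ[R] r') = p ⊗ₜ[Q] algebraMap R' Q' r' := by
  haveI : Algebra.IsPushout R Q R' Q' := Algebra.IsPushout.symm inferInstance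
  simp [eps, Algebra.IsPushout.equiv_tmul]

theorem bcAlong_tmul {X Y : Type u} [AddCommGroup X] [Module R X] [AddCommGroup Y] [Module R Y]
    [Module Q Y] [IsScalarTower R Q Y] (g : X →ₗ[R] Y)
    (P : Type u) [CommRing P] [Algebra R P] [Algebra Q P] [IsScalarTower R Q P] (p : P) (x : X) :
    PolLaw.bcAlong g P (p ⊗ₜ[R] x) = p ⊗ₜ[Q] g x := by
  simp [PolLaw.bcAlong, LinearMap.liftBaseChange_tmul]

theorem bcAlong_eq_eps (P : Type u) [CommRing P] [Algebra R P] [Algebra Q P] [IsScalarTower R Q P]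
    (z : P ⊗[R] R') :
    PolLaw.bcAlong (IsScalarTower.toAlgHom R R' Q').toLinearMap P z =
      eps (R := R) (R' := R') (Q := Q) (Q' := Q') P z := by
  induction z using TensorProduct.induction_on with
  | zero => simp
  | tmul p r' => rw [bcAlong_tmul, eps_tmul]; rfl
  | add a b ha hb => rw [map_add, map_add, ha, hb]

end Main

end Groth.Agent.Helper26.PolNorm
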