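import Mathlib
import Groth.Prelude.Def_W4c5normfunctorschNorm
import Groth.Agent.Lib.Helper26.PolNorm1

set_option autoImplicit false
universe u

namespace Groth.Agent.Helper26.PolNorm

open scoped TensorProduct

section Main

variable {R R' Q Q' : Type u} [CommRing R] [CommRing R'] [Algebra R R']
    [CommRing Q] [Algebra R Q] [CommRing Q'] [Algebra R Q'] [Algebra Q Q'] [Algebra R' Q']
    [IsScalarTower R Q Q'] [IsScalarTower R R' Q'] [Algebra.IsPushout R R' Q Q']

/-- `S ⊗[R] Q → (Q ⊗[R] S) ⊗[Q] Q`, `s ⊗ q ↦ (q ⊗ s) ⊗ 1` -/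
noncomputable def kap (S : Type u) [CommRing S] [Algebra R S] (y : S ⊗[R] Q) :
    (Q ⊗[R] S) ⊗[Q] Q :=
  (TensorProduct.rid Q (Q ⊗[R] S)).symm (TensorProduct.comm R S Q y)

theorem kap_injective (S : Type u) [CommRing S] [Algebra R S] :
    Function.Injective (kap (R := R) (Q := Q) S) := by
  intro a b h
  unfold kap at h
  exact (TensorProduct.comm R S Q).injective ((TensorProduct.rid Q (Q ⊗[R] S)).symm.injective h)

theorem kap_add (S : Type u) [CommRing S] [Algebra R S] (a b : S ⊗[R] Q) :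
    kap (R := R) (Q := Q) S (a + b) = kap S a + kap S b := by
  unfold kap; rw [map_add, map_add]

theorem kap_zero (S : Type u) [CommRing S] [Algebra R S] :
    kap (R := R) (Q := Q) S 0 = 0 := by
  unfold kap; rw [map_zero, map_zero]

theorem kap_tmul (S : Type u) [CommRing S] [Algebra R S] (s : S) (q : Q) :
    kap (R := R) (Q := Q) S (s ⊗ₜ[R] q) = ((1 : Q) ⊗ₜ[R] s) ⊗ₜ[Q] q := by
  unfold kap
  rw [TensorProduct.comm_tmul, TensorProduct.rid_symm_apply]
  have h1 : (q ⊗ₜ[R] s : Q ⊗[R] S) = q • ((1 : Q) ⊗ₜ[R] s) := by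
    rw [TensorProduct.smul_tmul', smul_eq_mul, mul_one]
  rw [h1, TensorProduct.smul_tmul, smul_eq_mul, mul_one]

theorem claim1 {C C' : Type u} [CommRing C] [Algebra R C] [CommRing C'] [Algebra R C']
    [Algebra Q C'] [IsScalarTower R Q C']
    (θ : C →ₐ[R] C') (π' : C' →ₐ[Q] Q) (S : Type u) [CommRing S] [Algebra R S] (y : S ⊗[R] C) :
    π'.toLinearMap.lTensor (Q ⊗[R] S) (PolLaw.bcAlong θ.toLinearMap (Q ⊗[R] S)
      ((Algebra.TensorProduct.includeRight : S →ₐ[R] Q ⊗[R] S).toLinearMap.rTensor C y)) =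
    kap S (((π'.restrictScalars R).comp θ).toLinearMap.lTensor S y) := by
  induction y using TensorProduct.induction_on with
  | zero => simp [kap_zero]
  | tmul s c =>
    rw [LinearMap.rTensor_tmul, bcAlong_tmul, LinearMap.lTensor_tmul, LinearMap.lTensor_tmul,
      kap_tmul]
    rfl
  | add a b ha hb =>
    simp only [map_add, kap_add, ha, hb]

theorem key [Module.Free R R'] [Module.Finite R R'] [Module.Free Q Q'] [Module.Finite Q Q']
    (d : ℕ) (hd : Module.finrank R R' = d) (hd' : Module.finrank Q Q' = d)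
    {C : Type u} [CommRing C] [Algebra R C] (γ : PolLaw.MulLaw R R' C d)
    (π : C →ₐ[R] R) (hπ : PolLaw.MulLaw.postcomp π γ = PolLaw.normLaw R R' d hd)
    {C' : Type u} [CommRing C'] [Algebra R C'] [Algebra Q C'] [IsScalarTower R Q C']
    (γ' : PolLaw.MulLaw Q Q' C' d)
    (π' : C' →ₐ[Q] Q) (hπ' : PolLaw.MulLaw.postcomp π' γ' = PolLaw.normLaw Q Q' d hd')
    (θ : C →ₐ[R] C')
    (hθ : ∀ (P : Type u) [CommRing P] [Algebra R P] [Algebra Q P] [IsScalarTower R Q P]
      (z : P ⊗[R] R'),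
      γ'.law.toFun' P (PolLaw.bcAlong (IsScalarTower.toAlgHom R R' Q').toLinearMap P z) =
        PolLaw.bcAlong θ.toLinearMap P (γ.law.toFun' P z))
    (S : Type u) [CommRing S] [Algebra R S] (z : S ⊗[R] R') :
    ((π'.restrictScalars R).comp θ).toLinearMap.lTensor S (γ.law.toFun' S z) =
      ((Algebra.ofId R Q).comp π).toLinearMap.lTensor S (γ.law.toFun' S z) := by
  apply kap_injective S
  set y := γ.law.toFun' S z with hy
  let j : S →ₐ[R] Q ⊗[R] S := Algebra.TensorProduct.includeRight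
  set zP : (Q ⊗[R] S) ⊗[R] R' := j.toLinearMap.rTensor R' z with hzP
  -- (a)
  have ha : π.toLinearMap.lTensor S y = (Algebra.norm S z) ⊗ₜ[R] (1 : R) := by
    have := congrArg (fun F : PolLaw.MulLaw R R' R d => F.law.toFun' S z) hπ
    simp only [PolLaw.normLaw_apply] at this
    exact this
  -- (b)
  have hb : γ.law.toFun' (Q ⊗[R] S) zP = j.toLinearMap.rTensor C y := by
    have := congrFun (γ.law.isCompat' j) z
    simp only [Function.comp_apply] at this
    exact this.symm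
  -- (c), (d)
  have hc := hθ (Q ⊗[R] S) zP
  set w : (Q ⊗[R] S) ⊗[Q] Q' :=
    PolLaw.bcAlong (Q := Q) (IsScalarTower.toAlgHom R R' Q').toLinearMap (Q ⊗[R] S) zP with hw
  have hd2 : π'.toLinearMap.lTensor (Q ⊗[R] S) (γ'.law.toFun' (Q ⊗[R] S) w) =
      (Algebra.norm (Q ⊗[R] S) w) ⊗ₜ[Q] (1 : Q) := by
    have := congrArg (fun F : PolLaw.MulLaw Q Q' Q d => F.law.toFun' (Q ⊗[R] S) w) hπ'
    simp only [PolLaw.normLaw_apply] at this
    exact this
  -- (e)
  have he : Algebra.norm (Q ⊗[R] S) w = j (Algebra.norm S z) := by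
    rw [hw, bcAlong_eq_eps, Algebra.norm_eq_of_algEquiv, hzP, PolLaw.rTensor_algHom_apply,
      ← PolLaw.detAct_self, PolLaw.detAct_map, PolLaw.detAct_self]
  rw [← claim1 (Q := Q) θ π' S y, ← hb, ← hc, hd2, he]
  -- RHS
  have hr : ((Algebra.ofId R Q).comp π).toLinearMap.lTensor S y =
      (Algebra.ofId R Q).toLinearMap.lTensor S (π.toLinearMap.lTensor S y) := by
    rw [← LinearMap.comp_apply, ← LinearMap.lTensor_comp]; rfl
  rw [hr, ha, LinearMap.lTensor_tmul, kap_tmul]
  simp [j]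

end Main

end Groth.Agent.Helper26.PolNorm
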