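import Mathlib
import Groth.Agent.Lib.Helper26.SubLine

/-!
# The positive sub line bundle of a rank two bundle of degree zero is unique
-/

set_option autoImplicit false
set_option maxHeartbeats 400000
set_option linter.unusedSectionVars false
set_option linter.unusedVariables false
set_option linter.style.haveILetI false
universe u
open CategoryTheory CategoryTheory.Limits AlgebraicGeometry Opposite TopologicalSpace
open Groth.Agent.Helper26.IntLF Groth.Agent.Helper26.SubLine

namespace Groth.Agent.Helper26.PosSub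

variable (k : Type u) [Field k] (X : Scheme.{u}) [X.Over (Spec (CommRingCat.of k))]
  [IsProper (X ↘ Spec (CommRingCat.of k))] [IsIntegral X]

theorem main (hdim : topologicalKrullDim X = 1)
    (S : ShortComplex X.Modules) (hS : S.ShortExact)
    (hE : FlatMod.IsFinLocFreeOfRank 2 S.X₂) (hE0 : Curv2.deg k X S.X₂ 2 = 0)
    (hL : PicF.IsInvertible S.X₁) (hM : PicF.IsInvertible S.X₃) (hpos : 0 < Curv2.deg k X S.X₁ 1) :
    (∀ (N : X.Modules), PicF.IsInvertible N → ∀ j : N ⟶ S.X₂, j ≠ 0 →
        Curv2.deg k X N 1 ≤ Curv2.deg k X S.X₁ 1) ∧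
    (∀ (N : X.Modules), PicF.IsInvertible N → ∀ (j : N ⟶ S.X₂), Mono j →
        PicF.IsInvertible (cokernel j) → 0 < Curv2.deg k X N 1 → ∃ φ : N ≅ S.X₁, φ.hom ≫ S.f = j) ∧
    (∀ (N N' : X.Modules), PicF.IsInvertible N → PicF.IsInvertible N' →
        Curv2.deg k X N 1 = 0 → Curv2.deg k X N' 1 = 0 →
        ∀ (a : N ⟶ S.X₂) (b : S.X₂ ⟶ N') (w : a ≫ b = 0), ¬ (ShortComplex.mk a b w).ShortExact) := by
  haveI := hS.mono_f
  haveI := hS.epi_g
  haveI : Nonempty X := inferInstance
  have rL := isFinLocFreeOfRank_one_of_isInvertible _ hL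
  have rM := isFinLocFreeOfRank_one_of_isInvertible _ hM
  have hadd := deg_additive k X S hS (Groth.Agent.Helper26.EndFin.isCoh_of_rank _ 1 rL)
    (Groth.Agent.Helper26.EndFin.isCoh_of_rank _ 2 hE)
    (Groth.Agent.Helper26.EndFin.isCoh_of_rank _ 1 rM)
  have hMdeg : Curv2.deg k X S.X₃ 1 < 0 := by linarith
  have hf0 : S.f ≠ 0 := ne_zero_of_mono S.X₁ S.X₂ rL S.f
  refine ⟨?_, ?_, ?_⟩
  · intro N hN j hj
    by_cases hc : j ≫ S.g = 0
    · have hl : hS.exact.lift j hc ≠ 0 := by
        intro h
        apply hj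
        rw [← hS.exact.lift_f j hc, h, zero_comp]
      exact deg_le_of_ne_zero k X hdim N S.X₁ hN hL _ hl
    · have := deg_le_of_ne_zero k X hdim N S.X₃ hN hM _ hc
      linarith
  · intro N hN j hj hq hNpos
    haveI := hj
    rcases main27 k X hdim S hS hL hM N hN j hq with h | h
    · exact h
    · exfalso
      linarith
  · intro N N' hN hN' hN0 hN'0 a b w hT
    haveI := hT.mono_f
    haveI := hT.epi_g
    by_cases hc : S.f ≫ b = 0
    · have hl : hT.exact.lift S.f hc ≠ 0 := by
        intro h
        apply hf0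
        have := hT.exact.lift_f S.f hc
        rw [h, zero_comp] at this
        exact this.symm
      have := deg_le_of_ne_zero k X hdim S.X₁ N hL hN _ hl
      linarith
    · have := deg_le_of_ne_zero k X hdim S.X₁ N' hL hN' _ hc
      linarith

end Groth.Agent.Helper26.PosSub
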