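import Mathlib

universe u

namespace Groth.Agent.Lib.Helper26.ProCons

open PrimeSpectrum Topology

variable {A : Type u} [CommRing A]

/-- The image of `Spec B → Spec A` is an intersection of constructible sets. -/
theorem range_eq_sInter {B : Type u} [CommRing B] (f : A →+* B) :
    ∃ S : Set (Set (PrimeSpectrum A)), (∀ s ∈ S, IsConstructible s) ∧
      Set.range (PrimeSpectrum.comap f) = ⋂₀ S := by
  classical
  refine ⟨{s | IsConstructible s ∧ Set.range (PrimeSpectrum.comap f) ⊆ s}, fun s hs => hs.1, ?_⟩
  apply Set.Subset.antisymm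
  · intro q hq
    rw [Set.mem_sInter]
    intro s hs
    exact hs.2 hq
  · intro q hq
    by_contra hqE
    rw [PrimeSpectrum.mem_range_comap_iff] at hqE
    have hlt : ¬ ((q.asIdeal.map f).comap f ≤ q.asIdeal) := by
      intro hle
      exact hqE (le_antisymm hle Ideal.le_comap_map)
    obtain ⟨g, hg, hgq⟩ := SetLike.not_le_iff_exists.mp hlt
    rw [Ideal.mem_comap, Ideal.map] at hg
    -- f g ∈ span (f '' q)
    obtain ⟨t, htsub, hgt⟩ := Submodule.mem_span_finite_of_mem_span hg
    -- t ⊆ f '' q, finite
    have : ∃ t' : Finset A, (↑t' : Set A) ⊆ q.asIdeal ∧ f g ∈ Ideal.span (f '' (↑t' : Set A)) := by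
      have hch : ∀ b ∈ t, ∃ a : A, a ∈ q.asIdeal ∧ f a = b := by
        intro b hb
        obtain ⟨a, ha, rfl⟩ := htsub hb
        exact ⟨a, ha, rfl⟩
      choose! c hc1 hc2 using hch
      refine ⟨t.image c, ?_, ?_⟩
      · intro a ha
        simp only [Finset.coe_image, Set.mem_image] at ha
        obtain ⟨b, hb, rfl⟩ := ha
        exact hc1 b hb
      · refine Ideal.span_mono ?_ hgt
        intro b hb
        refine ⟨c b, ?_, hc2 b hb⟩
        simp only [Finset.coe_image, Set.mem_image]
        exact ⟨b, hb, rfl⟩
    obtain ⟨t', ht'q, hgt'⟩ := this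
    -- the constructible set
    let s : Set (PrimeSpectrum A) := (zeroLocus (↑t' : Set A) \ zeroLocus {g})ᶜ
    have hs : IsConstructible s := by
      rw [isConstructible_compl]
      refine .sdiff ?_ ?_
      · rw [← isConstructible_compl]
        exact (isRetrocompact_zeroLocus_compl (Finset.finite_toSet t')).isConstructible
          (isClosed_zeroLocus _).isOpen_compl
      · rw [← isConstructible_compl]
        exact (isRetrocompact_zeroLocus_compl (Set.finite_singleton _)).isConstructible
          (isClosed_zeroLocus _).isOpen_compl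
    have hEs : Set.range (PrimeSpectrum.comap f) ⊆ s := by
      rintro _ ⟨P, rfl⟩
      intro hP
      apply hP.2
      rw [mem_zeroLocus, Set.singleton_subset_iff]
      change f g ∈ P.asIdeal
      have : Ideal.span (f '' (↑t' : Set A)) ≤ P.asIdeal := by
        rw [Ideal.span_le]
        rintro _ ⟨a, ha, rfl⟩
        have := hP.1
        rw [mem_zeroLocus] at this
        exact this ha
      exact this hgt'
    have hqs : q ∈ s := (Set.mem_sInter.mp hq) s ⟨hs, hEs⟩
    apply hqs
    refine ⟨?_, ?_⟩
    · rw [mem_zeroLocus]; exact ht'q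
    · rw [mem_zeroLocus, Set.singleton_subset_iff]; exact hgq

/-- An intersection of constructible sets is the image of `Spec B → Spec A` for `B` the product of
the residue fields of its points. -/
theorem sInter_eq_range (S : Set (Set (PrimeSpectrum A))) (hS : ∀ s ∈ S, IsConstructible s) :
    ∃ (B : Type u) (_ : CommRing B) (f : A →+* B),
      Set.range (PrimeSpectrum.comap f) = ⋂₀ S := by
  classical
  set E : Set (PrimeSpectrum A) := ⋂₀ S with hE
  let κ : E → Type u := fun p => p.1.asIdeal.ResidueField
  let B : Type u := ∀ p : E, κ p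
  let f : A →+* B := RingHom.pi (fun p => algebraMap A (κ p))
  have hfp : ∀ (a : A) (p : E), f a p = algebraMap A (κ p) a := fun a p => rfl
  have hf0 : ∀ (a : A) (p : E), f a p = 0 ↔ a ∈ p.1.asIdeal := by
    intro a p
    rw [hfp]
    exact Ideal.algebraMap_residueField_eq_zero
  refine ⟨B, inferInstance, f, ?_⟩
  apply Set.Subset.antisymm
  · rintro _ ⟨Q, rfl⟩
    rw [Set.mem_sInter]
    intro s hs
    by_contra hqs
    have hsc : IsConstructible sᶜ := (hS s hs).compl
    obtain ⟨T, hT⟩ := exists_constructibleSetData_iff.mpr hsc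
    have hq : PrimeSpectrum.comap f Q ∈ T.toSet := by rw [hT]; exact hqs
    simp only [ConstructibleSetData.toSet, Set.mem_iUnion] at hq
    obtain ⟨C, hCT, hqC⟩ := hq
    have hCE : ∀ p : E, p.1 ∉ C.toSet := by
      intro p hp
      have h1 : p.1 ∈ sᶜ := by
        rw [← hT]
        simp only [ConstructibleSetData.toSet, Set.mem_iUnion]
        exact ⟨C, hCT, hp⟩
      exact h1 ((Set.mem_sInter.mp p.2) s hs)
    have hg : ∀ k, f (C.g k) ∈ Q.asIdeal := by
      intro k
      have := hqC.1
      rw [mem_zeroLocus] at this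
      exact this ⟨k, rfl⟩
    have hfQ : f C.f ∉ Q.asIdeal := by
      intro h
      apply hqC.2
      rw [mem_zeroLocus, Set.singleton_subset_iff]
      exact h
    -- pointwise alternative
    have halt : ∀ p : E, C.f ∉ p.1.asIdeal → ∃ k, C.g k ∉ p.1.asIdeal := by
      intro p hfp'
      by_contra hall
      push Not at hall
      apply hCE p
      refine ⟨?_, ?_⟩
      · rw [mem_zeroLocus]
        rintro _ ⟨k, rfl⟩
        exact hall k
      · rw [mem_zeroLocus, Set.singleton_subset_iff]
        exact hfp'
    let b : Fin C.n → B := fun k p =>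
      if h : C.f ∈ p.1.asIdeal then 0
      else if k = Classical.choose (halt p h) then f C.f p * (f (C.g k) p)⁻¹ else 0
    have hsum : f C.f = ∑ k, f (C.g k) * b k := by
      funext p
      rw [Finset.sum_apply]
      change f C.f p = ∑ k, f (C.g k) p * b k p
      by_cases h : C.f ∈ p.1.asIdeal
      · rw [(hf0 _ p).mpr h]
        symm
        apply Finset.sum_eq_zero
        intro k _
        simp only [b, dif_pos h, mul_zero]
      · have hk := Classical.choose_spec (halt p h)
        set k₀ := Classical.choose (halt p h) with hk₀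
        have hne : f (C.g k₀) p ≠ 0 := fun h0 => hk ((hf0 _ p).mp h0)
        rw [Finset.sum_eq_single k₀]
        · simp only [b, dif_neg h]
          rw [if_pos hk₀]
          have : f (C.g k₀) p * (f C.f p * (f (C.g k₀) p)⁻¹) = f C.f p := by
            rw [mul_comm (f C.f p), mul_inv_cancel_left₀ hne]
          exact this.symm
        · intro k _ hkne
          simp only [b, dif_neg h]
          rw [if_neg (by rw [← hk₀]; exact hkne), mul_zero]
        · intro h'; exact absurd (Finset.mem_univ _) h'
    apply hfQ
    rw [hsum]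
    exact Ideal.sum_mem _ (fun k _ => Ideal.mul_mem_right _ _ (hg k))
  · intro p hp
    let P : Ideal B := RingHom.ker (Pi.evalRingHom κ ⟨p, hp⟩)
    have hPprime : P.IsPrime := RingHom.ker_isPrime _
    refine ⟨⟨P, hPprime⟩, ?_⟩
    apply PrimeSpectrum.ext
    ext a
    change f a ∈ P ↔ a ∈ p.asIdeal
    rw [RingHom.mem_ker]
    exact hf0 a ⟨p, hp⟩

theorem main (E : Set (PrimeSpectrum A)) :
    (∃ (B : Type u) (_ : CommRing B) (f : A →+* B), Set.range (PrimeSpectrum.comap f) = E) ↔
      ∃ S : Set (Set (PrimeSpectrum A)), (∀ s ∈ S, IsConstructible s) ∧ E = ⋂₀ S := by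
  constructor
  · rintro ⟨B, _, f, rfl⟩
    exact range_eq_sInter f
  · rintro ⟨S, hS, rfl⟩
    exact sInter_eq_range S hS

end Groth.Agent.Lib.Helper26.ProCons
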