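import Mathlib

namespace Groth.Agent.Helper26.ProdLoc

universe u

theorem forward (B : Type u) [CommRing B] (J : Ideal B) {ι : Type u} (C : ι → Type u)
    [∀ j, CommRing (C j)] (hC : ∀ j, IsLocalRing (C j)) (φ : B ≃+* (∀ j, C j)) :
    Set.SurjOn (Ideal.Quotient.mk J) {e : B | IsIdempotentElem e} {e | IsIdempotentElem e} := by
  classical
  intro eb heb
  obtain ⟨b, rfl⟩ := Ideal.Quotient.mk_surjective eb
  have hb : b * b - b ∈ J := by
    rw [← Ideal.Quotient.eq_zero_iff_mem, map_sub, map_mul, sub_eq_zero]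
    exact heb
  set c := φ b with hc
  have hloc : ∀ j, IsUnit (c j) ∨ IsUnit (1 - c j) :=
    fun j => IsLocalRing.isUnit_or_isUnit_one_sub_self (c j)
  have hex : ∀ j, ∃ (e' w : C j), e' * e' = e' ∧ e' - c j = w * (c j * c j - c j) := by
    intro j
    rcases hloc j with h | h
    · obtain ⟨v, hv⟩ := h.exists_left_inv
      refine ⟨1, -v, by simp, ?_⟩
      linear_combination (c j - 1) * hv
    · obtain ⟨v, hv⟩ := h.exists_left_inv
      refine ⟨0, v, by simp, ?_⟩
      linear_combination (c j) * hv
  choose e' w he' hw using hex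
  refine ⟨φ.symm e', ?_, ?_⟩
  · show IsIdempotentElem (φ.symm e')
    unfold IsIdempotentElem
    rw [← map_mul]
    congr 1
    funext j
    exact he' j
  · rw [← sub_eq_zero, ← map_sub, Ideal.Quotient.eq_zero_iff_mem]
    have : φ.symm e' - b = φ.symm w * (b * b - b) := by
      apply φ.injective
      rw [map_sub, map_mul, map_sub, map_mul, φ.apply_symm_apply, φ.apply_symm_apply]
      funext j
      exact hw j
    rw [this]
    exact Ideal.mul_mem_left _ _ hb

end Groth.Agent.Helper26.ProdLoc
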