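import Mathlib
import Groth.Agent.Lib.Helper26.ProdLoc1

namespace Groth.Agent.Helper26.ProdLoc

universe u

theorem idem_eq_zero_of_mem_jacobson {B : Type u} [CommRing B] {e : B} (he : IsIdempotentElem e)
    (hj : e ∈ Ideal.jacobson (⊥ : Ideal B)) : e = 0 := by
  have h1 : IsUnit (1 - e) := by
    have := (Ideal.mem_jacobson_bot.1 hj) (-1)
    have h2 : e * -1 + 1 = 1 - e := by ring
    rwa [h2] at this
  have h2 : e * (1 - e) = 0 := by
    have := he.eq
    linear_combination (-1 : B) * this
  exact (h1.mul_left_eq_zero).1 h2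

variable (A : Type u) [CommRing A] [IsLocalRing A] (B : Type u) [CommRing B] [Algebra A B]
  [Module.Finite A B]

theorem map_le_of_isMaximal (𝔫 : Ideal B) [h𝔫 : 𝔫.IsMaximal] :
    Ideal.map (algebraMap A B) (IsLocalRing.maximalIdeal A) ≤ 𝔫 := by
  rw [Ideal.map_le_iff_le_comap]
  have : (Ideal.comap (algebraMap A B) 𝔫).IsMaximal :=
    Ideal.isMaximal_comap_of_isIntegral_of_isMaximal (R := A) 𝔫
  rw [IsLocalRing.eq_maximalIdeal this]

theorem map_le_jacobson :
    Ideal.map (algebraMap A B) (IsLocalRing.maximalIdeal A) ≤ Ideal.jacobson (⊥ : Ideal B) := by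
  rw [Ideal.jacobson]
  apply le_sInf
  rintro 𝔫 ⟨-, h𝔫⟩
  exact map_le_of_isMaximal A B 𝔫

theorem isArtinianRing_quot :
    IsArtinianRing (B ⧸ Ideal.map (algebraMap A B) (IsLocalRing.maximalIdeal A)) := by
  let _ := Ideal.Quotient.field (IsLocalRing.maximalIdeal A)
  have : Module.Finite (A ⧸ IsLocalRing.maximalIdeal A)
      (B ⧸ Ideal.map (algebraMap A B) (IsLocalRing.maximalIdeal A)) :=
    Module.Finite.of_restrictScalars_finite A _ _
  exact IsArtinianRing.of_finite (A ⧸ IsLocalRing.maximalIdeal A) _

end Groth.Agent.Helper26.ProdLoc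

namespace Groth.Agent.Helper26.ProdLoc

universe u

/-- In an Artinian ring, there are complete orthogonal idempotents indexed by the maximal spectrum
with `ε i ∉ j.asIdeal ↔ i = j`. -/
theorem exists_idem (R : Type u) [CommRing R] [IsArtinianRing R] :
    ∃ ε : MaximalSpectrum R → R, (∀ i, IsIdempotentElem (ε i)) ∧
      (∀ i j, i ≠ j → ε i * ε j = 0) ∧
      (∀ i j, ε i ∈ j.asIdeal ↔ i ≠ j) ∧
      (∀ _inst : Fintype (MaximalSpectrum R), ∑ i, ε i = 1) := by
  classical
  have : Fintype (MaximalSpectrum R) := Fintype.ofFinite _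
  let eqv := MaximalSpectrum.toPiLocalizationEquiv R
  refine ⟨fun i => eqv.symm (Pi.single i 1), ?_, ?_, ?_, ?_⟩
  · intro i
    unfold IsIdempotentElem
    rw [← map_mul]
    congr 1
    rw [← Pi.single_mul, one_mul]
  · intro i j hij
    rw [← map_mul]
    have : (Pi.single i 1 : MaximalSpectrum.PiLocalization R) * Pi.single j 1 = 0 := by
      funext l
      by_cases h : l = i
      · subst h
        simp [Pi.single_eq_of_ne hij]
      · simp [Pi.single_eq_of_ne h]
    rw [this, map_zero]
  · intro i j
    have hcomp : algebraMap R (Localization.AtPrime j.asIdeal) (eqv.symm (Pi.single i 1)) =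
        (Pi.single i 1 : MaximalSpectrum.PiLocalization R) j := by
      rw [← MaximalSpectrum.toPiLocalizationEquiv_apply_apply]
      change (eqv (eqv.symm (Pi.single i 1))) j = _
      rw [eqv.apply_symm_apply]
    have hunit := IsLocalization.AtPrime.isUnit_to_map_iff (Localization.AtPrime j.asIdeal)
      j.asIdeal (eqv.symm (Pi.single i 1))
    rw [hcomp] at hunit
    by_cases hij : i = j
    · subst hij
      simp only [Pi.single_eq_same, isUnit_one, true_iff] at hunit
      simp only [ne_eq, not_true_eq_false, iff_false]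
      exact hunit
    · rw [Pi.single_eq_of_ne (Ne.symm hij)] at hunit
      simp only [isUnit_zero_iff, zero_ne_one, false_iff] at hunit
      simp only [ne_eq, hij, not_false_eq_true, iff_true]
      exact not_not.1 hunit
  · intro inst
    rw [← map_sum, Finset.univ_sum_single]
    exact map_one eqv.symm

end Groth.Agent.Helper26.ProdLoc
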