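import Mathlib
import Groth.Agent.Lib.Helper26.ProdLoc2

namespace Groth.Agent.Helper26.ProdLoc

universe u

variable (A : Type u) [CommRing A] [IsLocalRing A] (B : Type u) [CommRing B] [Algebra A B]
  [Module.Finite A B]

theorem backward
    (hlift : Set.SurjOn (Ideal.Quotient.mk (Ideal.map (algebraMap A B) (IsLocalRing.maximalIdeal A)))
        {e : B | IsIdempotentElem e} {e | IsIdempotentElem e}) :
    ∃ (ι : Type u) (_ : Fintype ι) (C : ι → Type u) (_ : ∀ j, CommRing (C j)),
        (∀ j, IsLocalRing (C j)) ∧ Nonempty (B ≃+* (∀ j, C j)) := by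
  classical
  set J := Ideal.map (algebraMap A B) (IsLocalRing.maximalIdeal A) with hJ
  set π := Ideal.Quotient.mk J with hπ
  have hart : IsArtinianRing (B ⧸ J) := isArtinianRing_quot A B
  have hJjac : J ≤ Ideal.jacobson (⊥ : Ideal B) := map_le_jacobson A B
  obtain ⟨εb, hidemb, horthb, hmemb, hsumb⟩ := exists_idem (B ⧸ J)
  let inst : Fintype (MaximalSpectrum (B ⧸ J)) := Fintype.ofFinite _
  have hex : ∀ i, ∃ e : B, IsIdempotentElem e ∧ π e = εb i := fun i => hlift (hidemb i)
  choose ε hidem hπε using hex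
  have horth : ∀ i j, i ≠ j → ε i * ε j = 0 := by
    intro i j hij
    apply idem_eq_zero_of_mem_jacobson ((hidem i).mul (hidem j))
    apply hJjac
    rw [← Ideal.Quotient.eq_zero_iff_mem, map_mul]
    change π (ε i) * π (ε j) = 0
    rw [hπε, hπε, horthb i j hij]
  have hO : OrthogonalIdempotents ε := ⟨hidem, fun i j hij => horth i j hij⟩
  have hcomplete : ∑ i, ε i = 1 := by
    have h1 : IsIdempotentElem (1 - ∑ i, ε i) := (hO.isIdempotentElem_sum (s := Finset.univ)).one_sub
    have h2 : 1 - ∑ i, ε i = 0 := by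
      apply idem_eq_zero_of_mem_jacobson h1
      apply hJjac
      rw [← Ideal.Quotient.eq_zero_iff_mem, map_sub, map_one, map_sum]
      change 1 - ∑ i, π (ε i) = 0
      simp_rw [hπε]
      rw [hsumb inst, sub_self]
    rw [sub_eq_zero] at h2
    exact h2.symm
  have hCO : CompleteOrthogonalIdempotents ε := ⟨hO, hcomplete⟩
  refine ⟨MaximalSpectrum (B ⧸ J), inst, fun i => B ⧸ Ideal.span {1 - ε i}, fun i => inferInstance,
    ?_, ⟨RingEquiv.ofBijective _ hCO.bijective_pi⟩⟩
  intro i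
  -- 1 - εb i ∈ i.asIdeal
  have h1i : 1 - εb i ∈ i.asIdeal := by
    have h0 : εb i * (1 - εb i) ∈ i.asIdeal := by
      have : εb i * (1 - εb i) = 0 := by
        have := (hidemb i).eq
        linear_combination (-1 : B ⧸ J) * this
      rw [this]; exact Ideal.zero_mem _
    rcases i.isMaximal.isPrime.mem_or_mem h0 with h | h
    · exact absurd rfl ((hmemb i i).1 h)
    · exact h
  have hne : Ideal.span {1 - ε i} ≠ ⊤ := by
    intro htop
    have hle : Ideal.span {1 - ε i} ≤ Ideal.comap π i.asIdeal := by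
      rw [Ideal.span_le, Set.singleton_subset_iff]
      change π (1 - ε i) ∈ i.asIdeal
      rw [map_sub, map_one, hπε]
      exact h1i
    rw [htop, top_le_iff, Ideal.comap_eq_top_iff] at hle
    exact i.isMaximal.ne_top hle
  have hnt : Nontrivial (B ⧸ Ideal.span {1 - ε i}) := Ideal.Quotient.nontrivial_iff.2 hne
  -- Lemma U
  have hU : ∀ 𝔫 : Ideal B, 𝔫.IsMaximal → 1 - ε i ∈ 𝔫 → ∀ b, b ∈ 𝔫 → π b ∈ i.asIdeal := by
    intro 𝔫 h𝔫 h1 b hb
    have hJ𝔫 : J ≤ 𝔫 := map_le_of_isMaximal A B 𝔫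
    have hker : RingHom.ker π ≤ 𝔫 := by rw [hπ, Ideal.mk_ker]; exact hJ𝔫
    have hmax : (Ideal.map π 𝔫).IsMaximal :=
      Ideal.IsMaximal.map_of_surjective_of_ker_le Ideal.Quotient.mk_surjective hker
    set j : MaximalSpectrum (B ⧸ J) := ⟨Ideal.map π 𝔫, hmax⟩ with hj
    have hij : i = j := by
      by_contra hne'
      have h2 : εb i ∈ j.asIdeal := (hmemb i j).2 hne'
      have h3 : 1 - εb i ∈ j.asIdeal := by
        have := Ideal.mem_map_of_mem π h1
        rw [map_sub, map_one, hπε] at this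
        exact this
      have : (1 : B ⧸ J) ∈ j.asIdeal := by
        have := j.asIdeal.add_mem h2 h3
        simpa using this
      exact hmax.ne_top ((Ideal.eq_top_iff_one _).2 this)
    rw [hij]
    exact Ideal.mem_map_of_mem π hb
  have hunit : ∀ b : B, π b ∉ i.asIdeal → IsUnit (Ideal.Quotient.mk (Ideal.span {1 - ε i}) b) := by
    intro b hb
    have htop : Ideal.span {b} ⊔ Ideal.span {1 - ε i} = ⊤ := by
      by_contra hne'
      obtain ⟨𝔫, h𝔫, hle⟩ := Ideal.exists_le_maximal _ hne'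
      have h1 : 1 - ε i ∈ 𝔫 := hle (Ideal.mem_sup_right (Ideal.subset_span rfl))
      have h2 : b ∈ 𝔫 := hle (Ideal.mem_sup_left (Ideal.subset_span rfl))
      exact hb (hU 𝔫 h𝔫 h1 b h2)
    have h1 : (1 : B) ∈ Ideal.span {b} ⊔ Ideal.span {1 - ε i} := htop ▸ Submodule.mem_top
    rw [Submodule.mem_sup] at h1
    obtain ⟨y, hy, z, hz, hyz⟩ := h1
    rw [Ideal.mem_span_singleton'] at hy
    obtain ⟨c, rfl⟩ := hy
    refine IsUnit.of_mul_eq_one (Ideal.Quotient.mk _ c) ?_
    rw [← map_mul, ← map_one (Ideal.Quotient.mk (Ideal.span {1 - ε i})), ← sub_eq_zero, ← map_sub,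
      Ideal.Quotient.eq_zero_iff_mem]
    have : b * c - 1 = -z := by linear_combination hyz
    rw [this]
    exact neg_mem hz
  apply IsLocalRing.of_isUnit_or_isUnit_one_sub_self
  intro x
  obtain ⟨b, rfl⟩ := Ideal.Quotient.mk_surjective x
  by_cases hb : π b ∈ i.asIdeal
  · right
    rw [← map_one (Ideal.Quotient.mk (Ideal.span {1 - ε i})), ← map_sub]
    apply hunit
    intro h
    rw [map_sub, map_one] at h
    have : (1 : B ⧸ J) ∈ i.asIdeal := by
      have := i.asIdeal.add_mem hb h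
      simpa using this
    exact i.isMaximal.ne_top ((Ideal.eq_top_iff_one _).2 this)
  · left
    exact hunit b hb

theorem main :
    (∃ (ι : Type u) (_ : Fintype ι) (C : ι → Type u) (_ : ∀ j, CommRing (C j)),
        (∀ j, IsLocalRing (C j)) ∧ Nonempty (B ≃+* (∀ j, C j))) ↔
      Set.SurjOn (Ideal.Quotient.mk (Ideal.map (algebraMap A B) (IsLocalRing.maximalIdeal A)))
        {e : B | IsIdempotentElem e} {e | IsIdempotentElem e} := by
  constructor
  · rintro ⟨ι, _, C, _, hC, ⟨φ⟩⟩
    exact forward B _ C hC φ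
  · exact backward A B

end Groth.Agent.Helper26.ProdLoc
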