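import Mathlib
import Groth.Prelude.Def_ModSite
import Groth.Prelude.Def_AlgSpPerf

set_option autoImplicit false
universe u

open CategoryTheory Limits Opposite

namespace Groth.Agent.Helper26.PullUnit

section Sec

variable {C D : Type u} [SmallCategory C] [SmallCategory D] (J : GrothendieckTopology C)
  (K : GrothendieckTopology D)

/-- the terminal sheaf of types -/
def T : Sheaf J (Type u) :=
  ⟨(Functor.const _).obj PUnit, Presheaf.isSheaf_of_isTerminal J Types.isTerminalPUnit⟩

def isTerminalT : IsTerminal (T J) :=
  IsTerminal.ofUniqueHom (fun N => ⟨{ app := fun _ => ↾(fun _ => PUnit.unit) }⟩) (fun N m => by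
    apply Sheaf.hom_ext
    ext X x
    rfl)

variable {J}

/-- sections of a sheaf of types as morphisms from the terminal sheaf -/
def secEquiv (N : Sheaf J (Type u)) : N.obj.sections ≃ (T J ⟶ N) where
  toFun s := ⟨{ app := fun X => ↾(fun _ => s.1 X)
                naturality := fun X Y f => by
                  ext x
                  exact (s.2 f).symm }⟩
  invFun σ := ⟨fun X => σ.hom.app X PUnit.unit, fun {X Y} f => by
    have := ConcreteCategory.congr_hom (σ.hom.naturality f) PUnit.unit
    exact this.symm⟩
  left_inv s := rfl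
  right_inv σ := by
    apply Sheaf.hom_ext
    ext X x
    rfl

variable {K} (F : D ⥤ C) [F.IsContinuous K J]
  [(F.sheafPushforwardContinuous (Type u) K J).IsRightAdjoint]
  [PreservesFiniteLimits (F.sheafPullback (Type u) K J)]

/-- push a section forward -/
def pushSec (N : Sheaf J (Type u)) (s : N.obj.sections) :
    ((F.sheafPushforwardContinuous (Type u) K J).obj N).obj.sections :=
  ⟨fun V => s.1 (op (F.obj V.unop)), fun {_ _} f => s.2 (F.map f.unop).op⟩

/-- `f⁻¹` of the terminal sheaf is terminal -/
noncomputable def pbTIso : (F.sheafPullback (Type u) K J).obj (T K) ≅ T J :=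
  (IsTerminal.isTerminalObj (F.sheafPullback (Type u) K J) (T K) (isTerminalT K)).uniqueUpToIso
    (isTerminalT J)

noncomputable def secPushEquiv (N : Sheaf J (Type u)) :
    N.obj.sections ≃ ((F.sheafPushforwardContinuous (Type u) K J).obj N).obj.sections :=
  (secEquiv N).trans (((pbTIso (J := J) (K := K) F).symm.homFromEquiv).trans
    (((F.sheafAdjunctionContinuous (Type u) K J).homEquiv (T K) N).trans
      (secEquiv ((F.sheafPushforwardContinuous (Type u) K J).obj N)).symm))

theorem secPushEquiv_apply (N : Sheaf J (Type u)) (s : N.obj.sections) :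
    secPushEquiv (K := K) F N s = pushSec (K := K) F N s := by
  apply Subtype.ext
  funext V
  change ((F.sheafAdjunctionContinuous (Type u) K J).homEquiv (T K) N
    ((pbTIso (J := J) (K := K) F).hom ≫ secEquiv N s)).hom.app V PUnit.unit = s.1 (op (F.obj V.unop))
  rw [Adjunction.homEquiv_unit, Functor.map_comp]
  rfl

theorem bijective_pushSec (N : Sheaf J (Type u)) :
    Function.Bijective (pushSec (K := K) F N) := by
  have h : ⇑(secPushEquiv (K := K) F N) = pushSec (K := K) F N :=
    funext (secPushEquiv_apply F N)
  rw [← h]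
  exact (secPushEquiv (K := K) F N).bijective

end Sec

section Mod

variable {C : Type u} [SmallCategory C] {J : GrothendieckTopology C} {O_C : Sheaf J CommRingCat.{u}}
  {D : Type u} [SmallCategory D] {K : GrothendieckTopology D} {O_D : Sheaf K CommRingCat.{u}}
  (f : ModSite.RMor O_C O_D)

/-- underlying sheaf of types of a sheaf of modules -/
noncomputable def undSheaf (M : ModSite.Mod O_C) : Sheaf J (Type u) :=
  ⟨M.val.presheaf ⋙ forget AddCommGrpCat.{u},
    Presheaf.isSheaf_comp_of_isSheaf J M.val.presheaf (forget AddCommGrpCat.{u}) M.isSheaf⟩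

theorem bijective_pushforwardSections (M : ModSite.Mod O_C) :
    Function.Bijective (SheafOfModules.pushforwardSections f.sharpR (M := M)) :=
  bijective_pushSec (K := K) f.fn (undSheaf M)

open SheafOfModules in
theorem isIso_pullUnit : IsIso (SheafOfModules.pullbackObjUnitToUnit f.sharpR) := by
  rw [isIso_iff_coyoneda_map_bijective]
  intro M
  rw [← ((pullbackPushforwardAdjunction.{u} f.sharpR).homEquiv _ _).bijective.of_comp_iff',
    ← (unitHomEquiv _).bijective.of_comp_iff']
  convert! (bijective_pushforwardSections f M).comp (unitHomEquiv _).bijective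
  ext g : 1
  dsimp
  rw [pushforwardSections_unitHomEquiv, EmbeddingLike.apply_eq_iff_eq,
    Adjunction.homEquiv_naturality_right,
    pullbackPushforwardAdjunction_homEquiv_pullbackObjUnitToUnit]

/-- `f^*` of a free module is free -/
noncomputable def pullFreeIso (I : Type u) :
    f.pull.obj (SheafOfModules.free (R := ModSite.ringSh O_D) I) ≅
      SheafOfModules.free (R := ModSite.ringSh O_C) I :=
  haveI := isIso_pullUnit f
  (asIso (sigmaComparison f.pull _)).symm ≪≫
    Sigma.mapIso (fun _ ↦ asIso (SheafOfModules.pullbackObjUnitToUnit f.sharpR))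

theorem isFinFreeSummandMod_pull (M : ModSite.Mod O_D)
    (h : DCoh.IsFinFreeSummandMod (ModSite.ringSh O_D) M) :
    DCoh.IsFinFreeSummandMod (ModSite.ringSh O_C) (f.pull.obj M) := by
  obtain ⟨n, i, p, hip⟩ := h
  refine ⟨n, f.pull.map i ≫ (pullFreeIso f _).hom, (pullFreeIso f _).inv ≫ f.pull.map p, ?_⟩
  rw [Category.assoc, Iso.hom_inv_id_assoc, ← Functor.map_comp, hip, CategoryTheory.Functor.map_id]

theorem main (E : CochainComplex (ModSite.Mod O_D) ℤ)
    (hE : DCoh.IsStrictlyPerfectMod (ModSite.ringSh O_D) E) :
    DCoh.IsStrictlyPerfectMod (ModSite.ringSh O_C)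
      ((f.pull.mapHomologicalComplex (ComplexShape.up ℤ)).obj E) := by
  obtain ⟨⟨a, b, hab⟩, hs⟩ := hE
  refine ⟨⟨a, b, fun i hi => ?_⟩, fun i => isFinFreeSummandMod_pull f _ (hs i)⟩
  exact Functor.map_isZero f.pull (hab i hi)

end Mod

end Groth.Agent.Helper26.PullUnit
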