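import Mathlib

set_option autoImplicit false

open CategoryTheory CategoryTheory.Limits AlgebraicGeometry

namespace Groth.Agent.Helper26.QAff

universe u

theorem part1 (A : Type u) [CommRing A] (I : Ideal A) [IsAdicComplete I A]
    (X : Scheme.{u}) [X.IsQuasiAffine] (f g : Spec (CommRingCat.of A) ⟶ X)
    (h : ∀ n : ℕ, Spec.map (CommRingCat.ofHom (Ideal.Quotient.mk (I ^ n))) ≫ f =
        Spec.map (CommRingCat.ofHom (Ideal.Quotient.mk (I ^ n))) ≫ g) : f = g := by
  have hmono : Mono X.toSpecΓ := inferInstance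
  rw [← cancel_mono X.toSpecΓ]
  let α : Γ(X, ⊤) ⟶ CommRingCat.of A := Spec.preimage (f ≫ X.toSpecΓ)
  let β : Γ(X, ⊤) ⟶ CommRingCat.of A := Spec.preimage (g ≫ X.toSpecΓ)
  have hα : Spec.map α = f ≫ X.toSpecΓ := Spec.map_preimage _
  have hβ : Spec.map β = g ≫ X.toSpecΓ := Spec.map_preimage _
  rw [← hα, ← hβ]
  congr 1
  have key : ∀ n : ℕ, α ≫ CommRingCat.ofHom (Ideal.Quotient.mk (I ^ n)) =
      β ≫ CommRingCat.ofHom (Ideal.Quotient.mk (I ^ n)) := by
    intro n
    apply Spec.map_injective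
    rw [Spec.map_comp, Spec.map_comp, hα, hβ, ← Category.assoc, ← Category.assoc, h n]
  ext b
  have hb : ∀ n : ℕ, α.hom b - β.hom b ∈ I ^ n := by
    intro n
    have := congrArg (fun ψ => ψ.hom b) (key n)
    simp only [CommRingCat.hom_comp, CommRingCat.hom_ofHom, RingHom.coe_comp,
      Function.comp_apply] at this
    exact Ideal.Quotient.eq.mp this
  have hz : α.hom b - β.hom b = 0 := by
    apply IsHausdorff.haus (inferInstance : IsHausdorff I A)
    intro n
    rw [SModEq.zero]
    simpa using hb n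
  exact sub_eq_zero.mp hz

end Groth.Agent.Helper26.QAff
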