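import Mathlib

set_option autoImplicit false

open CategoryTheory CategoryTheory.Limits AlgebraicGeometry

namespace Groth.Agent.Helper26.QAff

universe u

/-- An open subset of `Spec A` containing all maximal ideals is everything. -/
theorem opens_eq_top_of_maximal {A : Type u} [CommRing A]
    (U : TopologicalSpace.Opens (PrimeSpectrum A))
    (h : ∀ p : PrimeSpectrum A, p.asIdeal.IsMaximal → p ∈ U) : U = ⊤ := by
  by_contra hne
  have hc : IsClosed ((U : Set (PrimeSpectrum A))ᶜ) := U.isOpen.isClosed_compl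
  obtain ⟨J, hJ⟩ := (PrimeSpectrum.isClosed_iff_zeroLocus_ideal _).mp hc
  have hJne : J ≠ ⊤ := by
    rintro rfl
    apply hne
    rw [PrimeSpectrum.zeroLocus_empty_iff_eq_top.mpr rfl] at hJ
    ext x
    simp only [TopologicalSpace.Opens.coe_top, Set.mem_univ, iff_true]
    by_contra hx
    have : x ∈ ((U : Set (PrimeSpectrum A))ᶜ) := hx
    rw [hJ] at this
    exact this
  obtain ⟨m, hm, hJm⟩ := Ideal.exists_le_maximal J hJne
  let p : PrimeSpectrum A := ⟨m, hm.isPrime⟩
  have hp : p ∈ ((U : Set (PrimeSpectrum A))ᶜ) := by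
    rw [hJ]
    exact hJm
  exact hp (h p hm)

theorem part2 (A : Type u) [CommRing A] (I : Ideal A) [IsAdicComplete I A]
    (X : Scheme.{u}) [X.IsQuasiAffine]
    (e : ∀ n : ℕ, Spec (CommRingCat.of (A ⧸ I ^ n)) ⟶ X)
    (he : ∀ n : ℕ, Spec.map (CommRingCat.ofHom (Ideal.Quotient.factorPowSucc I n)) ≫ e (n + 1) = e n) :
    ∃ f : Spec (CommRingCat.of A) ⟶ X,
        ∀ n : ℕ, Spec.map (CommRingCat.ofHom (Ideal.Quotient.mk (I ^ n))) ≫ f = e n := by
  have hmono : Mono X.toSpecΓ := inferInstance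
  let γ : ∀ n : ℕ, Γ(X, ⊤) ⟶ CommRingCat.of (A ⧸ I ^ n) := fun n =>
    Spec.preimage (e n ≫ X.toSpecΓ)
  have hγ : ∀ n, Spec.map (γ n) = e n ≫ X.toSpecΓ := fun n => Spec.map_preimage _
  have hsucc : ∀ n, γ (n + 1) ≫ CommRingCat.ofHom (Ideal.Quotient.factorPowSucc I n) = γ n := by
    intro n
    apply Spec.map_injective
    rw [Spec.map_comp, hγ, hγ, ← Category.assoc, he n]
  have hsucc' : ∀ n (b : Γ(X, ⊤)),
      Ideal.Quotient.factorPowSucc I n ((γ (n + 1)).hom b) = (γ n).hom b := by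
    intro n b
    have := congrArg (fun ψ => ψ.hom b) (hsucc n)
    simpa using this
  have hcompat : ∀ {m n : ℕ} (hle : m ≤ n),
      (Ideal.Quotient.factorPow I hle).comp (γ n).hom = (γ m).hom := by
    intro m n hle
    induction n, hle using Nat.le_induction with
    | base =>
      ext b
      simp
    | succ n hmn ih =>
      ext b
      have h1 := hsucc' n b
      have h2 := congrArg (fun ψ => ψ b) (ih)
      simp only [RingHom.coe_comp, Function.comp_apply] at h2 ⊢
      rw [← h2, ← h1]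
      simp only [Ideal.Quotient.factorPowSucc]
      generalize (γ (n + 1)).hom b = c
      obtain ⟨a, rfl⟩ := Ideal.Quotient.mk_surjective c
      simp
  let L : Γ(X, ⊤) →+* A := IsAdicComplete.liftRingHom I (fun n => (γ n).hom) hcompat
  have hL : ∀ n, (Ideal.Quotient.mk (I ^ n)).comp L = (γ n).hom := fun n =>
    IsAdicComplete.mk_comp_liftRingHom I _ hcompat n
  let F : Spec (CommRingCat.of A) ⟶ Spec Γ(X, ⊤) := Spec.map (CommRingCat.ofHom L)
  have hF : ∀ n, Spec.map (CommRingCat.ofHom (Ideal.Quotient.mk (I ^ n))) ≫ F =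
      e n ≫ X.toSpecΓ := by
    intro n
    rw [← hγ n, ← Spec.map_comp]
    congr 1
    ext b
    exact congrArg (fun ψ => ψ b) (hL n)
  -- F lands in the open image of X
  have hU : F ⁻¹ᵁ X.toSpecΓ.opensRange = ⊤ := by
    apply opens_eq_top_of_maximal
    intro p hp
    have hIp : I ^ 1 ≤ p.asIdeal := by
      rw [pow_one]
      exact (IsAdicComplete.le_jacobson_bot I).trans (by
        rw [Ideal.jacobson]
        exact sInf_le ⟨bot_le, hp⟩)
    -- p comes from a prime of A ⧸ I ^ 1
    let p' : Spec (CommRingCat.of (A ⧸ I ^ 1)) :=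
      ⟨p.asIdeal.map (Ideal.Quotient.mk (I ^ 1)),
        Ideal.map_isPrime_of_surjective Ideal.Quotient.mk_surjective (by
          rw [Ideal.mk_ker]; exact hIp)⟩
    have hp' : (Spec.map (CommRingCat.ofHom (Ideal.Quotient.mk (I ^ 1)))).base p' = p := by
      apply PrimeSpectrum.ext
      change Ideal.comap (Ideal.Quotient.mk (I ^ 1)) (p.asIdeal.map (Ideal.Quotient.mk (I ^ 1))) = _
      rw [Ideal.comap_map_of_surjective _ Ideal.Quotient.mk_surjective]
      rw [← RingHom.ker_eq_comap_bot, Ideal.mk_ker]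
      exact sup_eq_left.mpr hIp
    change F.base p ∈ Set.range X.toSpecΓ.base
    rw [← hp', ← Scheme.Hom.comp_apply, hF 1, Scheme.Hom.comp_apply]
    exact ⟨_, rfl⟩
  have hrange : Set.range F.base ⊆ Set.range X.toSpecΓ.base := by
    rintro _ ⟨p, rfl⟩
    have : p ∈ F ⁻¹ᵁ X.toSpecΓ.opensRange := by rw [hU]; trivial
    exact this
  refine ⟨IsOpenImmersion.lift X.toSpecΓ F hrange, fun n => ?_⟩
  rw [← cancel_mono X.toSpecΓ, Category.assoc, IsOpenImmersion.lift_fac, hF n]

end Groth.Agent.Helper26.QAff
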