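import Mathlib
import Groth.Prelude.Def_W4c5qllcourbesmultMultCrv

namespace Groth.Agent.Helper26.QFKer

open Polynomial MultCrv

universe u
variable (R : Type u) [CommRing R] [IsDomain R] (n : ℕ)

omit [IsDomain R] in
theorem z_pow_n : (z R n) ^ n = 0 := by
  rw [z, ← map_pow, Ideal.Quotient.eq_zero_iff_mem]
  exact Ideal.subset_span rfl

theorem mul_z_pow_eq_zero_iff (k : ℕ) (hk : k ≤ n) (a : Rn R n) :
    a * (z R n) ^ k = 0 ↔ a ∈ Ideal.span {(z R n) ^ (n - k)} := by
  constructor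
  · intro h
    obtain ⟨P, rfl⟩ := Ideal.Quotient.mk_surjective a
    rw [z, ← map_pow, ← map_mul, Ideal.Quotient.eq_zero_iff_mem, Ideal.mem_span_singleton] at h
    have hn : n = (n - k) + k := by omega
    rw [hn, pow_add] at h
    have h2 : (X : R[X]) ^ (n - k) ∣ P :=
      (mul_dvd_mul_iff_right (pow_ne_zero k X_ne_zero)).1 h
    obtain ⟨Q, rfl⟩ := h2
    rw [map_mul, map_pow]
    exact Ideal.mul_mem_right _ _ (Ideal.subset_span rfl)
  · intro h
    rw [Ideal.mem_span_singleton'] at h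
    obtain ⟨b, rfl⟩ := h
    rw [mul_assoc, ← pow_add, show n - k + k = n by omega, z_pow_n, mul_zero]

/-- `span {z^k} ≃ A ⧸ span {z^(n-k)}` for `k ≤ n`. -/
noncomputable def spanEquiv (k : ℕ) (hk : k ≤ n) :
    (Ideal.span {(z R n) ^ k} : Ideal (Rn R n)) ≃ₗ[Rn R n] (Rn R n ⧸ Ideal.span {(z R n) ^ (n - k)}) := by
  let f : Rn R n →ₗ[Rn R n] (Ideal.span {(z R n) ^ k} : Ideal (Rn R n)) :=
    LinearMap.toSpanSingleton (Rn R n) _ ⟨(z R n) ^ k, Ideal.subset_span rfl⟩
  have hf : Function.Surjective f := by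
    rintro ⟨y, hy⟩
    rw [Ideal.mem_span_singleton'] at hy
    obtain ⟨a, rfl⟩ := hy
    exact ⟨a, Subtype.ext (by simp [f])⟩
  have hker : LinearMap.ker f = Ideal.span {(z R n) ^ (n - k)} := by
    ext a
    rw [LinearMap.mem_ker, ← mul_z_pow_eq_zero_iff R n k hk a]
    constructor
    · intro h
      have := congrArg Subtype.val h
      simpa [f] using this
    · intro h
      apply Subtype.ext
      simpa [f] using h
  exact ((Submodule.quotEquivOfEq _ _ hker).symm.trans (f.quotKerEquivOfSurjective hf)).symm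

end Groth.Agent.Helper26.QFKer
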