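import Mathlib
import Groth.Agent.Lib.Helper26.QFKer1

namespace Groth.Agent.Helper26.QFKer

open Polynomial MultCrv

universe u
variable (R : Type u) [CommRing R] [IsDomain R] (n : ℕ)

/-- the involution `i ↦ n-2-i` (fixing `n-1`) -/
def sig (i : Fin n) : Fin n := if h : i.1 + 1 < n then ⟨n - 2 - i.1, by omega⟩ else i

theorem sig_invol : Function.Involutive (sig n) := by
  intro i
  unfold sig
  by_cases h : i.1 + 1 < n
  · simp only [h, dite_true]
    have h2 : n - 2 - i.1 + 1 < n := by omega
    simp only [h2, dite_true]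
    apply Fin.ext
    simp only
    omega
  · simp only [h, dite_false]

/-- as a permutation -/
def sigPerm : Equiv.Perm (Fin n) := (sig_invol n).toPerm

theorem revType_sig (m : Fin n → ℕ) (i : Fin n) (h : i.1 + 1 < n) :
    revType n m (sig n i) = m i := by
  unfold revType sig
  simp only [h, dite_true]
  have h2 : n - 2 - i.1 + 1 < n := by omega
  simp only [h2, dite_true]
  congr 1
  apply Fin.ext
  simp only
  omega

theorem sig_val (i : Fin n) (h : i.1 + 1 < n) : (sig n i).1 + 1 = n - (i.1 + 1) := by
  unfold sig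
  simp only [h, dite_true]
  omega

theorem revType_of_not (m : Fin n → ℕ) (i : Fin n) (h : ¬ i.1 + 1 < n) :
    revType n m (sig n i) = 0 := by
  unfold revType sig
  simp only [h, dite_false]

variable (m : Fin n → ℕ)

/-- componentwise equivalence -/
noncomputable def compEquiv (i : Fin n) :
    (Fin (m i) → (Rn R n ⧸ Ideal.span {(z R n) ^ (n - (i.1 + 1))})) ≃ₗ[Rn R n]
      (Fin (revType n m (sig n i)) → Oi R n ((sig n i).1 + 1)) :=
  if h : i.1 + 1 < n then
    (LinearEquiv.piCongrRight (fun _ : Fin (m i) =>
      Submodule.quotEquivOfEq (Ideal.span {(z R n) ^ (n - (i.1 + 1))})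
        (Ideal.span {(z R n) ^ ((sig n i).1 + 1)}) (by rw [sig_val n i h]))).trans
    (LinearEquiv.funCongrLeft (Rn R n) (Oi R n ((sig n i).1 + 1))
      (finCongr (revType_sig n m i h)))
  else
    have h1 : Subsingleton (Fin (m i) → (Rn R n ⧸ Ideal.span {(z R n) ^ (n - (i.1 + 1))})) := by
      have : n - (i.1 + 1) = 0 := by omega
      rw [this, pow_zero]
      have : Subsingleton (Rn R n ⧸ Ideal.span {(1 : Rn R n)}) := by
        rw [Ideal.Quotient.subsingleton_iff, Ideal.span_singleton_one]
      infer_instance
    have h2 : Subsingleton (Fin (revType n m (sig n i)) → Oi R n ((sig n i).1 + 1)) := by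
      rw [revType_of_not n m i h]
      infer_instance
    LinearEquiv.ofSubsingleton _ _

/-- the model-level equivalence -/
noncomputable def modelEquiv :
    ((i : Fin n) → Fin (m i) → (Ideal.span {(z R n) ^ (i.1 + 1)} : Ideal (Rn R n))) ≃ₗ[Rn R n]
      QFModel R n (revType n m) :=
  ((LinearEquiv.piCongrRight (fun i : Fin n => LinearEquiv.piCongrRight (fun _ : Fin (m i) =>
      spanEquiv R n (i.1 + 1) (by omega)))).trans
    ((LinearEquiv.piCongrRight (compEquiv R n m)).trans
      (LinearEquiv.piCongrLeft (Rn R n)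
        (fun j : Fin n => Fin (revType n m j) → Oi R n (j.1 + 1)) (sigPerm n)))).trans
    (QFModel.equivPi R n (revType n m)).symm

end Groth.Agent.Helper26.QFKer
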