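import Mathlib
import Groth.Agent.Lib.Helper26.QFKer2

namespace Groth.Agent.Helper26.QFKer

open Polynomial MultCrv

universe u
variable (R : Type u) [CommRing R] (n : ℕ) (m : Fin n → ℕ)

/-- the free cover of the model -/
abbrev F0 := (i : Fin n) → Fin (m i) → Rn R n

/-- the model as a Pi type -/
abbrev W0 := (i : Fin n) → Fin (m i) → Oi R n (i.1 + 1)

/-- the standard surjection -/
noncomputable def pi0 : F0 R n m →ₗ[Rn R n] W0 R n m where
  toFun f := fun i j => Ideal.Quotient.mk _ (f i j)
  map_add' f g := by funext i j; simp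
  map_smul' a f := by funext i j; rfl

theorem pi0_surjective : Function.Surjective (pi0 R n m) := by
  intro w
  choose f hf using fun i j => Ideal.Quotient.mk_surjective (w i j)
  exact ⟨f, by funext i j; exact hf i j⟩

theorem mem_ker_pi0 (f : F0 R n m) :
    f ∈ LinearMap.ker (pi0 R n m) ↔ ∀ i j, f i j ∈ Ideal.span {(z R n) ^ (i.1 + 1)} := by
  rw [LinearMap.mem_ker]
  constructor
  · intro h i j
    have := congrFun (congrFun h i) j
    exact Ideal.Quotient.eq_zero_iff_mem.1 this
  · intro h
    funext i j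
    exact Ideal.Quotient.eq_zero_iff_mem.2 (h i j)

/-- kernel of the standard surjection as a Pi type -/
noncomputable def kerPi0Equiv :
    LinearMap.ker (pi0 R n m) ≃ₗ[Rn R n]
      ((i : Fin n) → Fin (m i) → (Ideal.span {(z R n) ^ (i.1 + 1)} : Ideal (Rn R n))) where
  toFun f := fun i j => ⟨f.1 i j, (mem_ker_pi0 R n m f.1).1 f.2 i j⟩
  map_add' f g := by funext i j; rfl
  map_smul' a f := by funext i j; rfl
  invFun g := ⟨fun i j => (g i j).1, (mem_ker_pi0 R n m _).2 (fun i j => (g i j).2)⟩
  left_inv f := by rfl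
  right_inv g := by rfl

theorem ker_pi0_le : LinearMap.ker (pi0 R n m) ≤
    (Ideal.span {z R n}) • (⊤ : Submodule (Rn R n) (F0 R n m)) := by
  intro g hg
  rw [mem_ker_pi0] at hg
  have : ∀ i j, ∃ b : Rn R n, g i j = z R n * b := by
    intro i j
    have := hg i j
    rw [Ideal.mem_span_singleton'] at this
    obtain ⟨a, ha⟩ := this
    exact ⟨a * (z R n) ^ i.1, by rw [← ha, pow_succ]; ring⟩
  choose b hb using this
  have : g = z R n • (b : F0 R n m) := by
    funext i j
    simp [hb i j]
  rw [this]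
  exact Submodule.smul_mem_smul (Ideal.subset_span rfl) Submodule.mem_top

theorem z_mem_jacobson : Ideal.span {z R n} ≤ Ideal.jacobson (⊥ : Ideal (Rn R n)) := by
  rw [Ideal.span_le, Set.singleton_subset_iff]
  rw [SetLike.mem_coe, Ideal.mem_jacobson_bot]
  intro y
  have hnil : IsNilpotent (z R n * y) := ⟨n, by rw [mul_pow, z_pow_n, zero_mul]⟩
  exact hnil.isUnit_add_one

end Groth.Agent.Helper26.QFKer
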