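import Mathlib
import Groth.Agent.Lib.Helper26.QFKer3

namespace Groth.Agent.Helper26.QFKer

open Polynomial MultCrv

universe u

theorem main (R : Type u) [CommRing R] [IsDomain R] (n : ℕ) (m : Fin n → ℕ)
    (M : Type u) [AddCommGroup M] [Module (MultCrv.Rn R n) M]
    (hM : MultCrv.IsQuasiFreeOfType R n M m) (r : ℕ)
    (φ : (Fin r → MultCrv.Rn R n) →ₗ[MultCrv.Rn R n] M) (hφ : Function.Surjective φ)
    (hφz : ∀ f : Fin r → MultCrv.Rn R n, φ f ∈ MultCrv.filt R n M 1 →
      f ∈ MultCrv.filt R n (Fin r → MultCrv.Rn R n) 1) :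
    MultCrv.IsQuasiFreeOfType R n ↥(LinearMap.ker φ) (MultCrv.revType n m) := by
  obtain ⟨ψ'⟩ := hM
  let ψ : M ≃ₗ[Rn R n] W0 R n m := ψ'.trans (QFModel.equivPi R n m)
  -- lift
  obtain ⟨θ, hθ⟩ := Module.projective_lifting_property (pi0 R n m) (ψ.toLinearMap ∘ₗ φ)
    (pi0_surjective R n m)
  have hθ' : ∀ f, pi0 R n m (θ f) = ψ (φ f) := fun f => by
    have := congrArg (fun l => l f) hθ
    simpa using this
  -- θ surjective
  have hsurj : Function.Surjective θ := by
    rw [← LinearMap.range_eq_top]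
    apply top_le_iff.1
    apply Submodule.le_of_le_smul_of_le_jacobson_bot (I := Ideal.span {z R n})
      Module.Finite.fg_top (z_mem_jacobson R n)
    intro f _
    obtain ⟨x, hx⟩ := hφ (ψ.symm (pi0 R n m f))
    have hker : f - θ x ∈ LinearMap.ker (pi0 R n m) := by
      rw [LinearMap.mem_ker, map_sub, hθ', hx, ψ.apply_symm_apply]
      exact sub_self ((pi0 R n m) f)
    have : f = θ x + (f - θ x) := by abel
    rw [this]
    exact Submodule.add_mem_sup ⟨x, rfl⟩ (ker_pi0_le R n m hker)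
  -- section
  obtain ⟨σ', hσ'⟩ := Module.projective_lifting_property θ LinearMap.id hsurj
  have hσ'' : ∀ g, θ (σ' g) = g := fun g => by
    have := congrArg (fun l => l g) hσ'
    simpa using this
  -- θ injective
  have hstep : ∀ k : ℕ, ∀ f ∈ LinearMap.ker θ, ∃ f' ∈ LinearMap.ker θ, f = (z R n) ^ k • f' := by
    intro k
    induction k with
    | zero => intro f hf; exact ⟨f, hf, by simp⟩
    | succ k ih =>
      intro f hf
      obtain ⟨f', hf', rfl⟩ := ih f hf
      have h0 : φ f' = 0 := by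
        apply ψ.injective
        rw [← hθ', LinearMap.mem_ker.1 hf', map_zero, map_zero]
      have hmem := hφz f' (by rw [h0]; exact Submodule.zero_mem _)
      obtain ⟨f₁, hf₁⟩ := hmem
      simp only [pow_one, LinearMap.smul_apply, LinearMap.id_coe, id_eq] at hf₁
      refine ⟨f₁ - σ' (θ f₁), ?_, ?_⟩
      · rw [LinearMap.mem_ker, map_sub, hσ'', sub_self]
      · have h1 : z R n • (f₁ - σ' (θ f₁)) = f' := by
          rw [smul_sub, ← map_smul, ← map_smul, hf₁, LinearMap.mem_ker.1 hf', map_zero, sub_zero]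
        rw [pow_succ, ← h1]
        exact (mul_smul (z R n ^ k) (z R n) (f₁ - σ' (θ f₁))).symm
  have hinj : Function.Injective θ := by
    rw [← LinearMap.ker_eq_bot, Submodule.eq_bot_iff]
    intro f hf
    obtain ⟨f', -, rfl⟩ := hstep n f hf
    rw [z_pow_n]
    exact zero_smul (Rn R n) f'
  let Θ : (Fin r → Rn R n) ≃ₗ[Rn R n] F0 R n m := LinearEquiv.ofBijective θ ⟨hinj, hsurj⟩
  have hmap : (LinearMap.ker φ).map (Θ : (Fin r → Rn R n) →ₗ[Rn R n] F0 R n m) =
      LinearMap.ker (pi0 R n m) := by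
    ext g
    constructor
    · rintro ⟨f, hf, rfl⟩
      rw [LinearMap.mem_ker]
      change pi0 R n m (θ f) = 0
      rw [hθ', LinearMap.mem_ker.1 hf, map_zero]
    · intro hg
      obtain ⟨f, rfl⟩ := hsurj g
      refine ⟨f, ?_, rfl⟩
      rw [SetLike.mem_coe, LinearMap.mem_ker]
      apply ψ.injective
      rw [← hθ', LinearMap.mem_ker.1 hg, map_zero]
  exact ⟨((Θ.submoduleMap (LinearMap.ker φ)).trans (LinearEquiv.ofEq _ _ hmap)).trans
    ((kerPi0Equiv R n m).trans (modelEquiv R n m))⟩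

end Groth.Agent.Helper26.QFKer
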