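import Mathlib

namespace Groth.Agent.Helper26.QFLocus1

open PrimeSpectrum

variable {R S : Type*} [CommRing R] [CommRing S] [Algebra R S]

/-- The quasi-finite locus. -/
def qfLocus (R S : Type*) [CommRing R] [CommRing S] [Algebra R S] : Set (PrimeSpectrum S) :=
  {q | Algebra.QuasiFiniteAt R q.asIdeal}

theorem isOpen_qfLocus [Algebra.FiniteType R S] : IsOpen (qfLocus R S) := by
  rw [isOpen_iff_forall_mem_open]
  intro p hp
  have hp' : Algebra.QuasiFiniteAt R p.asIdeal := hp
  have hZ : Algebra.ZariskisMainProperty R p.asIdeal := .of_finiteType _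
  obtain ⟨r, hrp, hr⟩ := Algebra.zariskisMainProperty_iff'.1 hZ
  refine ⟨basicOpen r, ?_, (basicOpen r).isOpen, hrp⟩
  intro q hq
  have hZq : Algebra.ZariskisMainProperty R q.asIdeal :=
    Algebra.zariskisMainProperty_iff'.2 ⟨r, hq, hr⟩
  exact hZq.quasiFiniteAt

theorem quasiFinite_of_forall [Algebra.FiniteType R S]
    (h : ∀ q : PrimeSpectrum S, Algebra.QuasiFiniteAt R q.asIdeal) : Algebra.QuasiFinite R S := by
  rw [Algebra.QuasiFinite.iff_finite_comap_preimage_singleton]
  intro x
  have hcomp : CompactSpace (comap (algebraMap R S) ⁻¹' {x}) :=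
    (PrimeSpectrum.preimageHomeomorphFiber R S x).symm.compactSpace
  have hdisc : DiscreteTopology (comap (algebraMap R S) ⁻¹' {x}) := by
    rw [discreteTopology_iff_isOpen_singleton]
    rintro ⟨q, hq⟩
    have hq' : q.comap (algebraMap R S) = x := hq
    subst hq'
    exact (Algebra.quasiFiniteAt_iff_isOpen_singleton_fiber q).1 (h q)
  have : Finite (comap (algebraMap R S) ⁻¹' {x}) := finite_of_compact_of_discrete
  exact Set.toFinite _

theorem quasiFinite_away [Algebra.FiniteType R S] (f : S)
    (hf : (basicOpen f : Set (PrimeSpectrum S)) ⊆ qfLocus R S)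
    (S' : Type*) [CommRing S'] [Algebra S S'] [Algebra R S'] [IsScalarTower R S S']
    [IsLocalization.Away f S'] : Algebra.QuasiFinite R S' := by
  have : Algebra.FiniteType S S' := IsLocalization.finiteType_of_monoid_fg (Submonoid.powers f) S'
  have : Algebra.FiniteType R S' := .trans ‹Algebra.FiniteType R S› ‹_›
  refine quasiFinite_of_forall fun q' => ?_
  have hq : (q'.comap (algebraMap S S')) ∈ (basicOpen f : Set (PrimeSpectrum S)) := by
    rw [← PrimeSpectrum.localization_away_comap_range S' f]
    exact ⟨q', rfl⟩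
  have hqf : Algebra.QuasiFiniteAt R (q'.comap (algebraMap S S')).asIdeal := hf hq
  have : q'.asIdeal.LiesOver (q'.comap (algebraMap S S')).asIdeal := ⟨rfl⟩
  exact Algebra.QuasiFiniteAt.of_surjectiveOnStalks_of_liesOver
    (q'.comap (algebraMap S S')).asIdeal
    (RingHom.surjectiveOnStalks_of_isLocalization (Submonoid.powers f) S') q'.asIdeal

end Groth.Agent.Helper26.QFLocus1
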