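import Mathlib

set_option autoImplicit false
universe u
open Polynomial

namespace Groth.Agent.Helper26.QuadInt

variable {R : Type u} [CommRing R] (h : R[X]) (S : Submonoid R)

theorem integral_of_isUnit 
    (hu : IsUnit (algebraMap R (Localization S) h.leadingCoeff)) :
    Algebra.IsIntegral (Localization S)
      (Localization (Algebra.algebraMapSubmonoid (AdjoinRoot h) S)) := by
  rcases subsingleton_or_nontrivial (Localization S) with hs | hnt
  · have : Subsingleton (Localization (Algebra.algebraMapSubmonoid (AdjoinRoot h) S)) := by
      have h01 : (0 : Localization S) = 1 := Subsingleton.elim _ _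
      have := congrArg (algebraMap (Localization S)
        (Localization (Algebra.algebraMapSubmonoid (AdjoinRoot h) S))) h01
      rw [map_zero, map_one] at this
      exact subsingleton_of_zero_eq_one this
    constructor
    intro x
    rw [Subsingleton.elim x 0]
    exact isIntegral_zero
  obtain ⟨u, hu⟩ := hu.exists_left_inv
  -- the image of the root is integral
  have hroot : IsIntegral (Localization S) (algebraMap (AdjoinRoot h)
      (Localization (Algebra.algebraMapSubmonoid (AdjoinRoot h) S)) (AdjoinRoot.root h)) := by
    refine ⟨C u * h.map (algebraMap R (Localization S)), ?_, ?_⟩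
    · apply Polynomial.monic_C_mul_of_mul_leadingCoeff_eq_one
      rw [Polynomial.leadingCoeff_map_of_leadingCoeff_ne_zero]
      · exact hu
      · intro h0
        rw [h0, mul_zero] at hu
        exact zero_ne_one hu
    · have h1 : Polynomial.aeval (algebraMap (AdjoinRoot h)
          (Localization (Algebra.algebraMapSubmonoid (AdjoinRoot h) S)) (AdjoinRoot.root h))
          (h.map (algebraMap R (Localization S))) = 0 := by
        rw [Polynomial.aeval_map_algebraMap, Polynomial.aeval_algebraMap_apply,
          AdjoinRoot.aeval_eq, AdjoinRoot.mk_self, map_zero]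
      rw [← Polynomial.aeval_def, map_mul, h1, mul_zero]
  have hall : ∀ y : AdjoinRoot h, algebraMap (AdjoinRoot h)
      (Localization (Algebra.algebraMapSubmonoid (AdjoinRoot h) S)) y ∈
      integralClosure (Localization S)
        (Localization (Algebra.algebraMapSubmonoid (AdjoinRoot h) S)) := by
    intro y
    induction y using AdjoinRoot.induction_on with
    | ih p =>
      rw [← AdjoinRoot.aeval_eq, ← Polynomial.aeval_algebraMap_apply,
        ← Polynomial.aeval_map_algebraMap (Localization S)]
      have := Subalgebra.aeval_coe (integralClosure (Localization S)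
        (Localization (Algebra.algebraMapSubmonoid (AdjoinRoot h) S))) ⟨_, hroot⟩
        (p.map (algebraMap R (Localization S)))
      rw [this]
      exact Subtype.prop _
  constructor
  intro x
  obtain ⟨y, s, rfl⟩ := IsLocalization.exists_mk'_eq (Algebra.algebraMapSubmonoid (AdjoinRoot h) S) x
  obtain ⟨s, s0, hs0, rfl⟩ := s
  have key : IsLocalization.mk' (Localization (Algebra.algebraMapSubmonoid (AdjoinRoot h) S)) y
      (⟨algebraMap R (AdjoinRoot h) s0, s0, hs0, rfl⟩ : Algebra.algebraMapSubmonoid (AdjoinRoot h) S)
      = algebraMap (Localization S) (Localization (Algebra.algebraMapSubmonoid (AdjoinRoot h) S))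
        (IsLocalization.mk' (Localization S) 1 (⟨s0, hs0⟩ : S)) *
        algebraMap (AdjoinRoot h) (Localization (Algebra.algebraMapSubmonoid (AdjoinRoot h) S)) y := by
    rw [IsLocalization.mk'_eq_iff_eq_mul]
    rw [mul_assoc, mul_comm (algebraMap (AdjoinRoot h) _ y), ← mul_assoc]
    rw [← IsScalarTower.algebraMap_apply R (AdjoinRoot h), 
      IsScalarTower.algebraMap_apply R (Localization S), ← map_mul, IsLocalization.mk'_spec,
      map_one, map_one, one_mul]
  exact key ▸ (IsIntegral.mul isIntegral_algebraMap (hall y))

end Groth.Agent.Helper26.QuadInt
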