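import Mathlib

set_option autoImplicit false
universe u
open Polynomial

namespace Groth.Agent.Helper26.QuadInt

variable {R : Type u} [CommRing R] [IsDomain R] (h : R[X]) (S : Submonoid R)

theorem isUnit_of_integral
    (hint : Algebra.IsIntegral (Localization S)
      (Localization (Algebra.algebraMapSubmonoid (AdjoinRoot h) S))) :
    IsUnit (algebraMap R (Localization S) h.leadingCoeff) := by
  by_cases h0 : (0 : R) ∈ S
  · have : Subsingleton (Localization S) := IsLocalization.subsingleton h0
    exact isUnit_of_subsingleton _
  have hS : S ≤ nonZeroDivisors R := by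
    intro s hs
    rw [mem_nonZeroDivisors_iff_ne_zero]
    rintro rfl
    exact h0 hs
  have : IsDomain (Localization S) := IsLocalization.isDomain_localization hS
  have hinj : Function.Injective (algebraMap R (Localization S)) := IsLocalization.injective _ hS
  obtain ⟨p, hpm, hp0⟩ := hint.isIntegral (algebraMap (AdjoinRoot h)
      (Localization (Algebra.algebraMapSubmonoid (AdjoinRoot h) S)) (AdjoinRoot.root h))
  rw [← Polynomial.aeval_def] at hp0
  -- clear denominators
  obtain ⟨b0, hb0, hb⟩ := IsLocalization.integerNormalization_spec S p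
  have h1 := IsLocalization.integerNormalization_aeval_eq_zero S p hp0
  rw [Polynomial.aeval_algebraMap_apply, AdjoinRoot.aeval_eq,
    IsLocalization.map_eq_zero_iff (Algebra.algebraMapSubmonoid (AdjoinRoot h) S)] at h1
  obtain ⟨⟨t, t0, ht0, rfl⟩, ht⟩ := h1
  have h2 : h ∣ C t0 * IsLocalization.integerNormalization S p := by
    rw [← AdjoinRoot.mk_eq_zero, map_mul, AdjoinRoot.mk_C]
    exact ht
  have h3 := Polynomial.map_dvd (algebraMap R (Localization S)) h2
  rw [Polynomial.map_mul, hb, Polynomial.map_C] at h3
  have hu : IsUnit (C (algebraMap R (Localization S) t0) * C (algebraMap R (Localization S) b0)) := by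
    rw [← C_mul]
    exact Polynomial.isUnit_C.2 ((IsLocalization.map_units _ (⟨t0, ht0⟩ : S)).mul
      (IsLocalization.map_units _ (⟨b0, hb0⟩ : S)))
  have h4 : h.map (algebraMap R (Localization S)) ∣ p := by
    rw [← hu.dvd_mul_left]
    convert h3 using 1
    rw [mul_assoc, ← Polynomial.smul_eq_C_mul (a := algebraMap R (Localization S) b0),
      algebraMap_smul]
  obtain ⟨q, hq⟩ := h4
  have h5 := congrArg Polynomial.leadingCoeff hq
  rw [Polynomial.leadingCoeff_mul, hpm.leadingCoeff, Polynomial.leadingCoeff_map_of_injective hinj]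
    at h5
  exact IsUnit.of_mul_eq_one _ h5.symm

end Groth.Agent.Helper26.QuadInt
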