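import Mathlib

set_option autoImplicit false
universe u
open Polynomial TensorProduct

namespace Groth.Agent.Helper26.QuadInt

variable {R : Type u} [CommRing R] [IsDomain R] (h : R[X])

theorem finrank_tensor (hne : h ≠ 0) :
    Module.finrank (FractionRing R) (TensorProduct R (FractionRing R) (AdjoinRoot h)) =
      h.natDegree := by
  let F := FractionRing R
  let q : (F ⊗[R] R)[X] := h.map (Algebra.TensorProduct.includeRight (R := R) (A := F) (B := R)).toRingHom
  let e1 : F ⊗[R] AdjoinRoot h ≃ₐ[F] AdjoinRoot q := AdjoinRoot.tensorAlgEquiv h q rfl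
  let f : (F ⊗[R] R) ≃ₐ[F] F := Algebra.TensorProduct.rid R F F
  let q' : F[X] := h.map (algebraMap R F)
  have hqq' : q.map (f : (F ⊗[R] R) →+* F) = q' := by
    simp only [q, q', Polynomial.map_map]
    congr 1
    ext r
    simp [f, Algebra.algebraMap_eq_smul_one]
  let e2 : AdjoinRoot q ≃ₐ[F] AdjoinRoot q' :=
    AdjoinRoot.mapAlgEquiv f q q' (by rw [← hqq'])
  have hq'ne : q' ≠ 0 := by
    intro h0
    apply hne
    exact (Polynomial.map_eq_zero_iff (IsFractionRing.injective R F)).1 h0
  have h1 : Module.finrank F (F ⊗[R] AdjoinRoot h) = Module.finrank F (AdjoinRoot q') :=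
    (e1.trans e2).toLinearEquiv.finrank_eq
  rw [h1, (AdjoinRoot.powerBasis hq'ne).finrank]
  simp only [AdjoinRoot.powerBasis_dim, q']
  exact Polynomial.natDegree_map_eq_of_injective (IsFractionRing.injective R F) h

end Groth.Agent.Helper26.QuadInt
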