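import Mathlib

set_option autoImplicit false
universe u v w
open CategoryTheory CategoryTheory.Limits AlgebraicGeometry TopCat

namespace Groth.Agent.Lib.Helper26.QuotRS

/-- Lemma A: descending a morphism of presheafed spaces along `h` with `h.c` iso. -/
theorem exists_psh_hom {C : Type u} [Category.{v} C] {X Y Z : PresheafedSpace.{_, _, w} C}
    (h : X ⟶ Y) [IsIso h.c] (v₀ : (Y : TopCat) ⟶ (Z : TopCat)) (u : X ⟶ Z)
    (hb : u.base = h.base ≫ v₀) :
    ∃ v : Y ⟶ Z, v.base = v₀ ∧ h ≫ v = u := by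
  obtain ⟨ub, uc⟩ := u
  dsimp at hb
  subst hb
  let F := Presheaf.pushforward C v₀
  let uc' : Z.presheaf ⟶ F.obj ((Presheaf.pushforward C h.base).obj X.presheaf) := uc
  refine ⟨⟨v₀, uc' ≫ F.map (inv h.c)⟩, rfl, ?_⟩
  refine PresheafedSpace.Hom.ext _ _ rfl ?_
  erw [Functor.whiskerRight_id', Category.comp_id]
  change (uc' ≫ F.map (inv h.c)) ≫ F.map h.c = uc'
  rw [Category.assoc, ← F.map_comp, IsIso.inv_hom_id, F.map_id, Category.comp_id]

end Groth.Agent.Lib.Helper26.QuotRS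

namespace Groth.Agent.Lib.Helper26.QuotRS

/-- Lemma B: locality of the stalk maps of the descended morphism. -/
theorem isLocalHom_of_comp_eq {U V W : Scheme.{u}} (h : U ⟶ V) (u' : U ⟶ W)
    (vP : V.toPresheafedSpace ⟶ W.toPresheafedSpace)
    (hcomp : (h.toLRSHom.toHom : U.toPresheafedSpace ⟶ V.toPresheafedSpace) ≫ vP
      = (u'.toLRSHom.toHom : U.toPresheafedSpace ⟶ W.toPresheafedSpace))
    (x : U) : IsLocalHom (vP.stalkMap (h.base x)).hom := by
  have h1 := PresheafedSpace.stalkMap.congr_hom _ _ hcomp x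
  rw [PresheafedSpace.stalkMap.comp] at h1
  constructor
  intro a ha
  have hu : IsLocalHom ((u'.toLRSHom.toHom : U.toPresheafedSpace ⟶ W.toPresheafedSpace).stalkMap x).hom :=
    u'.toLRSHom.prop x
  have e : W.presheaf.stalk (((h.toLRSHom.toHom : U.toPresheafedSpace ⟶ V.toPresheafedSpace) ≫ vP).base x) = W.presheaf.stalk ((u'.toLRSHom.toHom : U.toPresheafedSpace ⟶ W.toPresheafedSpace).base x) := by rw [hcomp]
  have h2 : ((h.toLRSHom.toHom : U.toPresheafedSpace ⟶ V.toPresheafedSpace).stalkMap x).hom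
      ((vP.stalkMap (h.base x)).hom a) =
      ((u'.toLRSHom.toHom : U.toPresheafedSpace ⟶ W.toPresheafedSpace).stalkMap x).hom
        ((eqToHom e).hom a) := congrArg (fun φ => φ.hom a) h1
  have h3 : IsUnit (((h.toLRSHom.toHom : U.toPresheafedSpace ⟶ V.toPresheafedSpace).stalkMap x).hom
      ((vP.stalkMap (h.base x)).hom a)) := ha.map _
  rw [h2] at h3
  have h4 := hu.map_nonunit _ h3
  have := _root_.isLocalHom_of_isIso (eqToHom e)
  exact this.map_nonunit _ h4

end Groth.Agent.Lib.Helper26.QuotRS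

namespace Groth.Agent.Lib.Helper26.QuotRS

theorem existence {U V : Scheme.{u}} (h : U ⟶ V) [Surjective h]
    [IsIso h.c] (hq : Topology.IsQuotientMap h.base) (W : Scheme.{u})
    (u' : U ⟶ W) (hconst : ∀ x y : U, h.base x = h.base y → u'.base x = u'.base y) :
    ∃ v : V ⟶ W, h ≫ v = u' := by
  let v₀ : (V : TopCat) ⟶ (W : TopCat) :=
    TopCat.ofHom (hq.lift u'.base.hom (fun a b hab => hconst a b hab))
  have hb : u'.base = h.base ≫ v₀ := by
    apply TopCat.hom_ext
    exact (hq.lift_comp u'.base.hom (fun a b hab => hconst a b hab)).symm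
  obtain ⟨vP, hvb, hvc⟩ := exists_psh_hom
    (h.toLRSHom.toHom : U.toPresheafedSpace ⟶ V.toPresheafedSpace) v₀
    (u'.toLRSHom.toHom : U.toPresheafedSpace ⟶ W.toPresheafedSpace) hb
  have hloc : ∀ y : V, IsLocalHom (vP.stalkMap y).hom := by
    intro y
    obtain ⟨x, rfl⟩ := h.surjective y
    exact isLocalHom_of_comp_eq h u' vP hvc x
  let v : V ⟶ W := ⟨⟨vP, hloc⟩⟩
  refine ⟨v, ?_⟩
  apply Scheme.Hom.ext'
  apply LocallyRingedSpace.Hom.ext'
  exact hvc

end Groth.Agent.Lib.Helper26.QuotRS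

namespace Groth.Agent.Lib.Helper26.QuotRS

set_option backward.isDefEq.respectTransparency false in
theorem uniqueness {U V : Scheme.{u}} (h : U ⟶ V) [Surjective h]
    [IsIso h.c] (W : Scheme.{u}) (v₁ v₂ : V ⟶ W) (heq : h ≫ v₁ = h ≫ v₂) : v₁ = v₂ := by
  have hb : v₁.base = v₂.base := by
    apply TopCat.hom_ext
    ext y
    obtain ⟨x, rfl⟩ := h.surjective y
    exact congrArg (fun f : U ⟶ W => f.base x) heq
  refine Scheme.Hom.ext hb (fun O => ?_)
  have h1 := Scheme.Hom.congr_app heq O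
  rw [Scheme.Hom.comp_app, Scheme.Hom.comp_app] at h1
  have hiso : IsIso (h.app (v₂ ⁻¹ᵁ O)) := NatIso.isIso_app_of_isIso h.c _
  rw [← cancel_mono (h.app (v₂ ⁻¹ᵁ O)), Category.assoc, h.naturality, ← Category.assoc, h1,
    Category.assoc, Category.assoc, ← Functor.map_comp]
  have hid : ∀ (A : (TopologicalSpace.Opens U)ᵒᵖ) (f : A ⟶ A), U.presheaf.map f = 𝟙 _ := by
    intro A f
    have : f = 𝟙 A := Subsingleton.elim _ _
    rw [this, U.presheaf.map_id]
  rw [hid, Category.comp_id]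

end Groth.Agent.Lib.Helper26.QuotRS

namespace Groth.Agent.Lib.Helper26.QuotRS

theorem main {U V : Scheme.{u}} (h : U ⟶ V) [Surjective h]
    [IsIso h.c] (hq : Topology.IsQuotientMap h.base) (W : Scheme.{u}) :
    (∀ v₁ v₂ : V ⟶ W, h ≫ v₁ = h ≫ v₂ → v₁ = v₂) ∧
      ∀ u : U ⟶ W, (∀ x y : U, h.base x = h.base y → u.base x = u.base y) → ∃ v : V ⟶ W, h ≫ v = u :=
  ⟨fun v₁ v₂ heq => uniqueness h W v₁ v₂ heq, fun u hu => existence h hq W u hu⟩

end Groth.Agent.Lib.Helper26.QuotRS
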