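import Mathlib

/-! Rank–nullity helpers over a domain `R` for modules over an `R`-algebra `A`. -/

set_option autoImplicit false

namespace Groth.Agent.Helper26.RankAux

variable {R A M : Type*} [CommRing R] [IsDomain R] [CommRing A] [AddCommGroup M] [Module A M] [Module R M]
  [Algebra R A] [IsScalarTower R A M] [Module.Finite R M]

omit [IsDomain R] [Module.Finite R M] in
lemma finite_sub (P : Submodule A M) [IsNoetherianRing R] [Module.Finite R M] : Module.Finite R ↥P := by
  have hinj : Function.Injective (P.subtype.restrictScalars R) := Subtype.val_injective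
  exact Module.Finite.of_injective _ hinj

lemma quot_add [IsNoetherianRing R] (P Q : Submodule A M) (h : P ≤ Q) :
    Module.finrank R (↥Q ⧸ Submodule.comap Q.subtype P) + Module.finrank R ↥P = Module.finrank R ↥Q := by
  have : Module.Finite R ↥Q := finite_sub Q
  have h1 : Module.finrank R (↥Q ⧸ Submodule.comap Q.subtype P) +
      Module.finrank R ↥(Submodule.comap Q.subtype P) = Module.finrank R ↥Q :=
    ((Submodule.comap Q.subtype P).restrictScalars R).finrank_quotient_add_finrank
  have h2 : Module.finrank R ↥(Submodule.comap Q.subtype P) = Module.finrank R ↥P :=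
    ((Submodule.comapSubtypeEquivOfLe h).restrictScalars R).finrank_eq
  omega

lemma ker_add_range (φ : M →ₗ[A] M) :
    Module.finrank R ↥(LinearMap.ker φ) + Module.finrank R ↥(LinearMap.range φ) = Module.finrank R M := by
  have h1 : Module.finrank R (M ⧸ LinearMap.ker φ) + Module.finrank R ↥(LinearMap.ker φ) = Module.finrank R M :=
    ((LinearMap.ker φ).restrictScalars R).finrank_quotient_add_finrank
  have h2 : Module.finrank R (M ⧸ LinearMap.ker φ) = Module.finrank R ↥(LinearMap.range φ) :=
    (φ.quotKerEquivRange.restrictScalars R).finrank_eq
  omega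

end Groth.Agent.Helper26.RankAux
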