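import Mathlib
import Groth.Prelude.Def_TorSh
import Groth.Prelude.Def_RefHull
import Groth.Agent.Lib.Helper5.QST1
import Groth.Agent.Lib.Helper3.PushStalk
import Groth.Agent.S2288

/-!
# Submodules of the sheaf of rational functions of an integral scheme
-/

set_option autoImplicit false
set_option linter.style.haveILetI false
set_option linter.unusedSectionVars false
universe u

open CategoryTheory CategoryTheory.Limits AlgebraicGeometry Opposite TopologicalSpace
open RefHull
open Groth.Agent.Helper5.QST

namespace Groth.Agent.Helper26.RatFun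

variable (X : Scheme.{u})

/-- the sheaf of rational functions at `x`: the pushforward of the structure sheaf of
`Spec O_{X,x}`. -/
noncomputable abbrev K (x : X) : X.Modules :=
  (Scheme.Modules.pushforward (X.fromSpecStalk x)).obj
    (Coh.structureModule (Spec (X.presheaf.stalk x)))

theorem K_eq (x : X) : K X x = G x (ModuleCat.of (X.presheaf.stalk x) (X.presheaf.stalk x)) := rfl

/-- `O_{X,x} ≃ (K x)_x`. -/
noncomputable def stalkKEquiv (x : X) :
    X.presheaf.stalk x ≃ₗ[X.presheaf.stalk x] (K X x).presheaf.stalk x :=
  LinearEquiv.ofBijective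
    { toFun := ηfun x (ModuleCat.of (X.presheaf.stalk x) (X.presheaf.stalk x))
      map_add' := ηfun_add x _
      map_smul' := ηfun_smul x _ }
    ⟨ηfun_injective x _, ηfun_surjective x _⟩

/-- germs at `x` of sections of `K x` over neighbourhoods of `x` are injective. -/
theorem germ_K_injective (x : X) (U : X.Opens) (hx : x ∈ U) :
    Function.Injective ((K X x).presheaf.germ U x hx) := by
  intro s t hst
  obtain ⟨a, rfl⟩ := (sec_bijective x (ModuleCat.of (X.presheaf.stalk x) (X.presheaf.stalk x))
    U hx).2 s
  obtain ⟨b, rfl⟩ := (sec_bijective x (ModuleCat.of (X.presheaf.stalk x) (X.presheaf.stalk x))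
    U hx).2 t
  have h1 := ηfun_eq x (ModuleCat.of (X.presheaf.stalk x) (X.presheaf.stalk x)) U hx a
  have h2 := ηfun_eq x (ModuleCat.of (X.presheaf.stalk x) (X.presheaf.stalk x)) U hx b
  have h3 : ηfun x (ModuleCat.of (X.presheaf.stalk x) (X.presheaf.stalk x)) a =
      ηfun x (ModuleCat.of (X.presheaf.stalk x) (X.presheaf.stalk x)) b := by
    rw [h1, h2]; exact hst
  rw [ηfun_injective x _ h3]

end Groth.Agent.Helper26.RatFun
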