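import Groth.Agent.Lib.Helper26.RatFun
import Groth.Agent.Lib.Helper13.QCohAss

set_option autoImplicit false
set_option linter.style.haveILetI false
set_option linter.unusedSectionVars false
universe u

open CategoryTheory CategoryTheory.Limits AlgebraicGeometry Opposite TopologicalSpace
open RefHull
open Groth.Agent.Helper5.QST

namespace Groth.Agent.Helper26.RatFun

theorem isTorsionFree_structureModule (Z : Scheme.{u}) :
    TorSh.IsTorsionFree (Coh.structureModule Z) := by
  intro z
  exact Function.Injective.moduleIsTorsionFree
    (Groth.Agent.Helper3.PushStalk.unitStalkEquiv Z z).symm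
    (Groth.Agent.Helper3.PushStalk.unitStalkEquiv Z z).symm.injective
    (fun r m => map_smul _ r m)

variable (X : Scheme.{u}) [IsIntegral X]

instance isDominant_fromSpecStalk_genericPoint :
    IsDominant (X.fromSpecStalk (genericPoint X)) := by
  refine ⟨?_⟩
  rw [DenseRange, Scheme.range_fromSpecStalk]
  have h1 : closure ({genericPoint X} : Set X) = Set.univ := genericPoint_spec X
  rw [dense_iff_closure_eq]
  apply Set.eq_univ_of_univ_subset
  rw [← h1]
  apply closure_mono
  intro y hy
  rw [Set.mem_singleton_iff] at hy
  subst hy
  exact specializes_rfl

theorem isTorsionFree_K : TorSh.IsTorsionFree (K X (genericPoint X)) := by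
  haveI : Coh.IsQCoh (Coh.structureModule (Spec (X.presheaf.stalk (genericPoint X)))) :=
    Groth.Agent.Helper13.QCoh.isQuasicoherent_unit _
  exact Groth.Agent.S2288.result (X.fromSpecStalk (genericPoint X)) _
    (isTorsionFree_structureModule _)

end Groth.Agent.Helper26.RatFun

namespace Groth.Agent.Helper26.RatFun

open Groth.Agent.Helper13.QCoh in
theorem main4356 (X : Scheme.{u}) [IsIntegral X] (G : X.Modules)
    (i : G ⟶ K X (genericPoint X)) [Mono i] (hG : ¬ Limits.IsZero G) :
    TorSh.IsTorsionFree G ∧
      Module.finrank (X.presheaf.stalk (genericPoint X))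
        (G.presheaf.stalk (genericPoint X)) = 1 := by
  have hinj : ∀ x, Function.Injective (stalkMapₗ i x) := by
    intro x
    exact (mono_iff_stalk_injective i).1 inferInstance x
  have happ : ∀ U : X.Opens, Function.Injective (i.app U) :=
    (mono_iff_app_injective i).1 inferInstance
  constructor
  · intro x
    haveI := isTorsionFree_K X x
    exact Function.Injective.moduleIsTorsionFree (stalkMapₗ i x) (hinj x)
      (fun r m => map_smul _ r m)
  · -- nontriviality of the generic stalk
    have hnt : Nontrivial (G.presheaf.stalk (genericPoint X)) := by
      by_contra hsub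
      rw [not_nontrivial_iff_subsingleton] at hsub
      apply hG
      rw [isZero_iff_stalk]
      intro x
      refine ⟨fun a b => ?_⟩
      have key : ∀ c : G.presheaf.stalk x, c = 0 := by
        intro c
        obtain ⟨U, hxU, s, rfl⟩ := TopCat.Presheaf.exists_germ_eq G.presheaf c
        have hηU : genericPoint X ∈ U :=
          ((genericPoint_spec X).mem_open_set_iff U.2).2 ⟨x, trivial, hxU⟩
        have h1 : G.presheaf.germ U (genericPoint X) hηU s = 0 := Subsingleton.elim _ _
        have h2 : (K X (genericPoint X)).presheaf.germ U (genericPoint X) hηU (i.app U s) =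
            (K X (genericPoint X)).presheaf.germ U (genericPoint X) hηU 0 := by
          rw [← stalkMap_germ, h1, map_zero, map_zero]
        have h3 : i.app U s = 0 := germ_K_injective X _ U hηU h2
        have h4 : s = 0 := happ U (by rw [h3, map_zero])
        rw [h4, map_zero]
      rw [key a, key b]
    letI : Field (X.presheaf.stalk (genericPoint X)) := inferInstanceAs (Field X.functionField)
    have e := stalkKEquiv X (genericPoint X)
    have hfin : Module.finrank (X.presheaf.stalk (genericPoint X))
        ((K X (genericPoint X)).presheaf.stalk (genericPoint X)) = 1 := by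
      rw [← e.finrank_eq]
      exact Module.finrank_self _
    haveI : Module.Finite (X.presheaf.stalk (genericPoint X))
        ((K X (genericPoint X)).presheaf.stalk (genericPoint X)) := Module.Finite.equiv e
    have hle := LinearMap.finrank_le_finrank_of_injective (hinj (genericPoint X))
    rw [hfin] at hle
    haveI : Module.Finite (X.presheaf.stalk (genericPoint X))
        (G.presheaf.stalk (genericPoint X)) :=
      Module.Finite.of_injective _ (hinj (genericPoint X))
    have hpos : 0 < Module.finrank (X.presheaf.stalk (genericPoint X))
        (G.presheaf.stalk (genericPoint X)) := Module.finrank_pos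
    omega

end Groth.Agent.Helper26.RatFun
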