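import Groth.Agent.Lib.Helper26.RatFun2
import Groth.Agent.Lib.Helper13.DirImgFull

set_option autoImplicit false
set_option linter.style.haveILetI false
set_option linter.unusedSectionVars false
universe u

open CategoryTheory CategoryTheory.Limits AlgebraicGeometry Opposite TopologicalSpace
open RefHull
open Groth.Agent.Helper5.QST
open Groth.Agent.Helper13.QCoh

namespace Groth.Agent.Helper26.RatFun

variable {X : Scheme.{u}} [IsIntegral X]

theorem gen_spz (x : X) : genericPoint X ⤳ x :=
  (genericPoint_spec X).specializes (Set.mem_univ x)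

theorem gen_mem {W : X.Opens} {x : X} (hx : x ∈ W) : genericPoint X ∈ W :=
  (gen_spz x).mem_open W.isOpen hx

theorem spec_germ (M : X.Modules) {W : X.Opens} (x : X) (hx : x ∈ W) (s : Γ(M, W)) :
    (M.presheaf.stalkSpecializes (gen_spz x)).hom (M.presheaf.germ W x hx s) =
      M.presheaf.germ W (genericPoint X) (gen_mem hx) s := by
  have h := TopCat.Presheaf.germ_stalkSpecializes M.presheaf hx (gen_spz x)
  rw [← h]
  rfl

theorem specO_germ {W : X.Opens} (x : X) (hx : x ∈ W) (s : Γ(X, W)) :
    (X.presheaf.stalkSpecializes (gen_spz x)).hom (X.presheaf.germ W x hx s) =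
      X.presheaf.germ W (genericPoint X) (gen_mem hx) s := by
  have h := TopCat.Presheaf.germ_stalkSpecializes X.presheaf hx (gen_spz x)
  rw [← h]
  rfl

theorem spec_smul (M : X.Modules) (x : X) (r : X.presheaf.stalk x) (v : M.presheaf.stalk x) :
    (M.presheaf.stalkSpecializes (gen_spz x)).hom (r • v) =
      (X.presheaf.stalkSpecializes (gen_spz x)).hom r •
        (M.presheaf.stalkSpecializes (gen_spz x)).hom v := by
  obtain ⟨Ua, ha, a, rfl⟩ := TopCat.Presheaf.exists_germ_eq X.presheaf r
  obtain ⟨Uv, hv, s, rfl⟩ := TopCat.Presheaf.exists_germ_eq M.presheaf v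
  have hW : x ∈ Ua ⊓ Uv := ⟨ha, hv⟩
  rw [← TopCat.Presheaf.germ_res_apply X.presheaf (homOfLE (inf_le_left : Ua ⊓ Uv ≤ Ua)) x hW,
    ← TopCat.Presheaf.germ_res_apply M.presheaf (homOfLE (inf_le_right : Ua ⊓ Uv ≤ Uv)) x hW,
    ← germ_smul, spec_germ, spec_germ, specO_germ, germ_smul]

/-- sections of a torsion-free quasi-coherent module on an integral scheme are determined by their
germ at the generic point. -/
theorem sec_eq_zero_of_germ_genericPoint (E : X.Modules) [E.IsQuasicoherent]
    (hTF : TorSh.IsTorsionFree E) {W : X.Opens} (s : Γ(E, W))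
    (h : ∀ hη : genericPoint X ∈ W, E.presheaf.germ W (genericPoint X) hη s = 0) :
    s = 0 := by
  apply TopCat.Presheaf.section_ext ⟨E.presheaf, E.isSheaf⟩ W
  intro x hx
  rw [map_zero]
  obtain ⟨_, ⟨U, hU, rfl⟩, hxU, hUW⟩ :=
    X.isBasis_affineOpens.exists_subset_of_mem_open hx W.2
  have hUW' : U ≤ W := hUW
  have hηU : genericPoint X ∈ U := gen_mem hxU
  set t : Γ(E, U) := E.presheaf.map (homOfLE hUW').op s with ht
  have htη : E.presheaf.germ U (genericPoint X) hηU t = 0 := by
    rw [ht, TopCat.Presheaf.germ_res_apply]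
    exact h (hUW' hηU)
  obtain ⟨b, hb, hbt⟩ := exists_smul_eq_zero_of_germ_eq_zero E hU (genericPoint X) hηU t htη
  have hb0 : b ≠ 0 := by
    intro h0
    rw [h0, Scheme.basicOpen_zero] at hb
    exact hb
  have hbx : X.presheaf.germ U x hxU b ≠ 0 := by
    intro h0
    apply hb0
    apply germ_injective_of_isIntegral X x hxU
    rw [h0, map_zero]
  have h1 : X.presheaf.germ U x hxU b • E.presheaf.germ U x hxU t = 0 := by
    rw [← germ_smul, hbt, map_zero]
  have h2 : E.presheaf.germ U x hxU t = 0 :=
    ((hTF x).isSMulRegular (IsRegular.of_ne_zero hbx)).right_eq_zero_of_smul h1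
  rw [← TopCat.Presheaf.germ_res_apply E.presheaf (homOfLE hUW') x hxU s]
  exact h2

section Embed

variable (X)

/-- shorthand: the module `R` over `R = O_{X,η}`. -/
noncomputable abbrev RR : ModuleCat.{u} (X.presheaf.stalk (genericPoint X)) :=
  ModuleCat.of (X.presheaf.stalk (genericPoint X)) (X.presheaf.stalk (genericPoint X))

theorem mem_top' (y : X) : y ∈ (⊤ : X.Opens) := trivial

/-- the constant section of `K` with value `a`. -/
noncomputable def ksec (U : X.Opens) (a : X.presheaf.stalk (genericPoint X)) :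
    Γ(K X (genericPoint X), U) :=
  sec (genericPoint X) (RR X) U a

theorem ksec_add (U : X.Opens) (a b : X.presheaf.stalk (genericPoint X)) :
    ksec X U (a + b) = ksec X U a + ksec X U b :=
  sec_add (genericPoint X) (RR X) U a b

theorem ksec_zero (U : X.Opens) : ksec X U 0 = 0 :=
  map_zero (tilde.toOpen (RR X) ((X.fromSpecStalk (genericPoint X)) ⁻¹ᵁ U)).hom

theorem ksec_res {U V : X.Opens} (i : V ⟶ U) (a : X.presheaf.stalk (genericPoint X)) :
    (K X (genericPoint X)).presheaf.map i.op (ksec X U a) = ksec X V a := rfl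

theorem ksec_smul (U : X.Opens) (hη : genericPoint X ∈ U) (r : Γ(X, U))
    (a : X.presheaf.stalk (genericPoint X)) :
    ksec X U (X.presheaf.germ U (genericPoint X) hη r * a) = r • ksec X U a :=
  sec_smul (genericPoint X) (RR X) U hη r a

/-- the "constant" germ: `R → (K η)_y`. -/
noncomputable def cst (y : X) (a : X.presheaf.stalk (genericPoint X)) :
    (K X (genericPoint X)).presheaf.stalk y :=
  (K X (genericPoint X)).presheaf.germ ⊤ y (mem_top' X y) (ksec X ⊤ a)

theorem cst_eq (y : X) (U : X.Opens) (hy : y ∈ U) (a : X.presheaf.stalk (genericPoint X)) :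
    cst X y a = (K X (genericPoint X)).presheaf.germ U y hy (ksec X U a) :=
  (TopCat.Presheaf.germ_res_apply (K X (genericPoint X)).presheaf (homOfLE le_top : U ⟶ ⊤) y hy
    (ksec X ⊤ a)).symm

theorem cst_add (y : X) (a b : X.presheaf.stalk (genericPoint X)) :
    cst X y (a + b) = cst X y a + cst X y b := by
  unfold cst
  rw [ksec_add, map_add]

theorem cst_zero (y : X) : cst X y 0 = 0 := by
  unfold cst
  rw [ksec_zero, map_zero]

theorem cst_smul (y : X) (r : X.presheaf.stalk y) (a : X.presheaf.stalk (genericPoint X)) :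
    cst X y ((X.presheaf.stalkSpecializes (gen_spz y)).hom r * a) = r • cst X y a := by
  obtain ⟨U, hy, r₀, rfl⟩ := TopCat.Presheaf.exists_germ_eq X.presheaf r
  rw [specO_germ, cst_eq X y U hy, cst_eq X y U hy, ksec_smul X U (gen_mem hy) r₀ a, germ_smul]

theorem cst_generic_injective : Function.Injective (cst X (genericPoint X)) :=
  ηfun_injective (genericPoint X) (RR X)

variable {X}

/-- the family of stalk maps `F_y → F_η → R → K_y`. -/
noncomputable def fam (F : X.Modules)
    (φ : F.presheaf.stalk (genericPoint X) →ₗ[X.presheaf.stalk (genericPoint X)]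
      X.presheaf.stalk (genericPoint X)) (y : X) :
    StalkHom F (K X (genericPoint X)) y where
  toFun m := cst X y (φ ((F.presheaf.stalkSpecializes (gen_spz y)).hom m))
  map_add' m m' := by
    rw [map_add, map_add, cst_add]
  map_smul' r m := by
    rw [spec_smul, map_smul, smul_eq_mul, cst_smul]
    rfl

theorem fam_apply (F : X.Modules)
    (φ : F.presheaf.stalk (genericPoint X) →ₗ[X.presheaf.stalk (genericPoint X)]
      X.presheaf.stalk (genericPoint X)) (y : X) (m : F.presheaf.stalk y) :
    fam F φ y m = cst X y (φ ((F.presheaf.stalkSpecializes (gen_spz y)).hom m)) := rfl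

theorem fam_germ (F : X.Modules)
    (φ : F.presheaf.stalk (genericPoint X) →ₗ[X.presheaf.stalk (genericPoint X)]
      X.presheaf.stalk (genericPoint X)) (y : X) {V : X.Opens} (hy : y ∈ V) (m : Γ(F, V)) :
    fam F φ y (F.presheaf.germ V y hy m) =
      (K X (genericPoint X)).presheaf.germ V y hy
        (ksec X V (φ (F.presheaf.germ V (genericPoint X) (gen_mem hy) m))) := by
  rw [fam_apply, spec_germ, cst_eq X y V hy]

/-- the global section of the sheaf Hom defined by the family. -/
noncomputable def famSec (F : X.Modules)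
    (φ : F.presheaf.stalk (genericPoint X) →ₗ[X.presheaf.stalk (genericPoint X)]
      X.presheaf.stalk (genericPoint X)) : Γ(homSh F (K X (genericPoint X)), ⊤) :=
  ⟨fun y => fam F φ y.1, fun V _ m x =>
    ⟨V, x.2, 𝟙 V, ksec X V
      (φ (F.presheaf.germ V (genericPoint X) (gen_mem x.2) m)),
      fun y => fam_germ F φ y.1 y.2 m⟩⟩

/-- the morphism `F ⟶ K` defined by a linear form on the generic stalk. -/
noncomputable def embed (F : X.Modules)
    (φ : F.presheaf.stalk (genericPoint X) →ₗ[X.presheaf.stalk (genericPoint X)]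
      X.presheaf.stalk (genericPoint X)) : F ⟶ K X (genericPoint X) :=
  Groth.Agent.Helper13.DirImgFull.homOfSec (famSec F φ)

theorem germ_embed (F : X.Modules)
    (φ : F.presheaf.stalk (genericPoint X) →ₗ[X.presheaf.stalk (genericPoint X)]
      X.presheaf.stalk (genericPoint X)) {U : X.Opens} (m : Γ(F, U)) (y : X) (hy : y ∈ U) :
    (K X (genericPoint X)).presheaf.germ U y hy ((embed F φ).app U m) =
      fam F φ y (F.presheaf.germ U y hy m) :=
  Groth.Agent.Helper13.DirImgFull.germ_homOfSec (famSec F φ) m y hy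

theorem mono_embed (F : X.Modules) [F.IsQuasicoherent] (hF : TorSh.IsTorsionFree F)
    (φ : F.presheaf.stalk (genericPoint X) →ₗ[X.presheaf.stalk (genericPoint X)]
      X.presheaf.stalk (genericPoint X)) (hφ : Function.Injective φ) : Mono (embed F φ) := by
  rw [mono_iff_app_injective]
  intro U
  rw [injective_iff_map_eq_zero]
  intro s hs
  apply sec_eq_zero_of_germ_genericPoint F hF s
  intro hη
  have h1 := germ_embed F φ s (genericPoint X) hη
  rw [hs, map_zero, fam_apply, spec_germ] at h1
  have h3 : cst X (genericPoint X) (φ (F.presheaf.germ U (genericPoint X) hη s)) =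
      cst X (genericPoint X) 0 := by
    rw [← h1, cst_zero]
  have h4 := cst_generic_injective X h3
  exact hφ (by rw [h4, map_zero])

theorem main4350 (X : Scheme.{u}) [IsIntegral X] (F : X.Modules) [Coh.IsQCoh F]
    (hF : TorSh.IsTorsionFree F)
    (h1 : Module.finrank (X.presheaf.stalk (genericPoint X))
      (F.presheaf.stalk (genericPoint X)) = 1) :
    ∃ i : F ⟶ (Scheme.Modules.pushforward (X.fromSpecStalk (genericPoint X))).obj
        (Coh.structureModule (Spec (X.presheaf.stalk (genericPoint X)))), Mono i := by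
  letI : Field (X.presheaf.stalk (genericPoint X)) := inferInstanceAs (Field X.functionField)
  haveI : Module.Finite (X.presheaf.stalk (genericPoint X))
      (F.presheaf.stalk (genericPoint X)) :=
    Module.finite_of_finrank_pos (by rw [h1]; exact one_pos)
  have e : F.presheaf.stalk (genericPoint X) ≃ₗ[X.presheaf.stalk (genericPoint X)]
      X.presheaf.stalk (genericPoint X) :=
    LinearEquiv.ofFinrankEq _ _ (by rw [h1, Module.finrank_self])
  exact ⟨embed F e.toLinearMap, mono_embed F hF e.toLinearMap e.injective⟩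

end Embed

end Groth.Agent.Helper26.RatFun
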