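import Mathlib
import Groth.Agent.Lib.Helper26.Rees1

/-!
# Kernel of the Rees algebra presentation (helper26), final statement
-/

set_option autoImplicit false
universe u

namespace Groth.Agent.Helper26.Rees

open MvPolynomial

variable {A : Type u} [CommRing A]

theorem aeval_monomial_T {n : ℕ} (a : Fin n → A) (d : Fin n →₀ ℕ) (c : A) :
    MvPolynomial.aeval (R := A)
      (fun i : Fin n => Polynomial.C (a i) * (Polynomial.X : Polynomial A)) (monomial d c) =
      Polynomial.C (eval a (monomial d c)) * Polynomial.X ^ d.degree := by
  rw [aeval_monomial, eval_monomial, Finsupp.degree_apply, Finsupp.prod, Finsupp.prod]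
  simp only [mul_pow, Finset.prod_mul_distrib, Finset.prod_pow_eq_pow_sum, map_mul, map_prod,
    map_pow, Polynomial.algebraMap_eq]
  ring

theorem aeval_homogeneous_T {n : ℕ} (a : Fin n → A) (k : ℕ) (P : MvPolynomial (Fin n) A)
    (hP : P.IsHomogeneous k) :
    MvPolynomial.aeval (R := A)
      (fun i : Fin n => Polynomial.C (a i) * (Polynomial.X : Polynomial A)) P =
      Polynomial.C (eval a P) * Polynomial.X ^ k := by
  conv_lhs => rw [← P.support_sum_monomial_coeff]
  conv_rhs => rw [← P.support_sum_monomial_coeff]
  rw [map_sum, map_sum, map_sum, Finset.sum_mul]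
  refine Finset.sum_congr rfl fun d hd => ?_
  rw [aeval_monomial_T, Groth.Agent.Helper6.QReg.degree_of_mem_support hP hd]

theorem S0608 {n : ℕ} (a : Fin n → A)
    (ha : RingTheory.Sequence.IsWeaklyRegular A (List.ofFn a)) :
    RingHom.ker (MvPolynomial.aeval (R := A)
      (fun i : Fin n => Polynomial.C (a i) * (Polynomial.X : Polynomial A))) =
      Ideal.span {q : MvPolynomial (Fin n) A | ∃ i j : Fin n,
        q = MvPolynomial.C (a i) * MvPolynomial.X j - MvPolynomial.C (a j) * MvPolynomial.X i} := by
  apply le_antisymm
  · intro F hF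
    rw [RingHom.mem_ker] at hF
    have hsum := MvPolynomial.sum_homogeneousComponent F
    have key : ∀ m ∈ Finset.range (F.totalDegree + 1),
        eval a (homogeneousComponent m F) = 0 := by
      intro m hm
      have h1 : MvPolynomial.aeval (R := A)
          (fun i : Fin n => Polynomial.C (a i) * (Polynomial.X : Polynomial A)) F =
          ∑ k ∈ Finset.range (F.totalDegree + 1),
            Polynomial.C (eval a (homogeneousComponent k F)) * Polynomial.X ^ k := by
        conv_lhs => rw [← hsum]
        rw [map_sum]
        refine Finset.sum_congr rfl fun k _ => ?_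
        exact aeval_homogeneous_T a k _ (homogeneousComponent_isHomogeneous k F)
      have h2 := congrArg (fun p => Polynomial.coeff p m) h1
      simp only [Polynomial.finsetSum_coeff, Polynomial.coeff_C_mul, Polynomial.coeff_X_pow] at h2
      rw [show (MvPolynomial.aeval (R := A)
          (fun i : Fin n => Polynomial.C (a i) * (Polynomial.X : Polynomial A))) F = 0 from hF] at h2
      simp only [Polynomial.coeff_zero, mul_ite, mul_one, mul_zero] at h2
      rw [Finset.sum_ite_eq (Finset.range (F.totalDegree + 1)) m] at h2
      rw [if_pos hm] at h2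
      exact h2.symm
    rw [← hsum]
    refine Ideal.sum_mem _ fun m hm => ?_
    exact mem_J_of_eval_eq_zero n a ha m _ (homogeneousComponent_isHomogeneous m F) (key m hm)
  · rw [Ideal.span_le]
    rintro _ ⟨i, j, rfl⟩
    rw [SetLike.mem_coe, RingHom.mem_ker]
    simp only [map_sub, map_mul, aeval_C, aeval_X, Polynomial.algebraMap_eq]
    ring

end Groth.Agent.Helper26.Rees
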