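import Mathlib
import Groth.Prelude.Def_CInt
import Groth.Agent.Lib.Helper15.AlgSpCodim0
import Groth.Agent.Lib.Helper16.Sch.FibStalk

set_option autoImplicit false
set_option linter.style.haveILetI false
universe u

open AlgebraicGeometry CategoryTheory Limits IsLocalRing

namespace Groth.Agent.Helper26.RelCodim

section Alg

theorem map_max_le {R S : Type u} [CommRing R] [CommRing S] [IsLocalRing R] [IsLocalRing S]
    (f : R →+* S) [hf : IsLocalHom f] : (maximalIdeal R).map f ≤ maximalIdeal S := by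
  have h := (IsLocalRing.local_hom_TFAE f).out 0 2
  exact h.mp hf

theorem dim_quot_le {A₀ A B : Type u} [CommRing A₀] [CommRing A] [CommRing B]
    [IsLocalRing A₀] [IsLocalRing A] [IsLocalRing B] [IsNoetherianRing A] [IsNoetherianRing B]
    (φ : A₀ →+* A) (ψ : A →+* B) [IsLocalHom φ] [IsLocalHom ψ]
    (h0 : ringKrullDim (B ⧸ (maximalIdeal A).map ψ) ≤ 0) :
    ringKrullDim (B ⧸ (maximalIdeal A₀).map (ψ.comp φ)) ≤
      ringKrullDim (A ⧸ (maximalIdeal A₀).map φ) := by
  set I := (maximalIdeal A₀).map φ with hI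
  set J := (maximalIdeal A₀).map (ψ.comp φ) with hJ
  have hIJ : I ≤ J.comap ψ := by
    rw [hI, Ideal.map_le_iff_le_comap, Ideal.comap_comap]
    exact Ideal.le_comap_map
  have hIm : I ≤ maximalIdeal A := map_max_le φ
  have hJm : J ≤ maximalIdeal B := map_max_le (ψ.comp φ)
  have hψm : (maximalIdeal A).map ψ ≤ maximalIdeal B := map_max_le ψ
  haveI : Nontrivial (A ⧸ I) := Ideal.Quotient.nontrivial_iff.mpr
    (fun h => (maximalIdeal.isMaximal A).ne_top (top_le_iff.mp (h ▸ hIm)))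
  haveI : Nontrivial (B ⧸ J) := Ideal.Quotient.nontrivial_iff.mpr
    (fun h => (maximalIdeal.isMaximal B).ne_top (top_le_iff.mp (h ▸ hJm)))
  haveI : IsLocalRing (A ⧸ I) :=
    IsLocalRing.of_surjective' (Ideal.Quotient.mk I) Ideal.Quotient.mk_surjective
  haveI : IsLocalRing (B ⧸ J) :=
    IsLocalRing.of_surjective' (Ideal.Quotient.mk J) Ideal.Quotient.mk_surjective
  let ψb : A ⧸ I →+* B ⧸ J := Ideal.quotientMap J ψ hIJ
  letI : Algebra (A ⧸ I) (B ⧸ J) := ψb.toAlgebra
  set P := maximalIdeal (B ⧸ J) with hP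
  set p := P.comap ψb with hp
  haveI : p.IsPrime := Ideal.comap_isPrime ψb P
  haveI : P.LiesOver p := ⟨rfl⟩
  have key := Ideal.height_le_height_add_of_liesOver p P
  -- the last term vanishes
  have hmkJ : IsLocalHom (Ideal.Quotient.mk J) :=
    IsLocalHom.of_surjective _ Ideal.Quotient.mk_surjective
  have hmB : (maximalIdeal B).map (Ideal.Quotient.mk J) ≤ P := map_max_le (Ideal.Quotient.mk J)
  have hmem : ∀ a ∈ maximalIdeal A, Ideal.Quotient.mk I a ∈ p := by
    intro a ha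
    rw [hp, Ideal.mem_comap]
    change Ideal.quotientMap J ψ hIJ (Ideal.Quotient.mk I a) ∈ P
    rw [Ideal.quotientMap_mk]
    exact hmB (Ideal.mem_map_of_mem _ (hψm (Ideal.mem_map_of_mem _ ha)))
  set K := p.map (algebraMap (A ⧸ I) (B ⧸ J)) with hK
  have hKP : K ≤ P := by
    rw [hK, Ideal.map_le_iff_le_comap]
    exact le_rfl
  let θ : B ⧸ (maximalIdeal A).map ψ →+* (B ⧸ J) ⧸ K :=
    Ideal.Quotient.lift _ ((Ideal.Quotient.mk K).comp (Ideal.Quotient.mk J)) (by
      intro b hb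
      have : (maximalIdeal A).map ψ ≤
          RingHom.ker ((Ideal.Quotient.mk K).comp (Ideal.Quotient.mk J)) := by
        rw [Ideal.map_le_iff_le_comap]
        intro a ha
        rw [Ideal.mem_comap, RingHom.mem_ker, RingHom.comp_apply, Ideal.Quotient.eq_zero_iff_mem]
        have h1 : Ideal.Quotient.mk J (ψ a) = algebraMap (A ⧸ I) (B ⧸ J) (Ideal.Quotient.mk I a) := by
          change _ = Ideal.quotientMap J ψ hIJ (Ideal.Quotient.mk I a)
          rw [Ideal.quotientMap_mk]
        rw [h1]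
        exact Ideal.mem_map_of_mem _ (hmem a ha)
      exact this hb)
  have hθ : Function.Surjective θ := by
    apply Ideal.Quotient.lift_surjective_of_surjective
    exact Ideal.Quotient.mk_surjective.comp Ideal.Quotient.mk_surjective
  have hC : ringKrullDim ((B ⧸ J) ⧸ K) ≤ 0 := (ringKrullDim_le_of_surjective θ hθ).trans h0
  have hP'ne : P.map (Ideal.Quotient.mk K) ≠ ⊤ := by
    intro htop
    have h1 : (P.map (Ideal.Quotient.mk K)).comap (Ideal.Quotient.mk K) = P := by
      rw [Ideal.comap_map_of_surjective _ Ideal.Quotient.mk_surjective, ← RingHom.ker_eq_comap_bot,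
        Ideal.mk_ker]
      exact sup_eq_left.mpr hKP
    rw [htop, Ideal.comap_top] at h1
    exact (maximalIdeal.isMaximal (B ⧸ J)).ne_top h1.symm
  have hP'0 : (P.map (Ideal.Quotient.mk K)).height = 0 := by
    have h1 := (Ideal.height_le_ringKrullDim_of_ne_top hP'ne).trans hC
    have h2 : ((P.map (Ideal.Quotient.mk K)).height : WithBot ℕ∞) ≤ ((0 : ℕ∞) : WithBot ℕ∞) := h1
    exact le_antisymm (WithBot.coe_le_coe.mp h2) zero_le
  rw [hP'0, add_zero] at key
  have hpne : p ≠ ⊤ := Ideal.IsPrime.ne_top inferInstance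
  calc ringKrullDim (B ⧸ J) = (P.height : WithBot ℕ∞) :=
        (IsLocalRing.maximalIdeal_height_eq_ringKrullDim).symm
    _ ≤ (p.height : WithBot ℕ∞) := WithBot.coe_le_coe.mpr key
    _ ≤ ringKrullDim (A ⧸ I) := Ideal.height_le_ringKrullDim_of_ne_top hpne

end Alg

section Sch

open Groth.Agent.Helper16.FibStalk

variable {X X' S : Scheme.{u}}

theorem fibIdeal_comp (f : X ⟶ S) (g : X' ⟶ X) (y' : X') :
    fibIdeal (g ≫ f) y' =
      (maximalIdeal (S.presheaf.stalk (f (g y')))).map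
        ((g.stalkMap y').hom.comp (f.stalkMap (g y')).hom) := by
  rw [fibIdeal_def, Scheme.Hom.stalkMap_comp]
  rfl

theorem key [IsLocallyNoetherian X] [IsLocallyNoetherian X'] (f : X ⟶ S) (g : X' ⟶ X) (y' : X')
    (h0 : ringKrullDim (X'.presheaf.stalk y' ⧸ fibIdeal g y') ≤ 0) :
    ringKrullDim (CInt.fiberStalk (g ≫ f) y') ≤ ringKrullDim (CInt.fiberStalk f (g y')) := by
  rw [← ringKrullDim_eq_of_ringEquiv (fibStalkEquiv (g ≫ f) y'),
    ← ringKrullDim_eq_of_ringEquiv (fibStalkEquiv f (g y'))]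
  have h := dim_quot_le (f.stalkMap (g y')).hom (g.stalkMap y').hom h0
  rw [← fibIdeal_comp] at h
  exact h

theorem main [IsLocallyNoetherian X] [IsLocallyNoetherian X'] (f : X ⟶ S) (g : X' ⟶ X)
    [Surjective g] (Y : Set ↥X) :
    (⨅ y' : (fun x' => g x') ⁻¹' Y, ringKrullDim ↑(CInt.fiberStalk (g ≫ f) y'.1)) ≤
      ⨅ y : Y, ringKrullDim ↑(CInt.fiberStalk f y.1) := by
  refine le_iInf fun y => ?_
  obtain ⟨x', hx'⟩ := g.surjective y.1
  obtain ⟨η, -, hη⟩ := Groth.Agent.Helper15.exists_specializes_ringKrullDim_stalk_eq_zero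
    (g.fiber (g x')) (g.asFiber x')
  have hgy : g (g.fiberι (g x') η) = y.1 := (apply_fiberι g (g x') η).trans hx'
  have h0 : ringKrullDim (X'.presheaf.stalk (g.fiberι (g x') η) ⧸
      fibIdeal g (g.fiberι (g x') η)) ≤ 0 := by
    rw [ringKrullDim_eq_of_ringEquiv (quotEquivStalkFiberOfEq g (g x') η _ rfl), hη]
  have h1 := key f g (g.fiberι (g x') η) h0
  rw [hgy] at h1
  refine (iInf_le _ (⟨g.fiberι (g x') η, ?_⟩ : (fun x' => g x') ⁻¹' Y)).trans h1
  change g (g.fiberι (g x') η) ∈ Y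
  rw [hgy]
  exact y.2

end Sch

end Groth.Agent.Helper26.RelCodim
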