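import Mathlib
import Groth.Prelude.Def_CInt
import Groth.Agent.Lib.Helper15.AlgSpCodim0
import Groth.Agent.Lib.Helper15.SchemeDim
import Groth.Agent.Lib.Helper16.Sch.FibStalk
import Groth.Agent.Lib.Helper12.FlatModBC2
import Groth.Agent.Lib.Helper26.RelCodim

set_option autoImplicit false
set_option linter.style.haveILetI false
set_option linter.unusedVariables false
universe u

open AlgebraicGeometry CategoryTheory Limits IsLocalRing

namespace Groth.Agent.Helper26.RelCodim2

open Groth.Agent.Helper26.RelCodim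

section Alg

theorem dim_quot_le' {A B : Type u} [CommRing A] [CommRing B] [IsLocalRing A] [IsLocalRing B]
    [IsNoetherianRing A] [IsNoetherianRing B] (ψ : A →+* B) [IsLocalHom ψ]
    (I : Ideal A) (J : Ideal B) (hIm : I ≤ maximalIdeal A) (hJm : J ≤ maximalIdeal B)
    (hIJ : I ≤ J.comap ψ)
    (h0 : ringKrullDim (B ⧸ (maximalIdeal A).map ψ) ≤ 0) :
    ringKrullDim (B ⧸ J) ≤ ringKrullDim (A ⧸ I) := by
  have hψm : (maximalIdeal A).map ψ ≤ maximalIdeal B := map_max_le ψ
  haveI : Nontrivial (A ⧸ I) := Ideal.Quotient.nontrivial_iff.mpr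
    (fun h => (maximalIdeal.isMaximal A).ne_top (top_le_iff.mp (h ▸ hIm)))
  haveI : Nontrivial (B ⧸ J) := Ideal.Quotient.nontrivial_iff.mpr
    (fun h => (maximalIdeal.isMaximal B).ne_top (top_le_iff.mp (h ▸ hJm)))
  haveI : IsLocalRing (A ⧸ I) :=
    IsLocalRing.of_surjective' (Ideal.Quotient.mk I) Ideal.Quotient.mk_surjective
  haveI : IsLocalRing (B ⧸ J) :=
    IsLocalRing.of_surjective' (Ideal.Quotient.mk J) Ideal.Quotient.mk_surjective
  let ψb : A ⧸ I →+* B ⧸ J := Ideal.quotientMap J ψ hIJ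
  letI : Algebra (A ⧸ I) (B ⧸ J) := ψb.toAlgebra
  set P := maximalIdeal (B ⧸ J) with hP
  set p := P.comap ψb with hp
  haveI : p.IsPrime := Ideal.comap_isPrime ψb P
  haveI : P.LiesOver p := ⟨rfl⟩
  have key := Ideal.height_le_height_add_of_liesOver p P
  have hmkJ : IsLocalHom (Ideal.Quotient.mk J) :=
    IsLocalHom.of_surjective _ Ideal.Quotient.mk_surjective
  have hmB : (maximalIdeal B).map (Ideal.Quotient.mk J) ≤ P := map_max_le (Ideal.Quotient.mk J)
  have hmem : ∀ a ∈ maximalIdeal A, Ideal.Quotient.mk I a ∈ p := by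
    intro a ha
    rw [hp, Ideal.mem_comap]
    change Ideal.quotientMap J ψ hIJ (Ideal.Quotient.mk I a) ∈ P
    rw [Ideal.quotientMap_mk]
    exact hmB (Ideal.mem_map_of_mem _ (hψm (Ideal.mem_map_of_mem _ ha)))
  set K := p.map (algebraMap (A ⧸ I) (B ⧸ J)) with hK
  have hKP : K ≤ P := by
    rw [hK, Ideal.map_le_iff_le_comap]
    exact le_rfl
  let θ : B ⧸ (maximalIdeal A).map ψ →+* (B ⧸ J) ⧸ K :=
    Ideal.Quotient.lift _ ((Ideal.Quotient.mk K).comp (Ideal.Quotient.mk J)) (by
      intro b hb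
      have : (maximalIdeal A).map ψ ≤
          RingHom.ker ((Ideal.Quotient.mk K).comp (Ideal.Quotient.mk J)) := by
        rw [Ideal.map_le_iff_le_comap]
        intro a ha
        rw [Ideal.mem_comap, RingHom.mem_ker, RingHom.comp_apply, Ideal.Quotient.eq_zero_iff_mem]
        have h1 : Ideal.Quotient.mk J (ψ a) = algebraMap (A ⧸ I) (B ⧸ J) (Ideal.Quotient.mk I a) := by
          change _ = Ideal.quotientMap J ψ hIJ (Ideal.Quotient.mk I a)
          rw [Ideal.quotientMap_mk]
        rw [h1]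
        exact Ideal.mem_map_of_mem _ (hmem a ha)
      exact this hb)
  have hθ : Function.Surjective θ := by
    apply Ideal.Quotient.lift_surjective_of_surjective
    exact Ideal.Quotient.mk_surjective.comp Ideal.Quotient.mk_surjective
  have hC : ringKrullDim ((B ⧸ J) ⧸ K) ≤ 0 := (ringKrullDim_le_of_surjective θ hθ).trans h0
  have hP'ne : P.map (Ideal.Quotient.mk K) ≠ ⊤ := by
    intro htop
    have h1 : (P.map (Ideal.Quotient.mk K)).comap (Ideal.Quotient.mk K) = P := by
      rw [Ideal.comap_map_of_surjective _ Ideal.Quotient.mk_surjective, ← RingHom.ker_eq_comap_bot,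
        Ideal.mk_ker]
      exact sup_eq_left.mpr hKP
    rw [htop, Ideal.comap_top] at h1
    exact (maximalIdeal.isMaximal (B ⧸ J)).ne_top h1.symm
  have hP'0 : (P.map (Ideal.Quotient.mk K)).height = 0 := by
    have h1 := (Ideal.height_le_ringKrullDim_of_ne_top hP'ne).trans hC
    have h2 : ((P.map (Ideal.Quotient.mk K)).height : WithBot ℕ∞) ≤ ((0 : ℕ∞) : WithBot ℕ∞) := h1
    exact le_antisymm (WithBot.coe_le_coe.mp h2) zero_le
  rw [hP'0, add_zero] at key
  have hpne : p ≠ ⊤ := Ideal.IsPrime.ne_top inferInstance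
  calc ringKrullDim (B ⧸ J) = (P.height : WithBot ℕ∞) :=
        (IsLocalRing.maximalIdeal_height_eq_ringKrullDim).symm
    _ ≤ (p.height : WithBot ℕ∞) := WithBot.coe_le_coe.mpr key
    _ ≤ ringKrullDim (A ⧸ I) := Ideal.height_le_ringKrullDim_of_ne_top hpne

end Alg

section Sch

open Groth.Agent.Helper16.FibStalk Groth.Agent.Helper12.FlatModBC

variable {X S S' : Scheme.{u}}

/-- the map of fibres of a base change -/
noncomputable def fibBC (f : X ⟶ S) (g : S' ⟶ S) (s' : S') :
    (pullback.snd f g).fiber s' ⟶ f.fiber (g s') :=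
  pullback.map _ _ _ _ (pullback.fst f g) (Spec.map (g.residueFieldMap s')) g
    (IsPullback.of_hasPullback f g).w.symm (by simp)

theorem fibBC_fiberι (f : X ⟶ S) (g : S' ⟶ S) (s' : S') :
    fibBC f g s' ≫ f.fiberι (g s') = (pullback.snd f g).fiberι s' ≫ pullback.fst f g :=
  pullback.lift_fst _ _ _

theorem flat_of_isField {K L : Type u} [CommRing K] [CommRing L] (hK : IsField K) (φ : K →+* L) :
    φ.Flat := by
  letI := hK.toField
  letI := φ.toAlgebra
  exact (inferInstance : Module.Flat K L)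

theorem flat_SpecMap_field {K L : CommRingCat.{u}} (hK : IsField K) (φ : K ⟶ L) :
    Flat (Spec.map φ) := by
  rw [HasRingHomProperty.Spec_iff (P := @Flat)]
  exact flat_of_isField hK φ.hom

instance flat_fibBC (f : X ⟶ S) (g : S' ⟶ S) (s' : S') : Flat (fibBC f g s') := by
  have sq := isPullback_fiberToSpecResidueField_of_isPullback (IsPullback.of_hasPullback f g) s'
  haveI : Flat (Spec.map (g.residueFieldMap s')) :=
    flat_SpecMap_field (Field.toIsField (S.residueField (g s'))) _
  exact MorphismProperty.of_isPullback sq.flip inferInstance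

theorem part1_pt (f : X ⟶ S) (g : S' ⟶ S) (y' : ↥(pullback f g)) :
    ringKrullDim (CInt.fiberStalk f (pullback.fst f g y')) ≤
      ringKrullDim (CInt.fiberStalk (pullback.snd f g) y') := by
  set z := (pullback.snd f g).asFiber y' with hz
  have hx : f.fiberι (g (pullback.snd f g y')) (fibBC f g _ z) = pullback.fst f g y' := by
    rw [← Scheme.Hom.comp_apply, fibBC_fiberι, Scheme.Hom.comp_apply, hz,
      Scheme.Hom.fiberι_asFiber]
  rw [← ringKrullDim_eq_of_ringEquiv (fibStalkEquiv f (pullback.fst f g y')),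
    ringKrullDim_eq_of_ringEquiv (quotEquivStalkFiberOfEq f _ (fibBC f g _ z) _ hx)]
  exact Groth.Agent.Helper15.ringKrullDim_stalk_le_of_flat (fibBC f g _) z

theorem isLocalHom_gam (f : X ⟶ S) (g : S' ⟶ S) (y' : ↥(pullback f g)) :
    IsLocalHom (gam (IsPullback.of_hasPullback f g) y').hom := by
  rw [gam]
  infer_instance

theorem fibIdeal_le_comap (f : X ⟶ S) (g : S' ⟶ S) (y' : ↥(pullback f g)) :
    fibIdeal f (pullback.fst f g y') ≤
      (fibIdeal (pullback.snd f g) y').comap ((pullback.fst f g).stalkMap y').hom := by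
  rw [fibIdeal_def, Ideal.map_le_iff_le_comap]
  intro a ha
  rw [Ideal.mem_comap, Ideal.mem_comap, fibIdeal_def]
  have hc := gam_comm (IsPullback.of_hasPullback f g) y'
  have h1 : ((pullback.fst f g).stalkMap y').hom ((f.stalkMap (pullback.fst f g y')).hom a) =
      ((pullback.snd f g).stalkMap y').hom
        ((gam (IsPullback.of_hasPullback f g) y').hom a) := by
    have := congrArg (fun t => t.hom a) hc
    exact this
  rw [h1]
  apply Ideal.mem_map_of_mem
  haveI := isLocalHom_gam f g y'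
  exact map_max_le (gam (IsPullback.of_hasPullback f g) y').hom (Ideal.mem_map_of_mem _ ha)

theorem part2_pt (f : X ⟶ S) (g : S' ⟶ S) [IsLocallyNoetherian X]
    [IsLocallyNoetherian (pullback f g)] (x' : ↥(pullback f g)) :
    ∃ y' : ↥(pullback f g), pullback.fst f g y' = pullback.fst f g x' ∧
      ringKrullDim (CInt.fiberStalk (pullback.snd f g) y') ≤
        ringKrullDim (CInt.fiberStalk f (pullback.fst f g y')) := by
  obtain ⟨η, -, hη⟩ := Groth.Agent.Helper15.exists_specializes_ringKrullDim_stalk_eq_zero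
    ((pullback.fst f g).fiber (pullback.fst f g x')) ((pullback.fst f g).asFiber x')
  refine ⟨(pullback.fst f g).fiberι _ η, apply_fiberι _ _ η, ?_⟩
  set y' := (pullback.fst f g).fiberι _ η with hy'
  have h0 : ringKrullDim ((pullback f g).presheaf.stalk y' ⧸
      (maximalIdeal (X.presheaf.stalk (pullback.fst f g y'))).map
        ((pullback.fst f g).stalkMap y').hom) ≤ 0 := by
    rw [← fibIdeal_def, ringKrullDim_eq_of_ringEquiv
      (quotEquivStalkFiberOfEq (pullback.fst f g) _ η _ rfl), hη]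
  rw [← ringKrullDim_eq_of_ringEquiv (fibStalkEquiv (pullback.snd f g) y'),
    ← ringKrullDim_eq_of_ringEquiv (fibStalkEquiv f (pullback.fst f g y'))]
  exact dim_quot_le' ((pullback.fst f g).stalkMap y').hom _ _ (fibIdeal_le f _)
    (fibIdeal_le _ y') (fibIdeal_le_comap f g y') h0

theorem main (f : X ⟶ S) (g : S' ⟶ S)
    [IsLocallyNoetherian X] [IsLocallyNoetherian (pullback f g)] (Y : Set ↥X) :
    ((⨅ y : Y, ringKrullDim ↑(CInt.fiberStalk f y.1)) ≤
      ⨅ y' : (fun x' => (pullback.fst f g) x') ⁻¹' Y,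
        ringKrullDim ↑(CInt.fiberStalk (pullback.snd f g) y'.1)) ∧
    (Y ⊆ Set.range (pullback.fst f g).base →
      (⨅ y' : (fun x' => (pullback.fst f g) x') ⁻¹' Y,
        ringKrullDim ↑(CInt.fiberStalk (pullback.snd f g) y'.1)) =
        ⨅ y : Y, ringKrullDim ↑(CInt.fiberStalk f y.1)) := by
  have h1 : (⨅ y : Y, ringKrullDim ↑(CInt.fiberStalk f y.1)) ≤
      ⨅ y' : (fun x' => (pullback.fst f g) x') ⁻¹' Y,
        ringKrullDim ↑(CInt.fiberStalk (pullback.snd f g) y'.1) := by
    refine le_iInf fun y' => ?_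
    exact (iInf_le (fun y : Y => ringKrullDim ↑(CInt.fiberStalk f y.1))
      ⟨pullback.fst f g y'.1, y'.2⟩).trans (part1_pt f g y'.1)
  refine ⟨h1, fun hY => le_antisymm ?_ h1⟩
  refine le_iInf fun y => ?_
  obtain ⟨x', hx'⟩ := hY y.2
  obtain ⟨y', hy', hle⟩ := part2_pt f g x'
  have hyy : pullback.fst f g y' = y.1 := hy'.trans hx'
  rw [hyy] at hle
  refine (iInf_le _ (⟨y', ?_⟩ : (fun x' => (pullback.fst f g) x') ⁻¹' Y)).trans hle
  change pullback.fst f g y' ∈ Y
  rw [hyy]
  exact y.2

end Sch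

end Groth.Agent.Helper26.RelCodim2
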