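import Mathlib
import Groth.Agent.Lib.Helper22.MilExtra

/-!
# Relative Milnor glueing: finiteness of the glued module (helper26)
-/

set_option autoImplicit false
set_option linter.unusedSectionVars false
set_option linter.style.haveILetI false

namespace Groth.Agent.Helper26.RelGlue

open TensorProduct Function Groth.Agent.Helper22 Groth.Agent.Helper22.MilFlat
  Groth.Agent.Helper22.MilGlue

universe u

section Pushout

/-- induction principle for elements of a pushout -/
theorem pushout_induction (R : Type u) {S R' S' : Type u} [CommRing R] [CommRing S] [CommRing R']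
    [CommRing S'] [Algebra R S] [Algebra R R'] [Algebra S S'] [Algebra R' S'] [Algebra R S']
    [IsScalarTower R R' S'] [IsScalarTower R S S'] [Algebra.IsPushout R S R' S']
    (motive : S' → Prop)
    (hmul : ∀ (s : S) (r' : R'), motive (algebraMap S S' s * algebraMap R' S' r'))
    (hadd : ∀ x y, motive x → motive y → motive (x + y)) : ∀ x, motive x := by
  intro x
  obtain ⟨z, rfl⟩ := (Algebra.IsPushout.equiv R S R' S').surjective x
  induction z using TensorProduct.induction_on with
  | zero =>
    have := hmul 0 0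
    simpa using this
  | tmul s r' =>
    rw [Algebra.IsPushout.equiv_tmul]
    exact hmul s r'
  | add x y hx hy =>
    rw [map_add]
    exact hadd _ _ hx hy

theorem pushout_surjective (R : Type u) {S R' S' : Type u} [CommRing R] [CommRing S] [CommRing R']
    [CommRing S'] [Algebra R S] [Algebra R R'] [Algebra S S'] [Algebra R' S'] [Algebra R S']
    [IsScalarTower R R' S'] [IsScalarTower R S S'] [Algebra.IsPushout R S R' S']
    (h : Surjective (algebraMap R S)) : Surjective (algebraMap R' S') := by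
  intro x
  refine pushout_induction R (S := S) (R' := R') (motive := fun x => ∃ r', algebraMap R' S' r' = x)
    ?_ ?_ x
  · intro s r'
    obtain ⟨r, rfl⟩ := h s
    refine ⟨algebraMap R R' r * r', ?_⟩
    rw [map_mul, ← IsScalarTower.algebraMap_apply, IsScalarTower.algebraMap_apply R S S']
  · rintro _ _ ⟨a, rfl⟩ ⟨b, rfl⟩
    exact ⟨a + b, map_add _ _ _⟩

end Pushout


section Rel

variable {B' B A' A : Type u} [CommRing B'] [CommRing B] [CommRing A'] [CommRing A]
    [Algebra B' B] [Algebra B' A'] [Algebra B A] [Algebra A' A] [Algebra B' A]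
    [IsScalarTower B' B A] [IsScalarTower B' A' A]
    {D' D C' C : Type u} [CommRing D'] [CommRing D] [CommRing C'] [CommRing C]
    [Algebra B' D'] [Algebra B D] [Algebra A' C'] [Algebra A C]
    [Algebra D' D] [Algebra B' D] [IsScalarTower B' B D] [IsScalarTower B' D' D]
    [Algebra.IsPushout B' B D' D]
    [Algebra D' C'] [Algebra B' C'] [IsScalarTower B' A' C'] [IsScalarTower B' D' C']
    [Algebra.IsPushout B' A' D' C']
    [Algebra D' C] [Algebra B' C] [IsScalarTower B' A C] [IsScalarTower B' D' C]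
    [Algebra.IsPushout B' A D' C]
    [Algebra D C] [IsScalarTower D' D C] [Algebra B C] [IsScalarTower B A C] [IsScalarTower B D C]
    [Algebra C' C] [IsScalarTower D' C' C] [Algebra A' C] [IsScalarTower A' A C]
    [IsScalarTower A' C' C]

include B' D' in
theorem isPushout_right : Algebra.IsPushout A' A C' C := by
  have : IsScalarTower B' C' C := IsScalarTower.of_algebraMap_eq fun x => by
    rw [IsScalarTower.algebraMap_apply B' D' C, IsScalarTower.algebraMap_apply D' C' C,
      ← IsScalarTower.algebraMap_apply B' D' C']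
  exact (Algebra.IsPushout.comp_iff B' A' D' (S' := C') (T := A) (T' := C)).mp inferInstance

include B' D' in
theorem isPushout_left : Algebra.IsPushout B A D C := by
  have : IsScalarTower B' D C := IsScalarTower.of_algebraMap_eq fun x => by
    rw [IsScalarTower.algebraMap_apply B' D' C, IsScalarTower.algebraMap_apply D' D C,
      ← IsScalarTower.algebraMap_apply B' D' D]
  exact (Algebra.IsPushout.comp_iff B' B D' (S' := D) (T := A) (T' := C)).mp inferInstance


variable {N M' : Type u} [AddCommGroup N] [Module D N] [Module D' N] [IsScalarTower D' D N]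
    [AddCommGroup M'] [Module C' M'] [Module D' M'] [IsScalarTower D' C' M']
    [Module B N] [IsScalarTower B D N] [Module A' M'] [IsScalarTower A' C' M']
    [Module B' N] [IsScalarTower B' B N] [IsScalarTower B' D' N]
    [Module B' M'] [IsScalarTower B' A' M'] [IsScalarTower B' D' M']

include B' D' in
/-- the glueing isomorphism over the base square deduced from one over the relative square -/
noncomputable def phi0 (φ : C ⊗[D] N ≃ₗ[C] C ⊗[C'] M') : A ⊗[B] N ≃ₗ[A] A ⊗[A'] M' :=
  haveI := isPushout_left (B' := B') (B := B) (A := A) (D' := D') (D := D) (C := C)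
  haveI := isPushout_right (B' := B') (A' := A') (A := A) (D' := D') (C' := C') (C := C)
  (Algebra.IsPushout.cancelBaseChange B A D C N).symm ≪≫ₗ (φ.restrictScalars A) ≪≫ₗ
    (Algebra.IsPushout.cancelBaseChange A' A C' C M')


include B' D' in
theorem phi0_one_tmul_eq_iff (φ : C ⊗[D] N ≃ₗ[C] C ⊗[C'] M') (n : N) (m' : M') :
    phi0 (B' := B') (D' := D') φ ((1 : A) ⊗ₜ[B] n) = (1 : A) ⊗ₜ[A'] m' ↔
      φ ((1 : C) ⊗ₜ[D] n) = (1 : C) ⊗ₜ[C'] m' := by
  haveI := isPushout_left (B' := B') (B := B) (A := A) (D' := D') (D := D) (C := C)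
  haveI := isPushout_right (B' := B') (A' := A') (A := A) (D' := D') (C' := C') (C := C)
  have h1 : phi0 (B' := B') (D' := D') φ ((1 : A) ⊗ₜ[B] n) =
      Algebra.IsPushout.cancelBaseChange A' A C' C M' (φ ((1 : C) ⊗ₜ[D] n)) := by
    unfold phi0
    simp only [LinearEquiv.trans_apply, Algebra.IsPushout.cancelBaseChange_symm_tmul, map_one,
      LinearEquiv.restrictScalars_apply]
  rw [h1, ← Algebra.IsPushout.cancelBaseChange_tmul A' A C' C M' m']
  exact (Algebra.IsPushout.cancelBaseChange A' A C' C M').injective.eq_iff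


include B' D' in
theorem isGlue_rel (φ : C ⊗[D] N ≃ₗ[C] C ⊗[C'] M') :
    IsGlue (B' := B') (B := B) (A' := A') (A := A) (phi0 (B' := B') (D' := D') φ)
      ((EtMil.glueFst D' φ).restrictScalars B')
      ((EtMil.glueSnd D' φ).restrictScalars B') where
  inj := by
    rintro ⟨⟨n, m'⟩, hx⟩ h1 h2
    apply Subtype.ext
    exact Prod.ext h1 h2
  img := by
    intro n m'
    rw [phi0_one_tmul_eq_iff]
    constructor
    · intro h
      exact ⟨⟨(n, m'), h⟩, rfl, rfl⟩
    · rintro ⟨⟨⟨n0, m0⟩, hx⟩, rfl, rfl⟩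
      exact hx


include B' D' in
theorem relGlue_finite (hsq : EtMil.IsFibreSquare B' B A' A) (φ : C ⊗[D] N ≃ₗ[C] C ⊗[C'] M')
    [Module.Finite D N] [Module.Finite C' M'] : Module.Finite D' ↥(EtMil.glue D' φ) := by
  classical
  have hG := isGlue_rel (B' := B') (B := B) (A' := A') (A := A) (D' := D') φ
  have hsurjD : Surjective (algebraMap D' D) :=
    pushout_surjective B' (fibreSquare_surjective hsq)
  have hp₁0 : Surjective ((EtMil.glueFst D' φ).restrictScalars B') := hG.surjective_p₁ hsq
  have hp₁ : Surjective (EtMil.glueFst D' φ) := hp₁0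
  have hp₂0 : Submodule.span A' (Set.range ((EtMil.glueSnd D' φ).restrictScalars B')) = ⊤ :=
    hG.span_range_p₂ hsq
  have hp₂ : Submodule.span A' (Set.range (EtMil.glueSnd D' φ)) = ⊤ := hp₂0
  -- finite generating data
  obtain ⟨H1, hH1⟩ : ∃ H1 : Finset ↥(EtMil.glue D' φ),
      Submodule.span D ((EtMil.glueFst D' φ) '' (H1 : Set ↥(EtMil.glue D' φ))) = ⊤ := by
    have hfg : (Submodule.span D (Set.range (EtMil.glueFst D' φ))).FG := by
      rw [hp₁.range_eq, Submodule.span_univ]
      exact Module.Finite.fg_top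
    obtain ⟨s', hs', hspan⟩ := (Submodule.fg_span_iff_fg_span_finset_subset _).mp hfg
    rw [← Set.image_univ] at hs'
    obtain ⟨H1, -, rfl⟩ := Finset.subset_set_image_iff.mp hs'
    refine ⟨H1, ?_⟩
    rw [← Finset.coe_image, ← hspan, hp₁.range_eq, Submodule.span_univ]
  have hp₂' : Submodule.span C' (Set.range (EtMil.glueSnd D' φ)) = ⊤ := by
    rw [eq_top_iff]
    intro m' _
    have h1 : m' ∈ Submodule.span A' (Set.range (EtMil.glueSnd D' φ)) := by rw [hp₂]; trivial
    exact Submodule.span_le_restrictScalars A' C' _ h1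
  obtain ⟨H2, hH2⟩ : ∃ H2 : Finset ↥(EtMil.glue D' φ),
      Submodule.span C' ((EtMil.glueSnd D' φ) '' (H2 : Set ↥(EtMil.glue D' φ))) = ⊤ := by
    have hfg : (Submodule.span C' (Set.range (EtMil.glueSnd D' φ))).FG := by
      rw [hp₂']
      exact Module.Finite.fg_top
    obtain ⟨s', hs', hspan⟩ := (Submodule.fg_span_iff_fg_span_finset_subset _).mp hfg
    rw [← Set.image_univ] at hs'
    obtain ⟨H2, -, rfl⟩ := Finset.subset_set_image_iff.mp hs'
    refine ⟨H2, ?_⟩
    rw [← Finset.coe_image, ← hspan, hp₂']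
  set S : Submodule D' ↥(EtMil.glue D' φ) :=
    Submodule.span D' ((H1 : Set ↥(EtMil.glue D' φ)) ∪ (H2 : Set ↥(EtMil.glue D' φ))) with hS
  -- Step 1
  have step1 : ∀ n : N, ∃ s ∈ S, EtMil.glueFst D' φ s = n := by
    intro n
    have hn : n ∈ Submodule.span D ((EtMil.glueFst D' φ) '' (H1 : Set ↥(EtMil.glue D' φ))) := by
      rw [hH1]; trivial
    refine Submodule.span_induction (p := fun n _ => ∃ s ∈ S, EtMil.glueFst D' φ s = n)
      ?_ ?_ ?_ ?_ hn
    · rintro _ ⟨h, hh, rfl⟩
      exact ⟨h, Submodule.subset_span (Or.inl hh), rfl⟩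
    · exact ⟨0, zero_mem _, map_zero _⟩
    · rintro x y _ _ ⟨s1, hs1, rfl⟩ ⟨s2, hs2, rfl⟩
      exact ⟨s1 + s2, add_mem hs1 hs2, map_add _ _ _⟩
    · rintro d x _ ⟨s1, hs1, rfl⟩
      obtain ⟨d', rfl⟩ := hsurjD d
      exact ⟨d' • s1, S.smul_mem _ hs1, by rw [map_smul, algebraMap_smul]⟩
  -- the property `P`
  let P : M' → Prop := fun m' => ∀ j : A', algebraMap A' A j = 0 →
    ∃ s ∈ S, EtMil.glueFst D' φ s = 0 ∧ EtMil.glueSnd D' φ s = j • m'
  have hPadd : ∀ x y, P x → P y → P (x + y) := by
    intro x y hx hy j hj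
    obtain ⟨s1, hs1, e1, f1⟩ := hx j hj
    obtain ⟨s2, hs2, e2, f2⟩ := hy j hj
    exact ⟨s1 + s2, add_mem hs1 hs2, by rw [map_add, e1, e2, add_zero],
      by rw [map_add, f1, f2, smul_add]⟩
  have hPzero : P 0 := fun j _ => ⟨0, zero_mem _, map_zero _, by rw [map_zero, smul_zero]⟩
  have hPall : ∀ m' : M', P m' := by
    intro m'
    have hm' : m' ∈ Submodule.span C'
        ((EtMil.glueSnd D' φ) '' (H2 : Set ↥(EtMil.glue D' φ))) := by
      rw [hH2]; trivial
    refine Submodule.span_induction (p := fun m' _ => P m') ?_ hPzero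
      (fun x y _ _ hx hy => hPadd x y hx hy) ?_ hm'
    · rintro _ ⟨h, hh, rfl⟩ j hj
      obtain ⟨r, hr1, hr2⟩ := exists_lift_of_ker hsq j hj
      refine ⟨algebraMap B' D' r • h, S.smul_mem _ (Submodule.subset_span (Or.inr hh)), ?_, ?_⟩
      · rw [map_smul, algebraMap_smul, ← algebraMap_smul B r, hr1, zero_smul]
      · rw [map_smul, algebraMap_smul, ← algebraMap_smul A' r, hr2]
    · intro c' x _ hx
      refine pushout_induction B' (S := A') (R' := D') (motive := fun c' => P (c' • x)) ?_ ?_ c'
      · intro a' d' j hj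
        obtain ⟨s1, hs1, e1, f1⟩ := hx (j * a') (by rw [map_mul, hj, zero_mul])
        refine ⟨d' • s1, S.smul_mem _ hs1, by rw [map_smul, e1, smul_zero], ?_⟩
        rw [map_smul, f1, ← algebraMap_smul C' d', ← algebraMap_smul C' (j * a'),
          ← algebraMap_smul C' j, smul_smul, smul_smul, map_mul]
        congr 1
        ring
      · intro c1 c2 h1 h2
        rw [add_smul]
        exact hPadd _ _ h1 h2
  -- conclusion
  have hall : ∀ x : ↥(EtMil.glue D' φ), x ∈ S := by
    intro x
    obtain ⟨s1, hs1, e1⟩ := step1 (EtMil.glueFst D' φ x)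
    have hy1 : EtMil.glueFst D' φ (x - s1) = 0 := by rw [map_sub, e1, sub_self]
    have h1 : ((1 : A) ⊗ₜ[A'] (EtMil.glueSnd D' φ (x - s1)) : A ⊗[A'] M') = 0 := by
      have := hG.compat (x - s1)
      simp only [LinearMap.coe_restrictScalars] at this
      rw [← this, hy1, TensorProduct.tmul_zero, map_zero]
    have h2 := mem_smul_top_of_tmul_eq_zero hsq.1 (EtMil.glueSnd D' φ (x - s1)) h1
    have h3 : ∃ s ∈ S, EtMil.glueFst D' φ s = 0 ∧
        EtMil.glueSnd D' φ s = EtMil.glueSnd D' φ (x - s1) := by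
      refine Submodule.smul_induction_on (p := fun m' => ∃ s ∈ S, EtMil.glueFst D' φ s = 0 ∧
        EtMil.glueSnd D' φ s = m') h2 ?_ ?_
      · intro j hj m'' _
        exact hPall m'' j ((RingHom.mem_ker).mp hj)
      · rintro x y ⟨s1, hs1, e1, f1⟩ ⟨s2, hs2, e2, f2⟩
        exact ⟨s1 + s2, add_mem hs1 hs2, by rw [map_add, e1, e2, add_zero],
          by rw [map_add, f1, f2]⟩
    obtain ⟨s2, hs2, e2, f2⟩ := h3
    have h4 : x - s1 - s2 = 0 := by
      apply hG.inj
      · simp only [LinearMap.coe_restrictScalars]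
        rw [map_sub, hy1, e2, sub_zero]
      · simp only [LinearMap.coe_restrictScalars]
        rw [map_sub, f2, sub_self]
    have h5 : x = s1 + s2 := by
      rw [sub_sub, sub_eq_zero] at h4
      exact h4
    rw [h5]
    exact add_mem hs1 hs2
  refine ⟨⟨H1 ∪ H2, ?_⟩⟩
  rw [eq_top_iff]
  intro x _
  have := hall x
  rw [hS] at this
  rwa [Finset.coe_union]

end Rel

end Groth.Agent.Helper26.RelGlue
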