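import Mathlib
import Groth.Agent.Lib.Helper26.RelGlue1

/-!
# Relative Milnor glueing: finiteness, statement form (helper26)
-/

set_option autoImplicit false

namespace Groth.Agent.Helper26.RelGlue

open TensorProduct

universe u

theorem S6921 (B' B A' A : Type u) [CommRing B'] [CommRing B] [CommRing A'] [CommRing A]
    [Algebra B' B] [Algebra B' A'] [Algebra B A] [Algebra A' A] [Algebra B' A] [IsScalarTower B' B A] [IsScalarTower B' A' A]
    (hsq : EtMil.IsFibreSquare B' B A' A)
    (D' D C' C : Type u) [CommRing D'] [CommRing D] [CommRing C'] [CommRing C]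
    [Algebra B' D'] [Algebra B D] [Algebra A' C'] [Algebra A C]
    [Algebra D' D] [Algebra B' D] [IsScalarTower B' B D] [IsScalarTower B' D' D] [Algebra.IsPushout B' B D' D]
    [Algebra D' C'] [Algebra B' C'] [IsScalarTower B' A' C'] [IsScalarTower B' D' C'] [Algebra.IsPushout B' A' D' C']
    [Algebra D' C] [Algebra B' C] [IsScalarTower B' A C] [IsScalarTower B' D' C] [Algebra.IsPushout B' A D' C]
    [Algebra D C] [IsScalarTower D' D C] [Algebra B C] [IsScalarTower B A C] [IsScalarTower B D C]
    [Algebra C' C] [IsScalarTower D' C' C] [Algebra A' C] [IsScalarTower A' A C] [IsScalarTower A' C' C]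
    {N M' : Type u} [AddCommGroup N] [Module D N] [Module D' N] [IsScalarTower D' D N]
    [AddCommGroup M'] [Module C' M'] [Module D' M'] [IsScalarTower D' C' M'] (φ : C ⊗[D] N ≃ₗ[C] C ⊗[C'] M')
    [Module.Finite D N] [Module.Finite C' M'] : Module.Finite D' ↥(EtMil.glue D' φ) := by
  let _ : Module B N := Module.compHom N (algebraMap B D)
  have : IsScalarTower B D N := ⟨fun b d n => by
    change (b • d) • n = algebraMap B D b • (d • n)
    rw [Algebra.smul_def, mul_smul]⟩
  let _ : Module B' N := Module.compHom N (algebraMap B' D')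
  have : IsScalarTower B' D' N := ⟨fun b d n => by
    change (b • d) • n = algebraMap B' D' b • (d • n)
    rw [Algebra.smul_def, mul_smul]⟩
  have : IsScalarTower B' B N := ⟨fun b' b n => by
    change algebraMap B D (b' • b) • n = algebraMap B' D' b' • (algebraMap B D b • n)
    rw [Algebra.smul_def, map_mul, mul_smul, ← IsScalarTower.algebraMap_apply,
      IsScalarTower.algebraMap_apply B' D' D, algebraMap_smul]⟩
  let _ : Module A' M' := Module.compHom M' (algebraMap A' C')
  have : IsScalarTower A' C' M' := ⟨fun b d n => by
    change (b • d) • n = algebraMap A' C' b • (d • n)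
    rw [Algebra.smul_def, mul_smul]⟩
  let _ : Module B' M' := Module.compHom M' (algebraMap B' D')
  have : IsScalarTower B' D' M' := ⟨fun b d n => by
    change (b • d) • n = algebraMap B' D' b • (d • n)
    rw [Algebra.smul_def, mul_smul]⟩
  have : IsScalarTower B' A' M' := ⟨fun b' b n => by
    change algebraMap A' C' (b' • b) • n = algebraMap B' D' b' • (algebraMap A' C' b • n)
    rw [Algebra.smul_def, map_mul, mul_smul, ← IsScalarTower.algebraMap_apply,
      IsScalarTower.algebraMap_apply B' D' C', algebraMap_smul]⟩
  exact relGlue_finite (B' := B') (B := B) (A' := A') (A := A) hsq φ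

end Groth.Agent.Helper26.RelGlue
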