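import Mathlib
import Groth.Agent.Lib.Helper26.RelGlue1

/-!
# Relative Milnor glueing: finite presentation (helper26)
-/

set_option autoImplicit false
set_option linter.unusedSectionVars false

namespace Groth.Agent.Helper26.RelGlue

open TensorProduct Function

universe u

section OneSide

variable (R S R' S' : Type u) [CommRing R] [CommRing S] [CommRing R'] [CommRing S']
  [Algebra R S] [Algebra R R'] [Algebra S S'] [Algebra R' S'] [Algebra R S']
  [IsScalarTower R R' S'] [IsScalarTower R S S'] [Algebra.IsPushout R S R' S']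

/-- naturality of `cancelBaseChange` -/
theorem cancel_natural {X Y : Type u} [AddCommGroup X] [Module R' X] [Module R X]
    [IsScalarTower R R' X] [AddCommGroup Y] [Module R' Y] [Module R Y] [IsScalarTower R R' Y]
    (g : X →ₗ[R'] Y) (z : S' ⊗[R'] X) :
    Algebra.IsPushout.cancelBaseChange R S R' S' Y (g.baseChange S' z) =
      (g.restrictScalars R).lTensor S (Algebra.IsPushout.cancelBaseChange R S R' S' X z) := by
  obtain ⟨w, rfl⟩ := (Algebra.IsPushout.cancelBaseChange R S R' S' X).symm.surjective z
  rw [LinearEquiv.apply_symm_apply]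
  induction w using TensorProduct.induction_on with
  | zero => simp
  | tmul s x =>
    rw [Algebra.IsPushout.cancelBaseChange_symm_tmul, LinearMap.baseChange_tmul,
      LinearMap.lTensor_tmul, LinearMap.restrictScalars_apply,
      ← Algebra.IsPushout.cancelBaseChange_symm_tmul R S R' S' Y s (g x),
      LinearEquiv.apply_symm_apply]
  | add x y hx hy =>
    simp only [map_add, hx, hy]


include S in
/-- the base change of the kernel of a surjection onto an `R`-flat module with finitely presented base
change is finite -/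
theorem finite_baseChange_ker {F G : Type u} [AddCommGroup F] [Module R' F] [Module R F]
    [IsScalarTower R R' F] [AddCommGroup G] [Module R' G] [Module R G] [IsScalarTower R R' G]
    [Module.Flat R G] [Module.Finite R' F] [Module.FinitePresentation S' (S' ⊗[R'] G)]
    (f : F →ₗ[R'] G) (hf : Surjective f) :
    Module.Finite S' (S' ⊗[R'] LinearMap.ker f) := by
  set g : LinearMap.ker f →ₗ[R'] F := (LinearMap.ker f).subtype with hg
  have hex : Function.Exact g f := LinearMap.exact_subtype_ker_map f
  -- injectivity over `R`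
  have hinjR : Injective ((g.restrictScalars R).lTensor S) :=
    LinearMap.lTensor_injective_of_exact_of_flat (f.restrictScalars R) hf (g.restrictScalars R)
      (LinearMap.ker f).subtype_injective hex S
  have hinj : Injective (g.baseChange S') := by
    intro x y hxy
    have h1 := congrArg (Algebra.IsPushout.cancelBaseChange R S R' S' F) hxy
    rw [cancel_natural, cancel_natural] at h1
    exact (Algebra.IsPushout.cancelBaseChange R S R' S' _).injective (hinjR h1)
  have hex' : Function.Exact (g.baseChange S') (f.baseChange S') :=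
    lTensor_exact S' hex hf
  have hsurj' : Surjective (f.baseChange S') := LinearMap.lTensor_surjective S' hf
  have hfg : (LinearMap.ker (f.baseChange S')).FG :=
    Module.FinitePresentation.fg_ker (f.baseChange S') hsurj'
  have hrange : LinearMap.range (g.baseChange S') = LinearMap.ker (f.baseChange S') :=
    (LinearMap.exact_iff.mp hex').symm
  have e : (S' ⊗[R'] LinearMap.ker f) ≃ₗ[S'] LinearMap.ker (f.baseChange S') :=
    (LinearEquiv.ofInjective _ hinj).trans (LinearEquiv.ofEq _ _ hrange)
  have : Module.Finite S' (LinearMap.ker (f.baseChange S')) := Module.Finite.iff_fg.mpr hfg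
  exact Module.Finite.equiv e.symm

end OneSide


section Gen

/-- finitely many elements of `K` generate a finite base change -/
theorem exists_finset_span_one_tmul (R' S' : Type u) [CommRing R'] [CommRing S'] [Algebra R' S']
    (K : Type u) [AddCommGroup K] [Module R' K] [Module.Finite S' (S' ⊗[R'] K)] :
    ∃ T : Finset K, Submodule.span S' ((fun k : K => ((1 : S') ⊗ₜ[R'] k : S' ⊗[R'] K)) '' (T : Set K)) = ⊤ := by
  classical
  have htop : Submodule.span S' (Set.range (fun k : K => ((1 : S') ⊗ₜ[R'] k : S' ⊗[R'] K))) = ⊤ := by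
    rw [eq_top_iff]
    intro z _
    induction z using TensorProduct.induction_on with
    | zero => exact zero_mem _
    | tmul s k =>
      have : (s ⊗ₜ[R'] k : S' ⊗[R'] K) = s • ((1 : S') ⊗ₜ[R'] k) := by
        rw [TensorProduct.smul_tmul', smul_eq_mul, mul_one]
      rw [this]
      exact Submodule.smul_mem _ _ (Submodule.subset_span ⟨k, rfl⟩)
    | add x y hx hy => exact add_mem (hx trivial) (hy trivial)
  have hfg : (Submodule.span S' (Set.range (fun k : K => ((1 : S') ⊗ₜ[R'] k : S' ⊗[R'] K)))).FG := by
    rw [htop]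
    exact Module.Finite.fg_top
  obtain ⟨s', hs', hspan⟩ := (Submodule.fg_span_iff_fg_span_finset_subset _).mp hfg
  rw [← Set.image_univ] at hs'
  obtain ⟨T, -, rfl⟩ := Finset.subset_set_image_iff.mp hs'
  refine ⟨T, ?_⟩
  rw [← Finset.coe_image, ← hspan, htop]

/-- if finitely many elements of a submodule generate the base change, the base change of the quotient
vanishes -/
theorem subsingleton_baseChange_quotient (R' S' : Type u) [CommRing R'] [CommRing S'] [Algebra R' S']
    (K : Type u) [AddCommGroup K] [Module R' K] (K₀ : Submodule R' K) (T : Set K) (hT : T ⊆ K₀)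
    (hspan : Submodule.span S' ((fun k : K => ((1 : S') ⊗ₜ[R'] k : S' ⊗[R'] K)) '' T) = ⊤) :
    Subsingleton (S' ⊗[R'] (K ⧸ K₀)) := by
  have hle : Submodule.span S' ((fun k : K => ((1 : S') ⊗ₜ[R'] k : S' ⊗[R'] K)) '' T) ≤
      LinearMap.ker (K₀.mkQ.baseChange S') := by
    rw [Submodule.span_le]
    rintro _ ⟨k, hk, rfl⟩
    rw [SetLike.mem_coe, LinearMap.mem_ker, LinearMap.baseChange_tmul, Submodule.mkQ_apply,
      (Submodule.Quotient.mk_eq_zero K₀).mpr (hT hk), TensorProduct.tmul_zero]
  rw [hspan, top_le_iff] at hle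
  refine ⟨fun x y => ?_⟩
  have h0 : ∀ z : S' ⊗[R'] (K ⧸ K₀), z = 0 := by
    intro z
    obtain ⟨w, rfl⟩ := LinearMap.lTensor_surjective S' (Submodule.mkQ_surjective K₀) z
    have : w ∈ LinearMap.ker (K₀.mkQ.baseChange S') := by rw [hle]; trivial
    exact this
  rw [h0 x, h0 y]

end Gen


section Rel

open Groth.Agent.Helper22 Groth.Agent.Helper22.MilFlat Groth.Agent.Helper22.MilGlue

variable {B' B A' A : Type u} [CommRing B'] [CommRing B] [CommRing A'] [CommRing A]
    [Algebra B' B] [Algebra B' A'] [Algebra B A] [Algebra A' A] [Algebra B' A]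
    [IsScalarTower B' B A] [IsScalarTower B' A' A]
    {D' D C' C : Type u} [CommRing D'] [CommRing D] [CommRing C'] [CommRing C]
    [Algebra B' D'] [Algebra B D] [Algebra A' C'] [Algebra A C]
    [Algebra D' D] [Algebra B' D] [IsScalarTower B' B D] [IsScalarTower B' D' D]
    [Algebra.IsPushout B' B D' D]
    [Algebra D' C'] [Algebra B' C'] [IsScalarTower B' A' C'] [IsScalarTower B' D' C']
    [Algebra.IsPushout B' A' D' C']
    [Algebra D' C] [Algebra B' C] [IsScalarTower B' A C] [IsScalarTower B' D' C]
    [Algebra.IsPushout B' A D' C]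
    [Algebra D C] [IsScalarTower D' D C] [Algebra B C] [IsScalarTower B A C] [IsScalarTower B D C]
    [Algebra C' C] [IsScalarTower D' C' C] [Algebra A' C] [IsScalarTower A' A C]
    [IsScalarTower A' C' C]

include A in
/-- relative version of "finite after both base changes implies finite" -/
theorem rel_finite_of_baseChange (hsq : EtMil.IsFibreSquare B' B A' A)
    (K : Type u) [AddCommGroup K] [Module D' K] [Module B' K] [IsScalarTower B' D' K]
    [Module.Finite D (D ⊗[D'] K)] [Module.Finite C' (C' ⊗[D'] K)] : Module.Finite D' K := by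
  classical
  obtain ⟨T1, hT1⟩ := exists_finset_span_one_tmul D' D K
  obtain ⟨T2, hT2⟩ := exists_finset_span_one_tmul D' C' K
  set K₀ : Submodule D' K := Submodule.span D' ((T1 : Set K) ∪ (T2 : Set K)) with hK₀
  have h1 : Subsingleton (D ⊗[D'] (K ⧸ K₀)) :=
    subsingleton_baseChange_quotient D' D K K₀ (T1 : Set K)
      (fun k hk => Submodule.subset_span (Or.inl hk)) hT1
  have h2 : Subsingleton (C' ⊗[D'] (K ⧸ K₀)) :=
    subsingleton_baseChange_quotient D' C' K K₀ (T2 : Set K)
      (fun k hk => Submodule.subset_span (Or.inr hk)) hT2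
  have h1' : Subsingleton (B ⊗[B'] (K ⧸ K₀)) :=
    (Algebra.IsPushout.cancelBaseChange B' B D' D (K ⧸ K₀)).symm.toEquiv.subsingleton
  have h2' : Subsingleton (A' ⊗[B'] (K ⧸ K₀)) :=
    (Algebra.IsPushout.cancelBaseChange B' A' D' C' (K ⧸ K₀)).symm.toEquiv.subsingleton
  have hQ : Subsingleton (K ⧸ K₀) := Groth.Agent.S14949.result B' B A' A hsq (K ⧸ K₀)
  have htop : K₀ = ⊤ := Submodule.Quotient.subsingleton_iff.mp hQ
  refine ⟨⟨T1 ∪ T2, ?_⟩⟩
  rw [Finset.coe_union, ← hK₀, htop]


variable {N M' : Type u} [AddCommGroup N] [Module D N] [Module D' N] [IsScalarTower D' D N]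
    [AddCommGroup M'] [Module C' M'] [Module D' M'] [IsScalarTower D' C' M']
    [Module B N] [IsScalarTower B D N] [Module A' M'] [IsScalarTower A' C' M']
    [Module B' N] [IsScalarTower B' B N] [IsScalarTower B' D' N]
    [Module B' M'] [IsScalarTower B' A' M'] [IsScalarTower B' D' M']

include B' D' in
theorem relGlue_flat (hsq : EtMil.IsFibreSquare B' B A' A) (φ : C ⊗[D] N ≃ₗ[C] C ⊗[C'] M')
    [Module.Flat B N] [Module.Flat A' M'] : Module.Flat B' ↥(EtMil.glue D' φ) := by
  have hG := isGlue_rel (B' := B') (B := B) (A' := A') (A := A) (D' := D') φ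
  have h1 := hG.bijective_liftBaseChange_p₁ hsq
  have h2 := hG.bijective_liftBaseChange_p₂ hsq
  have : Module.Flat B (B ⊗[B'] ↥(EtMil.glue D' φ)) :=
    Module.Flat.of_linearEquiv (LinearEquiv.ofBijective _ h1)
  have : Module.Flat A' (A' ⊗[B'] ↥(EtMil.glue D' φ)) :=
    Module.Flat.of_linearEquiv (LinearEquiv.ofBijective _ h2)
  exact flat_of_fibreSquare _ hsq

include B' D' in
theorem bijective_liftBaseChange_fst (hsq : EtMil.IsFibreSquare B' B A' A)
    (φ : C ⊗[D] N ≃ₗ[C] C ⊗[C'] M') :
    Function.Bijective (LinearMap.liftBaseChange D (EtMil.glueFst D' φ)) := by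
  have hG := isGlue_rel (B' := B') (B := B) (A' := A') (A := A) (D' := D') φ
  have h1 := hG.bijective_liftBaseChange_p₁ hsq
  have key : ∀ z : D ⊗[D'] ↥(EtMil.glue D' φ),
      LinearMap.liftBaseChange D (EtMil.glueFst D' φ) z =
        LinearMap.liftBaseChange B ((EtMil.glueFst D' φ).restrictScalars B')
          (Algebra.IsPushout.cancelBaseChange B' B D' D _ z) := by
    intro z
    obtain ⟨w, rfl⟩ := (Algebra.IsPushout.cancelBaseChange B' B D' D
      ↥(EtMil.glue D' φ)).symm.surjective z
    rw [LinearEquiv.apply_symm_apply]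
    induction w using TensorProduct.induction_on with
    | zero => simp
    | tmul b g =>
      rw [Algebra.IsPushout.cancelBaseChange_symm_tmul, LinearMap.liftBaseChange_tmul,
        LinearMap.liftBaseChange_tmul, algebraMap_smul]
      rfl
    | add x y hx hy => simp only [map_add, hx, hy]
  have hfun : ⇑(LinearMap.liftBaseChange D (EtMil.glueFst D' φ)) =
      ⇑(LinearMap.liftBaseChange B ((EtMil.glueFst D' φ).restrictScalars B')) ∘
        ⇑(Algebra.IsPushout.cancelBaseChange B' B D' D ↥(EtMil.glue D' φ)) := funext key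
  rw [hfun]
  exact h1.comp (Algebra.IsPushout.cancelBaseChange B' B D' D _).bijective

include B' D' in
theorem bijective_liftBaseChange_snd (hsq : EtMil.IsFibreSquare B' B A' A)
    (φ : C ⊗[D] N ≃ₗ[C] C ⊗[C'] M') :
    Function.Bijective (LinearMap.liftBaseChange C' (EtMil.glueSnd D' φ)) := by
  have hG := isGlue_rel (B' := B') (B := B) (A' := A') (A := A) (D' := D') φ
  have h1 := hG.bijective_liftBaseChange_p₂ hsq
  have key : ∀ z : C' ⊗[D'] ↥(EtMil.glue D' φ),
      LinearMap.liftBaseChange C' (EtMil.glueSnd D' φ) z =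
        LinearMap.liftBaseChange A' ((EtMil.glueSnd D' φ).restrictScalars B')
          (Algebra.IsPushout.cancelBaseChange B' A' D' C' _ z) := by
    intro z
    obtain ⟨w, rfl⟩ := (Algebra.IsPushout.cancelBaseChange B' A' D' C'
      ↥(EtMil.glue D' φ)).symm.surjective z
    rw [LinearEquiv.apply_symm_apply]
    induction w using TensorProduct.induction_on with
    | zero => simp
    | tmul b g =>
      rw [Algebra.IsPushout.cancelBaseChange_symm_tmul, LinearMap.liftBaseChange_tmul,
        LinearMap.liftBaseChange_tmul, algebraMap_smul]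
      rfl
    | add x y hx hy => simp only [map_add, hx, hy]
  have hfun : ⇑(LinearMap.liftBaseChange C' (EtMil.glueSnd D' φ)) =
      ⇑(LinearMap.liftBaseChange A' ((EtMil.glueSnd D' φ).restrictScalars B')) ∘
        ⇑(Algebra.IsPushout.cancelBaseChange B' A' D' C' ↥(EtMil.glue D' φ)) := funext key
  rw [hfun]
  exact h1.comp (Algebra.IsPushout.cancelBaseChange B' A' D' C' _).bijective

include B' D' in
theorem relGlue_finitePresentation (hsq : EtMil.IsFibreSquare B' B A' A)
    (φ : C ⊗[D] N ≃ₗ[C] C ⊗[C'] M')
    [Module.FinitePresentation D N] [Module.Flat B N] [Module.FinitePresentation C' M']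
    [Module.Flat A' M'] : Module.FinitePresentation D' ↥(EtMil.glue D' φ) := by
  have hfin : Module.Finite D' ↥(EtMil.glue D' φ) :=
    relGlue_finite (B' := B') (B := B) (A' := A') (A := A) hsq φ
  have hflat : Module.Flat B' ↥(EtMil.glue D' φ) :=
    relGlue_flat (B' := B') (B := B) (A' := A') (A := A) hsq φ
  obtain ⟨n, f, hf⟩ := Module.Finite.exists_fin' D' ↥(EtMil.glue D' φ)
  have hp1 : Module.FinitePresentation D (D ⊗[D'] ↥(EtMil.glue D' φ)) :=
    Module.FinitePresentation.of_equiv (LinearEquiv.ofBijective _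
      (bijective_liftBaseChange_fst (B' := B') (B := B) (A' := A') (A := A) hsq φ)).symm
  have hp2 : Module.FinitePresentation C' (C' ⊗[D'] ↥(EtMil.glue D' φ)) :=
    Module.FinitePresentation.of_equiv (LinearEquiv.ofBijective _
      (bijective_liftBaseChange_snd (B' := B') (B := B) (A' := A') (A := A) hsq φ)).symm
  have hK1 : Module.Finite D (D ⊗[D'] LinearMap.ker f) := finite_baseChange_ker B' B D' D f hf
  have hK2 : Module.Finite C' (C' ⊗[D'] LinearMap.ker f) :=
    finite_baseChange_ker B' A' D' C' f hf
  have hK : Module.Finite D' (LinearMap.ker f) :=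
    rel_finite_of_baseChange (B' := B') (B := B) (A' := A') (A := A) (D := D) (C' := C')
      hsq (LinearMap.ker f)
  exact Module.finitePresentation_of_free_of_surjective f hf (Module.Finite.iff_fg.mp hK)

end Rel

end Groth.Agent.Helper26.RelGlue
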