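import Mathlib

namespace Groth.Agent.Helper26.Rescale

open Polynomial

universe u v
variable {R : Type u} [CommRing R] (r : R)

local notation "S" => Localization.Away r

theorem L1 (p : (S)[X]) (a : R) (hp : p.coeff 0 = algebraMap R S a) :
    ∃ e : ℕ, ∀ n : ℕ, e ≤ n → ∃ q : R[X], q.eval 0 = a ∧
      q.map (algebraMap R S) = p.comp (C (algebraMap R S (r ^ n)) * X) := by
  obtain ⟨b, ⟨e, he⟩, hb⟩ := IsLocalization.integerNormalization_spec (Submonoid.powers r) p.divX
  simp only at he hb
  set Q := IsLocalization.integerNormalization (Submonoid.powers r) p.divX with hQ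
  refine ⟨e, fun n hn => ⟨C a + C (r ^ (n - e)) * X * Q.comp (C (r ^ n) * X), by simp, ?_⟩⟩
  have hb' : Q.map (algebraMap R S) = C (algebraMap R S (r ^ e)) * p.divX := by
    rw [hb, ← he, Algebra.smul_def]
    rfl
  have hpd : p = p.divX * X + C (algebraMap R S a) := by
    rw [← hp]; exact (divX_mul_X_add p).symm
  conv_rhs => rw [hpd]
  simp only [Polynomial.map_add, Polynomial.map_mul, Polynomial.map_C, Polynomial.map_X,
    Polynomial.map_comp, hb', add_comp, mul_comp, C_comp, X_comp]
  have hr : (algebraMap R S) (r ^ n) = (algebraMap R S) (r ^ (n - e)) * (algebraMap R S) (r ^ e) := by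
    rw [← map_mul, ← pow_add]; congr 2; omega
  rw [hr, C_mul]
  ring

theorem L2 (g : R[X]) (hg : g.map (algebraMap R S) = 0) :
    ∃ s : ℕ, ∀ j, r ^ s * g.coeff j = 0 := by
  have h1 : ∀ j, ∃ k : ℕ, r ^ k * g.coeff j = 0 := by
    intro j
    have : algebraMap R S (g.coeff j) = 0 := by
      have := congrArg (fun q => q.coeff j) hg
      simpa using this
    obtain ⟨⟨m, k, hk⟩, hm⟩ := (IsLocalization.map_eq_zero_iff (Submonoid.powers r) S _).1 this
    simp only at hk hm
    exact ⟨k, by rw [hk]; exact hm⟩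
  choose k hk using h1
  refine ⟨g.support.sup k, fun j => ?_⟩
  by_cases hj : j ∈ g.support
  · have hle : k j ≤ g.support.sup k := Finset.le_sup hj
    obtain ⟨c, hc⟩ := Nat.exists_eq_add_of_le hle
    rw [hc, pow_add, mul_comm (r ^ k j), mul_assoc, hk j, mul_zero]
  · rw [Polynomial.notMem_support_iff.1 hj, mul_zero]

theorem L2' (g : R[X]) (h0 : g.coeff 0 = 0) (s : ℕ) (hs : ∀ j, r ^ s * g.coeff j = 0) (t : ℕ)
    (ht : s ≤ t) : g.comp (C (r ^ t) * X) = 0 := by
  ext j
  rw [comp_C_mul_X_coeff, coeff_zero]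
  rcases Nat.eq_zero_or_pos j with rfl | hj
  · rw [h0, zero_mul]
  · have : (r ^ t) ^ j = r ^ s * r ^ (t * j - s) := by
      rw [← pow_mul, ← pow_add]
      congr 1
      have : s ≤ t * j := ht.trans (Nat.le_mul_of_pos_right t hj)
      omega
    rw [this, ← mul_assoc, mul_comm (g.coeff j), hs j, zero_mul]

end Groth.Agent.Helper26.Rescale
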