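import Mathlib
import Groth.Agent.Lib.Helper26.Rescale

namespace Groth.Agent.Helper26.Rescale

open Polynomial

universe u v
variable {R : Type u} [CommRing R] (r : R)

local notation "S" => Localization.Away r

theorem main (B : Type v) [CommRing B] [Algebra R B]
    [Algebra.FinitePresentation R B]
    (x : B →ₐ[R] Polynomial (Localization.Away r))
    (x₀ : B →ₐ[R] R)
    (hx₀ : (algebraMap R (Localization.Away r)).comp x₀.toRingHom =
      (Polynomial.evalRingHom 0).comp x.toRingHom) :
    ∃ N : ℕ, ∀ n : ℕ, N ≤ n →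
      ∃ y : B →ₐ[R] Polynomial R,
        (Polynomial.evalRingHom 0).comp y.toRingHom = x₀.toRingHom ∧
        (Polynomial.mapRingHom (algebraMap R (Localization.Away r))).comp y.toRingHom =
          (Polynomial.aeval (Polynomial.C (algebraMap R (Localization.Away r) (r ^ n)) * Polynomial.X) :
              Polynomial (Localization.Away r) →ₐ[Localization.Away r] Polynomial (Localization.Away r)).toRingHom.comp
            x.toRingHom := by
  obtain ⟨m, π, hπ, hfg⟩ := Algebra.FinitePresentation.out (R := R) (A := B)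
  obtain ⟨F, hF⟩ := hfg
  -- coefficients
  have hcoeff : ∀ b : B, (x b).coeff 0 = algebraMap R S (x₀ b) := by
    intro b
    have := congrArg (fun f => f b) hx₀
    simp only [RingHom.coe_comp, Function.comp_apply, AlgHom.toRingHom_eq_coe, RingHom.coe_coe,
      coe_evalRingHom] at this
    rw [this, coeff_zero_eq_eval_zero]
  have h1 : ∀ i : Fin m, ∃ e : ℕ, ∀ n : ℕ, e ≤ n → ∃ q : R[X], q.eval 0 = x₀ (π (MvPolynomial.X i)) ∧
      q.map (algebraMap R S) = (x (π (MvPolynomial.X i))).comp (C (algebraMap R S (r ^ n)) * X) :=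
    fun i => L1 r _ _ (hcoeff _)
  choose e he using h1
  set n0 := Finset.univ.sup e with hn0
  have hen0 : ∀ i, e i ≤ n0 := fun i => Finset.le_sup (Finset.mem_univ i)
  choose q0 hq0e hq0m using fun i => he i n0 (hen0 i)
  -- the key ring hom identities at level n0
  set σ : ℕ → ((S)[X] →ₐ[S] (S)[X]) := fun n =>
    Polynomial.aeval (Polynomial.C (algebraMap R S (r ^ n)) * Polynomial.X) with hσ
  have hσapp : ∀ n (p : (S)[X]), σ n p = p.comp (C (algebraMap R S (r ^ n)) * X) := by
    intro n p
    simp only [hσ, Polynomial.aeval_def, Polynomial.comp]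
    rfl
  have hΦ : (Polynomial.mapRingHom (algebraMap R S)).comp
      (MvPolynomial.aeval q0 : MvPolynomial (Fin m) R →ₐ[R] R[X]).toRingHom =
      ((σ n0).toRingHom.comp x.toRingHom).comp π.toRingHom := by
    apply MvPolynomial.ringHom_ext
    · intro a
      simp [hσ, IsScalarTower.algebraMap_apply R S (S)[X]]
    · intro i
      simp only [RingHom.coe_comp, Function.comp_apply, AlgHom.toRingHom_eq_coe, RingHom.coe_coe,
        MvPolynomial.aeval_X, coe_mapRingHom, hq0m, hσapp]
  have hΨ : (Polynomial.evalRingHom 0).comp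
      (MvPolynomial.aeval q0 : MvPolynomial (Fin m) R →ₐ[R] R[X]).toRingHom =
      x₀.toRingHom.comp π.toRingHom := by
    apply MvPolynomial.ringHom_ext
    · intro a
      simp
    · intro i
      simp only [RingHom.coe_comp, Function.comp_apply, AlgHom.toRingHom_eq_coe, RingHom.coe_coe,
        MvPolynomial.aeval_X, coe_evalRingHom, hq0e]
  -- relations
  have hgmap : ∀ l ∈ F, (MvPolynomial.aeval q0 l : R[X]).map (algebraMap R S) = 0 := by
    intro l hl
    have hlk : π l = 0 := by
      have : l ∈ RingHom.ker π.toRingHom := hF ▸ Ideal.subset_span hl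
      simpa using this
    have := congrArg (fun f => f l) hΦ
    simp only [RingHom.coe_comp, Function.comp_apply, AlgHom.toRingHom_eq_coe, RingHom.coe_coe,
      coe_mapRingHom, hlk, map_zero] at this
    exact this
  have hg0 : ∀ l ∈ F, (MvPolynomial.aeval q0 l : R[X]).coeff 0 = 0 := by
    intro l hl
    have hlk : π l = 0 := by
      have : l ∈ RingHom.ker π.toRingHom := hF ▸ Ideal.subset_span hl
      simpa using this
    have := congrArg (fun f => f l) hΨ
    simp only [RingHom.coe_comp, Function.comp_apply, AlgHom.toRingHom_eq_coe, RingHom.coe_coe,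
      coe_evalRingHom, hlk, map_zero] at this
    rw [coeff_zero_eq_eval_zero, this]
  have h2 : ∀ l : MvPolynomial (Fin m) R, ∃ s : ℕ, l ∈ F → ∀ j, r ^ s * (MvPolynomial.aeval q0 l : R[X]).coeff j = 0 := by
    intro l
    by_cases hl : l ∈ F
    · obtain ⟨s, hs⟩ := L2 r _ (hgmap l hl)
      exact ⟨s, fun _ => hs⟩
    · exact ⟨0, fun h => absurd h hl⟩
  choose sl hsl using h2
  set s := F.sup sl with hs
  refine ⟨n0 + s, fun n hn => ?_⟩
  obtain ⟨t, rfl⟩ : ∃ t, n = n0 + t := ⟨n - n0, by omega⟩
  have hst : s ≤ t := by omega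
  set τ : R[X] →ₐ[R] R[X] := Polynomial.aeval (C (r ^ t) * X) with hτ
  have hτapp : ∀ p : R[X], τ p = p.comp (C (r ^ t) * X) := by
    intro p
    simp only [hτ, Polynomial.aeval_def, Polynomial.comp]
    rfl
  set yP : MvPolynomial (Fin m) R →ₐ[R] R[X] := τ.comp (MvPolynomial.aeval q0) with hyP
  have hker : ∀ l ∈ RingHom.ker π.toRingHom, yP l = 0 := by
    intro l hl
    rw [← hF] at hl
    have : Ideal.span (F : Set (MvPolynomial (Fin m) R)) ≤ RingHom.ker yP.toRingHom := by
      rw [Ideal.span_le]
      intro l hl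
      simp only [SetLike.mem_coe, RingHom.mem_ker, AlgHom.toRingHom_eq_coe, RingHom.coe_coe]
      rw [hyP, AlgHom.comp_apply, hτapp]
      exact L2' r _ (hg0 l hl) (sl l) (hsl l hl) t ((Finset.le_sup hl).trans hst)
    have := this hl
    simpa using this
  have hker' : RingHom.ker π.toRingHom ≤ RingHom.ker yP.toRingHom := by
    intro l hl
    have := hker l hl
    simpa using this
  set y : B →ₐ[R] R[X] := AlgHom.liftOfSurjective π hπ yP hker' with hy
  have hyπ : ∀ l, y (π l) = yP l := fun l => AlgHom.liftOfSurjective_apply π hπ yP hker' l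
  refine ⟨y, ?_, ?_⟩
  · -- eval at 0
    apply RingHom.ext
    intro b
    obtain ⟨l, rfl⟩ := hπ b
    simp only [RingHom.coe_comp, Function.comp_apply, AlgHom.toRingHom_eq_coe, RingHom.coe_coe,
      coe_evalRingHom, hyπ, hyP, AlgHom.comp_apply, hτapp]
    have := congrArg (fun f => f l) hΨ
    simp only [RingHom.coe_comp, Function.comp_apply, AlgHom.toRingHom_eq_coe, RingHom.coe_coe,
      coe_evalRingHom] at this
    rw [← this, eval_comp]
    simp
  · apply RingHom.ext
    intro b
    obtain ⟨l, rfl⟩ := hπ b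
    simp only [RingHom.coe_comp, Function.comp_apply, AlgHom.toRingHom_eq_coe, RingHom.coe_coe,
      coe_mapRingHom, hyπ, hyP, AlgHom.comp_apply, hτapp]
    have := congrArg (fun f => f l) hΦ
    simp only [RingHom.coe_comp, Function.comp_apply, AlgHom.toRingHom_eq_coe, RingHom.coe_coe,
      coe_mapRingHom] at this
    rw [Polynomial.map_comp, this]
    change _ = σ (n0 + t) (x (π l))
    rw [hσapp, hσapp, comp_assoc]
    congr 1
    simp only [Polynomial.map_mul, Polynomial.map_C, Polynomial.map_X, mul_comp, C_comp, X_comp]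
    rw [← mul_assoc, ← C_mul, ← map_mul, ← pow_add]

end Groth.Agent.Helper26.Rescale
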