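import Mathlib

set_option autoImplicit false

namespace Groth.Agent.Helper26.SemiLoc

universe u

variable {R₀ R : Type u} [CommRing R₀] [CommRing R] [Algebra R₀ R]

theorem jacobson_bot_le_of_isMaximal {S : Type u} [CommRing S] (m : Ideal S) [hm : m.IsMaximal] :
    Ideal.jacobson (⊥ : Ideal S) ≤ m := by
  unfold Ideal.jacobson
  exact sInf_le ⟨bot_le, hm⟩

/-- (H1) -/
theorem map_jacobson_le [Algebra.IsIntegral R₀ R] :
    (Ideal.jacobson (⊥ : Ideal R₀)).map (algebraMap R₀ R) ≤ Ideal.jacobson (⊥ : Ideal R) := by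
  unfold Ideal.jacobson
  refine le_sInf ?_
  rintro m ⟨-, hm⟩
  rw [Ideal.map_le_iff_le_comap]
  have : (m.comap (algebraMap R₀ R)).IsMaximal :=
    Ideal.isMaximal_comap_of_isIntegral_of_isMaximal m
  exact sInf_le ⟨bot_le, this⟩

theorem isMaximal_of_prime_of_le [Finite (MaximalSpectrum R₀)] (p : Ideal R₀) [hp : p.IsPrime]
    (h : Ideal.jacobson (⊥ : Ideal R₀) ≤ p) : p.IsMaximal := by
  classical
  have : Fintype (MaximalSpectrum R₀) := Fintype.ofFinite _
  have h1 : (Finset.univ : Finset (MaximalSpectrum R₀)).inf (fun m => m.asIdeal) ≤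
      Ideal.jacobson (⊥ : Ideal R₀) := by
    unfold Ideal.jacobson
    refine le_sInf ?_
    rintro m ⟨-, hm⟩
    exact Finset.inf_le (f := fun m : MaximalSpectrum R₀ => m.asIdeal) (b := ⟨m, hm⟩)
      (Finset.mem_univ _)
  obtain ⟨m, -, hm⟩ := (Ideal.IsPrime.inf_le' hp).1 (h1.trans h)
  have := m.isMaximal.eq_of_le hp.ne_top hm
  rw [← this]
  exact m.isMaximal

/-- (H2) -/
theorem exists_pow_jacobson_le [IsNoetherianRing R₀] [Finite (MaximalSpectrum R₀)]
    [Module.Finite R₀ R] :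
    ∃ N : ℕ, Ideal.jacobson (⊥ : Ideal R) ^ N ≤
      (Ideal.jacobson (⊥ : Ideal R₀)).map (algebraMap R₀ R) := by
  have : IsNoetherianRing R := IsNoetherianRing.of_finite R₀ R
  have : Algebra.IsIntegral R₀ R := Algebra.IsIntegral.of_finite R₀ R
  apply Ideal.exists_pow_le_of_le_radical_of_fg
  · rw [Ideal.radical_eq_sInf]
    refine le_sInf ?_
    rintro P ⟨hle, hP⟩
    have hp : (P.comap (algebraMap R₀ R)).IsPrime := Ideal.comap_isPrime _ P
    have h1 : Ideal.jacobson (⊥ : Ideal R₀) ≤ P.comap (algebraMap R₀ R) :=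
      Ideal.map_le_iff_le_comap.1 hle
    have hmax : (P.comap (algebraMap R₀ R)).IsMaximal := isMaximal_of_prime_of_le _ h1
    have : P.IsMaximal := Ideal.isMaximal_of_isIntegral_of_isMaximal_comap P hmax
    exact jacobson_bot_le_of_isMaximal P
  · exact IsNoetherian.noetherian _

end Groth.Agent.Helper26.SemiLoc
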