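import Mathlib

set_option autoImplicit false

namespace Groth.Agent.Helper26.SemiLoc

universe u

variable {R₀ R : Type u} [CommRing R₀] [CommRing R] [Algebra R₀ R]
  (I₀ : Ideal R₀) (I : Ideal R)

theorem mem_pow_of_mem_smul_top (h1 : I₀.map (algebraMap R₀ R) ≤ I) (n : ℕ) {x : R}
    (hx : x ∈ (I₀ ^ n • ⊤ : Submodule R₀ R)) : x ∈ I ^ n := by
  rw [Ideal.smul_top_eq_map, Submodule.restrictScalars_mem, Ideal.map_pow] at hx
  exact Ideal.pow_right_mono h1 n hx

theorem mem_smul_top_of_mem_pow {N : ℕ} (h2 : I ^ N ≤ I₀.map (algebraMap R₀ R)) (n : ℕ) {x : R}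
    (hx : x ∈ I ^ (N * n)) : x ∈ (I₀ ^ n • ⊤ : Submodule R₀ R) := by
  rw [Ideal.smul_top_eq_map, Submodule.restrictScalars_mem, Ideal.map_pow]
  rw [pow_mul] at hx
  exact Ideal.pow_right_mono h2 n hx

/-- the level maps. -/
noncomputable def qq (h1 : I₀.map (algebraMap R₀ R) ≤ I) (n : ℕ) :
    R ⧸ (I₀ ^ n • ⊤ : Submodule R₀ R) →ₗ[R₀] R ⧸ (I ^ n • ⊤ : Submodule R R) :=
  Submodule.liftQ _ ((Submodule.mkQ (I ^ n • ⊤ : Submodule R R)).restrictScalars R₀) (by
    intro x hx
    rw [LinearMap.mem_ker, LinearMap.restrictScalars_apply, Submodule.mkQ_apply,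
      Submodule.Quotient.mk_eq_zero, smul_eq_mul, Ideal.mul_top]
    exact mem_pow_of_mem_smul_top I₀ I h1 n hx)

theorem qq_mk (h1 : I₀.map (algebraMap R₀ R) ≤ I) (n : ℕ) (x : R) :
    qq I₀ I h1 n (Submodule.Quotient.mk x) = Submodule.Quotient.mk x := rfl

/-- the comparison map between the two completions of `R`. -/
noncomputable def cc (h1 : I₀.map (algebraMap R₀ R) ≤ I) :
    AdicCompletion I₀ R →+ AdicCompletion I R where
  toFun x := ⟨fun n => qq I₀ I h1 n (x.val n), by
    intro m n hmn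
    have hx := x.property hmn
    obtain ⟨y, hy⟩ := Submodule.Quotient.mk_surjective _ (x.val n)
    have hm : x.val m = Submodule.Quotient.mk y := by rw [← hx, ← hy]; rfl
    show AdicCompletion.transitionMap I R hmn (qq I₀ I h1 n (x.val n)) = qq I₀ I h1 m (x.val m)
    rw [hm, ← hy]
    rfl⟩
  map_zero' := by
    apply AdicCompletion.ext
    intro n
    change qq I₀ I h1 n ((0 : AdicCompletion I₀ R).val n) = 0
    rw [AdicCompletion.val_zero_apply, map_zero]
  map_add' x y := by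
    apply AdicCompletion.ext
    intro n
    change qq I₀ I h1 n ((x + y).val n) = qq I₀ I h1 n (x.val n) + qq I₀ I h1 n (y.val n)
    rw [AdicCompletion.val_add_apply, map_add]

theorem cc_val (h1 : I₀.map (algebraMap R₀ R) ≤ I) (x : AdicCompletion I₀ R) (n : ℕ) :
    (cc I₀ I h1 x).val n = qq I₀ I h1 n (x.val n) := rfl

theorem cc_mk (h1 : I₀.map (algebraMap R₀ R) ≤ I) (a : AdicCompletion.AdicCauchySequence I₀ R) (n : ℕ) :
    (cc I₀ I h1 (AdicCompletion.mk I₀ R a)).val n = Submodule.Quotient.mk (a n) := rfl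

theorem cc_injective (h1 : I₀.map (algebraMap R₀ R) ≤ I) {N : ℕ}
    (h2 : I ^ N ≤ I₀.map (algebraMap R₀ R)) : Function.Injective (cc I₀ I h1) := by
  rw [injective_iff_map_eq_zero]
  intro x hx
  obtain ⟨a, rfl⟩ := AdicCompletion.mk_surjective I₀ R x
  apply AdicCompletion.ext
  intro n
  rw [AdicCompletion.val_zero_apply]
  change Submodule.Quotient.mk (a n) = 0
  rw [Submodule.Quotient.mk_eq_zero]
  have h3 : ∀ m, a m ∈ I ^ m := by
    intro m
    have : (cc I₀ I h1 (AdicCompletion.mk I₀ R a)).val m = 0 := by rw [hx]; rfl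
    rw [cc_mk, Submodule.Quotient.mk_eq_zero, smul_eq_mul, Ideal.mul_top] at this
    exact this
  -- a n ≡ a (N * n + n) mod I₀^n
  have h4 : a n - a (N * n + n) ∈ (I₀ ^ n • ⊤ : Submodule R₀ R) := by
    have := a.property (Nat.le_add_left n (N * n))
    rw [SModEq.sub_mem] at this
    exact this
  have h5 : a (N * n + n) ∈ (I₀ ^ n • ⊤ : Submodule R₀ R) := by
    apply mem_smul_top_of_mem_pow I₀ I h2
    exact Ideal.pow_le_pow_right (Nat.le_add_right _ _) (h3 _)
  have := Submodule.add_mem _ h4 h5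
  rwa [sub_add_cancel] at this

theorem cc_surjective (h1 : I₀.map (algebraMap R₀ R) ≤ I) {N : ℕ}
    (h2 : I ^ N ≤ I₀.map (algebraMap R₀ R)) : Function.Surjective (cc I₀ I h1) := by
  intro y
  obtain ⟨a, rfl⟩ := AdicCompletion.mk_surjective I R y
  have hcauchy : AdicCompletion.IsAdicCauchy I₀ R (fun n => a (N * n + n)) := by
    intro m n hmn
    rw [SModEq.sub_mem]
    apply mem_smul_top_of_mem_pow I₀ I h2
    have hle : N * m + m ≤ N * n + n := by nlinarith
    have := a.property hle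
    rw [SModEq.sub_mem, smul_eq_mul, Ideal.mul_top] at this
    exact Ideal.pow_le_pow_right (Nat.le_add_right _ _) this
  refine ⟨AdicCompletion.mk I₀ R ⟨_, hcauchy⟩, ?_⟩
  apply AdicCompletion.ext
  intro n
  change Submodule.Quotient.mk (a (N * n + n)) = Submodule.Quotient.mk (a n)
  rw [Submodule.Quotient.eq]
  have := a.property (Nat.le_add_left n (N * n))
  rw [SModEq.sub_mem] at this
  have h3 := Submodule.neg_mem _ this
  rwa [neg_sub] at h3

end Groth.Agent.Helper26.SemiLoc
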