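import Mathlib
import Groth.Agent.Lib.Helper26.SL2

set_option autoImplicit false

namespace Groth.Agent.Helper26.SemiLoc

open TensorProduct

universe u

variable {R₀ R : Type u} [CommRing R₀] [CommRing R] [Algebra R₀ R]
  (I₀ : Ideal R₀) (I : Ideal R)

theorem le_comap_pow (h1 : I₀.map (algebraMap R₀ R) ≤ I) (n : ℕ) :
    (I₀ ^ n • ⊤ : Ideal R₀) ≤ (I ^ n • ⊤ : Ideal R).comap (algebraMap R₀ R) := by
  rw [smul_eq_mul, Ideal.mul_top, smul_eq_mul, Ideal.mul_top, ← Ideal.map_le_iff_le_comap,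
    Ideal.map_pow]
  exact Ideal.pow_right_mono h1 n

/-- the level ring maps. -/
noncomputable def φφ (h1 : I₀.map (algebraMap R₀ R) ≤ I) (n : ℕ) :
    R₀ ⧸ (I₀ ^ n • ⊤ : Ideal R₀) →+* R ⧸ (I ^ n • ⊤ : Ideal R) :=
  Ideal.quotientMap _ (algebraMap R₀ R) (le_comap_pow I₀ I h1 n)

theorem φφ_mk (h1 : I₀.map (algebraMap R₀ R) ≤ I) (n : ℕ) (r : R₀) :
    φφ I₀ I h1 n (Ideal.Quotient.mk _ r) = Ideal.Quotient.mk _ (algebraMap R₀ R r) := rfl

/-- the canonical map between the completions. -/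
noncomputable def κκ (h1 : I₀.map (algebraMap R₀ R) ≤ I) :
    AdicCompletion I₀ R₀ →ₐ[R₀] AdicCompletion I R where
  toFun x := ⟨fun n => φφ I₀ I h1 n (x.val n), by
    intro m n hmn
    have hx := x.property hmn
    obtain ⟨y, hy⟩ := Ideal.Quotient.mk_surjective (x.val n)
    have hm : x.val m = Ideal.Quotient.mk _ y := by rw [← hx, ← hy]; rfl
    show AdicCompletion.transitionMap I R hmn (φφ I₀ I h1 n (x.val n)) = φφ I₀ I h1 m (x.val m)
    rw [hm, ← hy]
    rfl⟩
  map_one' := by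
    apply AdicCompletion.ext
    intro n
    change φφ I₀ I h1 n ((1 : AdicCompletion I₀ R₀).val n) = (1 : AdicCompletion I R).val n
    rw [AdicCompletion.val_one, AdicCompletion.val_one, map_one]
  map_mul' x y := by
    apply AdicCompletion.ext
    intro n
    change φφ I₀ I h1 n ((x * y).val n) = φφ I₀ I h1 n (x.val n) * φφ I₀ I h1 n (y.val n)
    rw [AdicCompletion.val_mul, map_mul]
  map_zero' := by
    apply AdicCompletion.ext
    intro n
    change φφ I₀ I h1 n ((0 : AdicCompletion I₀ R₀).val n) = 0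
    rw [AdicCompletion.val_zero_apply, map_zero]
  map_add' x y := by
    apply AdicCompletion.ext
    intro n
    change φφ I₀ I h1 n ((x + y).val n) = φφ I₀ I h1 n (x.val n) + φφ I₀ I h1 n (y.val n)
    rw [AdicCompletion.val_add_apply, map_add]
  commutes' r := by
    apply AdicCompletion.ext
    intro n
    rfl

theorem κκ_val (h1 : I₀.map (algebraMap R₀ R) ≤ I) (x : AdicCompletion I₀ R₀) (n : ℕ) :
    (κκ I₀ I h1 x).val n = φφ I₀ I h1 n (x.val n) := rfl

/-- the map `R ⊗ Â₀ → Â`. -/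
noncomputable def θθ (h1 : I₀.map (algebraMap R₀ R) ≤ I) :
    R ⊗[R₀] AdicCompletion I₀ R₀ →ₐ[R] AdicCompletion I R :=
  Algebra.TensorProduct.lift (Algebra.ofId R (AdicCompletion I R)) (κκ I₀ I h1)
    (fun _ _ => Commute.all _ _)

theorem θθ_tmul (h1 : I₀.map (algebraMap R₀ R) ≤ I) (a : R) (x : AdicCompletion I₀ R₀) :
    θθ I₀ I h1 (a ⊗ₜ x) = algebraMap R (AdicCompletion I R) a * κκ I₀ I h1 x := by
  unfold θθ
  rw [Algebra.TensorProduct.lift_tmul]
  rfl

theorem cc_smul_of (h1 : I₀.map (algebraMap R₀ R) ≤ I) (x : AdicCompletion I₀ R₀) (a : R) :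
    cc I₀ I h1 (x • AdicCompletion.of I₀ R a) =
      algebraMap R (AdicCompletion I R) a * κκ I₀ I h1 x := by
  apply AdicCompletion.ext
  intro n
  rw [cc_val, AdicCompletion.smul_eval, AdicCompletion.val_mul, κκ_val]
  obtain ⟨r, hr⟩ := Ideal.Quotient.mk_surjective (x.val n)
  rw [← hr, φφ_mk]
  have e1 : (AdicCompletion.of I₀ R a).val n =
      Submodule.Quotient.mk (p := (I₀ ^ n • ⊤ : Submodule R₀ R)) a := rfl
  have e2 : (algebraMap R (AdicCompletion I R) a).val n = Ideal.Quotient.mk _ a := rfl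
  rw [e1, e2, AdicCompletion.mk_smul_mk, ← Submodule.Quotient.mk_smul, qq_mk, ← map_mul]
  have e3 : r • a = a * algebraMap R₀ R r := by rw [Algebra.smul_def, mul_comm]
  rw [e3]
  rfl

theorem θθ_comm (h1 : I₀.map (algebraMap R₀ R) ≤ I) (t : AdicCompletion I₀ R₀ ⊗[R₀] R) :
    θθ I₀ I h1 (TensorProduct.comm R₀ _ _ t) = cc I₀ I h1 (AdicCompletion.ofTensorProduct I₀ R t) := by
  induction t using TensorProduct.induction_on with
  | zero => simp
  | tmul x a =>
    rw [TensorProduct.comm_tmul, θθ_tmul, AdicCompletion.ofTensorProduct_tmul, cc_smul_of]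
  | add x y hx hy => rw [map_add, map_add, map_add, map_add, hx, hy]

theorem θθ_bijective [IsNoetherianRing R₀] [Module.Finite R₀ R]
    (h1 : I₀.map (algebraMap R₀ R) ≤ I) {N : ℕ} (h2 : I ^ N ≤ I₀.map (algebraMap R₀ R)) :
    Function.Bijective (θθ I₀ I h1) := by
  have h3 : (θθ I₀ I h1 : R ⊗[R₀] AdicCompletion I₀ R₀ → AdicCompletion I R) =
      (cc I₀ I h1) ∘ (AdicCompletion.ofTensorProduct I₀ R) ∘ (TensorProduct.comm R₀ _ _).symm := by
    funext t
    have := θθ_comm I₀ I h1 ((TensorProduct.comm R₀ _ _).symm t)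
    rw [LinearEquiv.apply_symm_apply] at this
    exact this
  rw [h3]
  exact (Function.Bijective.comp ⟨cc_injective I₀ I h1 h2, cc_surjective I₀ I h1 h2⟩
    ((AdicCompletion.ofTensorProduct_bijective_of_finite_of_isNoetherian I₀ R).comp
      (TensorProduct.comm R₀ _ _).symm.bijective))

end Groth.Agent.Helper26.SemiLoc
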