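import Mathlib
import Groth.Prelude.Def_FSRel
import Groth.Agent.Lib.Helper26.SL1
import Groth.Agent.Lib.Helper26.SL3

set_option autoImplicit false

namespace Groth.Agent.Helper26.SemiLoc

open TensorProduct

universe u

theorem fsRel_of_bijective {Λ A B B₀ : Type u} [CommRing Λ] [CommRing A] [CommRing B] [CommRing B₀]
    [Algebra Λ A] [Algebra Λ B] [Algebra A B] [IsScalarTower Λ A B] [Algebra Λ B₀]
    (κ : B₀ →ₐ[Λ] B)
    (hθ : Function.Bijective (Algebra.TensorProduct.lift (Algebra.ofId A B) κ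
      (fun _ _ => Commute.all _ _) : A ⊗[Λ] B₀ →ₐ[A] B)) :
    EGA41.IsFormallySmoothRel Λ A B := by
  intro C _ _ _ _ K _ u₀ hu
  obtain ⟨u, hu⟩ := hu
  let θ : A ⊗[Λ] B₀ →ₐ[A] B := Algebra.TensorProduct.lift (Algebra.ofId A B) κ
      (fun _ _ => Commute.all _ _)
  let e : A ⊗[Λ] B₀ ≃ₐ[A] B := AlgEquiv.ofBijective θ hθ
  let v' : A ⊗[Λ] B₀ →ₐ[A] C := Algebra.TensorProduct.lift (Algebra.ofId A C) (u.comp κ)
      (fun _ _ => Commute.all _ _)
  have hu' : ∀ y : B, Ideal.Quotient.mk K (u y) = u₀ y := by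
    intro y
    have := congrArg (fun f => f y) hu
    exact this
  have key : ∀ t : A ⊗[Λ] B₀, Ideal.Quotient.mk K (v' t) = u₀ (θ t) := by
    intro t
    induction t using TensorProduct.induction_on with
    | zero => simp
    | tmul a x =>
      have h1 : v' (a ⊗ₜ x) = algebraMap A C a * u (κ x) := by
        simp only [v']
        rw [Algebra.TensorProduct.lift_tmul]
        rfl
      have h2 : θ (a ⊗ₜ x) = algebraMap A B a * κ x := by
        simp only [θ]
        rw [Algebra.TensorProduct.lift_tmul]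
        rfl
      rw [h1, h2, map_mul, map_mul, hu', AlgHom.commutes]
      rfl
    | add x y hx hy => rw [map_add, map_add, map_add, map_add, hx, hy]
  refine ⟨v'.comp e.symm.toAlgHom, ?_⟩
  ext y
  have := key (e.symm y)
  have h3 : θ (e.symm y) = y := e.apply_symm_apply y
  rw [h3] at this
  exact this

theorem main {A₀ A : Type u} [CommRing A₀] [IsNoetherianRing A₀] [Finite (MaximalSpectrum A₀)]
    [CommRing A] [Algebra A₀ A] [Module.Finite A₀ A] :
    EGA41.IsFormallySmoothRel A₀ A (AdicCompletion (Ideal.jacobson (⊥ : Ideal A)) A) := by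
  have : Algebra.IsIntegral A₀ A := Algebra.IsIntegral.of_finite A₀ A
  have h1 := map_jacobson_le (R₀ := A₀) (R := A)
  obtain ⟨N, h2⟩ := exists_pow_jacobson_le (R₀ := A₀) (R := A)
  exact fsRel_of_bijective (κκ _ _ h1) (θθ_bijective _ _ h1 h2)

end Groth.Agent.Helper26.SemiLoc
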