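import Mathlib

namespace Groth.Agent.Lib.Helper26.SSRed1

open Submodule

variable {ℓ : ℕ} [Fact ℓ.Prime]

theorem smul_injective' {N : Type*} [AddCommGroup N] [Module ℤ_[ℓ] N] [Module.Free ℤ_[ℓ] N] :
    Function.Injective (fun x : N => (ℓ : ℤ_[ℓ]) • x) := by
  have : (ℓ : ℤ_[ℓ]) ≠ 0 := by
    exact_mod_cast (Fact.out : ℓ.Prime).ne_zero
  exact smul_right_injective N this

/-- index of ℓN in a free module of rank c -/
theorem index_smul_top (N : Type*) [AddCommGroup N] [Module ℤ_[ℓ] N] [Module.Free ℤ_[ℓ] N]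
    [Module.Finite ℤ_[ℓ] N] :
    (LinearMap.range ((ℓ : ℤ_[ℓ]) • (LinearMap.id : N →ₗ[ℤ_[ℓ]] N))).toAddSubgroup.index
      = ℓ ^ (Module.finrank ℤ_[ℓ] N) := by
  classical
  let b := Module.finBasis ℤ_[ℓ] N
  let φ : N →+ (Fin (Module.finrank ℤ_[ℓ] N) → ZMod ℓ) :=
    { toFun := fun x i => PadicInt.toZMod (b.repr x i)
      map_zero' := by ext i; simp
      map_add' := fun x y => by ext i; simp }
  have hker : φ.ker = (LinearMap.range ((ℓ : ℤ_[ℓ]) • (LinearMap.id : N →ₗ[ℤ_[ℓ]] N))).toAddSubgroup := by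
    ext x
    simp only [AddMonoidHom.mem_ker, Submodule.mem_toAddSubgroup, LinearMap.mem_range,
      LinearMap.smul_apply, LinearMap.id_coe, id_eq]
    constructor
    · intro h
      have h1 : ∀ i, ∃ c : ℤ_[ℓ], b.repr x i = (ℓ : ℤ_[ℓ]) * c := by
        intro i
        have : PadicInt.toZMod (b.repr x i) = 0 := congrFun h i
        have h2 : b.repr x i ∈ RingHom.ker (PadicInt.toZMod : ℤ_[ℓ] →+* ZMod ℓ) := this
        rw [PadicInt.ker_toZMod, PadicInt.maximalIdeal_eq_span_p, Ideal.mem_span_singleton] at h2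
        exact h2
      choose c hc using h1
      refine ⟨∑ i, c i • b i, ?_⟩
      rw [Finset.smul_sum]
      conv_rhs => rw [← b.sum_repr x]
      refine Finset.sum_congr rfl fun i _ => ?_
      rw [hc i, mul_smul]
    · rintro ⟨y, rfl⟩
      ext i
      show PadicInt.toZMod (b.repr ((ℓ : ℤ_[ℓ]) • y) i) = 0
      rw [map_smul, Finsupp.smul_apply, smul_eq_mul, map_mul]
      have : (PadicInt.toZMod (ℓ : ℤ_[ℓ]) : ZMod ℓ) = 0 := by
        rw [map_natCast]; exact ZMod.natCast_self ℓ
      rw [this, zero_mul]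
  have hsurj : Function.Surjective φ := by
    intro v
    have h1 : ∀ i, ∃ c : ℤ_[ℓ], PadicInt.toZMod c = v i := fun i =>
      ZMod.ringHom_surjective _ (v i)
    choose c hc using h1
    refine ⟨∑ i, c i • b i, ?_⟩
    ext i
    show PadicInt.toZMod (b.repr (∑ j, c j • b j) i) = v i
    rw [b.repr_sum_self]
    exact hc i
  rw [← hker, AddSubgroup.index_ker, AddMonoidHom.range_eq_top.mpr hsurj]
  rw [Nat.card_congr (AddSubgroup.topEquiv (G := Fin (Module.finrank ℤ_[ℓ] N) → ZMod ℓ)).toEquiv]
  rw [Nat.card_eq_fintype_card, Fintype.card_fun, ZMod.card, Fintype.card_fin]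

theorem index_range_pow {N : Type*} [AddCommGroup N] [Module ℤ_[ℓ] N]
    (g : N →ₗ[ℤ_[ℓ]] N) (hg : Function.Injective g) (j : ℕ) :
    (LinearMap.range (g ^ j)).toAddSubgroup.index = (LinearMap.range g).toAddSubgroup.index ^ j := by
  induction j with
  | zero =>
    simp only [pow_zero]
    have : (LinearMap.range (1 : N →ₗ[ℤ_[ℓ]] N)).toAddSubgroup = ⊤ := by
      ext x; simp
    rw [this, AddSubgroup.index_top]
  | succ j ih =>
    have h1 : (LinearMap.range (g ^ (j+1))).toAddSubgroup
        = AddSubgroup.map g.toAddMonoidHom (LinearMap.range (g ^ j)).toAddSubgroup := by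
      ext x
      simp only [Submodule.mem_toAddSubgroup, LinearMap.mem_range, AddSubgroup.mem_map,
        LinearMap.toAddMonoidHom_coe]
      constructor
      · rintro ⟨y, rfl⟩
        exact ⟨(g ^ j) y, ⟨y, rfl⟩, by rw [pow_succ']; rfl⟩
      · rintro ⟨_, ⟨y, rfl⟩, rfl⟩
        exact ⟨y, by rw [pow_succ']; rfl⟩
    have h2 : (LinearMap.range g).toAddSubgroup = AddSubgroup.map g.toAddMonoidHom ⊤ := by
      ext x
      simp [LinearMap.mem_range]
    have h3 : AddSubgroup.map g.toAddMonoidHom (LinearMap.range (g ^ j)).toAddSubgroup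
        ≤ AddSubgroup.map g.toAddMonoidHom ⊤ := AddSubgroup.map_mono le_top
    rw [h1, ← AddSubgroup.relIndex_mul_index h3,
      AddSubgroup.relIndex_map_map_of_injective _ _ (f := g.toAddMonoidHom) hg, ← h2,
      AddSubgroup.relIndex_top_right, ih, pow_succ]


section core
variable {M : Type*} [AddCommGroup M] [Module ℤ_[ℓ] M] [Module.Free ℤ_[ℓ] M] [Module.Finite ℤ_[ℓ] M]

theorem core (e f u v : Module.End ℤ_[ℓ] M) (k : ℕ) (hk : 1 ≤ k)
    (he : e * e = e) (hfe : f * e = f) (hef : e * f = f)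
    (hfk : f ^ k = (ℓ : ℤ_[ℓ]) • u) (huv : u * v = e) (hvu : v * u = e)
    (c : ℕ) (hc : c = Module.finrank ℤ_[ℓ] M - Module.finrank ℤ_[ℓ] (LinearMap.ker f)) :
    (∀ x ∈ Submodule.torsion ℤ_[ℓ] (M ⧸ LinearMap.range f), (ℓ : ℤ_[ℓ]) • x = 0) ∧
      ∃ r : ℕ, r * k = c ∧
        Nat.card (Submodule.torsion ℤ_[ℓ] (M ⧸ LinearMap.range f)) = ℓ ^ r := by
  classical
  have hℓ0 : (ℓ : ℤ_[ℓ]) ≠ 0 := by exact_mod_cast (Fact.out : ℓ.Prime).ne_zero
  obtain ⟨k', rfl⟩ : ∃ k', k = k' + 1 := ⟨k - 1, by omega⟩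
  -- pointwise versions
  have he' : ∀ x, e (e x) = e x := fun x => by
    have := congrArg (fun t : Module.End ℤ_[ℓ] M => t x) he; simpa using this
  have hfe' : ∀ x, f (e x) = f x := fun x => by
    have := congrArg (fun t : Module.End ℤ_[ℓ] M => t x) hfe; simpa using this
  have hef' : ∀ x, e (f x) = f x := fun x => by
    have := congrArg (fun t : Module.End ℤ_[ℓ] M => t x) hef; simpa using this
  have huv' : ∀ x, u (v x) = e x := fun x => by
    have := congrArg (fun t : Module.End ℤ_[ℓ] M => t x) huv; simpa using this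
  have hvu' : ∀ x, v (u x) = e x := fun x => by
    have := congrArg (fun t : Module.End ℤ_[ℓ] M => t x) hvu; simpa using this
  have hfk' : ∀ x, (f ^ (k'+1)) x = (ℓ : ℤ_[ℓ]) • u x := fun x => by
    have := congrArg (fun t : Module.End ℤ_[ℓ] M => t x) hfk; simpa using this
  have hue : ∀ x, u (e x) = e (u x) := fun x => by
    rw [← hvu' x, huv']
  have hve : ∀ x, v (e x) = e (v x) := fun x => by
    rw [← huv' x, hvu']
  -- ker f = ker e
  have hker : LinearMap.ker f = LinearMap.ker e := by
    ext x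
    simp only [LinearMap.mem_ker]
    constructor
    · intro hx
      have h1 : (f ^ (k'+1)) x = 0 := by
        rw [pow_succ]; simp [hx]
      rw [hfk'] at h1
      have h2 : u x = 0 := by
        rcases smul_eq_zero.mp h1 with h | h
        · exact absurd h hℓ0
        · exact h
      rw [← hvu', h2, map_zero]
    · intro hx
      rw [← hfe', hx, map_zero]
  -- rank
  have hrank : Module.finrank ℤ_[ℓ] (LinearMap.range e) = c := by
    have h1 := LinearMap.rank_range_add_rank_ker e
    have h2 : Module.finrank ℤ_[ℓ] (LinearMap.range e) + Module.finrank ℤ_[ℓ] (LinearMap.ker e)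
        = Module.finrank ℤ_[ℓ] M := by
      rw [← Module.finrank_eq_rank, ← Module.finrank_eq_rank, ← Module.finrank_eq_rank] at h1
      exact_mod_cast h1
    rw [hc, hker]; omega
  -- the lattice M'
  set M' : Submodule ℤ_[ℓ] M := LinearMap.range e with hM'
  have hmemM' : ∀ x, x ∈ M' ↔ e x = x := by
    intro x
    constructor
    · rintro ⟨y, rfl⟩; exact he' y
    · intro h; exact ⟨x, h⟩
  have hfM' : ∀ x ∈ M', f x ∈ M' := fun x _ => (hmemM' _).mpr (hef' x)
  -- ℓ e z ∈ range f
  have hℓe : ∀ z, (ℓ : ℤ_[ℓ]) • e z ∈ LinearMap.range f := by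
    intro z
    refine ⟨(f ^ k') (v z), ?_⟩
    have : f ((f ^ k') (v z)) = (f ^ (k'+1)) (v z) := by rw [pow_succ']; rfl
    rw [this, hfk', huv']
  -- torsion characterization
  have htors : ∀ x : M, Submodule.Quotient.mk (p := LinearMap.range f) x
      ∈ Submodule.torsion ℤ_[ℓ] (M ⧸ LinearMap.range f) ↔ x - e x ∈ LinearMap.range f := by
    intro x
    constructor
    · intro hx
      rw [Submodule.mem_torsion_iff] at hx
      obtain ⟨a, ha⟩ := hx
      have ha' : ((a : ℤ_[ℓ]) • x) ∈ LinearMap.range f := by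
        rw [← Submodule.Quotient.mk_eq_zero (LinearMap.range f), Submodule.Quotient.mk_smul]
        exact ha
      obtain ⟨z, hz⟩ := ha'
      have h1 : (a : ℤ_[ℓ]) • (x - e x) = 0 := by
        rw [smul_sub, ← map_smul, ← hz, hef', sub_self]
      rcases smul_eq_zero.mp h1 with h | h
      · exact absurd h (nonZeroDivisors.coe_ne_zero a)
      · rw [h]; exact zero_mem _
    · intro hx
      rw [Submodule.mem_torsion_iff]
      refine ⟨⟨(ℓ : ℤ_[ℓ]), mem_nonZeroDivisors_of_ne_zero hℓ0⟩, ?_⟩
      show (ℓ : ℤ_[ℓ]) • (Submodule.Quotient.mk x : M ⧸ LinearMap.range f) = 0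
      rw [← Submodule.Quotient.mk_smul, Submodule.Quotient.mk_eq_zero]
      have : (ℓ : ℤ_[ℓ]) • x = (ℓ : ℤ_[ℓ]) • (x - e x) + (ℓ : ℤ_[ℓ]) • e x := by
        rw [← smul_add, sub_add_cancel]
      rw [this]
      exact add_mem (Submodule.smul_mem _ _ hx) (hℓe x)
  refine ⟨?_, ?_⟩
  · intro x hx
    obtain ⟨x, rfl⟩ := Submodule.Quotient.mk_surjective _ x
    have h1 := (htors x).mp hx
    rw [← Submodule.Quotient.mk_smul, Submodule.Quotient.mk_eq_zero]
    have : (ℓ : ℤ_[ℓ]) • x = (ℓ : ℤ_[ℓ]) • (x - e x) + (ℓ : ℤ_[ℓ]) • e x := by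
      rw [← smul_add, sub_add_cancel]
    rw [this]
    exact add_mem (Submodule.smul_mem _ _ h1) (hℓe x)
  · -- cardinality
    let π : M' →ₗ[ℤ_[ℓ]] (M ⧸ LinearMap.range f) := (LinearMap.range f).mkQ.comp M'.subtype
    have hrange : LinearMap.range π = Submodule.torsion ℤ_[ℓ] (M ⧸ LinearMap.range f) := by
      ext x
      obtain ⟨x, rfl⟩ := Submodule.Quotient.mk_surjective _ x
      rw [htors]
      constructor
      · rintro ⟨⟨y, hy⟩, hyx⟩
        have h1 : Submodule.Quotient.mk (p := LinearMap.range f) y = Submodule.Quotient.mk x := hyx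
        rw [Submodule.Quotient.eq] at h1
        obtain ⟨z, hz⟩ := h1
        have hy' := (hmemM' y).mp hy
        have : x = y - f z := by rw [hz]; abel
        have h0 : x - e x = 0 := by
          rw [this, map_sub, hef', hy', sub_self]
        rw [h0]; exact zero_mem _
      · intro hx
        refine ⟨⟨e x, (hmemM' _).mpr (he' x)⟩, ?_⟩
        show Submodule.Quotient.mk (p := LinearMap.range f) (e x) = Submodule.Quotient.mk x
        rw [Submodule.Quotient.eq]
        have : e x - x = -(x - e x) := by abel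
        rw [this]; exact neg_mem hx
    let g : M' →ₗ[ℤ_[ℓ]] M' := f.restrict hfM'
    have hgcoe : ∀ y : M', ((g y : M')  : M) = f (y : M) := fun y => rfl
    have hkerπ : LinearMap.ker π = LinearMap.range g := by
      ext ⟨y, hy⟩
      simp only [LinearMap.mem_ker, LinearMap.mem_range]
      constructor
      · intro h
        have h1 : Submodule.Quotient.mk (p := LinearMap.range f) y = 0 := h
        rw [Submodule.Quotient.mk_eq_zero] at h1
        obtain ⟨z, hz⟩ := h1
        refine ⟨⟨e z, (hmemM' _).mpr (he' z)⟩, ?_⟩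
        apply Subtype.ext
        rw [hgcoe]
        show f (e z) = y
        rw [hfe', hz]
      · rintro ⟨z, hz⟩
        show Submodule.Quotient.mk (p := LinearMap.range f) y = 0
        rw [Submodule.Quotient.mk_eq_zero]
        refine ⟨(z : M), ?_⟩
        have := congrArg (Subtype.val) hz
        rw [hgcoe] at this
        exact this
    have hginj : Function.Injective g := by
      rw [← LinearMap.ker_eq_bot, Submodule.eq_bot_iff]
      rintro ⟨y, hy⟩ h
      have h1 : f y = 0 := by
        have := congrArg (Subtype.val) (LinearMap.mem_ker.mp h)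
        rw [hgcoe] at this
        exact this
      have h2 : y ∈ LinearMap.ker e := by rw [← hker]; exact h1
      have h3 : e y = 0 := h2
      apply Subtype.ext
      show y = 0
      rw [← (hmemM' y).mp hy, h3]
    have hgpow : ∀ (j : ℕ) (y : M'), (((g ^ j) y : M') : M) = (f ^ j) (y : M) := by
      intro j
      induction j with
      | zero => intro y; simp
      | succ j ih =>
        intro y
        rw [pow_succ', pow_succ']
        show (((g ((g ^ j) y)) : M') : M) = f ((f ^ j) y)
        rw [hgcoe, ih]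
    have hrangepow : LinearMap.range (g ^ (k'+1))
        = LinearMap.range ((ℓ : ℤ_[ℓ]) • (LinearMap.id : M' →ₗ[ℤ_[ℓ]] M')) := by
      ext ⟨y, hy⟩
      simp only [LinearMap.mem_range, LinearMap.smul_apply, LinearMap.id_coe, id_eq]
      constructor
      · rintro ⟨z, hz⟩
        have h1 := congrArg (Subtype.val) hz
        rw [hgpow, hfk'] at h1
        have hz' := (hmemM' z.1).mp z.2
        refine ⟨⟨u z.1, (hmemM' _).mpr ?_⟩, ?_⟩
        · rw [← hue, hz']
        · apply Subtype.ext
          exact h1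
      · rintro ⟨z, hz⟩
        have h1 := congrArg (Subtype.val) hz
        have hz' := (hmemM' z.1).mp z.2
        refine ⟨⟨v z.1, (hmemM' _).mpr ?_⟩, ?_⟩
        · rw [← hve, hz']
        · apply Subtype.ext
          rw [hgpow, hfk']
          show (ℓ : ℤ_[ℓ]) • u (v z.1) = y
          rw [huv', hz']
          exact h1
    have hidx : (LinearMap.range g).toAddSubgroup.index ^ (k'+1) = ℓ ^ c := by
      rw [← index_range_pow g hginj, hrangepow, index_smul_top, hrank]
    have hdvd : (LinearMap.range g).toAddSubgroup.index ∣ ℓ ^ c := by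
      rw [← hidx]; exact dvd_pow_self _ (by omega)
    obtain ⟨r, -, hr⟩ := (Nat.dvd_prime_pow (Fact.out : ℓ.Prime)).mp hdvd
    refine ⟨r, ?_, ?_⟩
    · rw [hr, ← pow_mul] at hidx
      exact Nat.pow_right_injective (Fact.out : ℓ.Prime).two_le hidx
    · rw [← hr, ← hrange]
      rw [← Nat.card_congr (LinearMap.quotKerEquivRange π).toEquiv, hkerπ]
      rfl

end core

end Groth.Agent.Lib.Helper26.SSRed1
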