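import Mathlib
import Groth.Agent.Lib.Helper26.SSRed1

namespace Groth.Agent.Lib.Helper26.SSRed2

open Submodule Groth.Agent.Lib.Helper26.SSRed1

universe u

theorem end_smul_cancel {ℓ : ℕ} [Fact ℓ.Prime] {M : Type*} [AddCommGroup M] [Module ℤ_[ℓ] M]
    [Module.Free ℤ_[ℓ] M] (a : ℤ_[ℓ]) (ha : a ≠ 0) (X Y : Module.End ℤ_[ℓ] M)
    (h : a • X = a • Y) : X = Y := by
  refine LinearMap.ext fun x => ?_
  have h1 := congrArg (fun t : Module.End ℤ_[ℓ] M => t x) h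
  simp only [LinearMap.smul_apply] at h1
  exact smul_right_injective M ha h1

open scoped IsMulCommutative in
theorem case3 {M : Type*} [AddCommGroup M] [Module ℤ_[3] M]
    [Module.Free ℤ_[3] M] (f B : Module.End ℤ_[3] M) (hA : (1 + f) ^ 3 = 1)
    (hB : f ^ 2 = (3 : ℤ_[3]) • B) :
    (-(B^3)) * (-(B^3)) = -(B^3) ∧ f * (-(B^3)) = f ∧ (-(B^3)) * f = f ∧
      B * (-(B^2)) = -(B^3) ∧ (-(B^2)) * B = -(B^3) := by
  have h30 : (3 : ℤ_[3]) ≠ 0 := by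
    have : ((3 : ℕ) : ℤ_[3]) ≠ 0 := by exact_mod_cast (by norm_num : (3:ℕ) ≠ 0)
    exact_mod_cast this
  -- commutation
  have hcomm : f * B = B * f := by
    apply end_smul_cancel (3 : ℤ_[3]) h30
    rw [← mul_smul_comm, ← smul_mul_assoc, ← hB]
    noncomm_ring
  let s : Set (Module.End ℤ_[3] M) := {f, B}
  have hs : ∀ a ∈ s, ∀ b ∈ s, a * b = b * a := by
    intro a ha b hb
    simp only [s, Set.mem_insert_iff, Set.mem_singleton_iff] at ha hb
    rcases ha with rfl | rfl <;> rcases hb with rfl | rfl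
    · rfl
    · exact hcomm
    · exact hcomm.symm
    · rfl
  have : IsMulCommutative (Algebra.adjoin ℤ_[3] s) := Algebra.isMulCommutative_adjoin ℤ_[3] hs
  let S := Algebra.adjoin ℤ_[3] s
  let F : S := ⟨f, Algebra.subset_adjoin (by simp [s])⟩
  let Bb : S := ⟨B, Algebra.subset_adjoin (by simp [s])⟩
  have hA' : (1 + F) ^ 3 = 1 := Subtype.ext (by simpa using hA)
  have hB' : F ^ 2 = 3 * Bb := by
    apply Subtype.ext
    show f ^ 2 = ((3 : S) * Bb : S).1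
    rw [hB, Algebra.smul_def, map_ofNat]
    rfl
  have hcancel : ∀ X : S, 3 * X = 0 → X = 0 := by
    intro X hX
    apply Subtype.ext
    have h1 : ((3 : S) * X : S).1 = 0 := by rw [hX]; rfl
    have h2 : (3 : ℤ_[3]) • (X : Module.End ℤ_[3] M) = (3 : ℤ_[3]) • 0 := by
      rw [smul_zero, ← h1, Algebra.smul_def, map_ofNat]
      rfl
    exact end_smul_cancel _ h30 _ _ h2
  have H1 : F + 3 * Bb + F * Bb = 0 := by
    apply hcancel
    linear_combination hA' - (3 + F) * hB'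
  have H3 : Bb * (1 + F + Bb) = 0 := by
    apply hcancel
    linear_combination F * H1 - (1 + Bb) * hB'
  have H2 : F * (1 + F + Bb) = 0 := by
    linear_combination H1 + hB'
  have H4 : Bb + Bb ^ 4 = 0 := by
    linear_combination (-Bb) * hA' + ((1+F)^2 - (1+F)*Bb + Bb^2) * H3
  have E1 : (-(Bb^3)) * (-(Bb^3)) = -(Bb^3) := by
    linear_combination Bb^2 * H4
  have E2 : F * (-(Bb^3)) = F := by
    linear_combination F * hA' - ((1+F)^2 - (1+F)*Bb + Bb^2) * H2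
  have E3 : (-(Bb^3)) * F = F := by rw [mul_comm]; exact E2
  refine ⟨?_, ?_, ?_, ?_, ?_⟩
  · have := congrArg Subtype.val E1
    simpa [Bb] using this
  · have := congrArg Subtype.val E2
    simpa [Bb, F] using this
  · have := congrArg Subtype.val E3
    simpa [Bb, F] using this
  · noncomm_ring
  · noncomm_ring


theorem case2 {M : Type*} [AddCommGroup M] [Module ℤ_[2] M]
    [Module.Free ℤ_[2] M] (f B : Module.End ℤ_[2] M) (hA : (1 + f) ^ 2 = 1)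
    (hB : f = (2 : ℤ_[2]) • B) :
    B * B = -B := by
  have h40 : (4 : ℤ_[2]) ≠ 0 := by
    have : ((4 : ℕ) : ℤ_[2]) ≠ 0 := by exact_mod_cast (by norm_num : (4:ℕ) ≠ 0)
    exact_mod_cast this
  apply end_smul_cancel (4 : ℤ_[2]) h40
  rw [hB, Algebra.smul_def, map_ofNat] at hA
  rw [Algebra.smul_def, Algebra.smul_def, map_ofNat]
  have h1 : (1 + (2 : Module.End ℤ_[2] M) * B) ^ 2 - 1 = 4 * (B * B) - 4 * (-B) := by
    noncomm_ring
  rw [hA, sub_self] at h1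
  exact (sub_eq_zero.mp h1.symm)

theorem main (ℓ : ℕ) [Fact ℓ.Prime]
    (M : Type u) [AddCommGroup M] [Module ℤ_[ℓ] M] [Module.Free ℤ_[ℓ] M] [Module.Finite ℤ_[ℓ] M]
    (A : M ≃ₗ[ℤ_[ℓ]] M) (hA : A ^ ℓ = 1) (f : Module.End ℤ_[ℓ] M) (hf : f = (A : M →ₗ[ℤ_[ℓ]] M) - 1)
    (hcase : (ℓ = 2 ∧ ∃ B : Module.End ℤ_[ℓ] M, f = (2 : ℤ_[ℓ]) • B) ∨
      (ℓ = 2 ∧ ∃ B : Module.End ℤ_[ℓ] M, f ^ 2 = (4 : ℤ_[ℓ]) • B) ∨
      (ℓ = 3 ∧ ∃ B : Module.End ℤ_[ℓ] M, f ^ 2 = (3 : ℤ_[ℓ]) • B))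
    (c : ℕ) (hc : c = Module.finrank ℤ_[ℓ] M - Module.finrank ℤ_[ℓ] (LinearMap.ker f)) :
    (∀ x ∈ Submodule.torsion ℤ_[ℓ] (M ⧸ LinearMap.range f), (ℓ : ℤ_[ℓ]) • x = 0) ∧
      ∃ r : ℕ, r * (ℓ - 1) = c ∧
        Nat.card (Submodule.torsion ℤ_[ℓ] (M ⧸ LinearMap.range f)) = ℓ ^ r := by
  have hA' : (1 + f) ^ ℓ = 1 := by
    have h1 : (1 + f) = LinearEquiv.automorphismGroup.toLinearMapMonoidHom A := by
      rw [hf]; simp
    rw [h1, ← map_pow, hA, map_one]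
  have key2 : ∀ (M : Type u) [AddCommGroup M] [Module ℤ_[2] M] [Module.Free ℤ_[2] M]
      [Module.Finite ℤ_[2] M] (f B : Module.End ℤ_[2] M) (hA : (1 + f) ^ 2 = 1)
      (hB : f = (2 : ℤ_[2]) • B) (c : ℕ)
      (hc : c = Module.finrank ℤ_[2] M - Module.finrank ℤ_[2] (LinearMap.ker f)),
      (∀ x ∈ Submodule.torsion ℤ_[2] (M ⧸ LinearMap.range f), ((2 : ℕ) : ℤ_[2]) • x = 0) ∧
      ∃ r : ℕ, r * (2 - 1) = c ∧
        Nat.card (Submodule.torsion ℤ_[2] (M ⧸ LinearMap.range f)) = 2 ^ r := by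
    intro M _ _ _ _ f B hA hB c hc
    have hBB := case2 f B hA hB
    have := core (ℓ := 2) (-B) f B B 1 le_rfl (by rw [neg_mul_neg, hBB])
      (by rw [hB, smul_mul_assoc, mul_neg, hBB, neg_neg])
      (by rw [hB, mul_smul_comm, neg_mul, hBB, neg_neg])
      (by rw [pow_one, hB]; norm_num) hBB hBB c hc
    simpa using this
  rcases hcase with ⟨rfl, B, hB⟩ | ⟨rfl, B, hB⟩ | ⟨rfl, B, hB⟩
  · exact key2 M f B hA' hB c hc
  · have h20 : (2 : ℤ_[2]) ≠ 0 := by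
      have : ((2 : ℕ) : ℤ_[2]) ≠ 0 := by exact_mod_cast (by norm_num : (2:ℕ) ≠ 0)
      exact_mod_cast this
    have hB2 : f = (2 : ℤ_[2]) • (-B) := by
      apply end_smul_cancel (2 : ℤ_[2]) h20
      have h1 : (1 + f) ^ 2 - 1 = f ^ 2 + (2 : Module.End ℤ_[2] M) * f := by noncomm_ring
      rw [hA', sub_self, hB] at h1
      rw [smul_smul, Algebra.smul_def (2 : ℤ_[2]) f, map_ofNat, smul_neg]
      have h4 : (2 : ℤ_[2]) * 2 = 4 := by norm_num
      rw [h4]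
      exact (eq_neg_of_add_eq_zero_right h1.symm)
    exact key2 M f (-B) hA' hB2 c hc
  · obtain ⟨E1, E2, E3, E4, E5⟩ := case3 f B hA' hB
    have := core (ℓ := 3) (-(B^3)) f B (-(B^2)) 2 (by norm_num) E1 E2 E3
      (by rw [hB]; norm_num) E4 E5 c hc
    simpa using this

end Groth.Agent.Lib.Helper26.SSRed2
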