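import Mathlib
import Groth.Prelude.Def_CInt

set_option autoImplicit false

open CategoryTheory CategoryTheory.Limits AlgebraicGeometry

namespace Groth.Agent.Helper26.SecOpen

universe u

theorem inj_transfer (X : Scheme.{u}) {A B A' B' : X.Opens} (hA : A = A') (hB : B = B')
    (h : A ≤ B) (h' : A' ≤ B')
    (hinj : Function.Injective (X.presheaf.map (homOfLE h).op)) :
    Function.Injective (X.presheaf.map (homOfLE h').op) := by
  subst hA hB
  exact hinj

/-- Two morphisms from an open `W` to an affine scheme which agree on `W ⊓ D`, with restriction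
`Γ(W) → Γ(W ⊓ D)` injective, are equal. -/
theorem eq_of_eq_on_dense {E T : Scheme.{u}} [IsAffine T] (W D : E.Opens)
    (hinj : Function.Injective (E.presheaf.map (homOfLE (inf_le_left : W ⊓ D ≤ W)).op))
    (a b : W.toScheme ⟶ T)
    (hab : E.homOfLE (inf_le_left : W ⊓ D ≤ W) ≫ a = E.homOfLE (inf_le_left : W ⊓ D ≤ W) ≫ b) :
    a = b := by
  apply ext_of_isAffine
  have h1 := congrArg (fun φ => φ.appTop) hab
  simp only [Scheme.Hom.comp_appTop] at h1
  have hk : Function.Injective (E.homOfLE (inf_le_left : W ⊓ D ≤ W)).appTop := by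
    rw [Scheme.homOfLE_appTop]
    refine inj_transfer E ?_ ?_ _ _ hinj
    · simp
    · simp
  have hmono : Mono (E.homOfLE (inf_le_left : W ⊓ D ≤ W)).appTop :=
    ConcreteCategory.mono_of_injective _ hk
  exact (cancel_mono _).mp h1

theorem main {E S : Scheme.{u}} (f : E ⟶ S) (U : S.Opens)
    (hiso : IsIso (morphismRestrict f U)) (hdense : CInt.IsSchematicallyDense (f ⁻¹ᵁ U))
    (σ : S ⟶ E) (hσ : σ ≫ f = 𝟙 S) (s : S) :
    ∃ W : E.Opens, σ.base s ∈ W ∧ IsOpenImmersion (W.ι ≫ f) := by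
  -- Step 1: `f ≫ σ` is the identity on `f⁻¹ U`
  let j := (f ⁻¹ᵁ U).ι
  let r := f ∣_ U
  have hr : r ≫ U.ι = j ≫ f := morphismRestrict_ι f U
  have hrange : Set.range (U.ι ≫ σ).base ⊆ Set.range j.base := by
    rintro _ ⟨z, rfl⟩
    rw [Scheme.Opens.range_ι]
    change f.base ((U.ι ≫ σ).base z) ∈ U
    rw [← Scheme.Hom.comp_apply, Category.assoc, hσ, Category.comp_id]
    exact z.2
  let t : U.toScheme ⟶ (f ⁻¹ᵁ U).toScheme := IsOpenImmersion.lift j (U.ι ≫ σ) hrange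
  have ht : t ≫ j = U.ι ≫ σ := IsOpenImmersion.lift_fac _ _ _
  have htr : t ≫ r = 𝟙 _ := by
    rw [← cancel_mono U.ι, Category.assoc, hr, ← Category.assoc, ht, Category.assoc, hσ,
      Category.comp_id, Category.id_comp]
  have hrt : r ≫ t = 𝟙 _ := by
    have : t = inv r := by
      rw [← cancel_mono r, htr, IsIso.inv_hom_id]
    rw [this, IsIso.hom_inv_id]
  have hj : j ≫ f ≫ σ = j := by
    rw [← Category.assoc, ← hr, Category.assoc, ← ht, ← Category.assoc, hrt, Category.id_comp]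
  -- Step 2: the neighbourhood
  let h := f ≫ σ
  obtain ⟨W₀, hW₀, heW₀⟩ : ∃ W₀ : E.Opens, IsAffineOpen W₀ ∧ σ.base s ∈ W₀ := by
    obtain ⟨_, ⟨W₀, hW₀, rfl⟩, hx, -⟩ :=
      E.isBasis_affineOpens.exists_subset_of_mem_open (Set.mem_univ (σ.base s)) isOpen_univ
    exact ⟨W₀, hW₀, hx⟩
  let W : E.Opens := W₀ ⊓ h ⁻¹ᵁ W₀
  have heW : σ.base s ∈ W := by
    refine ⟨heW₀, ?_⟩
    change h.base (σ.base s) ∈ W₀
    rw [← Scheme.Hom.comp_apply]
    have : σ ≫ h = σ := by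
      change σ ≫ f ≫ σ = σ
      rw [← Category.assoc, hσ, Category.id_comp]
    rw [this]
    exact heW₀
  -- Step 3: `W.ι ≫ h = W.ι`
  have hWh : W.ι ≫ h = W.ι := by
    have hra : Set.range (W.ι ≫ h).base ⊆ Set.range W₀.ι.base := by
      rintro _ ⟨z, rfl⟩
      rw [Scheme.Opens.range_ι, Scheme.Hom.comp_apply]
      exact z.2.2
    let a : W.toScheme ⟶ W₀.toScheme := IsOpenImmersion.lift W₀.ι (W.ι ≫ h) hra
    have ha : a ≫ W₀.ι = W.ι ≫ h := IsOpenImmersion.lift_fac _ _ _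
    let b : W.toScheme ⟶ W₀.toScheme := E.homOfLE inf_le_left
    have hb : b ≫ W₀.ι = W.ι := E.homOfLE_ι _
    have hAff : IsAffine W₀.toScheme := hW₀
    have hab : a = b := by
      apply eq_of_eq_on_dense W (f ⁻¹ᵁ U) (hdense W)
      rw [← cancel_mono W₀.ι, Category.assoc, Category.assoc, ha, hb, ← Category.assoc,
        E.homOfLE_ι]
      have h2 : (W ⊓ f ⁻¹ᵁ U).ι = E.homOfLE (inf_le_right : W ⊓ f ⁻¹ᵁ U ≤ f ⁻¹ᵁ U) ≫ j :=
        (E.homOfLE_ι _).symm
      rw [h2, Category.assoc]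
      change _ ≫ j ≫ f ≫ σ = _
      rw [hj]
    rw [← ha, hab, hb]
  -- Step 4: the inverse pair
  let V : S.Opens := σ ⁻¹ᵁ W
  have hrc : Set.range (W.ι ≫ f).base ⊆ Set.range V.ι.base := by
    rintro _ ⟨z, rfl⟩
    rw [Scheme.Opens.range_ι]
    change σ.base ((W.ι ≫ f).base z) ∈ W
    rw [← Scheme.Hom.comp_apply, Category.assoc]
    change (W.ι ≫ h).base z ∈ W
    rw [hWh]
    exact z.2
  let c : W.toScheme ⟶ V.toScheme := IsOpenImmersion.lift V.ι (W.ι ≫ f) hrc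
  have hc : c ≫ V.ι = W.ι ≫ f := IsOpenImmersion.lift_fac _ _ _
  have hrd : Set.range (V.ι ≫ σ).base ⊆ Set.range W.ι.base := by
    rintro _ ⟨z, rfl⟩
    rw [Scheme.Opens.range_ι, Scheme.Hom.comp_apply]
    exact z.2
  let d : V.toScheme ⟶ W.toScheme := IsOpenImmersion.lift W.ι (V.ι ≫ σ) hrd
  have hd : d ≫ W.ι = V.ι ≫ σ := IsOpenImmersion.lift_fac _ _ _
  have hcd : c ≫ d = 𝟙 _ := by
    rw [← cancel_mono W.ι, Category.assoc, hd, ← Category.assoc, hc, Category.assoc,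
      Category.id_comp]
    exact hWh
  have hdc : d ≫ c = 𝟙 _ := by
    rw [← cancel_mono V.ι, Category.assoc, hc, ← Category.assoc, hd, Category.assoc, hσ,
      Category.comp_id, Category.id_comp]
  have hciso : IsIso c := ⟨d, hcd, hdc⟩
  refine ⟨W, heW, ?_⟩
  rw [← hc]
  infer_instance

end Groth.Agent.Helper26.SecOpen
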