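import Mathlib

set_option autoImplicit false
universe u
open TensorProduct

namespace Groth.Agent.Helper26.SemiLoc

section span
variable {A : Type*} [CommRing A] {M : Type*} [AddCommGroup M] [Module A M]

/-- Spanning after localization, in terms of colon conditions on a generating set. -/
theorem span_top_of_colon (S : Submonoid A) {ι : Type*} (s : ι → M)
    (gen : Set M) (hgen : Submodule.span A gen = ⊤)
    (h : ∀ m ∈ gen, ∃ t : A, t ∈ S ∧ t • m ∈ Submodule.span A (Set.range s)) :
    Submodule.span (Localization S)
      (Set.range fun j => LocalizedModule.mkLinearMap S M (s j)) = ⊤ := by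
  have h1 : (Set.range fun j => LocalizedModule.mkLinearMap S M (s j)) =
      (LocalizedModule.mkLinearMap S M) '' (Set.range s) := by
    rw [← Set.range_comp]; rfl
  rw [h1, ← Submodule.localized'_span (Localization S) S (LocalizedModule.mkLinearMap S M)]
  rw [eq_top_iff]
  rintro x -
  obtain ⟨⟨m, u⟩, rfl⟩ := IsLocalizedModule.mk'_surjective S (LocalizedModule.mkLinearMap S M) x
  have hm : m ∈ Submodule.span A gen := by rw [hgen]; trivial
  simp only [Function.uncurry_apply_pair]
  induction hm using Submodule.span_induction with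
  | mem m hm =>
    obtain ⟨t, ht, htm⟩ := h m hm
    rw [Submodule.mem_localized']
    refine ⟨t • m, htm, ⟨t, ht⟩ * u, ?_⟩
    rw [show t • m = (⟨t, ht⟩ : S) • m from rfl, IsLocalizedModule.mk'_cancel_left]
  | zero => rw [IsLocalizedModule.mk'_zero]; exact Submodule.zero_mem _
  | add x y _ _ hx hy => rw [IsLocalizedModule.mk'_add]; exact Submodule.add_mem _ hx hy
  | smul a x _ hx =>
    rw [IsLocalizedModule.mk'_smul]
    exact Submodule.smul_of_tower_mem _ a hx

theorem exists_smul_mem_of_span_top (S : Submonoid A) {ι : Type*} (s : ι → M)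
    (h : Submodule.span (Localization S)
      (Set.range fun j => LocalizedModule.mkLinearMap S M (s j)) = ⊤) (m : M) :
    ∃ t : A, t ∈ S ∧ t • m ∈ Submodule.span A (Set.range s) := by
  have h1 : (Set.range fun j => LocalizedModule.mkLinearMap S M (s j)) =
      (LocalizedModule.mkLinearMap S M) '' (Set.range s) := by
    rw [← Set.range_comp]; rfl
  rw [h1, ← Submodule.localized'_span (Localization S) S (LocalizedModule.mkLinearMap S M)] at h
  have hm : LocalizedModule.mkLinearMap S M m ∈
      (Submodule.span A (Set.range s)).localized' (Localization S) S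
        (LocalizedModule.mkLinearMap S M) := by rw [h]; trivial
  rw [Submodule.mem_localized'] at hm
  obtain ⟨m0, hm0, t, ht⟩ := hm
  rw [IsLocalizedModule.mk'_eq_iff, Submonoid.smul_def, ← map_smul,
    IsLocalizedModule.eq_iff_exists S] at ht
  obtain ⟨c, hc⟩ := ht
  refine ⟨c * t, (c * t).2, ?_⟩
  have : ((c : A) * (t : A)) • m = (c : A) • m0 := by
    rw [mul_smul]; exact hc.symm
  rw [this]
  exact Submodule.smul_mem _ _ hm0

end span

end Groth.Agent.Helper26.SemiLoc
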