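import Mathlib

set_option autoImplicit false
universe u
open TensorProduct

namespace Groth.Agent.Helper26.SemiLoc

variable {A : Type u} [CommRing A] (P : Finset (PrimeSpectrum A))

/-- The complement of the union of finitely many primes. -/
def Sub : Submonoid A := ⨅ p ∈ P, p.asIdeal.primeCompl

theorem mem_Sub {x : A} : x ∈ Sub P ↔ ∀ p ∈ P, x ∉ p.asIdeal := by
  simp [Sub, Submonoid.mem_iInf, Ideal.primeCompl]

theorem Sub_le {p : PrimeSpectrum A} (hp : p ∈ P) : Sub P ≤ p.asIdeal.primeCompl :=
  fun _ hx => (mem_Sub P).1 hx p hp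

theorem disjoint_Sub {p : PrimeSpectrum A} (hp : p ∈ P) :
    Disjoint (Sub P : Set A) (p.asIdeal : Set A) := by
  rw [Set.disjoint_left]
  intro x hx hx'
  exact (mem_Sub P).1 hx p hp hx'

theorem exists_le_of_disjoint (hne : P.Nonempty) (I : Ideal A)
    (h : Disjoint (Sub P : Set A) (I : Set A)) : ∃ p ∈ P, I ≤ p.asIdeal := by
  obtain ⟨a, _⟩ := hne
  have := (Ideal.subset_union_prime (s := P) (f := fun p => p.asIdeal) a a
    (fun i _ _ _ => i.isPrime) (I := I)).1 ?_
  · exact this
  · intro x hx
    by_contra hcon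
    have : x ∈ Sub P := by
      rw [mem_Sub]
      intro p hp hxp
      apply hcon
      simp only [Set.mem_iUnion]
      exact ⟨p, hp, hxp⟩
    exact Set.disjoint_left.1 h this hx

theorem finite_maximalSpectrum (hne : P.Nonempty) :
    Finite (MaximalSpectrum (Localization (Sub P))) := by
  classical
  have key : ∀ m : MaximalSpectrum (Localization (Sub P)), ∃ p : P,
      m.asIdeal = p.1.asIdeal.map (algebraMap A (Localization (Sub P))) := by
    intro m
    have hd : Disjoint (Sub P : Set A) ((m.asIdeal.under A : Ideal A) : Set A) :=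
      (IsLocalization.disjoint_under_iff (Sub P) (Localization (Sub P)) m.asIdeal).2
        m.isMaximal.ne_top
    obtain ⟨p, hp, hle⟩ := exists_le_of_disjoint P hne _ hd
    refine ⟨⟨p, hp⟩, ?_⟩
    have h1 : m.asIdeal ≤ p.asIdeal.map (algebraMap A (Localization (Sub P))) := by
      rw [← IsLocalization.map_under (Sub P) (Localization (Sub P)) m.asIdeal]
      exact Ideal.map_mono hle
    have h2 : p.asIdeal.map (algebraMap A (Localization (Sub P))) ≠ ⊤ :=
      (IsLocalization.map_algebraMap_ne_top_iff_disjoint (Sub P) (Localization (Sub P)) _).2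
        (disjoint_Sub P hp)
    exact m.isMaximal.eq_of_le h2 h1
  choose f hf using key
  refine Finite.of_injective f ?_
  intro m1 m2 h12
  ext1
  rw [hf m1, hf m2, h12]

end Groth.Agent.Helper26.SemiLoc
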