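import Mathlib

set_option autoImplicit false
universe u
open TensorProduct

namespace Groth.Agent.Helper26.SemiLoc

theorem finrank_quotient_tensor (R : Type*) (M : Type*) [CommRing R] [AddCommGroup M] [Module R M]
    [Module.Finite R M] [Module.Flat R M] (m : Ideal R) [hm : m.IsMaximal] :
    Module.finrank (R ⧸ m) ((R ⧸ m) ⊗[R] M) = Module.rankAtStalk M ⟨m, hm.isPrime⟩ := by
  let _ := Ideal.Quotient.field m
  rw [Module.rankAtStalk_eq]
  let e : m.ResidueField ⊗[R ⧸ m] ((R ⧸ m) ⊗[R] M) ≃ₗ[m.ResidueField] m.ResidueField ⊗[R] M :=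
    AlgebraTensorModule.cancelBaseChange _ _ _ _ _
  have h1 := e.finrank_eq
  have h2 : Module.finrank m.ResidueField (m.ResidueField ⊗[R ⧸ m] ((R ⧸ m) ⊗[R] M)) =
      Module.finrank (R ⧸ m) ((R ⧸ m) ⊗[R] M) := Module.finrank_baseChange
  rw [← h2, h1]

end Groth.Agent.Helper26.SemiLoc
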