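import Mathlib
import Groth.Agent.Lib.Helper26.SemiLoc1
import Groth.Agent.Lib.Helper26.SemiLoc2
import Groth.Agent.Lib.Helper26.SemiLoc3

set_option autoImplicit false
universe u
open TensorProduct

namespace Groth.Agent.Helper26.SemiLoc

theorem rank_of_basis (A : Type u) [CommRing A] (M : Type u) [AddCommGroup M] [Module A M]
    [Module.Finite A M] [Module.Flat A M] (n : ℕ) (p : PrimeSpectrum A) (g : A)
    (hg : g ∉ p.asIdeal)
    (b : Module.Basis (Fin n) (Localization.Away g) (LocalizedModule (Submonoid.powers g) M)) :
    Module.rankAtStalk M p = n := by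
  have hp : p ∈ Set.range (PrimeSpectrum.comap (algebraMap A (Localization.Away g))) := by
    rw [PrimeSpectrum.localization_away_comap_range (Localization.Away g) g]
    exact hg
  obtain ⟨p', rfl⟩ := hp
  rw [← Module.rankAtStalk_isBaseChange (LocalizedModule.isBaseChange (Submonoid.powers g) M) p']
  have : Module.Free (Localization.Away g) (LocalizedModule (Submonoid.powers g) M) :=
    Module.Free.of_basis b
  have : Nontrivial (Localization.Away g) := p'.nontrivial
  rw [Module.rankAtStalk_eq_finrank_of_free]
  show Module.finrank (Localization.Away g) (LocalizedModule (Submonoid.powers g) M) = n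
  rw [Module.finrank_eq_card_basis b, Fintype.card_fin]

theorem main (A : Type u) [CommRing A] (M : Type u) [AddCommGroup M] [Module A M]
    [Module.Finite A M] [Module.Projective A M] (n : ℕ) (P : Finset (PrimeSpectrum A))
    (hP : ∀ p ∈ P, Module.rankAtStalk M p = n) :
    ∃ (s : Fin n → M) (U : Set (PrimeSpectrum A)), IsOpen U ∧ (∀ p ∈ P, p ∈ U) ∧
      ∀ q ∈ U,
        LinearIndependent (Localization.AtPrime q.asIdeal)
            (fun j => LocalizedModule.mkLinearMap q.asIdeal.primeCompl M (s j)) ∧
          Submodule.span (Localization.AtPrime q.asIdeal)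
            (Set.range fun j => LocalizedModule.mkLinearMap q.asIdeal.primeCompl M (s j)) = ⊤ := by
  classical
  rcases P.eq_empty_or_nonempty with rfl | hne
  · exact ⟨fun _ => 0, ∅, isOpen_empty, by simp, by simp⟩
  have : Finite (MaximalSpectrum (Localization (Sub P))) := finite_maximalSpectrum P hne
  have : Module.Finite (Localization (Sub P)) (LocalizedModule (Sub P) M) :=
    Module.Finite.of_isLocalizedModule (Sub P) (LocalizedModule.mkLinearMap (Sub P) M)
  have rk : ∀ m : MaximalSpectrum (Localization (Sub P)),
      Module.finrank (Localization (Sub P) ⧸ m.1)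
        ((Localization (Sub P) ⧸ m.1) ⊗[Localization (Sub P)] LocalizedModule (Sub P) M) = n := by
    intro m
    have := m.isMaximal
    rw [finrank_quotient_tensor,
      Module.rankAtStalk_isBaseChange (LocalizedModule.isBaseChange (Sub P) M)]
    have hd : Disjoint (Sub P : Set A) ((m.asIdeal.under A : Ideal A) : Set A) :=
      (IsLocalization.disjoint_under_iff (Sub P) (Localization (Sub P)) m.asIdeal).2
        m.isMaximal.ne_top
    obtain ⟨p, hp, hle⟩ := exists_le_of_disjoint P hne _ hd
    rw [Module.rankAtStalk_eq_of_le_of_finite_of_flat M (q := p) hle, hP p hp]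
  obtain ⟨b⟩ := Module.nonempty_basis_of_flat_of_finrank_eq (Localization (Sub P))
    (LocalizedModule (Sub P) M) n rk
  choose ms hms using fun j => IsLocalizedModule.mk'_surjective (Sub P)
    (LocalizedModule.mkLinearMap (Sub P) M) (b j)
  let s : Fin n → M := fun j => (ms j).1
  have hspan : Submodule.span (Localization (Sub P))
      (Set.range fun j => LocalizedModule.mkLinearMap (Sub P) M (s j)) = ⊤ := by
    rw [eq_top_iff, ← b.span_eq, Submodule.span_le]
    rintro _ ⟨j, rfl⟩
    have h1 : (ms j).2 • b j = LocalizedModule.mkLinearMap (Sub P) M (s j) := by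
      rw [← hms j]
      exact IsLocalizedModule.mk'_cancel' _ _ _
    have h2 : b j = (IsLocalization.mk' (Localization (Sub P)) (1 : A) (ms j).2) •
        LocalizedModule.mkLinearMap (Sub P) M (s j) := by
      rw [← h1, Submonoid.smul_def, ← algebraMap_smul (Localization (Sub P)) ((ms j).2 : A),
        ← mul_smul, IsLocalization.mk'_spec, map_one, one_smul]
    rw [h2]
    exact Submodule.smul_mem _ _ (Submodule.subset_span ⟨j, rfl⟩)
  obtain ⟨gen, hgen⟩ := Module.Finite.fg_top (R := A) (M := M)
  let V : M → Set (PrimeSpectrum A) := fun m =>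
    {q | ∃ t : A, t ∉ q.asIdeal ∧ t • m ∈ Submodule.span A (Set.range s)}
  have hV : ∀ m, IsOpen (V m) := by
    intro m
    have : V m = ⋃ t ∈ {t : A | t • m ∈ Submodule.span A (Set.range s)},
        (PrimeSpectrum.basicOpen t : Set (PrimeSpectrum A)) := by
      ext q
      simp only [V, Set.mem_iUnion]
      constructor
      · rintro ⟨t, ht, htm⟩
        exact ⟨t, htm, ht⟩
      · rintro ⟨t, htm, ht⟩
        exact ⟨t, ht, htm⟩
    rw [this]
    exact isOpen_biUnion fun t _ => (PrimeSpectrum.basicOpen t).2
  have : Module.FinitePresentation A M := Module.finitePresentation_of_projective A M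
  refine ⟨s, {q | Module.rankAtStalk M q = n} ∩ ⋂ m ∈ gen, V m, ?_, ?_, ?_⟩
  · exact IsOpen.inter ((Module.isLocallyConstant_rankAtStalk (M := M)).isOpen_fiber n)
      (isOpen_biInter_finset fun m _ => hV m)
  · intro p hp
    refine ⟨hP p hp, ?_⟩
    simp only [Set.mem_iInter]
    intro m hm
    obtain ⟨t, ht, htm⟩ := exists_smul_mem_of_span_top (Sub P) s hspan m
    exact ⟨t, (mem_Sub P).1 ht p hp, htm⟩
  · rintro q ⟨hq1, hq2⟩
    simp only [Set.mem_iInter] at hq2
    have hsp := span_top_of_colon q.asIdeal.primeCompl s (gen : Set M) hgen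
      (fun m hm => hq2 m hm)
    refine ⟨?_, hsp⟩
    refine linearIndependent_of_top_le_span_of_card_eq_finrank hsp.ge ?_
    rw [Fintype.card_fin]
    exact hq1.symm

end Groth.Agent.Helper26.SemiLoc
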