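import Mathlib
import Groth.Prelude.Def_Hensel
import Groth.Agent.Lib.Helper1.SH1
import Groth.Agent.Lib.Helper14.EtaleReduced
import Groth.Agent.Lib.Helper26.SHIndEt1
import Groth.Agent.Lib.Helper26.EtFlat1

/-!
# Base changes of a strict henselization stay reduced (helper26)
-/

set_option autoImplicit false
set_option linter.unusedSectionVars false
set_option linter.style.haveILetI false

open TensorProduct

namespace Groth.Agent.Helper26.ShRed

universe u

/-- nilpotent elements coming from a reduced ring die in a flat algebra -/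
theorem eq_zero_of_pow_eq_zero_of_flat {C' T' : Type u} [CommRing C'] [CommRing T']
    [Algebra C' T'] [Module.Flat C' T'] [IsReduced C'] (z' : C') (N : ℕ)
    (h : (algebraMap C' T' z') ^ N = 0) : algebraMap C' T' z' = 0 := by
  set w : C' := z' ^ N with hw
  obtain ⟨k, a, y, h1, h2⟩ := Module.Flat.isTrivialRelation_of_sum_smul_eq_zero (R := C')
    (M := T') (ι := Fin 1) (f := fun _ => w) (x := fun _ => (1 : T')) (by
      rw [Fin.sum_univ_one]
      exact (Algebra.smul_def w (1 : T')).trans (by rw [mul_one, hw, map_pow, h]))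
  have h1' : (1 : T') = ∑ j, a 0 j • y j := h1 0
  have h2' : ∀ j, w * a 0 j = 0 := fun j => by
    have := h2 j
    rwa [Fin.sum_univ_one] at this
  have h3 : ∀ j, a 0 j * z' = 0 := by
    intro j
    apply IsReduced.eq_zero
    refine ⟨N + 1, ?_⟩
    have : (a 0 j * z') ^ (N + 1) = (a 0 j) ^ N * z' * (w * a 0 j) := by
      rw [hw]; ring
    rw [this, h2', mul_zero]
  calc algebraMap C' T' z' = algebraMap C' T' z' * 1 := (mul_one _).symm
    _ = algebraMap C' T' z' * ∑ j, a 0 j • y j := by rw [← h1']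
    _ = ∑ j, algebraMap C' T' (a 0 j * z') * y j := by
        rw [Finset.mul_sum]
        refine Finset.sum_congr rfl (fun j _ => ?_)
        rw [Algebra.smul_def, map_mul]
        ring
    _ = 0 := by
        refine Finset.sum_eq_zero (fun j _ => ?_)
        rw [h3, map_zero, zero_mul]

variable (A S : Type u) [CommRing A] [IsLocalRing A]
  [CommRing S] [IsLocalRing S] [Algebra A S] [IsLocalHom (algebraMap A S)]
  [Hensel.IsStrictHenselization A S] (B : Type u) [CommRing B] [Algebra A B]

/-- every element of `S ⊗ B` comes from `C ⊗ B` for an étale `A`-algebra `C` mapping to `S` -/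
theorem exists_etale_rep (z : S ⊗[A] B) :
    ∃ (C : Type u) (_ : CommRing C) (_ : Algebra A C) (_ : Algebra.Etale A C) (φ : C →ₐ[A] S)
      (z' : C ⊗[A] B), Algebra.TensorProduct.map φ (AlgHom.id A B) z' = z := by
  induction z using TensorProduct.induction_on with
  | zero => exact ⟨A, inferInstance, inferInstance, inferInstance, Algebra.ofId A S, 0, map_zero _⟩
  | tmul s b =>
    obtain ⟨C, _, _, _, φ, c, hc⟩ := SHIndEt.isEt A S s
    refine ⟨C, inferInstance, inferInstance, inferInstance, φ, c ⊗ₜ b, ?_⟩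
    rw [Algebra.TensorProduct.map_tmul, hc, AlgHom.id_apply]
  | add z₁ z₂ h₁ h₂ =>
    obtain ⟨C₁, _, _, _, φ₁, z₁', hz₁⟩ := h₁
    obtain ⟨C₂, _, _, _, φ₂, z₂', hz₂⟩ := h₂
    haveI : Algebra.Etale C₁ (C₁ ⊗[A] C₂) := inferInstance
    haveI : Algebra.Etale A (C₁ ⊗[A] C₂) := Algebra.Etale.comp A C₁ (C₁ ⊗[A] C₂)
    let φ : C₁ ⊗[A] C₂ →ₐ[A] S := Algebra.TensorProduct.productMap φ₁ φ₂
    let ι₁ : C₁ ⊗[A] B →ₐ[A] (C₁ ⊗[A] C₂) ⊗[A] B :=
      Algebra.TensorProduct.map (Algebra.TensorProduct.includeLeft) (AlgHom.id A B)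
    let ι₂ : C₂ ⊗[A] B →ₐ[A] (C₁ ⊗[A] C₂) ⊗[A] B :=
      Algebra.TensorProduct.map (Algebra.TensorProduct.includeRight) (AlgHom.id A B)
    have e₁ : (Algebra.TensorProduct.map φ (AlgHom.id A B)).comp ι₁ =
        Algebra.TensorProduct.map φ₁ (AlgHom.id A B) := by
      apply Algebra.TensorProduct.ext'
      intro c b
      simp [ι₁, φ]
    have e₂ : (Algebra.TensorProduct.map φ (AlgHom.id A B)).comp ι₂ =
        Algebra.TensorProduct.map φ₂ (AlgHom.id A B) := by
      apply Algebra.TensorProduct.ext'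
      intro c b
      simp [ι₂, φ]
    refine ⟨C₁ ⊗[A] C₂, inferInstance, inferInstance, inferInstance, φ, ι₁ z₁' + ι₂ z₂', ?_⟩
    rw [map_add, ← AlgHom.comp_apply, ← AlgHom.comp_apply, e₁, e₂, hz₁, hz₂]

/-- base changes of the strict henselization along reduced algebras are reduced -/
theorem isReduced_tensor [IsReduced B] : IsReduced (S ⊗[A] B) := by
  constructor
  rintro z ⟨N, hN⟩
  obtain ⟨C, _, _, _, φ, z', hz'⟩ := exists_etale_rep A S B z
  -- `C ⊗ B` is reduced
  haveI : Algebra.Etale B (B ⊗[A] C) := inferInstance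
  haveI : IsReduced (B ⊗[A] C) := Groth.Agent.Helper14.isReduced_of_smooth B (B ⊗[A] C)
  haveI : IsReduced (C ⊗[A] B) :=
    isReduced_of_injective (Algebra.TensorProduct.comm A C B).toAlgHom.toRingHom
      (Algebra.TensorProduct.comm A C B).injective
  -- `S` is flat over `C`
  letI : Algebra C S := φ.toRingHom.toAlgebra
  haveI : IsScalarTower A C S := IsScalarTower.of_algebraMap_eq (fun a => (φ.commutes a).symm)
  haveI : Module.FaithfullyFlat A S :=
    Groth.Agent.Helper1.HFlat.faithfullyFlat_of_isStrictHenselization A S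
  haveI : Module.Flat C S := EtFlat.flat_of_etale A C S
  let C' := C ⊗[A] B
  let T'' := C' ⊗[C] S
  haveI : Module.Flat C' T'' := inferInstance
  let e : T'' ≃ₐ[C] S ⊗[A] B :=
    (Algebra.TensorProduct.comm C C' S).trans (Algebra.TensorProduct.cancelBaseChange A C C S B)
  have he : ∀ x : C', e (x ⊗ₜ[C] (1 : S)) = Algebra.TensorProduct.map φ (AlgHom.id A B) x := by
    intro x
    have : ((e.toAlgHom.restrictScalars A).comp
        ((Algebra.TensorProduct.includeLeft : C' →ₐ[C] T'').restrictScalars A)) =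
        Algebra.TensorProduct.map φ (AlgHom.id A B) := by
      apply Algebra.TensorProduct.ext'
      intro c b
      change (Algebra.TensorProduct.cancelBaseChange A C C S B)
        ((Algebra.TensorProduct.comm C (C ⊗[A] B) S) ((c ⊗ₜ[A] b) ⊗ₜ[C] (1 : S))) = φ c ⊗ₜ[A] b
      rw [Algebra.TensorProduct.comm_tmul, Algebra.TensorProduct.cancelBaseChange_tmul,
        Algebra.smul_def, mul_one]
      rfl
    exact DFunLike.congr_fun this x
  have halg : algebraMap C' T'' z' = z' ⊗ₜ[C] (1 : S) := rfl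
  have h1 : (algebraMap C' T'' z') ^ N = 0 := by
    apply e.injective
    rw [map_pow, halg, he, hz', hN, map_zero]
  have h2 := eq_zero_of_pow_eq_zero_of_flat z' N h1
  rw [← hz', ← he, ← halg, h2, map_zero]

end Groth.Agent.Helper26.ShRed
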