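import Mathlib
import Groth.Prelude.Def_Hensel
import Groth.Agent.Lib.Helper26.ShRed1

/-!
# Geometric reducedness and strict henselization (helper26)
-/

set_option autoImplicit false
set_option linter.unusedSectionVars false
set_option linter.style.haveILetI false

open TensorProduct

namespace Groth.Agent.Helper26.ShRed

universe u

theorem geomReduced_iff (k : Type u) [Field k]
    (A : Type u) [CommRing A] [IsLocalRing A] [Algebra k A]
    (R : Type u) [CommRing R] [IsLocalRing R] [Algebra A R] [IsLocalHom (algebraMap A R)]
    [Hensel.IsStrictHenselization A R] [Algebra k R] [IsScalarTower k A R] :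
    (∀ (K : Type u) [Field K] [Algebra k K], IsReduced (K ⊗[k] A)) ↔
      ∀ (K : Type u) [Field K] [Algebra k K], IsReduced (K ⊗[k] R) := by
  haveI : Module.FaithfullyFlat A R :=
    Groth.Agent.Helper1.HFlat.faithfullyFlat_of_isStrictHenselization A R
  constructor
  · intro h K _ _
    haveI := h K
    -- `B = A ⊗ K` is reduced
    haveI : IsReduced (A ⊗[k] K) :=
      isReduced_of_injective (Algebra.TensorProduct.comm k A K).toAlgHom.toRingHom
        (Algebra.TensorProduct.comm k A K).injective
    haveI : IsReduced (R ⊗[A] (A ⊗[k] K)) := isReduced_tensor A R (A ⊗[k] K)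
    let e₁ : R ⊗[A] (A ⊗[k] K) ≃ₐ[A] R ⊗[k] K :=
      Algebra.TensorProduct.cancelBaseChange k A A R K
    let e₂ : K ⊗[k] R ≃ₐ[k] R ⊗[k] K := Algebra.TensorProduct.comm k K R
    exact isReduced_of_injective
      ((e₁.symm.toAlgHom.toRingHom).comp e₂.toAlgHom.toRingHom)
      (e₁.symm.injective.comp e₂.injective)
  · intro h K _ _
    haveI := h K
    let g : A →ₐ[k] R := IsScalarTower.toAlgHom k A R
    have hg : Function.Injective g := FaithfulSMul.algebraMap_injective A R
    have hinj : Function.Injective (Algebra.TensorProduct.map (AlgHom.id k K) g) := by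
      have : Function.Injective (LinearMap.lTensor K g.toLinearMap) :=
        Module.Flat.lTensor_preserves_injective_linearMap _ hg
      exact this
    exact isReduced_of_injective (Algebra.TensorProduct.map (AlgHom.id k K) g).toRingHom hinj

end Groth.Agent.Helper26.ShRed
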