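import Mathlib

set_option autoImplicit false
universe u
open CategoryTheory CategoryTheory.Limits AlgebraicGeometry

namespace Groth.Agent.Helper26.SigHens

variable {ι : Type u} (X X₀ : ι → Scheme.{u}) (i : ∀ j, X₀ j ⟶ X j)

theorem exists_sigmaι_eq' (s : ↥(∐ X)) : ∃ j, ∃ x : X j, Sigma.ι X j x = s := by
  obtain ⟨⟨j, x⟩, rfl⟩ := (sigmaMk X).surjective s
  exact ⟨j, x, (sigmaMk_mk X j x).symm⟩

theorem sigma_map_ι (j : ι) : Sigma.ι X₀ j ≫ Limits.Sigma.map i = i j ≫ Sigma.ι X j := by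
  simp

theorem preimage_opensRange (j : ι) :
    (Limits.Sigma.map i) ⁻¹ᵁ (Sigma.ι X j).opensRange = (Sigma.ι X₀ j).opensRange := by
  ext s
  obtain ⟨k, x, rfl⟩ := exists_sigmaι_eq' X₀ s
  simp only [Scheme.Hom.coe_preimage, Scheme.Hom.coe_opensRange, Set.mem_preimage, Set.mem_range]
  rw [← Scheme.Hom.comp_apply, sigma_map_ι, Scheme.Hom.comp_apply]
  constructor
  · rintro ⟨y, hy⟩
    obtain ⟨rfl⟩ : j = k := by
      have := (sigmaι_eq_iff X _ _ _ _).1 hy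
      exact (Sigma.mk.inj_iff.1 this).1
    exact ⟨x, rfl⟩
  · rintro ⟨y, hy⟩
    obtain ⟨rfl⟩ : j = k := by
      have := (sigmaι_eq_iff X₀ _ _ _ _).1 hy
      exact (Sigma.mk.inj_iff.1 this).1
    exact ⟨_, rfl⟩

/-- Fact A -/
theorem isPullback_ι (j : ι) :
    IsPullback (i j) (Sigma.ι X₀ j) (Sigma.ι X j) (Limits.Sigma.map i) :=
  IsOpenImmersion.isPullback (i j) (Sigma.ι X₀ j) (Sigma.ι X j) (Limits.Sigma.map i)
    (sigma_map_ι X X₀ i j) (preimage_opensRange X X₀ i j)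

theorem isClosed_range_ι (j : ι) : IsClosed (Set.range (Sigma.ι X j)) := by
  rw [← isOpen_compl_iff]
  have : (Set.range (Sigma.ι X j))ᶜ = ⋃ k ∈ {k | k ≠ j}, Set.range (Sigma.ι X k) := by
    ext s
    obtain ⟨k, x, rfl⟩ := exists_sigmaι_eq' X s
    simp only [Set.mem_compl_iff, Set.mem_range, Set.mem_iUnion]
    constructor
    · intro h
      refine ⟨k, ?_, x, rfl⟩
      rintro rfl
      exact h ⟨x, rfl⟩
    · rintro ⟨k', hk', y, hy⟩ ⟨z, hz⟩
      have h1 := (sigmaι_eq_iff X _ _ _ _).1 hy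
      have h2 := (sigmaι_eq_iff X _ _ _ _).1 hz
      have e1 : k' = k := (Sigma.mk.inj_iff.1 h1).1
      have e2 : j = k := (Sigma.mk.inj_iff.1 h2).1
      exact hk' (e1.trans e2.symm)
  rw [this]
  exact isOpen_biUnion fun k _ => (Sigma.ι X k).opensRange.2

instance isClosedImmersion_ι (j : ι) : IsClosedImmersion (Sigma.ι X j) :=
  IsClosedImmersion.of_isPreimmersion _ (isClosed_range_ι X j)

end Groth.Agent.Helper26.SigHens
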