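import Mathlib
import Groth.Agent.Lib.Helper26.SigHens1

set_option autoImplicit false
universe u
open CategoryTheory CategoryTheory.Limits AlgebraicGeometry

namespace Groth.Agent.Helper26.SigHens

/-- transfer of the clopen-lifting property along an isomorphism of "pullbacks". -/
theorem transfer {Y P P' : Scheme.{u}} (fst : P ⟶ Y) (fst' : P' ⟶ Y) (e : P ≅ P')
    (he : e.hom ≫ fst' = fst)
    (h : ∀ V : Set ↥P', IsClopen V → ∃! U : Set ↥Y, IsClopen U ∧ fst'.base ⁻¹' U = V)
    (V : Set ↥P) (hV : IsClopen V) : ∃! U : Set ↥Y, IsClopen U ∧ fst.base ⁻¹' U = V := by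
  have hinv : e.inv ≫ fst = fst' := by rw [← he, Iso.inv_hom_id_assoc]
  have h1 : ∀ p, e.inv.base (e.hom.base p) = p := by
    intro p
    rw [← Scheme.Hom.comp_apply, Iso.hom_inv_id]
    rfl
  have h2 : ∀ p, e.hom.base (e.inv.base p) = p := by
    intro p
    rw [← Scheme.Hom.comp_apply, Iso.inv_hom_id]
    rfl
  obtain ⟨U, ⟨hU, hUV⟩, huniq⟩ := h (e.inv.base ⁻¹' V) (hV.preimage e.inv.continuous)
  refine ⟨U, ⟨hU, ?_⟩, ?_⟩
  · ext p
    have : fst.base p = fst'.base (e.hom.base p) := by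
      rw [← he, Scheme.Hom.comp_apply]
    rw [Set.mem_preimage, this, ← Set.mem_preimage, hUV, Set.mem_preimage, h1]
  · rintro U' ⟨hU', hU'V⟩
    apply huniq
    refine ⟨hU', ?_⟩
    ext p
    have : fst'.base p = fst.base (e.inv.base p) := by
      rw [← hinv, Scheme.Hom.comp_apply]
    rw [Set.mem_preimage, this, ← Set.mem_preimage, hU'V, Set.mem_preimage]

variable {ι : Type u} (X X₀ : ι → Scheme.{u}) (i : ∀ j, X₀ j ⟶ X j)

theorem forward
    (H : ∀ (Y : Scheme.{u}) (g : Y ⟶ ∐ X), IsFinite g →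
      ∀ V : Set ↥(pullback g (Limits.Sigma.map i)), IsClopen V →
        ∃! U : Set ↥Y, IsClopen U ∧ (pullback.fst g (Limits.Sigma.map i)).base ⁻¹' U = V)
    (j : ι) (Y : Scheme.{u}) (g : Y ⟶ X j) (hg : IsFinite g)
    (V : Set ↥(pullback g (i j))) (hV : IsClopen V) :
    ∃! U : Set ↥Y, IsClopen U ∧ (pullback.fst g (i j)).base ⁻¹' U = V := by
  have hfin : IsFinite (g ≫ Sigma.ι X j) := by
    have : IsFinite (Sigma.ι X j) := inferInstance
    exact MorphismProperty.comp_mem _ _ _ hg this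
  have hpb : IsPullback (pullback.fst g (i j)) (pullback.snd g (i j) ≫ Sigma.ι X₀ j)
      (g ≫ Sigma.ι X j) (Limits.Sigma.map i) :=
    (IsPullback.of_hasPullback g (i j)).paste_vert (isPullback_ι X X₀ i j)
  exact transfer (pullback.fst g (i j)) (pullback.fst (g ≫ Sigma.ι X j) (Limits.Sigma.map i))
    hpb.isoPullback hpb.isoPullback_hom_fst (H Y _ hfin) V hV

end Groth.Agent.Helper26.SigHens
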