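import Mathlib
import Groth.Agent.Lib.Helper26.SigHens2

set_option autoImplicit false
universe u
open CategoryTheory CategoryTheory.Limits AlgebraicGeometry

namespace Groth.Agent.Helper26.SigHens

variable {ι : Type u} (X X₀ : ι → Scheme.{u}) (i : ∀ j, X₀ j ⟶ X j)
  {Y : Scheme.{u}} (g : Y ⟶ ∐ X)

/-- the comparison map `P_j → P'`. -/
noncomputable def bmap (j : ι) :
    pullback (pullback.snd g (Sigma.ι X j)) (i j) ⟶ pullback g (Limits.Sigma.map i) :=
  pullback.lift (pullback.fst _ _ ≫ pullback.fst g (Sigma.ι X j))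
    (pullback.snd _ _ ≫ Sigma.ι X₀ j) (by
      rw [Category.assoc, pullback.condition, pullback.condition_assoc, Category.assoc,
        sigma_map_ι])

theorem bmap_fst (j : ι) : bmap X X₀ i g j ≫ pullback.fst g (Limits.Sigma.map i) =
    pullback.fst _ _ ≫ pullback.fst g (Sigma.ι X j) := pullback.lift_fst _ _ _

theorem bmap_snd (j : ι) : bmap X X₀ i g j ≫ pullback.snd g (Limits.Sigma.map i) =
    pullback.snd _ _ ≫ Sigma.ι X₀ j := pullback.lift_snd _ _ _

theorem isPullback_bmap (j : ι) :
    IsPullback (bmap X X₀ i g j) (pullback.fst (pullback.snd g (Sigma.ι X j)) (i j))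
      (pullback.fst g (Limits.Sigma.map i)) (pullback.fst g (Sigma.ι X j)) := by
  have big : IsPullback (pullback.fst (pullback.snd g (Sigma.ι X j)) (i j))
      (pullback.snd (pullback.snd g (Sigma.ι X j)) (i j) ≫ Sigma.ι X₀ j)
      (pullback.snd g (Sigma.ι X j) ≫ Sigma.ι X j) (Limits.Sigma.map i) :=
    (IsPullback.of_hasPullback (pullback.snd g (Sigma.ι X j)) (i j)).paste_vert
      (isPullback_ι X X₀ i j)
  have big' : IsPullback (bmap X X₀ i g j ≫ pullback.snd g (Limits.Sigma.map i))
      (pullback.fst (pullback.snd g (Sigma.ι X j)) (i j)) (Limits.Sigma.map i)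
      (pullback.fst g (Sigma.ι X j) ≫ g) := by
    rw [bmap_snd, pullback.condition]
    exact big.flip
  exact IsPullback.of_right big' (bmap_fst X X₀ i g j)
    (IsPullback.of_hasPullback g (Limits.Sigma.map i)).flip

theorem cover_Y (y : Y) : ∃ j, ∃ yj : ↥(pullback g (Sigma.ι X j)),
    (pullback.fst g (Sigma.ι X j)).base yj = y := by
  obtain ⟨j, x, hx⟩ := exists_sigmaι_eq' X (g.base y)
  obtain ⟨z, hz, -⟩ := Scheme.Pullback.exists_preimage_pullback (f := g) (g := Sigma.ι X j) y x
    hx.symm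
  exact ⟨j, z, hz⟩

theorem index_unique {j k : ι} (yj : ↥(pullback g (Sigma.ι X j)))
    (yk : ↥(pullback g (Sigma.ι X k)))
    (h : (pullback.fst g (Sigma.ι X j)).base yj = (pullback.fst g (Sigma.ι X k)).base yk) :
    j = k := by
  have h1 : g.base ((pullback.fst g (Sigma.ι X j)).base yj) =
      (Sigma.ι X j).base ((pullback.snd g (Sigma.ι X j)).base yj) := by
    rw [← Scheme.Hom.comp_apply, ← Scheme.Hom.comp_apply, pullback.condition]
  have h2 : g.base ((pullback.fst g (Sigma.ι X k)).base yk) =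
      (Sigma.ι X k).base ((pullback.snd g (Sigma.ι X k)).base yk) := by
    rw [← Scheme.Hom.comp_apply, ← Scheme.Hom.comp_apply, pullback.condition]
  rw [h, h2] at h1
  have := (sigmaι_eq_iff X _ _ _ _).1 h1
  exact (Sigma.mk.inj_iff.1 this).1.symm

theorem fst_injective (j : ι) :
    Function.Injective (pullback.fst g (Sigma.ι X j)).base :=
  (pullback.fst g (Sigma.ι X j)).isOpenEmbedding.injective

theorem cover_P (p : ↥(pullback g (Limits.Sigma.map i))) :
    ∃ j, ∃ pj : ↥(pullback (pullback.snd g (Sigma.ι X j)) (i j)),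
      (bmap X X₀ i g j).base pj = p := by
  obtain ⟨j, yj, hyj⟩ := cover_Y X g ((pullback.fst g (Limits.Sigma.map i)).base p)
  obtain ⟨pj, h1, -⟩ := Scheme.exists_preimage_of_isPullback (isPullback_bmap X X₀ i g j)
    p yj hyj.symm
  exact ⟨j, pj, h1⟩

end Groth.Agent.Helper26.SigHens
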