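import Mathlib
import Groth.Agent.Lib.Helper26.SigHens3

set_option autoImplicit false
universe u
open CategoryTheory CategoryTheory.Limits AlgebraicGeometry

namespace Groth.Agent.Helper26.SigHens

variable {ι : Type u} (X X₀ : ι → Scheme.{u}) (i : ∀ j, X₀ j ⟶ X j)

theorem backward
    (H : ∀ j : ι, ∀ (Y : Scheme.{u}) (g : Y ⟶ X j), IsFinite g →
      ∀ V : Set ↥(pullback g (i j)), IsClopen V →
        ∃! U : Set ↥Y, IsClopen U ∧ (pullback.fst g (i j)).base ⁻¹' U = V)
    (Y : Scheme.{u}) (g : Y ⟶ ∐ X) (hg : IsFinite g)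
    (V : Set ↥(pullback g (Limits.Sigma.map i))) (hV : IsClopen V) :
    ∃! U : Set ↥Y, IsClopen U ∧ (pullback.fst g (Limits.Sigma.map i)).base ⁻¹' U = V := by
  have hfin : ∀ j, IsFinite (pullback.snd g (Sigma.ι X j)) := fun j =>
    MorphismProperty.of_isPullback (P := @IsFinite)
      (IsPullback.of_hasPullback g (Sigma.ι X j)) hg
  have hex := fun j => H j _ (pullback.snd g (Sigma.ι X j)) (hfin j)
    ((bmap X X₀ i g j).base ⁻¹' V) (hV.preimage (bmap X X₀ i g j).continuous)
  choose Uj hUj huniq using hex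
  -- pointwise description
  have hfst : ∀ j (pj : ↥(pullback (pullback.snd g (Sigma.ι X j)) (i j))),
      (pullback.fst g (Limits.Sigma.map i)).base ((bmap X X₀ i g j).base pj) =
      (pullback.fst g (Sigma.ι X j)).base ((pullback.fst _ (i j)).base pj) := by
    intro j pj
    rw [← Scheme.Hom.comp_apply, ← Scheme.Hom.comp_apply, bmap_fst]
  have hmemU : ∀ j (yj : ↥(pullback g (Sigma.ι X j))),
      (pullback.fst g (Sigma.ι X j)).base yj ∈ (⋃ k, (pullback.fst g (Sigma.ι X k)).base '' Uj k) ↔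
      yj ∈ Uj j := by
    intro j yj
    simp only [Set.mem_iUnion, Set.mem_image]
    constructor
    · rintro ⟨k, yk, hyk, e⟩
      obtain rfl := index_unique X g yk yj e
      rw [← fst_injective X g k e]
      exact hyk
    · intro h
      exact ⟨j, yj, h, rfl⟩
  refine ⟨⋃ k, (pullback.fst g (Sigma.ι X k)).base '' Uj k, ⟨⟨?_, ?_⟩, ?_⟩, ?_⟩
  · -- closed
    rw [← isOpen_compl_iff]
    have : (⋃ k, (pullback.fst g (Sigma.ι X k)).base '' Uj k)ᶜ =
        ⋃ k, (pullback.fst g (Sigma.ι X k)).base '' (Uj k)ᶜ := by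
      ext y
      obtain ⟨j, yj, rfl⟩ := cover_Y X g y
      rw [Set.mem_compl_iff, hmemU]
      simp only [Set.mem_iUnion, Set.mem_image, Set.mem_compl_iff]
      constructor
      · intro h
        exact ⟨j, yj, h, rfl⟩
      · rintro ⟨k, yk, hyk, e⟩
        obtain rfl := index_unique X g yk yj e
        rw [← fst_injective X g k e]
        exact hyk
    rw [this]
    exact isOpen_iUnion fun k =>
      (pullback.fst g (Sigma.ι X k)).isOpenEmbedding.isOpenMap _ (hUj k).1.compl.isOpen
  · exact isOpen_iUnion fun k =>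
      (pullback.fst g (Sigma.ι X k)).isOpenEmbedding.isOpenMap _ (hUj k).1.isOpen
  · ext p
    obtain ⟨j, pj, rfl⟩ := cover_P X X₀ i g p
    rw [Set.mem_preimage, hfst, hmemU, ← Set.mem_preimage, (hUj j).2, Set.mem_preimage]
  · rintro U' ⟨hU', hU'V⟩
    have key : ∀ j, (pullback.fst g (Sigma.ι X j)).base ⁻¹' U' = Uj j := by
      intro j
      apply huniq j
      refine ⟨hU'.preimage (pullback.fst g (Sigma.ι X j)).continuous, ?_⟩
      ext pj
      rw [Set.mem_preimage, Set.mem_preimage, ← hfst, ← Set.mem_preimage, hU'V, Set.mem_preimage]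
    ext y
    obtain ⟨j, yj, rfl⟩ := cover_Y X g y
    rw [hmemU, ← key j, Set.mem_preimage]

end Groth.Agent.Helper26.SigHens
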