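import Mathlib

set_option autoImplicit false
universe u v w

namespace Groth.Agent.Helper26.Sl2Tr

open Finset LieModule

/-- `3 Σ_{j<n} (x - 2j)² = 3 n x² - 6 x n (n-1) + 2 n (n-1) (2n-1)`. -/
lemma sum_sq (k : Type u) [Field k] (x : k) (n : ℕ) :
    3 * ∑ j ∈ range n, (x - 2 * (j : k)) ^ 2 =
      3 * n * x ^ 2 - 6 * x * n * (n - 1) + 2 * n * (n - 1) * (2 * n - 1) := by
  induction n with
  | zero => simp
  | succ n ih =>
    rw [Finset.sum_range_succ, mul_add, ih]
    push_cast
    ring

lemma six_choose (k : Type u) [Field k] [CharZero k] (d : ℕ) :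
    (6 : k) * (((d + 2).choose 3 : ℕ) : k) = d * (d + 1) * (d + 2) := by
  induction d with
  | zero => simp [Nat.choose]
  | succ d ih =>
    have h1 : (d + 1 + 2).choose 3 = (d + 2).choose 2 + (d + 2).choose 3 := by
      rw [show d + 1 + 2 = (d + 2) + 1 from rfl, show 3 = 2 + 1 from rfl, Nat.choose_succ_succ]
    rw [h1, Nat.cast_add, mul_add, ih, Nat.cast_choose_two]
    push_cast
    ring

lemma sum_weights (k : Type u) [Field k] [CharZero k] (d : ℕ) :
    ∑ j ∈ range (d + 1), ((d : k) - 2 * (j : k)) ^ 2 = 2 * (((d + 2).choose 3 : ℕ) : k) := by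
  have h3 : (3 : k) ≠ 0 := by norm_num
  apply mul_left_cancel₀ h3
  rw [sum_sq, ← mul_assoc, show (3 : k) * 2 = 6 by norm_num, six_choose]
  push_cast
  ring

section
variable (k : Type u) [Field k] [CharZero k]
  (L : Type v) [LieRing L] [LieAlgebra k L]
  {h e f : L} (t : IsSl2Triple h e f) (hspan : t.toLieSubalgebra k = ⊤)
  (N : Type w) [AddCommGroup N] [Module k N] [LieRingModule L N] [LieModule k L N]
  [FiniteDimensional k N]

/-- the span of the `f^j m`, `j ≤ d`, is a Lie submodule. -/
lemma span_stable {m : N} {d : ℕ} (P : t.HasPrimitiveVectorWith m (d : k))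
    (hspan : t.toLieSubalgebra k = ⊤) (x : L) (u : N)
    (hu : u ∈ Submodule.span k (Set.range fun j : Fin (d + 1) => ((toEnd k L N f) ^ (j : ℕ)) m)) :
    ⁅x, u⁆ ∈ Submodule.span k (Set.range fun j : Fin (d + 1) => ((toEnd k L N f) ^ (j : ℕ)) m) := by
  set U := Submodule.span k (Set.range fun j : Fin (d + 1) => ((toEnd k L N f) ^ (j : ℕ)) m) with hU
  have hv : ∀ j : ℕ, j ≤ d → ((toEnd k L N f) ^ j) m ∈ U := by
    intro j hj
    exact Submodule.subset_span ⟨⟨j, Nat.lt_succ_of_le hj⟩, rfl⟩
  have hh : ∀ u ∈ U, ⁅h, u⁆ ∈ U := by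
    intro u hu
    induction hu using Submodule.span_induction with
    | mem u hu =>
      obtain ⟨j, rfl⟩ := hu
      rw [P.lie_h_pow_toEnd_f]
      exact Submodule.smul_mem _ _ (hv j (Nat.lt_succ_iff.1 j.2))
    | zero => rw [lie_zero]; exact Submodule.zero_mem _
    | add a b _ _ ha hb => rw [lie_add]; exact Submodule.add_mem _ ha hb
    | smul c a _ ha => rw [lie_smul]; exact Submodule.smul_mem _ _ ha
  have hf : ∀ u ∈ U, ⁅f, u⁆ ∈ U := by
    intro u hu
    induction hu using Submodule.span_induction with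
    | mem u hu =>
      obtain ⟨j, rfl⟩ := hu
      rw [P.lie_f_pow_toEnd_f]
      by_cases hj : (j : ℕ) + 1 ≤ d
      · exact hv _ hj
      · have hjd : (j : ℕ) = d := by have := j.2; omega
        rw [hjd, P.pow_toEnd_f_eq_zero_of_eq_nat rfl]
        exact Submodule.zero_mem _
    | zero => rw [lie_zero]; exact Submodule.zero_mem _
    | add a b _ _ ha hb => rw [lie_add]; exact Submodule.add_mem _ ha hb
    | smul c a _ ha => rw [lie_smul]; exact Submodule.smul_mem _ _ ha
  have he : ∀ u ∈ U, ⁅e, u⁆ ∈ U := by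
    intro u hu
    induction hu using Submodule.span_induction with
    | mem u hu =>
      obtain ⟨⟨j, hj⟩, rfl⟩ := hu
      cases j with
      | zero =>
        simp only [pow_zero, Module.End.one_apply]
        rw [P.lie_e]
        exact Submodule.zero_mem _
      | succ j =>
        simp only
        rw [P.lie_e_pow_succ_toEnd_f]
        exact Submodule.smul_mem _ _ (hv j (by omega))
    | zero => rw [lie_zero]; exact Submodule.zero_mem _
    | add a b _ _ ha hb => rw [lie_add]; exact Submodule.add_mem _ ha hb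
    | smul c a _ ha => rw [lie_smul]; exact Submodule.smul_mem _ _ ha
  have hx : x ∈ t.toLieSubalgebra k := by rw [hspan]; exact LieSubalgebra.mem_top x
  rw [IsSl2Triple.mem_toLieSubalgebra_iff] at hx
  obtain ⟨c₁, c₂, c₃, rfl⟩ := hx
  rw [add_lie, add_lie, smul_lie, smul_lie, smul_lie, t.lie_e_f]
  exact Submodule.add_mem _ (Submodule.add_mem _ (Submodule.smul_mem _ _ (he u hu))
    (Submodule.smul_mem _ _ (hf u hu))) (Submodule.smul_mem _ _ (hh u hu))

end
end Groth.Agent.Helper26.Sl2Tr
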