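import Mathlib
import Groth.Agent.Lib.Helper26.Sl2Tr

set_option autoImplicit false
universe u v w

namespace Groth.Agent.Helper26.Sl2Tr

open Finset LieModule

theorem trace_irred (k : Type u) [Field k] [IsAlgClosed k] [CharZero k]
    (L : Type v) [LieRing L] [LieAlgebra k L]
    {h e f : L} (t : IsSl2Triple h e f) (hspan : t.toLieSubalgebra k = ⊤)
    (N : Type w) [AddCommGroup N] [Module k N] [LieRingModule L N] [LieModule k L N]
    [FiniteDimensional k N] [LieModule.IsIrreducible k L N] :
    LinearMap.trace k N ((toEnd k L N h) ^ 2) =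
      2 * (((Module.finrank k N + 1).choose 3 : ℕ) : k) := by
  haveI : Nontrivial N := LieModule.nontrivial_of_isIrreducible k L N
  obtain ⟨μ, m, hm, P⟩ := t.exists_hasPrimitiveVectorWith (R := k) (M := N)
  obtain ⟨d, rfl⟩ := P.exists_nat
  let v : Fin (d + 1) → N := fun j => ((toEnd k L N f) ^ (j : ℕ)) m
  -- the Lie submodule spanned by the `v j`
  let U : LieSubmodule k L N :=
    { Submodule.span k (Set.range v) with
      lie_mem := fun {x u} hu => span_stable k L t N P hspan x u hu }
  have hUne : U ≠ ⊥ := by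
    intro hU
    have : m ∈ U := Submodule.subset_span ⟨⟨0, Nat.succ_pos d⟩, by simp [v]⟩
    rw [hU, LieSubmodule.mem_bot] at this
    exact hm this
  have hUtop : U = ⊤ := (IsSimpleOrder.eq_bot_or_eq_top U).resolve_left hUne
  have hsp : ⊤ ≤ Submodule.span k (Set.range v) := by
    intro x _
    have : x ∈ U := by rw [hUtop]; exact LieSubmodule.mem_top x
    exact this
  -- linear independence
  have heig : ∀ j : Fin (d + 1), (toEnd k L N h).HasEigenvector ((d : k) - 2 * ((j : ℕ) : k)) (v j) := by
    intro j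
    refine ⟨?_, P.pow_toEnd_f_ne_zero_of_eq_nat rfl (Nat.lt_succ_iff.1 j.2)⟩
    rw [Module.End.mem_eigenspace_iff, toEnd_apply_apply]
    exact P.lie_h_pow_toEnd_f j
  have hinj : Function.Injective (fun j : Fin (d + 1) => (d : k) - 2 * ((j : ℕ) : k)) := by
    intro a b hab
    simp only [sub_right_inj, mul_eq_mul_left_iff, Nat.cast_inj, OfNat.ofNat_ne_zero, or_false] at hab
    exact Fin.ext hab
  have hli : LinearIndependent k v :=
    Module.End.eigenvectors_linearIndependent' (toEnd k L N h) _ hinj v heig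
  let b : Module.Basis (Fin (d + 1)) k N := Module.Basis.mk hli hsp
  have hb : ∀ j, b j = v j := fun j => by simp [b]
  have hrank : Module.finrank k N = d + 1 := by
    rw [Module.finrank_eq_card_basis b, Fintype.card_fin]
  have hsq : ∀ j : Fin (d + 1), ((toEnd k L N h) ^ 2) (b j) = ((d : k) - 2 * ((j : ℕ) : k)) ^ 2 • b j := by
    intro j
    have h1 : (toEnd k L N h) (b j) = ((d : k) - 2 * ((j : ℕ) : k)) • b j := by
      rw [hb]; exact (heig j).apply_eq_smul
    rw [pow_two, Module.End.mul_apply, h1, map_smul, h1, smul_smul, ← pow_two]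
  rw [LinearMap.trace_eq_matrix_trace k b, Matrix.trace, hrank]
  have hdiag : ∀ j : Fin (d + 1), (LinearMap.toMatrix b b ((toEnd k L N h) ^ 2)).diag j =
      ((d : k) - 2 * ((j : ℕ) : k)) ^ 2 := by
    intro j
    rw [Matrix.diag_apply, LinearMap.toMatrix_apply, hsq, map_smul, Module.Basis.repr_self]
    simp
  rw [Finset.sum_congr rfl (fun j _ => hdiag j), Fin.sum_univ_eq_sum_range
    (fun j => ((d : k) - 2 * (j : k)) ^ 2) (d + 1), sum_weights]

end Groth.Agent.Helper26.Sl2Tr
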