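import Mathlib
import Groth.Agent.Lib.Helper26.Sl2Tr2

set_option autoImplicit false
universe u v w

namespace Groth.Agent.Helper26.Sl2Tr

open Finset LieModule

theorem main
    (k : Type u) [Field k] [IsAlgClosed k] [CharZero k]
    (L : Type v) [LieRing L] [LieAlgebra k L]
    (h e f : L) (t : IsSl2Triple h e f) (hspan : t.toLieSubalgebra k = ⊤)
    (V : Type w) [AddCommGroup V] [Module k V] [LieRingModule L V] [LieModule k L V]
    [FiniteDimensional k V]
    (ι : Type) [Fintype ι] [DecidableEq ι] (W : ι → LieSubmodule k L V)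
    (hW : DirectSum.IsInternal fun i => (W i).toSubmodule)
    (hirr : ∀ i, LieModule.IsIrreducible k L (W i)) :
    LinearMap.trace k V ((LieModule.toEnd k L V h) ^ 2) =
      2 * ∑ i, (((Module.finrank k (W i) + 1).choose 3 : ℕ) : k) := by
  have hmaps : ∀ i, Set.MapsTo (((LieModule.toEnd k L V h) ^ 2 : Module.End k V) : V → V)
      ((W i).toSubmodule : Set V) ((W i).toSubmodule : Set V) := by
    intro i x hx
    rw [pow_two, Module.End.mul_apply, toEnd_apply_apply, toEnd_apply_apply]
    exact (W i).lie_mem ((W i).lie_mem hx)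
  rw [LinearMap.trace_eq_sum_trace_restrict hW hmaps, Finset.mul_sum]
  apply Finset.sum_congr rfl
  intro i _
  have := hirr i
  have h1 := trace_irred k L t hspan (W i)
  rw [← h1]
  congr 1

end Groth.Agent.Helper26.Sl2Tr
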