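import Mathlib
import Groth.Prelude.Def_Hens2
import Groth.Agent.Lib.Helper26.PHTransfer
import Groth.Agent.Lib.Helper14.FFDescent

/-!
# Flatness descends from the pair henselization to the local rings along the ideal (helper26)
-/

set_option autoImplicit false
set_option linter.unusedSectionVars false
set_option linter.style.haveILetI false

open TensorProduct IsLocalRing

namespace Groth.Agent.Helper26.SmoothAt

universe u
open Groth.Agent.Helper26.PH

variable {R₀ : Type u} [CommRing R₀] {J₀ : Ideal R₀} {B : Type u} [CommRing B] [Algebra R₀ B]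
  (hB : Hens2.IsPairHenselization R₀ J₀ B)

include hB in
/-- primes containing `J₀` lift to the henselization -/
theorem exists_prime_over (𝔮 : Ideal R₀) [𝔮.IsPrime] (h𝔮 : J₀ ≤ 𝔮) :
    ∃ 𝔮' : Ideal B, 𝔮'.IsPrime ∧ 𝔮'.comap (algebraMap R₀ B) = 𝔮 := by
  have hbij := quotientMap_bijective hB
  let e : (R₀ ⧸ J₀) ≃+* (B ⧸ J₀.map (algebraMap R₀ B)) := RingEquiv.ofBijective _ hbij
  have he : ∀ x : R₀, e (Ideal.Quotient.mk J₀ x) =
      Ideal.Quotient.mk (J₀.map (algebraMap R₀ B)) (algebraMap R₀ B x) :=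
    fun x => Ideal.quotientMap_mk (J := J₀) (I := J₀.map (algebraMap R₀ B))
      (f := algebraMap R₀ B) (H := Ideal.le_comap_map)
  let ψ : B →+* R₀ ⧸ J₀ := (e.symm : (B ⧸ J₀.map (algebraMap R₀ B)) →+* R₀ ⧸ J₀).comp
    (Ideal.Quotient.mk (J₀.map (algebraMap R₀ B)))
  have hψ : ∀ x : R₀, ψ (algebraMap R₀ B x) = Ideal.Quotient.mk J₀ x := by
    intro x
    change e.symm (Ideal.Quotient.mk _ (algebraMap R₀ B x)) = _
    rw [← he, RingEquiv.symm_apply_apply]
  have hker : RingHom.ker (Ideal.Quotient.mk J₀) ≤ 𝔮 := by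
    rw [Ideal.mk_ker]
    exact h𝔮
  haveI : (𝔮.map (Ideal.Quotient.mk J₀)).IsPrime :=
    Ideal.map_isPrime_of_surjective Ideal.Quotient.mk_surjective hker
  refine ⟨(𝔮.map (Ideal.Quotient.mk J₀)).comap ψ, Ideal.comap_isPrime _ _, ?_⟩
  ext x
  rw [Ideal.mem_comap, Ideal.mem_comap, hψ]
  constructor
  · intro hx
    have h1 : x ∈ (𝔮.map (Ideal.Quotient.mk J₀)).comap (Ideal.Quotient.mk J₀) := hx
    rw [Ideal.comap_map_of_surjective _ Ideal.Quotient.mk_surjective] at h1
    have h2 : Ideal.comap (Ideal.Quotient.mk J₀) ⊥ ≤ 𝔮 := by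
      rw [← RingHom.ker_eq_comap_bot]
      exact hker
    exact (sup_le le_rfl h2) h1
  · intro hx
    exact Ideal.mem_map_of_mem _ hx

include hB in
/-- flatness over a base ring descends to the local rings at primes containing `J₀` -/
theorem flat_localization_of_flat (A : Type u) [CommRing A] [Algebra A R₀] [Algebra A B]
    [IsScalarTower A R₀ B] [Module.Flat A B] (𝔮 : Ideal R₀) [𝔮.IsPrime] (h𝔮 : J₀ ≤ 𝔮) :
    Module.Flat A (Localization.AtPrime 𝔮) := by
  obtain ⟨𝔮', h𝔮', hcomap⟩ := exists_prime_over hB 𝔮 h𝔮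
  haveI := h𝔮'
  haveI : Module.Flat R₀ B := PH.flat hB
  let φ : Localization.AtPrime 𝔮 →+* Localization.AtPrime 𝔮' :=
    Localization.localRingHom 𝔮 𝔮' (algebraMap R₀ B) hcomap.symm
  have hφ : ∀ x : R₀, φ (algebraMap R₀ (Localization.AtPrime 𝔮) x) =
      algebraMap B (Localization.AtPrime 𝔮') (algebraMap R₀ B x) :=
    fun x => Localization.localRingHom_to_map 𝔮 𝔮' (algebraMap R₀ B) hcomap.symm x
  letI : Algebra (Localization.AtPrime 𝔮) (Localization.AtPrime 𝔮') := φ.toAlgebra
  haveI : IsScalarTower R₀ (Localization.AtPrime 𝔮) (Localization.AtPrime 𝔮') :=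
    IsScalarTower.of_algebraMap_eq (fun x => by
      rw [IsScalarTower.algebraMap_apply R₀ B (Localization.AtPrime 𝔮')]
      exact (hφ x).symm)
  haveI : Module.Flat R₀ (Localization.AtPrime 𝔮') := Module.Flat.trans R₀ B _
  haveI : Module.Flat (Localization.AtPrime 𝔮) (Localization.AtPrime 𝔮') :=
    (Module.flat_iff_of_isLocalization (Localization.AtPrime 𝔮) 𝔮.primeCompl _).2 inferInstance
  haveI : IsLocalHom (algebraMap (Localization.AtPrime 𝔮) (Localization.AtPrime 𝔮')) :=
    Localization.isLocalHom_localRingHom 𝔮 𝔮' (algebraMap R₀ B) hcomap.symm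
  haveI : Module.FaithfullyFlat (Localization.AtPrime 𝔮) (Localization.AtPrime 𝔮') :=
    Module.FaithfullyFlat.of_flat_of_isLocalHom
  haveI : Module.Flat A (Localization.AtPrime 𝔮') := Module.Flat.trans A B _
  haveI : IsScalarTower A (Localization.AtPrime 𝔮) (Localization.AtPrime 𝔮') :=
    IsScalarTower.of_algebraMap_eq (fun a => by
      rw [IsScalarTower.algebraMap_apply A B (Localization.AtPrime 𝔮'),
        IsScalarTower.algebraMap_apply A R₀ B,
        IsScalarTower.algebraMap_apply A R₀ (Localization.AtPrime 𝔮)]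
      exact (hφ _).symm)
  exact Groth.Agent.Helper14.FFDescent.flat_of_comp A (Localization.AtPrime 𝔮)
    (Localization.AtPrime 𝔮')

end Groth.Agent.Helper26.SmoothAt
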