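import Mathlib

/-!
# Smooth fibres from smoothness modulo an ideal (helper26)
-/

set_option autoImplicit false
set_option linter.unusedSectionVars false
set_option linter.style.haveILetI false

open TensorProduct IsLocalRing

namespace Groth.Agent.Helper26.SmoothAt

universe u

variable {A : Type u} [CommRing A] (I : Ideal A) (R₀ : Type u) [CommRing R₀] [Algebra A R₀]

/-- if `R₀ / I R₀` is formally smooth over `A / I`, then the fibres of `R₀` over primes
containing `I` are formally smooth -/
theorem formallySmooth_fiber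
    [Algebra.FormallySmooth (A ⧸ I) (R₀ ⧸ I.map (algebraMap A R₀))]
    (p : Ideal A) [p.IsPrime] (hp : I ≤ p) :
    Algebra.FormallySmooth p.ResidueField (p.Fiber R₀) := by
  let K := p.ResidueField
  let φ : (A ⧸ I) →+* K := Ideal.Quotient.lift I (algebraMap A K)
    (fun a ha => Ideal.algebraMap_residueField_eq_zero.2 (hp ha))
  letI : Algebra (A ⧸ I) K := φ.toAlgebra
  haveI : IsScalarTower A (A ⧸ I) K := IsScalarTower.of_algebraMap_eq (fun a => rfl)
  haveI : Algebra.FormallySmooth (A ⧸ I) ((A ⧸ I) ⊗[A] R₀) :=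
    Algebra.FormallySmooth.of_equiv (Algebra.TensorProduct.quotIdealMapEquivQuotTensor R₀ I)
  haveI : Algebra.FormallySmooth K (K ⊗[A ⧸ I] ((A ⧸ I) ⊗[A] R₀)) := inferInstance
  exact Algebra.FormallySmooth.of_equiv
    (Algebra.TensorProduct.cancelBaseChange A (A ⧸ I) K K R₀)

end Groth.Agent.Helper26.SmoothAt
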