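import Mathlib
import Groth.Prelude.Def_Hens2
import Groth.Agent.Lib.Helper26.SmoothAt1
import Groth.Agent.Lib.Helper26.SmoothAt2
import Groth.Agent.Lib.Helper26.SmoothAt3
import Groth.Agent.Lib.Helper26.PHMore
import Groth.Agent.Lib.Helper26.PHNbhd2

/-!
# h-smoothness from flatness and smoothness modulo the ideal (helper26)
-/

set_option autoImplicit false
set_option linter.unusedSectionVars false
set_option linter.style.haveILetI false

open TensorProduct IsLocalRing

namespace Groth.Agent.Helper26.SmoothAt

universe u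
open Groth.Agent.Helper26.PH

variable (A : Type u) [CommRing A] (I : Ideal A) (R₀ : Type u) [CommRing R₀] [Algebra A R₀]
  (B : Type u) [CommRing B] [Algebra R₀ B] [Algebra A B] [IsScalarTower A R₀ B]
  (hB : Hens2.IsPairHenselization R₀ (I.map (algebraMap A R₀)) B)

include hB in
/-- formal smoothness of `R₀ / I R₀` over `A / I` from that of `B / I B` -/
theorem formallySmooth_quotient
    [Algebra.FormallySmooth (A ⧸ I) (B ⧸ I.map (algebraMap A B))] :
    Algebra.FormallySmooth (A ⧸ I) (R₀ ⧸ I.map (algebraMap A R₀)) := by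
  have heq : (I.map (algebraMap A R₀)).map (algebraMap R₀ B) = I.map (algebraMap A B) := by
    rw [Ideal.map_map, ← IsScalarTower.algebraMap_eq]
  have hle : I.map (algebraMap A R₀) ≤ (I.map (algebraMap A B)).comap (algebraMap R₀ B) := by
    rw [← Ideal.map_le_iff_le_comap, heq]
  let f : (R₀ ⧸ I.map (algebraMap A R₀)) →+* (B ⧸ I.map (algebraMap A B)) :=
    Ideal.quotientMap _ (algebraMap R₀ B) hle
  have hf : Function.Bijective f := by
    have key : ∀ (K : Ideal B) (hK : (I.map (algebraMap A R₀)).map (algebraMap R₀ B) = K)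
        (hle' : I.map (algebraMap A R₀) ≤ K.comap (algebraMap R₀ B)),
        Function.Bijective (Ideal.quotientMap K (algebraMap R₀ B) hle') := by
      rintro _ rfl hle'
      exact quotientMap_bijective hB
    exact key _ heq hle
  let fa : (R₀ ⧸ I.map (algebraMap A R₀)) →ₐ[A ⧸ I] (B ⧸ I.map (algebraMap A B)) :=
    { f with
      commutes' := by
        intro x
        obtain ⟨a, rfl⟩ := Ideal.Quotient.mk_surjective x
        change f (algebraMap (A ⧸ I) (R₀ ⧸ I.map (algebraMap A R₀)) (Ideal.Quotient.mk I a)) =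
          algebraMap (A ⧸ I) (B ⧸ I.map (algebraMap A B)) (Ideal.Quotient.mk I a)
        rw [Ideal.Quotient.algebraMap_quotient_map_quotient,
          Ideal.Quotient.algebraMap_quotient_map_quotient]
        change Ideal.quotientMap _ (algebraMap R₀ B) hle (Ideal.Quotient.mk _ _) = _
        rw [Ideal.quotientMap_mk, ← IsScalarTower.algebraMap_apply] }
  exact Algebra.FormallySmooth.of_equiv (AlgEquiv.ofBijective fa hf).symm

include hB in
/-- the smooth locus of `R₀` contains `V(I R₀)` -/
theorem mem_smoothLocus [Algebra.FinitePresentation A R₀] [Module.Flat A B]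
    [Algebra.FormallySmooth (A ⧸ I) (B ⧸ I.map (algebraMap A B))]
    (𝔮 : PrimeSpectrum R₀) (h𝔮 : I.map (algebraMap A R₀) ≤ 𝔮.asIdeal) :
    𝔮 ∈ Algebra.smoothLocus A R₀ := by
  haveI := formallySmooth_quotient A I R₀ B hB
  change Algebra.IsSmoothAt A 𝔮.asIdeal
  let p : Ideal A := 𝔮.asIdeal.under A
  haveI : p.IsPrime := inferInstance
  haveI : 𝔮.asIdeal.LiesOver p := inferInstance
  have hp : I ≤ p := by
    intro a ha
    exact h𝔮 (Ideal.mem_map_of_mem _ ha)
  haveI : Module.Flat A (Localization.AtPrime 𝔮.asIdeal) :=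
    flat_localization_of_flat hB A 𝔮.asIdeal h𝔮
  haveI : Algebra.FormallySmooth p.ResidueField (p.Fiber R₀) := formallySmooth_fiber I R₀ p hp
  exact isSmoothAt_of_flat_of_fiber p 𝔮.asIdeal

include hB in
/-- the h-smoothness criterion -/
theorem exists_smooth [Algebra.FinitePresentation A R₀] [Module.Flat A B]
    [Algebra.FormallySmooth (A ⧸ I) (B ⧸ I.map (algebraMap A B))] :
    ∃ (R : Type u) (_ : CommRing R) (_ : Algebra A R) (_ : Algebra R B) (_ : IsScalarTower A R B),
      Algebra.Smooth A R ∧ Hens2.IsPairHenselization R (I.map (algebraMap A R)) B := by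
  set J₀ := I.map (algebraMap A R₀) with hJ₀
  have hloc := mem_smoothLocus A I R₀ B hB
  -- the complement of the smooth locus is closed
  have hcl : IsClosed (Algebra.smoothLocus A R₀)ᶜ := Algebra.isOpen_smoothLocus.isClosed_compl
  obtain ⟨K, hK⟩ := (PrimeSpectrum.isClosed_iff_zeroLocus_ideal _).1 hcl
  have htop : K ⊔ J₀ = ⊤ := by
    by_contra hne
    obtain ⟨𝔪, h𝔪, hle⟩ := Ideal.exists_le_maximal _ hne
    let x : PrimeSpectrum R₀ := ⟨𝔪, h𝔪.isPrime⟩
    have h1 : x ∈ PrimeSpectrum.zeroLocus (K : Set R₀) := by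
      rw [PrimeSpectrum.mem_zeroLocus]
      exact fun k hk => hle (Ideal.mem_sup_left hk)
    rw [← hK] at h1
    exact h1 (hloc x (fun j hj => hle (Ideal.mem_sup_right hj)))
  obtain ⟨g, hg, j, hj, hgj⟩ := Submodule.mem_sup.1 ((Ideal.eq_top_iff_one _).1 htop)
  have hg1 : g - 1 ∈ J₀ := by
    have : g - 1 = -j := by rw [← hgj]; ring
    rw [this]
    exact J₀.neg_mem hj
  have hsub : (PrimeSpectrum.basicOpen g : Set (PrimeSpectrum R₀)) ⊆ Algebra.smoothLocus A R₀ := by
    intro x hx
    by_contra hx'
    have h2 : x ∈ PrimeSpectrum.zeroLocus (K : Set R₀) := by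
      rw [← hK]; exact hx'
    rw [PrimeSpectrum.mem_zeroLocus] at h2
    exact hx (h2 hg)
  have hsmooth : Algebra.Smooth A (Localization.Away g) :=
    Algebra.basicOpen_subset_smoothLocus_iff_smooth.1 hsub
  -- `g` maps to a unit of `B`
  have hunit : IsUnit (algebraMap R₀ B g) := by
    haveI : HenselianRing B (J₀.map (algebraMap R₀ B)) := hB.1
    have hjac : algebraMap R₀ B g - 1 ∈ Ideal.jacobson (⊥ : Ideal B) := by
      apply HenselianRing.jac (I := J₀.map (algebraMap R₀ B))
      have := Ideal.mem_map_of_mem (algebraMap R₀ B) hg1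
      rwa [map_sub, map_one] at this
    have := (Ideal.mem_jacobson_bot.1 hjac) 1
    rwa [mul_one, sub_add_cancel] at this
  let ψ : Localization.Away g →+* B := IsLocalization.Away.lift g hunit
  have hψ : ∀ x : R₀, ψ (algebraMap R₀ (Localization.Away g) x) = algebraMap R₀ B x :=
    fun x => IsLocalization.Away.lift_eq g hunit x
  letI : Algebra (Localization.Away g) B := ψ.toAlgebra
  haveI : IsScalarTower R₀ (Localization.Away g) B :=
    IsScalarTower.of_algebraMap_eq (fun x => (hψ x).symm)
  haveI : IsScalarTower A (Localization.Away g) B :=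
    IsScalarTower.of_algebraMap_eq (fun a => by
      rw [IsScalarTower.algebraMap_apply A R₀ B,
        IsScalarTower.algebraMap_apply A R₀ (Localization.Away g)]
      exact (hψ _).symm)
  have hnb : IsNbhd R₀ J₀ (Localization.Away g) := IsNbhd.away IsNbhd.self g (by
    rw [Algebra.algebraMap_self, Ideal.map_id]
    exact hg1)
  have hPH := isPairHenselization_of_isNbhd hB (Localization.Away g) hnb
  refine ⟨Localization.Away g, inferInstance, inferInstance, inferInstance, inferInstance,
    hsmooth, ?_⟩
  have : I.map (algebraMap A (Localization.Away g)) =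
      J₀.map (algebraMap R₀ (Localization.Away g)) := by
    rw [hJ₀, Ideal.map_map, ← IsScalarTower.algebraMap_eq]
  rw [this]
  exact hPH

include hB in
/-- variant with a propositionally equal ideal in the smoothness hypothesis -/
theorem exists_smooth_of_eq [Algebra.FinitePresentation A R₀] [Module.Flat A B]
    (I' : Ideal A) (hI' : I' = I)
    (h : Algebra.Smooth (A ⧸ I') (B ⧸ I'.map (algebraMap A B))) :
    ∃ (R : Type u) (_ : CommRing R) (_ : Algebra A R) (_ : Algebra R B) (_ : IsScalarTower A R B),
      Algebra.Smooth A R ∧ Hens2.IsPairHenselization R (I.map (algebraMap A R)) B := by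
  subst hI'
  haveI := h
  exact exists_smooth A I' R₀ B hB

end Groth.Agent.Helper26.SmoothAt
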