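import Mathlib

namespace Groth.Agent.Helper26.SpecChain

open TopologicalSpace Relation

theorem eqvGen_specializes {X : Type*} [TopologicalSpace X] [NoetherianSpace X] [QuasiSober X]
    [ConnectedSpace X] (p q : X) : EqvGen (fun x y : X => x ⤳ y) p q := by
  let r := EqvGen (fun x y : X => x ⤳ y)
  let S : Set X := {x | r p x}
  have hkey : ∀ Z ∈ irreducibleComponents X, ∀ x ∈ Z, ∀ y ∈ Z, r x y := by
    intro Z hZ x hx y hy
    obtain ⟨η, hη⟩ := QuasiSober.sober hZ.1 (isClosed_of_mem_irreducibleComponents Z hZ)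
    have h1 : η ⤳ x := specializes_iff_mem_closure.2 (hη.def.symm ▸ hx)
    have h2 : η ⤳ y := specializes_iff_mem_closure.2 (hη.def.symm ▸ hy)
    exact EqvGen.trans _ _ _ (EqvGen.symm _ _ (EqvGen.rel _ _ h1)) (EqvGen.rel _ _ h2)
  have hfin : (irreducibleComponents X).Finite := NoetherianSpace.finite_irreducibleComponents
  have hS : S = ⋃₀ {Z ∈ irreducibleComponents X | Z ⊆ S} := by
    ext x
    constructor
    · intro hx
      refine ⟨irreducibleComponent x, ⟨irreducibleComponent_mem_irreducibleComponents x, ?_⟩,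
        mem_irreducibleComponent⟩
      intro y hy
      exact EqvGen.trans _ _ _ hx (hkey _ (irreducibleComponent_mem_irreducibleComponents x) x
        mem_irreducibleComponent y hy)
    · rintro ⟨Z, ⟨_, hZS⟩, hxZ⟩
      exact hZS hxZ
  have hSc : Sᶜ = ⋃₀ {Z ∈ irreducibleComponents X | Z ⊆ Sᶜ} := by
    ext x
    constructor
    · intro hx
      refine ⟨irreducibleComponent x, ⟨irreducibleComponent_mem_irreducibleComponents x, ?_⟩,
        mem_irreducibleComponent⟩
      intro y hy hyS
      apply hx
      exact EqvGen.trans _ _ _ hyS (hkey _ (irreducibleComponent_mem_irreducibleComponents x) y hy x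
        mem_irreducibleComponent)
    · rintro ⟨Z, ⟨_, hZS⟩, hxZ⟩
      exact hZS hxZ
  have hclosed : IsClosed S := by
    rw [hS, Set.sUnion_eq_biUnion]
    refine Set.Finite.isClosed_biUnion (hfin.subset fun Z hZ => hZ.1) ?_
    intro Z hZ
    exact isClosed_of_mem_irreducibleComponents Z hZ.1
  have hopen : IsOpen S := by
    rw [← isClosed_compl_iff, hSc, Set.sUnion_eq_biUnion]
    refine Set.Finite.isClosed_biUnion (hfin.subset fun Z hZ => hZ.1) ?_
    intro Z hZ
    exact isClosed_of_mem_irreducibleComponents Z hZ.1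
  have huniv : S = Set.univ := IsClopen.eq_univ ⟨hclosed, hopen⟩ ⟨p, EqvGen.refl p⟩
  have : q ∈ S := huniv ▸ Set.mem_univ q
  exact this

theorem main (X : AlgebraicGeometry.Scheme) [AlgebraicGeometry.IsNoetherian X] [ConnectedSpace X]
    (p q : X) : EqvGen (fun x y : X => x ⤳ y) p q :=
  eqvGen_specializes p q

end Groth.Agent.Helper26.SpecChain
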