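import Mathlib

/-!
# A finite free algebra splitting a monic polynomial (helper26)
-/

set_option autoImplicit false
set_option linter.unusedSectionVars false
set_option linter.style.haveILetI false

open Polynomial

namespace Groth.Agent.Helper26.SplitAlg

universe u

theorem of_injective {R : Type u} [CommRing R] (f : R[X]) (hf : f.Monic) (hn : f.natDegree ≠ 0) :
    Function.Injective (AdjoinRoot.of f) := by
  rw [injective_iff_map_eq_zero]
  intro r hr
  have h1 : AdjoinRoot.mk f (C r) = 0 := hr
  rw [AdjoinRoot.mk_eq_zero] at h1
  by_contra hr0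
  have h2 : (C r : R[X]) ≠ 0 := by
    rwa [Ne, C_eq_zero]
  refine hf.not_dvd_of_natDegree_lt h2 ?_ h1
  rw [natDegree_C]
  omega

/-- every monic polynomial splits into linear factors over some finite free algebra -/
theorem exists_splitting : ∀ (n : ℕ) (R : Type u) [CommRing R] (f : R[X]), f.Monic →
    f.natDegree = n →
    ∃ (S' : Type u) (_ : CommRing S') (_ : Algebra R S') (a : Fin n → S'),
      Module.Free R S' ∧ Module.Finite R S' ∧ Algebra.FinitePresentation R S' ∧
      Function.Injective (algebraMap R S') ∧
      f.map (algebraMap R S') = ∏ i, (X - C (a i)) := by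
  intro n
  induction n with
  | zero =>
    intro R _ f hf hn
    refine ⟨R, inferInstance, inferInstance, Fin.elim0, inferInstance, inferInstance,
      inferInstance, Function.injective_id, ?_⟩
    rw [Algebra.algebraMap_self, Polynomial.map_id, Finset.univ_eq_empty, Finset.prod_empty]
    exact hf.natDegree_eq_zero.1 hn
  | succ n ih =>
    intro R _ f hf hn
    let S₁ := AdjoinRoot f
    let r : S₁ := AdjoinRoot.root f
    have hroot : (f.map (AdjoinRoot.of f)).IsRoot r := by
      rw [IsRoot, eval_map]
      exact AdjoinRoot.eval₂_root f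
    let f₁ : S₁[X] := (f.map (AdjoinRoot.of f)) /ₘ (X - C r)
    have hfac : (X - C r) * f₁ = f.map (AdjoinRoot.of f) :=
      mul_divByMonic_eq_iff_isRoot.2 hroot
    have hfm : (f.map (AdjoinRoot.of f)).Monic := hf.map _
    have hf₁ : f₁.Monic := by
      refine Monic.of_mul_monic_left (monic_X_sub_C r) ?_
      rw [hfac]; exact hfm
    have hinj₁ : Function.Injective (algebraMap R S₁) := of_injective f hf (by omega)
    haveI : Nontrivial R := by
      by_contra h
      rw [not_nontrivial_iff_subsingleton] at h
      rw [natDegree_of_subsingleton] at hn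
      omega
    haveI : Nontrivial S₁ := hinj₁.nontrivial
    have hdeg : f₁.natDegree = n := by
      have h1 := congrArg natDegree hfac
      rw [(monic_X_sub_C r).natDegree_mul hf₁, natDegree_X_sub_C, hf.natDegree_map, hn] at h1
      omega
    obtain ⟨S'', _, _, a', hfree, hfin, hfp, hinj, hsplit⟩ := ih S₁ f₁ hf₁ hdeg
    letI : Algebra R S'' := ((algebraMap S₁ S'').comp (algebraMap R S₁)).toAlgebra
    haveI : IsScalarTower R S₁ S'' := IsScalarTower.of_algebraMap_eq (fun _ => rfl)
    haveI : Module.Free R S₁ := hf.free_adjoinRoot
    haveI : Module.Finite R S₁ := hf.finite_adjoinRoot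
    haveI : Algebra.FinitePresentation R S₁ := inferInstance
    refine ⟨S'', inferInstance, inferInstance, Fin.cons (algebraMap S₁ S'' r) a',
      Module.Free.trans (R := R) (S := S₁), Module.Finite.trans S₁ S'',
      Algebra.FinitePresentation.trans R S₁ S'', ?_, ?_⟩
    · exact hinj.comp hinj₁
    · have h2 : f.map (algebraMap R S'') = (f.map (AdjoinRoot.of f)).map (algebraMap S₁ S'') := by
        rw [Polynomial.map_map]
        rfl
      rw [h2, ← hfac, Polynomial.map_mul, hsplit, Fin.prod_univ_succ]
      simp only [Fin.cons_zero, Fin.cons_succ, Polynomial.map_sub, Polynomial.map_X,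
        Polynomial.map_C]

end Groth.Agent.Helper26.SplitAlg
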