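import Mathlib

/-!
# A common field receiving two primes over the same prime (helper26)
-/

set_option autoImplicit false
set_option linter.unusedSectionVars false
set_option linter.style.haveILetI false

open TensorProduct

namespace Groth.Agent.Helper26.SplitAlg

universe u

/-- two primes lying over the same prime are kernels of maps to a common field -/
theorem exists_common_field (R : Type u) [CommRing R] (S : Type u) [CommRing S] [Algebra R S]
    (S' : Type u) [CommRing S'] [Algebra R S'] (q : Ideal S) [q.IsPrime] (q' : Ideal S')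
    [q'.IsPrime] (h : q'.under R = q.under R) :
    ∃ (D : Type u) (_ : Field D) (u : S →+* D) (v : S' →+* D),
      u.comp (algebraMap R S) = v.comp (algebraMap R S') ∧ RingHom.ker u = q ∧
      RingHom.ker v = q' := by
  let p : Ideal R := q.under R
  haveI : p.IsPrime := inferInstance
  haveI : q.LiesOver p := ⟨rfl⟩
  haveI : q'.LiesOver p := ⟨h.symm⟩
  let Rp := R ⧸ p
  let A := FractionRing (S ⧸ q)
  let B := FractionRing (S' ⧸ q')
  have hA : Function.Injective (algebraMap Rp A) := by
    rw [IsScalarTower.algebraMap_eq Rp (S ⧸ q) A]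
    exact (IsFractionRing.injective (S ⧸ q) A).comp
      (FaithfulSMul.algebraMap_injective Rp (S ⧸ q))
  have hB : Function.Injective (algebraMap Rp B) := by
    rw [IsScalarTower.algebraMap_eq Rp (S' ⧸ q') B]
    exact (IsFractionRing.injective (S' ⧸ q') B).comp
      (FaithfulSMul.algebraMap_injective Rp (S' ⧸ q'))
  haveI : Nontrivial (A ⊗[Rp] B) :=
    Algebra.TensorProduct.nontrivial_of_algebraMap_injective_of_isDomain Rp A B hA hB
  obtain ⟨M, hM⟩ := Ideal.exists_maximal (A ⊗[Rp] B)
  letI : Field ((A ⊗[Rp] B) ⧸ M) := Ideal.Quotient.field M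
  let uA : A →+* (A ⊗[Rp] B) ⧸ M :=
    (Ideal.Quotient.mk M).comp (Algebra.TensorProduct.includeLeftRingHom)
  let vB : B →+* (A ⊗[Rp] B) ⧸ M :=
    (Ideal.Quotient.mk M).comp (Algebra.TensorProduct.includeRight (R := Rp) (A := A) (B := B) :
      B →+* A ⊗[Rp] B)
  let u : S →+* (A ⊗[Rp] B) ⧸ M := uA.comp (algebraMap S A)
  let v : S' →+* (A ⊗[Rp] B) ⧸ M := vB.comp (algebraMap S' B)
  refine ⟨(A ⊗[Rp] B) ⧸ M, inferInstance, u, v, ?_, ?_, ?_⟩
  · ext r
    change Ideal.Quotient.mk M (algebraMap S A (algebraMap R S r) ⊗ₜ[Rp] (1 : B)) =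
      Ideal.Quotient.mk M ((1 : A) ⊗ₜ[Rp] algebraMap S' B (algebraMap R S' r))
    congr 1
    have h1 : algebraMap S A (algebraMap R S r) = algebraMap Rp A (Ideal.Quotient.mk p r) := by
      rw [← IsScalarTower.algebraMap_apply R S A, IsScalarTower.algebraMap_apply R Rp A]
      rfl
    have h2 : algebraMap S' B (algebraMap R S' r) = algebraMap Rp B (Ideal.Quotient.mk p r) := by
      rw [← IsScalarTower.algebraMap_apply R S' B, IsScalarTower.algebraMap_apply R Rp B]
      rfl
    rw [h1, h2, Algebra.algebraMap_eq_smul_one, Algebra.algebraMap_eq_smul_one,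
      TensorProduct.smul_tmul]
  · ext x
    rw [RingHom.mem_ker]
    change uA (algebraMap S A x) = 0 ↔ _
    rw [map_eq_zero_iff uA uA.injective, IsScalarTower.algebraMap_apply S (S ⧸ q) A,
      map_eq_zero_iff _ (IsFractionRing.injective (S ⧸ q) A)]
    exact Ideal.Quotient.eq_zero_iff_mem
  · ext x
    rw [RingHom.mem_ker]
    change vB (algebraMap S' B x) = 0 ↔ _
    rw [map_eq_zero_iff vB vB.injective, IsScalarTower.algebraMap_apply S' (S' ⧸ q') B,
      map_eq_zero_iff _ (IsFractionRing.injective (S' ⧸ q') B)]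
    exact Ideal.Quotient.eq_zero_iff_mem

end Groth.Agent.Helper26.SplitAlg
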