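import Mathlib
import Groth.Agent.Lib.Helper26.SplitAlg2

/-!
# Standard étale algebras map to localizations of a splitting algebra (helper26)
-/

set_option autoImplicit false
set_option linter.unusedSectionVars false
set_option linter.style.haveILetI false

open Polynomial

namespace Groth.Agent.Helper26.SplitAlg

universe u

theorem core (R : Type u) [CommRing R] (S : Type u) [CommRing S] [Algebra R S]
    (S' : Type u) [CommRing S'] [Algebra R S'] (P : StandardEtalePresentation R S) {n : ℕ}
    (a : Fin n → S') (hsplit : P.f.map (algebraMap R S') = ∏ i, (X - C (a i)))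
    (q : Ideal S) [q.IsPrime] (q' : Ideal S') [q'.IsPrime] (h : q'.under R = q.under R) :
    ∃ (g' : S') (_ : g' ∉ q') (φ : S →ₐ[R] Localization.Away g'),
      (q'.map (algebraMap S' (Localization.Away g'))).comap φ = q := by
  obtain ⟨D, _, u, v, huv, hu, hv⟩ := exists_common_field R S S' q q' h
  letI : Algebra R D := (u.comp (algebraMap R S)).toAlgebra
  let uA : S →ₐ[R] D := { u with commutes' := fun r => rfl }
  let vA : S' →ₐ[R] D := { v with commutes' := fun r => (congrArg (fun f => f r) huv).symm }
  set ξ : D := u P.x with hξ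
  have hmapξ : P.HasMap (uA P.x) := P.hasMap.map uA
  have hfξ : aeval ξ P.f = 0 := hmapξ.1
  have hgξ : IsUnit (aeval ξ P.g) := hmapξ.2
  -- `f` splits over `D`
  have hsplitD : P.f.map (algebraMap R D) = ∏ i, (X - C (v (a i))) := by
    have h1 : P.f.map (algebraMap R D) = (P.f.map (algebraMap R S')).map v := by
      rw [Polynomial.map_map]
      congr 1
    rw [h1, hsplit, Polynomial.map_prod]
    simp only [Polynomial.map_sub, Polynomial.map_X, Polynomial.map_C]
  have hprod : ∏ i, (ξ - v (a i)) = 0 := by
    have h1 : eval ξ (P.f.map (algebraMap R D)) = 0 := by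
      rw [eval_map, ← aeval_def]
      exact hfξ
    rw [hsplitD, eval_prod] at h1
    simpa using h1
  obtain ⟨i, -, hi⟩ := Finset.prod_eq_zero_iff.1 hprod
  have hi' : v (a i) = ξ := (sub_eq_zero.1 hi).symm
  -- the element `g'`
  set g' : S' := aeval (a i) P.g with hg'
  have hvg' : v g' = aeval ξ P.g := by
    change vA (aeval (a i) P.g) = _
    rw [← aeval_algHom_apply]
    change aeval (v (a i)) P.g = _
    rw [hi']
  have hg'q : g' ∉ q' := by
    intro hmem
    rw [← hv, RingHom.mem_ker, hvg'] at hmem
    exact hgξ.ne_zero hmem
  let L := Localization.Away g'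
  let x' : L := algebraMap S' L (a i)
  have hx' : P.HasMap x' := by
    constructor
    · change aeval (algebraMap S' L (a i)) P.f = 0
      rw [aeval_algebraMap_apply]
      have : aeval (a i) P.f = 0 := by
        rw [aeval_def, eval₂_eq_eval_map, hsplit, eval_prod]
        apply Finset.prod_eq_zero (Finset.mem_univ i)
        simp
      rw [this, map_zero]
    · change IsUnit (aeval (algebraMap S' L (a i)) P.g)
      rw [aeval_algebraMap_apply]
      exact IsLocalization.Away.algebraMap_isUnit g'
  let φ : S →ₐ[R] L := (P.lift x' hx').comp P.equivRing.toAlgHom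
  have hφx : φ P.x = x' := by
    change P.lift x' hx' (P.equivRing P.x) = x'
    rw [P.equivRing_x, StandardEtalePair.lift_X]
  have hunit : IsUnit (v g') := by rw [hvg']; exact hgξ
  let w : L →+* D := IsLocalization.Away.lift g' hunit
  have hw : ∀ s : S', w (algebraMap S' L s) = v s := fun s => IsLocalization.Away.lift_eq g' hunit s
  let wA : L →ₐ[R] D :=
    { w with
      commutes' := fun r => by
        change w (algebraMap R L r) = _
        rw [IsScalarTower.algebraMap_apply R S' L, hw]
        exact vA.commutes r }
  have heq : wA.comp φ = uA := by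
    apply P.hom_ext
    change w (φ P.x) = u P.x
    rw [hφx, hw, hi']
  have heq' : ∀ s : S, w (φ s) = u s := fun s => congrArg (fun f => f s) heq
  have hker : q'.map (algebraMap S' L) = RingHom.ker w := by
    rw [← IsLocalization.map_under (Submonoid.powers g') L (RingHom.ker w)]
    congr 1
    rw [← hv]
    ext s
    rw [Ideal.mem_comap, RingHom.mem_ker, RingHom.mem_ker, hw]
  refine ⟨g', hg'q, φ, ?_⟩
  ext s
  rw [Ideal.mem_comap, hker, RingHom.mem_ker, heq', ← hu, RingHom.mem_ker]

end Groth.Agent.Helper26.SplitAlg
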