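import Mathlib
import Groth.Agent.Lib.Helper26.SplitAlg1
import Groth.Agent.Lib.Helper26.SplitAlg3

/-!
# Finite flat covers of standard étale algebras (helper26)
-/

set_option autoImplicit false
set_option linter.unusedSectionVars false
set_option linter.style.haveILetI false

open Polynomial

namespace Groth.Agent.Helper26.SplitAlg

universe u

theorem exists_finite_flat_cover (R : Type u) [CommRing R] (S : Type u)
    [CommRing S] [Algebra R S] [Algebra.IsStandardEtale R S] :
    ∃ (S' : Type u) (_ : CommRing S') (_ : Algebra R S'),
      Module.Finite R S' ∧ Algebra.FinitePresentation R S' ∧ Module.Flat R S' ∧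
        Function.Surjective (PrimeSpectrum.comap (algebraMap R S')) ∧
        ∀ (q : Ideal S) [q.IsPrime] (q' : Ideal S') [q'.IsPrime], q'.under R = q.under R →
          ∃ (g' : S') (_ : g' ∉ q') (φ : S →ₐ[R] Localization.Away g'),
            (q'.map (algebraMap S' (Localization.Away g'))).comap φ = q := by
  obtain ⟨P⟩ := Algebra.IsStandardEtale.nonempty_standardEtalePresentation (R := R) (S := S)
  obtain ⟨S', _, _, a, hfree, hfin, hfp, hinj, hsplit⟩ :=
    exists_splitting P.f.natDegree R P.f P.monic_f rfl
  haveI := hfree
  haveI := hfin
  haveI : Module.Flat R S' := inferInstance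
  refine ⟨S', inferInstance, inferInstance, hfin, hfp, inferInstance,
    PrimeSpectrum.comap_surjective_iff_injective_of_finite.2 hinj, ?_⟩
  intro q _ q' _ h
  exact core R S S' P a hsplit q q' h

end Groth.Agent.Helper26.SplitAlg
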