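import Mathlib
import Groth.Agent.Lib.Helper26.SplitAlg1
import Groth.Agent.Lib.Helper26.SplitAlg3

/-!
# Finite faithfully flat covers dominating an étale local algebra (helper26)
-/

set_option autoImplicit false
set_option linter.unusedSectionVars false
set_option linter.style.haveILetI false

open Polynomial IsLocalRing

namespace Groth.Agent.Helper26.SplitAlg

universe u

theorem exists_finite_ff (R : Type u) [CommRing R] [IsLocalRing R] (T : Type u) [CommRing T]
    [Algebra R T] [Algebra.Etale R T] (q : Ideal T) [q.IsPrime] (S : Type u) [CommRing S]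
    [IsLocalRing S] [Algebra T S] [IsLocalization.AtPrime S q] [Algebra R S] [IsScalarTower R T S]
    [IsLocalHom (algebraMap R S)] :
    ∃ (S' : Type u) (_ : CommRing S') (_ : Algebra R S'),
      Module.Finite R S' ∧ Algebra.FinitePresentation R S' ∧ Module.FaithfullyFlat R S' ∧
        ∀ (m' : Ideal S') [m'.IsMaximal], Nonempty (S →ₐ[R] Localization.AtPrime m') := by
  haveI : Algebra.IsEtaleAt R q := inferInstance
  obtain ⟨g₀, hg₀, hstd⟩ := Algebra.IsEtaleAt.exists_isStandardEtale (R := R) q
  let T' := Localization.Away g₀
  obtain ⟨P⟩ := hstd.nonempty_standardEtalePresentation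
  obtain ⟨S', _, _, a, hfree, hfin, hfp, hinj, hsplit⟩ :=
    exists_splitting P.f.natDegree R P.f P.monic_f rfl
  haveI := hfree
  haveI := hfin
  haveI : Module.Flat R S' := inferInstance
  have hsurj : Function.Surjective (PrimeSpectrum.comap (algebraMap R S')) :=
    PrimeSpectrum.comap_surjective_iff_injective_of_finite.2 hinj
  refine ⟨S', inferInstance, inferInstance, hfin, hfp,
    Module.FaithfullyFlat.of_comap_surjective hsurj, ?_⟩
  intro m' hm'
  -- the prime of `T'`
  have hdisj : Disjoint (Submonoid.powers g₀ : Set T) (q : Set T) := by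
    rw [Set.disjoint_left]
    rintro _ ⟨n, rfl⟩ hmem
    exact hg₀ (Ideal.IsPrime.mem_of_pow_mem inferInstance n hmem)
  let q₁ : Ideal T' := q.map (algebraMap T T')
  haveI hq₁ : q₁.IsPrime :=
    IsLocalization.isPrime_of_isPrime_disjoint (Submonoid.powers g₀) T' q inferInstance hdisj
  have hq₁c : q₁.comap (algebraMap T T') = q :=
    IsLocalization.under_map_of_isPrime_disjoint (Submonoid.powers g₀) T' inferInstance hdisj
  -- both primes lie over the maximal ideal
  have h1 : m'.under R = maximalIdeal R := by
    haveI : Algebra.IsIntegral R S' := Algebra.IsIntegral.of_finite R S'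
    exact IsLocalRing.eq_maximalIdeal (Ideal.isMaximal_comap_of_isIntegral_of_isMaximal m')
  have h2 : q₁.under R = maximalIdeal R := by
    have h3 : q₁.under R = q.under R := by
      change q₁.comap (algebraMap R T') = q.comap (algebraMap R T)
      rw [IsScalarTower.algebraMap_eq R T T', ← Ideal.comap_comap, hq₁c]
    rw [h3]
    have h4 : (maximalIdeal S).comap (algebraMap T S) = q :=
      IsLocalization.AtPrime.under_maximalIdeal S q
    change q.comap (algebraMap R T) = _
    rw [← h4, Ideal.comap_comap, ← IsScalarTower.algebraMap_eq]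
    exact IsLocalRing.maximalIdeal_comap (algebraMap R S)
  obtain ⟨g', hg', φ, hφ⟩ := core R T' S' P a hsplit q₁ m' (h1.trans h2.symm)
  let L := Localization.Away g'
  let L' := Localization.AtPrime m'
  have hunit : IsUnit (algebraMap S' L' g') :=
    IsLocalization.map_units L' (⟨g', hg'⟩ : m'.primeCompl)
  let θ : L →+* L' := IsLocalization.Away.lift g' hunit
  have hθ : ∀ s : S', θ (algebraMap S' L s) = algebraMap S' L' s :=
    fun s => IsLocalization.Away.lift_eq g' hunit s
  have hθker : (maximalIdeal L').comap θ = m'.map (algebraMap S' L) := by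
    rw [← IsLocalization.map_under (Submonoid.powers g') L ((maximalIdeal L').comap θ)]
    congr 1
    change ((maximalIdeal L').comap θ).comap (algebraMap S' L) = m'
    rw [Ideal.comap_comap]
    have : θ.comp (algebraMap S' L) = algebraMap S' L' := RingHom.ext hθ
    rw [this]
    exact IsLocalization.AtPrime.under_maximalIdeal L' m'
  let θA : L →ₐ[R] L' :=
    { θ with
      commutes' := fun r => by
        change θ (algebraMap R L r) = _
        rw [IsScalarTower.algebraMap_apply R S' L, hθ, ← IsScalarTower.algebraMap_apply] }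
  let ψ : T →ₐ[R] L' := (θA.comp φ).comp (IsScalarTower.toAlgHom R T T')
  have hunits : ∀ y : q.primeCompl, IsUnit (ψ y) := by
    rintro ⟨y, hy⟩
    by_contra hnu
    have h5 : ψ y ∈ maximalIdeal L' := (IsLocalRing.mem_maximalIdeal _).2 hnu
    have h6 : φ (algebraMap T T' y) ∈ (maximalIdeal L').comap θ := h5
    rw [hθker] at h6
    have h7 : algebraMap T T' y ∈ q₁ := by
      rw [← hφ]
      exact h6
    have h8 : y ∈ q₁.comap (algebraMap T T') := h7
    rw [hq₁c] at h8
    exact hy h8
  exact ⟨IsLocalization.liftAlgHom (M := q.primeCompl) (f := ψ) hunits⟩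

end Groth.Agent.Helper26.SplitAlg
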