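import Mathlib
import Groth.Agent.Lib.Helper26.SplitAlg1
import Groth.Agent.Lib.Helper26.SplitAlg3

/-!
# Finite flat covers dominating a surjective étale algebra (helper26)
-/

set_option autoImplicit false
set_option linter.unusedSectionVars false
set_option linter.style.haveILetI false

open Polynomial TensorProduct

namespace Groth.Agent.Helper26.SplitAlg

universe u

variable (R : Type u) [CommRing R] (S : Type u) [CommRing S] [Algebra R S]

/-- the properties of the covers we construct -/
structure Cover (S' : Type u) [CommRing S'] [Algebra R S'] : Prop where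
  free : Module.Free R S'
  finite : Module.Finite R S'
  fp : Algebra.FinitePresentation R S'
  inj : Function.Injective (algebraMap R S')

/-- the domination property over a set of primes of `S` -/
def Good (S' : Type u) [CommRing S'] [Algebra R S'] (U : Set (PrimeSpectrum S)) : Prop :=
  ∀ q : PrimeSpectrum S, q ∈ U → ∀ (q' : Ideal S') [q'.IsPrime],
    q'.under R = q.asIdeal.under R →
    ∃ (g' : S') (_ : g' ∉ q'), Nonempty (S →ₐ[R] Localization.Away g')

theorem good_of_std (f : S) [Algebra.IsStandardEtale R (Localization.Away f)] :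
    ∃ (S' : Type u) (_ : CommRing S') (_ : Algebra R S'), Cover R S' ∧
      Good R S S' (PrimeSpectrum.basicOpen f : Set (PrimeSpectrum S)) := by
  let T' := Localization.Away f
  obtain ⟨P⟩ := Algebra.IsStandardEtale.nonempty_standardEtalePresentation (R := R) (S := T')
  obtain ⟨S', _, _, a, hfree, hfin, hfp, hinj, hsplit⟩ :=
    exists_splitting P.f.natDegree R P.f P.monic_f rfl
  refine ⟨S', inferInstance, inferInstance, ⟨hfree, hfin, hfp, hinj⟩, ?_⟩
  intro q hq q' _ h
  have hfq : f ∉ q.asIdeal := hq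
  have hdisj : Disjoint (Submonoid.powers f : Set S) (q.asIdeal : Set S) := by
    rw [Set.disjoint_left]
    rintro _ ⟨n, rfl⟩ hmem
    exact hfq (Ideal.IsPrime.mem_of_pow_mem q.isPrime n hmem)
  let q₁ : Ideal T' := q.asIdeal.map (algebraMap S T')
  haveI hq₁ : q₁.IsPrime :=
    IsLocalization.isPrime_of_isPrime_disjoint (Submonoid.powers f) T' q.asIdeal q.isPrime hdisj
  have hq₁c : q₁.comap (algebraMap S T') = q.asIdeal :=
    IsLocalization.under_map_of_isPrime_disjoint (Submonoid.powers f) T' q.isPrime hdisj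
  have h3 : q₁.under R = q.asIdeal.under R := by
    change q₁.comap (algebraMap R T') = q.asIdeal.comap (algebraMap R S)
    rw [IsScalarTower.algebraMap_eq R S T', ← Ideal.comap_comap, hq₁c]
  obtain ⟨g', hg', φ, -⟩ := core R T' S' P a hsplit q₁ q' (h.trans h3.symm)
  exact ⟨g', hg', ⟨φ.comp (IsScalarTower.toAlgHom R S T')⟩⟩

variable {R S}

theorem Cover.tensor {S₁ : Type u} [CommRing S₁] [Algebra R S₁] {S₂ : Type u} [CommRing S₂]
    [Algebra R S₂] (h₁ : Cover R S₁) (h₂ : Cover R S₂) : Cover R (S₁ ⊗[R] S₂) := by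
  haveI := h₁.free
  haveI := h₁.finite
  haveI := h₁.fp
  haveI := h₂.free
  haveI := h₂.finite
  haveI := h₂.fp
  refine ⟨inferInstance, inferInstance, ?_, ?_⟩
  · haveI : Algebra.FinitePresentation S₁ (S₁ ⊗[R] S₂) := inferInstance
    exact Algebra.FinitePresentation.trans R S₁ (S₁ ⊗[R] S₂)
  · have h3 : Function.Injective (Algebra.TensorProduct.includeLeft : S₁ →ₐ[R] S₁ ⊗[R] S₂) :=
      Algebra.TensorProduct.includeLeft_injective h₂.inj
    have h4 : (algebraMap R (S₁ ⊗[R] S₂) : R → S₁ ⊗[R] S₂) =
        (Algebra.TensorProduct.includeLeft : S₁ →ₐ[R] S₁ ⊗[R] S₂) ∘ algebraMap R S₁ := by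
      ext r
      exact ((Algebra.TensorProduct.includeLeft : S₁ →ₐ[R] S₁ ⊗[R] S₂).commutes r).symm
    rw [h4]
    exact h3.comp h₁.inj

/-- transport of the domination property along an algebra map of covers -/
theorem Good.of_algHom {S₁ : Type u} [CommRing S₁] [Algebra R S₁] {S₂ : Type u} [CommRing S₂]
    [Algebra R S₂] (ι : S₁ →ₐ[R] S₂) {U : Set (PrimeSpectrum S)} (h : Good R S S₁ U) :
    Good R S S₂ U := by
  intro q hq q' _ hq'
  let q'₁ : Ideal S₁ := q'.comap ι
  haveI : q'₁.IsPrime := Ideal.comap_isPrime _ _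
  have h1 : q'₁.under R = q'.under R := by
    change (q'.comap ι).comap (algebraMap R S₁) = q'.comap (algebraMap R S₂)
    ext r
    rw [Ideal.mem_comap, Ideal.mem_comap, Ideal.mem_comap, ι.commutes]
  obtain ⟨g₁, hg₁, ⟨ψ⟩⟩ := h q hq q'₁ (h1.trans hq')
  let g' : S₂ := ι g₁
  have hg' : g' ∉ q' := hg₁
  let L := Localization.Away g'
  have hunits : ∀ y : Submonoid.powers g₁,
      IsUnit (((IsScalarTower.toAlgHom R S₂ L).comp ι) y) := by
    rintro ⟨_, n, rfl⟩
    change IsUnit (algebraMap S₂ L (ι (g₁ ^ n)))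
    rw [map_pow, map_pow]
    exact (IsLocalization.Away.algebraMap_isUnit g').pow n
  let θ : Localization.Away g₁ →ₐ[R] L := IsLocalization.liftAlgHom (M := Submonoid.powers g₁)
    (f := (IsScalarTower.toAlgHom R S₂ L).comp ι) hunits
  exact ⟨g', hg', ⟨θ.comp ψ⟩⟩

theorem Good.union {S' : Type u} [CommRing S'] [Algebra R S'] {U₁ U₂ : Set (PrimeSpectrum S)}
    (h₁ : Good R S S' U₁) (h₂ : Good R S S' U₂) : Good R S S' (U₁ ∪ U₂) := by
  intro q hq q' _ hq'
  rcases hq with hq | hq
  · exact h₁ q hq q' hq'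
  · exact h₂ q hq q' hq'

variable (R S)

theorem exists_cover_finset [Algebra.Etale R S] (F : Finset S)
    (hF : ∀ f ∈ F, Algebra.IsStandardEtale R (Localization.Away f)) :
    ∃ (S' : Type u) (_ : CommRing S') (_ : Algebra R S'), Cover R S' ∧
      Good R S S' (⋃ f ∈ F, (PrimeSpectrum.basicOpen f : Set (PrimeSpectrum S))) := by
  classical
  induction F using Finset.induction_on with
  | empty =>
    refine ⟨R, inferInstance, inferInstance, ⟨inferInstance, inferInstance, inferInstance,
      Function.injective_id⟩, ?_⟩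
    intro q hq
    simp at hq
  | insert f F hfF ih =>
    obtain ⟨S₂, _, _, hc₂, hg₂⟩ := ih (fun g hg => hF g (Finset.mem_insert_of_mem hg))
    haveI := hF f (Finset.mem_insert_self f F)
    obtain ⟨S₁, _, _, hc₁, hg₁⟩ := good_of_std R S f
    refine ⟨S₁ ⊗[R] S₂, inferInstance, inferInstance, hc₁.tensor hc₂, ?_⟩
    rw [Finset.set_biUnion_insert]
    exact (hg₁.of_algHom Algebra.TensorProduct.includeLeft).union
      (hg₂.of_algHom Algebra.TensorProduct.includeRight)

theorem exists_finite_flat_cover_dominating [Algebra.Etale R S]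
    (hs : Function.Surjective (PrimeSpectrum.comap (algebraMap R S))) :
    ∃ (S' : Type u) (_ : CommRing S') (_ : Algebra R S'),
      Module.Finite R S' ∧ Algebra.FinitePresentation R S' ∧ Module.Flat R S' ∧
        Function.Surjective (PrimeSpectrum.comap (algebraMap R S')) ∧
        ∀ (q' : Ideal S') [q'.IsPrime], ∃ (g' : S') (_ : g' ∉ q'),
          Nonempty (S →ₐ[R] Localization.Away g') := by
  let s : Set S := {f | Algebra.IsStandardEtale R (Localization.Away f)}
  have hspan : Ideal.span s = ⊤ := by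
    by_contra hne
    obtain ⟨m, hm, hle⟩ := Ideal.exists_le_maximal _ hne
    haveI := hm.isPrime
    haveI : Algebra.IsEtaleAt R m := inferInstance
    obtain ⟨f, hf, hstd⟩ := Algebra.IsEtaleAt.exists_isStandardEtale (R := R) m
    exact hf (hle (Ideal.subset_span hstd))
  obtain ⟨F, hFs, hFtop⟩ := (Ideal.span_eq_top_iff_finite s).1 hspan
  obtain ⟨S', _, _, hc, hgood⟩ := exists_cover_finset R S F (fun f hf => hFs hf)
  haveI := hc.free
  haveI := hc.finite
  haveI : Module.Flat R S' := inferInstance
  refine ⟨S', inferInstance, inferInstance, hc.finite, hc.fp, inferInstance,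
    PrimeSpectrum.comap_surjective_iff_injective_of_finite.2 hc.inj, ?_⟩
  intro q' _
  obtain ⟨q, hq⟩ := hs ⟨q'.under R, inferInstance⟩
  have hq' : q'.under R = q.asIdeal.under R := by
    have := congrArg PrimeSpectrum.asIdeal hq
    exact this.symm
  have hmem : q ∈ ⋃ f ∈ F, (PrimeSpectrum.basicOpen f : Set (PrimeSpectrum S)) := by
    by_contra hnot
    have hsub : (F : Set S) ⊆ q.asIdeal := by
      intro f hf
      by_contra hfq
      apply hnot
      simp only [Set.mem_iUnion]
      exact ⟨f, hf, hfq⟩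
    have : Ideal.span (F : Set S) ≤ q.asIdeal := Ideal.span_le.2 hsub
    rw [hFtop] at this
    exact q.isPrime.ne_top (top_le_iff.1 this)
  exact hgood q hmem q' hq'

end Groth.Agent.Helper26.SplitAlg
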