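import Mathlib

namespace Groth.Agent.Lib.Helper26.SqZ1

open TensorProduct

universe u

variable {A : Type*} [CommRing A] (I : Ideal A) (M : Type*) [AddCommGroup M] [Module A M]

example : IsScalarTower A (A ⧸ I) (M ⧸ (I • ⊤ : Submodule A M)) := inferInstance
example : IsScalarTower A (A ⧸ I) ((A ⧸ I) ⊗[A] M) := inferInstance

/-- Tool L: if `M/IM` is flat over `A/I`, then `M ⊗ -` preserves injections between modules
killed by `I`. -/
theorem lTensor_injective_of_killed [Module.Flat (A ⧸ I) (M ⧸ (I • ⊤ : Submodule A M))]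
    {P₁ P₂ : Type*} [AddCommGroup P₁] [Module A P₁] [AddCommGroup P₂] [Module A P₂]
    (hP₁ : ∀ a ∈ I, ∀ p : P₁, a • p = 0) (hP₂ : ∀ a ∈ I, ∀ p : P₂, a • p = 0)
    (f : P₁ →ₗ[A] P₂) (hf : Function.Injective f) : Function.Injective (f.lTensor M) := by
  have t₁ : Module.IsTorsionBySet A P₁ (I : Set A) := fun x a => hP₁ a.1 a.2 x
  have t₂ : Module.IsTorsionBySet A P₂ (I : Set A) := fun x a => hP₂ a.1 a.2 x
  let _ : Module (A ⧸ I) P₁ := t₁.module
  let _ : Module (A ⧸ I) P₂ := t₂.module
  have _ : IsScalarTower A (A ⧸ I) P₁ := t₁.isScalarTower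
  have _ : IsScalarTower A (A ⧸ I) P₂ := t₂.isScalarTower
  let f' : P₁ →ₗ[A ⧸ I] P₂ := LinearMap.extendScalarsOfSurjective Ideal.Quotient.mk_surjective f
  have hf' : Function.Injective f' := hf
  have hflat : Module.Flat (A ⧸ I) ((A ⧸ I) ⊗[A] M) :=
    Module.Flat.of_linearEquiv
      ((TensorProduct.quotTensorEquivQuotSMul M I).extendScalarsOfSurjective
        Ideal.Quotient.mk_surjective)
  have h1 : Function.Injective (f'.rTensor ((A ⧸ I) ⊗[A] M)) :=
    Module.Flat.rTensor_preserves_injective_linearMap f' hf'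
  rw [LinearMap.lTensor_inj_iff_rTensor_inj]
  let e₁ := TensorProduct.AlgebraTensorModule.cancelBaseChange A (A ⧸ I) (A ⧸ I) P₁ M
  let e₂ := TensorProduct.AlgebraTensorModule.cancelBaseChange A (A ⧸ I) (A ⧸ I) P₂ M
  have hnat : ∀ z, e₂ (f'.rTensor ((A ⧸ I) ⊗[A] M) z) = f.rTensor M (e₁ z) := by
    intro z
    induction z using TensorProduct.induction_on with
    | zero => simp
    | tmul p w =>
      induction w using TensorProduct.induction_on with
      | zero => simp
      | tmul b m =>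
        simp only [LinearMap.rTensor_tmul, e₁, e₂,
          TensorProduct.AlgebraTensorModule.cancelBaseChange_tmul]
        have : f (b • p) = b • f' p := by
          rw [← map_smul]; rfl
        rw [this]
      | add w₁ w₂ h₁ h₂ => rw [TensorProduct.tmul_add, map_add, map_add, h₁, h₂, map_add, map_add]
    | add z₁ z₂ h₁ h₂ => rw [map_add, map_add, h₁, h₂, map_add, map_add]
  intro x y hxy
  obtain ⟨x', rfl⟩ := e₁.surjective x
  obtain ⟨y', rfl⟩ := e₁.surjective y
  rw [← hnat, ← hnat] at hxy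
  rw [h1 (e₂.injective hxy)]

/-- abstract diagram chase for the square-zero criterion -/
theorem chase {J E J₀ 𝔞' Q E' : Type*} [AddCommGroup J] [Module A J] [AddCommGroup E] [Module A E]
    [AddCommGroup J₀] [Module A J₀] [AddCommGroup 𝔞'] [Module A 𝔞'] [AddCommGroup Q] [Module A Q]
    [AddCommGroup E'] [Module A E']
    (ι : J →ₗ[A] E) (i₀ : J₀ →ₗ[A] J) (k : J₀ →ₗ[A] 𝔞') (j : 𝔞' →ₗ[A] E)
    (hjk : j ∘ₗ k = ι ∘ₗ i₀)
    (q : J →ₗ[A] Q) (hq : Function.Surjective q) (hex : Function.Exact i₀ q)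
    (r : E →ₗ[A] E') (ℓ : Q →ₗ[A] E') (hℓ : ℓ ∘ₗ q = r ∘ₗ ι)
    (h1 : Function.Injective (ℓ.lTensor M)) (h2 : Function.Injective (k.lTensor M))
    (h3 : Function.Injective (j.lTensor M)) :
    Function.Injective (ι.lTensor M) := by
  rw [injective_iff_map_eq_zero]
  intro x hx
  have e1 : ℓ.lTensor M (q.lTensor M x) = 0 := by
    rw [← LinearMap.comp_apply, ← LinearMap.lTensor_comp, hℓ, LinearMap.lTensor_comp,
      LinearMap.comp_apply, hx, map_zero]
  have hq0 : q.lTensor M x = 0 := h1 (e1.trans (map_zero _).symm)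
  obtain ⟨x', rfl⟩ := (lTensor_exact M hex hq x).1 hq0
  have e2 : j.lTensor M (k.lTensor M x') = 0 := by
    rw [← LinearMap.comp_apply, ← LinearMap.lTensor_comp, hjk, LinearMap.lTensor_comp,
      LinearMap.comp_apply]
    exact hx
  have hk0 : k.lTensor M x' = 0 := h3 (e2.trans (map_zero _).symm)
  have hx' : x' = 0 := h2 (hk0.trans (map_zero _).symm)
  rw [hx', map_zero]

/-- final step: flatness of `M/I₂M` over `A/I₂` from injectivity for ideals of `A/I₂` viewed as
`A`-modules. -/
theorem flat_quotient_of_forall_ideal (I₂ : Ideal A)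
    (h : ∀ J' : Ideal (A ⧸ I₂),
      Function.Injective ((J'.subtype.restrictScalars A).lTensor M)) :
    Module.Flat (A ⧸ I₂) (M ⧸ (I₂ • ⊤ : Submodule A M)) := by
  have hflat : Module.Flat (A ⧸ I₂) ((A ⧸ I₂) ⊗[A] M) := by
    rw [Module.Flat.iff_rTensor_injective']
    intro J'
    have hJ := h J'
    rw [LinearMap.lTensor_inj_iff_rTensor_inj] at hJ
    let e₁ := TensorProduct.AlgebraTensorModule.cancelBaseChange A (A ⧸ I₂) (A ⧸ I₂) J' M
    let e₂ := TensorProduct.AlgebraTensorModule.cancelBaseChange A (A ⧸ I₂) (A ⧸ I₂) (A ⧸ I₂) M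
    have hnat : ∀ z, e₂ (J'.subtype.rTensor ((A ⧸ I₂) ⊗[A] M) z) =
        (J'.subtype.restrictScalars A).rTensor M (e₁ z) := by
      intro z
      induction z using TensorProduct.induction_on with
      | zero => simp
      | tmul p w =>
        induction w using TensorProduct.induction_on with
        | zero => simp
        | tmul b m =>
          simp only [LinearMap.rTensor_tmul, e₁, e₂,
            TensorProduct.AlgebraTensorModule.cancelBaseChange_tmul]
          rfl
        | add w₁ w₂ h₁ h₂ =>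
          rw [TensorProduct.tmul_add, map_add, map_add, h₁, h₂, map_add, map_add]
      | add z₁ z₂ h₁ h₂ => rw [map_add, map_add, h₁, h₂, map_add, map_add]
    intro x y hxy
    apply e₁.injective
    apply hJ
    rw [← hnat, ← hnat, hxy]
  exact Module.Flat.of_linearEquiv
    ((TensorProduct.quotTensorEquivQuotSMul M I₂).extendScalarsOfSurjective
      Ideal.Quotient.mk_surjective).symm

end Groth.Agent.Lib.Helper26.SqZ1
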