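import Mathlib
import Groth.Agent.Lib.Helper26.SqZ1

namespace Groth.Agent.Lib.Helper26.SqZ2

open TensorProduct Groth.Agent.Lib.Helper26.SqZ1

universe u

variable {A : Type u} [CommRing A] (I I₂ : Ideal A) (M : Type u) [AddCommGroup M] [Module A M]

lemma smul_eq_zero_of_mem_map (hII : I * I ≤ I₂) (a : A) (ha : a ∈ I) (y : A ⧸ I₂)
    (hy : y ∈ I.map (Ideal.Quotient.mk I₂)) : a • y = 0 := by
  obtain ⟨y₀, hy₀, rfl⟩ := (Ideal.mem_map_iff_of_surjective _ Ideal.Quotient.mk_surjective).1 hy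
  rw [Algebra.smul_def, Ideal.Quotient.algebraMap_eq, ← map_mul, Ideal.Quotient.eq_zero_iff_mem]
  exact hII (Ideal.mul_mem_mul ha hy₀)

lemma smul_quot_eq_zero (a : A) (ha : a ∈ I)
    (z : (A ⧸ I₂) ⧸ I.map (Ideal.Quotient.mk I₂)) : a • z = 0 := by
  obtain ⟨b, rfl⟩ := Ideal.Quotient.mk_surjective z
  rw [← Ideal.Quotient.mkₐ_eq_mk A, ← map_smul, Ideal.Quotient.mkₐ_eq_mk,
    Ideal.Quotient.eq_zero_iff_mem, Algebra.smul_def, Ideal.Quotient.algebraMap_eq]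
  exact Ideal.mul_mem_right _ _ (Ideal.mem_map_of_mem _ ha)

theorem sqzero [Module.Flat (A ⧸ I) (M ⧸ (I • ⊤ : Submodule A M))] (hII : I * I ≤ I₂)
    (h2 : Function.Injective
      (((I.map (Ideal.Quotient.mk I₂)).subtype.restrictScalars A).lTensor M))
    (J' : Ideal (A ⧸ I₂)) : Function.Injective ((J'.subtype.restrictScalars A).lTensor M) := by
  obtain ⟨𝔞, h𝔞⟩ : ∃ 𝔞 : Ideal (A ⧸ I₂), 𝔞 = I.map (Ideal.Quotient.mk I₂) := ⟨_, rfl⟩
  rw [← h𝔞] at h2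
  have kill𝔞 : ∀ a ∈ I, ∀ y : A ⧸ I₂, y ∈ 𝔞 → a • y = 0 := by
    rw [h𝔞]; exact smul_eq_zero_of_mem_map I I₂ hII
  have killQ : ∀ a ∈ I, ∀ z : (A ⧸ I₂) ⧸ 𝔞, a • z = 0 := by
    rw [h𝔞]; exact smul_quot_eq_zero I I₂
  let r : (A ⧸ I₂) →ₗ[A] (A ⧸ I₂) ⧸ 𝔞 := (Ideal.Quotient.mkₐ A 𝔞).toLinearMap
  have hr : ∀ b, r b = 0 ↔ b ∈ 𝔞 := fun b => Ideal.Quotient.eq_zero_iff_mem
  let ι : J' →ₗ[A] (A ⧸ I₂) := J'.subtype.restrictScalars A
  let i₀ : ↥(J' ⊓ 𝔞) →ₗ[A] J' :=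
    (Submodule.inclusion (inf_le_left : J' ⊓ 𝔞 ≤ J')).restrictScalars A
  let k : ↥(J' ⊓ 𝔞) →ₗ[A] 𝔞 :=
    (Submodule.inclusion (inf_le_right : J' ⊓ 𝔞 ≤ 𝔞)).restrictScalars A
  let j : 𝔞 →ₗ[A] (A ⧸ I₂) := 𝔞.subtype.restrictScalars A
  refine chase M ι i₀ k j (by ext; rfl) (r ∘ₗ ι).rangeRestrict
    (LinearMap.surjective_rangeRestrict _) ?_ r (LinearMap.range (r ∘ₗ ι)).subtype (by ext; rfl)
    ?_ ?_ h2
  · intro y
    constructor
    · intro hy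
      have : r (ι y) = 0 := congrArg Subtype.val hy
      rw [hr] at this
      exact ⟨⟨y.1, y.2, this⟩, rfl⟩
    · rintro ⟨y', rfl⟩
      apply Subtype.ext
      change r (y'.1) = 0
      rw [hr]
      exact y'.2.2
  · apply lTensor_injective_of_killed I M
    · intro a ha p
      apply Subtype.ext
      exact killQ a ha p.1
    · exact killQ
    · exact Subtype.val_injective
  · apply lTensor_injective_of_killed I M
    · intro a ha p
      apply Subtype.ext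
      exact kill𝔞 a ha p.1 p.2.2
    · intro a ha p
      apply Subtype.ext
      exact kill𝔞 a ha p.1 p.2
    · intro x y hxy
      apply Subtype.ext
      exact congrArg (fun z : 𝔞 => z.1) hxy

end Groth.Agent.Lib.Helper26.SqZ2
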