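import Mathlib
import Groth.Agent.Lib.Helper26.SqZ2

namespace Groth.Agent.Lib.Helper26.SqZ3

open TensorProduct Groth.Agent.Lib.Helper26.SqZ1 Groth.Agent.Lib.Helper26.SqZ2

universe u

variable {A : Type u} [CommRing A] (I I₂ : Ideal A) (M : Type u) [AddCommGroup M] [Module A M]

/-- uniform exponent -/
lemma exists_uniform_pow (𝔠 : Ideal A) (t : Finset A) (h : ∀ f ∈ t, f ∈ 𝔠.radical) :
    ∃ n : ℕ, ∀ f ∈ t, f ^ n ∈ 𝔠 := by
  classical
  induction t using Finset.induction_on with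
  | empty => exact ⟨0, by simp⟩
  | insert a s ha ih =>
    obtain ⟨n, hn⟩ := ih (fun f hf => h f (Finset.mem_insert_of_mem hf))
    obtain ⟨m, hm⟩ := h a (Finset.mem_insert_self _ _)
    refine ⟨n + m, fun f hf => ?_⟩
    rcases Finset.mem_insert.1 hf with rfl | hf
    · rw [pow_add]; exact 𝔠.mul_mem_left _ hm
    · rw [pow_add]; exact 𝔠.mul_mem_right _ (hn f hf)

theorem h2_of_local [Module.Flat (A ⧸ I) (M ⧸ (I • ⊤ : Submodule A M))] (hII : I * I ≤ I₂)
    (U : Set (PrimeSpectrum A)) (hU : IsOpen U) (hUc : IsCompact U)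
    (hflat : ∀ p ∈ U, Module.Flat A (LocalizedModule p.asIdeal.primeCompl M))
    (hI₂ : ∀ x : A, x ∈ I₂ ↔ x ∈ I ∧ ∀ p ∈ U, ∃ s : A, s ∉ p.asIdeal ∧ s * x ∈ I ^ 2) :
    Function.Injective
      (((I.map (Ideal.Quotient.mk I₂)).subtype.restrictScalars A).lTensor M) := by
  classical
  obtain ⟨𝔞, h𝔞⟩ : ∃ 𝔞 : Ideal (A ⧸ I₂), 𝔞 = I.map (Ideal.Quotient.mk I₂) := ⟨_, rfl⟩
  rw [← h𝔞]
  have kill𝔞 : ∀ a ∈ I, ∀ y : A ⧸ I₂, y ∈ 𝔞 → a • y = 0 := by
    rw [h𝔞]; exact smul_eq_zero_of_mem_map I I₂ hII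
  let ιA : 𝔞 →ₗ[A] (A ⧸ I₂) := 𝔞.subtype.restrictScalars A
  rw [injective_iff_map_eq_zero]
  intro x hx
  -- step 1
  have step1 : ∀ p ∈ U, ∃ s : A, s ∉ p.asIdeal ∧ s • x = 0 := by
    intro p hp
    have _ := hflat p hp
    let g := LocalizedModule.mkLinearMap p.asIdeal.primeCompl M
    have e : ιA.lTensor (LocalizedModule p.asIdeal.primeCompl M) (g.rTensor 𝔞 x) = 0 := by
      rw [← LinearMap.comp_apply, LinearMap.lTensor_comp_rTensor,
        ← LinearMap.rTensor_comp_lTensor, LinearMap.comp_apply, hx, map_zero]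
    have inj := Module.Flat.lTensor_preserves_injective_linearMap
      (M := LocalizedModule p.asIdeal.primeCompl M) ιA Subtype.val_injective
    have e0 : g.rTensor 𝔞 x = 0 := inj (e.trans (map_zero _).symm)
    obtain ⟨c, hc⟩ := (IsLocalizedModule.eq_zero_iff p.asIdeal.primeCompl
      (AlgebraTensorModule.rTensor A 𝔞 g)).1 e0
    exact ⟨c.1, c.2, hc⟩
  -- step 2
  obtain ⟨t, ht⟩ := PrimeSpectrum.isCompact_isOpen_iff.1 ⟨hUc, hU⟩
  -- step 3
  let 𝔠 : Ideal A := LinearMap.ker (LinearMap.toSpanSingleton A (M ⊗[A] 𝔞) x)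
  have h𝔠 : ∀ s, s ∈ 𝔠 ↔ s • x = 0 := fun s => by
    simp [𝔠, LinearMap.mem_ker, LinearMap.toSpanSingleton_apply]
  have hrad : ∀ f ∈ t, f ∈ 𝔠.radical := by
    intro f hf
    rw [← PrimeSpectrum.vanishingIdeal_zeroLocus_eq_radical, PrimeSpectrum.mem_vanishingIdeal]
    intro p hp
    by_contra hfp
    have hpU : p ∈ U := by
      rw [← ht]
      intro hpz
      exact hfp (hpz hf)
    obtain ⟨s, hs, hsx⟩ := step1 p hpU
    exact hs (hp ((h𝔠 s).2 hsx))
  obtain ⟨n, hn⟩ := exists_uniform_pow 𝔠 t hrad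
  -- step 4
  let Φ : 𝔞 →ₗ[A] (t → 𝔞) := LinearMap.pi (fun f => (f.1 ^ n) • LinearMap.id)
  have hΦinj : Function.Injective Φ := by
    rw [injective_iff_map_eq_zero]
    intro y hy
    have hy2 : y.1 ∈ I.map (Ideal.Quotient.mk I₂) := by rw [← h𝔞]; exact y.2
    obtain ⟨y₀, hy₀, hy₀e⟩ :=
      (Ideal.mem_map_iff_of_surjective _ Ideal.Quotient.mk_surjective).1 hy2
    have hmem : y₀ ∈ I₂ := by
      rw [hI₂]
      refine ⟨hy₀, fun p hp => ?_⟩
      have : ∃ f ∈ t, f ∉ p.asIdeal := by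
        rw [← ht] at hp
        by_contra hcon
        push Not at hcon
        exact hp (fun f hf => hcon f hf)
      obtain ⟨f, hft, hfp⟩ := this
      have h1 : f ^ n * y₀ ∈ I₂ := by
        rw [← Ideal.Quotient.eq_zero_iff_mem, map_mul, hy₀e]
        have h3 : (f ^ n) • y = 0 := congrFun hy ⟨f, hft⟩
        have h4 : (f ^ n) • y.1 = 0 := congrArg (fun z : 𝔞 => z.1) h3
        rw [Algebra.smul_def, Ideal.Quotient.algebraMap_eq] at h4
        exact h4
      obtain ⟨s, hs, hsx⟩ := ((hI₂ _).1 h1).2 p hp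
      refine ⟨s * f ^ n, ?_, by rw [mul_assoc]; exact hsx⟩
      exact p.asIdeal.primeCompl.mul_mem hs (p.asIdeal.primeCompl.pow_mem hfp n)
    apply Subtype.ext
    rw [← hy₀e]
    exact Ideal.Quotient.eq_zero_iff_mem.2 hmem
  have hΦ : Function.Injective (Φ.lTensor M) := by
    apply lTensor_injective_of_killed I M
    · intro a ha p
      apply Subtype.ext
      exact kill𝔞 a ha p.1 p.2
    · intro a ha p
      ext f
      exact kill𝔞 a ha (p f).1 (p f).2
    · exact hΦinj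
  apply hΦ
  rw [map_zero]
  apply (TensorProduct.piRight A A M (fun _ : t => 𝔞)).injective
  rw [map_zero]
  ext f
  have key : ∀ z : M ⊗[A] 𝔞,
      TensorProduct.piRight A A M (fun _ : t => 𝔞) (Φ.lTensor M z) f = (f.1 ^ n) • z := by
    intro z
    induction z using TensorProduct.induction_on with
    | zero => simp
    | tmul m y => simp [Φ, TensorProduct.tmul_smul]
    | add z₁ z₂ h₁ h₂ => simp only [map_add, Pi.add_apply, h₁, h₂, smul_add]
  rw [key, Pi.zero_apply]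
  exact (h𝔠 _).1 (hn f.1 f.2)

end Groth.Agent.Lib.Helper26.SqZ3
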