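import Mathlib

/-! # Stably free differentials from a presentation with right-invertible Jacobian -/

set_option autoImplicit false

namespace Groth.Agent.Helper26.Std

open MvPolynomial KaehlerDifferential

universe u v w t

theorem stablyFree_of_rightInverse {R : Type u} {B : Type v} {ι : Type w} {σ : Type t}
    [CommRing R] [CommRing B] [Algebra R B] [Fintype ι] [Fintype σ] [DecidableEq ι]
    [DecidableEq σ] (pres : Algebra.Presentation R B ι σ) (N : Matrix ι σ B)
    (hN : (Matrix.of fun r i => algebraMap pres.Ring B (pderiv i (pres.relation r))) * N = 1) :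
    Nonempty ((Ω[B⁄R] × (σ → B)) ≃ₗ[B] (ι → B)) := by
  classical
  set sol := pres.differentialsSolution with hsol
  obtain ⟨hspan, hkerπ⟩ :=
    (Module.Relations.Solution.isPresentation_iff _).mp pres.differentialsSolution_isPresentation
  let π' : (ι →₀ B) →ₗ[B] Ω[B⁄R] := sol.π
  have hsurj : Function.Surjective π' :=
    (Module.Relations.Solution.surjective_π_iff_span_eq_top _).mpr hspan
  set rel : σ → (ι →₀ B) := pres.differentialsRelations.relation with hrel
  have hkerπ' : LinearMap.ker π' = Submodule.span B (Set.range rel) := hkerπ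
  have hrange : LinearMap.range (Fintype.linearCombination B rel) =
      Submodule.span B (Set.range rel) := Fintype.range_linearCombination B rel
  have hrel_apply : ∀ r i, rel r i = algebraMap pres.Ring B (pderiv i (pres.relation r)) := by
    intro r i
    simp only [hrel, Algebra.Presentation.differentialsRelations, Finsupp.mapRange_apply,
      mvPolynomialBasis_repr_apply]
  let ψ : (σ → B) →ₗ[B] (ι →₀ B) := Fintype.linearCombination B rel
  let lam : (ι →₀ B) →ₗ[B] (σ → B) :=
    (Matrix.vecMulLinear N).comp (Finsupp.linearEquivFunOnFinite B B ι).toLinearMap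
  have hlam_rel : ∀ r, lam (rel r) = Pi.single r 1 := by
    intro r
    ext s
    have h1 := congrFun (congrFun hN r) s
    rw [Matrix.mul_apply, Matrix.one_apply] at h1
    have h2 : lam (rel r) s = ∑ i, rel r i * N i s := by
      simp [lam, Matrix.vecMul, dotProduct]
    rw [h2, Pi.single_apply]
    simp only [hrel_apply]
    rw [show (if s = r then (1 : B) else 0) = if r = s then 1 else 0 from by
      simp only [eq_comm]]
    exact h1
  have hlamψ : ∀ w, lam (ψ w) = w := by
    intro w
    simp only [ψ, Fintype.linearCombination_apply, map_sum, map_smul, hlam_rel]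
    ext s
    simp [Finset.sum_apply, Pi.single_apply]
  have hπψ : ∀ w, π' (ψ w) = 0 := by
    intro w
    have : ψ w ∈ LinearMap.ker π' := by
      rw [hkerπ', ← hrange]
      exact ⟨w, rfl⟩
    exact this
  have hker_le : ∀ v, π' v = 0 → ∃ w, ψ w = v := by
    intro v hv
    have : v ∈ LinearMap.ker π' := hv
    rw [hkerπ', ← hrange] at this
    exact this
  let Θ : (ι →₀ B) →ₗ[B] Ω[B⁄R] × (σ → B) := π'.prod lam
  have hΘ : Function.Bijective Θ := by
    constructor
    · rw [← LinearMap.ker_eq_bot, LinearMap.ker_eq_bot']
      intro v hv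
      have h1 : π' v = 0 := congrArg Prod.fst hv
      have h2 : lam v = 0 := congrArg Prod.snd hv
      obtain ⟨w, rfl⟩ := hker_le v h1
      rw [hlamψ] at h2
      rw [h2, map_zero]
    · rintro ⟨ω, w⟩
      obtain ⟨v₀, hv₀⟩ := hsurj ω
      refine ⟨v₀ + ψ (w - lam v₀), ?_⟩
      show (π' (v₀ + ψ (w - lam v₀)), lam (v₀ + ψ (w - lam v₀))) = (ω, w)
      rw [map_add, map_add, hπψ, hlamψ, hv₀]
      simp
  exact ⟨(LinearEquiv.ofBijective Θ hΘ).symm.trans (Finsupp.linearEquivFunOnFinite B B ι)⟩

end Groth.Agent.Helper26.Std
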