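import Mathlib

/-! # Right inverses of matrices whose maximal minors generate the unit ideal -/

set_option autoImplicit false

namespace Groth.Agent.Helper26.Std

open Matrix

theorem exists_rightInverse_of_minors {B : Type*} [CommRing B] {c : ℕ} {ι : Type*} [Fintype ι]
    [DecidableEq ι] (M : Matrix (Fin c) ι B) (b : (Fin c → ι) → B)
    (hb : ∑ cols, b cols * (M.submatrix id cols).det = 1) :
    ∃ N : Matrix ι (Fin c) B, M * N = 1 := by
  classical
  let E : (Fin c → ι) → Matrix ι (Fin c) B := fun cols =>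
    Matrix.of fun i k => if i = cols k then 1 else 0
  have hE : ∀ cols, M * E cols = M.submatrix id cols := by
    intro cols
    ext j k
    simp [E, Matrix.mul_apply]
  refine ⟨∑ cols, b cols • (E cols * (M.submatrix id cols).adjugate), ?_⟩
  rw [Matrix.mul_sum]
  have : ∀ cols, M * (b cols • (E cols * (M.submatrix id cols).adjugate)) =
      (b cols * (M.submatrix id cols).det) • (1 : Matrix (Fin c) (Fin c) B) := by
    intro cols
    rw [Matrix.mul_smul, ← Matrix.mul_assoc, hE, Matrix.mul_adjugate, smul_smul]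
  simp only [this]
  rw [← Finset.sum_smul, hb, one_smul]

theorem exists_rightInverse_block {B : Type*} [CommRing B] {σ ι : Type*} [Fintype σ] [Fintype ι]
    [DecidableEq σ] [DecidableEq ι] (M' : Matrix (σ ⊕ Unit) (ι ⊕ Unit) B)
    (h12 : ∀ j, M' (Sum.inl j) (Sum.inr ()) = 0) (hu : IsUnit (M' (Sum.inr ()) (Sum.inr ())))
    (N : Matrix ι σ B) (hN : M'.toBlocks₁₁ * N = 1) :
    ∃ N' : Matrix (ι ⊕ Unit) (σ ⊕ Unit) B, M' * N' = 1 := by
  obtain ⟨u, hu'⟩ := hu
  set h := M' (Sum.inr ()) (Sum.inr ()) with hh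
  have hinv : h * (↑u⁻¹ : B) = 1 := by rw [← hu']; exact u.mul_inv
  set w : Matrix Unit ι B := M'.toBlocks₂₁ with hw
  have hM' : M' = Matrix.fromBlocks M'.toBlocks₁₁ 0 w (h • (1 : Matrix Unit Unit B)) := by
    conv_lhs => rw [← Matrix.fromBlocks_toBlocks M']
    congr 1
    · ext j k
      simp [Matrix.toBlocks₁₂, h12]
    · ext j k
      simp [Matrix.toBlocks₂₂, hh]
  refine ⟨Matrix.fromBlocks N 0 (-((↑u⁻¹ : B) • (w * N))) ((↑u⁻¹ : B) • (1 : Matrix Unit Unit B)), ?_⟩
  rw [hM', Matrix.fromBlocks_multiply, ← Matrix.fromBlocks_one]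
  congr 1
  · rw [hN]; simp
  · simp
  · rw [Matrix.smul_mul, Matrix.one_mul, smul_neg, smul_smul, hinv, one_smul, add_neg_cancel]
  · rw [Matrix.smul_mul, Matrix.one_mul, smul_smul, hinv, one_smul, Matrix.mul_zero, zero_add]

end Groth.Agent.Helper26.Std
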