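import Mathlib
import Groth.Prelude.Def_Smoothing
import Groth.Agent.Lib.Helper3.ElemStd

/-! # `A_a ≃ R[x, y]/(f_1..f_c, yH - 1)` (extracted from helper3's ElemStd) -/

set_option autoImplicit false

namespace Groth.Agent.Helper26.Std

open MvPolynomial Groth.Agent.Helper3.ElemStd

universe u

variable {R A : Type u} [CommRing R] [CommRing A] [Algebra R A]
variable {n c : ℕ} (f : Fin c → MvPolynomial (Fin n) R) (H : MvPolynomial (Fin n) R)
variable (hom : MvPolynomial (Fin n) R →ₐ[R] A) (surj : Function.Surjective hom)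

include surj in
theorem exists_T_equiv_away
    (hH : ∀ x ∈ RingHom.ker hom.toRingHom, H * x ∈ Ideal.span (Set.range f))
    (hf : ∀ j, hom (f j) = 0)
    (a : A) (N : ℕ) (hHa : hom H = a ^ (N + 1)) :
    ∃ e : T f H ≃ₐ[R] Localization.Away a,
      ∀ p, e (Ideal.Quotient.mk _ (rename Sum.inl p)) =
        algebraMap A (Localization.Away a) (hom p) := by
  classical
  have hker : RingHom.ker hom.toRingHom ≤ RingHom.ker (toT f H).toRingHom := by
    intro x hx
    have h1 := toT_span f H _ (hH x hx)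
    rw [map_mul] at h1
    exact (toT_H_isUnit f H).mul_right_eq_zero.mp h1
  let φ : A →ₐ[R] T f H := AlgHom.liftOfSurjective hom surj (toT f H) hker
  have hφ : ∀ p, φ (hom p) = toT f H p := fun p => AlgHom.liftOfSurjective_apply _ _ _ _ p
  have hφaN : φ a ^ (N + 1) = toT f H H := by rw [← map_pow, ← hHa, hφ]
  have hφa : IsUnit (φ a) := by
    have : IsUnit (φ a ^ (N + 1)) := hφaN ▸ toT_H_isUnit f H
    exact (isUnit_pow_iff (Nat.succ_ne_zero N)).mp this
  let Aa := Localization.Away a
  let φ' : Aa →ₐ[R] T f H := IsLocalization.liftAlgHom (M := Submonoid.powers a) (f := φ) (by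
    rintro ⟨_, k, rfl⟩
    simpa using hφa.pow k)
  have hφ' : ∀ x, φ' (algebraMap A Aa x) = φ x := fun x => by
    simp [φ', IsLocalization.liftAlgHom_apply]
  let inv : Aa := IsLocalization.Away.invSelf a
  have hinv : algebraMap A Aa a * inv = 1 := IsLocalization.Away.mul_invSelf a
  let g : MvPolynomial (Fin n ⊕ Unit) R →ₐ[R] Aa :=
    aeval (Sum.elim (fun i => algebraMap A Aa (hom (X i))) (fun _ => inv ^ (N + 1)))
  have hg : ∀ p, g (rename Sum.inl p) = algebraMap A Aa (hom p) := by
    intro p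
    have : (g.comp (rename Sum.inl)) = (IsScalarTower.toAlgHom R A Aa).comp hom := by
      apply MvPolynomial.algHom_ext
      intro i
      simp [g]
    exact AlgHom.congr_fun this p
  have hgv : ∀ x ∈ Ideal.span (Set.range (v f H)), g x = 0 := by
    intro x hx
    have : Ideal.span (Set.range (v f H)) ≤ RingHom.ker g.toRingHom := by
      rw [Ideal.span_le]
      rintro _ ⟨j | j, rfl⟩
      · show g (rename Sum.inl (f j)) = 0
        rw [hg, hf, map_zero]
      · show g (X (Sum.inr ()) * rename Sum.inl H - 1) = 0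
        rw [map_sub, map_mul, hg, hHa, map_one, map_pow]
        have : g (X (Sum.inr ())) = inv ^ (N + 1) := by simp [g]
        rw [this, ← mul_pow, mul_comm, hinv, one_pow, sub_self]
    exact this hx
  let ψ : T f H →ₐ[R] Aa := Ideal.Quotient.liftₐ _ g hgv
  have hψ : ∀ p, ψ (Ideal.Quotient.mk _ p) = g p := fun p => rfl
  have h1 : ψ.comp φ' = AlgHom.id R Aa := by
    apply IsLocalization.algHom_ext (Submonoid.powers a)
    ext x
    obtain ⟨p, rfl⟩ := surj x
    simp only [AlgHom.coe_comp, Function.comp_apply, Algebra.algHom,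
      AlgHom.coe_id, id]
    show ψ (φ' (algebraMap A Aa (hom p))) = algebraMap A Aa (hom p)
    rw [hφ', hφ, toT_apply, hψ, hg]
  have h2 : φ'.comp ψ = AlgHom.id R (T f H) := by
    apply Ideal.Quotient.algHom_ext
    apply MvPolynomial.algHom_ext
    rintro (i | u)
    · show φ' (ψ (Ideal.Quotient.mk _ (X (Sum.inl i)))) = Ideal.Quotient.mk _ (X (Sum.inl i))
      rw [hψ]
      have : g (X (Sum.inl i)) = algebraMap A Aa (hom (X i)) := by simp [g]
      rw [this, hφ', hφ, toT_apply, rename_X]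
    · show φ' (ψ (Ideal.Quotient.mk _ (X (Sum.inr u)))) = Ideal.Quotient.mk _ (X (Sum.inr u))
      rw [hψ]
      have : g (X (Sum.inr u)) = inv ^ (N + 1) := by simp [g]
      rw [this]
      have e1 : φ' (inv ^ (N + 1)) * toT f H H = 1 := by
        rw [← hφaN, ← hφ', ← map_pow, ← map_mul, ← mul_pow, mul_comm inv, hinv, one_pow, map_one]
      have e2 := mk_X_mul f H
      calc φ' (inv ^ (N + 1)) = φ' (inv ^ (N + 1)) *
            ((Ideal.Quotient.mk _ (X (Sum.inr ())) : T f H) * toT f H H) := by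
              rw [toT_apply, e2, mul_one]
        _ = (φ' (inv ^ (N + 1)) * toT f H H) * Ideal.Quotient.mk _ (X (Sum.inr ())) := by ring
        _ = _ := by rw [e1, one_mul]
  refine ⟨AlgEquiv.ofAlgHom ψ φ' h1 h2, fun p => ?_⟩
  show ψ (Ideal.Quotient.mk _ (rename Sum.inl p)) = _
  rw [hψ, hg]

/-- The determinant-trick element `H` attached to a `KillsTail` element. -/
theorem exists_H_of_killsTail (P : Smoothing.MarkedPresentation R A) (a : A)
    (hk : Smoothing.KillsTail P a) :
    ∃ (H : MvPolynomial (Fin P.n) R) (N : ℕ),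
      (∀ x ∈ RingHom.ker P.hom.toRingHom, H * x ∈
        Ideal.span (Set.range fun j : Fin P.c => P.rel (Fin.castLE P.hcm j))) ∧
      P.hom H = a ^ (N + 1) := by
  classical
  obtain ⟨at', hat⟩ := P.surj a
  set I : Ideal (MvPolynomial (Fin P.n) R) := Ideal.span (Set.range P.rel) with hI
  let f : Fin P.c → MvPolynomial (Fin P.n) R := fun j => P.rel (Fin.castLE P.hcm j)
  set J : Ideal (MvPolynomial (Fin P.n) R) := Ideal.span (Set.range f) with hJ
  have himg : P.rel '' {j' : Fin P.m | (j' : ℕ) < P.c} = Set.range f := by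
    ext x
    constructor
    · rintro ⟨j, hj, rfl⟩
      exact ⟨⟨j, hj⟩, by simp [f]⟩
    · rintro ⟨j, rfl⟩
      exact ⟨Fin.castLE P.hcm j, by simp, rfl⟩
  have hJI : J ≤ I := Ideal.span_mono (by rintro _ ⟨j, rfl⟩; exact ⟨_, rfl⟩)
  have hIfg : I.FG := ⟨(Finset.univ.image P.rel), by simp [hI]⟩
  have ht : ∀ x ∈ I, at' * x ∈ J ⊔ I ^ 2 := by
    intro x hx
    refine Submodule.span_induction (p := fun x _ => at' * x ∈ J ⊔ I ^ 2) ?_ ?_ ?_ ?_ hx
    · rintro _ ⟨j, rfl⟩
      by_cases hj : (j : ℕ) < P.c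
      · refine Ideal.mem_sup_left (Ideal.mul_mem_left _ _ (Ideal.subset_span ?_))
        exact ⟨⟨j, hj⟩, by simp [f]⟩
      · have := hk at' hat j (not_lt.mp hj)
        rwa [himg] at this
    · simp
    · intro x y _ _ h1 h2
      rw [mul_add]; exact Ideal.add_mem _ h1 h2
    · intro r x _ h1
      rw [smul_eq_mul, mul_left_comm]; exact Ideal.mul_mem_left _ _ h1
  obtain ⟨d, h, hh, hhI⟩ := exists_mul_mem I J hJI hIfg at' ht
  have hker : RingHom.ker P.hom.toRingHom = I := P.ker_eq
  have hhom : P.hom h = a ^ d := by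
    have : h - at' ^ d ∈ RingHom.ker P.hom.toRingHom := hker ▸ hh
    rw [RingHom.mem_ker] at this
    have h2 : P.hom (h - at' ^ d) = 0 := this
    rw [map_sub, map_pow, hat, sub_eq_zero] at h2
    exact h2
  refine ⟨at' * h, d, ?_, ?_⟩
  · intro x hx
    rw [hker] at hx
    rw [mul_assoc]
    exact Ideal.mul_mem_left _ _ (hhI x hx)
  · rw [map_mul, hat, hhom, pow_succ']

end Groth.Agent.Helper26.Std
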