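import Mathlib

/-! # Standard elements: a full-row-rank matrix has a nonzero maximal minor -/

set_option autoImplicit false
set_option linter.style.haveILetI false

namespace Groth.Agent.Helper26.Std

theorem exists_cols_det_ne_zero {K : Type*} [Field K] {c n : ℕ} (M : Matrix (Fin c) (Fin n) K)
    (h : LinearIndependent K M.row) :
    ∃ cols : Fin c ↪ Fin n, (M.submatrix id cols).det ≠ 0 := by
  classical
  have hrank : M.rank = c := by
    rw [h.rank_matrix, Fintype.card_fin]
  have hspan : Submodule.span K (Set.range M.col) = ⊤ := by
    apply Submodule.eq_top_of_finrank_eq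
    rw [← Matrix.rank_eq_finrank_span_cols, hrank, Module.finrank_fin_fun]
  obtain ⟨κ, a, ha, hsp, hli⟩ := exists_linearIndependent' K M.col
  rw [hspan] at hsp
  haveI : Finite κ := Finite.of_injective a ha
  letI : Fintype κ := Fintype.ofFinite κ
  let b : Module.Basis κ K (Fin c → K) := Module.Basis.mk hli hsp.ge
  have hcard : Fintype.card κ = c := by
    have := Module.finrank_eq_card_basis b
    rw [Module.finrank_fin_fun] at this
    exact this.symm
  let e : Fin c ≃ κ := (Fintype.equivFinOfCardEq hcard).symm
  refine ⟨⟨a ∘ e, ha.comp e.injective⟩, ?_⟩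
  have hcol : LinearIndependent K (M.submatrix id (a ∘ e)).col := by
    have := hli.comp e e.injective
    exact this
  have hunit := Matrix.linearIndependent_cols_iff_isUnit.mp hcol
  exact ((Matrix.isUnit_iff_isUnit_det _).mp hunit).ne_zero

end Groth.Agent.Helper26.Std
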