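import Mathlib
import Groth.Agent.Lib.Helper26.EtChart1

/-! # Standard elements: selecting minimal generators among generators over a local ring -/

set_option autoImplicit false
set_option linter.style.haveILetI false
open TensorProduct

namespace Groth.Agent.Helper26.Std

open Groth.Agent.Helper26.EtChart

variable {S : Type*} [CommRing S] [IsLocalRing S] (I : Ideal S) {m : ℕ} (h : Fin m → S)

theorem exists_minimal_subfamily (hI : I = Ideal.span (Set.range h)) :
    ∃ (c : ℕ) (rows : Fin c ↪ Fin m), I = Ideal.span (Set.range (h ∘ rows)) ∧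
      ∀ s : Fin c → S, ∑ i, s i * h (rows i) ∈ IsLocalRing.maximalIdeal S * I →
        ∀ i, s i ∈ IsLocalRing.maximalIdeal S := by
  classical
  have hmem : ∀ ℓ, h ℓ ∈ I := fun ℓ => hI ▸ Ideal.subset_span ⟨ℓ, rfl⟩
  set κ := S ⧸ IsLocalRing.maximalIdeal S with hκ
  letI : Field κ := Ideal.Quotient.field _
  set v : Fin m → κ ⊗[S] I := fun ℓ => (1 : κ) ⊗ₜ[S] (⟨h ℓ, hmem ℓ⟩ : I) with hv
  obtain ⟨κ', a, ha, hsp, hli⟩ := exists_linearIndependent' κ v
  haveI : Finite κ' := Finite.of_injective a ha
  let e := Finite.equivFin κ'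
  refine ⟨Nat.card κ', ⟨a ∘ e.symm, ha.comp e.symm.injective⟩, ?_, ?_⟩
  · -- generation by Nakayama
    apply le_antisymm
    · refine Submodule.le_of_le_smul_of_le_jacobson_bot
        (I := IsLocalRing.maximalIdeal S) ?_ ?_ ?_
      · rw [hI]; exact Submodule.fg_span (Set.finite_range _)
      · rw [IsLocalRing.jacobson_eq_maximalIdeal ⊥ bot_ne_top]
      · conv_lhs => rw [hI]
        rw [Ideal.span, Submodule.span_le]
        rintro _ ⟨ℓ, rfl⟩
        have h1 : v ℓ ∈ Submodule.span κ (Set.range (v ∘ a)) := by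
          rw [hsp]; exact Submodule.subset_span ⟨ℓ, rfl⟩
        haveI : Fintype κ' := Fintype.ofFinite κ'
        rw [Submodule.mem_span_range_iff_exists_fun] at h1
        obtain ⟨cf, hcf⟩ := h1
        choose s hs using fun k => Ideal.Quotient.mk_surjective (cf k)
        set z : I := (⟨h ℓ, hmem ℓ⟩ : I) - ∑ k, s k • (⟨h (a k), hmem (a k)⟩ : I) with hz
        have h2 : (1 : κ) ⊗ₜ[S] z = 0 := by
          rw [hz, TensorProduct.tmul_sub, TensorProduct.tmul_sum, sub_eq_zero]
          refine Eq.trans hcf.symm ?_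
          refine Finset.sum_congr rfl fun k _ => ?_
          rw [← hs k]
          exact mk_smul_one_tmul (IsLocalRing.maximalIdeal S) (s k)
            (⟨h (a k), hmem (a k)⟩ : I)
        have h3 : z ∈ IsLocalRing.maximalIdeal S • (⊤ : Submodule S I) :=
          (one_tmul_eq_zero_iff _ _).mp h2
        have h4 : (z : S) ∈ IsLocalRing.maximalIdeal S • I :=
          (Submodule.mem_smul_top_iff _ _ _).mp h3
        have h5 : h ℓ = (∑ k, s k * h (a k)) + (z : S) := by
          rw [hz]
          simp
        rw [SetLike.mem_coe, h5]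
        refine Submodule.add_mem_sup ?_ h4
        refine Submodule.sum_mem _ fun k _ => ?_
        refine Ideal.mul_mem_left _ _ (Ideal.subset_span ⟨e k, ?_⟩)
        simp
    · rw [Ideal.span_le]
      rintro _ ⟨i, rfl⟩
      exact hmem _
  · intro s hs i
    set z : I := ∑ i, s i • (⟨h (a (e.symm i)), hmem _⟩ : I) with hz
    have h1 : (z : S) ∈ IsLocalRing.maximalIdeal S • I := by
      have : (z : S) = ∑ i, s i * h (a (e.symm i)) := by
        rw [hz]; simp
      rw [this]
      exact hs
    have h2 : z ∈ IsLocalRing.maximalIdeal S • (⊤ : Submodule S I) :=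
      (Submodule.mem_smul_top_iff _ _ _).mpr h1
    have h3 : (1 : κ) ⊗ₜ[S] z = 0 := (one_tmul_eq_zero_iff _ _).mpr h2
    rw [hz, TensorProduct.tmul_sum] at h3
    have h4 : ∑ i, (Ideal.Quotient.mk (IsLocalRing.maximalIdeal S) (s i)) • (v ∘ a) (e.symm i) = 0 := by
      rw [← h3]
      refine Finset.sum_congr rfl fun i _ => ?_
      exact mk_smul_one_tmul (IsLocalRing.maximalIdeal S) (s i)
        (⟨h (a (e.symm i)), hmem _⟩ : I)
    have hli' : LinearIndependent κ ((v ∘ a) ∘ e.symm) := hli.comp _ e.symm.injective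
    have := Fintype.linearIndependent_iff.mp hli' _ h4 i
    exact Ideal.Quotient.eq_zero_iff_mem.mp this

end Groth.Agent.Helper26.Std
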