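import Mathlib
import Groth.Agent.Lib.Helper26.EtChart1

/-! # Standard elements: coordinates of differentials in the local ring of a polynomial ring -/

set_option autoImplicit false
set_option linter.style.haveILetI false
open TensorProduct

namespace Groth.Agent.Helper26.Std

open Groth.Agent.Helper26.EtChart

variable {R : Type*} [CommRing R] {n : ℕ} (𝔮 : Ideal (MvPolynomial (Fin n) R)) [𝔮.IsPrime]

/-- the basis of `Ω[P_𝔮⁄R]` given by the `d X_j`. -/
noncomputable def basisLoc :
    Module.Basis (Fin n) (Localization.AtPrime 𝔮) Ω[Localization.AtPrime 𝔮⁄R] :=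
  Module.Basis.ofIsLocalizedModule (Localization.AtPrime 𝔮) 𝔮.primeCompl
    (KaehlerDifferential.map R R (MvPolynomial (Fin n) R) (Localization.AtPrime 𝔮))
    (KaehlerDifferential.mvPolynomialBasis R (Fin n))

lemma D_algebraMap_eq_sum (f : MvPolynomial (Fin n) R) :
    KaehlerDifferential.D R (Localization.AtPrime 𝔮)
      (algebraMap (MvPolynomial (Fin n) R) (Localization.AtPrime 𝔮) f) =
    ∑ j, algebraMap (MvPolynomial (Fin n) R) (Localization.AtPrime 𝔮)
      (MvPolynomial.pderiv j f) • basisLoc 𝔮 j := by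
  have h1 : KaehlerDifferential.D R (MvPolynomial (Fin n) R) f =
      ∑ j, MvPolynomial.pderiv j f • KaehlerDifferential.mvPolynomialBasis R (Fin n) j := by
    conv_lhs => rw [← (KaehlerDifferential.mvPolynomialBasis R (Fin n)).sum_repr
      (KaehlerDifferential.D R (MvPolynomial (Fin n) R) f)]
    refine Finset.sum_congr rfl fun j _ => ?_
    rw [KaehlerDifferential.mvPolynomialBasis_repr_apply]
  rw [← KaehlerDifferential.map_D R R (MvPolynomial (Fin n) R) (Localization.AtPrime 𝔮), h1, map_sum]
  refine Finset.sum_congr rfl fun j _ => ?_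
  rw [map_smul, basisLoc, Module.Basis.ofIsLocalizedModule_apply]
  exact (algebraMap_smul (Localization.AtPrime 𝔮) (MvPolynomial.pderiv j f)
    (KaehlerDifferential.map R R (MvPolynomial (Fin n) R) (Localization.AtPrime 𝔮)
      (KaehlerDifferential.mvPolynomialBasis R (Fin n) j))).symm

/-- the Jacobian row of `f` over the residue field. -/
noncomputable def jacRow (f : MvPolynomial (Fin n) R) :
    Fin n → IsLocalRing.ResidueField (Localization.AtPrime 𝔮) :=
  fun j => IsLocalRing.residue (Localization.AtPrime 𝔮)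
    (algebraMap (MvPolynomial (Fin n) R) (Localization.AtPrime 𝔮) (MvPolynomial.pderiv j f))

lemma one_tmul_D_eq_sum (f : MvPolynomial (Fin n) R) :
    (1 : IsLocalRing.ResidueField (Localization.AtPrime 𝔮)) ⊗ₜ[Localization.AtPrime 𝔮]
      KaehlerDifferential.D R (Localization.AtPrime 𝔮)
        (algebraMap (MvPolynomial (Fin n) R) (Localization.AtPrime 𝔮) f) =
    ∑ j, jacRow 𝔮 f j • ((basisLoc 𝔮).baseChange
      (IsLocalRing.ResidueField (Localization.AtPrime 𝔮))) j := by
  rw [D_algebraMap_eq_sum, TensorProduct.tmul_sum]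
  refine Finset.sum_congr rfl fun j _ => ?_
  rw [Module.Basis.baseChange_apply, jacRow]
  exact (mk_smul_one_tmul (IsLocalRing.maximalIdeal (Localization.AtPrime 𝔮)) _ _).symm

lemma equivFun_one_tmul_D (f : MvPolynomial (Fin n) R) :
    ((basisLoc 𝔮).baseChange (IsLocalRing.ResidueField (Localization.AtPrime 𝔮))).equivFun
      ((1 : IsLocalRing.ResidueField (Localization.AtPrime 𝔮)) ⊗ₜ[Localization.AtPrime 𝔮]
        KaehlerDifferential.D R (Localization.AtPrime 𝔮)
          (algebraMap (MvPolynomial (Fin n) R) (Localization.AtPrime 𝔮) f)) = jacRow 𝔮 f := by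
  rw [one_tmul_D_eq_sum]
  funext j
  rw [Module.Basis.equivFun_apply, Module.Basis.repr_sum_self]

theorem linearIndependent_jacRow {c : ℕ} (F : Fin c → MvPolynomial (Fin n) R)
    (h : LinearIndependent (IsLocalRing.ResidueField (Localization.AtPrime 𝔮))
      (fun i => (1 : IsLocalRing.ResidueField (Localization.AtPrime 𝔮)) ⊗ₜ[Localization.AtPrime 𝔮]
        KaehlerDifferential.D R (Localization.AtPrime 𝔮)
          (algebraMap (MvPolynomial (Fin n) R) (Localization.AtPrime 𝔮) (F i)))) :
    LinearIndependent (IsLocalRing.ResidueField (Localization.AtPrime 𝔮))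
      (fun i => jacRow 𝔮 (F i)) := by
  have := h.map' ((basisLoc 𝔮).baseChange
    (IsLocalRing.ResidueField (Localization.AtPrime 𝔮))).equivFun.toLinearMap
    (LinearEquiv.ker _)
  have e : (fun i => jacRow 𝔮 (F i)) =
      (((basisLoc 𝔮).baseChange
        (IsLocalRing.ResidueField (Localization.AtPrime 𝔮))).equivFun.toLinearMap ∘ fun i =>
      (1 : IsLocalRing.ResidueField (Localization.AtPrime 𝔮)) ⊗ₜ[Localization.AtPrime 𝔮]
        KaehlerDifferential.D R (Localization.AtPrime 𝔮)
          (algebraMap (MvPolynomial (Fin n) R) (Localization.AtPrime 𝔮) (F i))) := by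
    funext i
    exact (equivFun_one_tmul_D 𝔮 (F i)).symm
  rw [e]
  exact this

end Groth.Agent.Helper26.Std
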