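import Mathlib
import Groth.Agent.Lib.Helper26.EtChart11

/-! # Standard elements: smoothness of the quotient of the local ring of the polynomial ring -/

set_option autoImplicit false
set_option linter.style.haveILetI false
open TensorProduct

namespace Groth.Agent.Helper26.Std

open Groth.Agent.Helper26.EtChart

universe u

variable {R A : Type u} [CommRing R] [CommRing A] [Algebra R A] {n : ℕ}
  (φ : MvPolynomial (Fin n) R →ₐ[R] A) (hφ : Function.Surjective φ)
  (q : Ideal A) [q.IsPrime] [Algebra.IsSmoothAt R q]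
  (𝔮 : Ideal (MvPolynomial (Fin n) R)) [𝔮.IsPrime]

include hφ in
theorem formallySmooth_quotient (h𝔮 : 𝔮 = q.comap φ) :
    Algebra.FormallySmooth R (Localization.AtPrime 𝔮 ⧸
      (RingHom.ker φ).map (algebraMap (MvPolynomial (Fin n) R) (Localization.AtPrime 𝔮))) := by
  let ε : (MvPolynomial (Fin n) R ⧸ RingHom.ker φ) ≃ₐ[R] A :=
    Ideal.quotientKerAlgEquivOfSurjective hφ
  let Q : Ideal (MvPolynomial (Fin n) R ⧸ RingHom.ker φ) := q.comap (ε : _ →+* A)
  haveI : Q.IsPrime := Ideal.comap_isPrime _ _
  have hQ : Q.comap (Ideal.Quotient.mk (RingHom.ker φ)) = 𝔮 := by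
    rw [h𝔮]
    ext x
    simp only [Q, Ideal.mem_comap]
    rfl
  have hmap : Submonoid.map ε Q.primeCompl = q.primeCompl := by
    ext y
    constructor
    · rintro ⟨x, hx, rfl⟩
      exact hx
    · intro hy
      refine ⟨ε.symm y, ?_, ε.apply_symm_apply y⟩
      show ε.symm y ∉ Q
      simp only [Q, Ideal.mem_comap]
      intro h
      apply hy
      have : (ε : _ →+* A) (ε.symm y) = y := ε.apply_symm_apply y
      rwa [this] at h
  let e : Localization.AtPrime Q ≃ₐ[R] Localization.AtPrime q :=
    IsLocalization.algEquivOfAlgEquiv (Localization.AtPrime Q) (Localization.AtPrime q) ε hmap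
  haveI : Algebra.IsSmoothAt R Q := Algebra.FormallySmooth.of_equiv e.symm
  exact formallySmooth_quotient_localization (RingHom.ker φ) 𝔮 Q hQ

end Groth.Agent.Helper26.Std
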