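import Mathlib
import Groth.Agent.Lib.Helper26.EtChart8
import Groth.Agent.Lib.Helper26.Std1
import Groth.Agent.Lib.Helper26.Std2
import Groth.Agent.Lib.Helper26.Std3
import Groth.Agent.Lib.Helper26.Std4

/-! # Standard elements at a smooth prime (S2108) -/

set_option autoImplicit false
set_option linter.style.haveILetI false
open TensorProduct

namespace Groth.Agent.Helper26.Std

open Groth.Agent.Helper26.EtChart

universe u

theorem S2108 {R A : Type u} [CommRing R] [CommRing A] [Algebra R A] {n m : ℕ}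
    (f : Fin m → MvPolynomial (Fin n) R) (φ : MvPolynomial (Fin n) R →ₐ[R] A)
    (hφ : Function.Surjective φ)
    (hker : RingHom.ker φ.toRingHom = Ideal.span (Set.range f)) (q : Ideal A) [q.IsPrime]
    [Algebra.IsSmoothAt R q] :
    ∃ a : A, a ∉ q ∧ ∃ (c : ℕ) (rows : Fin c ↪ Fin m) (cols : Fin c ↪ Fin n) (a' : A),
      a = a' * φ (Matrix.det (Matrix.of fun j k : Fin c =>
        MvPolynomial.pderiv (cols k) (f (rows j)))) ∧
      ∀ a₁ : MvPolynomial (Fin n) R, φ a₁ = a → ∀ ℓ : Fin m,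
        a₁ * f ℓ ∈ Ideal.span (Set.range (f ∘ rows)) ⊔ Ideal.span (Set.range f) ^ 2 := by
  classical
  set 𝔮 : Ideal (MvPolynomial (Fin n) R) := q.comap φ with h𝔮
  haveI : 𝔮.IsPrime := Ideal.comap_isPrime φ q
  set S := Localization.AtPrime 𝔮 with hS
  have hJ : RingHom.ker φ = Ideal.span (Set.range f) := hker
  set I' := (RingHom.ker φ).map (algebraMap (MvPolynomial (Fin n) R) S) with hI'def
  have hI' : I' = Ideal.span (Set.range
      ((algebraMap (MvPolynomial (Fin n) R) S) ∘ f)) := by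
    rw [hI'def, hJ, Ideal.map_span, ← Set.range_comp]
  haveI : Algebra.FormallySmooth R (S ⧸ I') := formallySmooth_quotient φ hφ q 𝔮 rfl
  obtain ⟨c, rows, hgen, hmin⟩ := exists_minimal_subfamily I' _ hI'
  have hJ𝔮 : RingHom.ker φ ≤ 𝔮 := by
    intro x hx
    rw [h𝔮, Ideal.mem_comap, (RingHom.mem_ker).mp hx]
    exact zero_mem _
  have hI'm : I' ≤ IsLocalRing.maximalIdeal S := by
    rw [← Localization.AtPrime.map_eq_maximalIdeal]
    exact Ideal.map_mono hJ𝔮
  have hli := linearIndependent_D_of_minimal (A := R) I'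
    (fun i => algebraMap (MvPolynomial (Fin n) R) S (f (rows i)))
    (fun i => Ideal.mem_map_of_mem _ (hJ ▸ Ideal.subset_span ⟨rows i, rfl⟩)) hI'm hmin
  have hrow := linearIndependent_jacRow 𝔮 (fun i => f (rows i)) hli
  set Mκ : Matrix (Fin c) (Fin n) (IsLocalRing.ResidueField S) :=
    Matrix.of fun i j => jacRow 𝔮 (f (rows i)) j with hMκ
  obtain ⟨cols, hdet⟩ := exists_cols_det_ne_zero Mκ hrow
  set minor : MvPolynomial (Fin n) R := Matrix.det (Matrix.of fun j k : Fin c =>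
    MvPolynomial.pderiv (cols k) (f (rows j))) with hminor
  have hminor𝔮 : minor ∉ 𝔮 := by
    intro hmem
    apply hdet
    have h1 : algebraMap (MvPolynomial (Fin n) R) S minor ∈ IsLocalRing.maximalIdeal S :=
      (IsLocalization.AtPrime.to_map_mem_maximal_iff S 𝔮 minor).mpr hmem
    have h2 : ((IsLocalRing.residue S).comp (algebraMap (MvPolynomial (Fin n) R) S)) minor = 0 := by
      rw [RingHom.comp_apply]
      exact (IsLocalRing.residue_eq_zero_iff _).mpr h1
    rw [hminor, RingHom.map_det] at h2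
    rw [← h2]
    congr 1
  have ht : ∀ ℓ : Fin m, ∃ t ∈ 𝔮.primeCompl, t * f ℓ ∈ Ideal.span (Set.range (f ∘ rows)) := by
    intro ℓ
    have h1 : algebraMap (MvPolynomial (Fin n) R) S (f ℓ) ∈
        (Ideal.span (Set.range (f ∘ rows))).map (algebraMap (MvPolynomial (Fin n) R) S) := by
      rw [Ideal.map_span, ← Set.range_comp]
      have : algebraMap (MvPolynomial (Fin n) R) S (f ℓ) ∈ I' :=
        Ideal.mem_map_of_mem _ (hJ ▸ Ideal.subset_span ⟨ℓ, rfl⟩)
      rw [hgen] at this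
      exact this
    exact (IsLocalization.algebraMap_mem_map_algebraMap_iff 𝔮.primeCompl _ _ _).mp h1
  choose t ht𝔮 htf using ht
  set T := ∏ ℓ, t ℓ with hT
  have hT𝔮 : T ∉ 𝔮 := by
    intro hmem
    obtain ⟨ℓ, -, hℓ⟩ := (Ideal.IsPrime.prod_mem_iff (hp := ‹𝔮.IsPrime›)).mp hmem
    exact ht𝔮 ℓ hℓ
  refine ⟨φ T * φ minor, ?_, c, rows, cols, φ T, rfl, ?_⟩
  · exact ‹q.IsPrime›.mul_notMem hT𝔮 hminor𝔮
  · intro a₁ ha₁ ℓ
    have h1 : a₁ - T * minor ∈ Ideal.span (Set.range f) := by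
      rw [← hJ, RingHom.mem_ker, map_sub, map_mul, ha₁, sub_self]
    have h2 : a₁ * f ℓ = (T * minor) * f ℓ + (a₁ - T * minor) * f ℓ := by ring
    rw [h2]
    refine Submodule.add_mem_sup ?_ ?_
    · have hdvd : t ℓ ∣ T := Finset.dvd_prod_of_mem t (Finset.mem_univ ℓ)
      obtain ⟨u, hu⟩ := hdvd
      have : T * minor * f ℓ = (u * minor) * (t ℓ * f ℓ) := by rw [hu]; ring
      rw [this]
      exact Ideal.mul_mem_left _ _ (htf ℓ)
    · rw [pow_two]
      exact Ideal.mul_mem_mul h1 (Ideal.subset_span ⟨ℓ, rfl⟩)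

end Groth.Agent.Helper26.Std
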