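import Mathlib
import Groth.Prelude.Def_Smoothing
import Groth.Agent.Lib.Helper26.Std5
import Groth.Agent.Lib.Helper26.Std6
import Groth.Agent.Lib.Helper3.ElemStd

/-! # The singular ideal is the radical of the standard elements (S2026) -/

set_option autoImplicit false

namespace Groth.Agent.Helper26.Std

open MvPolynomial Smoothing

universe u

variable {R A : Type u} [CommRing R] [CommRing A] [Algebra R A]

theorem isStrictlyStandard_of_isElementaryStandard (a : A) (h : IsElementaryStandard R A a) :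
    IsStrictlyStandard R A a := by
  obtain ⟨P, ⟨a', ha'⟩, hk⟩ := h
  refine ⟨P, ?_, hk⟩
  rw [ha']
  exact Ideal.mul_mem_left _ _ (Ideal.subset_span ⟨Fin.castLE P.hcn, rfl⟩)

theorem mem_smoothLocus_of_isElementaryStandard [Algebra.FinitePresentation R A] (a : A)
    (ha : IsElementaryStandard R A a) (q : PrimeSpectrum A) (hq : a ∉ q.asIdeal) :
    q ∈ Algebra.smoothLocus R A := by
  have : Algebra.IsStandardSmooth R (Localization.Away a) :=
    Groth.Agent.Helper3.ElemStd.isStandardSmooth_away_of_isElementaryStandard a ha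
  have h1 : Algebra.FormallySmooth R (Localization.Away a) := inferInstance
  exact (Algebra.basicOpen_subset_smoothLocus_iff.mpr h1) hq

theorem exists_elementary_of_strictly (a : A) (ha : IsStrictlyStandard R A a) (q : Ideal A)
    [q.IsPrime] (hq : a ∉ q) : ∃ b, b ∉ q ∧ IsElementaryStandard R A b := by
  classical
  obtain ⟨P, hspan, hk⟩ := ha
  have hex : ∃ cols : Fin P.c → Fin P.n,
      P.hom (jacobianMinor P.rel (Fin.castLE P.hcm) cols) ∉ q := by
    by_contra hne
    push Not at hne
    apply hq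
    have : Ideal.span (Set.range fun cols : Fin P.c → Fin P.n =>
        P.hom (jacobianMinor P.rel (Fin.castLE P.hcm) cols)) ≤ q := by
      rw [Ideal.span_le]
      rintro _ ⟨cols, rfl⟩
      exact hne cols
    exact this hspan
  obtain ⟨cols, hcols⟩ := hex
  have hinj : Function.Injective cols := by
    intro i j hij
    by_contra hne
    apply hcols
    have : jacobianMinor P.rel (Fin.castLE P.hcm) cols = 0 := by
      unfold jacobianMinor
      refine Matrix.det_zero_of_column_eq hne fun k => ?_
      simp only [Matrix.of_apply]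
      rw [hij]
    rw [this, map_zero]
    exact zero_mem _
  set M := jacobianMinor P.rel (Fin.castLE P.hcm) cols with hM
  refine ⟨a * P.hom M, ‹q.IsPrime›.mul_notMem hq hcols, ?_⟩
  obtain ⟨a₀, ha₀⟩ := P.surj a
  have himg : P.rel '' {j' : Fin P.m | (j' : ℕ) < P.c} =
      Set.range (P.rel ∘ (Fin.castLEEmb P.hcm)) := by
    ext x
    constructor
    · rintro ⟨j, hj, rfl⟩
      exact ⟨⟨j, hj⟩, by simp⟩
    · rintro ⟨j, rfl⟩
      exact ⟨Fin.castLE P.hcm j, by simp, rfl⟩
  refine isElementaryStandard_of_rows_cols P.rel P.hom P.surj P.ker_eq (Fin.castLEEmb P.hcm)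
    ⟨cols, hinj⟩ (a * P.hom M) a rfl ?_
  intro a₁ ha₁ ℓ
  have h1 : a₁ - a₀ * M ∈ Ideal.span (Set.range P.rel) := by
    rw [← P.ker_eq, RingHom.mem_ker]
    show P.hom (a₁ - a₀ * M) = 0
    rw [map_sub, map_mul, ha₁, ha₀, sub_self]
  have h2 : a₁ * P.rel ℓ = M * (a₀ * P.rel ℓ) + (a₁ - a₀ * M) * P.rel ℓ := by ring
  rw [h2]
  refine Ideal.add_mem _ ?_ ?_
  · refine Ideal.mul_mem_left _ _ ?_
    by_cases hℓ : (ℓ : ℕ) < P.c
    · refine Ideal.mem_sup_left (Ideal.mul_mem_left _ _ (Ideal.subset_span ?_))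
      exact ⟨⟨ℓ, hℓ⟩, by simp⟩
    · have := hk a₀ ha₀ ℓ (not_lt.mp hℓ)
      rwa [himg] at this
  · refine Ideal.mem_sup_right ?_
    rw [pow_two]
    exact Ideal.mul_mem_mul h1 (Ideal.subset_span ⟨ℓ, rfl⟩)

theorem exists_elementary_of_isSmoothAt [Algebra.FinitePresentation R A] (q : Ideal A)
    [q.IsPrime] [Algebra.IsSmoothAt R q] : ∃ b, b ∉ q ∧ IsElementaryStandard R A b := by
  obtain ⟨n, φ, hφ, hfg⟩ := Algebra.FinitePresentation.out (R := R) (A := A)
  obtain ⟨m, f, hf⟩ := Submodule.fg_iff_exists_fin_generating_family.mp hfg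
  have hker : RingHom.ker φ.toRingHom = Ideal.span (Set.range f) := hf.symm
  obtain ⟨a, haq, c, rows, cols, a', ha', hkill⟩ := S2108 f φ hφ hker q
  exact ⟨a, haq, isElementaryStandard_of_rows_cols f φ hφ hker rows cols a a' ha' hkill⟩

theorem S2026 [Algebra.FinitePresentation R A] :
    singularIdeal R A = (Ideal.span {a : A | IsStrictlyStandard R A a}).radical ∧
      singularIdeal R A = (Ideal.span {a : A | IsElementaryStandard R A a}).radical := by
  have h1 : Ideal.span {a : A | IsElementaryStandard R A a} ≤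
      Ideal.span {a : A | IsStrictlyStandard R A a} :=
    Ideal.span_mono fun a ha => isStrictlyStandard_of_isElementaryStandard a ha
  have h2 : (Ideal.span {a : A | IsStrictlyStandard R A a}).radical ≤ singularIdeal R A := by
    unfold singularIdeal
    rw [(PrimeSpectrum.isRadical_vanishingIdeal _).radical_le_iff, Ideal.span_le]
    intro a ha
    show a ∈ PrimeSpectrum.vanishingIdeal _
    rw [PrimeSpectrum.mem_vanishingIdeal]
    intro x hx
    by_contra hax
    obtain ⟨b, hb, hbe⟩ := exists_elementary_of_strictly a ha x.asIdeal hax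
    exact hx (mem_smoothLocus_of_isElementaryStandard b hbe x hb)
  have h3 : singularIdeal R A ≤ (Ideal.span {a : A | IsElementaryStandard R A a}).radical := by
    intro g hg
    rw [Ideal.radical_eq_sInf, Ideal.mem_sInf]
    rintro q ⟨hq, hqp⟩
    by_contra hgq
    have hsm : (⟨q, hqp⟩ : PrimeSpectrum A) ∈ Algebra.smoothLocus R A := by
      by_contra hns
      exact hgq ((PrimeSpectrum.mem_vanishingIdeal _ _).mp hg ⟨q, hqp⟩ hns)
    have : Algebra.IsSmoothAt R q := hsm
    obtain ⟨b, hb, hbe⟩ := exists_elementary_of_isSmoothAt (R := R) q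
    exact hb (hq (Ideal.subset_span hbe))
  exact ⟨le_antisymm (h3.trans (Ideal.radical_mono h1)) h2,
    le_antisymm h3 ((Ideal.radical_mono h1).trans h2)⟩

end Groth.Agent.Helper26.Std
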