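import Mathlib
import Groth.Prelude.Def_Smoothing
import Groth.Agent.Lib.Helper3.ElemStd
import Groth.Agent.Lib.Helper26.Std7
import Groth.Agent.Lib.Helper26.Stab1
import Groth.Agent.Lib.Helper26.Stab2
import Groth.Agent.Lib.Helper26.Stab3

/-! # Strictly standard elements: smooth localization with stably free differentials (S2030) -/

set_option autoImplicit false

namespace Groth.Agent.Helper26.Std

open MvPolynomial Groth.Agent.Helper3.ElemStd Smoothing

universe u

theorem S2030 {R A : Type u} [CommRing R] [CommRing A] [Algebra R A] (a : A)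
    (ha : Smoothing.IsStrictlyStandard R A a) :
    Algebra.Smooth R (Localization.Away a) ∧
      ∃ p q : ℕ, Nonempty ((Ω[Localization.Away a⁄R] × (Fin p → Localization.Away a))
        ≃ₗ[Localization.Away a] (Fin q → Localization.Away a)) := by
  classical
  have ha' := ha
  obtain ⟨P, hspan, hk⟩ := ha
  have : Algebra.FinitePresentation R A :=
    Algebra.FinitePresentation.of_surjective P.surj (by
      rw [P.ker_eq]
      exact ⟨Finset.univ.image P.rel, by simp⟩)
  have hsm : Algebra.Smooth R (Localization.Away a) := by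
    rw [← Algebra.basicOpen_subset_smoothLocus_iff_smooth]
    intro q hq
    obtain ⟨b, hb, hbe⟩ := exists_elementary_of_strictly a ha' q.asIdeal hq
    exact mem_smoothLocus_of_isElementaryStandard b hbe q hb
  refine ⟨hsm, ?_⟩
  obtain ⟨H, N, hH, hHa⟩ := exists_H_of_killsTail P a hk
  let f : Fin P.c → MvPolynomial (Fin P.n) R := fun j => P.rel (Fin.castLE P.hcm j)
  have hf : ∀ j, P.hom (f j) = 0 := by
    intro j
    have : f j ∈ RingHom.ker P.hom.toRingHom := by
      rw [P.ker_eq]; exact Ideal.subset_span ⟨_, rfl⟩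
    exact this
  obtain ⟨e, he⟩ := exists_T_equiv_away f H P.hom P.surj hH hf a N hHa
  let B := Localization.Away a
  let pres : Algebra.Presentation R B (Fin P.n ⊕ Unit) (Fin P.c ⊕ Unit) :=
    (Algebra.Presentation.naive (v := v f H)).ofAlgEquiv e
  let ev' : MvPolynomial (Fin P.n ⊕ Unit) R →ₐ[R] B :=
    (e : T f H →ₐ[R] B).comp (Ideal.Quotient.mkₐ R _)
  have halg : ∀ p : MvPolynomial (Fin P.n ⊕ Unit) R,
      algebraMap pres.Ring B p = e (Ideal.Quotient.mk _ p) := by
    intro p
    rw [Algebra.Generators.algebraMap_apply]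
    have h1 : ev' = aeval pres.val := MvPolynomial.aeval_unique ev'
    rw [← h1]
    rfl
  have hrel : ∀ r, pres.relation r = v f H r := fun r => rfl
  set J : Matrix (Fin P.c ⊕ Unit) (Fin P.n ⊕ Unit) B :=
    Matrix.of fun r i => algebraMap pres.Ring B (pderiv i (pres.relation r)) with hJdef
  have hJ11 : ∀ j k, J (Sum.inl j) (Sum.inl k) = algebraMap A B (P.hom (pderiv k (f j))) := by
    intro j k
    rw [hJdef, Matrix.of_apply, halg, hrel]
    show e (Ideal.Quotient.mk _ (pderiv (Sum.inl k) (rename Sum.inl (f j)))) = _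
    rw [pderiv_rename Sum.inl_injective, he]
  have hJ12 : ∀ j, J (Sum.inl j) (Sum.inr ()) = 0 := by
    intro j
    rw [hJdef, Matrix.of_apply, halg, hrel]
    show e (Ideal.Quotient.mk _ (pderiv (Sum.inr ()) (rename Sum.inl (f j)))) = _
    rw [pderiv_inr_rename_inl, map_zero, map_zero]
  have hJ22 : J (Sum.inr ()) (Sum.inr ()) = algebraMap A B (a ^ (N + 1)) := by
    rw [hJdef, Matrix.of_apply, halg, hrel]
    have : pderiv (Sum.inr ()) (v f H (Sum.inr ())) = rename Sum.inl H := by
      simp [v, pderiv_inr_rename_inl, pderiv_X]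
    rw [this, he, hHa]
  obtain ⟨b₀, hb₀⟩ := Ideal.mem_span_range_iff_exists_fun.mp hspan
  have hinv : algebraMap A B a * IsLocalization.Away.invSelf a = 1 :=
    IsLocalization.Away.mul_invSelf a
  have hminor : ∀ cols : Fin P.c → Fin P.n, (J.toBlocks₁₁.submatrix id cols).det =
      algebraMap A B (P.hom (jacobianMinor P.rel (Fin.castLE P.hcm) cols)) := by
    intro cols
    unfold jacobianMinor
    have h1 : algebraMap A B (P.hom (Matrix.det (Matrix.of fun j k : Fin P.c =>
        pderiv (cols k) (P.rel (Fin.castLE P.hcm j))))) =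
        ((algebraMap A B).comp P.hom.toRingHom) (Matrix.det (Matrix.of fun j k : Fin P.c =>
        pderiv (cols k) (P.rel (Fin.castLE P.hcm j)))) := rfl
    rw [h1, RingHom.map_det]
    congr 1
    ext j k
    simp only [Matrix.submatrix_apply, Matrix.toBlocks₁₁, Matrix.of_apply, id,
      RingHom.mapMatrix_apply, Matrix.map_apply]
    exact hJ11 j (cols k)
  obtain ⟨N₁, hN₁⟩ := exists_rightInverse_of_minors J.toBlocks₁₁
    (fun cols => algebraMap A B (b₀ cols) * IsLocalization.Away.invSelf a) (by
      simp only [hminor]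
      have : ∀ cols : Fin P.c → Fin P.n,
          algebraMap A B (b₀ cols) * IsLocalization.Away.invSelf a *
            algebraMap A B (P.hom (jacobianMinor P.rel (Fin.castLE P.hcm) cols)) =
          IsLocalization.Away.invSelf a * algebraMap A B
            (b₀ cols * P.hom (jacobianMinor P.rel (Fin.castLE P.hcm) cols)) := by
        intro cols
        rw [map_mul]; ring
      simp only [this]
      rw [← Finset.mul_sum, ← map_sum, hb₀, mul_comm, hinv])
  have hu : IsUnit (J (Sum.inr ()) (Sum.inr ())) := by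
    rw [hJ22, map_pow]
    exact (IsUnit.of_mul_eq_one _ hinv).pow _
  obtain ⟨N', hN'⟩ := exists_rightInverse_block J hJ12 hu N₁ hN₁
  obtain ⟨E⟩ := stablyFree_of_rightInverse pres N' hN'
  refine ⟨Fintype.card (Fin P.c ⊕ Unit), Fintype.card (Fin P.n ⊕ Unit), ⟨?_⟩⟩
  exact ((LinearEquiv.refl B _).prodCongr
    (LinearEquiv.funCongrLeft B B (Fintype.equivFin (Fin P.c ⊕ Unit)))).trans
    (E.trans (LinearEquiv.funCongrLeft B B (Fintype.equivFin (Fin P.n ⊕ Unit)).symm))

end Groth.Agent.Helper26.Std
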