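import Mathlib
import Groth.Agent.Lib.Helper26.KerInv
import Groth.Agent.Lib.Helper26.DualMap
import Groth.Agent.Lib.Helper26.Rk2Num
import Groth.Agent.Lib.Helper26.EndFin

/-!
# Rank two bundles on `P^n_k` without sections in the normalised twist are simple
-/

set_option autoImplicit false
set_option maxHeartbeats 400000
set_option linter.unusedSectionVars false
set_option linter.unusedVariables false
set_option linter.style.haveILetI false
universe u
open CategoryTheory CategoryTheory.Limits AlgebraicGeometry Opposite TopologicalSpace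
open Groth.Agent.Helper13.Tensor Groth.Agent.Helper13.TensorFunctor

namespace Groth.Agent.Helper26.StableSimple

variable (k : Type u) [Field k] [IsAlgClosed k] (n : ℕ)

/-- **stable rank two bundles are simple.** -/
theorem main (E : (CohB1.ProjSpace n k).Modules) (hE : FlatMod.IsFinLocFreeOfRank 2 E) (c k₀ : ℤ)
    (L : (CohB1.ProjSpace n k).Modules) (hL : ExtPow.IsExtPow 2 E L)
    (ι : L ≅ Twist.twistProjSpace n k c)
    (hk₀ : c + 2 * k₀ = 0 ∨ c + 2 * k₀ = -1)
    (h0 : Subsingleton (Coh.HH (CohB1.ProjSpace n k)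
      (CohB1.tensorMod E (Twist.twistProjSpace n k k₀)) 0))
    (φ : E ⟶ E) :
    ∃ c' : k, (SheafOfModules.toSheaf (CohB1.ProjSpace n k).ringCatSheaf).map φ =
      Coh.smulAb E (Coh.toGlobal (CohB1.ProjSpace.toSpec n k) c') := by
  haveI : IsIntegral (CohB1.ProjSpace n k) := Groth.Agent.Helper26.IntPn.isIntegral_PP n k
  have hcoh : Coh.IsCoh E := Groth.Agent.Helper26.EndFin.isCoh_of_rank E 2 hE
  -- it suffices to find a scalar `μ` with `φ = μ • 𝟙`
  suffices hmain : ∃ μ : k, φ = μ • 𝟙 E by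
    obtain ⟨μ, hμ⟩ := hmain
    refine ⟨μ, ?_⟩
    have key : ∀ (U : (CohB1.ProjSpace n k).Opens) (m : Γ(E, U)), φ.app U m =
        (show Γ(CohB1.ProjSpace n k, U) from (CohB1.ProjSpace n k).presheaf.map
          (homOfLE (le_top : U ≤ ⊤)).op (Coh.toGlobal (CohB1.ProjSpace.toSpec n k) μ)) • m := by
      intro U m
      rw [hμ, KLin.smul_app_apply]
      rfl
    ext ⟨U⟩ m
    exact (key U m).trans (Coh.smulAb_app E _ (op U) m).symm
  rcases Groth.Agent.Helper26.EndFin.exists_eigen E hcoh φ with hsub | ⟨μ, s, hs, hsφ⟩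
  · exact ⟨0, Subsingleton.elim _ _⟩
  refine ⟨μ, ?_⟩
  by_contra hne
  let ψ' : E ⟶ E := φ - μ • 𝟙 E
  have hψ' : ψ' ≠ 0 := fun h => hne (sub_eq_zero.1 h)
  have hsψ : s ≫ ψ' = 0 := by
    change s ≫ (φ - μ • 𝟙 E) = 0
    rw [Preadditive.comp_sub, Linear.comp_smul, Category.comp_id, hsφ, sub_self]
  have hinv : PicF.IsInvertible (kernel ψ') :=
    Groth.Agent.Helper26.KerInv.isInvertible_kernel k n E hE s ψ' hs hψ' hsψ
  obtain ⟨b, ⟨β⟩⟩ := Groth.Agent.Helper26.PnPic.exists_iso_twist n k (kernel ψ') hinv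
  -- the inclusion of the kernel and the factorisation of `s`
  let v : Twist.twistProjSpace n k b ⟶ E := β.inv ≫ kernel.ι ψ'
  let st : E ⟶ kernel ψ' := kernel.lift ψ' s hsψ
  have hst : st ≫ kernel.ι ψ' = s := kernel.lift_ι ψ' s hsψ
  let w : E ⟶ Twist.twistProjSpace n k b := st ≫ β.hom
  have hwv : w ≫ v = s := by
    change (st ≫ β.hom) ≫ β.inv ≫ kernel.ι ψ' = s
    rw [Category.assoc, β.hom_inv_id_assoc, hst]
  have hv : v ≠ 0 := by
    intro h
    apply hs
    rw [← hwv, h, comp_zero]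
  have hw : w ≠ 0 := by
    intro h
    apply hs
    rw [← hwv, h, zero_comp]
  have hb : b < -k₀ := Groth.Agent.Helper26.Rk2Num.lt_of_hom E 2 hE k₀ h0 b v hv
  -- the dual map
  obtain ⟨φ', hφ'⟩ := hL
  let Nb := Twist.twistProjSpace n k b
  have hNb : FlatMod.IsFinLocFreeOfRank 1 Nb := Groth.Agent.Helper26.IntPn.rank_one_twist n k b
  let D := Groth.Agent.Helper26.DualMap.Dbar E L Nb φ' hφ' w
  have hD : D ≠ 0 := fun h =>
    hw (Groth.Agent.Helper26.DualMap.eq_zero_of_Dbar_eq_zero E L Nb φ' hφ' w hE hNb h)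
  obtain ⟨ε⟩ := Groth.Agent.Helper26.SimpleRk2.nonempty_cancel k n b
  let N' := Twist.twistProjSpace n k (-b)
  haveI := Groth.Agent.Helper24.CartExt.isEquivalence_tensorRight Nb N' ε
  let D₁ : CohB1.tensorMod L N' ⟶ CohB1.tensorMod (CohB1.tensorMod E Nb) N' :=
    (tensorRight N').map D
  have hD₁ : D₁ ≠ 0 := by
    intro h
    apply hD
    apply (tensorRight N').map_injective
    rw [Functor.map_zero]
    exact h
  obtain ⟨δ⟩ := Groth.Agent.Helper26.PnTwist.twist_tensor_iso n k c (-b)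
  let κ := Groth.Agent.Helper24.CartExt.cancelIso Nb N' ε E
  let ι' : CohB1.tensorMod L N' ≅ CohB1.tensorMod (Twist.twistProjSpace n k c) N' :=
    mapIso ι (Iso.refl N')
  let σ' : Twist.twistProjSpace n k (c + -b) ⟶ E := δ.inv ≫ ι'.inv ≫ D₁ ≫ κ.hom
  have hσ' : σ' ≠ 0 := by
    intro h
    apply hD₁
    have h1 : ι'.inv ≫ D₁ ≫ κ.hom = 0 := by
      have := (Iso.inv_comp_eq δ).1 h
      rw [comp_zero] at this
      exact this
    have h2 : D₁ ≫ κ.hom = 0 := by
      have := (Iso.inv_comp_eq ι').1 h1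
      rw [comp_zero] at this
      exact this
    exact (cancel_mono κ.hom).1 (h2.trans zero_comp.symm)
  have hcb : c + -b < -k₀ := Groth.Agent.Helper26.Rk2Num.lt_of_hom E 2 hE k₀ h0 (c + -b) σ' hσ'
  omega

end Groth.Agent.Helper26.StableSimple
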