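import Mathlib
import Groth.Agent.Lib.Helper13.StalkBasis2
import Groth.Agent.Lib.Helper13.QCohStalk
import Groth.Agent.Lib.Helper28.CohSub

set_option linter.style.haveILetI false
set_option linter.unusedVariables false

open CategoryTheory CategoryTheory.Limits AlgebraicGeometry Opposite

universe u

namespace Groth.Agent.Helper26.StalkExt

open Groth.Agent.Helper13.QCoh Groth.Agent.Helper13.FinType Groth.Agent.Helper13.StalkBasis
  Groth.Agent.Helper13.LocFree Groth.Agent.Helper13.Inv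

variable {X : Scheme.{u}}

/-- kernel containment near `x` -/
theorem exists_nbhd_relations [IsLocallyNoetherian X] (F G : X.Modules) [F.IsQuasicoherent]
    [G.IsQuasicoherent] {W : X.Opens} (hW : IsAffineOpen W) {n : ℕ} (s : Fin n → Γ(G, W))
    (t : Fin n → Γ(F, W)) (x : X) (hx : x ∈ W)
    (hrel : ∀ ρ : Fin n → Γ(X, W), ∑ i, ρ i • s i = 0 →
      F.presheaf.germ W x hx (∑ i, ρ i • t i) = 0) :
    ∃ g : Γ(X, W), x ∈ X.basicOpen g ∧
      ∀ (z : X) (hz : z ∈ X.basicOpen g) (c : Fin n → X.presheaf.stalk z),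
        comb G s z (X.basicOpen_le g hz) c = 0 → comb F t z (X.basicOpen_le g hz) c = 0 := by
  classical
  let R := Γ(X, W)
  haveI : IsNoetherianRing R := IsLocallyNoetherian.component_noetherian ⟨W, hW⟩
  let Λs : (Fin n → R) →ₗ[R] Γ(G, W) := Fintype.linearCombination R s
  let Λt : (Fin n → R) →ₗ[R] Γ(F, W) := Fintype.linearCombination R t
  let Rel : Submodule R (Fin n → R) := LinearMap.ker Λs
  let Im : Submodule R Γ(F, W) := Rel.map Λt
  have hImfg : Im.FG := (IsNoetherian.noetherian Rel).map Λt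
  obtain ⟨S, hS⟩ := hImfg
  have hgerm : ∀ e ∈ Im, F.presheaf.germ W x hx e = 0 := by
    rintro _ ⟨ρ, hρ, rfl⟩
    have h1 : ∑ i, ρ i • s i = 0 := by
      have : Λs ρ = 0 := hρ
      simpa [Λs, Fintype.linearCombination_apply] using this
    have h2 := hrel ρ h1
    simpa [Λt, Fintype.linearCombination_apply] using h2
  have hsel : ∀ e : Γ(F, W), ∃ g : R, x ∈ X.basicOpen g ∧ (e ∈ Im → g • e = 0) := by
    intro e
    by_cases he : e ∈ Im
    · obtain ⟨g, hg1, hg2⟩ := exists_smul_eq_zero_of_germ_eq_zero F hW x hx e (hgerm e he)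
      exact ⟨g, hg1, fun _ => hg2⟩
    · exact ⟨1, by rw [X.mem_basicOpen _ x hx, map_one]; exact isUnit_one, fun h => absurd h he⟩
  choose gsel hgsel1 hgsel2 using hsel
  let g : R := ∏ e ∈ S, gsel e
  have hxg : x ∈ X.basicOpen g := by
    rw [X.mem_basicOpen _ x hx, map_prod]
    refine Finset.prod_induction _ IsUnit (fun _ _ => IsUnit.mul) isUnit_one ?_
    intro e _
    exact (X.mem_basicOpen _ x hx).1 (hgsel1 e)
  have hSIm : ∀ e ∈ S, e ∈ Im := fun e he => hS ▸ Submodule.subset_span he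
  have hkill : ∀ e ∈ Im, g • e = 0 := by
    intro e he
    rw [← hS] at he
    induction he using Submodule.span_induction with
    | mem e he =>
      have h1 : g = (∏ e' ∈ S.erase e, gsel e') * gsel e := (Finset.prod_erase_mul S gsel he).symm
      rw [h1, mul_smul, hgsel2 e (hSIm e he), smul_zero]
    | zero => rw [smul_zero]
    | add a b _ _ ha hb => rw [smul_add, ha, hb, add_zero]
    | smul r a _ ha => rw [smul_comm, ha, smul_zero]
  refine ⟨g, hxg, ?_⟩
  intro z hz c hc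
  have hz' : z ∈ W := X.basicOpen_le g hz
  letI := X.presheaf.algebra_section_stalk ⟨z, hz'⟩
  have hloc : IsLocalization.AtPrime (X.presheaf.stalk z) (hW.primeIdealOf ⟨z, hz'⟩).asIdeal :=
    hW.isLocalization_stalk ⟨z, hz'⟩
  have halg : ∀ r : R, algebraMap R (X.presheaf.stalk z) r = X.presheaf.germ W z hz' r := fun r => rfl
  obtain ⟨d, hd⟩ := IsLocalization.exist_integer_multiples_of_finite
    (hW.primeIdealOf ⟨z, hz'⟩).asIdeal.primeCompl c
  choose a ha using hd
  have hdu : IsUnit (X.presheaf.germ W z hz' (d : R)) := by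
    rw [← halg]
    exact IsLocalization.map_units _ d
  have ha' : ∀ i, X.presheaf.germ W z hz' (a i) = X.presheaf.germ W z hz' (d : R) * c i := by
    intro i
    rw [← halg, ha i, Algebra.smul_def]
    rfl
  -- the section Σ a_i • s_i has zero germ at z
  have h1 : G.presheaf.germ W z hz' (∑ i, a i • s i) = 0 := by
    rw [map_sum]
    have h2 : ∀ i, G.presheaf.germ W z hz' (a i • s i) =
        X.presheaf.germ W z hz' (d : R) • (c i • G.presheaf.germ W z hz' (s i)) := by
      intro i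
      rw [germ_smul, ha' i, mul_smul]
    rw [Finset.sum_congr rfl (fun i _ => h2 i), ← Finset.smul_sum]
    have : ∑ i, c i • G.presheaf.germ W z hz' (s i) = 0 := hc
    rw [this, smul_zero]
  obtain ⟨r, hr1, hr2⟩ := exists_smul_eq_zero_of_germ_eq_zero G hW z hz' _ h1
  have hρ : (fun i => r * a i) ∈ Rel := by
    change Λs (fun i => r * a i) = 0
    simp only [Λs, Fintype.linearCombination_apply]
    rw [← hr2, Finset.smul_sum]
    refine Finset.sum_congr rfl (fun i _ => ?_)
    rw [mul_smul]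
  have h3 : g • Λt (fun i => r * a i) = 0 := hkill _ ⟨_, hρ, rfl⟩
  have h4 := congrArg (F.presheaf.germ W z hz') h3
  rw [map_zero, germ_smul] at h4
  have hgu : IsUnit (X.presheaf.germ W z hz' g) := (X.mem_basicOpen g z hz').1 hz
  have hru : IsUnit (X.presheaf.germ W z hz' r) := (X.mem_basicOpen r z hz').1 hr1
  have h5 : F.presheaf.germ W z hz' (Λt (fun i => r * a i)) = 0 := by
    have := congrArg (fun m => (hgu.unit⁻¹ : (X.presheaf.stalk z)ˣ) • m) h4
    simpa [Units.smul_def, smul_smul] using this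
  have h6 : F.presheaf.germ W z hz' (Λt (fun i => r * a i)) =
      (X.presheaf.germ W z hz' r * X.presheaf.germ W z hz' (d : R)) • comb F t z hz' c := by
    simp only [Λt, Fintype.linearCombination_apply]
    rw [map_sum]
    unfold comb
    rw [Finset.smul_sum]
    refine Finset.sum_congr rfl (fun i _ => ?_)
    rw [germ_smul, map_mul, ha' i, smul_smul, mul_assoc]
  rw [h6] at h5
  have hu : IsUnit (X.presheaf.germ W z hz' r * X.presheaf.germ W z hz' (d : R)) := hru.mul hdu
  have := congrArg (fun m => (hu.unit⁻¹ : (X.presheaf.stalk z)ˣ) • m) h5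
  simpa [Units.smul_def, smul_smul] using this

lemma stalkMap_zero' {M N : X.Modules} (y : X) (m : M.presheaf.stalk y) :
    stalkMap (0 : M ⟶ N) y m = 0 := by
  obtain ⟨V, hyV, t, rfl⟩ := TopCat.Presheaf.exists_germ_eq M.presheaf m
  rw [stalkMap_germ]
  exact map_zero _

lemma stalkMap_comp' {M N P : X.Modules} (φ : M ⟶ N) (ψ : N ⟶ P) (y : X) (m : M.presheaf.stalk y) :
    stalkMap (φ ≫ ψ) y m = stalkMap ψ y (stalkMap φ y m) := by
  obtain ⟨V, hyV, t, rfl⟩ := TopCat.Presheaf.exists_germ_eq M.presheaf m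
  rw [stalkMap_germ, stalkMap_germ, stalkMap_germ]
  rfl

/-- descending a morphism from a free module along generators, given stalkwise containment of
relations -/
theorem exists_desc {Y : Scheme.{u}} (G' F' : Y.Modules) {n : ℕ} (s' : Fin n → Γ(G', ⊤))
    (t' : Fin n → Γ(F', ⊤)) (hgen : GenOn G' ⊤ s')
    (hker : ∀ (y : Y) (c : Fin n → Y.presheaf.stalk y),
      comb G' s' y trivial c = 0 → comb F' t' y trivial c = 0) :
    ∃ φ : G' ⟶ F', descSec G' s' ≫ φ = descSec F' t' := by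
  have hsurj : ∀ y : Y, Function.Surjective (stalkMap (descSec G' s') y) := by
    intro y m
    have hm : m ∈ Submodule.span (Y.presheaf.stalk y)
        (Set.range fun i => G'.presheaf.germ ⊤ y trivial (s' i)) := by
      rw [hgen y trivial]; trivial
    obtain ⟨c, hc⟩ := (Submodule.mem_span_range_iff_exists_fun _).1 hm
    obtain ⟨V, hyV, γ, hγ⟩ := exists_common_germ_ring y c
    refine ⟨(FlatMod.freeMod Y n).presheaf.germ V y hyV (secOfCoord n V γ), ?_⟩
    rw [stalkMap_descSec_germ]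
    unfold comb
    simp only [hγ]
    exact hc
  haveI : Epi (descSec G' s') := epi_of_stalkMap_surjective _ hsurj
  have hzero : kernel.ι (descSec G' s') ≫ descSec F' t' = 0 := by
    apply hom_ext_stalk
    intro y k
    rw [stalkMap_zero', stalkMap_comp']
    have h0 : stalkMap (descSec G' s') y (stalkMap (kernel.ι (descSec G' s')) y k) = 0 := by
      rw [← stalkMap_comp', kernel.condition, stalkMap_zero']
    generalize stalkMap (kernel.ι (descSec G' s')) y k = a at h0 ⊢
    obtain ⟨V, hyV, b, rfl⟩ := TopCat.Presheaf.exists_germ_eq (FlatMod.freeMod Y n).presheaf a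
    obtain ⟨γ, rfl⟩ := (secEquiv n V).surjective b
    change stalkMap _ y ((FlatMod.freeMod Y n).presheaf.germ V y hyV (secOfCoord n V γ)) = 0 at h0
    rw [stalkMap_descSec_germ] at h0
    change stalkMap _ y ((FlatMod.freeMod Y n).presheaf.germ V y hyV (secOfCoord n V γ)) = 0
    rw [stalkMap_descSec_germ]
    exact hker y _ h0
  exact ⟨Abelian.epiDesc (descSec G' s') (descSec F' t') hzero, Abelian.comp_epiDesc _ _ _⟩

/-- transfer to the restriction to an open subscheme -/
theorem exists_desc_restrict (F G : X.Modules) (U : X.Opens) {n : ℕ}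
    (s₀ : Fin n → Γ(G, U.ι ''ᵁ ⊤)) (t₀ : Fin n → Γ(F, U.ι ''ᵁ ⊤))
    (hgen : GenOn G (U.ι ''ᵁ ⊤) s₀)
    (hker : ∀ (z : X) (hz : z ∈ U.ι ''ᵁ ⊤) (c : Fin n → X.presheaf.stalk z),
      comb G s₀ z hz c = 0 → comb F t₀ z hz c = 0) :
    ∃ φ : G.restrict U.ι ⟶ F.restrict U.ι,
      descSec (G.restrict U.ι) (fun i => toRes U.ι G (s₀ i)) ≫ φ =
        descSec (F.restrict U.ι) (fun i => toRes U.ι F (t₀ i)) := by
  apply exists_desc
  · exact GenOn.of_locGenOn (LocGenOn.restrict U.ι G ⊤ _ (LocGenOn.of_genOn hgen))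
  · intro y c' hc'
    have hσ : Function.Bijective (U.ι.stalkMap y) :=
      (ConcreteCategory.isIso_iff_bijective _).1 inferInstance
    choose c hc using fun i => hσ.2 (c' i)
    have e1 : c' = fun i => U.ι.stalkMap y (c i) := by
      funext i; exact (hc i).symm
    rw [e1] at hc' ⊢
    have h1 := comb_restrict U.ι G (U := ⊤) s₀ y trivial c
    rw [hc', map_zero] at h1
    have h2 := hker _ _ c h1.symm
    have h3 := comb_restrict U.ι F (U := ⊤) t₀ y trivial c
    rw [h2] at h3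
    exact (τ U.ι F y).injective (h3.trans (map_zero _).symm)

/-- the stalk of a morphism obtained by descent is determined on generators -/
theorem stalk_eq_of_desc (F G : X.Modules) (U : X.Opens) {n : ℕ}
    (s₀ : Fin n → Γ(G, U.ι ''ᵁ ⊤)) (t₀ : Fin n → Γ(F, U.ι ''ᵁ ⊤))
    (hgen : GenOn G (U.ι ''ᵁ ⊤) s₀)
    (φ : G.restrict U.ι ⟶ F.restrict U.ι)
    (hφ : descSec (G.restrict U.ι) (fun i => toRes U.ι G (s₀ i)) ≫ φ =
        descSec (F.restrict U.ι) (fun i => toRes U.ι F (t₀ i)))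
    (y : (U : Scheme.{u}))
    (ψ : ↑(G.presheaf.stalk (U.ι y)) →ₗ[X.presheaf.stalk (U.ι y)] ↑(F.presheaf.stalk (U.ι y)))
    (hψ : ∀ i, F.presheaf.germ (U.ι ''ᵁ ⊤) (U.ι y) ⟨y, trivial, rfl⟩ (t₀ i) =
      ψ (G.presheaf.germ (U.ι ''ᵁ ⊤) (U.ι y) ⟨y, trivial, rfl⟩ (s₀ i)))
    (m' : (G.restrict U.ι).presheaf.stalk y) :
    τ U.ι F y (stalkMap φ y m') = ψ (τ U.ι G y m') := by
  have hgen' : GenOn (G.restrict U.ι) ⊤ (fun i => toRes U.ι G (s₀ i)) :=
    GenOn.of_locGenOn (LocGenOn.restrict U.ι G ⊤ _ (LocGenOn.of_genOn hgen))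
  have hm : m' ∈ Submodule.span ((U : Scheme.{u}).presheaf.stalk y)
      (Set.range fun i => (G.restrict U.ι).presheaf.germ ⊤ y trivial (toRes U.ι G (s₀ i))) := by
    rw [hgen' y trivial]; trivial
  obtain ⟨c', hc'⟩ := (Submodule.mem_span_range_iff_exists_fun _).1 hm
  have hm' : m' = comb (G.restrict U.ι) (fun i => toRes U.ι G (s₀ i)) y trivial c' := hc'.symm
  -- stalk of φ on combinations
  have h1 : stalkMap φ y (comb (G.restrict U.ι) (fun i => toRes U.ι G (s₀ i)) y trivial c') =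
      comb (F.restrict U.ι) (fun i => toRes U.ι F (t₀ i)) y trivial c' := by
    obtain ⟨V, hyV, γ, hγ⟩ := exists_common_germ_ring y c'
    have e : c' = fun i => (U : Scheme.{u}).presheaf.germ V y hyV (γ i) := by
      funext i; exact (hγ i).symm
    rw [e, ← stalkMap_descSec_germ, ← stalkMap_descSec_germ, ← stalkMap_comp', hφ]
  have hσ : Function.Bijective (U.ι.stalkMap y) :=
    (ConcreteCategory.isIso_iff_bijective _).1 inferInstance
  choose c hc using fun i => hσ.2 (c' i)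
  have e1 : c' = fun i => U.ι.stalkMap y (c i) := by
    funext i; exact (hc i).symm
  rw [hm', h1, e1, comb_restrict U.ι F (U := ⊤) t₀ y trivial c,
    comb_restrict U.ι G (U := ⊤) s₀ y trivial c]
  unfold comb
  rw [map_sum]
  refine Finset.sum_congr rfl (fun i _ => ?_)
  rw [map_smul, hψ i]

/-- generators near `x` together with representatives of the images under `ψ` -/
theorem exists_data (F G : X.Modules)
    [SheafOfModules.IsFiniteType (R := X.ringCatSheaf) G] (x : X)
    (ψ : ↑(G.presheaf.stalk x) →ₗ[X.presheaf.stalk x] ↑(F.presheaf.stalk x)) :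
    ∃ (W : X.Opens) (_ : IsAffineOpen W) (hx : x ∈ W) (n : ℕ) (s : Fin n → Γ(G, W))
      (t : Fin n → Γ(F, W)), GenOn G W s ∧
        ∀ i, F.presheaf.germ W x hx (t i) = ψ (G.presheaf.germ W x hx (s i)) := by
  obtain ⟨U, hxU, I, hfin, σ, hσ⟩ := exists_genOn_of_isFiniteType G x
  obtain ⟨n, ⟨e⟩⟩ := Finite.exists_equiv_fin I
  let s₁ : Fin n → Γ(G, U) := fun i => σ (e.symm i)
  have hs₁ : GenOn G U s₁ := by
    intro y hy
    have := hσ y hy
    rw [← this]
    congr 1
    ext m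
    constructor
    · rintro ⟨i, rfl⟩; exact ⟨e.symm i, rfl⟩
    · rintro ⟨j, rfl⟩; exact ⟨e j, by simp [s₁]⟩
  obtain ⟨V, hxV, t₁, ht₁⟩ := exists_common_germ F x (fun i => ψ (G.presheaf.germ U x hxU (s₁ i)))
  obtain ⟨W', ⟨W, hW, rfl⟩, hxW, hWUV⟩ := X.isBasis_affineOpens.exists_subset_of_mem_open
    (show x ∈ ((U ⊓ V : X.Opens) : Set X) from ⟨hxU, hxV⟩) (U ⊓ V).2
  have hWU : W ≤ U := fun z hz => (hWUV hz).1
  have hWV : W ≤ V := fun z hz => (hWUV hz).2
  refine ⟨W, hW, hxW, n, resFam G s₁ hWU, fun i => F.presheaf.map (homOfLE hWV).op (t₁ i),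
    hs₁.mono hWU, ?_⟩
  intro i
  rw [TopCat.Presheaf.germ_res_apply, ht₁ i]
  congr 1
  exact (TopCat.Presheaf.germ_res_apply G.presheaf (homOfLE hWU) x hxW (s₁ i)).symm

theorem main_aux [IsLocallyNoetherian X] (F G : X.Modules) [F.IsQuasicoherent]
    [G.IsQuasicoherent] [SheafOfModules.IsFiniteType (R := X.ringCatSheaf) G] (x : X)
    (ψ : ↑(G.presheaf.stalk x) →ₗ[X.presheaf.stalk x] ↑(F.presheaf.stalk x)) :
    ∃ (U : X.Opens) (hx : x ∈ U) (φ : G.restrict U.ι ⟶ F.restrict U.ι),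
      ∀ m' : (G.restrict U.ι).presheaf.stalk (⟨x, hx⟩ : (U : Scheme.{u})),
        τ U.ι F (⟨x, hx⟩ : (U : Scheme.{u})) (stalkMap φ (⟨x, hx⟩ : (U : Scheme.{u})) m') =
          ψ (τ U.ι G (⟨x, hx⟩ : (U : Scheme.{u})) m') := by
  obtain ⟨W, hW, hxW, n, s, t, hgen, hψ⟩ := exists_data F G x ψ
  have hrel : ∀ ρ : Fin n → Γ(X, W), ∑ i, ρ i • s i = 0 →
      F.presheaf.germ W x hxW (∑ i, ρ i • t i) = 0 := by
    intro ρ hρ
    have h1 : F.presheaf.germ W x hxW (∑ i, ρ i • t i) =
        ψ (G.presheaf.germ W x hxW (∑ i, ρ i • s i)) := by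
      rw [map_sum, map_sum, map_sum]
      refine Finset.sum_congr rfl (fun i _ => ?_)
      rw [germ_smul, germ_smul, map_smul, hψ i]
    rw [h1, hρ, map_zero, map_zero]
  obtain ⟨g, hxg, hker⟩ := exists_nbhd_relations F G hW s t x hxW hrel
  let U : X.Opens := X.basicOpen g
  have hle : U.ι ''ᵁ ⊤ ≤ W := by
    rw [ι_image_top]
    exact X.basicOpen_le g
  have hgen₀ : GenOn G (U.ι ''ᵁ ⊤) (resFam G s hle) := hgen.mono hle
  have hker₀ : ∀ (z : X) (hz : z ∈ U.ι ''ᵁ ⊤) (c : Fin n → X.presheaf.stalk z),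
      comb G (resFam G s hle) z hz c = 0 → comb F (resFam F t hle) z hz c = 0 := by
    intro z hz c hc
    have hzU : z ∈ X.basicOpen g := by
      have := hz
      rw [ι_image_top] at this
      exact this
    have e1 : comb G (resFam G s hle) z hz = comb G s z (hle hz) := comb_res G (homOfLE hle) s z hz
    have e2 : comb F (resFam F t hle) z hz = comb F t z (hle hz) := comb_res F (homOfLE hle) t z hz
    rw [e1] at hc
    rw [e2]
    exact hker z hzU c hc
  obtain ⟨φ, hφ⟩ := exists_desc_restrict F G U (resFam G s hle) (resFam F t hle) hgen₀ hker₀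
  refine ⟨U, hxg, φ, ?_⟩
  intro m'
  refine stalk_eq_of_desc F G U (resFam G s hle) (resFam F t hle) hgen₀ φ hφ
    (⟨x, hxg⟩ : (U : Scheme.{u})) ψ ?_ m'
  intro i
  have e1 := TopCat.Presheaf.germ_res_apply F.presheaf (homOfLE hle) x ⟨⟨x, hxg⟩, trivial, rfl⟩ (t i)
  have e2 := TopCat.Presheaf.germ_res_apply G.presheaf (homOfLE hle) x ⟨⟨x, hxg⟩, trivial, rfl⟩ (s i)
  exact e1.trans ((hψ i).trans (congrArg ψ e2.symm))

theorem main (X : Scheme.{u}) [IsLocallyNoetherian X]
    (F G : X.Modules) (hF : Coh.IsCoh F) (hG : Coh.IsCoh G) (x : X)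
    (ψ : ↑(G.presheaf.stalk x) →ₗ[X.presheaf.stalk x] ↑(F.presheaf.stalk x)) :
    ∃ (U : X.Opens) (hx : x ∈ U)
      (φ : (Scheme.Modules.restrictFunctor U.ι).obj G ⟶ (Scheme.Modules.restrictFunctor U.ι).obj F),
      (Scheme.Modules.restrictStalkNatIso U.ι (⟨x, hx⟩ : U)).inv.app G ≫
          (TopCat.Presheaf.stalkFunctor _ (⟨x, hx⟩ : U)).map φ.mapPresheaf ≫
            (Scheme.Modules.restrictStalkNatIso U.ι (⟨x, hx⟩ : U)).hom.app F =
        AddCommGrpCat.ofHom ψ.toAddMonoidHom := by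
  haveI : F.IsQuasicoherent := hF.1
  haveI : G.IsQuasicoherent := hG.1
  haveI : SheafOfModules.IsFiniteType (R := X.ringCatSheaf) G := hG.2
  obtain ⟨U, hx, φ, hφ⟩ := main_aux F G x ψ
  refine ⟨U, hx, φ, ?_⟩
  refine (Iso.inv_comp_eq ((Scheme.Modules.restrictStalkNatIso U.ι (⟨x, hx⟩ : U)).app G)).2 ?_
  ext m'
  exact hφ m'

end Groth.Agent.Helper26.StalkExt
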