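import Mathlib
import Groth.Agent.Lib.Helper26.PHStd

/-!
# Étale local algebras with trivial residue extension are trivial modulo a principal ideal (helper26)
-/

set_option autoImplicit false
set_option linter.unusedSectionVars false
set_option linter.style.haveILetI false

namespace Groth.Agent.Helper26.StdEtLocal

universe u
open IsLocalRing Polynomial Algebra

section core

variable {R S T' : Type u} [CommRing R] [IsLocalRing R] [CommRing S] [IsLocalRing S] [Algebra R S]
  [IsLocalHom (algebraMap R S)] [CommRing T'] [Algebra R T']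

theorem aeval_sub_mem (I : Ideal S) (ξ : S) (x₀ : R) (h : ξ - algebraMap R S x₀ ∈ I) (p : R[X]) :
    aeval ξ p - algebraMap R S (p.eval x₀) ∈ I := by
  have h1 : aeval ξ p = (p.map (algebraMap R S)).eval ξ := by
    rw [Polynomial.eval_map, Polynomial.aeval_def]
  have h2 : algebraMap R S (p.eval x₀) = (p.map (algebraMap R S)).eval (algebraMap R S x₀) := by
    rw [Polynomial.eval_map, Polynomial.eval₂_at_apply]
  rw [h1, h2]
  obtain ⟨c, hc⟩ := Polynomial.sub_dvd_eval_sub ξ (algebraMap R S x₀) (p.map (algebraMap R S))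
  rw [hc]
  exact Ideal.mul_mem_right _ _ h

theorem isUnit_of_isUnit_add_mem {a b : S} (ha : IsUnit a) (hab : a - b ∈ maximalIdeal S) :
    IsUnit b := by
  by_contra hb
  have hb' : b ∈ maximalIdeal S := (IsLocalRing.mem_maximalIdeal b).2 hb
  have : a ∈ maximalIdeal S := by
    have h : a = (a - b) + b := by ring
    rw [h]
    exact Ideal.add_mem _ hab hb'
  exact (IsLocalRing.mem_maximalIdeal a).1 this ha

theorem isUnit_eval (ξ : S) (x₀ : R) (h : ξ - algebraMap R S x₀ ∈ maximalIdeal S) (p : R[X])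
    (hp : IsUnit (aeval ξ p)) : IsUnit (p.eval x₀) := by
  have h1 := aeval_sub_mem (maximalIdeal S) ξ x₀ h p
  have h2 : IsUnit (algebraMap R S (p.eval x₀)) := isUnit_of_isUnit_add_mem hp h1
  exact isUnit_of_map_unit (algebraMap R S) _ h2

theorem core (hres : ∀ s : S, ∃ r : R, s - algebraMap R S r ∈ maximalIdeal S)
    (P : StandardEtalePresentation R T') (ψ : T' →ₐ[R] S) :
    ∃ t ∈ maximalIdeal R, ∀ y : T', ∃ r : R,
      ψ y - algebraMap R S r ∈ (Ideal.span {t}).map (algebraMap R S) := by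
  obtain ⟨x₀, hx₀⟩ := hres (ψ P.x)
  have hmap := P.hasMap.map ψ
  set ξ := ψ P.x with hξ
  let t := P.f.eval x₀
  have ht : t ∈ maximalIdeal R := by
    rw [IsLocalRing.mem_maximalIdeal, mem_nonunits_iff]
    intro hu
    have h1 := aeval_sub_mem (maximalIdeal S) ξ x₀ hx₀ P.f
    rw [hmap.1, zero_sub] at h1
    have h2 : algebraMap R S t ∈ maximalIdeal S := by
      have := neg_mem h1
      rwa [neg_neg] at this
    exact (IsLocalRing.mem_maximalIdeal _).1 h2 (hu.map _)
  have hu : IsUnit (P.f.derivative.eval x₀) := isUnit_eval ξ x₀ hx₀ _ hmap.isUnit_derivative_f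
  obtain ⟨v, hv⟩ := (isUnit_eval ξ x₀ hx₀ _ hmap.2).exists_left_inv
  -- the key congruence modulo `t`
  let J : Ideal S := (Ideal.span {t}).map (algebraMap R S)
  have hJ : J = Ideal.span {algebraMap R S t} := by
    change (Ideal.span {t}).map (algebraMap R S) = _
    rw [Ideal.map_span, Set.image_singleton]
  have hJm : J ≤ maximalIdeal S := by
    rw [hJ, Ideal.span_le, Set.singleton_subset_iff]
    change algebraMap R S t ∈ maximalIdeal S
    rw [IsLocalRing.mem_maximalIdeal, mem_nonunits_iff]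
    intro h
    exact (IsLocalRing.mem_maximalIdeal _).1 ht (isUnit_of_map_unit (algebraMap R S) _ h)
  have hkey : ξ - algebraMap R S x₀ ∈ J := by
    have h1 := congrArg (aeval ξ) (PH.f_eq P.f x₀)
    rw [hmap.1, map_add, map_mul, map_sub, aeval_X, aeval_C, aeval_C] at h1
    have h2 : IsUnit (aeval ξ (PH.hquot P.f x₀)) := by
      have h3 := aeval_sub_mem (maximalIdeal S) ξ x₀ hx₀ (PH.hquot P.f x₀)
      rw [PH.hquot_eval] at h3
      have h4 : IsUnit (algebraMap R S (P.f.derivative.eval x₀)) := hu.map _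
      have h5 : algebraMap R S (P.f.derivative.eval x₀) - aeval ξ (PH.hquot P.f x₀) ∈
          maximalIdeal S := by
        have := neg_mem h3
        rwa [neg_sub] at this
      exact isUnit_of_isUnit_add_mem h4 h5
    obtain ⟨w, hw⟩ := h2.exists_right_inv
    have h6 : ξ - algebraMap R S x₀ = -(algebraMap R S t) * w := by
      have h7 : (ξ - algebraMap R S x₀) * aeval ξ (PH.hquot P.f x₀) = -(algebraMap R S t) := by
        linear_combination -h1
      calc ξ - algebraMap R S x₀
          = (ξ - algebraMap R S x₀) * (aeval ξ (PH.hquot P.f x₀) * w) := by rw [hw, mul_one]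
        _ = -(algebraMap R S t) * w := by rw [← mul_assoc, h7]
    rw [h6, hJ]
    exact Ideal.mul_mem_right _ _ (neg_mem (Ideal.subset_span rfl))
  refine ⟨t, ht, ?_⟩
  intro y
  obtain ⟨p, k, hpk⟩ := P.exists_mul_aeval_x_g_pow_eq_aeval_x y
  have h1 : ψ y * (aeval ξ P.g) ^ k = aeval ξ p := by
    have := congrArg ψ hpk
    rw [map_mul, map_pow, ← Polynomial.aeval_algHom_apply, ← Polynomial.aeval_algHom_apply] at this
    exact this
  have h2 : aeval ξ p - algebraMap R S (p.eval x₀) ∈ J := aeval_sub_mem J ξ x₀ hkey p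
  have h3 : aeval ξ P.g - algebraMap R S (P.g.eval x₀) ∈ J := aeval_sub_mem J ξ x₀ hkey P.g
  have h4 : (aeval ξ P.g) ^ k - (algebraMap R S (P.g.eval x₀)) ^ k ∈ J := by
    obtain ⟨c, hc⟩ := sub_dvd_pow_sub_pow (aeval ξ P.g) (algebraMap R S (P.g.eval x₀)) k
    rw [hc]
    exact Ideal.mul_mem_right _ _ h3
  refine ⟨p.eval x₀ * v ^ k, ?_⟩
  have h5 : algebraMap R S v ^ k * algebraMap R S (P.g.eval x₀) ^ k = 1 := by
    rw [← mul_pow, ← map_mul, hv, map_one, one_pow]
  have h6 : ψ y - algebraMap R S (p.eval x₀ * v ^ k) =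
      algebraMap R S v ^ k * ((aeval ξ p - algebraMap R S (p.eval x₀)) -
        ψ y * ((aeval ξ P.g) ^ k - (algebraMap R S (P.g.eval x₀)) ^ k)) := by
    rw [map_mul, map_pow]
    linear_combination (algebraMap R S v ^ k) * h1 - ψ y * h5
  rw [h6]
  exact Ideal.mul_mem_left _ _ (Ideal.sub_mem _ h2 (Ideal.mul_mem_left _ _ h4))

end core

end Groth.Agent.Helper26.StdEtLocal
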