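import Mathlib
import Groth.Agent.Lib.Helper26.StdEtLocal1
import Groth.Agent.Lib.Helper26.PHNbhd

/-!
# Étale local algebras with trivial residue extension: the principal ideal (helper26)
-/

set_option autoImplicit false
set_option linter.unusedSectionVars false
set_option linter.style.haveILetI false

namespace Groth.Agent.Helper26.StdEtLocal

universe u
open IsLocalRing Polynomial Algebra

variable (R : Type u) [CommRing R] [IsLocalRing R] (T : Type u) [CommRing T] [Algebra R T]
    [Algebra.Etale R T] (q : Ideal T) [q.IsPrime] (S : Type u) [CommRing S] [IsLocalRing S]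
    [Algebra T S] [IsLocalization.AtPrime S q] [Algebra R S] [IsScalarTower R T S]
    [IsLocalHom (algebraMap R S)]

include q in
theorem faithfullyFlat : Module.FaithfullyFlat R S := by
  haveI : Module.Flat T S := IsLocalization.flat S q.primeCompl
  haveI : Module.Flat R T := inferInstance
  haveI : Module.Flat R S := Module.Flat.trans R T S
  exact Module.FaithfullyFlat.of_flat_of_isLocalHom

include q in
/-- congruence modulo a principal ideal generated by an element of the maximal ideal -/
theorem exists_t (hres : Function.Surjective (IsLocalRing.ResidueField.map (algebraMap R S))) :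
    ∃ t ∈ maximalIdeal R, ∀ s : S, ∃ r : R,
      s - algebraMap R S r ∈ (Ideal.span {t}).map (algebraMap R S) := by
  have hres' : ∀ s : S, ∃ r : R, s - algebraMap R S r ∈ maximalIdeal S := by
    intro s
    obtain ⟨rbar, hr⟩ := hres (residue S s)
    obtain ⟨r, rfl⟩ := residue_surjective rbar
    refine ⟨r, ?_⟩
    rw [← residue_eq_zero_iff, map_sub, sub_eq_zero, ← hr]
    rfl
  haveI : Algebra.IsEtaleAt R q := inferInstance
  obtain ⟨g₀, hg₀, hstd⟩ := Algebra.IsEtaleAt.exists_isStandardEtale (R := R) q
  let T' := Localization.Away g₀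
  obtain ⟨P⟩ := hstd.nonempty_standardEtalePresentation
  have hunits : ∀ y : Submonoid.powers g₀, IsUnit ((IsScalarTower.toAlgHom R T S) y) := by
    rintro ⟨_, n, rfl⟩
    change IsUnit (algebraMap T S (g₀ ^ n))
    rw [map_pow]
    exact (IsLocalization.map_units S (⟨g₀, hg₀⟩ : q.primeCompl)).pow n
  let ψ : T' →ₐ[R] S := IsLocalization.liftAlgHom (M := Submonoid.powers g₀)
    (f := IsScalarTower.toAlgHom R T S) hunits
  have hψ : ∀ y : T, ψ (algebraMap T T' y) = algebraMap T S y :=
    fun y => IsLocalization.lift_eq hunits y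
  obtain ⟨t, ht, H⟩ := core hres' P ψ
  refine ⟨t, ht, ?_⟩
  set J : Ideal S := (Ideal.span {t}).map (algebraMap R S) with hJdef
  have hJ : J = Ideal.span {algebraMap R S t} := by
    rw [hJdef, Ideal.map_span, Set.image_singleton]
  have hJm : J ≤ maximalIdeal S := by
    rw [hJ, Ideal.span_le, Set.singleton_subset_iff]
    change algebraMap R S t ∈ maximalIdeal S
    rw [IsLocalRing.mem_maximalIdeal, mem_nonunits_iff]
    intro h
    exact (IsLocalRing.mem_maximalIdeal _).1 ht (isUnit_of_map_unit (algebraMap R S) _ h)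
  intro s
  obtain ⟨y, w, rfl⟩ := IsLocalization.exists_mk'_eq q.primeCompl s
  obtain ⟨r₁, hr₁⟩ := H (algebraMap T T' y)
  obtain ⟨r₂, hr₂⟩ := H (algebraMap T T' (w : T))
  rw [hψ] at hr₁ hr₂
  have hwu : IsUnit (algebraMap T S (w : T)) := IsLocalization.map_units S w
  have hr₂u : IsUnit r₂ := by
    have h1 : IsUnit (algebraMap R S r₂) := isUnit_of_isUnit_add_mem hwu (hJm hr₂)
    exact isUnit_of_map_unit (algebraMap R S) _ h1
  obtain ⟨r₃, hr₃⟩ := hr₂u.exists_left_inv
  refine ⟨r₁ * r₃, ?_⟩
  have hspec : IsLocalization.mk' S y w * algebraMap T S (w : T) = algebraMap T S y :=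
    IsLocalization.mk'_spec S y w
  have h5 : algebraMap R S r₃ * algebraMap R S r₂ = 1 := by
    rw [← map_mul, hr₃, map_one]
  have h6 : IsLocalization.mk' S y w - algebraMap R S (r₁ * r₃) =
      algebraMap R S r₃ * ((algebraMap T S y - algebraMap R S r₁) -
        IsLocalization.mk' S y w * (algebraMap T S (w : T) - algebraMap R S r₂)) := by
    rw [map_mul]
    linear_combination (algebraMap R S r₃) * hspec - IsLocalization.mk' S y w * h5
  rw [h6]
  exact Ideal.mul_mem_left _ _ (Ideal.sub_mem _ hr₁ (Ideal.mul_mem_left _ _ hr₂))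

include q in
/-- the final statement: `R ⧸ t ^ n → S ⧸ t ^ n S` is bijective for all `n ≥ 1` -/
theorem exists_t_bijective
    (hres : Function.Surjective (IsLocalRing.ResidueField.map (algebraMap R S))) :
    ∃ t ∈ maximalIdeal R, ∀ n : ℕ, 1 ≤ n →
      Function.Bijective (Ideal.quotientMap ((Ideal.span {t ^ n}).map (algebraMap R S))
        (algebraMap R S) Ideal.le_comap_map) := by
  obtain ⟨t, ht, H⟩ := exists_t R T q S hres
  refine ⟨t, ht, ?_⟩
  have hJ : ∀ n : ℕ, (Ideal.span {t ^ n}).map (algebraMap R S) =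
      Ideal.span {algebraMap R S t ^ n} := by
    intro n
    rw [Ideal.map_span, Set.image_singleton, map_pow]
  have Hn : ∀ n : ℕ, ∀ s : S, ∃ r : R,
      s - algebraMap R S r ∈ (Ideal.span {t ^ n}).map (algebraMap R S) := by
    intro n
    induction n with
    | zero =>
      intro s
      refine ⟨0, ?_⟩
      rw [pow_zero, Ideal.span_singleton_one, Ideal.map_top]
      exact Submodule.mem_top
    | succ n ih =>
      intro s
      obtain ⟨r, hr⟩ := H s
      rw [← pow_one t, hJ, pow_one, Ideal.mem_span_singleton'] at hr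
      obtain ⟨s', hs'⟩ := hr
      obtain ⟨r', hr'⟩ := ih s'
      rw [hJ, Ideal.mem_span_singleton'] at hr'
      obtain ⟨c, hc⟩ := hr'
      refine ⟨r + r' * t, ?_⟩
      rw [hJ, Ideal.mem_span_singleton']
      refine ⟨c, ?_⟩
      rw [map_add, map_mul, pow_succ]
      linear_combination (algebraMap R S t) * hc + hs'
  intro n _
  rw [PH.bij_iff]
  refine ⟨?_, Hn n⟩
  intro r hr
  haveI := faithfullyFlat R T q S
  have h1 : r ∈ ((Ideal.span {t ^ n}).map (algebraMap R S)).comap (algebraMap R S) := hr
  rwa [Ideal.comap_map_eq_self_of_faithfullyFlat] at h1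

end Groth.Agent.Helper26.StdEtLocal
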