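import Mathlib

namespace Groth.Agent.Helper26.Stirl

open Polynomial Finset

universe u
variable {R : Type u} [CommRing R] [Algebra ℚ R]

theorem part1 (r : R) (δ : ℕ) (hr : (r - 1) ^ (δ + 1) = 0) (n : ℕ) :
    r ^ n = ∑ k ∈ Finset.range (δ + 1),
      ((descPochhammer ℚ k).eval (n : ℚ) / (k.factorial : ℚ)) • (r - 1) ^ k := by
  have hcoef : ∀ k : ℕ, (descPochhammer ℚ k).eval (n : ℚ) / (k.factorial : ℚ) = (n.choose k : ℚ) := by
    intro k
    rw [descPochhammer_eval_eq_descFactorial, Nat.descFactorial_eq_factorial_mul_choose,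
      Nat.cast_mul, mul_div_cancel_left₀]
    exact_mod_cast k.factorial_ne_zero
  simp_rw [hcoef]
  have hsm : ∀ k : ℕ, ((n.choose k : ℚ)) • (r - 1) ^ k = (r - 1) ^ k * (n.choose k : R) := by
    intro k
    rw [Nat.cast_smul_eq_nsmul, nsmul_eq_mul, mul_comm]
  simp_rw [hsm]
  have hzero : ∀ k, δ + 1 ≤ k → (r - 1) ^ k = 0 := by
    intro k hk
    obtain ⟨c, rfl⟩ := Nat.exists_eq_add_of_le hk
    rw [pow_add, hr, zero_mul]
  have h1 : r ^ n = ∑ k ∈ Finset.range (n + 1), (r - 1) ^ k * (n.choose k : R) := by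
    conv_lhs => rw [show r = (r - 1) + 1 by ring, add_pow]
    simp
  rw [h1]
  have hA : ∑ k ∈ Finset.range (n + 1), (r - 1) ^ k * (n.choose k : R) =
      ∑ k ∈ Finset.range (max n δ + 1), (r - 1) ^ k * (n.choose k : R) := by
    apply Finset.sum_subset
    · intro k hk
      simp only [Finset.mem_range] at hk ⊢
      omega
    · intro k _ hk
      simp only [Finset.mem_range, not_lt] at hk
      rw [Nat.choose_eq_zero_of_lt (by omega)]
      simp
  have hB : ∑ k ∈ Finset.range (δ + 1), (r - 1) ^ k * (n.choose k : R) =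
      ∑ k ∈ Finset.range (max n δ + 1), (r - 1) ^ k * (n.choose k : R) := by
    apply Finset.sum_subset
    · intro k hk
      simp only [Finset.mem_range] at hk ⊢
      omega
    · intro k _ hk
      simp only [Finset.mem_range, not_lt] at hk
      rw [hzero k hk, zero_mul]
  rw [hA, hB]

theorem part2 (r : R) (δ : ℕ) :
    (∑ k ∈ Finset.range (δ + 1), ((k.factorial : ℚ)⁻¹ • (descPochhammer R k * Polynomial.C ((r - 1) ^ k))) =
      ∑ j ∈ Finset.range (δ + 1), Polynomial.C (∑ k ∈ Finset.range (δ + 1), ∑ u ∈ Finset.range (k + 1),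
        (((-1 : ℚ) ^ (k - u) * (((descPochhammer ℤ k).coeff j : ℤ) : ℚ)) / ((u.factorial * (k - u).factorial : ℕ) : ℚ)) • r ^ u) * Polynomial.X ^ j) := by
  ext m
  simp only [Polynomial.finsetSum_coeff, Polynomial.coeff_smul, Polynomial.coeff_mul_C,
    Polynomial.coeff_C_mul, Polynomial.coeff_X_pow]
  have hdeg : ∀ k, k < m → (descPochhammer ℤ k).coeff m = 0 := by
    intro k hk
    apply Polynomial.coeff_eq_zero_of_natDegree_lt
    rw [descPochhammer_natDegree]; exact hk
  have hcoeffR : ∀ k, (descPochhammer R k).coeff m = (((descPochhammer ℤ k).coeff m : ℤ) : R) := by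
    intro k
    rw [← descPochhammer_map (Int.castRingHom R), Polynomial.coeff_map]
    rfl
  have hterm : ∀ k, (k.factorial : ℚ)⁻¹ • ((descPochhammer R k).coeff m * (r - 1) ^ k) =
      ∑ u ∈ Finset.range (k + 1),
        (((-1 : ℚ) ^ (k - u) * (((descPochhammer ℤ k).coeff m : ℤ) : ℚ)) / ((u.factorial * (k - u).factorial : ℕ) : ℚ)) • r ^ u := by
    intro k
    rw [hcoeffR, show r - 1 = r + (-1) by ring, add_pow, Finset.mul_sum, Finset.smul_sum]
    apply Finset.sum_congr rfl
    intro u hu
    have hu' : u ≤ k := by simp only [Finset.mem_range] at hu; omega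
    have e1 : ((((descPochhammer ℤ k).coeff m : ℤ) : R)) * ((r ^ u * (-1) ^ (k - u)) * (k.choose u : R)) =
        (((((descPochhammer ℤ k).coeff m : ℤ) : ℚ)) * (-1) ^ (k - u) * (k.choose u : ℚ)) • r ^ u := by
      rw [Algebra.smul_def]
      simp only [map_mul, map_pow, map_neg, map_one, map_intCast, map_natCast]
      ring
    rw [e1, smul_smul]
    congr 1
    rw [Nat.choose_eq_factorial_div_factorial hu', Nat.cast_div (Nat.factorial_mul_factorial_dvd_factorial hu')
      (by exact_mod_cast (Nat.mul_pos u.factorial_pos (k - u).factorial_pos).ne')]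
    have hk0 : (k.factorial : ℚ) ≠ 0 := by exact_mod_cast k.factorial_ne_zero
    have hu0 : ((u.factorial * (k - u).factorial : ℕ) : ℚ) ≠ 0 := by
      exact_mod_cast (Nat.mul_pos u.factorial_pos (k - u).factorial_pos).ne'
    field_simp
  simp_rw [hterm]
  rw [Finset.sum_mul_boole]
  split_ifs with hm
  · rfl
  · apply Finset.sum_eq_zero
    intro k hk
    apply Finset.sum_eq_zero
    intro u _
    rw [hdeg k (by simp only [Finset.mem_range] at hk hm; omega)]
    simp

end Groth.Agent.Helper26.Stirl
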