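import Mathlib
import Groth.Prelude.Def_SymTen
import Groth.Prelude.Def_W4c5normfunctorschNorm

namespace Groth.Agent.Helper26.SymAlt

open scoped TensorProduct

universe u
variable (R : Type u) [CommRing R] (A : Type u) [CommRing A] [Algebra R A]
  (P : Type u) [AddCommGroup P] [Module R P] [Module A P] [IsScalarTower R A P] (d : ℕ)

theorem tpowAct_tprod (a : Fin d → A) (p : Fin d → P) :
    SymTen.tpowAct R A P d (PiTensorProduct.tprod R a) (PiTensorProduct.tprod R p) =
      PiTensorProduct.tprod R (fun i => a i • p i) := by
  unfold SymTen.tpowAct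
  rw [PiTensorProduct.lift.tprod]
  simp only [MultilinearMap.compLinearMap_apply, PiTensorProduct.mapMultilinear_apply,
    PiTensorProduct.map_tprod]
  rfl

theorem reindex_tpowAct (σ : Equiv.Perm (Fin d)) (a : ⨂[R] _ : Fin d, A) (x : ⨂[R] _ : Fin d, P) :
    PiTensorProduct.reindex R (fun _ : Fin d => P) σ (SymTen.tpowAct R A P d a x) =
      SymTen.tpowAct R A P d (PiTensorProduct.reindex R (fun _ : Fin d => A) σ a)
        (PiTensorProduct.reindex R (fun _ : Fin d => P) σ x) := by
  induction a using PiTensorProduct.induction_on with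
  | smul_tprod r f =>
    induction x using PiTensorProduct.induction_on with
    | smul_tprod s g =>
      simp only [map_smul, LinearMap.smul_apply, PiTensorProduct.reindex_tprod, tpowAct_tprod]
    | add x y hx hy => simp only [map_add, hx, hy]
  | add a b ha hb => simp only [map_add, LinearMap.add_apply, ha, hb]

variable {P} in
theorem map_mem_altSpan {Q : Type u} [AddCommGroup Q] [Module R Q] (f : P →ₗ[R] Q)
    {x : ⨂[R] _ : Fin d, P} (hx : x ∈ SymTen.altSpan R P d) :
    PiTensorProduct.map (fun _ : Fin d => f) x ∈ SymTen.altSpan R Q d := by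
  unfold SymTen.altSpan at hx ⊢
  induction hx using Submodule.span_induction with
  | mem x hx =>
    obtain ⟨p, i, j, hij, hp, rfl⟩ := hx
    rw [PiTensorProduct.map_tprod]
    exact Submodule.subset_span ⟨fun l => f (p l), i, j, hij, by simp [hp], rfl⟩
  | zero => simp
  | add x y _ _ hx hy => rw [map_add]; exact Submodule.add_mem _ hx hy
  | smul r x _ hx => rw [map_smul]; exact Submodule.smul_mem _ _ hx

end Groth.Agent.Helper26.SymAlt
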