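import Mathlib
import Groth.Agent.Lib.Helper26.SymAlt1

namespace Groth.Agent.Helper26.SymAlt

open scoped TensorProduct

universe u
variable (R : Type u) [CommRing R] (P : Type u) [AddCommGroup P] [Module R P] (d : ℕ)

theorem tprod_mem_altSpan (p : Fin d → P) (i j : Fin d) (hij : i ≠ j) (h : p i = p j) :
    PiTensorProduct.tprod R p ∈ SymTen.altSpan R P d :=
  Submodule.subset_span ⟨p, i, j, hij, h, rfl⟩

theorem tprod_add_swap_mem (v : Fin d → P) (i j : Fin d) (hij : i ≠ j) :
    PiTensorProduct.tprod R v + PiTensorProduct.tprod R (fun l => v (Equiv.swap i j l)) ∈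
      SymTen.altSpan R P d := by
  classical
  set s := v i + v j with hs
  set w := Function.update (Function.update v i s) j s with hw
  have hwmem : PiTensorProduct.tprod R w ∈ SymTen.altSpan R P d := by
    apply tprod_mem_altSpan R P d w i j hij
    simp [hw, Function.update_of_ne hij]
  have e1 : PiTensorProduct.tprod R w =
      PiTensorProduct.tprod R (Function.update (Function.update v i s) j (v i)) +
      PiTensorProduct.tprod R (Function.update (Function.update v i s) j (v j)) := by
    rw [hw]
    exact MultilinearMap.map_update_add (PiTensorProduct.tprod R (s := fun _ : Fin d => P))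
      (Function.update v i s) j (v i) (v j)
  have e2 : ∀ c : P, PiTensorProduct.tprod R (Function.update (Function.update v i s) j c) =
      PiTensorProduct.tprod R (Function.update (Function.update v j c) i (v i)) +
      PiTensorProduct.tprod R (Function.update (Function.update v j c) i (v j)) := by
    intro c
    rw [Function.update_comm hij]
    exact MultilinearMap.map_update_add (PiTensorProduct.tprod R (s := fun _ : Fin d => P))
      (Function.update v j c) i (v i) (v j)
  have f1 : Function.update (Function.update v j (v i)) i (v i) = Function.update v j (v i) := by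
    apply Function.update_eq_self_iff.2
    rw [Function.update_of_ne hij]
  have f2 : Function.update (Function.update v j (v i)) i (v j) = fun l => v (Equiv.swap i j l) := by
    funext l
    by_cases hli : l = i
    · subst hli; simp
    · by_cases hlj : l = j
      · subst hlj; simp [Function.update_of_ne hli]
      · simp [Function.update_of_ne hli, Function.update_of_ne hlj, Equiv.swap_apply_of_ne_of_ne hli hlj]
  have f3 : Function.update (Function.update v j (v j)) i (v i) = v := by
    rw [Function.update_eq_self, Function.update_eq_self]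
  have f4 : Function.update (Function.update v j (v j)) i (v j) = Function.update v i (v j) := by
    rw [Function.update_eq_self]
  have hT1 : PiTensorProduct.tprod R (Function.update v j (v i)) ∈ SymTen.altSpan R P d := by
    apply tprod_mem_altSpan R P d _ i j hij
    simp [Function.update_of_ne hij]
  have hT4 : PiTensorProduct.tprod R (Function.update v i (v j)) ∈ SymTen.altSpan R P d := by
    apply tprod_mem_altSpan R P d _ i j hij
    simp [Function.update_of_ne hij.symm]
  have e3 := e2 (v i)
  have e4 := e2 (v j)
  rw [f1, f2] at e3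
  rw [f3, f4] at e4
  rw [e3, e4] at e1
  have : PiTensorProduct.tprod R v + PiTensorProduct.tprod R (fun l => v (Equiv.swap i j l)) =
      PiTensorProduct.tprod R w - PiTensorProduct.tprod R (Function.update v j (v i)) -
        PiTensorProduct.tprod R (Function.update v i (v j)) := by
    rw [e1]; abel
  rw [this]
  exact Submodule.sub_mem _ (Submodule.sub_mem _ hwmem hT1) hT4

end Groth.Agent.Helper26.SymAlt

namespace Groth.Agent.Helper26.SymAlt

open scoped TensorProduct

universe u
variable (R : Type u) [CommRing R] (d : ℕ)

theorem mem_altSpan_of_swap_invariant_of_basis {κ : Type*} [LinearOrder κ] {F : Type u}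
    [AddCommGroup F] [Module R F] (b : Module.Basis κ R F) (i j : Fin d) (hij : i ≠ j)
    (y : ⨂[R] _ : Fin d, F)
    (hy : PiTensorProduct.reindex R (fun _ : Fin d => F) (Equiv.swap i j) y = y) :
    y ∈ SymTen.altSpan R F d := by
  classical
  set τ := Equiv.swap i j with hτ
  set 𝔅 := _root_.Basis.piTensorProduct (fun _ : Fin d => b) with h𝔅
  have h𝔅app : ∀ K : Fin d → κ, 𝔅 K = PiTensorProduct.tprod R (fun l => b (K l)) := fun K =>
    _root_.Basis.piTensorProduct_apply _ K
  have hτ𝔅 : ∀ K : Fin d → κ, PiTensorProduct.reindex R (fun _ : Fin d => F) τ (𝔅 K) =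
      𝔅 (fun l => K (τ l)) := by
    intro K
    rw [h𝔅app, h𝔅app, PiTensorProduct.reindex_tprod]
    simp [hτ]
  set L := 𝔅.constr R (fun K => if K i < K j then 𝔅 K else 0) with hL
  set D := 𝔅.constr R (fun K => if K i = K j then 𝔅 K else 0) with hD
  set U := 𝔅.constr R (fun K => if K j < K i then 𝔅 K else 0) with hU
  have hLb : ∀ K, L (𝔅 K) = if K i < K j then 𝔅 K else 0 := fun K => 𝔅.constr_basis R _ K
  have hDb : ∀ K, D (𝔅 K) = if K i = K j then 𝔅 K else 0 := fun K => 𝔅.constr_basis R _ K
  have hUb : ∀ K, U (𝔅 K) = if K j < K i then 𝔅 K else 0 := fun K => 𝔅.constr_basis R _ K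
  have hsum : L + D + U = LinearMap.id := by
    apply 𝔅.ext
    intro K
    simp only [LinearMap.add_apply, hLb, hDb, hUb, LinearMap.id_apply]
    rcases lt_trichotomy (K i) (K j) with h | h | h
    · simp [h, h.ne, h.not_gt]
    · simp [h]
    · simp [h, h.ne', h.not_gt]
  have hUτ : U ∘ₗ (PiTensorProduct.reindex R (fun _ : Fin d => F) τ).toLinearMap =
      (PiTensorProduct.reindex R (fun _ : Fin d => F) τ).toLinearMap ∘ₗ L := by
    apply 𝔅.ext
    intro K
    simp only [LinearMap.comp_apply, LinearEquiv.coe_coe, hτ𝔅, hUb, hLb]
    have e1 : K (τ j) = K i := by simp [hτ]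
    have e2 : K (τ i) = K j := by simp [hτ]
    rw [e1, e2]
    split_ifs with h
    · rw [hτ𝔅]
    · rw [map_zero]
  have hDmem : ∀ z, D z ∈ SymTen.altSpan R F d := by
    intro z
    have : (⊤ : Submodule R _) ≤ Submodule.comap D (SymTen.altSpan R F d) := by
      rw [← 𝔅.span_eq, Submodule.span_le]
      rintro _ ⟨K, rfl⟩
      simp only [SetLike.mem_coe, Submodule.mem_comap, hDb]
      split_ifs with h
      · rw [h𝔅app]
        exact tprod_mem_altSpan R F d _ i j hij (by rw [h])
      · exact Submodule.zero_mem _
    exact this Submodule.mem_top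
  have hLmem : ∀ z, L z + PiTensorProduct.reindex R (fun _ : Fin d => F) τ (L z) ∈
      SymTen.altSpan R F d := by
    intro z
    have : (⊤ : Submodule R _) ≤ Submodule.comap
        (L + (PiTensorProduct.reindex R (fun _ : Fin d => F) τ).toLinearMap ∘ₗ L)
        (SymTen.altSpan R F d) := by
      rw [← 𝔅.span_eq, Submodule.span_le]
      rintro _ ⟨K, rfl⟩
      simp only [SetLike.mem_coe, Submodule.mem_comap, LinearMap.add_apply, LinearMap.comp_apply,
        LinearEquiv.coe_coe, hLb]
      split_ifs with h
      · rw [hτ𝔅, h𝔅app, h𝔅app]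
        exact tprod_add_swap_mem R F d (fun l => b (K l)) i j hij
      · rw [map_zero, add_zero]
        exact Submodule.zero_mem _
    exact this Submodule.mem_top
  have hdecomp : y = (L y + PiTensorProduct.reindex R (fun _ : Fin d => F) τ (L y)) + D y := by
    have h1 := congrArg (fun f => f y) hsum
    simp only [LinearMap.add_apply, LinearMap.id_apply] at h1
    have h2 := congrArg (fun f => f y) hUτ
    simp only [LinearMap.comp_apply, LinearEquiv.coe_coe, hy] at h2
    rw [← h2]
    conv_lhs => rw [← h1]
    abel
  rw [hdecomp]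
  exact Submodule.add_mem _ (hLmem y) (hDmem y)

end Groth.Agent.Helper26.SymAlt

namespace Groth.Agent.Helper26.SymAlt

open scoped TensorProduct

universe u
variable (R : Type u) [CommRing R] (d : ℕ)

theorem mem_altSpan_of_swap_invariant (P : Type u) [AddCommGroup P] [Module R P]
    [Module.Finite R P] [Module.Projective R P] (i j : Fin d) (hij : i ≠ j)
    (y : ⨂[R] _ : Fin d, P)
    (hy : PiTensorProduct.reindex R (fun _ : Fin d => P) (Equiv.swap i j) y = y) :
    y ∈ SymTen.altSpan R P d := by
  obtain ⟨n, f, g, -, -, hfg⟩ := Module.Finite.exists_comp_eq_id_of_projective R P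
  set y' := PiTensorProduct.map (fun _ : Fin d => g) y with hy'
  have hy'inv : PiTensorProduct.reindex R (fun _ : Fin d => (Fin n → R)) (Equiv.swap i j) y' = y' := by
    rw [hy']
    have := PiTensorProduct.map_reindex (R := R) (fun _ : Fin d => g) (Equiv.swap i j) y
    rw [← this, hy]
  have h1 : y' ∈ SymTen.altSpan R (Fin n → R) d :=
    mem_altSpan_of_swap_invariant_of_basis R d (Pi.basisFun R (Fin n)) i j hij y' hy'inv
  have h2 : y = PiTensorProduct.map (fun _ : Fin d => f) y' := by
    rw [hy', ← LinearMap.comp_apply, ← PiTensorProduct.map_comp, hfg, PiTensorProduct.map_id,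
      LinearMap.id_apply]
  rw [h2]
  exact map_mem_altSpan R d f h1

variable (A : Type u) [CommRing A] [Algebra R A]
  (P : Type u) [AddCommGroup P] [Module R P] [Module A P] [IsScalarTower R A P]

theorem main [Module.Finite R P] [Module.Projective R P]
    (a : ⨂[R] _ : Fin d, A) (ha : a ∈ SymTen.TS R A d)
    (x : ⨂[R] _ : Fin d, P) (hx : x ∈ SymTen.altSpan R P d) :
    SymTen.tpowAct R A P d a x ∈ SymTen.altSpan R P d := by
  unfold SymTen.altSpan at hx
  induction hx using Submodule.span_induction with
  | mem x hx =>
    obtain ⟨p, i, j, hij, hp, rfl⟩ := hx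
    apply mem_altSpan_of_swap_invariant R d P i j hij
    rw [reindex_tpowAct, (SymTen.mem_TS_iff R A d a).1 ha, PiTensorProduct.reindex_tprod]
    congr 2
    funext l
    by_cases hli : l = i
    · subst hli; simp [hp]
    · by_cases hlj : l = j
      · subst hlj; simp [hp]
      · simp [Equiv.swap_apply_of_ne_of_ne hli hlj]
  | zero => rw [map_zero]; exact Submodule.zero_mem _
  | add x y _ _ hx hy => rw [map_add]; exact Submodule.add_mem _ hx hy
  | smul r x _ hx => rw [map_smul]; exact Submodule.smul_mem _ _ hx

end Groth.Agent.Helper26.SymAlt
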