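import Mathlib

set_option autoImplicit false
universe u
open scoped TensorProduct

namespace Groth.Agent.Helper26.SympOrth

/-- rank of the fixed module after flat base change. -/
theorem finrank_fix_baseChange {R : Type*} [CommRing R] [Nontrivial R] (S' : Type*) [CommRing S']
    [Nontrivial S'] [Algebra R S'] [Module.Flat R S']
    {A : Type*} [AddCommGroup A] [Module R A] (t : A →ₗ[R] A)
    {N : Type*} [AddCommGroup N] [Module R N] [Module.Free R N]
    (e : LinearMap.eqLocus t LinearMap.id ≃ₗ[R] N) :
    Module.finrank S' (LinearMap.eqLocus (LinearMap.baseChange S' t) LinearMap.id) =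
      Module.finrank R N := by
  have e1 := LinearMap.tensorEqLocusEquiv S' S' t LinearMap.id
  have h1 : TensorProduct.AlgebraTensorModule.lTensor S' S' t = LinearMap.baseChange S' t := rfl
  have h2 : TensorProduct.AlgebraTensorModule.lTensor S' S' (LinearMap.id : A →ₗ[R] A) =
      LinearMap.id := by
    ext; simp
  rw [h1, h2] at e1
  rw [← e1.finrank_eq]
  have : Module.Free R (LinearMap.eqLocus t LinearMap.id) := Module.Free.of_equiv e.symm
  rw [Module.finrank_baseChange, e.finrank_eq]

/-- an intertwining equivalence preserves the rank of the fixed submodules. -/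
theorem finrank_fix_eq {S' : Type*} [CommRing S'] {M₁ M₂ : Type*} [AddCommGroup M₁] [Module S' M₁]
    [AddCommGroup M₂] [Module S' M₂] (τ₁ : M₁ →ₗ[S'] M₁) (τ₂ : M₂ →ₗ[S'] M₂)
    (f : M₁ ≃ₗ[S'] M₂) (hf : ∀ x, f (τ₁ x) = τ₂ (f x)) :
    Module.finrank S' (LinearMap.eqLocus τ₁ LinearMap.id) =
      Module.finrank S' (LinearMap.eqLocus τ₂ LinearMap.id) := by
  have hmap : (LinearMap.eqLocus τ₁ LinearMap.id).map (f : M₁ →ₗ[S'] M₂) =
      LinearMap.eqLocus τ₂ LinearMap.id := by
    ext y
    constructor
    · rintro ⟨x, hx, rfl⟩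
      rw [SetLike.mem_coe, LinearMap.mem_eqLocus] at hx
      rw [LinearMap.mem_eqLocus]
      simp only [LinearMap.id_coe, id_eq] at hx ⊢
      show τ₂ (f x) = f x
      rw [← hf, hx]
    · intro hy
      rw [LinearMap.mem_eqLocus] at hy
      simp only [LinearMap.id_coe, id_eq] at hy
      refine ⟨f.symm y, ?_, by simp⟩
      rw [SetLike.mem_coe, LinearMap.mem_eqLocus]
      simp only [LinearMap.id_coe, id_eq]
      apply f.injective
      rw [hf, f.apply_symm_apply, hy]
  exact (LinearEquiv.ofSubmodules f _ _ hmap).finrank_eq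

end Groth.Agent.Helper26.SympOrth
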