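import Mathlib

set_option autoImplicit false
universe u

namespace Groth.Agent.Helper26.SympOrth

variable {R : Type*} [CommRing R] (n : ℕ)

/-- index set `i ≤ j` -/
abbrev Tle := {p : Fin n × Fin n // p.1 ≤ p.2}
/-- index set `i < j` -/
abbrev Tlt := {p : Fin n × Fin n // p.1 < p.2}

/-- symmetric matrices -/
noncomputable def symEquiv (T : Matrix (Fin n) (Fin n) R →ₗ[R] Matrix (Fin n) (Fin n) R)
    (hT : ∀ M i j, T M i j = M j i) :
    LinearMap.eqLocus T LinearMap.id ≃ₗ[R] (Tle n → R) where
  toFun M := fun p => (M : Matrix (Fin n) (Fin n) R) p.1.1 p.1.2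
  map_add' M N := by ext p; rfl
  map_smul' r M := by ext p; rfl
  invFun g := ⟨Matrix.of fun i j => if h : i ≤ j then g ⟨(i, j), h⟩ else
      g ⟨(j, i), le_of_not_ge h⟩, by
    rw [LinearMap.mem_eqLocus]
    ext i j
    rw [hT]
    simp only [LinearMap.id_coe, id_eq, Matrix.of_apply]
    by_cases h1 : i ≤ j
    · by_cases h2 : j ≤ i
      · obtain rfl := le_antisymm h1 h2
        rfl
      · rw [dif_neg h2, dif_pos h1]
    · have h2 : j ≤ i := le_of_not_ge h1
      rw [dif_pos h2, dif_neg h1]⟩
  left_inv M := by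
    apply Subtype.ext
    ext i j
    have hM := M.2
    rw [LinearMap.mem_eqLocus] at hM
    have hM' : ∀ i j, (M : Matrix (Fin n) (Fin n) R) j i = (M : Matrix (Fin n) (Fin n) R) i j := by
      intro i j
      have := congrFun (congrFun hM i) j
      rw [hT] at this
      exact this
    simp only [Matrix.of_apply]
    by_cases h1 : i ≤ j
    · rw [dif_pos h1]
    · rw [dif_neg h1]
      exact hM' i j
  right_inv g := by
    ext ⟨⟨i, j⟩, h⟩
    simp only [Matrix.of_apply]
    rw [dif_pos h]

theorem card_Tle_add : Fintype.card (Tle n) = Fintype.card (Tlt n) + n := by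
  classical
  have e : Tle n ≃ Tlt n ⊕ Fin n :=
    { toFun := fun p => if h : p.1.1 < p.1.2 then Sum.inl ⟨p.1, h⟩ else Sum.inr p.1.1
      invFun := fun q => Sum.elim (fun p => ⟨p.1, le_of_lt p.2⟩) (fun i => ⟨(i, i), le_refl i⟩) q
      left_inv := by
        rintro ⟨⟨i, j⟩, h⟩
        by_cases h1 : i < j
        · simp [h1]
        · have : i = j := le_antisymm h (le_of_not_gt h1)
          subst this
          simp
      right_inv := by
        rintro (⟨⟨i, j⟩, h⟩ | i)
        · have h' : i < j := h
          exact dif_pos h'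
        · simp }
  rw [Fintype.card_congr e, Fintype.card_sum, Fintype.card_fin]

theorem card_Tle_add_Tlt : Fintype.card (Tle n) + Fintype.card (Tlt n) = n * n := by
  classical
  have e : Tle n ⊕ Tlt n ≃ Fin n × Fin n :=
    { toFun := fun q => Sum.elim (fun p => p.1) (fun p => (p.1.2, p.1.1)) q
      invFun := fun p => if h : p.1 ≤ p.2 then Sum.inl ⟨p, h⟩ else
        Sum.inr ⟨(p.2, p.1), lt_of_not_ge h⟩
      left_inv := by
        rintro (⟨⟨i, j⟩, h⟩ | ⟨⟨i, j⟩, h⟩)
        · have h' : i ≤ j := h
          exact dif_pos h'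
        · have h' : i < j := h
          exact dif_neg (not_le_of_gt h')
      right_inv := by
        rintro ⟨i, j⟩
        by_cases h : i ≤ j
        · simp [h]
        · simp [h] }
  rw [← Fintype.card_sum, Fintype.card_congr e, Fintype.card_prod, Fintype.card_fin]

end Groth.Agent.Helper26.SympOrth
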