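import Mathlib
import Groth.Agent.Lib.Helper26.SympOrth2

set_option autoImplicit false
universe u

namespace Groth.Agent.Helper26.SympOrth

variable {R : Type*} [CommRing R]

/-- the adjugate of a 2×2 matrix, explicitly -/
def adj2 (x : Matrix (Fin 2) (Fin 2) R) : Matrix (Fin 2) (Fin 2) R :=
  !![x 1 1, -x 0 1; -x 1 0, x 0 0]

theorem adj2_adj2 (x : Matrix (Fin 2) (Fin 2) R) : adj2 (adj2 x) = x := by
  ext i j
  fin_cases i <;> fin_cases j <;> simp [adj2]

theorem adj2_smul_one (r : R) : adj2 (r • (1 : Matrix (Fin 2) (Fin 2) R)) = r • 1 := by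
  ext i j
  fin_cases i <;> fin_cases j <;> simp [adj2]

theorem eq_smul_one_of_adj2_eq (h2 : IsUnit (2 : R)) (x : Matrix (Fin 2) (Fin 2) R)
    (h : adj2 x = x) : x = (x 0 0) • (1 : Matrix (Fin 2) (Fin 2) R) := by
  have h01 : x 0 1 = 0 := by
    have := congrFun (congrFun h 0) 1
    simp [adj2] at this
    have h3 : (2 : R) * x 0 1 = 0 := by rw [two_mul]; nth_rw 1 [← this]; ring
    exact (h2.mul_right_eq_zero).1 h3
  have h10 : x 1 0 = 0 := by
    have := congrFun (congrFun h 1) 0
    simp [adj2] at this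
    have h3 : (2 : R) * x 1 0 = 0 := by rw [two_mul]; nth_rw 1 [← this]; ring
    exact (h2.mul_right_eq_zero).1 h3
  have h11 : x 1 1 = x 0 0 := by
    have := congrFun (congrFun h 0) 0
    simpa [adj2] using this
  ext i j
  fin_cases i <;> fin_cases j <;> simp [h01, h10, h11]

theorem adj2_add (x y : Matrix (Fin 2) (Fin 2) R) : adj2 (x + y) = adj2 x + adj2 y := by
  ext i j
  fin_cases i <;> fin_cases j <;> simp [adj2, add_comm]

theorem adj2_smul (r : R) (x : Matrix (Fin 2) (Fin 2) R) : adj2 (r • x) = r • adj2 x := by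
  ext i j
  fin_cases i <;> fin_cases j <;> simp [adj2]

end Groth.Agent.Helper26.SympOrth

namespace Groth.Agent.Helper26.SympOrth

variable {R : Type*} [CommRing R] (n : ℕ)

/-- the inverse parametrization -/
noncomputable def sympInv (g : (Tlt n → Matrix (Fin 2) (Fin 2) R) × (Fin n → R)) :
    Matrix (Fin n) (Fin n) (Matrix (Fin 2) (Fin 2) R) :=
  Matrix.of fun i j => if h : i < j then g.1 ⟨(i, j), h⟩ else
    if h' : j < i then adj2 (g.1 ⟨(j, i), h'⟩) else g.2 i • (1 : Matrix (Fin 2) (Fin 2) R)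

theorem sympInv_lt (g : (Tlt n → Matrix (Fin 2) (Fin 2) R) × (Fin n → R)) {i j : Fin n}
    (h : i < j) : sympInv n g i j = g.1 ⟨(i, j), h⟩ := by
  simp only [sympInv, Matrix.of_apply]
  exact dif_pos h

theorem sympInv_gt (g : (Tlt n → Matrix (Fin 2) (Fin 2) R) × (Fin n → R)) {i j : Fin n}
    (h : j < i) : sympInv n g i j = adj2 (g.1 ⟨(j, i), h⟩) := by
  simp only [sympInv, Matrix.of_apply]
  rw [dif_neg (not_lt_of_gt h), dif_pos h]

theorem sympInv_diag (g : (Tlt n → Matrix (Fin 2) (Fin 2) R) × (Fin n → R)) (i : Fin n) :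
    sympInv n g i i = g.2 i • (1 : Matrix (Fin 2) (Fin 2) R) := by
  simp only [sympInv, Matrix.of_apply]
  rw [dif_neg (lt_irrefl i), dif_neg (lt_irrefl i)]

/-- symplectic-symmetric matrices -/
noncomputable def sympEquiv (h2 : IsUnit (2 : R))
    (T : Matrix (Fin n) (Fin n) (Matrix (Fin 2) (Fin 2) R) →ₗ[R]
      Matrix (Fin n) (Fin n) (Matrix (Fin 2) (Fin 2) R))
    (hT : ∀ M i j, T M i j = adj2 (M j i)) :
    LinearMap.eqLocus T LinearMap.id ≃ₗ[R]
      ((Tlt n → Matrix (Fin 2) (Fin 2) R) × (Fin n → R)) where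
  toFun M := (fun p => (M : Matrix (Fin n) (Fin n) (Matrix (Fin 2) (Fin 2) R)) p.1.1 p.1.2,
    fun i => (M : Matrix (Fin n) (Fin n) (Matrix (Fin 2) (Fin 2) R)) i i 0 0)
  map_add' M N := by ext <;> rfl
  map_smul' r M := by ext <;> rfl
  invFun g := ⟨sympInv n g, by
    rw [LinearMap.mem_eqLocus]
    ext1 i j
    rw [hT]
    simp only [LinearMap.id_coe, id_eq]
    rcases lt_trichotomy i j with h | h | h
    · rw [sympInv_lt n g h, sympInv_gt n g h, adj2_adj2]
    · subst h
      rw [sympInv_diag, adj2_smul_one]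
    · rw [sympInv_gt n g h, sympInv_lt n g h]⟩
  left_inv M := by
    apply Subtype.ext
    have hM := M.2
    rw [LinearMap.mem_eqLocus] at hM
    have hM' : ∀ i j, adj2 ((M : Matrix (Fin n) (Fin n) (Matrix (Fin 2) (Fin 2) R)) j i) =
        (M : Matrix (Fin n) (Fin n) (Matrix (Fin 2) (Fin 2) R)) i j := by
      intro i j
      have := congrFun (congrFun hM i) j
      rw [hT] at this
      exact this
    ext1 i j
    show sympInv n (fun p => (M : Matrix (Fin n) (Fin n) (Matrix (Fin 2) (Fin 2) R)) p.1.1 p.1.2,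
      fun i => (M : Matrix (Fin n) (Fin n) (Matrix (Fin 2) (Fin 2) R)) i i 0 0) i j =
      (M : Matrix (Fin n) (Fin n) (Matrix (Fin 2) (Fin 2) R)) i j
    rcases lt_trichotomy i j with h | h | h
    · rw [sympInv_lt n _ h]
    · subst h
      rw [sympInv_diag]
      exact (eq_smul_one_of_adj2_eq h2 _ (hM' i i)).symm
    · rw [sympInv_gt n _ h]
      exact hM' i j
  right_inv g := by
    apply Prod.ext
    · ext1 ⟨⟨i, j⟩, h⟩
      exact sympInv_lt n g h
    · ext1 i
      show sympInv n g i i 0 0 = g.2 i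
      rw [sympInv_diag]
      simp

theorem finrank_symp_target [Nontrivial R] :
    Module.finrank R ((Tlt n → Matrix (Fin 2) (Fin 2) R) × (Fin n → R)) =
      Fintype.card (Tlt n) * 4 + n := by
  rw [Module.finrank_prod, Module.finrank_pi_fintype, Module.finrank_fintype_fun_eq_card]
  simp [Module.finrank_matrix]

end Groth.Agent.Helper26.SympOrth
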