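import Mathlib
import Groth.Prelude.Def_AzInv
import Groth.Agent.Lib.Helper26.SympOrth1
import Groth.Agent.Lib.Helper26.SympOrth3

set_option autoImplicit false
universe u
open scoped TensorProduct

namespace Groth.Agent.Helper26.SympOrth

open AzInv

theorem nontrivial_of_faithfullyFlat (R : Type*) [CommRing R] [Nontrivial R] (S' : Type*)
    [CommRing S'] [Algebra R S'] [Module.FaithfullyFlat R S'] : Nontrivial S' := by
  have : Nontrivial (R ⊗[R] S') := inferInstance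
  exact (TensorProduct.lid R S').symm.toEquiv.nontrivial

theorem conj_eq_adj2 {R : Type*} [CommRing R] (J : (Matrix (Fin 2) (Fin 2) R)ˣ)
    (hJ : (↑J : Matrix (Fin 2) (Fin 2) R) = Matrix.of ![![0, -1], ![1, 0]])
    (x : Matrix (Fin 2) (Fin 2) R) :
    (↑J : Matrix (Fin 2) (Fin 2) R) * (Matrix.of fun i j => x j i) *
      ((J⁻¹ : (Matrix (Fin 2) (Fin 2) R)ˣ) : Matrix (Fin 2) (Fin 2) R) = adj2 x := by
  have hJinv : ((J⁻¹ : (Matrix (Fin 2) (Fin 2) R)ˣ) : Matrix (Fin 2) (Fin 2) R) =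
      Matrix.of ![![0, 1], ![-1, 0]] := by
    rw [Units.inv_eq_of_mul_eq_one_right]
    rw [hJ]
    ext i j
    fin_cases i <;> fin_cases j <;> simp [Matrix.mul_apply, Fin.sum_univ_two]
  rw [hJ, hJinv]
  ext i j
  fin_cases i <;> fin_cases j <;>
    simp [Matrix.mul_apply, Fin.sum_univ_two, adj2, Matrix.vecHead, Matrix.vecTail]

theorem main (R : Type u) [CommRing R]
    (hlam : ∀ r : R, (AlgEquiv.refl : R ≃ₐ[R] R) ((AlgEquiv.refl : R ≃ₐ[R] R) r) = r)
    [Nontrivial R] (h2 : IsUnit (2 : R))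
    (J : (Matrix (Fin 2) (Fin 2) R)ˣ)
    (hJ : (↑J : Matrix (Fin 2) (Fin 2) R) = Matrix.of ![![0, -1], ![1, 0]])
    (hJt : AzInv.LamInv.transpose (AlgEquiv.refl : R ≃ₐ[R] R) (Fin 2) hlam
      (↑J : Matrix (Fin 2) (Fin 2) R) = (-1 : R) • (↑J : Matrix (Fin 2) (Fin 2) R))
    (hneg : (AlgEquiv.refl : R ≃ₐ[R] R) (-1) * (-1) = 1) :
    ¬ AzInv.SameType R (AlgEquiv.refl : R ≃ₐ[R] R)
      (AzInv.LamInv.self (AlgEquiv.refl : R ≃ₐ[R] R) hlam)
      ((AzInv.LamInv.transpose (AlgEquiv.refl : R ≃ₐ[R] R) (Fin 2) hlam).conj J (-1) hJt hneg) := by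
  rintro ⟨n, n', hn, hn', S', _, _, hEt, hFF, f, -, hf2⟩
  have hS' : Nontrivial S' := nontrivial_of_faithfullyFlat R S'
  -- the two linear maps
  set t₁ := (AzInv.LamInv.self (AlgEquiv.refl : R ≃ₐ[R] R) hlam).matrix (Fin n) with ht₁
  set t₂ := ((AzInv.LamInv.transpose (AlgEquiv.refl : R ≃ₐ[R] R) (Fin 2) hlam).conj J (-1) hJt
    hneg).matrix (Fin n') with ht₂
  have hT₁ : ∀ M i j, t₁.linS R (AlgEquiv.refl : R ≃ₐ[R] R) M i j = M j i := by
    intro M i j
    rfl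
  have hT₂ : ∀ M i j, t₂.linS R (AlgEquiv.refl : R ≃ₐ[R] R) M i j = adj2 (M j i) := by
    intro M i j
    rw [← conj_eq_adj2 J hJ]
    rfl
  have e1 := finrank_fix_baseChange S' (t₁.linS R (AlgEquiv.refl : R ≃ₐ[R] R))
    (symEquiv n _ hT₁)
  have e2 := finrank_fix_baseChange S' (t₂.linS R (AlgEquiv.refl : R ≃ₐ[R] R))
    (sympEquiv n' h2 _ hT₂)
  have e3 := finrank_fix_eq (LinearMap.baseChange S' (t₁.linS R (AlgEquiv.refl : R ≃ₐ[R] R)))
    (LinearMap.baseChange S' (t₂.linS R (AlgEquiv.refl : R ≃ₐ[R] R))) f.toLinearEquiv hf2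
  rw [e1, e2, Module.finrank_fintype_fun_eq_card, finrank_symp_target] at e3
  -- total ranks
  have e4 := f.toLinearEquiv.finrank_eq
  rw [Module.finrank_baseChange, Module.finrank_baseChange] at e4
  simp only [Module.finrank_matrix, Fintype.card_fin, Module.finrank_self, mul_one] at e4
  have c1 := card_Tle_add n
  have c2 := card_Tle_add_Tlt n
  have c3 := card_Tle_add n'
  have c4 := card_Tle_add_Tlt n'
  generalize n * n = N at *
  generalize n' * n' = N' at *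
  omega

end Groth.Agent.Helper26.SympOrth
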