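import Mathlib
import Groth.Prelude.Def_RegImm
import Groth.Agent.Lib.Helper26.SyntLoc

universe u

namespace Groth.Agent.Lib.Helper26.SyntSq

open TensorProduct MvPolynomial Groth.Agent.Lib.Helper26.SyntLoc

section field

variable {k : Type u} [Field k]

/-- A finite algebra over a field with a square presentation is a global complete intersection. -/
theorem isGlobalCI_of_square_presentation {T : Type u} [CommRing T] [Algebra k T]
    [Module.Finite k T] {n : ℕ} (P : Algebra.Presentation k T (Fin n) (Fin n)) :
    Synt.IsGlobalCI k T := by
  rcases subsingleton_or_nontrivial T with hs | hs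
  · exact Or.inl hs
  · refine Or.inr ⟨n, n, le_rfl, aeval P.val, P.relation, ?_, ?_, ?_⟩
    · intro s
      exact ⟨P.σ s, P.aeval_val_σ s⟩
    · rw [P.span_range_relation_eq_ker, P.ker_eq_ker_aeval_val]
      rfl
    · have : IsArtinianRing T := IsArtinianRing.of_finite k T
      rw [Nat.sub_self, Nat.cast_zero]
      exact (ringKrullDimZero_iff_ringKrullDim_eq_zero).mp inferInstance

theorem isLCIOver_of_square_presentation {T : Type u} [CommRing T] [Algebra k T]
    [Module.Finite k T] {n : ℕ} (P : Algebra.Presentation k T (Fin n) (Fin n)) :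
    Synt.IsLCIOver k T := by
  refine ⟨inferInstance, fun q => ⟨1, ?_, ?_⟩⟩
  · intro h
    exact q.2.ne_top ((Ideal.eq_top_iff_one _).mpr h)
  · have h1 := isGlobalCI_of_square_presentation P
    have : IsLocalization.Away (1 : T) T := IsLocalization.away_of_isUnit_of_bijective T isUnit_one
      Function.bijective_id
    let e : T ≃ₐ[T] Localization.Away (1 : T) :=
      IsLocalization.algEquiv (Submonoid.powers (1 : T)) _ _
    exact isGlobalCI_of_algEquiv (e.restrictScalars k) h1

end field

theorem isSyntomic_of_square_presentation {A A' : Type u} [CommRing A] [CommRing A']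
    [Algebra A A'] [Module.Finite A A'] [Module.Flat A A'] {ι : Type} [Finite ι]
    (P : Algebra.Presentation A A' ι ι) : Synt.IsSyntomic A A' := by
  refine ⟨inferInstance, P.finitePresentation_of_isFinite, fun p => ?_⟩
  let P' := P.baseChange p.asIdeal.ResidueField
  let e : Fin (Nat.card ι) ≃ ι := (Finite.equivFin ι).symm
  exact isLCIOver_of_square_presentation (P'.reindex e e)

end Groth.Agent.Lib.Helper26.SyntSq
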