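import Mathlib
import Groth.Agent.Lib.Helper26.SyntSq

universe u

namespace Groth.Agent.Lib.Helper26.SyntSq

open Polynomial

section adjoin

variable {A : Type u} [CommRing A] (f : A[X])

theorem aeval_root_eq :
    (MvPolynomial.aeval (fun _ : Unit => AdjoinRoot.root f) : MvPolynomial Unit A →ₐ[A] AdjoinRoot f) =
      (Polynomial.aeval (AdjoinRoot.root f)).comp (MvPolynomial.uniqueAlgEquiv A Unit).toAlgHom := by
  apply MvPolynomial.algHom_ext
  intro i
  simp

theorem aeval_root_surjective :
    Function.Surjective (MvPolynomial.aeval (fun _ : Unit => AdjoinRoot.root f) :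
      MvPolynomial Unit A →ₐ[A] AdjoinRoot f) := by
  rw [aeval_root_eq]
  intro y
  obtain ⟨g, rfl⟩ := AdjoinRoot.mk_surjective y
  refine ⟨(MvPolynomial.uniqueAlgEquiv A Unit).symm g, ?_⟩
  change Polynomial.aeval (AdjoinRoot.root f)
    ((MvPolynomial.uniqueAlgEquiv A Unit) ((MvPolynomial.uniqueAlgEquiv A Unit).symm g)) = _
  rw [AlgEquiv.apply_symm_apply, AdjoinRoot.aeval_eq]

/-- The presentation of `A[X]/(f)` with one generator and one relation. -/
noncomputable def adjoinRootPresentation : Algebra.Presentation A (AdjoinRoot f) Unit Unit where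
  toGenerators := Algebra.Generators.ofSurjective (fun _ : Unit => AdjoinRoot.root f)
    (aeval_root_surjective f)
  relation := fun _ => (MvPolynomial.uniqueAlgEquiv A Unit).symm f
  span_range_relation_eq_ker := by
    rw [Algebra.Generators.ker_eq_ker_aeval_val]
    ext x
    have hr : Set.range (fun _ : Unit => (MvPolynomial.uniqueAlgEquiv A Unit).symm f) =
        {(MvPolynomial.uniqueAlgEquiv A Unit).symm f} := by
      ext y; simp
    rw [hr, Ideal.mem_span_singleton, RingHom.mem_ker]
    change _ ↔ (MvPolynomial.aeval (fun _ : Unit => AdjoinRoot.root f) :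
      MvPolynomial Unit A →ₐ[A] AdjoinRoot f) x = 0
    rw [aeval_root_eq]
    change _ ↔ Polynomial.aeval (AdjoinRoot.root f) ((MvPolynomial.uniqueAlgEquiv A Unit) x) = 0
    rw [AdjoinRoot.aeval_eq, AdjoinRoot.mk_eq_zero]
    constructor
    · intro h
      have := map_dvd (MvPolynomial.uniqueAlgEquiv A Unit) h
      rwa [AlgEquiv.apply_symm_apply] at this
    · intro h
      have := map_dvd (MvPolynomial.uniqueAlgEquiv A Unit).symm h
      rwa [AlgEquiv.symm_apply_apply] at this

end adjoin

section split

theorem exists_splitting (n : ℕ) : ∀ (A : Type u) [CommRing A] [Nontrivial A] (P : A[X]),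
    P.Monic → P.natDegree = n →
    ∃ (A' : Type u) (_ : CommRing A') (_ : Algebra A A'),
      Module.Finite A A' ∧ Module.Free A A' ∧ Nontrivial A' ∧
      (∃ (ι : Type) (_ : Finite ι), Nonempty (Algebra.Presentation A A' ι ι)) ∧
        ∃ s : Multiset A', P.map (algebraMap A A') = (s.map fun b => X - C b).prod := by
  induction n with
  | zero =>
    intro A _ _ P hP hdeg
    refine ⟨A, inferInstance, Algebra.id A, inferInstance, inferInstance, inferInstance,
      ⟨PEmpty, inferInstance, ⟨Algebra.Presentation.id A⟩⟩, 0, ?_⟩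
    rw [Polynomial.eq_one_of_monic_natDegree_zero hP hdeg]
    simp
  | succ n ih =>
    intro A _ _ P hP hdeg
    have hfin1 : Module.Finite A (AdjoinRoot P) := hP.finite_adjoinRoot
    have hfree1 : Module.Free A (AdjoinRoot P) := hP.free_adjoinRoot
    have hnt1 : Nontrivial (AdjoinRoot P) := by
      have : Nonempty (Fin (AdjoinRoot.powerBasis' hP).dim) := by
        rw [AdjoinRoot.powerBasis'_dim, hdeg]
        exact ⟨0⟩
      exact (AdjoinRoot.powerBasis' hP).basis.repr.toEquiv.nontrivial
    have hroot : (P.map (algebraMap A (AdjoinRoot P))).IsRoot (AdjoinRoot.root P) := by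
      rw [Polynomial.IsRoot.def, Polynomial.eval_map]
      exact AdjoinRoot.eval₂_root P
    have hfac := Polynomial.mul_divByMonic_eq_iff_isRoot.mpr hroot
    set Q : (AdjoinRoot P)[X] :=
      P.map (algebraMap A (AdjoinRoot P)) /ₘ (X - C (AdjoinRoot.root P)) with hQ
    have hPmonic : (P.map (algebraMap A (AdjoinRoot P))).Monic := hP.map _
    have hQmonic : Q.Monic := by
      apply Polynomial.Monic.of_mul_monic_left (Polynomial.monic_X_sub_C (AdjoinRoot.root P))
      rw [hfac]
      exact hPmonic
    have hQdeg : Q.natDegree = n := by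
      have h1 := (Polynomial.monic_X_sub_C (AdjoinRoot.root P)).natDegree_mul hQmonic
      rw [hfac, hP.natDegree_map, hdeg, Polynomial.natDegree_X_sub_C] at h1
      omega
    obtain ⟨A', _, _, hfin, hfree, hnt, ⟨ι, hι, ⟨Q'⟩⟩, s, hs⟩ := ih (AdjoinRoot P) Q hQmonic hQdeg
    let _ : Algebra A A' := ((algebraMap (AdjoinRoot P) A').comp (algebraMap A (AdjoinRoot P))).toAlgebra
    have htower : IsScalarTower A (AdjoinRoot P) A' := IsScalarTower.of_algebraMap_eq (fun x => rfl)
    refine ⟨A', inferInstance, inferInstance, Module.Finite.trans (AdjoinRoot P) A',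
      Module.Free.trans (S := AdjoinRoot P), hnt,
      ⟨ι ⊕ Unit, inferInstance, ⟨Q'.comp (adjoinRootPresentation P)⟩⟩,
      (algebraMap (AdjoinRoot P) A' (AdjoinRoot.root P)) ::ₘ s, ?_⟩
    rw [IsScalarTower.algebraMap_eq A (AdjoinRoot P) A', ← Polynomial.map_map, ← hfac,
      Polynomial.map_mul, hs, Multiset.map_cons, Multiset.prod_cons]
    simp

theorem main (A : Type u) [CommRing A] (P : A[X]) (hP : P.Monic) :
    ∃ (A' : Type u) (_ : CommRing A') (_ : Algebra A A'),
      Synt.IsSyntomic A A' ∧ Module.Finite A A' ∧ Module.Free A A' ∧ Module.FaithfullyFlat A A' ∧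
        ∃ s : Multiset A', P.map (algebraMap A A') = (s.map fun b => X - C b).prod := by
  rcases subsingleton_or_nontrivial A with hA | hA
  · refine ⟨A, inferInstance, Algebra.id A, ?_, inferInstance, inferInstance, inferInstance, 0,
      Subsingleton.elim _ _⟩
    refine ⟨inferInstance, inferInstance, fun p => ?_⟩
    exact (p.2.ne_top (Subsingleton.elim _ _)).elim
  · obtain ⟨A', _, _, hfin, hfree, hnt, ⟨ι, hι, ⟨Q'⟩⟩, s, hs⟩ :=
      exists_splitting P.natDegree A P hP rfl
    exact ⟨A', inferInstance, inferInstance, isSyntomic_of_square_presentation Q', hfin, hfree,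
      inferInstance, s, hs⟩

end split

end Groth.Agent.Lib.Helper26.SyntSq
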