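import Groth.Prelude.Def_W4c5adicflatcomplDec
import Mathlib
import Groth.Agent.Lib.Helper26.FlatKer
import Groth.Agent.Lib.Helper26.DecSum
import Groth.Agent.Lib.Helper26.AdicGen
import Groth.Agent.Lib.Helper26.DecRed2

set_option autoImplicit false
universe u

namespace Groth.Agent.Helper26.SysLim

open W4c5adicflatcompl IsLocalRing

section basic

variable {A : Type u} [CommRing A] (𝔪 : Ideal A)
    (M : ℕ → Type u) [∀ n, AddCommGroup (M n)] [∀ n, Module A (M n)]
    [∀ n, Module (A ⧸ 𝔪 ^ (n + 1)) (M n)]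
    [∀ n, IsScalarTower A (A ⧸ 𝔪 ^ (n + 1)) (M n)]
    (ψ : ∀ n, M (n + 1) →ₗ[A] M n)

/-- `𝔪^(n+1)` kills `M n`. -/
lemma smul_eq_zero_of_mem {n : ℕ} {a : A} (ha : a ∈ 𝔪 ^ (n + 1)) (x : M n) : a • x = 0 := by
  rw [← algebraMap_smul (A ⧸ 𝔪 ^ (n + 1)) a x, Ideal.Quotient.algebraMap_eq,
    Ideal.Quotient.eq_zero_iff_mem.2 ha, zero_smul]

lemma smul_top_eq_bot {n k : ℕ} (hk : n + 1 ≤ k) : (𝔪 ^ k • ⊤ : Submodule A (M n)) = ⊥ := by
  rw [eq_bot_iff, Submodule.smul_le]
  intro a ha x _
  rw [Submodule.mem_bot]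
  exact smul_eq_zero_of_mem 𝔪 M (Ideal.pow_le_pow_right hk ha) x

/-- compatibility in the limit. -/
lemma proj_succ (y : sysLim M ψ) (n : ℕ) :
    ψ n (sysProj M ψ (n + 1) y) = sysProj M ψ n y := y.2 n

lemma proj_eq_zero_of_le (y : sysLim M ψ) {n : ℕ} (hy : sysProj M ψ n y = 0) :
    ∀ j, j ≤ n → sysProj M ψ j y = 0 := by
  induction n with
  | zero => intro j hj; obtain rfl : j = 0 := by omega
            exact hy
  | succ n ih =>
    intro j hj
    rcases Nat.lt_or_ge j (n + 1) with h | h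
    · apply ih _ j (by omega)
      rw [← proj_succ, hy, map_zero]
    · obtain rfl : j = n + 1 := by omega
      exact hy

/-- surjectivity of the projection to level `0`. -/
lemma proj_zero_surjective (hψ : ∀ n, Function.Surjective (ψ n)) :
    Function.Surjective (sysProj M ψ 0) := by
  intro y
  choose σ hσ using hψ
  let fam : ∀ k, M k := fun k => Nat.rec y (fun k xk => σ k xk) k
  have hfam : ∀ k, ψ k (fam (k + 1)) = fam k := fun k => hσ k (fam k)
  exact ⟨⟨fam, hfam⟩, rfl⟩

end basic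

end Groth.Agent.Helper26.SysLim

namespace Groth.Agent.Helper26.SysLim

open W4c5adicflatcompl IsLocalRing

section span

variable {A : Type u} [CommRing A] (𝔪 : Ideal A)
    (M : ℕ → Type u) [∀ n, AddCommGroup (M n)] [∀ n, Module A (M n)]
    [∀ n, Module (A ⧸ 𝔪 ^ (n + 1)) (M n)]
    [∀ n, IsScalarTower A (A ⧸ 𝔪 ^ (n + 1)) (M n)]
    (ψ : ∀ n, M (n + 1) →ₗ[A] M n)

lemma span_eq_top
    (hker : ∀ n, LinearMap.ker (ψ n) = (𝔪 ^ (n + 1) • ⊤ : Submodule A (M (n + 1))))
    {Z : Type u} (x : Z → sysLim M ψ)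
    (h0 : Submodule.span A (Set.range fun z => sysProj M ψ 0 (x z)) = ⊤) :
    ∀ n, Submodule.span A (Set.range fun z => sysProj M ψ n (x z)) = ⊤ := by
  intro n
  induction n with
  | zero => exact h0
  | succ n ih =>
    set N := Submodule.span A (Set.range fun z => sysProj M ψ (n + 1) (x z)) with hN
    have hmap : Submodule.map (ψ n) N = ⊤ := by
      rw [hN, Submodule.map_span, ← Set.range_comp, ← ih]
      congr 2
      funext z
      exact proj_succ M ψ (x z) n
    have ha : N ⊔ (𝔪 ^ (n + 1) • ⊤ : Submodule A (M (n + 1))) = ⊤ := by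
      rw [eq_top_iff]
      intro y _
      have : ψ n y ∈ Submodule.map (ψ n) N := by rw [hmap]; exact Submodule.mem_top
      obtain ⟨y', hy', hyy'⟩ := this
      have hk : y - y' ∈ LinearMap.ker (ψ n) := by
        rw [LinearMap.mem_ker, map_sub, hyy', sub_self]
      rw [hker] at hk
      have : y = y' + (y - y') := by abel
      rw [this]
      exact Submodule.add_mem_sup hy' hk
    have hb : (𝔪 ^ (n + 1) • ⊤ : Submodule A (M (n + 1))) ≤ N := by
      conv_lhs => rw [← ha]
      rw [Submodule.smul_sup, ← Submodule.mul_smul, ← pow_add,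
        smul_top_eq_bot 𝔪 M (by omega : n + 1 + 1 ≤ n + 1 + (n + 1)), sup_bot_eq]
      exact Submodule.smul_le_right
    rw [eq_top_iff, ← ha]
    exact sup_le le_rfl hb

end span

end Groth.Agent.Helper26.SysLim

namespace Groth.Agent.Helper26.SysLim

open W4c5adicflatcompl IsLocalRing

section indep

variable {A : Type u} [CommRing A] (𝔪 : Ideal A)
    (M : ℕ → Type u) [∀ n, AddCommGroup (M n)] [∀ n, Module A (M n)]
    [∀ n, Module (A ⧸ 𝔪 ^ (n + 1)) (M n)]
    [∀ n, IsScalarTower A (A ⧸ 𝔪 ^ (n + 1)) (M n)]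
    (ψ : ∀ n, M (n + 1) →ₗ[A] M n)

lemma mk_smul {n : ℕ} (a : A) (v : M n) :
    (Ideal.Quotient.mk (𝔪 ^ (n + 1)) a) • v = a • v := by
  rw [← Ideal.Quotient.algebraMap_eq, algebraMap_smul]

lemma indep (n : ℕ) [Module.Flat (A ⧸ 𝔪 ^ (n + 1)) (M n)] {Z : Type u} (x : Z → sysLim M ψ)
    (hspan : Submodule.span A (Set.range fun z => sysProj M ψ n (x z)) = ⊤)
    (h0 : ∀ c : Z →₀ A, (c.sum fun z a => a • sysProj M ψ 0 (x z)) = 0 → ∀ z, c z ∈ 𝔪) :
    ∀ c : Z →₀ A, (c.sum fun z a => a • sysProj M ψ n (x z)) = 0 → ∀ z, c z ∈ 𝔪 ^ (n + 1) := by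
  classical
  let R := A ⧸ 𝔪 ^ (n + 1)
  let v : Z → M n := fun z => sysProj M ψ n (x z)
  let θ : (Z →₀ R) →ₗ[R] M n := Finsupp.linearCombination R v
  have hθ : ∀ c : Z →₀ A, θ (c.mapRange (Ideal.Quotient.mk (𝔪 ^ (n + 1))) (map_zero _)) =
      c.sum fun z a => a • v z := by
    intro c
    rw [Finsupp.linearCombination_apply,
      Finsupp.sum_mapRange_index (h := fun z (a : R) => a • v z) (fun z => zero_smul R (v z))]
    apply Finsupp.sum_congr
    intro z _
    exact mk_smul 𝔪 M (c z) (v z)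
  have hlift : ∀ c' : Z →₀ R, ∃ c : Z →₀ A,
      c.mapRange (Ideal.Quotient.mk (𝔪 ^ (n + 1))) (map_zero _) = c' :=
    Finsupp.mapRange_surjective _ (map_zero _) Ideal.Quotient.mk_surjective
  have hsurj : Function.Surjective θ := by
    intro y
    have hy : y ∈ Submodule.span A (Set.range v) := by rw [hspan]; exact Submodule.mem_top
    obtain ⟨c, hc⟩ := Finsupp.mem_span_range_iff_exists_finsupp.1 hy
    exact ⟨_, (hθ c).trans hc⟩
  let 𝔫 : Ideal R := 𝔪.map (Ideal.Quotient.mk (𝔪 ^ (n + 1)))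
  have hK1 : LinearMap.ker θ ≤ (𝔫 • ⊤ : Submodule R (Z →₀ R)) := by
    intro c' hc'
    obtain ⟨c, rfl⟩ := hlift c'
    rw [LinearMap.mem_ker, hθ] at hc'
    -- push down to level 0
    have h1 : sysProj M ψ n (c.sum fun z a => a • x z) = 0 := by
      rw [← hc', Finsupp.sum, map_sum]
      apply Finset.sum_congr rfl
      intro z _
      rw [map_smul]
    have h2 := proj_eq_zero_of_le M ψ _ h1 0 (Nat.zero_le n)
    have h3 : (c.sum fun z a => a • sysProj M ψ 0 (x z)) = 0 := by
      rw [← h2]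
      simp only [Finsupp.sum, map_sum, map_smul]
    have h4 := h0 c h3
    rw [← Finsupp.sum_single (c.mapRange (Ideal.Quotient.mk (𝔪 ^ (n + 1))) (map_zero _))]
    apply Submodule.sum_mem
    intro z _
    have e1 : (Finsupp.single z ((c.mapRange (Ideal.Quotient.mk (𝔪 ^ (n + 1))) (map_zero _)) z) :
        Z →₀ R) = (Ideal.Quotient.mk (𝔪 ^ (n + 1)) (c z)) • Finsupp.single z (1 : R) := by
      rw [Finsupp.smul_single, smul_eq_mul, mul_one, Finsupp.mapRange_apply]
    rw [e1]
    exact Submodule.smul_mem_smul (Ideal.mem_map_of_mem _ (h4 z)) Submodule.mem_top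
  have hK2 : LinearMap.ker θ ≤ 𝔫 • LinearMap.ker θ := by
    intro c' hc'
    exact Groth.Agent.Helper26.FlatKer.ker_inf_smul_le θ hsurj 𝔫 ⟨hc', hK1 hc'⟩
  have hK3 : ∀ j : ℕ, LinearMap.ker θ ≤ (𝔫 ^ j • ⊤ : Submodule R (Z →₀ R)) := by
    intro j
    induction j with
    | zero => rw [pow_zero, Ideal.one_eq_top, Submodule.top_smul]; exact le_top
    | succ j ih =>
      refine hK2.trans ?_
      rw [pow_succ' 𝔫 j, Submodule.mul_smul]
      exact Submodule.smul_mono le_rfl ih
  have hnil : 𝔫 ^ (n + 1) = ⊥ := by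
    simp only [𝔫]
    rw [← Ideal.map_pow, Ideal.map_quotient_self]
  have hK4 : LinearMap.ker θ = ⊥ := by
    rw [eq_bot_iff]
    refine (hK3 (n + 1)).trans ?_
    rw [hnil, Submodule.bot_smul]
  intro c hc z
  have h5 : c.mapRange (Ideal.Quotient.mk (𝔪 ^ (n + 1))) (map_zero _) ∈ LinearMap.ker θ := by
    rw [LinearMap.mem_ker, hθ]
    exact hc
  rw [hK4, Submodule.mem_bot] at h5
  have h6 := DFunLike.congr_fun h5 z
  rw [Finsupp.mapRange_apply, Finsupp.zero_apply] at h6
  exact Ideal.Quotient.eq_zero_iff_mem.1 h6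

end indep

end Groth.Agent.Helper26.SysLim

namespace Groth.Agent.Helper26.SysLim

open W4c5adicflatcompl IsLocalRing Groth.Agent.Helper26.AdicGen

section fsum

variable {A : Type u} [CommRing A] (I : Ideal A) {Z : Type u}
  {N : Type u} [AddCommGroup N] [Module A N] (k : ℕ)
  (hN : ∀ a ∈ I ^ k, ∀ y : N, a • y = 0) (w : Z → N)

include hN in
lemma fsum_supp (g : decaying I Z A) :
    (Function.support fun z => (g : Z → A) z • w z).Finite := by
  refine (g.2 k).subset ?_
  intro z hz hmem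
  apply hz
  rw [smul_top_A] at hmem
  exact hN _ hmem _

/-- finite sums of a decaying family against a family in a module killed by `I^k`. -/
noncomputable def fsum : decaying I Z A →ₗ[A] N where
  toFun g := ∑ᶠ z, (g : Z → A) z • w z
  map_add' g h := by
    rw [← finsum_add_distrib (fsum_supp I k hN w g) (fsum_supp I k hN w h)]
    apply finsum_congr
    intro z
    simp only [Submodule.coe_add, Pi.add_apply, add_smul]
  map_smul' a g := by
    simp only [RingHom.id_apply]
    rw [smul_finsum' a (fsum_supp I k hN w g)]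
    apply finsum_congr
    intro z
    simp only [Submodule.coe_smul, Pi.smul_apply, smul_eq_mul, mul_smul]

lemma fsum_eq_sum (g : decaying I Z A) (S : Finset Z)
    (hS : ∀ z, z ∉ S → (g : Z → A) z ∈ I ^ k) :
    fsum I k hN w g = ∑ z ∈ S, (g : Z → A) z • w z := by
  change ∑ᶠ z, (g : Z → A) z • w z = _
  apply finsum_eq_sum_of_support_subset
  intro z hz
  by_contra hzS
  exact hz (hN _ (hS z hzS) _)

lemma exists_finset (g : decaying I Z A) (k' : ℕ) :
    ∃ S : Finset Z, ∀ z, z ∉ S → (g : Z → A) z ∈ I ^ k' := by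
  classical
  refine ⟨(g.2 k').toFinset, fun z hz => ?_⟩
  by_contra hc
  apply hz
  rw [Set.Finite.mem_toFinset]
  rw [← smul_top_A] at hc
  exact hc

end fsum

end Groth.Agent.Helper26.SysLim

namespace Groth.Agent.Helper26.SysLim

open W4c5adicflatcompl IsLocalRing Groth.Agent.Helper26.AdicGen

section main

variable {A : Type u} [CommRing A] [IsNoetherianRing A] (𝔪 : Ideal A) [𝔪.IsMaximal]
    [IsAdicComplete 𝔪 A]
    (M : ℕ → Type u) [∀ n, AddCommGroup (M n)] [∀ n, Module A (M n)]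
    [∀ n, Module (A ⧸ 𝔪 ^ (n + 1)) (M n)]
    [∀ n, IsScalarTower A (A ⧸ 𝔪 ^ (n + 1)) (M n)]
    [∀ n, Module.Flat (A ⧸ 𝔪 ^ (n + 1)) (M n)]
    (ψ : ∀ n, M (n + 1) →ₗ[A] M n)

theorem main (hψ : ∀ n, Function.Surjective (ψ n))
    (hker : ∀ n, LinearMap.ker (ψ n) = (𝔪 ^ (n + 1) • ⊤ : Submodule A (M (n + 1)))) :
    ∃ (Z : Type u), Nonempty (decaying 𝔪 Z A ≃ₗ[A] sysLim M ψ) ∧
      ∀ n, Function.Surjective (sysProj M ψ n) ∧
        LinearMap.ker (sysProj M ψ n) = (𝔪 ^ (n + 1) • ⊤ : Submodule A (sysLim M ψ)) := by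
  classical
  have hmax : (𝔪 ^ (0 + 1)).IsMaximal := by rw [zero_add, pow_one]; infer_instance
  let _ : Field (A ⧸ 𝔪 ^ (0 + 1)) := Ideal.Quotient.field _
  let Z := Module.Free.ChooseBasisIndex (A ⧸ 𝔪 ^ (0 + 1)) (M 0)
  let b : Module.Basis Z (A ⧸ 𝔪 ^ (0 + 1)) (M 0) := Module.Free.chooseBasis _ _
  choose x hx using fun z : Z => proj_zero_surjective M ψ hψ (b z)
  -- level 0: span and independence
  have h0span : Submodule.span A (Set.range fun z => sysProj M ψ 0 (x z)) = ⊤ := by
    rw [eq_top_iff]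
    intro y _
    choose a ha using fun q : A ⧸ 𝔪 ^ (0 + 1) => Ideal.Quotient.mk_surjective q
    have h1 : y = ∑ z ∈ (b.repr y).support, a ((b.repr y) z) • sysProj M ψ 0 (x z) := by
      conv_lhs => rw [← b.linearCombination_repr y]
      rw [Finsupp.linearCombination_apply, Finsupp.sum]
      apply Finset.sum_congr rfl
      intro z _
      rw [hx, ← mk_smul 𝔪 M, ha]
    rw [h1]
    exact Submodule.sum_mem _ fun z _ =>
      Submodule.smul_mem _ _ (Submodule.subset_span ⟨z, rfl⟩)
  have h0ind : ∀ c : Z →₀ A, (c.sum fun z a => a • sysProj M ψ 0 (x z)) = 0 → ∀ z, c z ∈ 𝔪 := by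
    intro c hc z
    have h1 : ∑ z ∈ c.support, (Ideal.Quotient.mk (𝔪 ^ (0 + 1)) (c z)) • b z = 0 := by
      rw [← hc, Finsupp.sum]
      apply Finset.sum_congr rfl
      intro z _
      rw [hx, mk_smul 𝔪 M]
    have hli := linearIndependent_iff'.1 b.linearIndependent c.support
      (fun z => Ideal.Quotient.mk (𝔪 ^ (0 + 1)) (c z)) h1
    by_cases hz : z ∈ c.support
    · have := Ideal.Quotient.eq_zero_iff_mem.1 (hli z hz)
      rwa [zero_add, pow_one] at this
    · rw [Finsupp.notMem_support_iff.1 hz]; exact Submodule.zero_mem _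
  have hspan := span_eq_top 𝔪 M ψ hker x h0span
  have hind : ∀ n, ∀ c : Z →₀ A, (c.sum fun z a => a • sysProj M ψ n (x z)) = 0 →
      ∀ z, c z ∈ 𝔪 ^ (n + 1) := fun n => indep 𝔪 M ψ n x (hspan n) h0ind
  -- the level maps
  have hkill : ∀ n, ∀ a ∈ 𝔪 ^ (n + 1), ∀ y : M n, a • y = 0 :=
    fun n a ha y => smul_eq_zero_of_mem 𝔪 M ha y
  let lam : ∀ n, decaying 𝔪 Z A →ₗ[A] M n := fun n =>
    fsum 𝔪 (n + 1) (hkill n) (fun z => sysProj M ψ n (x z))
  have hlam : ∀ n (g : decaying 𝔪 Z A) (S : Finset Z),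
      (∀ z, z ∉ S → (g : Z → A) z ∈ 𝔪 ^ (n + 1)) →
      lam n g = ∑ z ∈ S, (g : Z → A) z • sysProj M ψ n (x z) :=
    fun n g S hS => fsum_eq_sum 𝔪 (n + 1) (hkill n) _ g S hS
  have hcompat : ∀ n (g : decaying 𝔪 Z A), ψ n (lam (n + 1) g) = lam n g := by
    intro n g
    obtain ⟨S, hS⟩ := exists_finset 𝔪 g (n + 1 + 1)
    rw [hlam (n + 1) g S hS, hlam n g S (fun z hz => Ideal.pow_le_pow_right (by omega) (hS z hz)),
      map_sum]
    apply Finset.sum_congr rfl
    intro z _
    rw [map_smul, proj_succ]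
  let Φ : decaying 𝔪 Z A →ₗ[A] sysLim M ψ :=
    LinearMap.codRestrict (sysLim M ψ) (LinearMap.pi lam) (fun g n => hcompat n g)
  have hΦ : ∀ n g, sysProj M ψ n (Φ g) = lam n g := fun n g => rfl
  -- key: lam n g = 0 implies all values in 𝔪^(n+1)
  have hzero : ∀ n (g : decaying 𝔪 Z A), lam n g = 0 → ∀ z, (g : Z → A) z ∈ 𝔪 ^ (n + 1) := by
    intro n g hg z
    obtain ⟨S, hS⟩ := exists_finset 𝔪 g (n + 1)
    rw [hlam n g S hS] at hg
    by_cases hz : z ∈ S
    · let c : Z →₀ A := Finsupp.onFinset S (fun z => if z ∈ S then (g : Z → A) z else 0)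
        (fun z hz => by by_contra h; exact hz (if_neg h))
      have hc : (c.sum fun z a => a • sysProj M ψ n (x z)) = 0 := by
        rw [← hg, Finsupp.sum]
        apply Finset.sum_subset_zero_on_sdiff (Finsupp.support_onFinset_subset)
        · intro z hz
          have hzS := (Finset.mem_sdiff.1 hz).1
          have h0 := Finsupp.notMem_support_iff.1 (Finset.mem_sdiff.1 hz).2
          simp only [Finsupp.onFinset_apply, if_pos hzS] at h0
          rw [h0, zero_smul]
        · intro z hz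
          have hzS : z ∈ S := Finsupp.support_onFinset_subset hz
          simp only [c, Finsupp.onFinset_apply, if_pos hzS]
      have := hind n c hc z
      simpa [c, Finsupp.onFinset_apply, if_pos hz] using this
    · exact hS z hz
  have hD : IsHausdorff 𝔪 A := inferInstance
  have hinj : Function.Injective Φ := by
    rw [← LinearMap.ker_eq_bot, LinearMap.ker_eq_bot']
    intro g hg
    apply Subtype.ext
    funext z
    apply hD.haus
    intro n
    rw [SModEq.zero, smul_top_A]
    have h1 : lam n g = 0 := by rw [← hΦ, hg, map_zero]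
    exact Ideal.pow_le_pow_right (Nat.le_succ n) (hzero n g h1 z)
  -- surjectivity
  have hsurj : Function.Surjective Φ := by
    intro y
    have hrep : ∀ n, ∃ c : Z →₀ A, (c.sum fun z a => a • sysProj M ψ n (x z)) = sysProj M ψ n y := by
      intro n
      have hy : sysProj M ψ n y ∈ Submodule.span A (Set.range fun z => sysProj M ψ n (x z)) := by
        rw [hspan n]; exact Submodule.mem_top
      exact Finsupp.mem_span_range_iff_exists_finsupp.1 hy
    choose c hc using hrep
    have hstep : ∀ n z, c (n + 1) z - c n z ∈ 𝔪 ^ (n + 1) := by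
      intro n z
      have h1 : ((c (n + 1) - c n).sum fun z a => a • sysProj M ψ n (x z)) = 0 := by
        rw [Finsupp.sum_sub_index (fun z a a' => sub_smul a a' _), hc n, sub_eq_zero,
          ← proj_succ M ψ y n, ← hc (n + 1)]
        simp only [Finsupp.sum, map_sum, map_smul, proj_succ]
      have := hind n (c (n + 1) - c n) h1 z
      simpa using this
    have hcauchy : ∀ z {a b : ℕ}, a ≤ b → c a z ≡ c b z [SMOD (𝔪 ^ a • ⊤ : Submodule A A)] := by
      intro z a b hab
      induction b, hab using Nat.le_induction with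
      | base => exact SModEq.refl _
      | succ b hab ih =>
        refine ih.trans ?_
        rw [SModEq.sub_mem, smul_top_A, ← neg_sub]
        exact (Ideal.neg_mem_iff _).2 (Ideal.pow_le_pow_right (by omega) (hstep b z))
    have hlim : ∀ z, ∃ L : A, ∀ n, c n z ≡ L [SMOD (𝔪 ^ n • ⊤ : Submodule A A)] :=
      fun z => IsPrecomplete.prec' (fun n => c n z) (fun hab => hcauchy z hab)
    choose g hg using hlim
    have hg' : ∀ n z, g z - c n z ∈ 𝔪 ^ (n + 1) := by
      intro n z
      have h1 := hg z (n + 1)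
      rw [SModEq.sub_mem, smul_top_A] at h1
      have h2 := hstep n z
      have : g z - c n z = -(c (n + 1) z - g z) + (c (n + 1) z - c n z) := by ring
      rw [this]
      exact Ideal.add_mem _ ((Ideal.neg_mem_iff _).2 h1) h2
    have hgdec : g ∈ decaying 𝔪 Z A := by
      rw [mem_decaying_iff]
      intro k
      cases k with
      | zero =>
        convert Set.finite_empty
        ext z
        simp
      | succ n =>
        refine (c n).support.finite_toSet.subset ?_
        intro z hz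
        by_contra hzs
        apply hz
        rw [smul_top_A]
        have := hg' n z
        rwa [Finsupp.notMem_support_iff.1 hzs, sub_zero] at this
    refine ⟨⟨g, hgdec⟩, ?_⟩
    apply Subtype.ext
    funext n
    change sysProj M ψ n (Φ ⟨g, hgdec⟩) = sysProj M ψ n y
    rw [hΦ, ← hc n]
    obtain ⟨S, hS⟩ := exists_finset 𝔪 ⟨g, hgdec⟩ (n + 1)
    have hS' : ∀ z, z ∉ S ∪ (c n).support → g z ∈ 𝔪 ^ (n + 1) := fun z hz =>
      hS z (fun h => hz (Finset.mem_union_left _ h))
    rw [hlam n ⟨g, hgdec⟩ (S ∪ (c n).support) hS', Finsupp.sum]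
    symm
    rw [Finset.sum_subset (Finset.subset_union_right (s₁ := S) (s₂ := (c n).support))
      (fun z _ hz => by rw [Finsupp.notMem_support_iff.1 hz, zero_smul])]
    apply Finset.sum_congr rfl
    intro z _
    rw [← sub_eq_zero, ← sub_smul]
    have := hkill n _ (hg' n z) (sysProj M ψ n (x z))
    rw [← neg_sub, neg_smul, this, neg_zero]
  refine ⟨Z, ⟨LinearEquiv.ofBijective Φ ⟨hinj, hsurj⟩⟩, fun n => ⟨?_, ?_⟩⟩
  · intro y
    obtain ⟨g, rfl⟩ : ∃ c : Z →₀ A, (c.sum fun z a => a • sysProj M ψ n (x z)) = y := by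
      have hy : y ∈ Submodule.span A (Set.range fun z => sysProj M ψ n (x z)) := by
        rw [hspan n]; exact Submodule.mem_top
      exact Finsupp.mem_span_range_iff_exists_finsupp.1 hy
    refine ⟨g.sum fun z a => a • x z, ?_⟩
    simp only [Finsupp.sum, map_sum, map_smul]
  · apply le_antisymm
    · intro y hy
      obtain ⟨g, rfl⟩ := hsurj y
      rw [LinearMap.mem_ker, hΦ] at hy
      have h1 := Groth.Agent.Helper26.DecRed.mem_smul_of_mem 𝔪 Z (n + 1) g (hzero n g hy)
      exact Groth.Agent.Helper26.DecSum.map_mem 𝔪 Φ (n + 1) h1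
    · rw [Submodule.smul_le]
      intro a ha y _
      rw [LinearMap.mem_ker, map_smul]
      exact hkill n a ha _

end main

end Groth.Agent.Helper26.SysLim
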