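import Mathlib
import Groth.Prelude.Def_TorSh
import Groth.Agent.Lib.Helper26.DevI
import Groth.Agent.Lib.Helper26.StalkExt
import Groth.Agent.Lib.Helper26.StalkNbhd
import Groth.Agent.Lib.Helper3.PushStalk
import Groth.Agent.Lib.Helper13.EpiStalk

/-!
# Every coherent module on a Noetherian integral scheme is a quotient of a torsion-free coherent one
-/

set_option autoImplicit false
set_option linter.unusedSectionVars false
set_option linter.style.haveILetI false
set_option linter.unusedVariables false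
universe u
open CategoryTheory CategoryTheory.Limits AlgebraicGeometry Opposite TopologicalSpace
open Groth.Agent.Helper13.QCoh Groth.Agent.Helper13.FinType

namespace Groth.Agent.Helper26.TFCover

variable {Y : Scheme.{u}}

theorem isCoh_structureModule (Y : Scheme.{u}) : Coh.IsCoh (Coh.structureModule Y) :=
  ⟨isQuasicoherent_unit Y, Groth.Agent.Helper26.DevH.isFiniteType_structureModule Y⟩

/-- **local step**: every germ of a coherent module is in the image of a map from an ideal sheaf. -/
theorem exists_ideal_hit [IsNoetherian Y] (F : Y.Modules) (hF : Coh.IsCoh F) (y : Y)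
    (v : F.presheaf.stalk y) :
    ∃ (J : Y.IdealSheafData) (ψ : (Dual3.idealMul J).obj (Coh.structureModule Y) ⟶ F),
      v ∈ Set.range (stalkMap ψ y) := by
  haveI : F.IsQuasicoherent := hF.1
  have hG : Coh.IsCoh (Coh.structureModule Y) := isCoh_structureModule Y
  haveI : (Coh.structureModule Y).IsQuasicoherent := hG.1
  haveI : SheafOfModules.IsFiniteType (R := Y.ringCatSheaf) (Coh.structureModule Y) := hG.2
  -- the stalk map `1 ↦ v`
  set ψ₀ : (Coh.structureModule Y).presheaf.stalk y →ₗ[Y.presheaf.stalk y] F.presheaf.stalk y :=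
    (LinearMap.toSpanSingleton (Y.presheaf.stalk y) (F.presheaf.stalk y) v).comp
      (Groth.Agent.Helper3.PushStalk.unitStalkEquiv Y y).symm.toLinearMap with hψ₀
  have hψ₀one : ψ₀ (Groth.Agent.Helper3.PushStalk.oneGerm Y y) = v := by
    have h1 : (Groth.Agent.Helper3.PushStalk.unitStalkEquiv Y y) 1 =
        Groth.Agent.Helper3.PushStalk.oneGerm Y y := by
      change Groth.Agent.Helper3.PushStalk.unitStalk Y y 1 = _
      rw [Groth.Agent.Helper3.PushStalk.unitStalk, LinearMap.toSpanSingleton_apply, one_smul]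
    rw [hψ₀, LinearMap.comp_apply, ← h1]
    change (LinearMap.toSpanSingleton (Y.presheaf.stalk y) (F.presheaf.stalk y) v)
      ((Groth.Agent.Helper3.PushStalk.unitStalkEquiv Y y).symm
        ((Groth.Agent.Helper3.PushStalk.unitStalkEquiv Y y) 1)) = v
    rw [LinearEquiv.symm_apply_apply, LinearMap.toSpanSingleton_apply, one_smul]
  obtain ⟨U, hy, φ, hφ⟩ :=
    Groth.Agent.Helper26.StalkExt.main_aux F (Coh.structureModule Y) y ψ₀
  -- the ideal of the complement of `U`
  let C : TopologicalSpace.Closeds Y := ⟨(U : Set Y)ᶜ, U.2.isClosed_compl⟩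
  let I : Y.IdealSheafData := Scheme.IdealSheafData.vanishingIdeal C
  have hUI : (U : Set Y) = (I.support : Set Y)ᶜ := by
    rw [Scheme.IdealSheafData.coe_support_vanishingIdeal]
    change (U : Set Y) = ((U : Set Y)ᶜ)ᶜ
    rw [compl_compl]
  obtain ⟨n, ψ, hψ⟩ := Groth.Agent.Helper14.IdealMul.exists_hom_idealMul_pow_restrict_eq I U hUI
    F (Coh.structureModule Y) hF.1 hG φ
  refine ⟨I ^ n, ψ, ?_⟩
  have hι : Function.Bijective
      (stalkMap (Dual3.idealMulι (I ^ n) (Coh.structureModule Y)) y) :=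
    (Groth.Agent.Helper13.GenLoc.isIso_restrict_iff _ U).1
      (Groth.Agent.Helper14.CohLoc.isIso_restrict_idealMulι I U hUI (Coh.structureModule Y) n) y hy
  obtain ⟨a, ha⟩ := hι.2 (Groth.Agent.Helper3.PushStalk.oneGerm Y y)
  refine ⟨a, ?_⟩
  -- transport to the restriction
  set y' : (U : Scheme.{u}) := ⟨y, hy⟩ with hy'
  have hT : Function.Bijective (Groth.Agent.Helper26.StalkNbhd.rIso U
      ((Dual3.idealMul (I ^ n)).obj (Coh.structureModule Y)) y').hom :=
    ConcreteCategory.bijective_of_isIso _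
  obtain ⟨a', ha'⟩ := hT.2 a
  have h1 := Groth.Agent.Helper26.StalkNbhd.stalkMap_restrict_apply U ψ y' a'
  have h2 := Groth.Agent.Helper26.StalkNbhd.stalkMap_restrict_apply U
    (Dual3.idealMulι (I ^ n) (Coh.structureModule Y)) y' a'
  rw [ha'] at h1 h2
  rw [hψ, Groth.Agent.Helper13.PbInv.stalkMap_comp] at h1
  have h3 := hφ (stalkMap ((Scheme.Modules.restrictFunctor U.ι).map
    (Dual3.idealMulι (I ^ n) (Coh.structureModule Y))) y' a')
  refine h1.symm.trans ?_
  refine h3.trans ?_
  rw [← hψ₀one]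
  congr 1
  exact h2.trans ha

section Class

attribute [local instance] CategoryTheory.Abelian.hasFiniteBiproducts

/-- the stalk map as a linear map. -/
noncomputable def lin {M N : Y.Modules} (φ : M ⟶ N) (y : Y) :
    M.presheaf.stalk y →ₗ[Y.presheaf.stalk y] N.presheaf.stalk y where
  toFun := stalkMap φ y
  map_add' := map_add _
  map_smul' := stalkMap_smul φ y

/-- coherent and torsion-free. -/
def TF (T : Y.Modules) : Prop := Coh.IsCoh T ∧ TorSh.IsTorsionFree T

theorem isTorsionFree_structureModule (Z : Scheme.{u}) :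
    TorSh.IsTorsionFree (Coh.structureModule Z) := by
  intro z
  exact Function.Injective.moduleIsTorsionFree
    (Groth.Agent.Helper3.PushStalk.unitStalkEquiv Z z).symm
    (Groth.Agent.Helper3.PushStalk.unitStalkEquiv Z z).symm.injective
    (fun r m => map_smul _ r m)

theorem isTorsionFree_of_mono {M N : Y.Modules} (i : M ⟶ N) [Mono i]
    (hN : TorSh.IsTorsionFree N) : TorSh.IsTorsionFree M := by
  intro z
  haveI := hN z
  exact Function.Injective.moduleIsTorsionFree (stalkMap i z)
    ((mono_iff_stalk_injective i).1 inferInstance z) (stalkMap_smul i z)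

theorem tf_idealMul_unit [IsNoetherian Y] (J : Y.IdealSheafData) :
    TF ((Dual3.idealMul J).obj (Coh.structureModule Y)) :=
  ⟨Groth.Agent.Helper14.CohLoc.isCoh_idealMul J _ (isCoh_structureModule Y),
    isTorsionFree_of_mono (Dual3.idealMulι J (Coh.structureModule Y))
      (isTorsionFree_structureModule Y)⟩

theorem tf_biproduct {r : ℕ} (T : Fin r → Y.Modules) (h : ∀ k, TF (T k)) : TF (⨁ T) := by
  refine ⟨(Groth.Agent.Helper26.DevG.cohSupp_biproduct Set.univ T
    (fun k => ⟨(h k).1, Set.subset_univ _⟩)).1, ?_⟩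
  intro z
  refine ⟨fun a ha w₁ w₂ hw => ?_⟩
  have hk : ∀ k, stalkMap (biproduct.π T k) z w₁ = stalkMap (biproduct.π T k) z w₂ := by
    intro k
    haveI := (h k).2 z
    apply (ha.isSMulRegular : IsSMulRegular ((T k).presheaf.stalk z) a)
    change a • stalkMap (biproduct.π T k) z w₁ = a • stalkMap (biproduct.π T k) z w₂
    rw [← stalkMap_smul, ← stalkMap_smul]
    exact congrArg _ hw
  rw [Groth.Agent.Helper26.DevH.stalk_total T z w₁, Groth.Agent.Helper26.DevH.stalk_total T z w₂]
  exact Finset.sum_congr rfl (fun k _ => by rw [hk k])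

end Class

section Global

attribute [local instance] CategoryTheory.Abelian.hasFiniteBiproducts

variable [IsNoetherian Y]

/-- a torsion-free coherent module mapping onto the stalk at a given point. -/
theorem exists_tf_surjective_at (F : Y.Modules) (hF : Coh.IsCoh F) (y : Y) :
    ∃ (T : Y.Modules) (ψ : T ⟶ F), TF T ∧ Function.Surjective (stalkMap ψ y) := by
  haveI : F.IsQuasicoherent := hF.1
  haveI : SheafOfModules.IsFiniteType (R := Y.ringCatSheaf) F := hF.2
  haveI : Module.Finite (Y.presheaf.stalk y) (F.presheaf.stalk y) :=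
    Groth.Agent.Helper13.LocFree.finite_stalk_of_isFiniteType F y
  obtain ⟨r, s, hs⟩ := Module.Finite.exists_fin (R := Y.presheaf.stalk y)
    (M := F.presheaf.stalk y)
  choose J ψ hψ using fun i => exists_ideal_hit F hF y (s i)
  refine ⟨⨁ (fun i => (Dual3.idealMul (J i)).obj (Coh.structureModule Y)),
    biproduct.desc ψ, tf_biproduct _ (fun i => tf_idealMul_unit (J i)), ?_⟩
  have hrange : LinearMap.range (lin (biproduct.desc ψ) y) = ⊤ := by
    rw [eq_top_iff, ← hs, Submodule.span_le]
    rintro _ ⟨i, rfl⟩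
    obtain ⟨t, ht⟩ := hψ i
    refine ⟨stalkMap (biproduct.ι _ i) y t, ?_⟩
    change stalkMap (biproduct.desc ψ) y (stalkMap (biproduct.ι _ i) y t) = s i
    rw [← Groth.Agent.Helper13.PbInv.stalkMap_comp, biproduct.ι_desc, ht]
  intro m
  have hm : m ∈ LinearMap.range (lin (biproduct.desc ψ) y) := by rw [hrange]; trivial
  obtain ⟨t, ht⟩ := hm
  exact ⟨t, ht⟩

/-- surjectivity on stalks spreads to a neighbourhood. -/
theorem exists_nbhd_surjective (F : Y.Modules) (hF : Coh.IsCoh F) {T : Y.Modules}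
    (hT : Coh.IsCoh T) (ψ : T ⟶ F) (y : Y) (h : Function.Surjective (stalkMap ψ y)) :
    ∃ V : Y.Opens, y ∈ V ∧ ∀ z ∈ V, Function.Surjective (stalkMap ψ z) := by
  haveI : F.IsQuasicoherent := hF.1
  haveI : SheafOfModules.IsFiniteType (R := Y.ringCatSheaf) F := hF.2
  haveI : T.IsQuasicoherent := hT.1
  haveI : (cokernel ψ : Y.Modules).IsQuasicoherent :=
    Groth.Agent.Helper13.QCohLocal.isQuasicoherent_cokernel ψ
  haveI : SheafOfModules.IsFiniteType (R := Y.ringCatSheaf) (cokernel ψ : Y.Modules) :=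
    isFiniteType_of_epi (cokernel.π ψ)
  have h0 : Subsingleton ((cokernel ψ : Y.Modules).presheaf.stalk y) := by
    have := Groth.Agent.Helper26.DevI.notMem_support_cokernel ψ y h
    by_contra hn
    exact this hn
  obtain ⟨V, hyV, hV⟩ := Groth.Agent.Helper26.StalkNbhd.exists_zero_nbhd (cokernel ψ) y h0
  exact ⟨V, hyV, fun z hz =>
    Groth.Agent.Helper26.StalkNbhd.surjective_of_cokernel_stalk ψ z (hV z hz)⟩

theorem exists_tf_epi (F : Y.Modules) (hF : Coh.IsCoh F) :
    ∃ (T : Y.Modules) (π : T ⟶ F), TF T ∧ Epi π := by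
  classical
  choose T ψ hT hψ using fun y => exists_tf_surjective_at F hF y
  choose V hyV hV using fun y => exists_nbhd_surjective F hF (hT y).1 (ψ y) y (hψ y)
  obtain ⟨t, ht⟩ := isCompact_univ.elim_finite_subcover (fun y => (V y : Set Y))
    (fun y => (V y).2) (fun z _ => Set.mem_iUnion.2 ⟨z, hyV z⟩)
  let e : Fin t.card ≃ t := t.equivFin.symm
  refine ⟨⨁ (fun k => T (e k).1), biproduct.desc (fun k => ψ (e k).1),
    tf_biproduct _ (fun k => hT _), ?_⟩
  apply Groth.Agent.Helper13.FinType.epi_of_stalkMap_surjective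
  intro z m
  obtain ⟨y, hy, hz⟩ : ∃ y ∈ t, z ∈ (V y : Set Y) := by
    have := ht (Set.mem_univ z)
    simpa using this
  obtain ⟨k, hk⟩ : ∃ k, (e k).1 = y := ⟨e.symm ⟨y, hy⟩, by simp⟩
  obtain ⟨t', ht'⟩ := hV y z hz m
  subst hk
  refine ⟨stalkMap (biproduct.ι (fun k => T (e k).1) k) z t', ?_⟩
  rw [← Groth.Agent.Helper13.PbInv.stalkMap_comp, biproduct.ι_desc, ht']

theorem main14989 (Y : Scheme.{u}) [IsNoetherian Y] [IsIntegral Y]
    (F : Y.Modules) (hF : Coh.IsCoh F) :
    ∃ (F' : Y.Modules) (π : F' ⟶ F), Coh.IsCoh F' ∧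
      (∀ y : Y, NoZeroSMulDivisors ↥(Y.presheaf.stalk y) ↥(F'.presheaf.stalk y)) ∧ Epi π := by
  obtain ⟨T, π, hT, hπ⟩ := exists_tf_epi F hF
  refine ⟨T, π, hT.1, fun y => ?_, hπ⟩
  haveI := hT.2 y
  refine ⟨fun {c x} hcx => ?_⟩
  by_cases hc : c = 0
  · exact Or.inl hc
  · right
    exact ((IsRegular.of_ne_zero hc).isSMulRegular :
      IsSMulRegular (T.presheaf.stalk y) c).right_eq_zero_of_smul hcx

end Global

end Groth.Agent.Helper26.TFCover
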