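import Mathlib
import Groth.Prelude.Def_FlatMod2
import Groth.Prelude.Def_CohB1
import Groth.Agent.Lib.Helper12.FlatModBC3
import Groth.Agent.Lib.Helper13.TensorStalk
import Groth.Agent.Lib.Helper26.FFRel

set_option autoImplicit false
set_option linter.style.haveILetI false
universe u
open CategoryTheory CategoryTheory.Limits AlgebraicGeometry TensorProduct IsLocalRing

namespace Groth.Agent.Helper26.TenFlat

open Groth.Agent.Helper12.FlatModBC

section alg

variable {D A' B' K L T N' : Type u} [CommRing D] [CommRing A'] [CommRing B']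
  [AddCommGroup K] [Module B' K] [AddCommGroup L] [Module B' L] [AddCommGroup T] [Module B' T]
  [AddCommGroup N'] [Module A' N']

/-- flatness of `K ⊗ L` over `D` from flatness of `K` over `A'` and of `N'` over `D`,
where `L = B' ⊗[A'] N'`. -/
theorem flat_tensor_stalks (δ : D →+* A') (α' : A' →+* B') (χ : D →+* B') (hχ : χ = α'.comp δ)
    (e₃ : K ⊗[B'] L ≃ₗ[B'] T)
    (e₂ : letI := α'.toAlgebra
      L ≃ₗ[B'] B' ⊗[A'] N')
    (hK : @Module.Flat A' K _ _ (Module.compHom K α'))
    (hN : @Module.Flat D N' _ _ (Module.compHom N' δ)) :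
    @Module.Flat D T _ _ (Module.compHom T χ) := by
  subst hχ
  letI : Algebra A' B' := α'.toAlgebra
  letI : Algebra D A' := δ.toAlgebra
  letI : Algebra D B' := (α'.comp δ).toAlgebra
  haveI : IsScalarTower D A' B' := IsScalarTower.of_algebraMap_eq fun r => rfl
  letI : Module A' K := Module.compHom K α'
  haveI : IsScalarTower A' B' K := IsScalarTower.of_algebraMap_smul fun r x => rfl
  letI : Module D K := Module.compHom K (α'.comp δ)
  haveI : IsScalarTower D B' K := IsScalarTower.of_algebraMap_smul fun r x => rfl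
  haveI : IsScalarTower D A' K := IsScalarTower.of_algebraMap_smul fun r x => rfl
  letI : Module D N' := Module.compHom N' δ
  haveI : IsScalarTower D A' N' := IsScalarTower.of_algebraMap_smul fun r x => rfl
  letI : Module D T := Module.compHom T (α'.comp δ)
  haveI : IsScalarTower D B' T := IsScalarTower.of_algebraMap_smul fun r x => rfl
  haveI : Module.Flat A' K := hK
  haveI : Module.Flat D N' := hN
  have h1 : Module.Flat D (K ⊗[A'] N') := flat_tensor_of_flat N' K
  let c : K ⊗[B'] (B' ⊗[A'] N') ≃ₗ[B'] K ⊗[A'] N' :=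
    TensorProduct.AlgebraTensorModule.cancelBaseChange A' B' B' K N'
  let E : T ≃ₗ[B'] K ⊗[A'] N' := e₃.symm ≪≫ₗ (LinearEquiv.lTensor K e₂) ≪≫ₗ c
  exact Module.Flat.of_linearEquiv (E.restrictScalars D)

end alg

section sch

variable {X S X' S' Z : Scheme.{u}} {f : X ⟶ S} {f' : X' ⟶ S'} {g' : X' ⟶ X} {g : S' ⟶ S}

theorem isFlatOverAt_tensor (hc : IsPullback g' f' f g) (h : S' ⟶ Z)
    (F : X.Modules) [F.IsQuasicoherent] (G : S'.Modules) [G.IsQuasicoherent] (x' : X')
    (hF : FlatMod.IsFlatOverAt f F (g' x')) (hG : FlatMod.IsFlatOverAt h G (f' x')) :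
    FlatMod.IsFlatOverAt (f' ≫ h) (CohB1.tensorMod ((Scheme.Modules.pullback g').obj F)
      ((Scheme.Modules.pullback f').obj G)) x' := by
  obtain ⟨e₂⟩ := Groth.Agent.Helper13.Pullback.exists_stalk_pullback_equiv f' G x'
  exact flat_tensor_stalks (h.stalkMap (f' x')).hom (f'.stalkMap x').hom
    ((f' ≫ h).stalkMap x').hom (Groth.Agent.Helper26.FFRel.stalkMap_comp_hom f' h x')
    (Groth.Agent.Helper13.Tensor.stalkTensorEquiv ((Scheme.Modules.pullback g').obj F)
      ((Scheme.Modules.pullback f').obj G) x') e₂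
    (isFlatOverAt_baseChange hc F x' hF) hG

theorem main {X Y Y' Z : Scheme.{u}} (f : X ⟶ Y) (g : Y' ⟶ Y) (h : Y' ⟶ Z)
    (F : X.Modules) (hF : Coh.IsQCoh F) (G' : Y'.Modules) (hG' : Coh.IsQCoh G') (x' : ↥(pullback f g))
    (hFx : FlatMod.IsFlatOverAt f F (pullback.fst f g x')) (hGy : FlatMod.IsFlatOverAt h G' (pullback.snd f g x')) :
    FlatMod.IsFlatOverAt (pullback.snd f g ≫ h) (CohB1.tensorMod ((Scheme.Modules.pullback (pullback.fst f g)).obj F) ((Scheme.Modules.pullback (pullback.snd f g)).obj G')) x' := by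
  haveI : F.IsQuasicoherent := hF
  haveI : G'.IsQuasicoherent := hG'
  exact isFlatOverAt_tensor (IsPullback.of_hasPullback f g) h F G' x' hFx hGy

end sch

end Groth.Agent.Helper26.TenFlat
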