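import Mathlib
import Groth.Prelude.Def_FlatMod2
import Groth.Prelude.Def_CohB1
import Groth.Agent.Lib.Helper12.FlatModBC3
import Groth.Agent.Lib.Helper13.TensorStalk
import Groth.Agent.Lib.Helper26.FFRel
import Groth.Agent.Lib.Helper26.FFPull
import Groth.Agent.Lib.Helper26.TenFlat

set_option autoImplicit false
set_option linter.style.haveILetI false
set_option linter.unusedSectionVars false
universe u
open CategoryTheory CategoryTheory.Limits AlgebraicGeometry TensorProduct IsLocalRing

namespace Groth.Agent.Helper26.TenFF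

open Groth.Agent.Helper12.FlatModBC

section alg1

variable {D A' : Type u} [CommRing D] [CommRing A'] [Algebra D A']
  (K : Type u) [AddCommGroup K] [Module A' K] [Module D K] [IsScalarTower D A' K]
  (N' : Type u) [AddCommGroup N'] [Module A' N'] [Module D N'] [IsScalarTower D A' N']

/-- descent of flatness over `D` along a faithfully flat `A'`-module `K`. -/
theorem flat_of_flat_tensor_faithfullyFlat [Module.FaithfullyFlat A' K]
    [Module.Flat D (K ⊗[A'] N')] : Module.Flat D N' := by
  rw [Module.Flat.iff_lTensor_preserves_injective_linearMap]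
  intro P Q _ _ _ _ f hf
  let f' : N' ⊗[D] P →ₗ[A'] N' ⊗[D] Q := TensorProduct.AlgebraTensorModule.lTensor A' N' f
  change Function.Injective f'
  rw [← Module.FaithfullyFlat.lTensor_injective_iff_injective A' K]
  have h1 : Function.Injective (LinearMap.lTensor (K ⊗[A'] N') f) :=
    Module.Flat.lTensor_preserves_injective_linearMap f hf
  have key : (LinearMap.lTensor K f').restrictScalars D =
      ((TensorProduct.AlgebraTensorModule.assoc D A' A' K N' Q).toLinearMap.restrictScalars D) ∘ₗ
        (LinearMap.lTensor (K ⊗[A'] N') f) ∘ₗ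
        ((TensorProduct.AlgebraTensorModule.assoc D A' A' K N' P).symm.toLinearMap.restrictScalars D) := by
    apply LinearMap.ext
    intro z
    induction z with
    | zero => simp
    | add a b ha hb => simp only [map_add, ha, hb]
    | tmul b x =>
      induction x with
      | zero => simp
      | add a b ha hb => simp only [tmul_add, map_add, ha, hb]
      | tmul m p => simp [f']
  have h2 : Function.Injective ((LinearMap.lTensor K f').restrictScalars D) := by
    rw [key]
    simp only [LinearMap.coe_comp, LinearMap.coe_restrictScalars]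
    exact (LinearEquiv.injective _).comp (h1.comp (LinearEquiv.injective _))
  exact h2

/-- non-vanishing of the fibre passes to `K ⊗ N'` for `K` faithfully flat. -/
theorem smul_top_tensor_ne_top [Module.FaithfullyFlat A' K] (I : Ideal D)
    (h : I • (⊤ : Submodule D N') ≠ ⊤) : I • (⊤ : Submodule D (K ⊗[A'] N')) ≠ ⊤ := by
  intro htop
  apply h
  -- the `A'`-submodule `(I A') N'`
  let W : Submodule A' N' := (I.map (algebraMap D A')) • (⊤ : Submodule A' N')
  have hρ : ∀ t : K ⊗[A'] N', (LinearMap.lTensor K W.mkQ) t = 0 := by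
    intro t
    have ht : t ∈ I • (⊤ : Submodule D (K ⊗[A'] N')) := by rw [htop]; trivial
    refine Submodule.smul_induction_on ht ?_ ?_
    · intro d hd t' ht'
      clear ht'
      induction t' with
      | zero => simp
      | add a b ha hb => rw [smul_add, map_add, ha, hb, add_zero]
      | tmul k n =>
        rw [TensorProduct.smul_tmul', TensorProduct.smul_tmul, LinearMap.lTensor_tmul]
        have : W.mkQ (d • n) = 0 := by
          rw [Submodule.mkQ_apply, Submodule.Quotient.mk_eq_zero, ← algebraMap_smul A' d n]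
          exact Submodule.smul_mem_smul (Ideal.mem_map_of_mem _ hd) trivial
        rw [this, TensorProduct.tmul_zero]
    · intro a b ha hb
      rw [map_add, ha, hb, add_zero]
  have hsub : Subsingleton (K ⊗[A'] (N' ⧸ W)) := by
    refine ⟨fun x y => ?_⟩
    suffices h0 : ∀ z : K ⊗[A'] (N' ⧸ W), z = 0 by rw [h0 x, h0 y]
    intro z
    obtain ⟨t, rfl⟩ := LinearMap.lTensor_surjective K (Submodule.mkQ_surjective W) z
    exact hρ t
  have hN : Subsingleton (N' ⧸ W) :=
    Module.FaithfullyFlat.lTensor_reflects_triviality A' K (N' ⧸ W)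
  have hW : W = ⊤ := Submodule.Quotient.subsingleton_iff.1 hN
  -- back to `D`
  rw [eq_top_iff]
  intro n _
  have hn : n ∈ W := by rw [hW]; trivial
  let J : Ideal A' :=
    { carrier := {i | ∀ m : N', i • m ∈ I • (⊤ : Submodule D N')}
      zero_mem' := fun m => by rw [zero_smul]; exact zero_mem _
      add_mem' := fun {i j} hi hj m => by rw [add_smul]; exact add_mem (hi m) (hj m)
      smul_mem' := fun c i hi m => by
        change (c * i) • m ∈ _
        rw [mul_comm, mul_smul]
        exact hi (c • m) }
  have hJ : I.map (algebraMap D A') ≤ J := by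
    rw [Ideal.map_le_iff_le_comap]
    intro a ha m
    rw [algebraMap_smul]
    exact Submodule.smul_mem_smul ha trivial
  refine Submodule.smul_induction_on hn ?_ ?_
  · intro i hi m _
    exact hJ hi m
  · intro a b ha hb
    exact add_mem ha hb

/-- conversely, non-vanishing of the fibre of `K ⊗ N'` implies that of `N'`. -/
theorem smul_top_ne_top_of_tensor (I : Ideal D)
    (h : I • (⊤ : Submodule D (K ⊗[A'] N')) ≠ ⊤) : I • (⊤ : Submodule D N') ≠ ⊤ := by
  intro htop
  apply h
  rw [eq_top_iff]
  intro t ht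
  clear ht
  induction t with
  | zero => exact zero_mem _
  | add a b ha hb => exact add_mem ha hb
  | tmul k n =>
    have hn : n ∈ I • (⊤ : Submodule D N') := by rw [htop]; trivial
    refine Submodule.smul_induction_on hn ?_ ?_
    · intro d hd m _
      rw [← TensorProduct.smul_tmul, ← TensorProduct.smul_tmul']
      exact Submodule.smul_mem_smul hd trivial
    · intro a b ha hb
      rw [TensorProduct.tmul_add]
      exact add_mem ha hb

end alg1

section alg2

theorem smul_top_eq_top_of_equiv {R M M' : Type*} [CommRing R] [AddCommGroup M] [AddCommGroup M']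
    [Module R M] [Module R M'] (e : M ≃ₗ[R] M') (I : Ideal R)
    (h : I • (⊤ : Submodule R M) = ⊤) : I • (⊤ : Submodule R M') = ⊤ := by
  rw [eq_top_iff]
  intro t _
  have ht : e.symm t ∈ I • (⊤ : Submodule R M) := by rw [h]; trivial
  have : e (e.symm t) ∈ I • (⊤ : Submodule R M') := by
    refine Submodule.smul_induction_on ht ?_ ?_
    · intro i hi m _
      rw [map_smul]
      exact Submodule.smul_mem_smul hi trivial
    · intro a b ha hb
      rw [map_add]
      exact add_mem ha hb
  rwa [LinearEquiv.apply_symm_apply] at this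

variable {D A' B' K L T N' : Type u} [CommRing D] [CommRing A'] [CommRing B'] [IsLocalRing A']
  [AddCommGroup K] [Module B' K] [AddCommGroup L] [Module B' L] [AddCommGroup T] [Module B' T]
  [AddCommGroup N'] [Module A' N']

/-- non-vanishing of `M / I M` for the module structure restricted along `ψ`. -/
def NV {A B : Type*} [CommRing A] [CommRing B] (ψ : A →+* B) (I : Ideal A) (M : Type*)
    [AddCommGroup M] [Module B M] : Prop :=
  letI := Module.compHom M ψ
  I • (⊤ : Submodule A M) ≠ ⊤

theorem package (δ : D →+* A') (α' : A' →+* B') (χ : D →+* B') (hχ : χ = α'.comp δ)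
    (e₃ : K ⊗[B'] L ≃ₗ[B'] T)
    (e₂ : letI := α'.toAlgebra
      L ≃ₗ[B'] B' ⊗[A'] N')
    (hK : @Module.Flat A' K _ _ (Module.compHom K α')) :
    (NV α' (maximalIdeal A') K →
      @Module.Flat D T _ _ (Module.compHom T χ) → @Module.Flat D N' _ _ (Module.compHom N' δ)) ∧
    (∀ I : Ideal D, NV α' (maximalIdeal A') K → NV δ I N' → NV χ I T) ∧
    (∀ I : Ideal D, NV χ I T → NV δ I N') := by
  subst hχ
  letI : Algebra A' B' := α'.toAlgebra
  letI : Algebra D A' := δ.toAlgebra
  letI : Algebra D B' := (α'.comp δ).toAlgebra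
  haveI : IsScalarTower D A' B' := IsScalarTower.of_algebraMap_eq fun r => rfl
  letI : Module A' K := Module.compHom K α'
  haveI : IsScalarTower A' B' K := IsScalarTower.of_algebraMap_smul fun r x => rfl
  letI : Module D K := Module.compHom K (α'.comp δ)
  haveI : IsScalarTower D B' K := IsScalarTower.of_algebraMap_smul fun r x => rfl
  haveI : IsScalarTower D A' K := IsScalarTower.of_algebraMap_smul fun r x => rfl
  letI : Module D N' := Module.compHom N' δ
  haveI : IsScalarTower D A' N' := IsScalarTower.of_algebraMap_smul fun r x => rfl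
  letI : Module D T := Module.compHom T (α'.comp δ)
  haveI : IsScalarTower D B' T := IsScalarTower.of_algebraMap_smul fun r x => rfl
  haveI : Module.Flat A' K := hK
  let c : K ⊗[B'] (B' ⊗[A'] N') ≃ₗ[B'] K ⊗[A'] N' :=
    TensorProduct.AlgebraTensorModule.cancelBaseChange A' B' B' K N'
  let E : T ≃ₗ[B'] K ⊗[A'] N' := e₃.symm ≪≫ₗ (LinearEquiv.lTensor K e₂) ≪≫ₗ c
  let ED : T ≃ₗ[D] K ⊗[A'] N' := E.restrictScalars D
  have hff : maximalIdeal A' • (⊤ : Submodule A' K) ≠ ⊤ → Module.FaithfullyFlat A' K := by
    intro hne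
    exact { toFlat := hK
            submodule_ne_top := fun m hm => by rw [IsLocalRing.eq_maximalIdeal hm]; exact hne }
  refine ⟨fun hne hT => ?_, fun I hne hN hT => ?_, fun I hT hN => ?_⟩
  · haveI := hff hne
    haveI : Module.Flat D T := hT
    haveI : Module.Flat D (K ⊗[A'] N') := Module.Flat.of_linearEquiv ED.symm
    exact flat_of_flat_tensor_faithfullyFlat (A' := A') K N'
  · haveI := hff hne
    exact smul_top_tensor_ne_top (A' := A') K N' I hN (smul_top_eq_top_of_equiv ED I hT)
  · apply hT
    by_contra hT'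
    exact smul_top_ne_top_of_tensor (A' := A') K N' I
      (fun h => hT' (smul_top_eq_top_of_equiv ED.symm I h)) hN

end alg2

section sch

open Groth.Agent.Helper26.FFPull Groth.Agent.Helper26.TenFlat

variable {X S X' S' Z : Scheme.{u}} {f : X ⟶ S} {f' : X' ⟶ S'} {g' : X' ⟶ X} {g : S' ⟶ S}

theorem package_sch (hc : IsPullback g' f' f g) (h : S' ⟶ Z)
    (F : X.Modules) [F.IsQuasicoherent] (G : S'.Modules) [G.IsQuasicoherent] (x' : X')
    (hF : FlatMod.IsFlatOverAt f F (g' x')) :
    (NV (f'.stalkMap x').hom (maximalIdeal (S'.presheaf.stalk (f' x')))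
        (((Scheme.Modules.pullback g').obj F).presheaf.stalk x') →
      FlatMod.IsFlatOverAt (f' ≫ h) (CohB1.tensorMod ((Scheme.Modules.pullback g').obj F)
        ((Scheme.Modules.pullback f').obj G)) x' → FlatMod.IsFlatOverAt h G (f' x')) ∧
    (∀ I : Ideal (Z.presheaf.stalk (h (f' x'))),
      NV (f'.stalkMap x').hom (maximalIdeal (S'.presheaf.stalk (f' x')))
        (((Scheme.Modules.pullback g').obj F).presheaf.stalk x') →
      NV (h.stalkMap (f' x')).hom I (G.presheaf.stalk (f' x')) →
      NV ((f' ≫ h).stalkMap x').hom I ((CohB1.tensorMod ((Scheme.Modules.pullback g').obj F)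
        ((Scheme.Modules.pullback f').obj G)).presheaf.stalk x')) ∧
    (∀ I : Ideal (Z.presheaf.stalk (h (f' x'))),
      NV ((f' ≫ h).stalkMap x').hom I ((CohB1.tensorMod ((Scheme.Modules.pullback g').obj F)
        ((Scheme.Modules.pullback f').obj G)).presheaf.stalk x') →
      NV (h.stalkMap (f' x')).hom I (G.presheaf.stalk (f' x'))) := by
  obtain ⟨e₂⟩ := Groth.Agent.Helper13.Pullback.exists_stalk_pullback_equiv f' G x'
  exact package (h.stalkMap (f' x')).hom (f'.stalkMap x').hom
    ((f' ≫ h).stalkMap x').hom (Groth.Agent.Helper26.FFRel.stalkMap_comp_hom f' h x')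
    (Groth.Agent.Helper13.Tensor.stalkTensorEquiv ((Scheme.Modules.pullback g').obj F)
      ((Scheme.Modules.pullback f').obj G) x') e₂
    (isFlatOverAt_baseChange hc F x' hF)

theorem main {X Y Y' Z : Scheme.{u}} (f : X ⟶ Y) (g : Y' ⟶ Y)
    (h : Y' ⟶ Z) (F : X.Modules) (hF : Coh.IsQCoh F) (hFfl : FlatMod.IsFlatOver f F)
    (hFff : ∀ y : ↥Y, ∃ x : ↥X, f x = y ∧
      letI := FlatMod.moduleStalkOver f F x
      IsLocalRing.maximalIdeal (Y.presheaf.stalk (f x)) • (⊤ : Submodule (Y.presheaf.stalk (f x)) (F.presheaf.stalk x)) ≠ ⊤)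
    (G' : Y'.Modules) (hG' : Coh.IsQCoh G') :
    (FlatMod.IsFlatOver h G' ↔ FlatMod.IsFlatOver (pullback.snd f g ≫ h) (CohB1.tensorMod ((Scheme.Modules.pullback (pullback.fst f g)).obj F) ((Scheme.Modules.pullback (pullback.snd f g)).obj G'))) ∧
    ((FlatMod.IsFlatOver h G' ∧ ∀ z : ↥Z, ∃ y' : ↥Y', h y' = z ∧
        letI := FlatMod.moduleStalkOver h G' y'
        IsLocalRing.maximalIdeal (Z.presheaf.stalk (h y')) • (⊤ : Submodule (Z.presheaf.stalk (h y')) (G'.presheaf.stalk y')) ≠ ⊤) ↔
      (FlatMod.IsFlatOver (pullback.snd f g ≫ h) (CohB1.tensorMod ((Scheme.Modules.pullback (pullback.fst f g)).obj F) ((Scheme.Modules.pullback (pullback.snd f g)).obj G')) ∧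
        ∀ z : ↥Z, ∃ x' : ↥(pullback f g), (pullback.snd f g ≫ h) x' = z ∧
          letI := FlatMod.moduleStalkOver (pullback.snd f g ≫ h) (CohB1.tensorMod ((Scheme.Modules.pullback (pullback.fst f g)).obj F) ((Scheme.Modules.pullback (pullback.snd f g)).obj G')) x'
          IsLocalRing.maximalIdeal (Z.presheaf.stalk ((pullback.snd f g ≫ h) x')) •
            (⊤ : Submodule (Z.presheaf.stalk ((pullback.snd f g ≫ h) x')) ((CohB1.tensorMod ((Scheme.Modules.pullback (pullback.fst f g)).obj F) ((Scheme.Modules.pullback (pullback.snd f g)).obj G')).presheaf.stalk x')) ≠ ⊤)) := by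
  haveI : F.IsQuasicoherent := hF
  haveI : G'.IsQuasicoherent := hG'
  have hc : IsPullback (pullback.fst f g) (pullback.snd f g) f g := IsPullback.of_hasPullback f g
  -- every point of `Y'` lifts to a point of the fibre product with non-vanishing fibre
  have hlift : ∀ y' : Y', ∃ x' : ↥(pullback f g), pullback.snd f g x' = y' ∧
      NV ((pullback.snd f g).stalkMap x').hom
        (maximalIdeal (Y'.presheaf.stalk (pullback.snd f g x')))
        (((Scheme.Modules.pullback (pullback.fst f g)).obj F).presheaf.stalk x') := by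
    intro y'
    obtain ⟨x, hx, hne⟩ := hFff (g y')
    obtain ⟨x', rfl, rfl⟩ := Scheme.Pullback.exists_preimage_pullback x y' hx
    exact ⟨x', rfl, fibre_ne_top_baseChange hc F x' hne⟩
  have part1 : FlatMod.IsFlatOver h G' ↔ FlatMod.IsFlatOver (pullback.snd f g ≫ h)
      (CohB1.tensorMod ((Scheme.Modules.pullback (pullback.fst f g)).obj F)
        ((Scheme.Modules.pullback (pullback.snd f g)).obj G')) := by
    constructor
    · intro hG x'
      exact isFlatOverAt_tensor hc h F G' x' (hFfl _) (hG _)
    · intro hT y'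
      obtain ⟨x', rfl, hnv⟩ := hlift y'
      exact (package_sch hc h F G' x' (hFfl _)).1 hnv (hT x')
  refine ⟨part1, ?_⟩
  constructor
  · rintro ⟨hG, hnvG⟩
    refine ⟨part1.1 hG, fun z => ?_⟩
    obtain ⟨y', rfl, hy'⟩ := hnvG z
    obtain ⟨x', rfl, hnv⟩ := hlift y'
    exact ⟨x', rfl, (package_sch hc h F G' x' (hFfl _)).2.1 _ hnv hy'⟩
  · rintro ⟨hT, hnvT⟩
    refine ⟨part1.2 hT, fun z => ?_⟩
    obtain ⟨x', rfl, hx'⟩ := hnvT z
    exact ⟨pullback.snd f g x', rfl, (package_sch hc h F G' x' (hFfl _)).2.2 _ hx'⟩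

end sch

end Groth.Agent.Helper26.TenFF
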