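import Mathlib

universe u

namespace Groth.Agent.Lib.Helper26.Theta

open Function

section burnside

theorem burnside_alg {A V : Type*} (k : Type*) [Field k] [Ring A] [Algebra k A] [AddCommGroup V]
    [Module k V] [Module A V] [IsScalarTower k A V] [IsSimpleModule A V] [FiniteDimensional k V]
    [IsAlgClosed k] (T : V →ₗ[k] V) : ∃ a : A, ∀ v, T v = a • v := by
  have hb := IsSimpleModule.algebraMap_end_bijective_of_isAlgClosed (A := A) (V := V) k
  have : Module.Finite (Module.End A V) V := Module.Finite.of_restrictScalars_finite k _ V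
  let f : Module.End (Module.End A V) V :=
    { toFun := T
      map_add' := T.map_add
      map_smul' := fun φ v => by
        obtain ⟨c, rfl⟩ := hb.2 φ
        simp }
  obtain ⟨a, ha⟩ := Module.Finite.toModuleEnd_moduleEnd_surjective (R := A) (M := V) f
  exact ⟨a, fun v => (congr($ha v)).symm⟩

variable {k : Type*} [Field k] [IsAlgClosed k] {G : Type*} [Group G] {V : Type*} [AddCommGroup V]
  [Module k V] [FiniteDimensional k V]

set_option backward.isDefEq.respectTransparency false in
theorem burnside (ρ : Representation k G V) (hirr : ρ.IsIrreducible) (T : V →ₗ[k] V) :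
    T ∈ Submodule.span k (Set.range ρ) := by
  have : FiniteDimensional k ρ.asModule := inferInstanceAs (FiniteDimensional k V)
  obtain ⟨a, ha⟩ := burnside_alg (A := MonoidAlgebra k G) (V := ρ.asModule) k
    (T : ρ.asModule →ₗ[k] ρ.asModule)
  have hT : T = Representation.asAlgebraHom ρ a := by
    refine LinearMap.ext fun v => ?_
    exact ha v
  rw [hT, Representation.asAlgebraHom_def, MonoidAlgebra.lift_apply]
  apply Submodule.sum_mem
  intro g _
  exact Submodule.smul_mem _ _ (Submodule.subset_span ⟨g, rfl⟩)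

end burnside


section pairing

variable {k : Type u} [Field k] {Γ : Type u} [Group Γ] (ι : kˣ →* Γ)

/-- the hypotheses on the theta group -/
structure Hyp : Prop where
  inj : Injective ι
  cent : ι.range = Subgroup.center Γ
  comm : commutator Γ ≤ ι.range

variable {ι} (H : Hyp ι)
include H

theorem Hyp.central (z : kˣ) (γ : Γ) : ι z * γ = γ * ι z := by
  have : ι z ∈ Subgroup.center Γ := H.cent ▸ ⟨z, rfl⟩
  exact (Subgroup.mem_center_iff.mp this γ).symm

theorem Hyp.exists_comm (g h : Γ) : ∃ z : kˣ, ι z = g * h * g⁻¹ * h⁻¹ := by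
  have h1 := Subgroup.commutator_mem_commutator (Subgroup.mem_top g) (Subgroup.mem_top h)
  obtain ⟨z, hz⟩ := H.comm h1
  exact ⟨z, hz.trans (commutatorElement_def g h)⟩

/-- the commutator pairing -/
noncomputable def Hyp.e (g h : Γ) : kˣ := Classical.choose (H.exists_comm g h)

theorem Hyp.e_spec (g h : Γ) : g * h * g⁻¹ = ι (H.e g h) * h := by
  have := Classical.choose_spec (H.exists_comm g h)
  change ι (H.e g h) = _ at this
  rw [this]
  group

/-- the character `g ↦ e(g, h)` -/
noncomputable def Hyp.chi (h : Γ) : Γ →* kˣ where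
  toFun g := H.e g h
  map_one' := by
    apply H.inj
    have := H.e_spec 1 h
    rw [one_mul, inv_one, mul_one] at this
    rw [map_one]
    exact (mul_eq_right.mp this.symm)
  map_mul' g g' := by
    apply H.inj
    have h1 := H.e_spec (g * g') h
    have h2 := H.e_spec g' h
    have h3 := H.e_spec g h
    have h4 : g * g' * h * (g * g')⁻¹ = g * (g' * h * g'⁻¹) * g⁻¹ := by group
    rw [h4, h2, ← mul_assoc, ← H.central, mul_assoc, mul_assoc, ← mul_assoc g, h3,
      ← mul_assoc, ← map_mul] at h1
    rw [map_mul, ← map_mul, mul_comm]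
    exact (mul_right_cancel h1).symm

theorem Hyp.chi_spec (g h : Γ) : g * h * g⁻¹ = ι (H.chi h g) * h := H.e_spec g h

theorem Hyp.mem_range_of_chi_eq (a b : Γ) (hab : H.chi a = H.chi b) : b⁻¹ * a ∈ ι.range := by
  rw [H.cent, Subgroup.mem_center_iff]
  intro g
  have h1 := H.chi_spec g a
  have h2 := H.chi_spec g b
  rw [hab] at h1
  have h3 : g * (b⁻¹ * a) * g⁻¹ = b⁻¹ * a := by
    rw [show g * (b⁻¹ * a) * g⁻¹ = (g * b * g⁻¹)⁻¹ * (g * a * g⁻¹) by group, h1, h2]
    group
  calc g * (b⁻¹ * a) = g * (b⁻¹ * a) * g⁻¹ * g := by group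
    _ = b⁻¹ * a * g := by rw [h3]

theorem Hyp.exists_chi_ne_one (a : Γ) (ha : a ∉ ι.range) : ∃ g, H.chi a g ≠ 1 := by
  by_contra hne
  push Not at hne
  apply ha
  rw [H.cent, Subgroup.mem_center_iff]
  intro g
  have h1 := H.chi_spec g a
  rw [hne g, map_one, one_mul] at h1
  calc g * a = g * a * g⁻¹ * g := by group
    _ = a * g := by rw [h1]

end pairing


section rep

variable {k : Type u} [Field k] {Γ : Type u} [Group Γ] {ι : kˣ →* Γ} (H : Hyp ι)
  {V : Type u} [AddCommGroup V] [Module k V] (ρ : Representation k Γ V)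
  (hw : ∀ (z : kˣ) (v : V), ρ (ι z) v = (z : k) • v)

include hw in
theorem rho_iota (z : kˣ) : ρ (ι z) = (z : k) • (1 : V →ₗ[k] V) := by
  refine LinearMap.ext fun v => ?_
  rw [hw]
  rfl

include hw in
theorem rho_iota_mul (z : kˣ) (γ : Γ) : ρ (ι z * γ) = (z : k) • ρ γ := by
  rw [map_mul, rho_iota ρ hw, smul_mul_assoc, one_mul]

include H hw in
theorem rho_conj (g h : Γ) : ρ g * ρ h * ρ g⁻¹ = ((H.chi h g : kˣ) : k) • ρ h := by
  rw [← map_mul, ← map_mul, H.chi_spec, rho_iota_mul ρ hw]

include H in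
theorem exists_out_mul (γ : Γ) : ∃ z : kˣ, γ = ι z * (QuotientGroup.mk γ : Γ ⧸ ι.range).out := by
  obtain ⟨⟨_, z, rfl⟩, hz⟩ := QuotientGroup.mk_out_eq_mul ι.range γ
  refine ⟨z⁻¹, ?_⟩
  rw [hz]
  show γ = ι z⁻¹ * (γ * ι z)
  rw [H.central, mul_assoc, ← map_mul, mul_inv_cancel, map_one, mul_one]

include H in
theorem out_injective_chi (x y : Γ ⧸ ι.range) (hxy : H.chi x.out = H.chi y.out) : x = y := by
  have h1 := H.mem_range_of_chi_eq _ _ hxy
  have h2 : (QuotientGroup.mk y.out : Γ ⧸ ι.range) = QuotientGroup.mk x.out :=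
    QuotientGroup.eq.mpr h1
  rw [QuotientGroup.out_eq', QuotientGroup.out_eq'] at h2
  exact h2.symm

include H hw in
theorem linearIndependent_rho_out [Nontrivial V] [Finite (Γ ⧸ ι.range)] :
    LinearIndependent k (fun x : Γ ⧸ ι.range => ρ x.out) := by
  classical
  have := Fintype.ofFinite (Γ ⧸ ι.range)
  have hinj : Injective (fun x : Γ ⧸ ι.range => (Units.coeHom k).comp (H.chi x.out)) := by
    intro x y hxy
    apply out_injective_chi H
    refine MonoidHom.ext fun g => Units.ext ?_
    exact congrArg (fun f : Γ →* k => f g) hxy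
  have hchar := (linearIndependent_monoidHom Γ k).comp _ hinj
  rw [Fintype.linearIndependent_iff] at hchar ⊢
  intro a ha x
  have key : ∀ lam : Module.Dual k (V →ₗ[k] V), a x * lam (ρ x.out) = 0 := by
    intro lam
    refine hchar (fun y => a y * lam (ρ y.out)) ?_ x
    funext g
    have h1 : ρ g * (∑ y, a y • ρ y.out) * ρ g⁻¹ = 0 := by rw [ha, mul_zero, zero_mul]
    rw [Finset.mul_sum, Finset.sum_mul] at h1
    have h2 := congrArg lam h1
    rw [map_sum, map_zero] at h2
    rw [Finset.sum_apply, Pi.zero_apply, ← h2]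
    apply Finset.sum_congr rfl
    intro y _
    rw [mul_smul_comm, smul_mul_assoc, rho_conj H ρ hw, map_smul, map_smul]
    simp only [Function.comp_apply, Pi.smul_apply, MonoidHom.coe_comp, Units.coeHom_apply,
      smul_eq_mul]
    ring
  have h3 : a x • ρ x.out = 0 := by
    rw [← Module.forall_dual_apply_eq_zero_iff k]
    intro lam
    rw [map_smul, smul_eq_mul]
    exact key lam
  rcases smul_eq_zero.mp h3 with h | h
  · exact h
  · exfalso
    have h4 : ρ x.out * ρ x.out⁻¹ = 1 := by rw [← map_mul, mul_inv_cancel, map_one]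
    rw [h, zero_mul] at h4
    exact zero_ne_one h4

include H hw in
theorem span_rho_out_eq_top [FiniteDimensional k V] [IsAlgClosed k]
    (hirr : ρ.IsIrreducible) :
    Submodule.span k (Set.range (fun x : Γ ⧸ ι.range => ρ x.out)) = ⊤ := by
  rw [eq_top_iff]
  intro T _
  have hT := burnside ρ hirr T
  refine Submodule.span_le.mpr ?_ hT
  rintro _ ⟨γ, rfl⟩
  obtain ⟨z, hz⟩ := exists_out_mul H γ
  have : ρ γ = (z : k) • ρ (QuotientGroup.mk γ : Γ ⧸ ι.range).out := by
    conv_lhs => rw [hz]
    exact rho_iota_mul ρ hw z _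
  rw [SetLike.mem_coe, this]
  exact Submodule.smul_mem _ _ (Submodule.subset_span ⟨_, rfl⟩)

include H hw in
theorem finrank_sq [FiniteDimensional k V] [IsAlgClosed k] [Finite (Γ ⧸ ι.range)]
    (hirr : ρ.IsIrreducible) :
    Module.finrank k V ^ 2 = Nat.card (Γ ⧸ ι.range) := by
  classical
  have := Fintype.ofFinite (Γ ⧸ ι.range)
  have hnt : Nontrivial V := by
    have : IsSimpleModule (MonoidAlgebra k Γ) ρ.asModule :=
      (Representation.irreducible_iff_isSimpleModule_asModule ρ).mp hirr
    exact IsSimpleModule.nontrivial (MonoidAlgebra k Γ) ρ.asModule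
  have h1 := finrank_span_eq_card (linearIndependent_rho_out H ρ hw)
  rw [span_rho_out_eq_top H ρ hw hirr, finrank_top, Module.finrank_linearMap] at h1
  rw [Nat.card_eq_fintype_card, ← h1, sq]

end rep

end Groth.Agent.Lib.Helper26.Theta
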