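import Mathlib
import Groth.Agent.Lib.Helper26.Theta1

universe u

namespace Groth.Agent.Lib.Helper26.Theta

open Function Representation

section uniq

variable {k : Type u} [Field k] {Γ : Type u} [Group Γ] {ι : kˣ →* Γ} (H : Hyp ι)
  {V W : Type u} [AddCommGroup V] [Module k V] [AddCommGroup W] [Module k W]
  (ρV : Representation k Γ V) (ρW : Representation k Γ W)
  (hV : ∀ (z : kˣ) (v : V), ρV (ι z) v = (z : k) • v)
  (hW : ∀ (z : kˣ) (w : W), ρW (ι z) w = (z : k) • w)

include hV hW in
theorem linHom_iota (z : kˣ) : linHom ρV ρW (ι z) = 1 := by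
  refine LinearMap.ext fun T => ?_
  rw [linHom_apply, ← map_inv, rho_iota ρV hV, rho_iota ρW hW]
  refine LinearMap.ext fun v => ?_
  simp [smul_smul]

include hV hW in
theorem linHom_iota_mul (z : kˣ) (γ : Γ) : linHom ρV ρW (ι z * γ) = linHom ρV ρW γ := by
  rw [map_mul, linHom_iota ρV ρW hV hW, one_mul]

variable [Fintype (Γ ⧸ ι.range)]

variable (ι) in
/-- the averaging operator -/
noncomputable def Pop : (V →ₗ[k] W) →ₗ[k] (V →ₗ[k] W) :=
  ∑ x : Γ ⧸ ι.range, linHom ρV ρW x.out

include H hV hW in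
theorem linHom_mul_Pop (g : Γ) : linHom ρV ρW g * Pop ι ρV ρW = Pop ι ρV ρW := by
  unfold Pop
  rw [Finset.mul_sum]
  have h1 : ∀ x : Γ ⧸ ι.range, linHom ρV ρW g * linHom ρV ρW x.out =
      linHom ρV ρW (g • x).out := by
    intro x
    rw [← map_mul]
    obtain ⟨z, hz⟩ := exists_out_mul H (g * x.out)
    have h2 : (QuotientGroup.mk (g * x.out) : Γ ⧸ ι.range) = g • x := by
      conv_rhs => rw [← QuotientGroup.out_eq' x]
      rfl
    rw [hz, linHom_iota_mul ρV ρW hV hW, h2]
  simp_rw [h1]
  exact Fintype.sum_equiv (MulAction.toPerm g) _ _ (fun x => rfl)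

include H hV hW in
theorem Pop_intertwining (T : V →ₗ[k] W) (g : Γ) :
    (Pop ι ρV ρW T) ∘ₗ ρV g = ρW g ∘ₗ (Pop ι ρV ρW T) := by
  have h1 := LinearMap.congr_fun (linHom_mul_Pop H ρV ρW hV hW g) T
  rw [Module.End.mul_apply, linHom_apply] at h1
  conv_lhs => rw [← h1]
  rw [LinearMap.comp_assoc, LinearMap.comp_assoc, ← Module.End.mul_eq_comp (ρV g⁻¹),
    ← map_mul, inv_mul_cancel, map_one]
  rfl

variable [FiniteDimensional k V] [FiniteDimensional k W]

include H hV in
omit [Fintype (Γ ⧸ ι.range)] [FiniteDimensional k V] in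
theorem character_eq_zero (γ : Γ) (hγ : γ ∉ ι.range) : ρV.character γ = 0 := by
  obtain ⟨g, hg⟩ := H.exists_chi_ne_one γ hγ
  have h1 := char_conj ρV γ g
  rw [H.chi_spec, character, rho_iota_mul ρV hV, map_smul, smul_eq_mul, ← character] at h1
  have h2 : (((H.chi γ g : kˣ) : k) - 1) * ρV.character γ = 0 := by
    rw [sub_mul, one_mul, h1, sub_self]
  rcases mul_eq_zero.mp h2 with h | h
  · exfalso
    apply hg
    exact Units.ext (sub_eq_zero.mp h)
  · exact h

include H hV hW in
theorem trace_Pop : LinearMap.trace k _ (Pop ι ρV ρW) =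
    (Module.finrank k V : k) * (Module.finrank k W : k) := by
  classical
  unfold Pop
  rw [map_sum]
  have hterm : ∀ x : Γ ⧸ ι.range, LinearMap.trace k _ (linHom ρV ρW x.out) =
      ρV.character x.out⁻¹ * ρW.character x.out := fun x => char_linHom ρV ρW x.out
  simp_rw [hterm]
  rw [Finset.sum_eq_single (QuotientGroup.mk 1 : Γ ⧸ ι.range)]
  · have h1 : (QuotientGroup.mk 1 : Γ ⧸ ι.range).out ∈ ι.range := by
      have := QuotientGroup.out_eq' (QuotientGroup.mk 1 : Γ ⧸ ι.range)
      have h2 := QuotientGroup.eq.mp this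
      rwa [mul_one, inv_mem_iff] at h2
    obtain ⟨z, hz⟩ := h1
    rw [← hz, ← map_inv, character, character, rho_iota ρV hV, rho_iota ρW hW, map_smul, map_smul,
      LinearMap.trace_one, LinearMap.trace_one, smul_eq_mul, smul_eq_mul]
    have : ((z⁻¹ : kˣ) : k) * (z : k) = 1 := by rw [← Units.val_mul, inv_mul_cancel, Units.val_one]
    calc ((z⁻¹ : kˣ) : k) * (Module.finrank k V : k) * ((z : k) * (Module.finrank k W : k))
        = (((z⁻¹ : kˣ) : k) * (z : k)) * ((Module.finrank k V : k) * (Module.finrank k W : k)) := by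
          ring
      _ = _ := by rw [this, one_mul]
  · intro x _ hx
    have hx' : x.out ∉ ι.range := by
      intro hmem
      apply hx
      rw [← QuotientGroup.out_eq' x]
      apply QuotientGroup.eq.mpr
      rw [mul_one]
      exact inv_mem hmem
    rw [character_eq_zero H ρW hW _ hx', mul_zero]
  · intro h
    exact absurd (Finset.mem_univ _) h


end uniq

section cast

theorem natCast_ne_zero_of_coprime (k : Type*) [Field k] {N : ℕ} (hN : 0 < N)
    (hcop : N.Coprime (ringExpChar k)) : (N : k) ≠ 0 := by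
  intro h0
  have hdvd : ringChar k ∣ N := (CharP.cast_eq_zero_iff k (ringChar k) N).mp h0
  unfold ringExpChar at hcop
  rcases Nat.eq_zero_or_pos (ringChar k) with hp | hp
  · rw [hp, zero_dvd_iff] at hdvd
    omega
  · rw [max_eq_left hp] at hcop
    have := Nat.Coprime.eq_one_of_dvd hcop.symm hdvd
    exact CharP.ringChar_ne_one this

end cast

section uniq2

variable {k : Type u} [Field k] [IsAlgClosed k] {Γ : Type u} [Group Γ] {ι : kˣ →* Γ} (H : Hyp ι)
  {V W : Type u} [AddCommGroup V] [Module k V] [AddCommGroup W] [Module k W]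
  [FiniteDimensional k V] [FiniteDimensional k W]
  (ρV : Representation k Γ V) (ρW : Representation k Γ W)
  (hV : ∀ (z : kˣ) (v : V), ρV (ι z) v = (z : k) • v)
  (hW : ∀ (z : kˣ) (w : W), ρW (ι z) w = (z : k) • w)

include H hV hW in
theorem nonempty_equiv [Finite (Γ ⧸ ι.range)]
    (hcop : (Nat.card (Γ ⧸ ι.range)).Coprime (ringExpChar k))
    (hVirr : ρV.IsIrreducible) (hWirr : ρW.IsIrreducible) :
    Nonempty (Representation.Equiv ρV ρW) := by
  classical
  have := Fintype.ofFinite (Γ ⧸ ι.range)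
  have hn := finrank_sq H ρV hV hVirr
  have hm := finrank_sq H ρW hW hWirr
  have hnm : Module.finrank k V = Module.finrank k W :=
    Nat.pow_left_injective (by norm_num : 2 ≠ 0) (hn.trans hm.symm)
  have htr := trace_Pop H ρV ρW hV hW
  rw [← hnm, ← Nat.cast_mul, ← sq, hn] at htr
  have hN : (Nat.card (Γ ⧸ ι.range) : k) ≠ 0 :=
    natCast_ne_zero_of_coprime k Nat.card_pos hcop
  have hP : Pop ι ρV ρW ≠ 0 := by
    intro h0
    rw [h0, map_zero] at htr
    exact hN htr.symm
  obtain ⟨T, hT⟩ : ∃ T, Pop ι ρV ρW T ≠ 0 := by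
    by_contra hne
    push Not at hne
    exact hP (LinearMap.ext hne)
  let f : IntertwiningMap ρV ρW := ⟨Pop ι ρV ρW T, Pop_intertwining H ρV ρW hV hW T⟩
  rcases IsIrreducible.bijective_or_eq_zero f with h | h
  · exact ⟨f.ofBijective h⟩
  · exfalso
    apply hT
    have := congrArg IntertwiningMap.toLinearMap h
    exact this

end uniq2

end Groth.Agent.Lib.Helper26.Theta
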