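import Mathlib
import Groth.Agent.Lib.Helper26.Theta2

universe u

namespace Groth.Agent.Lib.Helper26.Theta

open Function Representation

section irr

variable {k : Type*} [Field k] {G : Type*} [Group G] {V : Type*} [AddCommGroup V] [Module k V]
  [FiniteDimensional k V]

/-- a nonzero finite dimensional representation has an irreducible subrepresentation -/
theorem exists_irreducible_sub (ρ : Representation k G V) [Nontrivial V] :
    ∃ S : Subrepresentation ρ, S.toRepresentation.IsIrreducible := by
  classical
  let 𝒮 : Set (Subrepresentation ρ) := {S | S ≠ ⊥}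
  have hne : 𝒮.Nonempty := by
    refine ⟨⊤, ?_⟩
    intro h
    have h1 := congrArg Subrepresentation.toSubmodule h
    change (⊤ : Submodule k V) = ⊥ at h1
    exact top_ne_bot h1
  obtain ⟨S, hS, hmin⟩ : ∃ S ∈ 𝒮, ∀ T ∈ 𝒮,
      Module.finrank k S.toSubmodule ≤ Module.finrank k T.toSubmodule :=
    ⟨Function.argminOn (fun S : Subrepresentation ρ => Module.finrank k S.toSubmodule) 𝒮 hne,
      Function.argminOn_mem _ _ hne,
      fun T hT => Function.argminOn_le (fun S : Subrepresentation ρ =>
        Module.finrank k S.toSubmodule) 𝒮 hT⟩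
  refine ⟨S, ?_⟩
  have hSne : S.toSubmodule ≠ ⊥ := by
    intro h
    apply hS
    exact Subrepresentation.toSubmodule_injective h
  have hnt : Nontrivial S.toSubmodule := Submodule.nontrivial_iff_ne_bot.mpr hSne
  refine { exists_pair_ne := ⟨⊥, ⊤, ?_⟩, eq_bot_or_eq_top := ?_ }
  · intro h
    have h1 := congrArg Subrepresentation.toSubmodule h
    change (⊥ : Submodule k S.toSubmodule) = ⊤ at h1
    exact bot_ne_top h1
  · intro U
    by_cases hU : U = ⊥
    · exact Or.inl hU
    · right
      let U' : Subrepresentation ρ :=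
        ⟨U.toSubmodule.map S.toSubmodule.subtype, by
          rintro g _ ⟨u, hu, rfl⟩
          exact ⟨S.toRepresentation g u, U.apply_mem_toSubmodule g hu, rfl⟩⟩
      have hU'le : U'.toSubmodule ≤ S.toSubmodule := by
        rintro _ ⟨u, -, rfl⟩
        exact u.2
      have hU'ne : U' ∈ 𝒮 := by
        intro h
        apply hU
        have h1 := congrArg Subrepresentation.toSubmodule h
        change U.toSubmodule.map S.toSubmodule.subtype = ⊥ at h1
        have h2 : U.toSubmodule = ⊥ := by
          rw [eq_bot_iff]
          intro u hu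
          have : S.toSubmodule.subtype u ∈ U.toSubmodule.map S.toSubmodule.subtype := ⟨u, hu, rfl⟩
          rw [h1, Submodule.mem_bot] at this
          rw [Submodule.mem_bot]
          exact Subtype.ext this
        exact Subrepresentation.toSubmodule_injective h2
      have h2 := hmin U' hU'ne
      have h3 : U'.toSubmodule = S.toSubmodule :=
        Submodule.eq_of_le_of_finrank_le hU'le h2
      apply Subrepresentation.toSubmodule_injective
      change U.toSubmodule = ⊤
      rw [eq_top_iff]
      intro s _
      have : (s : V) ∈ U'.toSubmodule := by rw [h3]; exact s.2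
      obtain ⟨u, hu, hus⟩ := this
      have : u = s := Subtype.ext hus
      rwa [← this]

end irr


section induced

variable {k : Type u} [Field k] {Γ : Type u} [Group Γ] (ι : kˣ →* Γ)

/-- the space of weight one functions -/
def V0 : Submodule k (Γ → k) where
  carrier := {f | ∀ (z : kˣ) (γ : Γ), f (ι z * γ) = (z : k) * f γ}
  add_mem' := by
    intro f f' hf hf' z γ
    simp only [Pi.add_apply, hf z γ, hf' z γ, mul_add]
  zero_mem' := by
    intro z γ
    simp
  smul_mem' := by
    intro c f hf z γ
    simp only [Pi.smul_apply, smul_eq_mul, hf z γ]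
    ring

/-- right translation -/
def rho0 : Representation k Γ (V0 ι) where
  toFun g :=
    { toFun := fun f => ⟨fun γ => f.1 (γ * g), fun z γ => by
        show f.1 (ι z * γ * g) = _
        rw [mul_assoc]
        exact f.2 z (γ * g)⟩
      map_add' := fun f f' => rfl
      map_smul' := fun c f => rfl }
  map_one' := by
    refine LinearMap.ext fun f => Subtype.ext (funext fun γ => ?_)
    show f.1 (γ * 1) = f.1 γ
    rw [mul_one]
  map_mul' g h := by
    refine LinearMap.ext fun f => Subtype.ext (funext fun γ => ?_)
    show f.1 (γ * (g * h)) = f.1 (γ * g * h)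
    rw [mul_assoc]

theorem rho0_apply (g : Γ) (f : V0 ι) (γ : Γ) : (rho0 ι g f).1 γ = f.1 (γ * g) := rfl

variable {ι} (H : Hyp ι)
include H

theorem rho0_weight (z : kˣ) (f : V0 ι) : rho0 ι (ι z) f = (z : k) • f := by
  refine Subtype.ext (funext fun γ => ?_)
  rw [rho0_apply, ← H.central, f.2 z γ]
  rfl

theorem V0_finite [Finite (Γ ⧸ ι.range)] : FiniteDimensional k (V0 ι) := by
  let ev : V0 ι →ₗ[k] ((Γ ⧸ ι.range) → k) :=
    { toFun := fun f x => f.1 x.out
      map_add' := fun f f' => rfl
      map_smul' := fun c f => rfl }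
  have hev : Injective ev := by
    intro f f' hff
    refine Subtype.ext (funext fun γ => ?_)
    obtain ⟨z, hz⟩ := exists_out_mul H γ
    rw [hz, f.2 z, f'.2 z]
    congr 1
    exact congrFun hff _
  exact FiniteDimensional.of_injective ev hev

theorem V0_nontrivial : Nontrivial (V0 ι) := by
  classical
  let f₀ : Γ → k := fun γ => if h : γ ∈ ι.range then ((Classical.choose h : kˣ) : k) else 0
  have hf₀ : ∀ (w : kˣ), f₀ (ι w) = w := by
    intro w
    have hmem : ι w ∈ ι.range := ⟨w, rfl⟩
    show (if h : ι w ∈ ι.range then ((Classical.choose h : kˣ) : k) else 0) = w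
    rw [dif_pos hmem]
    have := Classical.choose_spec hmem
    rw [H.inj this]
  have hmem : f₀ ∈ V0 ι := by
    intro z γ
    by_cases hγ : γ ∈ ι.range
    · obtain ⟨w, rfl⟩ := hγ
      rw [← map_mul, hf₀, hf₀, Units.val_mul]
    · have h1 : ι z * γ ∉ ι.range := by
        intro h
        apply hγ
        have := ι.range.mul_mem (ι.range.inv_mem ⟨z, rfl⟩) h
        rwa [inv_mul_cancel_left] at this
      show (if h : ι z * γ ∈ ι.range then ((Classical.choose h : kˣ) : k) else 0) =
        (z : k) * (if h : γ ∈ ι.range then ((Classical.choose h : kˣ) : k) else 0)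
      rw [dif_neg h1, dif_neg hγ, mul_zero]
  refine ⟨⟨⟨f₀, hmem⟩, 0, ?_⟩⟩
  intro h
  have h1 : f₀ 1 = 0 := congrFun (congrArg Subtype.val h) 1
  have h2 := hf₀ 1
  rw [map_one, h1, Units.val_one] at h2
  exact zero_ne_one h2

/-- existence of an irreducible weight one representation -/
theorem exists_irreducible [Finite (Γ ⧸ ι.range)] :
    ∃ (V : Type u) (_ : AddCommGroup V) (_ : Module k V) (_ : FiniteDimensional k V)
      (ρ : Representation k Γ V), ρ.IsIrreducible ∧
        ∀ (z : kˣ) (v : V), ρ (ι z) v = (z : k) • v := by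
  have := V0_finite H
  have := V0_nontrivial H
  obtain ⟨S, hS⟩ := exists_irreducible_sub (rho0 ι)
  refine ⟨S.toSubmodule, inferInstance, inferInstance, inferInstance, S.toRepresentation, hS, ?_⟩
  intro z v
  apply Subtype.ext
  exact rho0_weight H z v.1

end induced

end Groth.Agent.Lib.Helper26.Theta
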