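import Mathlib
import Groth.Agent.Lib.Helper26.Theta3

universe u

namespace Groth.Agent.Lib.Helper26.Theta

open Function Representation

section maschke

variable {k : Type u} [Field k] {Γ : Type u} [Group Γ] {ι : kˣ →* Γ} (H : Hyp ι)
  {V W : Type u} [AddCommGroup V] [Module k V] [AddCommGroup W] [Module k W]
  (ρV : Representation k Γ V) (ρW : Representation k Γ W)
  (hW : ∀ (z : kˣ) (w : W), ρW (ι z) w = (z : k) • w)

theorem Pop_apply [Fintype (Γ ⧸ ι.range)] (T : V →ₗ[k] W) (v : V) :
    Pop ι ρV ρW T v = ∑ x : Γ ⧸ ι.range, ρW x.out (T (ρV x.out⁻¹ v)) := by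
  unfold Pop
  rw [LinearMap.sum_apply, LinearMap.sum_apply]
  rfl

include H hW in
theorem exists_compl [Finite (Γ ⧸ ι.range)] (hN : (Nat.card (Γ ⧸ ι.range) : k) ≠ 0)
    (S : Subrepresentation ρW) : ∃ S' : Subrepresentation ρW, IsCompl S S' := by
  classical
  have := Fintype.ofFinite (Γ ⧸ ι.range)
  obtain ⟨g, hg⟩ := S.toSubmodule.subtype.exists_leftInverse_of_injective
    (Submodule.ker_subtype _)
  let π₀ : W →ₗ[k] W := S.toSubmodule.subtype ∘ₗ g
  have hπ₀S : ∀ w, π₀ w ∈ S.toSubmodule := fun w => (g w).2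
  have hπ₀s : ∀ s ∈ S.toSubmodule, π₀ s = s := by
    intro s hs
    have := LinearMap.congr_fun hg ⟨s, hs⟩
    simp only [LinearMap.comp_apply, Submodule.subtype_apply, LinearMap.id_apply] at this
    show (g s : W) = s
    rw [this]
  let P := Pop ι ρW ρW π₀
  have hPS : ∀ w, P w ∈ S.toSubmodule := by
    intro w
    show Pop ι ρW ρW π₀ w ∈ _
    rw [Pop_apply]
    apply Submodule.sum_mem
    intro x _
    exact S.apply_mem_toSubmodule _ (hπ₀S _)
  have hPs : ∀ s ∈ S.toSubmodule, P s = (Nat.card (Γ ⧸ ι.range) : k) • s := by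
    intro s hs
    show Pop ι ρW ρW π₀ s = _
    rw [Pop_apply]
    have h1 : ∀ x : Γ ⧸ ι.range, ρW x.out (π₀ (ρW x.out⁻¹ s)) = s := by
      intro x
      rw [hπ₀s _ (S.apply_mem_toSubmodule _ hs), ← Module.End.mul_apply, ← map_mul,
        mul_inv_cancel, map_one, Module.End.one_apply]
    simp_rw [h1]
    rw [Finset.sum_const, Finset.card_univ, Nat.card_eq_fintype_card, Nat.cast_smul_eq_nsmul]
  have hPint : ∀ g' : Γ, P ∘ₗ ρW g' = ρW g' ∘ₗ P := Pop_intertwining H ρW ρW hW hW π₀
  let S' : Subrepresentation ρW :=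
    ⟨LinearMap.ker P, by
      intro g' w hw
      rw [LinearMap.mem_ker] at hw ⊢
      have := LinearMap.congr_fun (hPint g') w
      simp only [LinearMap.comp_apply] at this
      rw [this, hw, map_zero]⟩
  refine ⟨S', ?_⟩
  constructor
  · rw [disjoint_iff]
    apply Subrepresentation.toSubmodule_injective
    show S.toSubmodule ⊓ LinearMap.ker P = ⊥
    rw [eq_bot_iff]
    rintro s ⟨hs, hs'⟩
    have h1 := hPs s hs
    rw [LinearMap.mem_ker.mp hs'] at h1
    rw [Submodule.mem_bot]
    exact (smul_eq_zero.mp h1.symm).resolve_left hN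
  · rw [codisjoint_iff]
    apply Subrepresentation.toSubmodule_injective
    show S.toSubmodule ⊔ LinearMap.ker P = ⊤
    rw [eq_top_iff]
    intro w _
    have hdecomp : w = (Nat.card (Γ ⧸ ι.range) : k)⁻¹ • P w +
        (w - (Nat.card (Γ ⧸ ι.range) : k)⁻¹ • P w) := by abel
    rw [hdecomp]
    refine Submodule.add_mem_sup (Submodule.smul_mem _ _ (hPS w)) ?_
    rw [LinearMap.mem_ker, map_sub, map_smul, hPs _ (hPS w), smul_smul, inv_mul_cancel₀ hN,
      one_smul, sub_self]

include H hW in
theorem isSemisimple [Finite (Γ ⧸ ι.range)] (hN : (Nat.card (Γ ⧸ ι.range) : k) ≠ 0) :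
    IsSemisimpleRepresentation ρW :=
  ⟨fun S => exists_compl H ρW hW hN S⟩

end maschke


section inv

variable {k : Type*} [Field k] {G : Type*} [Group G] {V W : Type*} [AddCommGroup V] [Module k V]
  [AddCommGroup W] [Module k W]

theorem finrank_invariants_equiv (ρ : Representation k G V) (σ : Representation k G W)
    (φ : Representation.Equiv ρ σ) (H : Subgroup G) :
    Module.finrank k (invariants (ρ.comp H.subtype)) =
      Module.finrank k (invariants (σ.comp H.subtype)) := by
  obtain ⟨e, hint⟩ : ∃ e : V ≃ₗ[k] W, ∀ g v, e (ρ g v) = σ g (e v) :=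
    ⟨φ.toLinearEquiv, fun g v => LinearMap.congr_fun (φ.isIntertwining' g) v⟩
  clear φ
  have hmap : (invariants (ρ.comp H.subtype)).map e.toLinearMap =
      invariants (σ.comp H.subtype) := by
    ext w
    constructor
    · rintro ⟨v, hv, rfl⟩ h
      have : ρ h v = v := hv h
      show σ h (e v) = e v
      rw [← hint, this]
    · intro hw
      refine ⟨e.symm w, ?_, by simp⟩
      intro h
      have : σ h w = w := hw h
      show ρ h (e.symm w) = e.symm w
      apply e.injective
      rw [hint, LinearEquiv.apply_symm_apply, this]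
  rw [← hmap]
  exact (e.submoduleMap _).finrank_eq

theorem invariants_sub_eq (ρ : Representation k G V) (S : Subrepresentation ρ) (H : Subgroup G) :
    invariants (S.toRepresentation.comp H.subtype) =
      (invariants (ρ.comp H.subtype)).comap S.toSubmodule.subtype := by
  ext s
  simp only [mem_invariants, MonoidHom.comp_apply, Subgroup.subtype_apply, Submodule.mem_comap,
    Submodule.subtype_apply]
  constructor
  · intro hs h
    exact congrArg Subtype.val (hs h)
  · intro hs h
    exact Subtype.ext (hs h)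

theorem finrank_invariants_sub (ρ : Representation k G V) (S : Subrepresentation ρ)
    (H : Subgroup G) :
    Module.finrank k (invariants (S.toRepresentation.comp H.subtype)) =
      Module.finrank k ↥(invariants (ρ.comp H.subtype) ⊓ S.toSubmodule) := by
  rw [invariants_sub_eq]
  have h1 : (invariants (ρ.comp H.subtype)).comap S.toSubmodule.subtype =
      (invariants (ρ.comp H.subtype) ⊓ S.toSubmodule).comap S.toSubmodule.subtype := by
    ext s
    simp only [Submodule.mem_comap, Submodule.subtype_apply, Submodule.mem_inf]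
    exact ⟨fun h => ⟨h, s.2⟩, fun h => h.1⟩
  rw [h1]
  exact (Submodule.comapSubtypeEquivOfLe (inf_le_right)).finrank_eq

theorem finrank_invariants_compl [FiniteDimensional k V] (ρ : Representation k G V)
    (S S' : Subrepresentation ρ) (hc : IsCompl S S') (H : Subgroup G) :
    Module.finrank k (invariants (ρ.comp H.subtype)) =
      Module.finrank k (invariants (S.toRepresentation.comp H.subtype)) +
        Module.finrank k (invariants (S'.toRepresentation.comp H.subtype)) := by
  rw [finrank_invariants_sub, finrank_invariants_sub]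
  set I := invariants (ρ.comp H.subtype) with hI
  have hinf : S.toSubmodule ⊓ S'.toSubmodule = ⊥ := by
    have := hc.inf_eq_bot
    exact congrArg Subrepresentation.toSubmodule this
  have hsup : S.toSubmodule ⊔ S'.toSubmodule = ⊤ := by
    have := hc.sup_eq_top
    exact congrArg Subrepresentation.toSubmodule this
  have h1 : (I ⊓ S.toSubmodule) ⊓ (I ⊓ S'.toSubmodule) = ⊥ := by
    rw [eq_bot_iff]
    rintro w ⟨⟨-, hs⟩, ⟨-, hs'⟩⟩
    rw [← hinf]
    exact ⟨hs, hs'⟩
  have h2 : (I ⊓ S.toSubmodule) ⊔ (I ⊓ S'.toSubmodule) = I := by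
    apply le_antisymm
    · exact sup_le inf_le_left inf_le_left
    · intro w hw
      have hwt : w ∈ S.toSubmodule ⊔ S'.toSubmodule := by rw [hsup]; trivial
      obtain ⟨s, hs, s', hs', rfl⟩ := Submodule.mem_sup.mp hwt
      have key : ∀ h : H, ρ h s = s ∧ ρ h s' = s' := by
        intro h
        have hh : ρ h (s + s') = s + s' := hw h
        rw [map_add] at hh
        have h3 : ρ h s - s = s' - ρ h s' := by
          rw [sub_eq_sub_iff_add_eq_add, hh, add_comm]
        have h4 : ρ h s - s ∈ S.toSubmodule ⊓ S'.toSubmodule :=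
          ⟨Submodule.sub_mem _ (S.apply_mem_toSubmodule _ hs) hs,
            h3 ▸ Submodule.sub_mem _ hs' (S'.apply_mem_toSubmodule _ hs')⟩
        rw [hinf, Submodule.mem_bot] at h4
        refine ⟨sub_eq_zero.mp h4, ?_⟩
        rw [h4] at h3
        exact (sub_eq_zero.mp h3.symm).symm
      exact Submodule.add_mem_sup ⟨fun h => (key h).1, hs⟩ ⟨fun h => (key h).2, hs'⟩
  have h3 := Submodule.finrank_sup_add_finrank_inf_eq (I ⊓ S.toSubmodule) (I ⊓ S'.toSubmodule)
  rw [h1, h2, finrank_bot, add_zero] at h3
  exact h3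

end inv

end Groth.Agent.Lib.Helper26.Theta
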