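import Mathlib
import Groth.Agent.Lib.Helper26.Theta4

universe u

namespace Groth.Agent.Lib.Helper26.Theta

open Function Representation

section level

variable {k : Type u} [Field k] {Γ : Type u} [Group Γ] {ι : kˣ →* Γ} (H : Hyp ι)
  (L : Subgroup Γ) (hL : L ⊓ ι.range = ⊥)

include H in
theorem normal_range : ι.range.Normal := by
  rw [H.cent]
  infer_instance

include hL in
theorem level_injective : Injective (fun h : L => (QuotientGroup.mk (h : Γ) : Γ ⧸ ι.range)) := by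
  intro h h' hh
  have h1 : (h : Γ)⁻¹ * h' ∈ ι.range := QuotientGroup.eq.mp hh
  have h2 : (h : Γ)⁻¹ * h' ∈ L ⊓ ι.range := ⟨L.mul_mem (L.inv_mem h.2) h'.2, h1⟩
  rw [hL, Subgroup.mem_bot] at h2
  exact Subtype.ext (inv_mul_eq_one.mp h2)

include hL in
theorem level_finite [Finite (Γ ⧸ ι.range)] : Finite L :=
  Finite.of_injective _ (level_injective L hL)

include H hL in
theorem level_card_dvd [Finite (Γ ⧸ ι.range)] : Nat.card L ∣ Nat.card (Γ ⧸ ι.range) := by
  have := normal_range H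
  exact Subgroup.card_dvd_of_injective ((QuotientGroup.mk' ι.range).comp L.subtype)
    (level_injective L hL)

include H in
theorem pow_card_mem_range [Finite (Γ ⧸ ι.range)] (g : Γ) :
    g ^ Nat.card (Γ ⧸ ι.range) ∈ ι.range := by
  have := normal_range H
  have h1 : (QuotientGroup.mk g : Γ ⧸ ι.range) ^ Nat.card (Γ ⧸ ι.range) = 1 := pow_card_eq_one'
  rw [← QuotientGroup.mk_pow, QuotientGroup.eq_one_iff] at h1
  exact h1


include H hL in
theorem centralizer_level [IsAlgClosed k] [Finite (Γ ⧸ ι.range)]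
    (hmax : ∀ L' : Subgroup Γ, L' ⊓ ι.range = ⊥ → L ≤ L' → L' = L)
    (g : Γ) (hg : ∀ h ∈ L, g * h = h * g) : ∃ h ∈ L, ∃ z : kˣ, g = h * ι z := by
  classical
  by_contra hcon
  push Not at hcon
  have hex : ∃ d : ℕ, 0 < d ∧ ∃ h ∈ L, ∃ z : kˣ, g ^ d = h * ι z := by
    obtain ⟨z, hz⟩ := pow_card_mem_range H g
    exact ⟨Nat.card (Γ ⧸ ι.range), Nat.card_pos, 1, L.one_mem, z, by rw [one_mul, hz]⟩
  obtain ⟨hd0, h₀, hh₀, z₀, hgd⟩ := Nat.find_spec hex
  have hmin : ∀ r : ℕ, 0 < r → r < Nat.find hex → ∀ h ∈ L, ∀ z : kˣ, g ^ r ≠ h * ι z := by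
    intro r hr0 hrd h hh z heq
    exact Nat.find_min hex hrd ⟨hr0, h, hh, z, heq⟩
  generalize Nat.find hex = d at hd0 hgd hmin
  obtain ⟨w, hw⟩ := IsAlgClosed.exists_pow_nat_eq ((z₀⁻¹ : kˣ) : k) hd0
  have hw0 : w ≠ 0 := by
    rintro rfl
    rw [zero_pow hd0.ne'] at hw
    exact (Units.ne_zero _) hw.symm
  obtain ⟨w', hw'⟩ : ∃ w' : kˣ, w' ^ d = z₀⁻¹ :=
    ⟨Units.mk0 w hw0, Units.ext (by simpa using hw)⟩
  obtain ⟨g', hg'def⟩ : ∃ g' : Γ, g' = g * ι w' := ⟨_, rfl⟩
  have hg'comm : ∀ h ∈ L, Commute g' h := by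
    intro h hh
    show g' * h = h * g'
    rw [hg'def, mul_assoc, H.central, ← mul_assoc, hg h hh, mul_assoc]
  have hcgw : Commute g (ι w') := (H.central w' g).symm
  have hg'd : g' ^ d = h₀ := by
    rw [hg'def, hcgw.mul_pow, hgd, ← map_pow, hw', mul_assoc, ← map_mul, mul_inv_cancel, map_one,
      mul_one]
  let L' : Subgroup Γ :=
    { carrier := {x | ∃ h ∈ L, ∃ j : ℤ, x = h * g' ^ j}
      one_mem' := ⟨1, L.one_mem, 0, by simp⟩
      mul_mem' := by
        rintro _ _ ⟨h, hh, j, rfl⟩ ⟨h', hh', j', rfl⟩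
        refine ⟨h * h', L.mul_mem hh hh', j + j', ?_⟩
        have hc : Commute (g' ^ j) h' := (hg'comm h' hh').zpow_left j
        rw [zpow_add, mul_assoc, ← mul_assoc (g' ^ j), hc.eq, mul_assoc, mul_assoc]
      inv_mem' := by
        rintro _ ⟨h, hh, j, rfl⟩
        refine ⟨h⁻¹, L.inv_mem hh, -j, ?_⟩
        have hc : Commute (g' ^ (-j)) h⁻¹ := ((hg'comm h hh).inv_right).zpow_left (-j)
        rw [mul_inv_rev, ← zpow_neg, hc.eq] }
  have hLL' : L ≤ L' := fun h hh => ⟨h, hh, 0, by simp⟩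
  have hg'L' : g' ∈ L' := ⟨1, L.one_mem, 1, by simp⟩
  have hL' : L' ⊓ ι.range = ⊥ := by
    rw [eq_bot_iff]
    rintro x ⟨⟨h, hh, j, rfl⟩, ⟨zx, hzx⟩⟩
    rw [Subgroup.mem_bot]
    have hdpos : (0 : ℤ) < d := by exact_mod_cast hd0
    have hr0 : 0 ≤ j % (d : ℤ) := Int.emod_nonneg _ hdpos.ne'
    have hrd : j % (d : ℤ) < d := Int.emod_lt_of_pos _ hdpos
    have hj : j = d * (j / (d : ℤ)) + j % (d : ℤ) := (Int.mul_ediv_add_emod j d).symm
    obtain ⟨r', hr'⟩ := Int.eq_ofNat_of_zero_le hr0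
    have hgj : g' ^ j = h₀ ^ (j / (d : ℤ)) * g' ^ r' := by
      conv_lhs => rw [hj]
      rw [zpow_add, zpow_mul, zpow_natCast, hg'd, hr', zpow_natCast]
    have hh₁ : h * h₀ ^ (j / (d : ℤ)) ∈ L := L.mul_mem hh (L.zpow_mem hh₀ _)
    have hx : h * g' ^ j = (h * h₀ ^ (j / (d : ℤ))) * g' ^ r' := by rw [hgj, mul_assoc]
    have hg'r : g' ^ r' = g ^ r' * ι (w' ^ r') := by rw [hg'def, hcgw.mul_pow, map_pow]
    have hr'd : r' < d := by
      have : (r' : ℤ) < d := hr' ▸ hrd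
      exact_mod_cast this
    rcases Nat.eq_zero_or_pos r' with h0 | hpos
    · rw [hx, h0, pow_zero, mul_one]
      have hmem : h * h₀ ^ (j / (d : ℤ)) ∈ L ⊓ ι.range := by
        refine ⟨hh₁, zx, ?_⟩
        rw [hzx, hx, h0, pow_zero, mul_one]
      rw [hL, Subgroup.mem_bot] at hmem
      exact hmem
    · exfalso
      apply hmin r' hpos hr'd (h * h₀ ^ (j / (d : ℤ)))⁻¹ (L.inv_mem hh₁) (zx * (w' ^ r')⁻¹)
      have h1 : ι zx = (h * h₀ ^ (j / (d : ℤ))) * (g ^ r' * ι (w' ^ r')) := by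
        rw [hzx, hx, hg'r]
      rw [map_mul, map_inv, h1]
      group
  have hLeq := hmax L' hL' hLL'
  have hg'L : g' ∈ L := hLeq ▸ hg'L'
  apply hcon g' hg'L w'⁻¹
  rw [hg'def, mul_assoc, ← map_mul, mul_inv_cancel, map_one, mul_one]

end level


section invdim

variable {k : Type u} [Field k] [IsAlgClosed k] {Γ : Type u} [Group Γ] {ι : kˣ →* Γ} (H : Hyp ι)
  (L : Subgroup Γ) (hL : L ⊓ ι.range = ⊥)
  (hmax : ∀ L' : Subgroup Γ, L' ⊓ ι.range = ⊥ → L ≤ L' → L' = L)
  {V : Type u} [AddCommGroup V] [Module k V] [FiniteDimensional k V]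
  (ρ : Representation k Γ V) (hw : ∀ (z : kˣ) (v : V), ρ (ι z) v = (z : k) • v)

/-- the sum over the level subgroup -/
noncomputable def Eop [Fintype L] : V →ₗ[k] V := ∑ h : L, ρ (h : Γ)

theorem rho_mul_Eop [Fintype L] (h' : L) : ρ (h' : Γ) * Eop L ρ = Eop L ρ := by
  unfold Eop
  rw [Finset.mul_sum]
  simp_rw [← map_mul]
  exact Fintype.sum_equiv (Equiv.mulLeft h') _ _ (fun h => rfl)

theorem Eop_mem_invariants [Fintype L] (v : V) :
    Eop L ρ v ∈ invariants (ρ.comp L.subtype) := by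
  intro h
  show ρ (h : Γ) (Eop L ρ v) = Eop L ρ v
  rw [← Module.End.mul_apply, rho_mul_Eop]

theorem Eop_of_mem_invariants [Fintype L] (v : V) (hv : v ∈ invariants (ρ.comp L.subtype)) :
    Eop L ρ v = (Nat.card L : k) • v := by
  unfold Eop
  rw [LinearMap.sum_apply]
  have : ∀ h : L, ρ (h : Γ) v = v := fun h => hv h
  simp_rw [this]
  rw [Finset.sum_const, Finset.card_univ, Nat.card_eq_fintype_card, Nat.cast_smul_eq_nsmul]

include H hL hmax hw in
theorem Eop_rho_Eop [Fintype L] [Finite (Γ ⧸ ι.range)] (g : Γ) :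
    ∃ c : k, Eop L ρ * ρ g * Eop L ρ = c • Eop L ρ := by
  classical
  -- the character of `L`
  let ψ : L →* k := (Units.coeHom k).comp ((H.chi g).comp L.subtype)
  have h1 : Eop L ρ * ρ g * Eop L ρ = (∑ h : L, ψ h) • (ρ g * Eop L ρ) := by
    show (∑ h : L, ρ (h : Γ)) * ρ g * Eop L ρ = _
    rw [Finset.sum_mul, Finset.sum_mul, Finset.sum_smul]
    apply Finset.sum_congr rfl
    intro h _
    have h2 : (h : Γ) * g = ι (H.chi g h) * (g * h) := by
      have := H.chi_spec (h : Γ) g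
      calc (h : Γ) * g = (h : Γ) * g * (h : Γ)⁻¹ * h := by group
        _ = ι (H.chi g h) * g * h := by rw [this]
        _ = _ := by rw [mul_assoc]
    rw [← map_mul, h2, rho_iota_mul ρ hw, map_mul, smul_mul_assoc, mul_assoc, rho_mul_Eop]
    rfl
  by_cases hψ : ψ = 1
  · -- `g` centralises `L`
    have hcomm : ∀ h ∈ L, g * h = h * g := by
      intro h hh
      have h3 : ψ ⟨h, hh⟩ = 1 := by rw [hψ]; rfl
      have h4 : H.chi g h = 1 := Units.ext h3
      have := H.chi_spec h g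
      rw [h4, map_one, one_mul] at this
      calc g * h = h * g * h⁻¹ * h := by rw [this]
        _ = h * g := by group
    obtain ⟨h₁, hh₁, z, hz⟩ := centralizer_level H L hL hmax g hcomm
    refine ⟨(∑ h : L, ψ h) * (z : k), ?_⟩
    rw [h1, hz]
    have : ρ (h₁ * ι z) * Eop L ρ = (z : k) • Eop L ρ := by
      rw [← H.central, rho_iota_mul ρ hw, smul_mul_assoc]
      have := rho_mul_Eop L ρ ⟨h₁, hh₁⟩
      rw [this]
    rw [this, smul_smul]
  · refine ⟨0, ?_⟩
    rw [h1, sum_hom_units_eq_zero ψ hψ, zero_smul, zero_smul]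

include H hL hmax hw in
theorem Eop_mul_Eop [Fintype L] [Finite (Γ ⧸ ι.range)] (hirr : ρ.IsIrreducible)
    (T : V →ₗ[k] V) : ∃ c : k, Eop L ρ * T * Eop L ρ = c • Eop L ρ := by
  have hT := burnside ρ hirr T
  induction hT using Submodule.span_induction with
  | mem x hx =>
    obtain ⟨g, rfl⟩ := hx
    exact Eop_rho_Eop H L hL hmax ρ hw g
  | zero => exact ⟨0, by simp⟩
  | add x y _ _ hx hy =>
    obtain ⟨c, hc⟩ := hx
    obtain ⟨c', hc'⟩ := hy
    exact ⟨c + c', by rw [mul_add, add_mul, hc, hc', add_smul]⟩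
  | smul a x _ hx =>
    obtain ⟨c, hc⟩ := hx
    exact ⟨a * c, by rw [mul_smul_comm, smul_mul_assoc, hc, smul_smul]⟩

include H hL hw in
theorem trace_Eop [Fintype L] : LinearMap.trace k V (Eop L ρ) = (Module.finrank k V : k) := by
  classical
  unfold Eop
  rw [map_sum, Finset.sum_eq_single (1 : L)]
  · rw [OneMemClass.coe_one, map_one, LinearMap.trace_one]
  · intro h _ hne
    have hnot : (h : Γ) ∉ ι.range := by
      intro hmem
      apply hne
      have : (h : Γ) ∈ L ⊓ ι.range := ⟨h.2, hmem⟩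
      rw [hL, Subgroup.mem_bot] at this
      exact Subtype.ext this
    exact character_eq_zero H ρ hw _ hnot
  · intro h
    exact absurd (Finset.mem_univ _) h

include H hL hmax hw in
theorem finrank_invariants_eq_one [Finite (Γ ⧸ ι.range)]
    (hcop : (Nat.card (Γ ⧸ ι.range)).Coprime (ringExpChar k)) (hirr : ρ.IsIrreducible) :
    Module.finrank k (invariants (ρ.comp L.subtype)) = 1 := by
  classical
  have := level_finite L hL
  have := Fintype.ofFinite L
  have hN : (Nat.card (Γ ⧸ ι.range) : k) ≠ 0 :=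
    natCast_ne_zero_of_coprime k Nat.card_pos hcop
  have hLk : (Nat.card L : k) ≠ 0 :=
    natCast_ne_zero_of_coprime k Nat.card_pos
      (Nat.Coprime.coprime_dvd_left (level_card_dvd H L hL) hcop)
  have hn : (Module.finrank k V : k) ≠ 0 := by
    have h1 := finrank_sq H ρ hw hirr
    intro h0
    apply hN
    rw [← h1, Nat.cast_pow, h0, zero_pow two_ne_zero]
  have hE : Eop L ρ ≠ 0 := by
    intro h0
    have := trace_Eop H L hL ρ hw
    rw [h0, map_zero] at this
    exact hn this.symm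
  obtain ⟨v₀, hv₀⟩ : ∃ v₀, Eop L ρ v₀ ≠ 0 := by
    by_contra hne
    push Not at hne
    exact hE (LinearMap.ext hne)
  have hspan : invariants (ρ.comp L.subtype) = Submodule.span k {Eop L ρ v₀} := by
    apply le_antisymm
    · intro w hw'
      obtain ⟨φ, hφ⟩ : ∃ φ : Module.Dual k V, φ (Eop L ρ v₀) ≠ 0 := by
        by_contra hne
        push Not at hne
        exact hv₀ ((Module.forall_dual_apply_eq_zero_iff k _).mp hne)
      let T : V →ₗ[k] V := (φ (Eop L ρ v₀))⁻¹ • φ.smulRight w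
      have hT : T (Eop L ρ v₀) = w := by
        show ((φ (Eop L ρ v₀))⁻¹ • φ.smulRight w) (Eop L ρ v₀) = w
        rw [LinearMap.smul_apply, LinearMap.smulRight_apply, smul_smul, inv_mul_cancel₀ hφ,
          one_smul]
      obtain ⟨c, hc⟩ := Eop_mul_Eop H L hL hmax ρ hw hirr T
      have h2 := LinearMap.congr_fun hc v₀
      rw [Module.End.mul_apply, Module.End.mul_apply, hT, Eop_of_mem_invariants L ρ w hw',
        LinearMap.smul_apply] at h2
      rw [Submodule.mem_span_singleton]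
      refine ⟨(Nat.card L : k)⁻¹ * c, ?_⟩
      rw [mul_smul, ← h2, smul_smul, inv_mul_cancel₀ hLk, one_smul]
    · rw [Submodule.span_singleton_le_iff_mem]
      exact Eop_mem_invariants L ρ v₀
  rw [hspan, finrank_span_singleton hv₀]

end invdim

end Groth.Agent.Lib.Helper26.Theta
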