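import Mathlib
import Groth.Agent.Lib.Helper26.Theta5

universe u

namespace Groth.Agent.Lib.Helper26.Theta

open Function Representation

section main

variable {k : Type u} [Field k] [IsAlgClosed k] {Γ : Type u} [Group Γ] {ι : kˣ →* Γ} (H : Hyp ι)
  [Finite (Γ ⧸ ι.range)]
  (L : Subgroup Γ) (hL : L ⊓ ι.range = ⊥)
  (hmax : ∀ L' : Subgroup Γ, L' ⊓ ι.range = ⊥ → L ≤ L' → L' = L)
  {V : Type u} [AddCommGroup V] [Module k V] [FiniteDimensional k V]
  (ρV : Representation k Γ V) (hV : ∀ (z : kˣ) (v : V), ρV (ι z) v = (z : k) • v)

include H hL hmax hV in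
theorem finrank_eq_mul (hcop : (Nat.card (Γ ⧸ ι.range)).Coprime (ringExpChar k))
    (hVirr : ρV.IsIrreducible) :
    ∀ (m : ℕ) (W : Type u) [AddCommGroup W] [Module k W] [FiniteDimensional k W]
      (ρW : Representation k Γ W) (_ : ∀ (z : kˣ) (w : W), ρW (ι z) w = (z : k) • w),
      Module.finrank k W = m →
      Module.finrank k W =
        Module.finrank k (invariants (ρW.comp L.subtype)) * Module.finrank k V := by
  have hN : (Nat.card (Γ ⧸ ι.range) : k) ≠ 0 :=
    natCast_ne_zero_of_coprime k Nat.card_pos hcop
  have hn0 : Module.finrank k V ≠ 0 := by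
    have h1 := finrank_sq H ρV hV hVirr
    intro h0
    rw [h0] at h1
    have : 0 < Nat.card (Γ ⧸ ι.range) := Nat.card_pos
    rw [← h1] at this
    simp at this
  intro m
  induction m using Nat.strong_induction_on with
  | _ m ih =>
    intro W _ _ _ ρW hW hm
    by_cases hsub : Subsingleton W
    · rw [Module.finrank_zero_of_subsingleton, Module.finrank_zero_of_subsingleton, zero_mul]
    · rw [not_subsingleton_iff_nontrivial] at hsub
      obtain ⟨S, hS⟩ := exists_irreducible_sub ρW
      have hSw : ∀ (z : kˣ) (s : S.toSubmodule), S.toRepresentation (ι z) s = (z : k) • s := by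
        intro z s
        exact Subtype.ext (hW z s.1)
      obtain ⟨φ⟩ := nonempty_equiv H S.toRepresentation ρV hSw hV hcop hS hVirr
      have hSn : Module.finrank k S.toSubmodule = Module.finrank k V :=
        φ.toLinearEquiv.finrank_eq
      have hSinv : Module.finrank k (invariants (S.toRepresentation.comp L.subtype)) = 1 := by
        rw [finrank_invariants_equiv S.toRepresentation ρV φ L]
        exact finrank_invariants_eq_one H L hL hmax ρV hV hcop hVirr
      obtain ⟨S', hc⟩ := exists_compl H ρW hW hN S
      have hS'w : ∀ (z : kˣ) (s : S'.toSubmodule), S'.toRepresentation (ι z) s = (z : k) • s := by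
        intro z s
        exact Subtype.ext (hW z s.1)
      have hcs : IsCompl S.toSubmodule S'.toSubmodule := by
        constructor
        · rw [disjoint_iff]
          exact congrArg Subrepresentation.toSubmodule hc.inf_eq_bot
        · rw [codisjoint_iff]
          exact congrArg Subrepresentation.toSubmodule hc.sup_eq_top
      have hadd := Submodule.finrank_add_eq_of_isCompl hcs
      have hlt : Module.finrank k S'.toSubmodule < m := by
        rw [← hm, ← hadd, hSn]
        omega
      have hih := ih _ hlt S'.toSubmodule S'.toRepresentation hS'w rfl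
      have hinv := finrank_invariants_compl ρW S S' hc L
      rw [hinv, hSinv, ← hadd, hSn, hih]
      ring

include H hL hmax hV in
/-- the main statement -/
theorem main (hcop : (Nat.card (Γ ⧸ ι.range)).Coprime (ringExpChar k))
    (hVirr : ρV.IsIrreducible)
    {W : Type u} [AddCommGroup W] [Module k W] [FiniteDimensional k W]
    (ρW : Representation k Γ W) (hW : ∀ (z : kˣ) (w : W), ρW (ι z) w = (z : k) • w) :
    IsSemisimpleRepresentation ρW ∧
      Module.finrank k W =
        Module.finrank k (invariants (ρW.comp L.subtype)) * Module.finrank k V :=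
  ⟨isSemisimple H ρW hW (natCast_ne_zero_of_coprime k Nat.card_pos hcop),
    finrank_eq_mul H L hL hmax ρV hV hcop hVirr _ W ρW hW rfl⟩

end main

end Groth.Agent.Lib.Helper26.Theta
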