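import Mathlib

set_option autoImplicit false
universe u

namespace Groth.Agent.Helper26.ThetaLag

open MonoidHom

theorem card_perp {K : Type*} [CommGroup K] [Finite K] {M : Type*} [CommMonoid M]
    [hM : HasEnoughRootsOfUnity M (Monoid.exponent K)]
    (Φ : K →* (K →* Mˣ)) (hΦ : Function.Injective Φ) (L : Subgroup K) :
    Nat.card ((MonoidHom.domRestrictHom L Mˣ).comp Φ).ker * Nat.card L = Nat.card K := by
  have e := (CommGroup.monoidHom_mulEquiv_of_hasEnoughRootsOfUnity K M).some
  have : Finite (K →* Mˣ) := Finite.of_equiv K e.symm.toEquiv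
  have hcard : Nat.card (K →* Mˣ) = Nat.card K := Nat.card_congr e.toEquiv
  have hΦs : Function.Surjective Φ :=
    ((Nat.bijective_iff_injective_and_card Φ).2 ⟨hΦ, hcard.symm⟩).2
  have hρ : Function.Surjective ((MonoidHom.domRestrictHom L Mˣ).comp Φ) := by
    rw [MonoidHom.coe_comp]
    exact (MonoidHom.domRestrict_surjective (M := M) L).comp hΦs
  have hL : HasEnoughRootsOfUnity M (Monoid.exponent L) :=
    hM.of_dvd M <| Monoid.exponent_submonoid_dvd L.toSubmonoid
  have h1 := Nat.card_congr (QuotientGroup.quotientKerEquivOfSurjective _ hρ).toEquiv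
  rw [CommGroup.card_monoidHom_of_hasEnoughRootsOfUnity L M] at h1
  rw [← h1, mul_comm]
  exact (Subgroup.card_eq_card_quotient_mul_card_subgroup _).symm

end Groth.Agent.Helper26.ThetaLag
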