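import Mathlib

set_option autoImplicit false
universe u

namespace Groth.Agent.Helper26.ThetaLag

open scoped commutatorElement

variable {Γ : Type*} [Group Γ] {A : Type*} [CommGroup A] (ι : A →* Γ)
  (hι : Function.Injective ι) (hcent : ι.range = Subgroup.center Γ)
  (hcomm : commutator Γ ≤ ι.range)

include hcomm in
theorem comm_mem (x y : Γ) : ⁅x, y⁆ ∈ ι.range :=
  hcomm (Subgroup.commutator_mem_commutator (Subgroup.mem_top x) (Subgroup.mem_top y))

/-- the commutator pairing with values in `A`. -/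
noncomputable def pair (x y : Γ) : A :=
  (MonoidHom.ofInjective hι).symm ⟨⁅x, y⁆, comm_mem ι hcomm x y⟩

theorem ι_pair (x y : Γ) : ι (pair ι hι hcomm x y) = ⁅x, y⁆ := by
  have := (MonoidHom.ofInjective hι).apply_symm_apply ⟨⁅x, y⁆, comm_mem ι hcomm x y⟩
  have h2 := congrArg Subtype.val this
  rw [MonoidHom.ofInjective_apply] at h2
  exact h2

include hcent hcomm in
theorem comm_central (x y g : Γ) : g * ⁅x, y⁆ = ⁅x, y⁆ * g := by
  have h := comm_mem ι hcomm x y
  rw [hcent, Subgroup.mem_center_iff] at h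
  exact h g

include hcent in
theorem pair_mul_right (x y z : Γ) :
    pair ι hι hcomm x (y * z) = pair ι hι hcomm x y * pair ι hι hcomm x z := by
  apply hι
  rw [map_mul, ι_pair, ι_pair, ι_pair]
  have hc := comm_central ι hcent hcomm x z y⁻¹
  calc ⁅x, y * z⁆ = x * y * x⁻¹ * (⁅x, z⁆ * y⁻¹) := by
        simp only [commutatorElement_def]; group
    _ = x * y * x⁻¹ * (y⁻¹ * ⁅x, z⁆) := by rw [hc]
    _ = ⁅x, y⁆ * ⁅x, z⁆ := by simp only [commutatorElement_def]; group

include hcent in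
theorem pair_mul_left (x y z : Γ) :
    pair ι hι hcomm (x * y) z = pair ι hι hcomm x z * pair ι hι hcomm y z := by
  apply hι
  rw [map_mul, ι_pair, ι_pair, ι_pair]
  have hc := comm_central ι hcent hcomm y z x⁻¹
  calc ⁅x * y, z⁆ = x * (⁅y, z⁆ * x⁻¹) * (x * z * x⁻¹ * z⁻¹) := by
        simp only [commutatorElement_def]; group
    _ = x * (x⁻¹ * ⁅y, z⁆) * (x * z * x⁻¹ * z⁻¹) := by rw [hc]
    _ = ⁅y, z⁆ * ⁅x, z⁆ := by simp only [commutatorElement_def]; group
    _ = ⁅x, z⁆ * ⁅y, z⁆ := (comm_central ι hcent hcomm y z _).symm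

theorem pair_eq_one_iff (x y : Γ) : pair ι hι hcomm x y = 1 ↔ x * y = y * x := by
  rw [← hι.eq_iff, ι_pair, map_one, commutatorElement_eq_one_iff_mul_comm]

include hcent in
theorem pair_eq_one_of_mem_right (x : Γ) {y : Γ} (hy : y ∈ ι.range) :
    pair ι hι hcomm x y = 1 := by
  rw [pair_eq_one_iff]
  rw [hcent, Subgroup.mem_center_iff] at hy
  exact hy x

include hcent in
theorem pair_eq_one_of_mem_left {x : Γ} (y : Γ) (hx : x ∈ ι.range) :
    pair ι hι hcomm x y = 1 := by
  rw [pair_eq_one_iff]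
  rw [hcent, Subgroup.mem_center_iff] at hx
  exact (hx y).symm

end Groth.Agent.Helper26.ThetaLag
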