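import Mathlib
import Groth.Agent.Lib.Helper26.ThetaLag1
import Groth.Agent.Lib.Helper26.ThetaLag2

set_option autoImplicit false
universe u

namespace Groth.Agent.Helper26.ThetaLag

open scoped commutatorElement

variable {Γ : Type*} [Group Γ] {A : Type*} [CommGroup A] (ι : A →* Γ)
  (hι : Function.Injective ι) (hcent : ι.range = Subgroup.center Γ)
  (hcomm : commutator Γ ≤ ι.range)

/-- `c_x : Γ →* A`. -/
noncomputable def cHom (x : Γ) : Γ →* A where
  toFun y := pair ι hι hcomm x y
  map_one' := pair_eq_one_of_mem_right ι hι hcent hcomm x (one_mem _)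
  map_mul' := pair_mul_right ι hι hcent hcomm x

variable [hn : ι.range.Normal]

include hcomm in
theorem quot_mul_comm (a b : Γ ⧸ ι.range) : a * b = b * a := by
  induction a using QuotientGroup.induction_on with
  | H x =>
    induction b using QuotientGroup.induction_on with
    | H y =>
      rw [← QuotientGroup.mk_mul, ← QuotientGroup.mk_mul, QuotientGroup.eq]
      have : (x * y)⁻¹ * (y * x) = ⁅y⁻¹, x⁻¹⁆ := by
        simp only [commutatorElement_def]; group
      rw [this]
      exact comm_mem ι hcomm _ _

/-- the commutative group structure on the quotient. -/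
@[reducible] noncomputable def quotCommGroup : CommGroup (Γ ⧸ ι.range) :=
  { QuotientGroup.Quotient.group ι.range with mul_comm := quot_mul_comm ι hcomm }

noncomputable def cBar (x : Γ) : (Γ ⧸ ι.range) →* A :=
  QuotientGroup.lift ι.range (cHom ι hι hcent hcomm x)
    (fun _ hy => pair_eq_one_of_mem_right ι hι hcent hcomm x hy)

theorem cBar_mk (x y : Γ) : cBar ι hι hcent hcomm x (y : Γ ⧸ ι.range) = pair ι hι hcomm x y := rfl

noncomputable def Psi : Γ →* ((Γ ⧸ ι.range) →* A) where
  toFun := cBar ι hι hcent hcomm
  map_one' := by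
    apply QuotientGroup.monoidHom_ext
    ext y
    exact pair_eq_one_of_mem_left ι hι hcent hcomm y (one_mem _)
  map_mul' x x' := by
    apply QuotientGroup.monoidHom_ext
    ext y
    exact pair_mul_left ι hι hcent hcomm x x' y

noncomputable def Phi : (Γ ⧸ ι.range) →* ((Γ ⧸ ι.range) →* A) :=
  QuotientGroup.lift ι.range (Psi ι hι hcent hcomm) (fun x hx => by
    apply QuotientGroup.monoidHom_ext
    ext y
    exact pair_eq_one_of_mem_left ι hι hcent hcomm y hx)

theorem Phi_mk_mk (x y : Γ) :
    Phi ι hι hcent hcomm (x : Γ ⧸ ι.range) (y : Γ ⧸ ι.range) = pair ι hι hcomm x y := rfl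

theorem Phi_injective : Function.Injective (Phi ι hι hcent hcomm) := by
  rw [injective_iff_map_eq_one]
  intro a ha
  induction a using QuotientGroup.induction_on with
  | H x =>
    rw [QuotientGroup.eq_one_iff, hcent, Subgroup.mem_center_iff]
    intro y
    have := DFunLike.congr_fun ha (y : Γ ⧸ ι.range)
    rw [Phi_mk_mk, MonoidHom.one_apply, pair_eq_one_iff] at this
    exact this.symm

end Groth.Agent.Helper26.ThetaLag
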