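import Mathlib
import Groth.Agent.Lib.Helper26.ThetaLag1
import Groth.Agent.Lib.Helper26.ThetaLag2
import Groth.Agent.Lib.Helper26.ThetaLag3

set_option autoImplicit false
universe u

namespace Groth.Agent.Helper26.ThetaLag

open scoped commutatorElement

theorem relIndex_eq_card_map {Γ : Type*} [Group Γ] (Z H : Subgroup Γ) [Z.Normal] :
    Z.relIndex H = Nat.card (H.map (QuotientGroup.mk' Z)) := by
  rw [← Subgroup.relIndex_bot_left, ← Subgroup.relIndex_comap, MonoidHom.comap_bot,
    QuotientGroup.ker_mk']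

theorem star {Γ : Type*} [Group Γ] {k : Type*} [CommMonoid k] (ι : kˣ →* Γ)
    (hι : Function.Injective ι) (hcent : ι.range = Subgroup.center Γ)
    (hcomm : commutator Γ ≤ ι.range) [hn : ι.range.Normal] [Finite (Γ ⧸ ι.range)]
    (hroots : @HasEnoughRootsOfUnity k _ (@Monoid.exponent (Γ ⧸ ι.range)
      (quotCommGroup ι hcomm).toMonoid))
    (H : Subgroup Γ) (hH : ι.range ≤ H) :
    ι.range.relIndex (Subgroup.centralizer (H : Set Γ)) * ι.range.relIndex H = ι.range.index := by
  let _ := quotCommGroup ι hcomm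
  have key := card_perp (K := Γ ⧸ ι.range) (M := k) (Phi ι hι hcent hcomm)
    (Phi_injective ι hι hcent hcomm) (H.map (QuotientGroup.mk' ι.range))
  have hker : (Subgroup.centralizer (H : Set Γ)).map (QuotientGroup.mk' ι.range) =
      ((MonoidHom.domRestrictHom (H.map (QuotientGroup.mk' ι.range)) kˣ).comp
        (Phi ι hι hcent hcomm)).ker := ?_
  · rw [relIndex_eq_card_map, relIndex_eq_card_map, Subgroup.index_eq_card, hker]
    exact key
  ext a
  induction a using QuotientGroup.induction_on with
  | H x =>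
    rw [MonoidHom.mem_ker]
    constructor
    · rintro ⟨x', hx', hxx'⟩
      apply MonoidHom.ext
      rintro ⟨b, y, hy, rfl⟩
      rw [← hxx']
      simp only [MonoidHom.comp_apply, MonoidHom.domRestrictHom_apply, MonoidHom.one_apply]
      show Phi ι hι hcent hcomm (x' : Γ ⧸ ι.range) (y : Γ ⧸ ι.range) = 1
      rw [Phi_mk_mk, pair_eq_one_iff]
      exact (Subgroup.mem_centralizer_iff.1 hx' y hy).symm
    · intro hx
      refine ⟨x, ?_, rfl⟩
      rw [SetLike.mem_coe, Subgroup.mem_centralizer_iff]
      intro y hy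
      have := DFunLike.congr_fun hx ⟨(y : Γ ⧸ ι.range), y, hy, rfl⟩
      simp only [MonoidHom.comp_apply, MonoidHom.domRestrictHom_apply, MonoidHom.one_apply] at this
      have h2 : Phi ι hι hcent hcomm (x : Γ ⧸ ι.range) (y : Γ ⧸ ι.range) = 1 := this
      rw [Phi_mk_mk, pair_eq_one_iff] at h2
      exact h2.symm

end Groth.Agent.Helper26.ThetaLag
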