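import Mathlib
import Groth.Agent.Lib.Helper26.ThetaLag4

set_option autoImplicit false
universe u

namespace Groth.Agent.Helper26.ThetaLag

theorem natCast_ne_zero_of_coprime (k : Type*) [Field k] (n : ℕ) (hn : n ≠ 0)
    (h : n.Coprime (ringExpChar k)) : (n : k) ≠ 0 := by
  have hq := ringExpChar.expChar k
  generalize ringExpChar k = q at h hq
  cases hq with
  | zero => exact Nat.cast_ne_zero.2 hn
  | prime hp =>
    intro h0
    rw [CharP.cast_eq_zero_iff k q n] at h0
    have : q ∣ 1 := by
      have := Nat.dvd_gcd h0 (dvd_refl q)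
      rwa [h] at this
    exact hp.one_lt.ne' (Nat.dvd_one.1 this)

theorem main (k : Type u) [Field k] [IsAlgClosed k]
    (Γ : Type u) [Group Γ] (ι : kˣ →* Γ) (hι : Function.Injective ι)
    (hcent : ι.range = Subgroup.center Γ) (hcomm : commutator Γ ≤ ι.range)
    [Finite (Γ ⧸ ι.range)] (hcop : (Nat.card (Γ ⧸ ι.range)).Coprime (ringExpChar k))
    (H : Subgroup Γ) (hH : ι.range ≤ H) :
    List.TFAE [
      IsMulCommutative H ∧ ∀ H' : Subgroup Γ, IsMulCommutative H' → H ≤ H' → H' = H,
      IsMulCommutative H ∧ (ι.range.relIndex H) ^ 2 = ι.range.index,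
      H = Subgroup.centralizer (H : Set Γ)] := by
  have hn : ι.range.Normal := by rw [hcent]; infer_instance
  have hstar := fun hroots => star ι hι hcent hcomm hroots H hH
  have hroots : @HasEnoughRootsOfUnity k _ (@Monoid.exponent (Γ ⧸ ι.range)
      (quotCommGroup ι hcomm).toMonoid) := by
    let _ := quotCommGroup ι hcomm
    have hdvd : Monoid.exponent (Γ ⧸ ι.range) ∣ Nat.card (Γ ⧸ ι.range) :=
      Group.exponent_dvd_nat_card
    have hne : Monoid.exponent (Γ ⧸ ι.range) ≠ 0 := Monoid.exponent_ne_zero_of_finite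
    have : NeZero ((Monoid.exponent (Γ ⧸ ι.range) : ℕ) : k) :=
      ⟨natCast_ne_zero_of_coprime k _ hne (Nat.Coprime.coprime_dvd_left hdvd hcop)⟩
    infer_instance
  have hst := hstar hroots
  have hfin : ι.range.index ≠ 0 := by
    rw [Subgroup.index_eq_card]
    exact Nat.card_pos.ne'
  tfae_have 3 → 1 := by
    intro h
    have hc : IsMulCommutative H := Subgroup.le_centralizer_iff_isMulCommutative.1 h.le
    refine ⟨hc, ?_⟩
    intro H' hH' hle
    apply le_antisymm _ hle
    rw [h]
    exact (Subgroup.le_centralizer H').trans (Subgroup.centralizer_le hle)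
  tfae_have 1 → 3 := by
    rintro ⟨hc, hmax⟩
    apply le_antisymm (Subgroup.le_centralizer H)
    intro x hx
    have hcl : IsMulCommutative (Subgroup.closure ((H : Set Γ) ∪ {x})) := by
      apply Subgroup.isMulCommutative_closure
      rintro a (ha | ha) b (hb | hb)
      · exact setLike_mul_comm ha hb
      · rw [Set.mem_singleton_iff] at hb
        rw [hb]
        exact (Subgroup.mem_centralizer_iff.1 hx a ha)
      · rw [Set.mem_singleton_iff] at ha
        rw [ha]
        exact (Subgroup.mem_centralizer_iff.1 hx b hb).symm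
      · rw [Set.mem_singleton_iff] at ha hb
        rw [ha, hb]
    have := hmax _ hcl (fun y hy => Subgroup.subset_closure (Or.inl hy))
    rw [← this]
    exact Subgroup.subset_closure (Or.inr rfl)
  tfae_have 3 → 2 := by
    intro h
    have hc : IsMulCommutative H := Subgroup.le_centralizer_iff_isMulCommutative.1 h.le
    refine ⟨hc, ?_⟩
    rw [← h] at hst
    rw [pow_two]
    exact hst
  tfae_have 2 → 3 := by
    rintro ⟨hc, hsq⟩
    have hle : H ≤ Subgroup.centralizer (H : Set Γ) := Subgroup.le_centralizer H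
    apply le_antisymm hle
    rw [← Subgroup.relIndex_eq_one]
    have h1 := Subgroup.relIndex_mul_relIndex _ _ _ hH hle
    rw [← hsq, pow_two, ← h1] at hst
    have hne : ι.range.relIndex H ≠ 0 := by
      intro h0
      rw [h0] at hsq
      exact hfin (by rw [← hsq]; norm_num)
    have h2 : ι.range.relIndex H * H.relIndex (Subgroup.centralizer (H : Set Γ)) =
        ι.range.relIndex H * 1 := by
      rw [mul_one]
      exact Nat.eq_of_mul_eq_mul_right (Nat.pos_of_ne_zero hne) hst
    exact Nat.eq_of_mul_eq_mul_left (Nat.pos_of_ne_zero hne) h2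
  tfae_finish

end Groth.Agent.Helper26.ThetaLag
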