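import Mathlib

set_option autoImplicit false
universe u

namespace Groth.Agent.Helper26.TildeGen

/-- generators of a localization lift, up to powers of `f`, to the module -/
theorem exists_lifts {R : Type*} [CommRing R] (f : R) {S : Type*} [CommRing S] [Algebra R S]
    [IsLocalization.Away f S]
    {M M' : Type*} [AddCommGroup M] [Module R M] [AddCommGroup M'] [Module R M'] [Module S M']
    [IsScalarTower R S M']
    (g : M →ₗ[R] M') [IsLocalizedModule (Submonoid.powers f) g]
    {n : ℕ} (σ : Fin n → M') (hσ : Submodule.span S (Set.range σ) = ⊤) :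
    ∃ x : Fin n → M, ∀ y : M, ∃ k : ℕ, f ^ k • y ∈ Submodule.span R (Set.range x) := by
  choose xc hxc using fun j => IsLocalizedModule.surj (Submonoid.powers f) g (σ j)
  refine ⟨fun j => (xc j).1, fun y => ?_⟩
  set T := Submodule.span R (Set.range fun j => (xc j).1) with hT
  have hle : Submodule.span S (Set.range σ) ≤ T.localized' S (Submonoid.powers f) g := by
    rw [Submodule.span_le]
    rintro _ ⟨j, rfl⟩
    rw [SetLike.mem_coe, Submodule.mem_localized']
    refine ⟨(xc j).1, Submodule.subset_span ⟨j, rfl⟩, (xc j).2, ?_⟩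
    rw [IsLocalizedModule.mk'_eq_iff]
    exact (hxc j).symm
  have hy : g y ∈ T.localized' S (Submonoid.powers f) g := hle (hσ ▸ Submodule.mem_top)
  rw [Submodule.mem_localized'] at hy
  obtain ⟨m, hm, s, hms⟩ := hy
  rw [IsLocalizedModule.mk'_eq_iff] at hms
  have h1 : g m = g (s • y) := by
    rw [hms]
    exact (map_smul g (s : R) y).symm
  obtain ⟨c, hc⟩ := IsLocalizedModule.exists_of_eq (S := Submonoid.powers f) h1
  obtain ⟨k, hk⟩ := (c * s).2
  refine ⟨k, ?_⟩
  have hk' : f ^ k = (c : R) * (s : R) := hk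
  have h2 : f ^ k • y = c • m := by
    rw [hc, hk', mul_smul]
    rfl
  rw [h2]
  exact T.smul_mem _ hm

theorem span_top_of_cover {R : Type*} [CommRing R] {M : Type*} [AddCommGroup M] [Module R M]
    {m n : ℕ} (f : Fin m → R) (hf : Ideal.span (Set.range f) = ⊤) (x : Fin m → Fin n → M)
    (h : ∀ i (y : M), ∃ k : ℕ, f i ^ k • y ∈ Submodule.span R (Set.range (x i))) :
    ∃ s : Fin (n * m) → M, Submodule.span R (Set.range s) = ⊤ := by
  refine ⟨fun q => x (finProdFinEquiv.symm q).2 (finProdFinEquiv.symm q).1, ?_⟩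
  set T := Submodule.span R
    (Set.range fun q : Fin (n * m) => x (finProdFinEquiv.symm q).2 (finProdFinEquiv.symm q).1) with hT
  have hTi : ∀ i, Submodule.span R (Set.range (x i)) ≤ T := by
    intro i
    apply Submodule.span_mono
    rintro _ ⟨j, rfl⟩
    refine ⟨finProdFinEquiv (j, i), ?_⟩
    simp
  rw [eq_top_iff]
  intro y _
  choose k hk using fun i => h i y
  set K := ∑ i, k i with hK
  have hK' : ∀ i, f i ^ K • y ∈ T := by
    intro i
    have hle : k i ≤ K := Finset.single_le_sum (f := k) (fun _ _ => Nat.zero_le _) (Finset.mem_univ i)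
    obtain ⟨d, hd⟩ := Nat.exists_eq_add_of_le hle
    rw [hd, add_comm, pow_add, mul_smul]
    exact T.smul_mem _ (hTi i (hk i))
  have h1 : Ideal.span (Set.range fun i => f i ^ K) = ⊤ := by
    have := Ideal.span_pow_eq_top (Set.range f) hf K
    rwa [← Set.range_comp] at this
  have h2 : (1 : R) ∈ Ideal.span (Set.range fun i => f i ^ K) := h1 ▸ Submodule.mem_top
  obtain ⟨c, hc⟩ := (Submodule.mem_span_range_iff_exists_fun R).1 h2
  have h3 : y = ∑ i, c i • (f i ^ K • y) := by
    simp_rw [← mul_smul, ← smul_eq_mul, ← Finset.sum_smul]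
    simp only [smul_eq_mul] at hc ⊢
    rw [hc, one_smul]
  rw [h3]
  exact T.sum_mem fun i _ => T.smul_mem _ (hK' i)

end Groth.Agent.Helper26.TildeGen
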