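import Mathlib
import Groth.Prelude.Def_FlatMod2
import Groth.Agent.Lib.Helper13.FinAffine
import Groth.Agent.Lib.Helper13.FinType
import Groth.Agent.Lib.Helper13.Retract
import Groth.Agent.Lib.Helper26.TildeGen1

set_option autoImplicit false
universe u
open CategoryTheory CategoryTheory.Limits AlgebraicGeometry Opposite TopologicalSpace
open Groth.Agent.Helper13.QCoh Groth.Agent.Helper13.FinType Groth.Agent.Helper13.LocFree

namespace Groth.Agent.Helper26.TildeGen

variable (R : CommRingCat.{u}) (M : ModuleCat.{u} R)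

theorem exists_gens_of_epi (n : ℕ) (U : (Spec R).Opens)
    (φ : FlatMod.freeMod (↑U) n ⟶ (AlgebraicGeometry.tilde M).restrict U.ι) [hφ : Epi φ]
    (f : R) (hf : (PrimeSpectrum.basicOpen f : (Spec R).Opens) ≤ U) :
    ∃ x : Fin n → M, ∀ y : M, ∃ k : ℕ, f ^ k • y ∈ Submodule.span R (Set.range x) := by
  let N : (U : Scheme.{u}).Modules := (AlgebraicGeometry.tilde M).restrict U.ι
  let D : (Spec R).Opens := PrimeSpectrum.basicOpen f
  let e := freeULiftIsoFreeMod (X := (U : Scheme.{u})) n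
  have he : IsIso e.hom := Iso.isIso_hom e
  let ψ : SheafOfModules.free (R := (U : Scheme.{u}).ringCatSheaf) (ULift.{u} (Fin n)) ⟶ N :=
    e.hom ≫ φ
  have he' : Epi e.hom := @IsIso.epi_of_iso _ _ _ _ e.hom he
  have hψ : Epi ψ := @epi_comp _ _ _ _ _ e.hom he' φ hφ
  let s : ULift.{u} (Fin n) → SheafOfModules.sections N := (SheafOfModules.freeHomEquiv N) ψ
  have hs : (SheafOfModules.freeHomEquiv N).symm s = ψ := Equiv.symm_apply_apply _ _
  have h1 : GenOn N ⊤ (fun i => secOn N (s i) ⊤) := by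
    rw [← epi_iff_genOn_top, hs]
    exact hψ
  have h2 := LocGenOn.of_genOn h1
  have h3 := LocGenOn.of_restrict U.ι (AlgebraicGeometry.tilde M) ⊤ _ h2
  have hle : D ≤ U.ι ''ᵁ ⊤ := by
    rw [Scheme.Opens.ι_image_top]; exact hf
  have h4 := LocGenOn.mono h3 hle
  have h5 := GenOn.of_locGenOn h4
  have haff : IsAffineOpen D := IsAffineOpen.Spec_basicOpen f
  have h6 := span_eq_top_of_genOn (AlgebraicGeometry.tilde M) haff _ h5
  let σ : Fin n → Γ(AlgebraicGeometry.tilde M, D) := fun j =>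
    resFam (AlgebraicGeometry.tilde M) (fun i => (id (secOn N (s i) ⊤) :
      Γ(AlgebraicGeometry.tilde M, U.ι ''ᵁ ⊤))) hle (ULift.up j)
  have hσ : Submodule.span Γ(Spec R, D) (Set.range σ) = ⊤ := by
    rw [← h6]
    congr 1
    ext t
    constructor
    · rintro ⟨j, rfl⟩
      exact ⟨ULift.up j, rfl⟩
    · rintro ⟨⟨j⟩, rfl⟩
      exact ⟨j, rfl⟩
  have hst : IsScalarTower R Γ(Spec R, D) Γ(AlgebraicGeometry.tilde M, D) := inferInstance
  have hloc : IsLocalizedModule (Submonoid.powers f) (tilde.toOpen M D).hom :=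
    inferInstanceAs (IsLocalizedModule.Away f (tilde.toOpen M (PrimeSpectrum.basicOpen f)).hom)
  exact @exists_lifts R _ f Γ(Spec R, D) _ _ _ M Γ(AlgebraicGeometry.tilde M, D) _ _ _ _ _ hst
    (tilde.toOpen M D).hom hloc n σ hσ

end Groth.Agent.Helper26.TildeGen
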