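import Mathlib
import Groth.Prelude.Def_FlatMod2
import Groth.Agent.Lib.Helper26.TildeGen1
import Groth.Agent.Lib.Helper26.TildeGen2

set_option autoImplicit false
universe u
open CategoryTheory CategoryTheory.Limits AlgebraicGeometry Opposite TopologicalSpace

namespace Groth.Agent.Helper26.TildeGen

theorem exists_partition {R : Type u} [CommRing R] {m : ℕ}
    (U : Fin m → Opens (PrimeSpectrum R)) (hU : ⨆ i, U i = ⊤) :
    ∃ f : Fin m → R, Ideal.span (Set.range f) = ⊤ ∧ ∀ i, PrimeSpectrum.basicOpen (f i) ≤ U i := by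
  let I : Fin m → Ideal R := fun i => PrimeSpectrum.vanishingIdeal ((U i : Set (PrimeSpectrum R))ᶜ)
  have hI : ∀ i, PrimeSpectrum.zeroLocus (I i : Set R) = (U i : Set (PrimeSpectrum R))ᶜ := by
    intro i
    rw [PrimeSpectrum.zeroLocus_vanishingIdeal_eq_closure]
    exact (U i).2.isClosed_compl.closure_eq
  have htop : (⨆ i, I i) = ⊤ := by
    rw [← PrimeSpectrum.zeroLocus_empty_iff_eq_top, PrimeSpectrum.zeroLocus_iSup]
    simp_rw [hI]
    rw [← Set.compl_iUnion, Set.compl_empty_iff]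
    have := congrArg (fun V : Opens (PrimeSpectrum R) => (V : Set (PrimeSpectrum R))) hU
    simpa using this
  have h1 : (1 : R) ∈ ⨆ i ∈ (Finset.univ : Finset (Fin m)), I i := by
    simp only [Finset.mem_univ, iSup_pos]
    rw [htop]; trivial
  obtain ⟨μ, hμ⟩ := (Submodule.mem_iSup_finset_iff_exists_sum _ _).1 h1
  refine ⟨fun i => (μ i : R), ?_, ?_⟩
  · rw [Ideal.eq_top_iff_one, ← hμ]
    exact Ideal.sum_mem _ fun i _ => Ideal.subset_span ⟨i, rfl⟩
  · intro i p hp
    by_contra hpU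
    have h2 : (μ i : R) ∈ p.asIdeal :=
      (PrimeSpectrum.mem_vanishingIdeal _ _).1 (μ i).2 p hpU
    exact hp h2

theorem main (R : CommRingCat.{u}) (M : ModuleCat.{u} R) (n m : ℕ) (U : Fin m → (Spec R).Opens)
    (hU : ⨆ i, U i = ⊤)
    (hgen : ∀ i, ∃ φ : FlatMod.freeMod (↑(U i)) n ⟶ (AlgebraicGeometry.tilde M).restrict (U i).ι,
      Epi φ) :
    ∃ s : Fin (n * m) → M, Submodule.span R (Set.range s) = ⊤ := by
  obtain ⟨f, hf, hfU⟩ := exists_partition (R := R) U hU
  choose φ hφ using hgen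
  choose x hx using fun i => @exists_gens_of_epi R M n (U i) (φ i) (hφ i) (f i) (hfU i)
  exact span_top_of_cover f hf x hx

end Groth.Agent.Helper26.TildeGen
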