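import Mathlib
import Groth.Prelude
import Groth.Agent.Lib.Helper18.FpqcTorsor
import Groth.Agent.Lib.Helper16.Sch.SmoothSec

set_option autoImplicit false
universe u
open CategoryTheory AlgebraicGeometry MonoidalCategory CartesianMonoidalCategory MonObj GrpObj

namespace Groth.Agent.Lib.Helper26.TorsEt

set_option backward.isDefEq.respectTransparency.types false in
theorem main {X : Scheme.{u}}
    (G : Over X) [GrpObj G] [Smooth G.hom] (P : Over X) (a : AlgGrp.Action G P)
    (h : NonAbH1.IsTorsorFor Scheme.fppfPrecoverage a) :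
    NonAbH1.IsLocallyTrivialFor Scheme.etalePrecoverage P := by
  have h' : NonAbH1.IsTorsorFor Scheme.fpqcPrecoverage a := by
    obtain ⟨h1, R, hR, hsec⟩ := h
    exact ⟨h1, R, Scheme.fppfPrecoverage_le_fpqcPrecoverage X hR, hsec⟩
  have hsurj : Surjective P.hom :=
    Groth.Agent.Helper18.FpqcTorsor.prop_of_isTorsorFor @Surjective G P a h'
      (Groth.Agent.Helper18.FpqcTorsor.surjective_hom_of_monObj G)
  have hsm : Smooth P.hom :=
    Groth.Agent.Helper18.FpqcTorsor.prop_of_isTorsorFor @Smooth G P a h' inferInstance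
  have key : ∀ x : X, ∃ (S' : Scheme.{u}) (g : S' ⟶ X) (s' : S'), Etale g ∧ g s' = x ∧
      ∃ t : S' ⟶ P.left, t ≫ P.hom = g := fun x =>
    Groth.Agent.Helper16.SmoothSec.smooth_section P.hom x (hsurj.surj x)
  choose S' g s' hg hgs t ht using key
  refine ⟨Presieve.ofArrows S' g, ?_, ?_⟩
  · exact (Scheme.ofArrows_mem_precoverage_iff (P := @Etale)).mpr
      ⟨fun x => ⟨x, s' x, hgs x⟩, hg⟩
  · rintro _ _ ⟨x⟩
    exact ⟨t x, ht x⟩

end Groth.Agent.Lib.Helper26.TorsEt
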