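import Mathlib
import Groth.Prelude.Def_RegImm
import Groth.Agent.Lib.Helper6.QReg
import Groth.Agent.Lib.Helper26.BCQR1
import Groth.Agent.Lib.Helper26.TransReg1

set_option autoImplicit false

namespace Groth.Agent.Helper26.TransReg

open TensorProduct

universe u

variable (A B : Type u) [CommRing A] [CommRing B] [Algebra A B]

theorem ofList_eq_span_range_get (rs : List B) :
    Ideal.ofList rs = Ideal.span (Set.range rs.get) := by
  unfold Ideal.ofList
  rw [Set.range_list_get]

theorem flat_quotient_pow_of_trans (rs : List B) (hrs : RegImm.IsTransRegularSeq A B rs) (n : ℕ) :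
    Module.Flat A (B ⧸ Ideal.ofList rs ^ n) := by
  have hq : CAlgX.IsQuasiRegular rs.get := by
    apply Groth.Agent.Helper6.QReg.isQuasiRegular_of_isWeaklyRegular
    rw [List.ofFn_get]
    exact hrs.1
  have hfl : Module.Flat A (B ⧸ Ideal.span (Set.range rs.get)) := by
    have := hrs.2 rs.length le_rfl
    rw [List.take_length, ofList_eq_span_range_get] at this
    exact this
  have := Groth.Agent.Helper26.BCQR.flat_quotient_pow (A := A) rs.get hq n
  rw [ofList_eq_span_range_get]
  exact this

theorem flat_self_of_trans (rs : List B) (hrs : RegImm.IsTransRegularSeq A B rs) :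
    Module.Flat A B := by
  have h := hrs.2 0 (Nat.zero_le _)
  rw [List.take_zero] at h
  have hbot : Ideal.ofList ([] : List B) = ⊥ := by
    unfold Ideal.ofList
    simp
  rw [hbot] at h
  exact Module.Flat.of_linearEquiv
    ((Submodule.quotEquivOfEqBot (⊥ : Ideal B) rfl).symm.restrictScalars A)

/-- An ideal with flat quotient in a flat algebra is flat. -/
theorem flat_ideal_of_flat_quotient (I : Ideal B) [Module.Flat A B] [Module.Flat A (B ⧸ I)] :
    Module.Flat A I := by
  refine Groth.Agent.Helper3.FlatExact.flat_of_exact_left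
    ((Submodule.subtype I).restrictScalars A) ((Submodule.mkQ I).restrictScalars A)
    (Submodule.injective_subtype I) (Submodule.mkQ_surjective I) ?_
  intro b
  constructor
  · intro hb
    exact ⟨⟨b, (Submodule.Quotient.mk_eq_zero I).1 hb⟩, rfl⟩
  · rintro ⟨z, rfl⟩
    exact (Submodule.Quotient.mk_eq_zero I).2 z.2

/-- the quotient `I/I'` for `I' ≤ I` is flat when `B/I` and `B/I'` are. -/
theorem flat_quotient_of_le (I I' : Ideal B) (h : I' ≤ I) [Module.Flat A (B ⧸ I)]
    [Module.Flat A (B ⧸ I')] :
    Module.Flat A (↥I ⧸ (Submodule.comap I.subtype I')) := by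
  let i : (↥I ⧸ (Submodule.comap I.subtype I')) →ₗ[B] B ⧸ I' :=
    Submodule.mapQ _ _ I.subtype le_rfl
  let π : (B ⧸ I') →ₗ[B] B ⧸ I := Submodule.mapQ _ _ LinearMap.id h
  have hi : Function.Injective i := by
    rw [injective_iff_map_eq_zero]
    intro z hz
    obtain ⟨y, rfl⟩ := Submodule.Quotient.mk_surjective _ z
    rw [Submodule.mapQ_apply, Submodule.Quotient.mk_eq_zero] at hz
    rw [Submodule.Quotient.mk_eq_zero]
    exact hz
  have hπ : Function.Surjective π := by
    intro z
    obtain ⟨b, rfl⟩ := Submodule.Quotient.mk_surjective _ z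
    exact ⟨Submodule.Quotient.mk b, rfl⟩
  have hex : Function.Exact i π := by
    intro z
    constructor
    · intro hz
      obtain ⟨b, rfl⟩ := Submodule.Quotient.mk_surjective _ z
      rw [Submodule.mapQ_apply, Submodule.Quotient.mk_eq_zero] at hz
      exact ⟨Submodule.Quotient.mk ⟨b, hz⟩, rfl⟩
    · rintro ⟨y, rfl⟩
      obtain ⟨y, rfl⟩ := Submodule.Quotient.mk_surjective _ y
      rw [Submodule.mapQ_apply, Submodule.mapQ_apply, Submodule.Quotient.mk_eq_zero]
      exact y.2
  exact Groth.Agent.Helper3.FlatExact.flat_of_exact_left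
    (i.restrictScalars A) (π.restrictScalars A) hi hπ hex

attribute [local instance] RestrictScalars.moduleOrig in
theorem main (rs : List B) (hrs : RegImm.IsTransRegularSeq A B rs) (n m : ℕ) (hnm : n < m) :
    Module.Flat A (RestrictScalars A B
      (↥(Ideal.ofList rs ^ n) ⧸ (Submodule.comap (Ideal.ofList rs ^ n).subtype (Ideal.ofList rs ^ m)))) ∧
      ∀ (q : Ideal B) [q.IsPrime], Ideal.ofList rs ≤ q →
        Module.Flat A (RestrictScalars A B (LocalizedModule q.primeCompl ↥(Ideal.ofList rs ^ n))) := by
  have h1 := flat_quotient_pow_of_trans A B rs hrs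
  have hB := flat_self_of_trans A B rs hrs
  constructor
  · have := h1 n
    have := h1 m
    have := flat_quotient_of_le A B (Ideal.ofList rs ^ n) (Ideal.ofList rs ^ m)
      (Ideal.pow_le_pow_right hnm.le)
    exact flat_restrictScalars _
  · intro q _ _
    have := h1 n
    have hJ : Module.Flat A ↥(Ideal.ofList rs ^ n) := flat_ideal_of_flat_quotient A B _
    let e : (LocalizedModule q.primeCompl ↥(Ideal.ofList rs ^ n)) ≃ₗ[B]
        RestrictScalars A B (LocalizedModule q.primeCompl ↥(Ideal.ofList rs ^ n)) :=
      { (RestrictScalars.addEquiv A B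
          (LocalizedModule q.primeCompl ↥(Ideal.ofList rs ^ n))).symm with
        map_smul' := fun b z => rfl }
    have := IsLocalizedModule.of_linearEquiv q.primeCompl
      (LocalizedModule.mkLinearMap q.primeCompl ↥(Ideal.ofList rs ^ n)) e
    exact flat_of_isLocalizedModule (R := A) q.primeCompl
      (e.toLinearMap ∘ₗ LocalizedModule.mkLinearMap q.primeCompl ↥(Ideal.ofList rs ^ n))

end Groth.Agent.Helper26.TransReg
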