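import Mathlib
import Groth.Prelude.Def_Twist2
import Groth.Prelude.Def_ProjUP
import Groth.Agent.Lib.Helper13.WeakAss
import Groth.Agent.Lib.Helper28.TwistLcm

/-!
# `O_X(n)` on `Proj B` is generated by `B_n` for `n ≥ (s-1)(l-1)` (helper26)

`B` generated by homogeneous `f_1 … f_s` of degrees `d_i`, `l = lcm d_i`.
Sheaf part: germs of fractions `fracGerm`, their calculus (`fracGerm_add`, `exists_smul_fracGerm`,
`fracGerm_eq_of_mul_eq`, `fracGerm_globalOf`) and `eq_top_of_fracGerm_mem` (the stalk of `O(n)` is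
exhausted by germs of fractions).  Algebra part: `mem_span_mono`, `exists_large_exponent`,
`mono_good`, `homog_good`, `all_good`.
-/

set_option autoImplicit false
set_option linter.unusedSectionVars false
universe u
open CategoryTheory AlgebraicGeometry Opposite TopologicalSpace TopCat

namespace Groth.Agent.Helper26.TwistGenB

section Alg

variable {R A : Type u} [CommRing R] [CommRing A] [Algebra R A] (𝒜 : ℕ → Submodule R A)
  [GradedAlgebra 𝒜] {s : ℕ} (f : Fin s → A) (deg : Fin s → ℕ)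

/-- the monomial `∏ f_l ^ α_l`. -/
def mono (α : Fin s → ℕ) : A := ∏ l, f l ^ α l

/-- its weight. -/
def wt (α : Fin s → ℕ) : ℕ := ∑ l, α l * deg l

variable {f deg}

theorem mono_mem (hf : ∀ i, f i ∈ 𝒜 (deg i)) (α : Fin s → ℕ) : mono f α ∈ 𝒜 (wt deg α) := by
  have := SetLike.prod_pow_mem_graded 𝒜 deg f (F := Finset.univ) α (fun k _ => hf k)
  simpa only [mono, wt, smul_eq_mul] using this

theorem mono_add_single (α : Fin s → ℕ) (l : Fin s) (c : ℕ) :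
    mono f (α + Pi.single l c) = f l ^ c * mono f α := by
  unfold mono
  have h1 : ∀ l', f l' ^ (α + Pi.single l c : Fin s → ℕ) l' =
      f l' ^ α l' * f l' ^ (Pi.single l c : Fin s → ℕ) l' :=
    fun l' => by rw [Pi.add_apply, pow_add]
  rw [Finset.prod_congr rfl (fun l' _ => h1 l'), Finset.prod_mul_distrib, mul_comm]
  congr 1
  rw [Fintype.prod_eq_single l]
  · rw [Pi.single_eq_same]
  · intro l' hl'
    rw [Pi.single_eq_of_ne hl', pow_zero]

theorem wt_add_single (α : Fin s → ℕ) (l : Fin s) (c : ℕ) :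
    wt deg (α + Pi.single l c) = wt deg α + c * deg l := by
  unfold wt
  have h1 : ∀ l', (α + Pi.single l c : Fin s → ℕ) l' * deg l' =
      α l' * deg l' + (Pi.single l c : Fin s → ℕ) l' * deg l' :=
    fun l' => by rw [Pi.add_apply, add_mul]
  rw [Finset.sum_congr rfl (fun l' _ => h1 l'), Finset.sum_add_distrib]
  congr 1
  rw [Fintype.sum_eq_single l]
  · rw [Pi.single_eq_same]
  · intro l' hl'
    rw [Pi.single_eq_of_ne hl', zero_mul]

theorem exists_add_single (α : Fin s → ℕ) (l : Fin s) (c : ℕ) (h : c ≤ α l) :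
    ∃ α' : Fin s → ℕ, α = α' + Pi.single l c := by
  refine ⟨Function.update α l (α l - c), ?_⟩
  funext l'
  by_cases hl : l' = l
  · subst hl
    rw [Pi.add_apply, Function.update_self, Pi.single_eq_same]
    omega
  · rw [Pi.add_apply, Function.update_of_ne hl, Pi.single_eq_of_ne hl, add_zero]

/-- homogeneous elements are combinations of monomials of the same weight. -/
theorem mem_span_mono (hf : ∀ i, f i ∈ 𝒜 (deg i)) (hgen : Algebra.adjoin R (Set.range f) = ⊤)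
    (m : ℕ) (a : A) (ha : a ∈ 𝒜 m) :
    a ∈ Submodule.span R {b | ∃ α : Fin s → ℕ, wt deg α = m ∧ b = mono f α} := by
  have hmem : a ∈ Algebra.adjoin R (Set.range f) := by rw [hgen]; trivial
  rw [Algebra.adjoin_range_eq_range_aeval] at hmem
  obtain ⟨p, hp⟩ := hmem
  have hp' : (MvPolynomial.aeval f) p = a := hp
  subst hp'
  have h1 : (MvPolynomial.aeval f) p = GradedAlgebra.proj 𝒜 m ((MvPolynomial.aeval f) p) := by
    rw [GradedAlgebra.proj_apply, DirectSum.decompose_of_mem_same 𝒜 ha]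
  rw [h1]
  have h3 : GradedAlgebra.proj 𝒜 m ((MvPolynomial.aeval f) p) =
      ∑ v ∈ p.support, GradedAlgebra.proj 𝒜 m
        ((MvPolynomial.aeval f) (MvPolynomial.monomial v (MvPolynomial.coeff v p))) := by
    conv_lhs => rw [p.as_sum]
    rw [map_sum, map_sum]
  rw [h3]
  refine Submodule.sum_mem _ (fun v _ => ?_)
  rw [MvPolynomial.aeval_monomial, Finsupp.prod_fintype _ _ (fun i => pow_zero _),
    ← Algebra.smul_def, map_smul]
  refine Submodule.smul_mem _ _ ?_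
  have hv : (∏ i, f i ^ v i) ∈ 𝒜 (wt deg ⇑v) := mono_mem 𝒜 hf ⇑v
  by_cases hw : wt deg ⇑v = m
  · rw [GradedAlgebra.proj_apply, DirectSum.decompose_of_mem_same 𝒜 (hw ▸ hv)]
    exact Submodule.subset_span ⟨⇑v, hw, rfl⟩
  · rw [GradedAlgebra.proj_apply, DirectSum.decompose_of_mem_ne 𝒜 hv hw]
    exact Submodule.zero_mem _

/-- `a / s` is a fraction of degree `n`. -/
def IsFr (n : ℤ) (a s : A) : Prop := ∃ p q : ℕ, a ∈ 𝒜 p ∧ s ∈ 𝒜 q ∧ (p : ℤ) = q + n

theorem exists_large_exponent (hdeg : ∀ i, 0 < deg i) (n : ℕ)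
    (hn : (s - 1) * (Finset.univ.lcm deg - 1) ≤ n) (i : Fin s) (α : Fin s → ℕ) (hαi : α i = 0)
    (hw : n < wt deg α) : ∃ l, l ≠ i ∧ Finset.univ.lcm deg / deg l ≤ α l := by
  by_contra hcon
  push Not at hcon
  have hbound : ∀ l ∈ Finset.univ.erase i, α l * deg l ≤ Finset.univ.lcm deg - 1 := by
    intro l hl
    have hli : l ≠ i := Finset.ne_of_mem_erase hl
    have h1 := hcon l hli
    have h2 : Finset.univ.lcm deg / deg l * deg l = Finset.univ.lcm deg :=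
      Nat.div_mul_cancel (Finset.dvd_lcm (Finset.mem_univ l))
    have h3 : (α l + 1) * deg l ≤ Finset.univ.lcm deg / deg l * deg l :=
      Nat.mul_le_mul_right _ h1
    have h4 := hdeg l
    rw [h2, add_mul, one_mul] at h3
    omega
  have h5 : wt deg α = ∑ l ∈ Finset.univ.erase i, α l * deg l := by
    unfold wt
    rw [← Finset.sum_erase_add _ _ (Finset.mem_univ i), hαi, zero_mul, add_zero]
  have h6 := Finset.sum_le_card_nsmul _ _ _ hbound
  rw [Finset.card_erase_of_mem (Finset.mem_univ i), Finset.card_univ, Fintype.card_fin,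
    smul_eq_mul] at h6
  omega

theorem mem_of_eq {a : A} {m m' : ℕ} (h : a ∈ 𝒜 m) (e : m = m') : a ∈ 𝒜 m' := e ▸ h

theorem pow_mem' {a : A} {m : ℕ} (h : a ∈ 𝒜 m) (k : ℕ) : a ^ k ∈ 𝒜 (k * m) := by
  simpa only [smul_eq_mul] using SetLike.pow_mem_graded k h

section Main

variable (hdeg : ∀ i, 0 < deg i) (hf : ∀ i, f i ∈ 𝒜 (deg i))
  (hgen : Algebra.adjoin R (Set.range f) = ⊤) (n : ℕ)
  (hn : (s - 1) * (Finset.univ.lcm deg - 1) ≤ n)
  (N : A → Prop) (hN1 : N 1) (hNmul : ∀ a b, N a → N b → N (a * b))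
  (i : Fin s) (hi : N (f i)) (P : A → A → Prop)
  (H0 : ∀ b ∈ 𝒜 n, P b 1)
  (H1 : ∀ a t a' t', IsFr 𝒜 n a t → N t → IsFr 𝒜 0 a' t' → N t' → P a t → P (a' * a) (t' * t))
  (H2 : ∀ (p q : ℕ) a a' t, a ∈ 𝒜 p → a' ∈ 𝒜 p → t ∈ 𝒜 q → (p : ℤ) = q + n → N t →
    P a t → P a' t → P (a + a') t)
  (H2z : ∀ t, P 0 t)
  (H3 : ∀ a t a' t', IsFr 𝒜 n a t → IsFr 𝒜 n a' t' → N t → N t' → a * t' = a' * t →
    P a' t' → P a t)

include hNmul hN1 in
theorem N_pow {a : A} (h : N a) (k : ℕ) : N (a ^ k) := by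
  induction k with
  | zero => rw [pow_zero]; exact hN1
  | succ k ih => rw [pow_succ]; exact hNmul _ _ ih h

include hdeg hf hn hN1 hNmul hi H0 H1 H3 in
theorem mono_good (k : ℕ) : ∀ α : Fin s → ℕ, wt deg α = n + k * deg i →
    P (mono f α) (f i ^ k) := by
  obtain ⟨L, hL⟩ : ∃ L, L = Finset.univ.lcm deg := ⟨_, rfl⟩
  have he : ∀ l, L / deg l * deg l = L := fun l => by
    rw [hL]; exact Nat.div_mul_cancel (Finset.dvd_lcm (Finset.mem_univ l))
  have hfr : ∀ (k : ℕ) (α : Fin s → ℕ), wt deg α = n + k * deg i →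
      IsFr 𝒜 n (mono f α) (f i ^ k) := fun k α hw =>
    ⟨wt deg α, k * deg i, mono_mem 𝒜 hf α, pow_mem' 𝒜 (hf i) k, by rw [hw]; push_cast; ring⟩
  induction k using Nat.strong_induction_on with
  | _ k ih =>
    intro α hw
    rcases Nat.eq_zero_or_pos k with hk | hk
    · subst hk
      rw [pow_zero]
      exact H0 _ (mem_of_eq 𝒜 (mono_mem 𝒜 hf α) (by rw [hw]; ring))
    obtain ⟨k', rfl⟩ : ∃ k', k = k' + 1 := ⟨k - 1, by omega⟩
    by_cases hαi : 1 ≤ α i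
    · obtain ⟨α', rfl⟩ := exists_add_single α i 1 hαi
      rw [wt_add_single] at hw
      have hw' : wt deg α' = n + k' * deg i := by
        have : (k' + 1) * deg i = k' * deg i + deg i := by ring
        omega
      rw [mono_add_single, pow_one, pow_succ']
      exact H1 _ _ _ _ (hfr k' α' hw') (N_pow N hN1 hNmul hi k')
        ⟨deg i, deg i, hf i, hf i, by simp⟩ hi (ih k' (by omega) α' hw')
    · have hαi0 : α i = 0 := by omega
      have hpos := hdeg i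
      have hlt : n < wt deg α := by
        rw [hw]
        have : (k' + 1) * deg i = k' * deg i + deg i := by ring
        omega
      obtain ⟨l, hli, hl⟩ := exists_large_exponent hdeg n hn i α hαi0 hlt
      rw [← hL] at hl
      obtain ⟨α', rfl⟩ := exists_add_single α l (L / deg l) hl
      rw [wt_add_single, he l] at hw
      have hfr0 : IsFr 𝒜 0 (f l ^ (L / deg l)) (f i ^ (L / deg i)) :=
        ⟨L / deg l * deg l, L / deg i * deg i, pow_mem' 𝒜 (hf l) _, pow_mem' 𝒜 (hf i) _, by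
          rw [he l, he i]; simp⟩
      have hei : 1 ≤ L / deg i := by
        rcases Nat.eq_zero_or_pos (L / deg i) with h0 | h0
        · have := he i
          rw [h0, zero_mul] at this
          have h2 : L = 0 := this.symm
          rw [hL, Finset.lcm_eq_zero_iff] at h2
          obtain ⟨j, -, hj⟩ := h2
          exact absurd hj (hdeg j).ne'
        · exact h0
      rw [mono_add_single]
      by_cases hk : L / deg i ≤ k' + 1
      · obtain ⟨k'', hk''⟩ : ∃ k'', k' + 1 = L / deg i + k'' := Nat.exists_eq_add_of_le hk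
        have hw' : wt deg α' = n + k'' * deg i := by
          have h1 : (k' + 1) * deg i = L + k'' * deg i := by
            rw [hk'', add_mul, he i]
          omega
        rw [hk'', pow_add]
        exact H1 _ _ _ _ (hfr k'' α' hw') (N_pow N hN1 hNmul hi k'') hfr0
          (N_pow N hN1 hNmul hi _) (ih k'' (by omega) α' hw')
      · obtain ⟨j, hj⟩ : ∃ j, L / deg i = (k' + 1) + j :=
          Nat.exists_eq_add_of_le (by omega)
        have hb : mono f α' * f i ^ j ∈ 𝒜 n := by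
          refine mem_of_eq 𝒜 (SetLike.mul_mem_graded (mono_mem 𝒜 hf α') (pow_mem' 𝒜 (hf i) j)) ?_
          have h1 : L = (k' + 1) * deg i + j * deg i := by
            rw [← he i, hj, add_mul]
          omega
        have hP1 : P (f l ^ (L / deg l) * (mono f α' * f i ^ j)) (f i ^ (L / deg i) * 1) :=
          H1 _ _ _ _ ⟨n, 0, hb, SetLike.GradedOne.one_mem, by simp⟩ hN1 hfr0
            (N_pow N hN1 hNmul hi _) (H0 _ hb)
        refine H3 _ _ _ _ ?_ ?_ (N_pow N hN1 hNmul hi _)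
          (hNmul _ _ (N_pow N hN1 hNmul hi _) hN1) ?_ hP1
        · refine ⟨L / deg l * deg l + wt deg α', (k' + 1) * deg i,
            SetLike.mul_mem_graded (pow_mem' 𝒜 (hf l) _) (mono_mem 𝒜 hf α'),
            pow_mem' 𝒜 (hf i) _, ?_⟩
          rw [he l]
          have : ((wt deg α' + L : ℕ) : ℤ) = ((n + (k' + 1) * deg i : ℕ) : ℤ) := by rw [hw]
          push_cast at this ⊢
          linarith
        · refine ⟨L / deg l * deg l + n, L / deg i * deg i + 0,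
            SetLike.mul_mem_graded (pow_mem' 𝒜 (hf l) _) hb,
            SetLike.mul_mem_graded (pow_mem' 𝒜 (hf i) _) SetLike.GradedOne.one_mem, ?_⟩
          rw [he l, he i]
          push_cast
          ring
        · rw [hj, pow_add]
          ring

include hdeg hf hgen hn hN1 hNmul hi H0 H1 H2 H2z H3 in
theorem homog_good (k : ℕ) (a : A) (ha : a ∈ 𝒜 (n + k * deg i)) : P a (f i ^ k) := by
  have hsp := mem_span_mono 𝒜 hf hgen (n + k * deg i) a ha
  clear ha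
  suffices h : a ∈ 𝒜 (n + k * deg i) ∧ P a (f i ^ k) from h.2
  have hNk : N (f i ^ k) := N_pow N hN1 hNmul hi k
  have hfr : ∀ b, b ∈ 𝒜 (n + k * deg i) → IsFr 𝒜 n b (f i ^ k) := fun b hb =>
    ⟨n + k * deg i, k * deg i, hb, pow_mem' 𝒜 (hf i) k, by push_cast; ring⟩
  induction hsp using Submodule.span_induction with
  | mem b hb =>
    obtain ⟨α, hw, rfl⟩ := hb
    exact ⟨mem_of_eq 𝒜 (mono_mem 𝒜 hf α) hw,
      mono_good 𝒜 hdeg hf n hn N hN1 hNmul i hi P H0 H1 H3 k α hw⟩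
  | zero => exact ⟨Submodule.zero_mem _, H2z _⟩
  | add b c _ _ hb hc =>
    exact ⟨Submodule.add_mem _ hb.1 hc.1, H2 (n + k * deg i) (k * deg i) b c (f i ^ k) hb.1 hc.1
      (pow_mem' 𝒜 (hf i) k) (by push_cast; ring) hNk hb.2 hc.2⟩
  | smul r b _ hb =>
    refine ⟨Submodule.smul_mem _ r hb.1, ?_⟩
    have h1 := H1 b (f i ^ k) (algebraMap R A r) 1 (hfr b hb.1) hNk
      ⟨0, 0, SetLike.algebraMap_mem_graded 𝒜 r, SetLike.GradedOne.one_mem, by simp⟩ hN1 hb.2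
    rwa [one_mul, ← Algebra.smul_def] at h1

include hdeg hf hgen hn hN1 hNmul hi H0 H1 H2 H2z H3 in
theorem all_good (a t : A) (h : IsFr 𝒜 n a t) (hNt : N t) : P a t := by
  obtain ⟨p, q, ha, ht, hpq⟩ := h
  obtain ⟨d', hd'⟩ : ∃ d', deg i = d' + 1 := ⟨deg i - 1, by have := hdeg i; omega⟩
  have ha2 : a * t ^ d' ∈ 𝒜 (n + q * deg i) := by
    refine mem_of_eq 𝒜 (SetLike.mul_mem_graded ha (pow_mem' 𝒜 ht d')) ?_
    have h1 : q * deg i = q * d' + q := by rw [hd']; ring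
    have h2 : d' * q = q * d' := mul_comm _ _
    omega
  have hP2 : P (a * t ^ d') (f i ^ q) :=
    homog_good 𝒜 hdeg hf hgen n hn N hN1 hNmul i hi P H0 H1 H2 H2z H3 q _ ha2
  have hNq : N (f i ^ q) := N_pow N hN1 hNmul hi q
  have hNt' : N (t ^ deg i) := N_pow N hN1 hNmul hNt _
  have hfr2 : IsFr 𝒜 n (a * t ^ d') (f i ^ q) :=
    ⟨n + q * deg i, q * deg i, ha2, pow_mem' 𝒜 (hf i) q, by push_cast; ring⟩
  have hfr0 : IsFr 𝒜 0 (f i ^ q) (t ^ deg i) :=
    ⟨q * deg i, deg i * q, pow_mem' 𝒜 (hf i) q, pow_mem' 𝒜 ht _, by push_cast; ring⟩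
  have hP3 : P (f i ^ q * (a * t ^ d')) (t ^ deg i * f i ^ q) :=
    H1 _ _ _ _ hfr2 hNq hfr0 hNt' hP2
  refine H3 a t _ _ ⟨p, q, ha, ht, hpq⟩ ?_ hNt (hNmul _ _ hNt' hNq) ?_ hP3
  · exact ⟨q * deg i + (n + q * deg i), deg i * q + q * deg i,
      SetLike.mul_mem_graded (pow_mem' 𝒜 (hf i) q) ha2,
      SetLike.mul_mem_graded (pow_mem' 𝒜 ht _) (pow_mem' 𝒜 (hf i) q), by push_cast; ring⟩
  · rw [hd', pow_succ]
    ring

end Main

end Alg


section Sheaf

variable {R A : Type u} [CommRing R] [CommRing A] [Algebra R A] {𝒜 : ℕ → Submodule R A}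
  [GradedAlgebra 𝒜]

open Twist

/-- the section `a / s` of `O(n)` over `D_+(s)`. -/
def fracSec {n : ℤ} {a s : A} (h : IsFr 𝒜 n a s) :
    sectN (𝒜 := 𝒜) n (op (Proj.basicOpen 𝒜 s)) :=
  ⟨fun y => ⟨Localization.mk a ⟨s, y.2⟩, by
      obtain ⟨p, q, ha, hs, hpq⟩ := h
      exact Submodule.subset_span ⟨p, q, ⟨a, ha⟩, ⟨s, hs⟩, y.2, hpq, rfl⟩⟩,
    fun y => by
      obtain ⟨p, q, ha, hs, hpq⟩ := h
      exact ⟨Proj.basicOpen 𝒜 s, y.2, 𝟙 _, p, q, ⟨a, ha⟩, ⟨s, hs⟩, fun z => z.2,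
        Or.inl hpq, fun z => rfl⟩⟩

theorem fracSec_val {n : ℤ} {a s : A} (h : IsFr 𝒜 n a s)
    (y : Proj.basicOpen 𝒜 s) :
    (((fracSec h).1 y).1 : Loc 𝒜 y.1) = Localization.mk a ⟨s, y.2⟩ := rfl

/-- the germ of `a / s` at `x`. -/
noncomputable def fracGerm (x : Proj 𝒜) {n : ℤ} {a s : A} (h : IsFr 𝒜 n a s)
    (hsx : s ∉ x.asHomogeneousIdeal) : ↑((Twist.twist 𝒜 n).presheaf.stalk x) :=
  (Twist.twist 𝒜 n).presheaf.germ (Proj.basicOpen 𝒜 s) x hsx (fracSec h)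

/-- two sections with the same values near `x` have the same germ. -/
theorem germ_eq_of_val_eq (x : Proj 𝒜) {n : ℤ} {U V W : (Proj 𝒜).Opens} (hxU : x ∈ U) (hxV : x ∈ V)
    (hxW : x ∈ W) (hWU : W ≤ U) (hWV : W ≤ V)
    (σ : sectN (𝒜 := 𝒜) n (op U)) (τ : sectN (𝒜 := 𝒜) n (op V))
    (hval : ∀ y : W, ((σ.1 ⟨y.1, hWU y.2⟩).1 : Loc 𝒜 y.1) = (τ.1 ⟨y.1, hWV y.2⟩).1) :
    (Twist.twist 𝒜 n).presheaf.germ U x hxU σ = (Twist.twist 𝒜 n).presheaf.germ V x hxV τ := by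
  rw [← TopCat.Presheaf.germ_res_apply (Twist.twist 𝒜 n).presheaf (homOfLE hWU) x hxW σ,
    ← TopCat.Presheaf.germ_res_apply (Twist.twist 𝒜 n).presheaf (homOfLE hWV) x hxW τ]
  congr 1
  apply Subtype.ext
  funext y
  apply Subtype.ext
  exact hval y

theorem fracGerm_eq_of_mul_eq (x : Proj 𝒜) {n : ℤ} {a s a' s' : A} (h : IsFr 𝒜 n a s)
    (h' : IsFr 𝒜 n a' s') (hsx : s ∉ x.asHomogeneousIdeal) (hs'x : s' ∉ x.asHomogeneousIdeal)
    (he : a * s' = a' * s) : fracGerm x h hsx = fracGerm x h' hs'x := by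
  unfold fracGerm
  refine germ_eq_of_val_eq x hsx hs'x
    (W := Proj.basicOpen 𝒜 s ⊓ Proj.basicOpen 𝒜 s') ⟨hsx, hs'x⟩
    inf_le_left inf_le_right _ _ (fun y => ?_)
  change Localization.mk a ⟨s, y.2.1⟩ = Localization.mk a' ⟨s', y.2.2⟩
  rw [Localization.mk_eq_mk_iff]
  exact Localization.r_of_eq (by simp only; rw [mul_comm s' a, he, mul_comm])

theorem fracGerm_add (x : Proj 𝒜) {n : ℤ} {a a' s : A} (h : IsFr 𝒜 n a s)
    (h' : IsFr 𝒜 n a' s) (h'' : IsFr 𝒜 n (a + a') s) (hsx : s ∉ x.asHomogeneousIdeal) :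
    fracGerm x h'' hsx = fracGerm x h hsx + fracGerm x h' hsx := by
  unfold fracGerm
  refine Eq.trans ?_ (map_add ((Twist.twist 𝒜 n).presheaf.germ (Proj.basicOpen 𝒜 s) x hsx).hom _ _)
  congr 1
  apply Subtype.ext
  funext y
  apply Subtype.ext
  change Localization.mk (a + a') ⟨s, y.2⟩ = Localization.mk a ⟨s, y.2⟩ + Localization.mk a' ⟨s, y.2⟩
  rw [Localization.add_mk_self]

theorem fracGerm_zero (x : Proj 𝒜) {n : ℤ} {s : A} (h : IsFr 𝒜 n 0 s)
    (hsx : s ∉ x.asHomogeneousIdeal) : fracGerm x h hsx = 0 := by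
  unfold fracGerm
  refine Eq.trans ?_ (map_zero ((Twist.twist 𝒜 n).presheaf.germ (Proj.basicOpen 𝒜 s) x hsx).hom)
  congr 1
  apply Subtype.ext
  funext y
  apply Subtype.ext
  change Localization.mk 0 ⟨s, y.2⟩ = 0
  exact Localization.mk_zero _

theorem fracGerm_globalOf (x : Proj 𝒜) {i : ℕ} (b : 𝒜 i) (h : IsFr 𝒜 (i : ℤ) b.1 1)
    (h1 : (1 : A) ∉ x.asHomogeneousIdeal) :
    fracGerm x h h1 = (Twist.twist 𝒜 (i : ℤ)).presheaf.germ ⊤ x _root_.trivial (globalOf 𝒜 b) := by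
  unfold fracGerm
  refine germ_eq_of_val_eq x (U := Proj.basicOpen 𝒜 (1 : A)) (V := ⊤)
    (W := Proj.basicOpen 𝒜 (1 : A)) h1 _root_.trivial h1
    le_rfl le_top _ _ (fun y => ?_)
  rfl


/-- the degree-zero fraction `a' / s'` as a section of the structure sheaf over `D_+(s')`. -/
def fracSec0 {e : ℕ} {a' s' : A} (ha' : a' ∈ 𝒜 e) (hs' : s' ∈ 𝒜 e) :
    Γ(Proj 𝒜, Proj.basicOpen 𝒜 s') :=
  ⟨fun y => HomogeneousLocalization.mk ⟨e, ⟨a', ha'⟩, ⟨s', hs'⟩, y.2⟩, fun y =>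
    ⟨Proj.basicOpen 𝒜 s', y.2, 𝟙 _, e, ⟨a', ha'⟩, ⟨s', hs'⟩, fun z => z.2, fun _ => rfl⟩⟩

theorem exists_smul_fracGerm (x : Proj 𝒜) {n : ℤ} {a s a' s' : A} (h : IsFr 𝒜 n a s)
    (h0 : IsFr 𝒜 0 a' s') (hsx : s ∉ x.asHomogeneousIdeal) (hs'x : s' ∉ x.asHomogeneousIdeal)
    (h' : IsFr 𝒜 n (a' * a) (s' * s)) (hss : s' * s ∉ x.asHomogeneousIdeal) :
    ∃ c : (Proj 𝒜).presheaf.stalk x, fracGerm x h' hss = c • fracGerm x h hsx := by
  obtain ⟨p, q, ha', hs', hpq⟩ := h0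
  have hpq' : p = q := by omega
  subst hpq'
  obtain ⟨W, hW⟩ : ∃ W : (Proj 𝒜).Opens, W = Proj.basicOpen 𝒜 s' ⊓ Proj.basicOpen 𝒜 s := ⟨_, rfl⟩
  have hxW : x ∈ W := by rw [hW]; exact ⟨hs'x, hsx⟩
  have hW1 : W ≤ Proj.basicOpen 𝒜 s' := by rw [hW]; exact inf_le_left
  have hW2 : W ≤ Proj.basicOpen 𝒜 s := by rw [hW]; exact inf_le_right
  refine ⟨(Proj 𝒜).presheaf.germ (Proj.basicOpen 𝒜 s') x hs'x (fracSec0 ha' hs'), ?_⟩
  unfold fracGerm
  rw [← TopCat.Presheaf.germ_res_apply (Proj 𝒜).presheaf (homOfLE hW1) x hxW (fracSec0 ha' hs'),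
    ← TopCat.Presheaf.germ_res_apply (Twist.twist 𝒜 n).presheaf (homOfLE hW2) x hxW (fracSec h),
    ← Groth.Agent.Helper13.WeakAss.germ_smul]
  refine germ_eq_of_val_eq x hss hxW hxW ?_ le_rfl _ _ (fun y => ?_)
  · intro y hy
    have h1 := hW1 hy
    have h2 := hW2 hy
    exact fun hmem => (y.isPrime.mem_or_mem hmem).elim h1 h2
  · change Localization.mk (a' * a) ⟨s' * s, _⟩ =
      (HomogeneousLocalization.mk ⟨p, ⟨a', ha'⟩, ⟨s', hs'⟩, hW1 y.2⟩ :
        A0 𝒜 y.1).val * Localization.mk a ⟨s, hW2 y.2⟩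
    rw [HomogeneousLocalization.val_mk, Localization.mk_mul]
    rfl


/-- the stalk of `O(n)` at `x` is spanned (even exhausted) by the germs of fractions. -/
theorem eq_top_of_fracGerm_mem (x : Proj 𝒜) (n : ℤ)
    (T : Submodule ((Proj 𝒜).presheaf.stalk x) ((Twist.twist 𝒜 n).presheaf.stalk x))
    (hT : ∀ (a s : A) (h : IsFr 𝒜 n a s) (hsx : s ∉ x.asHomogeneousIdeal),
      fracGerm x h hsx ∈ T) : T = ⊤ := by
  rw [eq_top_iff]
  rintro t -
  obtain ⟨U, hxU, σ, rfl⟩ := TopCat.Presheaf.exists_germ_eq (Twist.twist 𝒜 n).presheaf t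
  obtain ⟨σ', hσ'⟩ : ∃ σ' : sectN (𝒜 := 𝒜) n (op U), σ' = σ := ⟨_, rfl⟩
  have hσ : (isLocFracN 𝒜 n).pred σ'.1 := σ'.2
  obtain ⟨V, hxV, iV, p, q, a, s, nin, hor, w⟩ := hσ ⟨x, hxU⟩
  rw [← hσ']
  rcases hor with hpq | ha0
  · have h : IsFr 𝒜 n a.1 s.1 := ⟨p, q, a.2, s.2, hpq⟩
    have hsx : s.1 ∉ x.asHomogeneousIdeal := nin ⟨x, hxV⟩
    have he : (Twist.twist 𝒜 n).presheaf.germ U x hxU σ' = fracGerm x h hsx :=
      germ_eq_of_val_eq x hxU hsx (W := V) hxV iV.le (fun y hy => nin ⟨y, hy⟩) σ' (fracSec h)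
        (fun y => w y)
    rw [he]
    exact hT _ _ h hsx
  · have he : (Twist.twist 𝒜 n).presheaf.germ U x hxU σ' =
        (Twist.twist 𝒜 n).presheaf.germ V x hxV (0 : sectN (𝒜 := 𝒜) n (op V)) :=
      germ_eq_of_val_eq x hxU hxV (W := V) hxV iV.le le_rfl σ' 0 (fun y => by
        refine (w y).trans ?_
        change Localization.mk a.1 _ = 0
        rw [ha0]
        exact Localization.mk_zero _)
    rw [he]
    have h0 : (Twist.twist 𝒜 n).presheaf.germ V x hxV (0 : sectN (𝒜 := 𝒜) n (op V)) = 0 :=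
      map_zero ((Twist.twist 𝒜 n).presheaf.germ V x hxV).hom
    rw [h0]
    exact Submodule.zero_mem _


end Sheaf

section Final

variable {R A : Type u} [CommRing R] [CommRing A] [Algebra R A] (𝒜 : ℕ → Submodule R A)
  [GradedAlgebra 𝒜]

open Twist

theorem main {s : ℕ} (f : Fin s → A) (deg : Fin s → ℕ) (hdeg : ∀ i, 0 < deg i)
    (hf : ∀ i, f i ∈ 𝒜 (deg i)) (hgen : Algebra.adjoin R (Set.range f) = ⊤) (n : ℕ)
    (hn : (s - 1) * (Finset.univ.lcm deg - 1) ≤ n) :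
    ProjUP.GeneratedBy (Twist.twist 𝒜 (n : ℤ))
      (fun b : 𝒜 n => (Twist.globalOf 𝒜 b : ProjUP.Γm (Twist.twist 𝒜 (n : ℤ)))) := by
  intro x
  obtain ⟨i, hi⟩ := Groth.Agent.Helper28.TwistMul.exists_nmem_of_adjoin 𝒜 f deg hf hgen x
  obtain ⟨T, hT⟩ : ∃ T : Submodule ((Proj 𝒜).presheaf.stalk x)
      ((Twist.twist 𝒜 (n : ℤ)).presheaf.stalk x), T = Submodule.span ((Proj 𝒜).presheaf.stalk x)
        (Set.range fun b : 𝒜 n => ((Twist.twist 𝒜 (n : ℤ)).presheaf.germ ⊤ x trivial).hom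
          (Twist.globalOf 𝒜 b : ProjUP.Γm (Twist.twist 𝒜 (n : ℤ)))) := ⟨_, rfl⟩
  rw [← hT]
  apply eq_top_of_fracGerm_mem x (n : ℤ) T
  intro a t h hsx
  have h1x : (1 : A) ∉ x.asHomogeneousIdeal := fun h1 =>
    x.isPrime.ne_top ((Ideal.eq_top_iff_one _).mpr h1)
  refine all_good 𝒜 hdeg hf hgen n hn (fun t => t ∉ x.asHomogeneousIdeal) h1x
    (fun a b ha hb hab => (x.isPrime.mem_or_mem hab).elim ha hb) i hi
    (fun a t => ∀ (h : IsFr 𝒜 (n : ℤ) a t) (hsx : t ∉ x.asHomogeneousIdeal), fracGerm x h hsx ∈ T)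
    ?_ ?_ ?_ ?_ ?_ a t h hsx h hsx
  · -- H0
    intro b hb h' hsx'
    rw [fracGerm_globalOf x ⟨b, hb⟩ h' hsx', hT]
    exact Submodule.subset_span ⟨⟨b, hb⟩, rfl⟩
  · -- H1
    intro a t a' t' hfr hNt hfr0 hNt' hP h' hsx'
    obtain ⟨c, hc⟩ := exists_smul_fracGerm x hfr hfr0 hNt hNt' h' hsx'
    rw [hc]
    exact Submodule.smul_mem _ c (hP hfr hNt)
  · -- H2
    intro p q a a' t ha ha' ht hpq hNt hPa hPa' h' hsx'
    rw [fracGerm_add x ⟨p, q, ha, ht, hpq⟩ ⟨p, q, ha', ht, hpq⟩ h' hsx']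
    exact Submodule.add_mem _ (hPa _ _) (hPa' _ _)
  · -- H2z
    intro t h' hsx'
    rw [fracGerm_zero x h' hsx']
    exact Submodule.zero_mem _
  · -- H3
    intro a t a' t' hfr hfr' hNt hNt' he hP h' hsx'
    rw [fracGerm_eq_of_mul_eq x h' hfr' hsx' hNt' he]
    exact hP hfr' hNt'

end Final

end Groth.Agent.Helper26.TwistGenB
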