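import Mathlib

namespace Groth.Agent.Helper26.UniGen

universe u v
variable {K : Type u} {V : Type v} [Field K] [AddCommGroup V] [Module K V]

/-- `h - 1` as an endomorphism -/
def op (h : V ≃ₗ[K] V) : Module.End K V := ((h : V ≃ₗ[K] V) : Module.End K V) - 1

theorem op_apply (h : V ≃ₗ[K] V) (v : V) : op h v = h v - v := by
  simp [op]

/-- Lemma X -/
theorem exists_fixed_mod (H : Subgroup (V ≃ₗ[K] V)) (U W : Submodule K V)
    (hW : ∀ h ∈ H, ∀ w ∈ W, op h w ∈ W)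
    (hH : ∃ n : ℕ, ∀ f : Fin n → ↥H, (List.ofFn fun i => op (f i : V ≃ₗ[K] V)).prod = 0)
    (v₀ : V) (hv₀W : v₀ ∈ W) (hv₀U : v₀ ∉ U) :
    ∃ v ∈ W, v ∉ U ∧ ∀ h ∈ H, op h v ∈ U := by
  obtain ⟨n, hn⟩ := hH
  let Pm : ℕ → Prop := fun m => ∃ f : Fin m → ↥H, (List.ofFn fun i => op (f i : V ≃ₗ[K] V)).prod v₀ ∉ U
  have hP0 : Pm 0 := ⟨Fin.elim0, by simpa using hv₀U⟩
  have hPn : ¬ Pm n := by
    rintro ⟨f, hf⟩
    rw [hn f] at hf
    exact hf (by simp)
  -- find m with Pm m ∧ ¬ Pm (m+1)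
  have hex : ∃ m, Pm m ∧ ¬ Pm (m + 1) := by
    by_contra hcon
    push Not at hcon
    have : ∀ m, Pm m := by
      intro m
      induction m with
      | zero => exact hP0
      | succ m ih => exact hcon m ih
    exact hPn (this n)
  obtain ⟨m, ⟨f, hf⟩, hm1⟩ := hex
  -- stability
  have hstab : ∀ (k : ℕ) (g : Fin k → ↥H), (List.ofFn fun i => op (g i : V ≃ₗ[K] V)).prod v₀ ∈ W := by
    intro k
    induction k with
    | zero => intro g; simpa using hv₀W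
    | succ k ih =>
      intro g
      rw [List.ofFn_succ, List.prod_cons, Module.End.mul_apply]
      exact hW _ (g 0).2 _ (ih (fun i => g i.succ))
  refine ⟨_, hstab m f, hf, fun h hh => ?_⟩
  by_contra hnot
  apply hm1
  refine ⟨Fin.cons ⟨h, hh⟩ f, ?_⟩
  rw [List.ofFn_succ, List.prod_cons, Module.End.mul_apply]
  simpa using hnot

end Groth.Agent.Helper26.UniGen

namespace Groth.Agent.Helper26.UniGen

universe u v
variable {K : Type u} {V : Type v} [Field K] [AddCommGroup V] [Module K V]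

/-- the ascending filtration -/
def Fil (H : Subgroup (V ≃ₗ[K] V)) : ℕ → Submodule K V
  | 0 => ⊥
  | (k + 1) => ⨅ h : H, Submodule.comap (op (h : V ≃ₗ[K] V)) (Fil H k)

theorem mem_Fil_succ (H : Subgroup (V ≃ₗ[K] V)) (k : ℕ) (v : V) :
    v ∈ Fil H (k + 1) ↔ ∀ h ∈ H, op h v ∈ Fil H k := by
  simp only [Fil, Submodule.mem_iInf, Submodule.mem_comap, Subtype.forall]

theorem conj_op (g h : V ≃ₗ[K] V) (v : V) : op h (g v) = g (op (g⁻¹ * h * g) v) := by
  simp only [op_apply, map_sub]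
  congr 1
  change h (g v) = g (g.symm (h (g v)))
  simp

theorem Fil_stable (H : Subgroup (V ≃ₗ[K] V)) (k : ℕ) :
    ∀ g ∈ H, ∀ v ∈ Fil H k, g v ∈ Fil H k := by
  induction k with
  | zero =>
    intro g _ v hv
    simp only [Fil, Submodule.mem_bot] at hv ⊢
    rw [hv, map_zero]
  | succ k ih =>
    intro g hg v hv
    rw [mem_Fil_succ] at hv ⊢
    intro h hh
    rw [conj_op]
    exact ih g hg _ (hv _ (H.mul_mem (H.mul_mem (H.inv_mem hg) hh) hg))

theorem Fil_mono (H : Subgroup (V ≃ₗ[K] V)) (k : ℕ) : Fil H k ≤ Fil H (k + 1) := by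
  induction k with
  | zero => simp [Fil]
  | succ k ih =>
    intro v hv
    rw [mem_Fil_succ] at hv ⊢
    intro h hh
    exact ih (hv h hh)

theorem Fil_kill (H : Subgroup (V ≃ₗ[K] V)) (k : ℕ) :
    ∀ v ∈ Fil H k, ∀ f : Fin k → ↥H, (List.ofFn fun i => op (f i : V ≃ₗ[K] V)).prod v = 0 := by
  induction k with
  | zero =>
    intro v hv f
    simp only [Fil, Submodule.mem_bot] at hv
    simp [hv]
  | succ k ih =>
    intro v hv f
    rw [mem_Fil_succ] at hv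
    rw [List.ofFn_succ', List.concat_eq_append, List.prod_append, List.prod_singleton,
      Module.End.mul_apply]
    exact ih _ (hv _ (f (Fin.last k)).2) _

end Groth.Agent.Helper26.UniGen

namespace Groth.Agent.Helper26.UniGen

universe u v
variable {K : Type u} {V : Type v} [Field K] [AddCommGroup V] [Module K V]

theorem growth (H₁ H₂ : Subgroup (V ≃ₗ[K] V)) (hnorm : ∀ g ∈ H₂, ∀ h ∈ H₁, g * h * g⁻¹ ∈ H₁)
    (h₁ : ∃ n : ℕ, ∀ f : Fin n → ↥H₁, (List.ofFn fun i => op (f i : V ≃ₗ[K] V)).prod = 0)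
    (h₂ : ∃ n : ℕ, ∀ f : Fin n → ↥H₂, (List.ofFn fun i => op (f i : V ≃ₗ[K] V)).prod = 0)
    (k : ℕ) (hk : Fil (H₁ ⊔ H₂) k ≠ ⊤) :
    ∃ v ∈ Fil (H₁ ⊔ H₂) (k + 1), v ∉ Fil (H₁ ⊔ H₂) k := by
  set H := H₁ ⊔ H₂ with hH
  set U := Fil H k with hU
  have hH₁ : H₁ ≤ H := le_sup_left
  have hH₂ : H₂ ≤ H := le_sup_right
  have hstab : ∀ g ∈ H, ∀ v ∈ U, g v ∈ U := Fil_stable H k
  obtain ⟨v₀, hv₀⟩ : ∃ v₀, v₀ ∉ U := by
    by_contra hcon
    push Not at hcon
    exact hk (top_le_iff.1 fun v _ => hcon v)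
  obtain ⟨v₁, -, hv₁U, hv₁⟩ := exists_fixed_mod H₁ U ⊤ (fun _ _ _ _ => Submodule.mem_top) h₁ v₀
    Submodule.mem_top hv₀
  set V₁ : Submodule K V := ⨅ h : H₁, Submodule.comap (op (h : V ≃ₗ[K] V)) U with hV₁
  have hmemV₁ : ∀ w, w ∈ V₁ ↔ ∀ h ∈ H₁, op h w ∈ U := by
    intro w
    simp only [hV₁, Submodule.mem_iInf, Submodule.mem_comap, Subtype.forall]
  have hv₁V₁ : v₁ ∈ V₁ := (hmemV₁ v₁).2 hv₁
  have hV₁stab : ∀ g ∈ H₂, ∀ w ∈ V₁, op g w ∈ V₁ := by
    intro g hg w hw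
    rw [hmemV₁] at hw ⊢
    intro h hh
    have e : op h (op g w) = op h (g w) - op h w := by rw [op_apply g w, map_sub]
    rw [e, conj_op]
    apply Submodule.sub_mem
    · apply hstab g (hH₂ hg)
      apply hw
      have := hnorm g⁻¹ (H₂.inv_mem hg) h hh
      simpa using this
    · exact hw h hh
  obtain ⟨v, hvV₁, hvU, hv⟩ := exists_fixed_mod H₂ U V₁ hV₁stab h₂ v₁ hv₁V₁ hv₁U
  refine ⟨v, ?_, hvU⟩
  rw [mem_Fil_succ]
  -- the subgroup of good elements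
  let G : Subgroup (V ≃ₗ[K] V) :=
    { carrier := {h | h ∈ H ∧ op h v ∈ U}
      mul_mem' := by
        rintro a b ⟨ha, ha'⟩ ⟨hb, hb'⟩
        refine ⟨H.mul_mem ha hb, ?_⟩
        have : op (a * b) v = a (op b v) + op a v := by
          simp only [op_apply, map_sub]
          change a (b v) - v = _
          abel
        rw [this]
        exact U.add_mem (hstab a ha _ hb') ha'
      one_mem' := by
        refine ⟨H.one_mem, ?_⟩
        have : op (1 : V ≃ₗ[K] V) v = 0 := by simp [op_apply]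
        rw [this]
        exact U.zero_mem
      inv_mem' := by
        rintro a ⟨ha, ha'⟩
        refine ⟨H.inv_mem ha, ?_⟩
        have : op a⁻¹ v = - (a⁻¹ (op a v)) := by
          simp only [op_apply, map_sub]
          change a.symm v - v = -(a.symm (a v) - a.symm v)
          simp
        rw [this]
        exact U.neg_mem (hstab a⁻¹ (H.inv_mem ha) _ ha') }
  have hG₁ : H₁ ≤ G := fun h hh => ⟨hH₁ hh, (hmemV₁ v).1 hvV₁ h hh⟩
  have hG₂ : H₂ ≤ G := fun h hh => ⟨hH₂ hh, hv h hh⟩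
  intro h hh
  exact ((sup_le hG₁ hG₂) hh).2

theorem main [FiniteDimensional K V]
    (H₁ H₂ : Subgroup (V ≃ₗ[K] V)) (hnorm : ∀ g ∈ H₂, ∀ h ∈ H₁, g * h * g⁻¹ ∈ H₁)
    (h₁ : ∃ n : ℕ, ∀ f : Fin n → ↥H₁,
      (List.ofFn fun i => (((f i : ↥H₁) : V ≃ₗ[K] V) : Module.End K V) - 1).prod = 0)
    (h₂ : ∃ n : ℕ, ∀ f : Fin n → ↥H₂,
      (List.ofFn fun i => (((f i : ↥H₂) : V ≃ₗ[K] V) : Module.End K V) - 1).prod = 0) :
    ∃ n : ℕ, ∀ f : Fin n → ↥(H₁ ⊔ H₂),
      (List.ofFn fun i => (((f i : ↥(H₁ ⊔ H₂)) : V ≃ₗ[K] V) : Module.End K V) - 1).prod = 0 := by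
  have hrank : ∀ k, Fil (H₁ ⊔ H₂) k = ⊤ ∨ k ≤ Module.finrank K (Fil (H₁ ⊔ H₂) k) := by
    intro k
    induction k with
    | zero => right; exact Nat.zero_le _
    | succ k ih =>
      by_cases hk : Fil (H₁ ⊔ H₂) k = ⊤
      · left
        exact top_le_iff.1 (hk ▸ Fil_mono (H₁ ⊔ H₂) k)
      · right
        have hk' := ih.resolve_left hk
        obtain ⟨v, hv1, hv2⟩ := growth H₁ H₂ hnorm h₁ h₂ k hk
        have hlt : Fil (H₁ ⊔ H₂) k < Fil (H₁ ⊔ H₂) (k + 1) :=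
          lt_of_le_of_ne (Fil_mono _ k) (fun heq => hv2 (heq ▸ hv1))
        have := Submodule.finrank_lt_finrank_of_lt hlt
        omega
  have htop : Fil (H₁ ⊔ H₂) (Module.finrank K V) = ⊤ := by
    rcases hrank (Module.finrank K V) with h | h
    · exact h
    · by_contra hne
      have := Submodule.finrank_lt hne
      omega
  refine ⟨Module.finrank K V, fun f => ?_⟩
  apply LinearMap.ext
  intro v
  have := Fil_kill (H₁ ⊔ H₂) (Module.finrank K V) v (htop ▸ Submodule.mem_top) f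
  simpa [op] using this

end Groth.Agent.Helper26.UniGen
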