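import Mathlib
import Groth.Prelude.Def_Coh

set_option autoImplicit false
set_option linter.unusedSectionVars false
universe u
open CategoryTheory CategoryTheory.Limits AlgebraicGeometry Opposite TopologicalSpace

namespace Groth.Agent.Helper26.UnitHom

variable {X : Scheme.{u}}

/-- a section over `⊤` as a compatible family. -/
noncomputable def secOfTop (M : X.Modules) (σ : M.val.obj (op (⊤ : X.Opens))) : M.sections :=
  PresheafOfModules.sectionsMk (fun U => M.val.map (homOfLE (le_top : U.unop ≤ ⊤)).op σ)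
    (fun U U' k => by
      have hk : (homOfLE (le_top : U.unop ≤ ⊤)).op ≫ k = (homOfLE (le_top : U'.unop ≤ ⊤)).op :=
        Subsingleton.elim _ _
      rw [← PresheafOfModules.map_comp_apply]
      exact PresheafOfModules.congr_map_apply M.val hk σ)

/-- the morphism `O ⟶ M` attached to a global section. -/
noncomputable def homOfSec (M : X.Modules) (σ : M.val.obj (op (⊤ : X.Opens))) :
    Coh.structureModule X ⟶ M :=
  (SheafOfModules.unitHomEquiv M).symm (secOfTop M σ)

theorem homOfSec_app_one (M : X.Modules) (σ : M.val.obj (op (⊤ : X.Opens))) (V : X.Opens) :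
    (homOfSec M σ).val.app (op V) (1 : X.ringCatSheaf.obj.obj (op V)) =
      M.val.map (homOfLE (le_top : V ≤ ⊤)).op σ := by
  have h := SheafOfModules.unitHomEquiv_apply_coe M (homOfSec M σ) (op V)
  rw [← h]
  unfold homOfSec
  rw [Equiv.apply_symm_apply]
  rfl

theorem homOfSec_app_top (M : X.Modules) (σ : M.val.obj (op (⊤ : X.Opens))) :
    (homOfSec M σ).val.app (op ⊤) (1 : X.ringCatSheaf.obj.obj (op ⊤)) = σ := by
  rw [homOfSec_app_one]
  have : (homOfLE (le_top : (⊤ : X.Opens) ≤ ⊤)).op = 𝟙 _ := Subsingleton.elim _ _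
  rw [this, M.val.map_id]
  rfl

theorem unit_app_one (M : X.Modules) (φ : Coh.structureModule X ⟶ M) (V : X.Opens) :
    φ.val.app (op V) (1 : X.ringCatSheaf.obj.obj (op V)) =
      M.val.map (homOfLE (le_top : V ≤ ⊤)).op
        (φ.val.app (op ⊤) (1 : X.ringCatSheaf.obj.obj (op ⊤))) := by
  have h := PresheafOfModules.sections_property (SheafOfModules.unitHomEquiv M φ)
    (homOfLE (le_top : V ≤ ⊤)).op
  exact h.symm

theorem unit_hom_ext (M : X.Modules) (φ ψ : Coh.structureModule X ⟶ M)
    (h : φ.val.app (op ⊤) (1 : X.ringCatSheaf.obj.obj (op ⊤)) =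
      ψ.val.app (op ⊤) (1 : X.ringCatSheaf.obj.obj (op ⊤))) : φ = ψ := by
  apply (SheafOfModules.unitHomEquiv M).injective
  apply PresheafOfModules.sections_ext
  intro Y
  change φ.val.app Y (1 : X.ringCatSheaf.obj.obj Y) = ψ.val.app Y (1 : X.ringCatSheaf.obj.obj Y)
  have h1 := unit_app_one M φ Y.unop
  have h2 := unit_app_one M ψ Y.unop
  exact h1.trans ((congrArg _ h).trans h2.symm)

/-- an epimorphism onto the structure sheaf whose kernel has no `H¹`... the splitting criterion:
a section of `p` exists as soon as `1` lifts to a global section. -/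
theorem exists_section_of_lift (F : X.Modules) (p : F ⟶ Coh.structureModule X)
    (σ : F.val.obj (op (⊤ : X.Opens)))
    (hσ : p.val.app (op ⊤) σ = (1 : X.ringCatSheaf.obj.obj (op ⊤))) :
    ∃ s : Coh.structureModule X ⟶ F, s ≫ p = 𝟙 _ := by
  refine ⟨homOfSec F σ, ?_⟩
  apply unit_hom_ext
  change p.val.app (op ⊤) ((homOfSec F σ).val.app (op ⊤) (1 : X.ringCatSheaf.obj.obj (op ⊤))) = _
  rw [homOfSec_app_top, hσ]
  rfl

end Groth.Agent.Helper26.UnitHom
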