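import Mathlib
import Groth.Prelude.Def_Flat

set_option autoImplicit false

open CategoryTheory CategoryTheory.Limits AlgebraicGeometry

namespace Groth.Agent.Helper26.UnivHomeo

universe u

/-- The key algebraic fact: every element of `S` has a `q`-power in `R`. -/
theorem exists_pow_mem_range
    (R S K L : Type u) [CommRing R] [IsDomain R] [IsIntegrallyClosed R]
    [CommRing S] [IsDomain S] [Algebra R S] [Module.Finite R S]
    [Field K] [Field L] [Algebra R K] [IsFractionRing R K] [Algebra S L] [IsFractionRing S L]
    [Algebra K L] [Algebra R L] [IsScalarTower R S L] [IsScalarTower R K L] [IsPurelyInseparable K L]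
    (q : ℕ) [ExpChar K q] (s : S) :
    ∃ n : ℕ, s ^ q ^ n ∈ (algebraMap R S).range := by
  obtain ⟨n, y, hy⟩ := IsPurelyInseparable.pow_mem K q (algebraMap S L s)
  refine ⟨n, ?_⟩
  have hint : IsIntegral R (s ^ q ^ n) := Algebra.IsIntegral.isIntegral _
  have hintL : IsIntegral R (algebraMap S L (s ^ q ^ n)) := hint.algebraMap
  have hintK : IsIntegral R y := by
    have h1 : IsIntegral R (algebraMap K L y) := by
      rw [hy, ← map_pow]
      exact hintL
    exact (isIntegral_algebraMap_iff (algebraMap K L).injective).mp h1
  obtain ⟨r, hr⟩ := IsIntegrallyClosed.algebraMap_eq_of_integral hintK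
  refine ⟨r, ?_⟩
  apply IsFractionRing.injective S L
  rw [← IsScalarTower.algebraMap_apply R S L, IsScalarTower.algebraMap_apply R K L, hr, hy,
    map_pow]

theorem eq_of_comp_eq
    (R S K L : Type u) [CommRing R] [IsDomain R] [IsIntegrallyClosed R]
    [CommRing S] [IsDomain S] [Algebra R S] [Module.Finite R S]
    [Field K] [Field L] [Algebra R K] [IsFractionRing R K] [Algebra S L] [IsFractionRing S L]
    [Algebra K L] [Algebra R L] [IsScalarTower R S L] [IsScalarTower R K L] [IsPurelyInseparable K L]
    (F : Type u) [Field F] (ψ₁ ψ₂ : S →+* F)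
    (h : ψ₁.comp (algebraMap R S) = ψ₂.comp (algebraMap R S)) : ψ₁ = ψ₂ := by
  obtain ⟨q, hq⟩ : ∃ q, ExpChar K q := ⟨ringExpChar K, inferInstance⟩
  ext s
  obtain ⟨n, r, hr⟩ := exists_pow_mem_range R S K L q s
  cases hq with
  | zero =>
    rw [one_pow, pow_one] at hr
    rw [← hr]
    exact congrArg (fun φ => φ r) h
  | prime hp =>
    rename_i hchar
    have h0 : (q : R) = 0 := by
      apply IsFractionRing.injective R K
      rw [map_natCast, map_zero]
      exact CharP.cast_eq_zero K q
    have h0F : (q : F) = 0 := by
      have := congrArg (ψ₁.comp (algebraMap R S)) h0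
      simpa using this
    have : CharP F q := (CharP.charP_iff_prime_eq_zero hp).mpr h0F
    have hqF : ExpChar F q := ExpChar.prime hp
    apply iterateFrobenius_inj F q n
    rw [iterateFrobenius_def, iterateFrobenius_def, ← map_pow, ← map_pow, ← hr]
    exact congrArg (fun φ => φ r) h

theorem main
    (R S K L : Type u) [CommRing R] [IsDomain R] [IsIntegrallyClosed R]
    [CommRing S] [IsDomain S] [Algebra R S] [Module.Finite R S] [FaithfulSMul R S]
    [Field K] [Field L] [Algebra R K] [IsFractionRing R K] [Algebra S L] [IsFractionRing S L]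
    [Algebra K L] [Algebra R L] [IsScalarTower R S L] [IsScalarTower R K L] [IsPurelyInseparable K L] :
    FlatMor.IsUnivHomeo (Spec.map (CommRingCat.ofHom (algebraMap R S))) := by
  let Φ := Spec.map (CommRingCat.ofHom (algebraMap R S))
  have hint : (algebraMap R S).IsIntegral := fun s => Algebra.IsIntegral.isIntegral s
  have h1 : IsIntegralHom Φ := IsIntegralHom.SpecMap_iff.mpr hint
  have h2 : Surjective Φ := by
    constructor
    exact hint.comap_surjective (FaithfulSMul.algebraMap_injective R S)
  have h3 : UniversallyInjective Φ := by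
    have := (tfae_universallyInjective Φ).out 0 1
    rw [this]
    intro F _ g₁ g₂ hg
    obtain ⟨ψ₁, rfl⟩ := Spec.map_surjective g₁
    obtain ⟨ψ₂, rfl⟩ := Spec.map_surjective g₂
    congr 1
    have hg' : CommRingCat.ofHom (algebraMap R S) ≫ ψ₁ =
        CommRingCat.ofHom (algebraMap R S) ≫ ψ₂ := by
      apply Spec.map_injective
      simpa [Spec.map_comp] using hg
    have hψ : ψ₁.hom.comp (algebraMap R S) = ψ₂.hom.comp (algebraMap R S) := by
      have := congrArg (fun φ => φ.hom) hg'
      simpa using this
    ext s
    exact congrArg (fun φ => φ s) (eq_of_comp_eq R S K L F ψ₁.hom ψ₂.hom hψ)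
  intro X' Y' i₁ i₂ f' hpb
  have h1' : UniversallyClosed f' :=
    MorphismProperty.of_isPullback (P := @UniversallyClosed) hpb.flip inferInstance
  have h2' : Surjective f' := MorphismProperty.of_isPullback (P := @Surjective) hpb.flip h2
  have h3' : UniversallyInjective f' :=
    MorphismProperty.of_isPullback (P := @UniversallyInjective) hpb.flip h3
  change IsHomeomorph f'.base
  rw [isHomeomorph_iff_continuous_isClosedMap_bijective]
  exact ⟨f'.continuous, f'.isClosedMap, f'.injective, f'.surjective⟩

end Groth.Agent.Helper26.UnivHomeo
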