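import Mathlib

set_option autoImplicit false

namespace Groth.Agent.Helper26

open TensorProduct

/-- For a formally unramified algebra essentially of finite type, two algebra maps `u v : B → C`
differ by an idempotent of `C`. -/
theorem exists_idempotent_of_unramified {A B C : Type*} [CommRing A] [CommRing B] [Algebra A B]
    [Algebra.FormallyUnramified A B] [Algebra.EssFiniteType A B] [CommRing C] [Algebra A C]
    (u v : B →ₐ[A] C) :
    ∃ ε : C, IsIdempotentElem ε ∧ (∀ b, ∃ t : C, u b - v b = ε * t) ∧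
      (∀ I : Ideal C, (∀ b, u b - v b ∈ I) → ε ∈ I) := by
  have hJ : IsIdempotentElem (KaehlerDifferential.ideal A B) := by
    apply (Ideal.cotangent_subsingleton_iff _).mp
    exact inferInstanceAs <| Subsingleton Ω[B⁄A]
  obtain ⟨e, he, hJe⟩ :=
    (Ideal.isIdempotentElem_iff_of_fg _ (KaehlerDifferential.ideal_fg A B)).mp hJ
  let w : B ⊗[A] B →ₐ[A] C := Algebra.TensorProduct.lift v u (fun _ _ => Commute.all _ _)
  have hw : ∀ b, w ((1 : B) ⊗ₜ[A] b - b ⊗ₜ[A] (1 : B)) = u b - v b := by
    intro b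
    simp [w]
  refine ⟨w e, he.map w, ?_, ?_⟩
  · intro b
    have hmem := KaehlerDifferential.one_smul_sub_smul_one_mem_ideal A b
    rw [hJe, Ideal.mem_span_singleton'] at hmem
    obtain ⟨t, ht⟩ := hmem
    refine ⟨w t, ?_⟩
    rw [← hw, ← ht, map_mul, mul_comm]
  · intro I hI
    have hemem : e ∈ KaehlerDifferential.ideal A B := by
      rw [hJe]; exact Ideal.mem_span_singleton_self e
    rw [← KaehlerDifferential.span_range_eq_ideal] at hemem
    have h1 : w e ∈ Ideal.map w.toRingHom
        (Ideal.span (Set.range fun s : B => (1 : B) ⊗ₜ[A] s - s ⊗ₜ[A] (1 : B))) :=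
      Ideal.mem_map_of_mem _ hemem
    rw [Ideal.map_span] at h1
    refine (Ideal.span_le.mpr ?_) h1
    rintro _ ⟨_, ⟨b, rfl⟩, rfl⟩
    have := hI b
    rw [← hw] at this
    exact this

end Groth.Agent.Helper26
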