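import Mathlib

/-!
# Monogenic finite algebras: a uniform monic polynomial detecting unramifiedness

Adapted from (private lemmas in) `Mathlib/RingTheory/Unramified/LocalStructure.lean`.
-/

set_option linter.unusedSectionVars false
set_option linter.style.haveILetI false

namespace Groth.Agent.Helper26.UnramMono

open Polynomial TensorProduct Algebra

variable {R S : Type*} [CommRing R] [CommRing S] [Algebra R S]

set_option backward.isDefEq.respectTransparency false in
theorem aux₁ (P : Ideal R) [P.IsPrime] (x : S) (hx : Algebra.adjoin R {x} = ⊤) :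
    (RingHom.ker (aeval (R := R) x).toRingHom).map (mapRingHom (algebraMap R P.ResidueField)) =
      RingHom.ker (aeval (1 ⊗ₜ x : P.Fiber S)).toRingHom := by
  have hx' : Function.Surjective (aeval (R := R) x) :=
    (AlgHom.range_eq_top _).mp ((adjoin_singleton_eq_range_aeval R x).symm.trans hx)
  let I := RingHom.ker (aeval (R := R) x).toRingHom
  let e : P.Fiber S ≃ₐ[P.ResidueField]
      P.ResidueField[X] ⧸ I.map (mapRingHom (algebraMap _ P.ResidueField)) :=
    Polynomial.fiberEquivQuotient (aeval (R := R) x) hx' _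
  rw [← RingHom.ker_comp_of_injective _ (f := e.toRingHom) e.injective]
  convert! Ideal.mk_ker.symm
  ext a
  · dsimp [-TensorProduct.algebraMap_apply]
    rw [aeval_C, AlgEquiv.commutes]
    simp [← Ideal.Quotient.mk_algebraMap, I]
  · simpa [e] using! Polynomial.fiberEquivQuotient_tmul _ hx' P 1 X

attribute [local instance] Algebra.TensorProduct.rightAlgebra in
theorem aux₂
    {P : Ideal R} [P.IsPrime] {Q : Ideal S} [Q.IsPrime]
    [Q.LiesOver P] [IsUnramifiedAt R Q] (x : S) (p : R[X])
    [Algebra (Localization.AtPrime P) (Localization.AtPrime Q)]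
    [Localization.AtPrime.IsLiesOverAlgebra P Q]
    (hp₁ : Ideal.span {p.map (algebraMap R P.ResidueField)} =
      RingHom.ker (aeval ((1 : P.ResidueField) ⊗ₜ[R] x)).toRingHom)
    (hp₂ : Algebra.adjoin R {x} = ⊤) :
    ¬ minpoly P.ResidueField (algebraMap S Q.ResidueField x) ^ 2 ∣
      p.map (algebraMap R P.ResidueField) := by
  let Q' : Ideal (P.Fiber S) :=
    (PrimeSpectrum.primesOverOrderIsoFiber R S P ⟨Q, ‹_›, ‹_›⟩).asIdeal
  have : Q'.LiesOver Q := ⟨congr($((PrimeSpectrum.primesOverOrderIsoFiber R S P).symm_apply_apply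
    ⟨Q, ‹_›, ‹_›⟩).1).symm⟩
  have : Q'.LiesOver P := .trans _ Q _
  let := Localization.AtPrime.algebraOfLiesOver Q Q'
  let := Localization.AtPrime.algebraOfLiesOver P Q'
  have : IsUnramifiedAt P.ResidueField Q' := .residueField P Q _ (Q'.over_def Q)
  have : Function.Surjective (aeval (R := P.ResidueField) ((1 : P.ResidueField) ⊗ₜ[R] x)) := by
    rw [← AlgHom.range_eq_top, ← adjoin_singleton_eq_range_aeval]
    simpa using TensorProduct.adjoin_one_tmul_image_eq_top (A := P.ResidueField) _ hp₂
  convert! IsUnramifiedAt.not_minpoly_sq_dvd (A := P.Fiber S) Q' (1 ⊗ₜ x) _ hp₁ this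
  rw [← minpoly.algHom_eq _
    (IsScalarTower.toAlgHom P.ResidueField Q.ResidueField Q'.ResidueField).injective]
  congr 1
  · apply algebra_ext; intros r; congr 1; ext x; simp [← IsScalarTower.algebraMap_apply]
  · simp [← TensorProduct.right_algebraMap_apply, ← IsScalarTower.algebraMap_apply]

set_option backward.isDefEq.respectTransparency false in
attribute [local simp] aeval_algebraMap_apply in
/-- A single monic polynomial `q` with `q(x) = 0` such that `q'(x) ∉ Q` for every prime `Q` over `P`
at which `S = R[x]` is unramified. -/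
theorem exists_monic [Module.Finite R S] [Nontrivial S] (x : S) (hx : Algebra.adjoin R {x} = ⊤)
    (P : Ideal R) [P.IsPrime] :
    ∃ q : R[X], q.Monic ∧ aeval x q = 0 ∧
      ∀ (Q : Ideal S) [Q.IsPrime], Q.LiesOver P → IsUnramifiedAt R Q →
        aeval x q.derivative ∉ Q := by
  have := (algebraMap R S).domain_nontrivial
  have hRx : IsIntegral R x := IsIntegral.isIntegral _
  let I := RingHom.ker (aeval (R := R) x).toRingHom
  have hx' : Function.Surjective (aeval (R := R) x) :=
    (AlgHom.range_eq_top _).mp ((adjoin_singleton_eq_range_aeval R x).symm.trans hx)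
  obtain ⟨p, hpI, hp⟩ := Ideal.exists_mem_span_singleton_map_residueField_eq P I
  have hI' : I.map (mapRingHom (algebraMap R P.ResidueField)) =
      RingHom.ker (aeval (1 ⊗ₜ x : P.Fiber S)).toRingHom :=
    aux₁ P x hx
  let q := minpoly R x ^ (p.natDegree + 2) + p
  refine ⟨q, ?_, by simpa [q], ?_⟩
  · refine ((minpoly.monic hRx).pow _).add_of_left (degree_lt_degree ?_)
    grw [natDegree_pow' (by simp [minpoly.monic hRx]),
      ← Nat.le_mul_of_pos_right _ (minpoly.natDegree_pos hRx)]; lia
  intro Q _ hQP hQ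
  let := Localization.AtPrime.algebraOfLiesOver P Q
  let m := minpoly P.ResidueField (algebraMap S Q.ResidueField x)
  have hm : Prime m := minpoly.prime (IsIntegral.isIntegral _)
  have hmp₁ : m ∣ p.map (algebraMap _ _) := by simp_all [m, I, minpoly.dvd_iff]
  have hmp₂ : ¬ m ^ 2 ∣ p.map (algebraMap _ _) :=
    aux₂ x p (hp.trans hI') hx
  have ⟨w, h₁, h₂⟩ : ∃ w, q.map (algebraMap R _) = p.map (algebraMap R _) * w ∧ ¬ m ∣ w := by
    obtain ⟨w, hw⟩ := Ideal.mem_span_singleton.mp
      (hp.ge (Ideal.mem_map_of_mem _ (x := minpoly R x) (by simp [I])))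
    refine ⟨1 + w * (minpoly R x).map (algebraMap R P.ResidueField) ^ (p.natDegree + 1), ?_, ?_⟩
    · simp_all [q]
      ring
    · rw [dvd_add_left (dvd_mul_of_dvd_right (dvd_pow (by simp [m, minpoly.dvd_iff]) (by simp)) _),
        ← isUnit_iff_dvd_one]
      exact hm.not_isUnit
  have hm' : derivative m ≠ 0 :=
    (separable_iff_derivative_ne_zero hm.irreducible).mp (IsSeparable.isSeparable ..)
  suffices ¬m ∣ derivative (q.map (algebraMap R _)) by
    rwa [← Ideal.ker_algebraMap_residueField Q, RingHom.mem_ker, ← aeval_algebraMap_apply,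
      ← aeval_map_algebraMap P.ResidueField, ← derivative_map, ← minpoly.dvd_iff]
  obtain ⟨c, hc⟩ := hmp₁
  simp_all [hm.dvd_mul, dvd_add_left, pow_two, mul_dvd_mul_iff_left, hm.ne_zero]

end Groth.Agent.Helper26.UnramMono
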