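import Mathlib
import Groth.Agent.Lib.Helper26.LocSpec1

set_option autoImplicit false

open CategoryTheory CategoryTheory.Limits AlgebraicGeometry

namespace Groth.Agent.Helper26.ValCrit

universe u

theorem isLocalHom_rho {k K : Type u} [Field k] [Field K] (R : ValuationSubring K) (g : k →+* K)
    (ρ : ↥(R.comap g) →+* ↥R)
    (hρ : ∀ x : ↥(R.comap g), ((ρ x : ↥R) : K) = g (x : k)) : IsLocalHom ρ := by
  constructor
  intro z hz
  obtain ⟨w, hw⟩ := isUnit_iff_exists_inv.mp hz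
  have hK : g (z : k) * (w : K) = 1 := by
    rw [← hρ z]
    have := congrArg (fun t : ↥R => (t : K)) hw
    simpa using this
  have hz0 : (z : k) ≠ 0 := by
    intro h0
    rw [h0, map_zero, zero_mul] at hK
    exact zero_ne_one hK
  have hw' : (w : K) = g ((z : k)⁻¹) := by
    rw [map_inv₀]
    exact eq_inv_of_mul_eq_one_right hK
  have hmem : (z : k)⁻¹ ∈ R.comap g := by
    change g ((z : k)⁻¹) ∈ R
    rw [← hw']
    exact w.2
  refine isUnit_iff_exists_inv.mpr ⟨⟨(z : k)⁻¹, hmem⟩, ?_⟩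
  apply Subtype.ext
  change (z : k) * (z : k)⁻¹ = 1
  exact mul_inv_cancel₀ hz0

theorem main {X Y : Scheme.{u}} (f : Y ⟶ X)
    (K : Type u) [Field K] (R : ValuationSubring K)
    (i : Spec (CommRingCat.of K) ⟶ Y) (φ : Spec (CommRingCat.of ↥R) ⟶ X)
    (w : Spec.map (CommRingCat.ofHom R.subtype) ≫ φ = i ≫ f)
    (y : Y) (g : Y.residueField y ⟶ CommRingCat.of K) (hg : Spec.map g ≫ Y.fromSpecResidueField y = i)
    (ρ : ↥(R.comap g.hom) →+* ↥R)
    (hρ : ∀ x : ↥(R.comap g.hom), ((ρ x : ↥R) : K) = g.hom (x : ↑(Y.residueField y))) :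
    ∃! φ' : Spec (CommRingCat.of ↥(R.comap g.hom)) ⟶ X,
      Spec.map (CommRingCat.ofHom ρ) ≫ φ' = φ ∧
      Spec.map (CommRingCat.ofHom (R.comap g.hom).subtype) ≫ φ' = Y.fromSpecResidueField y ≫ f := by
  have hloc : IsLocalHom ρ := isLocalHom_rho R g.hom ρ hρ
  obtain ⟨V, hV, hxV⟩ := LocSpec.exists_affine_nhd (φ.base (IsLocalRing.closedPoint ↥R))
  have hφV := LocSpec.range_subset_of_closedPoint_mem ↥R φ V hxV
  obtain ⟨α, hα⟩ := LocSpec.exists_specMap_of_range_subset hV _ φ hφV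
  let ψ : Spec (Y.residueField y) ⟶ X := Y.fromSpecResidueField y ≫ f
  have hψ1 : Spec.map g ≫ ψ = Spec.map (CommRingCat.ofHom R.subtype) ≫ φ := by
    rw [w, ← hg, Category.assoc]
  have hψV : Set.range ψ.base ⊆ V := by
    rintro _ ⟨p, rfl⟩
    let q : Spec (CommRingCat.of K) := default
    have hp : p = (Spec.map g).base q := Subsingleton.elim _ _
    rw [hp, ← Scheme.Hom.comp_apply, hψ1, Scheme.Hom.comp_apply]
    exact hφV ⟨_, rfl⟩
  obtain ⟨β, hβ⟩ := LocSpec.exists_specMap_of_range_subset hV _ ψ hψV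
  have hgβ : β ≫ g = α ≫ CommRingCat.ofHom R.subtype := by
    apply LocSpec.specMap_fromSpec_injective hV
    rw [Spec.map_comp, Spec.map_comp, Category.assoc, Category.assoc, ← hβ, ← hα, hψ1]
  have hgβ' : ∀ a, g.hom (β.hom a) = ((α.hom a : ↥R) : K) := by
    intro a
    have := congrArg (fun ψ => ψ.hom a) hgβ
    exact this
  have hmem : ∀ a, β.hom a ∈ R.comap g.hom := by
    intro a
    change g.hom (β.hom a) ∈ R
    rw [hgβ']
    exact (α.hom a).2
  let γ : Γ(X, V) →+* ↥(R.comap g.hom) := RingHom.codRestrict β.hom (R.comap g.hom) hmem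
  have hγρ : CommRingCat.ofHom γ ≫ CommRingCat.ofHom ρ = α := by
    ext a
    change ((ρ (γ a) : ↥R) : K) = _
    rw [hρ, ← hgβ']
    rfl
  have hγs : CommRingCat.ofHom γ ≫ CommRingCat.ofHom (R.comap g.hom).subtype = β := by
    ext a
    rfl
  refine ⟨Spec.map (CommRingCat.ofHom γ) ≫ hV.fromSpec, ⟨?_, ?_⟩, ?_⟩
  · rw [← Category.assoc, ← Spec.map_comp, hγρ, ← hα]
  · rw [← Category.assoc, ← Spec.map_comp, hγs, ← hβ]
  · rintro φ'' ⟨h1, h2⟩
    have hcl : φ''.base (IsLocalRing.closedPoint ↥(R.comap g.hom)) ∈ V := by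
      let cp : Spec (CommRingCat.of ↥R) := IsLocalRing.closedPoint ↥R
      have h3 : (Spec.map (CommRingCat.ofHom ρ)).base cp =
          IsLocalRing.closedPoint ↥(R.comap g.hom) := IsLocalRing.comap_closedPoint ρ
      rw [← h3, ← Scheme.Hom.comp_apply, h1]
      exact hxV
    have hφ''V := LocSpec.range_subset_of_closedPoint_mem _ φ'' V hcl
    obtain ⟨γ', hγ'⟩ := LocSpec.exists_specMap_of_range_subset hV _ φ'' hφ''V
    have hγ's : γ' ≫ CommRingCat.ofHom (R.comap g.hom).subtype = β := by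
      apply LocSpec.specMap_fromSpec_injective hV
      rw [Spec.map_comp, Category.assoc, ← hγ', h2, ← hβ]
    have : γ' = CommRingCat.ofHom γ := by
      ext a
      have := congrArg (fun ψ => ψ.hom a) hγ's
      exact this
    rw [hγ', this]

end Groth.Agent.Helper26.ValCrit
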