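import Mathlib
import Groth.Agent.Lib.Helper26.LocSpec1

set_option autoImplicit false

open CategoryTheory CategoryTheory.Limits AlgebraicGeometry

namespace Groth.Agent.Helper26.ValCrit

universe u

/-- The maximal ideal of the bigger valuation ring is contained in the smaller one. -/
theorem mem_of_mem_maximalIdeal {K : Type u} [Field K] (R R' : ValuationSubring K) (hRR' : R ≤ R')
    (d : ↥R') (hd : d ∈ IsLocalRing.maximalIdeal ↥R') : (d : K) ∈ R := by
  by_contra hnot
  have hinv : (d : K)⁻¹ ∈ R := (R.mem_or_inv_mem (d : K)).resolve_left hnot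
  have hd0 : (d : K) ≠ 0 := by
    intro h0
    apply hnot
    rw [h0]
    exact R.zero_mem
  have hunit : IsUnit d := by
    refine isUnit_iff_exists_inv.mpr ⟨⟨(d : K)⁻¹, hRR' hinv⟩, ?_⟩
    apply Subtype.ext
    change (d : K) * (d : K)⁻¹ = 1
    exact mul_inv_cancel₀ hd0
  exact (IsLocalRing.mem_maximalIdeal d).mp hd hunit

theorem main2 {X Y : Scheme.{u}} (f : Y ⟶ X)
    (K : Type u) [Field K] (R R' : ValuationSubring K) (hRR' : R ≤ R')
    (ι : ↥R →+* ↥R') (hι : ∀ x : ↥R, ((ι x : ↥R') : K) = (x : K))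
    (i : Spec (CommRingCat.of K) ⟶ Y) (φ : Spec (CommRingCat.of ↥R) ⟶ X)
    (w : Spec.map (CommRingCat.ofHom R.subtype) ≫ φ = i ≫ f)
    (g : Spec (CommRingCat.of ↥R') ⟶ Y) (hg₁ : Spec.map (CommRingCat.ofHom R'.subtype) ≫ g = i)
    (hg₂ : g ≫ f = Spec.map (CommRingCat.ofHom ι) ≫ φ)
    (Rt : ValuationSubring (IsLocalRing.ResidueField ↥R')) (σ : ↥R →+* ↥Rt) (hσs : Function.Surjective σ)
    (hσ : ∀ x : ↥R, ((σ x : ↥Rt) : IsLocalRing.ResidueField ↥R') = IsLocalRing.residue ↥R' (ι x))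
    (ht : Spec (CommRingCat.of ↥Rt) ⟶ Y)
    (hht₁ : Spec.map (CommRingCat.ofHom Rt.subtype) ≫ ht =
      Spec.map (CommRingCat.ofHom (IsLocalRing.residue ↥R')) ≫ g)
    (hht₂ : ht ≫ f = Spec.map (CommRingCat.ofHom σ) ≫ φ) :
    ∃! h : Spec (CommRingCat.of ↥R) ⟶ Y, Spec.map (CommRingCat.ofHom R.subtype) ≫ h = i ∧ h ≫ f = φ ∧
      Spec.map (CommRingCat.ofHom ι) ≫ h = g ∧ Spec.map (CommRingCat.ofHom σ) ≫ h = ht := by
  have hσloc : IsLocalHom σ := IsLocalHom.of_surjective σ hσs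
  have hιinj : Function.Injective ι := by
    intro a b hab
    apply Subtype.ext
    rw [← hι a, ← hι b, hab]
  let cpR : Spec (CommRingCat.of ↥R) := IsLocalRing.closedPoint ↥R
  let cpRt : Spec (CommRingCat.of ↥Rt) := IsLocalRing.closedPoint ↥Rt
  let cpR' : Spec (CommRingCat.of ↥R') := IsLocalRing.closedPoint ↥R'
  have hσcp : (Spec.map (CommRingCat.ofHom σ)).base cpRt = cpR := IsLocalRing.comap_closedPoint σ
  obtain ⟨V, hV, hyV⟩ := LocSpec.exists_affine_nhd (ht.base cpRt)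
  have htV := LocSpec.range_subset_of_closedPoint_mem ↥Rt ht V hyV
  obtain ⟨τ, hτ⟩ := LocSpec.exists_specMap_of_range_subset hV _ ht htV
  have hgcp : g.base cpR' ∈ V := by
    let pt : Spec (CommRingCat.of (IsLocalRing.ResidueField ↥R')) := default
    have h1 : (Spec.map (CommRingCat.ofHom (IsLocalRing.residue ↥R'))).base pt = cpR' :=
      IsLocalRing.PrimeSpectrum.comap_residue ↥R' pt
    rw [← h1, ← Scheme.Hom.comp_apply, ← hht₁, Scheme.Hom.comp_apply]
    exact htV ⟨_, rfl⟩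
  have hgV := LocSpec.range_subset_of_closedPoint_mem ↥R' g V hgcp
  obtain ⟨lam, hlam⟩ := LocSpec.exists_specMap_of_range_subset hV _ g hgV
  have hcompat : lam ≫ CommRingCat.ofHom (IsLocalRing.residue ↥R') =
      τ ≫ CommRingCat.ofHom Rt.subtype := by
    apply LocSpec.specMap_fromSpec_injective hV
    rw [Spec.map_comp, Spec.map_comp, Category.assoc, Category.assoc, ← hlam, ← hτ, hht₁]
  have hcompat' : ∀ b, IsLocalRing.residue ↥R' (lam.hom b) =
      ((τ.hom b : ↥Rt) : IsLocalRing.ResidueField ↥R') := by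
    intro b
    have := congrArg (fun ψ => ψ.hom b) hcompat
    exact this
  have hmem : ∀ b, ((lam.hom b : ↥R') : K) ∈ R := by
    intro b
    obtain ⟨r, hr⟩ := hσs (τ.hom b)
    have h1 : IsLocalRing.residue ↥R' (lam.hom b) = IsLocalRing.residue ↥R' (ι r) := by
      rw [hcompat', ← hr, hσ]
    have h2 : lam.hom b - ι r ∈ IsLocalRing.maximalIdeal ↥R' := by
      rw [← IsLocalRing.residue_eq_zero_iff, map_sub, h1, sub_self]
    have h3 := mem_of_mem_maximalIdeal R R' hRR' _ h2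
    have h4 : ((lam.hom b : ↥R') : K) = ((lam.hom b - ι r : ↥R') : K) + (r : K) := by
      rw [← hι r]
      push_cast
      ring
    rw [h4]
    exact R.add_mem _ _ h3 r.2
  let μ : Γ(Y, V) →+* ↥R := RingHom.codRestrict (R'.subtype.comp lam.hom) R hmem
  have hμ1 : CommRingCat.ofHom μ ≫ CommRingCat.ofHom R.subtype =
      lam ≫ CommRingCat.ofHom R'.subtype := by
    ext b
    rfl
  have hμ3 : CommRingCat.ofHom μ ≫ CommRingCat.ofHom ι = lam := by
    ext b
    change ((ι (μ b) : ↥R') : K) = _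
    rw [hι]
    rfl
  have hμ4 : CommRingCat.ofHom μ ≫ CommRingCat.ofHom σ = τ := by
    ext b
    change ((σ (μ b) : ↥Rt) : IsLocalRing.ResidueField ↥R') = _
    rw [hσ, ← hcompat']
    congr 1
    apply Subtype.ext
    rw [hι]
    rfl
  have hi : i = Spec.map (lam ≫ CommRingCat.ofHom R'.subtype) ≫ hV.fromSpec := by
    rw [← hg₁, hlam, Spec.map_comp, Category.assoc]
  let h : Spec (CommRingCat.of ↥R) ⟶ Y := Spec.map (CommRingCat.ofHom μ) ≫ hV.fromSpec
  have hh1 : Spec.map (CommRingCat.ofHom R.subtype) ≫ h = i := by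
    rw [hi, ← hμ1, Spec.map_comp, Category.assoc]
  have hh3 : Spec.map (CommRingCat.ofHom ι) ≫ h = g := by
    rw [hlam, ← hμ3, Spec.map_comp, Category.assoc]
  have hh4 : Spec.map (CommRingCat.ofHom σ) ≫ h = ht := by
    rw [hτ, ← hμ4, Spec.map_comp, Category.assoc]
  have hh2 : h ≫ f = φ := by
    obtain ⟨W, hW, hxW⟩ := LocSpec.exists_affine_nhd (φ.base cpR)
    have hφW := LocSpec.range_subset_of_closedPoint_mem ↥R φ W hxW
    have hcp : (h ≫ f).base cpR ∈ W := by
      rw [← hσcp, ← Scheme.Hom.comp_apply, ← Category.assoc, hh4, hht₂, Scheme.Hom.comp_apply,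
        hσcp]
      exact hxW
    have hhfW := LocSpec.range_subset_of_closedPoint_mem ↥R (h ≫ f) W hcp
    obtain ⟨a, ha⟩ := LocSpec.exists_specMap_of_range_subset hW _ φ hφW
    obtain ⟨b, hb⟩ := LocSpec.exists_specMap_of_range_subset hW _ (h ≫ f) hhfW
    have hab : b ≫ CommRingCat.ofHom ι = a ≫ CommRingCat.ofHom ι := by
      apply LocSpec.specMap_fromSpec_injective hW
      rw [Spec.map_comp, Spec.map_comp, Category.assoc, Category.assoc, ← ha, ← hb,
        ← Category.assoc, hh3, hg₂]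
    have hab' : b = a := by
      ext c
      have := congrArg (fun ψ => ((ψ.hom c : ↥R') : K)) hab
      simp only [CommRingCat.hom_comp, CommRingCat.hom_ofHom, RingHom.coe_comp,
        Function.comp_apply, hι] at this
      exact this
    rw [hb, ha, hab']
  refine ⟨h, ⟨hh1, hh2, hh3, hh4⟩, ?_⟩
  rintro h' ⟨h'1, -, -, h'4⟩
  have hcp' : h'.base cpR ∈ V := by
    rw [← hσcp, ← Scheme.Hom.comp_apply, h'4]
    exact hyV
  have hh'V := LocSpec.range_subset_of_closedPoint_mem ↥R h' V hcp'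
  obtain ⟨μ', hμ'⟩ := LocSpec.exists_specMap_of_range_subset hV _ h' hh'V
  have h5 : μ' ≫ CommRingCat.ofHom R.subtype = lam ≫ CommRingCat.ofHom R'.subtype := by
    apply LocSpec.specMap_fromSpec_injective hV
    rw [Spec.map_comp, Category.assoc, ← hμ', h'1, hi]
  have h6 : μ' = CommRingCat.ofHom μ := by
    ext c
    have := congrArg (fun ψ => ψ.hom c) h5
    exact this
  rw [hμ', h6]

end Groth.Agent.Helper26.ValCrit
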