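import Mathlib
import Groth.Prelude.Def_MoreMor

set_option autoImplicit false
set_option linter.style.haveILetI false
universe u

open AlgebraicGeometry CategoryTheory Limits

namespace Groth.Agent.Helper26.WeightOpen

theorem finSepDegree_comp_bij {F E' E : Type u} [Field F] [Field E'] [Field E]
    (a : F →+* E') (b : E' →+* E) (hb : Function.Bijective b) :
    (letI := (b.comp a).toAlgebra; Field.finSepDegree F E) =
      (letI := a.toAlgebra; Field.finSepDegree F E') := by
  letI i1 : Algebra F E := (b.comp a).toAlgebra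
  letI i2 : Algebra F E' := a.toAlgebra
  let eq : E' ≃ₐ[F] E :=
    { RingEquiv.ofBijective b hb with
      commutes' := fun r => rfl }
  exact (Field.finSepDegree_eq_of_equiv F E' E eq).symm

theorem finSepDegree_of_eq {F E' E : Type u} [Field F] [Field E'] [Field E]
    (a : F →+* E') (b : E' →+* E) (c : F →+* E) (hc : c = b.comp a) (hb : Function.Bijective b) :
    (letI := c.toAlgebra; Field.finSepDegree F E) =
      (letI := a.toAlgebra; Field.finSepDegree F E') := by
  subst hc
  exact finSepDegree_comp_bij a b hb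

theorem fibreIntegral_iso {U U' V : Scheme.{u}} (e : U ⟶ U') [IsIso e] (π' : U' ⟶ V)
    (w' : U' → ℤ) (v : V) :
    MoreMor.fibreIntegral (e ≫ π') (fun u => w' (e u)) v = MoreMor.fibreIntegral π' w' v := by
  unfold MoreMor.fibreIntegral
  have hbij : Function.Bijective (e : U → U') := (e.homeomorph).bijective
  let φ : {u : U // (e ≫ π') u = v} → {u' : U' // π' u' = v} := fun u => ⟨e u.1, u.2⟩
  have hφ : Function.Bijective φ := by
    constructor
    · intro a b hab
      apply Subtype.ext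
      apply hbij.1
      exact congrArg Subtype.val hab
    · intro ⟨u', hu'⟩
      obtain ⟨u, rfl⟩ := hbij.2 u'
      exact ⟨⟨u, hu'⟩, rfl⟩
  refine finsum_eq_of_bijective φ hφ ?_
  intro ⟨u, hu⟩
  congr 1
  congr 1
  refine finSepDegree_of_eq (π'.residueFieldMap (e u)).hom (e.residueFieldMap u).hom _ ?_ ?_
  · rw [Scheme.residueFieldMap_comp]; rfl
  · exact ConcreteCategory.bijective_of_isIso _

theorem main {X Y : Scheme.{u}} (f : X ⟶ Y) (w : X → ℤ)
    (hw : MoreMor.IsWeighting f w) (X' : X.Opens) :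
    MoreMor.IsWeighting (X'.ι ≫ f) (fun x => w (X'.ι x)) := by
  intro V g _ U hU
  let j : pullback (X'.ι ≫ f) g ⟶ pullback f g :=
    pullback.map (X'.ι ≫ f) g f g X'.ι (𝟙 V) (𝟙 Y) (by simp) (by simp)
  have hj : IsOpenImmersion j := inferInstance
  have he : (j.isoImage U).hom ≫ (j ''ᵁ U).ι = U.ι ≫ j := j.isoImage_hom_ι U
  have hfst : j ≫ pullback.fst f g = pullback.fst (X'.ι ≫ f) g ≫ X'.ι :=
    pullback.lift_fst _ _ _
  have hsnd : j ≫ pullback.snd f g = pullback.snd (X'.ι ≫ f) g :=
    (pullback.lift_snd _ _ _).trans (Category.comp_id _)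
  have hcomp : (j.isoImage U).hom ≫ (j ''ᵁ U).ι ≫ pullback.snd f g =
      U.ι ≫ pullback.snd (X'.ι ≫ f) g := by
    rw [← Category.assoc, he, Category.assoc, hsnd]
  have hfin : IsFinite ((j ''ᵁ U).ι ≫ pullback.snd f g) := by
    have h2 : (j ''ᵁ U).ι ≫ pullback.snd f g =
        (j.isoImage U).inv ≫ (U.ι ≫ pullback.snd (X'.ι ≫ f) g) := by
      rw [← hcomp, Iso.inv_hom_id_assoc]
    rw [h2]
    infer_instance
  have h1 := hw V g (j ''ᵁ U) hfin
  have key : MoreMor.fibreIntegral (U.ι ≫ pullback.snd (X'.ι ≫ f) g)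
      (fun u => w (X'.ι (pullback.fst (X'.ι ≫ f) g (U.ι u)))) =
      MoreMor.fibreIntegral ((j ''ᵁ U).ι ≫ pullback.snd f g)
        (fun u' => w (pullback.fst f g ((j ''ᵁ U).ι u'))) := by
    funext v
    have h3 := fibreIntegral_iso (j.isoImage U).hom ((j ''ᵁ U).ι ≫ pullback.snd f g)
      (fun u' => w (pullback.fst f g ((j ''ᵁ U).ι u'))) v
    rw [hcomp] at h3
    rw [← h3]
    congr 1
    funext u
    congr 1
    have e1 : (j ''ᵁ U).ι ((j.isoImage U).hom u) = j (U.ι u) := by
      rw [← Scheme.Hom.comp_apply, he, Scheme.Hom.comp_apply]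
    rw [e1]
    exact (congrArg (fun h : pullback (X'.ι ≫ f) g ⟶ X => h (U.ι u)) hfst).symm
  rw [key]
  exact h1

end Groth.Agent.Helper26.WeightOpen
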