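import Mathlib
import Groth.Prelude.Def_WeilCoh
import Groth.Agent.Lib.Helper23.WeilLib
import Groth.Agent.Lib.Helper23.WeilDim
import Groth.Agent.Lib.Helper16.Sch.FTDim1

set_option autoImplicit false
set_option linter.unusedSectionVars false
universe u v w
open CategoryTheory CategoryTheory.Limits AlgebraicGeometry TopologicalSpace

namespace Groth.Agent.Helper26.WeilPush

open WeilCoh Groth.Agent.Helper23 Groth.Agent.Helper16.FTDim

section dims

variable {k : Type u} [Field k]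

/-- the dimension of the closure of a point of a scheme locally of finite type over a field is the
transcendence degree of its residue field. -/
theorem pdim_eq_td {X : Scheme.{u}} (g : X ⟶ Spec (CommRingCat.of k)) [LocallyOfFiniteType g]
    (ξ : X) : WeilCoh.pdim X ξ = td g ξ := by
  unfold WeilCoh.pdim WeilCoh.natDim
  rw [dim_closure k g ξ]
  simp

/-- if the residue degree is nonzero, the residue field extension has transcendence degree zero. -/
theorem td_eq_zero_of_residueDegree_ne_zero {X Y : Scheme.{u}} (f : X ⟶ Y) (ξ : X)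
    (h : f.residueDegree ξ ≠ 0) : td f ξ = 0 := by
  let _ := (f.residueFieldMap ξ).hom.toAlgebra
  have hfin : Module.Finite (Y.residueField (f ξ)) (X.residueField ξ) :=
    Module.finite_of_finrank_pos (Nat.pos_of_ne_zero h)
  have halg : Algebra.IsAlgebraic (Y.residueField (f ξ)) (X.residueField ξ) :=
    Algebra.IsAlgebraic.of_finite _ _
  apply td_eq
  rw [trdeg_eq_zero]
  simp

theorem pdim_map_eq {X Y : Scheme.{u}} (gX : X ⟶ Spec (CommRingCat.of k))
    (gY : Y ⟶ Spec (CommRingCat.of k)) [LocallyOfFiniteType gX] [LocallyOfFiniteType gY]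
    (f : X ⟶ Y) (hf : f ≫ gY = gX) (ξ : X) (h : f.residueDegree ξ ≠ 0) :
    WeilCoh.pdim Y (f ξ) = WeilCoh.pdim X ξ := by
  have : LocallyOfFiniteType (f ≫ gY) := by rw [hf]; infer_instance
  have : LocallyOfFiniteType f := locallyOfFiniteType_of_comp f gY
  rw [pdim_eq_td gY, pdim_eq_td gX]
  subst hf
  rw [td_comp f gY ξ, td_eq_zero_of_residueDegree_ne_zero f ξ h, add_zero]

end dims

section push

variable {k : Type u} [Field k] {K : Type v} [Field K]
  (T : WeilCoh.TheoryOn.{u, v, w} k (WeilCoh.IsVar k) K)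

open Groth.Agent.Helper23.WeilLib Groth.Agent.Helper23.WeilDim

theorem pdim_sm_eq {X Y : WeilCoh.Var k} (f : X ⟶ Y) (ξ : X.obj.left)
    (h : (WeilCoh.sm f).residueDegree ξ ≠ 0) :
    WeilCoh.pdim Y.obj.left (WeilCoh.sm f ξ) = WeilCoh.pdim X.obj.left ξ :=
  pdim_map_eq X.obj.hom Y.obj.hom (WeilCoh.sm f) (Over.w f.hom) ξ h

theorem push_cl {X Y : WeilCoh.Var k} (f : X ⟶ Y) (ξ : X.obj.left) :
    (T.push f (2 * (WeilCoh.codim X.obj.left ξ : ℤ)) ⟨T.cl X ξ, T.cl_mem X ξ⟩ : T.H Y) =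
      ((WeilCoh.sm f).residueDegree ξ : K) • T.cl Y (WeilCoh.sm f ξ) := by
  have hX := codim_add_pdim X ξ
  have hY := codim_add_pdim Y (WeilCoh.sm f ξ)
  have hv : (((WeilCoh.sm f).residueDegree ξ : K) • T.cl Y (WeilCoh.sm f ξ)) ∈
      T.gr Y (2 * (WeilCoh.codim X.obj.left ξ : ℤ) + 2 * (dim Y.obj.left : ℤ) -
        2 * (dim X.obj.left : ℤ)) := by
    by_cases h0 : (WeilCoh.sm f).residueDegree ξ = 0
    · rw [h0]; simp
    · have hp := pdim_sm_eq f ξ h0
      refine Submodule.smul_mem _ _ (mem_gr_of_eq T (T.cl_mem Y (WeilCoh.sm f ξ)) ?_)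
      omega
  refine eq_of_tr_mul_eq T _ _ _ (T.push f _ _).2 hv ?_
  intro b hb
  have hb1 : b ∈ T.gr Y (2 * (dim X.obj.left : ℤ) - 2 * (WeilCoh.codim X.obj.left ξ : ℤ)) :=
    mem_gr_of_eq T hb (by omega)
  have hb2 : b ∈ T.gr Y (2 * (pdim X.obj.left ξ : ℤ)) := mem_gr_of_eq T hb (by omega)
  rw [tr_push_mul T f _ _ b hb1]
  change T.tr X (T.cl X ξ * T.pull f b) = _
  rw [T.cl_push f ξ b hb2, smul_mul_assoc, map_smul, smul_eq_mul]

end push

end Groth.Agent.Helper26.WeilPush
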