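import Mathlib
import Groth.Prelude.Def_WeilCoh
import Groth.Prelude.Def_Cyc
import Groth.Agent.Lib.Helper23.WeilLib
import Groth.Agent.Lib.Helper23.WeilDim
import Groth.Agent.Lib.Helper16.Sch.FTDim1
import Groth.Agent.Lib.Helper26.WeilPush

set_option autoImplicit false
set_option linter.unusedSectionVars false
universe u v w
open CategoryTheory CategoryTheory.Limits AlgebraicGeometry TopologicalSpace

namespace Groth.Agent.Helper26.WeilCyc

open WeilCoh Groth.Agent.Helper23 Groth.Agent.Helper16.FTDim Groth.Agent.Helper26.WeilPush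

section comb

variable {X Y : Type*} [TopologicalSpace X] [TopologicalSpace Y] [PrespectralSpace Y]
  {K M : Type*} [Field K] [AddCommGroup M] [Module K M]

/-- the class-sum of a push-forward of a finitely supported cycle, as a sum over the source. -/
theorem finsum_map_smul (f : X → Y) (hf : IsSpectralMap f) (wt : X → ℤ)
    (α : Function.locallyFinsupp X ℤ) (S : Finset X) (hS : Function.support (α : X → ℤ) ⊆ S)
    (φ : Y → M) :
    ∑ᶠ y : Y, ((Function.locallyFinsupp.map f wt hf α y : ℤ) : K) • φ y =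
      ∑ x ∈ S, ((α x * wt x : ℤ) : K) • φ (f x) := by
  classical
  have h1 : ∀ y : Y, Function.locallyFinsupp.map f wt hf α y =
      ∑ x ∈ S with f x = y, α x * wt x := by
    intro y
    rw [Function.locallyFinsupp.map_apply, finsum_mem_eq_sum_of_inter_support_eq]
    ext x
    simp only [Set.mem_inter_iff, Set.mem_preimage, Set.mem_singleton_iff, Function.mem_support,
      Finset.coe_filter, Set.mem_ofPred_eq]
    constructor
    · rintro ⟨hx, hne⟩
      refine ⟨⟨hS ?_, hx⟩, hne⟩
      intro h0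
      apply hne
      rw [h0, zero_mul]
    · rintro ⟨⟨_, hx⟩, hne⟩
      exact ⟨hx, hne⟩
  simp only [h1]
  rw [finsum_eq_sum_of_support_subset (s := S.image f)]
  · rw [← Finset.sum_fiberwise_of_maps_to (s := S) (t := S.image f) (g := f)
      (fun x hx => Finset.mem_image_of_mem f hx)]
    refine Finset.sum_congr rfl fun y _ => ?_
    rw [Int.cast_sum, Finset.sum_smul]
    refine Finset.sum_congr rfl fun x hx => ?_
    rw [(Finset.mem_filter.1 hx).2]
  · intro y hy
    simp only [Finset.coe_image, Set.mem_image, Finset.mem_coe]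
    by_contra hcon
    apply hy
    have : (S.filter fun x => f x = y) = ∅ := by
      rw [Finset.filter_eq_empty_iff]
      intro x hx hfx
      exact hcon ⟨x, hx, hfx⟩
    change ((∑ x ∈ S with f x = y, α x * wt x : ℤ) : K) • φ y = 0
    rw [this, Finset.sum_empty, Int.cast_zero, zero_smul]

end comb

section main

variable {k : Type u} [Field k] {K : Type v} [Field K]
  (T : WeilCoh.TheoryOn.{u, v, w} k (WeilCoh.IsVar k) K)

open Groth.Agent.Helper23.WeilLib Groth.Agent.Helper23.WeilDim

theorem delta_eq_pdim (X : WeilCoh.Var k) (δ : X.obj.left → ℤ)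
    (hδ : Cyc.DeltaCompat X.obj.hom δ (fun _ => 0)) (x : X.obj.left) :
    δ x = (pdim X.obj.left x : ℤ) := by
  obtain ⟨n, hn, hδn⟩ := hδ x
  rw [pdim_eq_td X.obj.hom x, td_eq X.obj.hom x n hn, hδn, zero_add]

theorem pointwise {X Y : WeilCoh.Var k} (f : X ⟶ Y)
    (δX : X.obj.left → ℤ) (hδX : Cyc.DeltaCompat X.obj.hom δX (fun _ => 0))
    (δY : Y.obj.left → ℤ) (hδY : Cyc.DeltaCompat Y.obj.hom δY (fun _ => 0))
    (x : X.obj.left) (b : T.H Y) :
    ((AlgebraicCycle.mapCoeff (WeilCoh.sm f) δX δY x : ℕ) : K) *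
        T.tr Y (T.cl Y (WeilCoh.sm f x) * b) = T.tr X (T.cl X x * T.pull f b) := by
  have hX := codim_add_pdim X x
  have hY := codim_add_pdim Y (WeilCoh.sm f x)
  have hdX := delta_eq_pdim X δX hδX x
  have hdY := delta_eq_pdim Y δY hδY (WeilCoh.sm f x)
  have hb : b ∈ ⨆ i, T.gr Y i := by
    rw [(T.decomp Y).submodule_iSup_eq_top]; trivial
  refine Submodule.iSup_induction (T.gr Y) (motive := fun b =>
    ((AlgebraicCycle.mapCoeff (WeilCoh.sm f) δX δY x : ℕ) : K) *
        T.tr Y (T.cl Y (WeilCoh.sm f x) * b) = T.tr X (T.cl X x * T.pull f b)) hb ?_ ?_ ?_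
  · intro j b hb
    by_cases hj : j = 2 * (pdim X.obj.left x : ℤ)
    · subst hj
      rw [T.cl_push f x b hb]
      unfold AlgebraicCycle.mapCoeff
      by_cases hδ : δX x = δY ((WeilCoh.sm f) x)
      · rw [if_pos hδ]
      · rw [if_neg hδ]
        have hdeg : (WeilCoh.sm f).residueDegree x = 0 := by
          by_contra hdeg
          have hp := pdim_sm_eq f x hdeg
          apply hδ
          rw [hdX, hdY, hp]
        rw [hdeg]
    · have hR : T.tr X (T.cl X x * T.pull f b) = 0 :=
        tr_mul_eq_zero T _ j _ _ (T.cl_mem X x) (T.pull_mem f j b hb) (by omega)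
      rw [hR]
      unfold AlgebraicCycle.mapCoeff
      by_cases hδ : δX x = δY ((WeilCoh.sm f) x)
      · have hp : (pdim Y.obj.left (WeilCoh.sm f x) : ℤ) = pdim X.obj.left x := by
          rw [← hdX, ← hdY, hδ]
        have hL : T.tr Y (T.cl Y (WeilCoh.sm f x) * b) = 0 :=
          tr_mul_eq_zero T _ j _ _ (T.cl_mem Y _) hb (by omega)
        rw [hL, mul_zero]
      · rw [if_neg hδ, Nat.cast_zero, zero_mul]
  · simp
  · intro b c hb hc
    rw [mul_add, map_add, mul_add, map_add, mul_add, map_add, hb, hc]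

theorem finite_support (X : WeilCoh.Var k) (α : AlgebraicCycle X.obj.left ℤ) :
    (Function.support (α : X.obj.left → ℤ)).Finite := by
  have := α.locallyFiniteSupport.finite_inter_support_of_isCompact isCompact_univ
  rwa [Set.univ_inter] at this

theorem clCyc_eq_sum (X : WeilCoh.Var k) (α : AlgebraicCycle X.obj.left ℤ) :
    T.clCyc X α = ∑ x ∈ (finite_support X α).toFinset, ((α x : ℤ) : K) • T.cl X x := by
  unfold WeilCoh.TheoryOn.clCyc
  rw [finsum_eq_sum_of_support_subset]
  intro x hx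
  simp only [Set.Finite.coe_toFinset, Function.mem_support]
  intro h0
  apply hx
  change ((α x : ℤ) : K) • T.cl X x = 0
  rw [h0, Int.cast_zero, zero_smul]

theorem main {X Y : WeilCoh.Var k} (f : X ⟶ Y) [QuasiCompact (WeilCoh.sm f)]
    (δX : X.obj.left → ℤ) (hδX : Cyc.DeltaCompat X.obj.hom δX (fun _ => 0))
    (δY : Y.obj.left → ℤ) (hδY : Cyc.DeltaCompat Y.obj.hom δY (fun _ => 0))
    (α : AlgebraicCycle X.obj.left ℤ) (b : T.H Y) :
    T.tr Y (T.clCyc Y (AlgebraicCycle.map (WeilCoh.sm f) δX δY α) * b) =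
      T.tr X (T.clCyc X α * T.pull f b) := by
  have h1 : T.clCyc Y (AlgebraicCycle.map (WeilCoh.sm f) δX δY α) =
      ∑ x ∈ (finite_support X α).toFinset,
        ((α x * ((AlgebraicCycle.mapCoeff (WeilCoh.sm f) δX δY x : ℕ) : ℤ) : ℤ) : K) •
          T.cl Y (WeilCoh.sm f x) := by
    unfold WeilCoh.TheoryOn.clCyc AlgebraicCycle.map
    exact finsum_map_smul (K := K) (WeilCoh.sm f) (WeilCoh.sm f).isSpectralMap
      (fun x => ((AlgebraicCycle.mapCoeff (WeilCoh.sm f) δX δY x : ℕ) : ℤ)) α
      (finite_support X α).toFinset (by simp) (T.cl Y)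
  rw [h1, clCyc_eq_sum T X α, Finset.sum_mul, Finset.sum_mul, map_sum, map_sum]
  refine Finset.sum_congr rfl fun x _ => ?_
  rw [smul_mul_assoc, smul_mul_assoc, map_smul, map_smul, smul_eq_mul, smul_eq_mul,
    ← pointwise T f δX hδX δY hδY x b]
  push_cast
  ring

end main

end Groth.Agent.Helper26.WeilCyc
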