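import Mathlib

namespace Groth.Agent.Helper26.ZPFlat

open TensorProduct

universe u
variable (p n : ℕ) [hp : Fact p.Prime]

instance : NeZero (p ^ n) := ⟨pow_ne_zero _ hp.out.ne_zero⟩

omit hp in
theorem pow_n_eq_zero : ((p : ZMod (p ^ n)) ^ n) = 0 := by
  have := ZMod.natCast_self (p ^ n)
  push_cast at this
  exact this

/-- Annihilator of `p ^ i`. -/
theorem exists_of_mul_eq_zero (i : ℕ) (hi : i ≤ n) (a : ZMod (p ^ n))
    (h : (p : ZMod (p ^ n)) ^ i * a = 0) : ∃ b : ZMod (p ^ n), a = (p : ZMod (p ^ n)) ^ (n - i) * b := by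
  have ha : ((a.val : ℕ) : ZMod (p ^ n)) = a := ZMod.natCast_zmod_val a
  rw [← ha] at h
  have h1 : ((p ^ i * a.val : ℕ) : ZMod (p ^ n)) = 0 := by push_cast; exact h
  rw [ZMod.natCast_eq_zero_iff] at h1
  have h2 : p ^ n = p ^ i * p ^ (n - i) := by rw [← pow_add]; congr 1; omega
  have h1' : p ^ i * p ^ (n - i) ∣ p ^ i * a.val := by rw [← h2]; exact h1
  have h3 : p ^ (n - i) ∣ a.val :=
    Nat.dvd_of_mul_dvd_mul_left (pow_pos hp.out.pos i) h1'
  obtain ⟨c, hc⟩ := h3
  refine ⟨(c : ZMod (p ^ n)), ?_⟩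
  rw [← ha, hc]
  push_cast
  rfl

/-- Every ideal is generated by a power of `p`. -/
theorem ideal_eq (I : Ideal (ZMod (p ^ n))) : ∃ j ≤ n, I = Ideal.span {(p : ZMod (p ^ n)) ^ j} := by
  have hprinc : ∀ a : ZMod (p ^ n), ∃ j ≤ n, Ideal.span {a} = Ideal.span {(p : ZMod (p ^ n)) ^ j} := by
    intro a
    by_cases ha0 : a = 0
    · refine ⟨n, le_rfl, ?_⟩
      rw [ha0, pow_n_eq_zero]
    · have ha : ((a.val : ℕ) : ZMod (p ^ n)) = a := ZMod.natCast_zmod_val a
      have hval0 : a.val ≠ 0 := by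
        intro h
        apply ha0
        rw [← ha, h]; simp
      obtain ⟨j, m', hm', hjm⟩ := Nat.exists_eq_pow_mul_and_not_dvd hval0 p hp.out.ne_one
      have hjn : j ≤ n := by
        by_contra hcon
        have h1 : a.val < p ^ n := ZMod.val_lt a
        have h2 : p ^ n ≤ p ^ j := Nat.pow_le_pow_right hp.out.pos (by omega)
        have h3 : p ^ j ≤ a.val := by
          rw [hjm]
          exact Nat.le_mul_of_pos_right _ (Nat.pos_of_ne_zero (by rintro rfl; simp at hm'))
        omega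
      refine ⟨j, hjn, ?_⟩
      have hunit : IsUnit ((m' : ℕ) : ZMod (p ^ n)) := by
        rw [ZMod.isUnit_iff_coprime]
        exact Nat.Coprime.pow_right n ((Nat.Prime.coprime_iff_not_dvd hp.out).2 hm').symm
      have : a = (p : ZMod (p ^ n)) ^ j * (m' : ZMod (p ^ n)) := by
        rw [← ha, hjm]; push_cast; rfl
      rw [this, Ideal.span_singleton_mul_right_unit hunit]
  obtain ⟨a, rfl⟩ : ∃ a, I = Ideal.span {a} := by
    have : IsPrincipalIdealRing (ZMod (p ^ n)) :=
      IsPrincipalIdealRing.of_surjective (Int.castRingHom (ZMod (p ^ n)))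
        (ZMod.intCast_surjective)
    have : I.IsPrincipal := IsPrincipalIdealRing.principal I
    exact ⟨_, (Ideal.span_singleton_generator I).symm⟩
  exact hprinc a

variable (H : Type u) [AddCommGroup H] [Module (ZMod (p ^ n)) H]

theorem forward [Module.Flat (ZMod (p ^ n)) H] (i : ℕ) (hi : i ≤ n) :
    LinearMap.ker (((p : ZMod (p ^ n)) ^ i) • (LinearMap.id : H →ₗ[ZMod (p ^ n)] H)) =
      LinearMap.range (((p : ZMod (p ^ n)) ^ (n - i)) • (LinearMap.id : H →ₗ[ZMod (p ^ n)] H)) := by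
  refine le_antisymm ?_ ?_
  · intro x hx
    rw [LinearMap.mem_ker, LinearMap.smul_apply, LinearMap.id_apply] at hx
    have hrel : ∑ j : Fin 1, (fun _ => (p : ZMod (p ^ n)) ^ i) j • (fun _ => x) j = 0 := by
      simpa using hx
    obtain ⟨k, a, y, hxy, ha⟩ := Module.Flat.isTrivialRelation_of_sum_smul_eq_zero hrel
    have hx' := hxy 0
    simp only at hx'
    have hb : ∀ j, ∃ b : ZMod (p ^ n), a 0 j = (p : ZMod (p ^ n)) ^ (n - i) * b := by
      intro j
      have := ha j
      simp only [Fin.sum_univ_one] at this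
      exact exists_of_mul_eq_zero p n i hi _ this
    choose b hb using hb
    refine ⟨∑ j, b j • y j, ?_⟩
    rw [LinearMap.smul_apply, LinearMap.id_apply, hx', Finset.smul_sum]
    refine Finset.sum_congr rfl fun j _ => ?_
    rw [hb j, mul_smul]
  · rintro _ ⟨y, rfl⟩
    rw [LinearMap.mem_ker, LinearMap.smul_apply, LinearMap.id_apply, LinearMap.smul_apply,
      LinearMap.id_apply, ← mul_smul, ← pow_add]
    have : i + (n - i) = n := by omega
    rw [this, pow_n_eq_zero, zero_smul]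

theorem backward (h : ∀ i : ℕ, i ≤ n →
    LinearMap.ker (((p : ZMod (p ^ n)) ^ i) • (LinearMap.id : H →ₗ[ZMod (p ^ n)] H)) =
      LinearMap.range (((p : ZMod (p ^ n)) ^ (n - i)) • (LinearMap.id : H →ₗ[ZMod (p ^ n)] H))) :
    Module.Flat (ZMod (p ^ n)) H := by
  rw [Module.Flat.iff_rTensor_injective']
  intro I
  obtain ⟨j, hj, rfl⟩ := ideal_eq p n I
  set I := Ideal.span {(p : ZMod (p ^ n)) ^ j} with hI
  let t : I := ⟨(p : ZMod (p ^ n)) ^ j, Ideal.mem_span_singleton_self _⟩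
  have hform : ∀ z : I ⊗[ZMod (p ^ n)] H, ∃ x : H, z = t ⊗ₜ x := by
    intro z
    induction z using TensorProduct.induction_on with
    | zero => exact ⟨0, by simp⟩
    | tmul a x =>
      obtain ⟨r, hr⟩ := Ideal.mem_span_singleton'.1 a.2
      refine ⟨r • x, ?_⟩
      have : a = r • t := Subtype.ext (by simp [t, ← hr])
      rw [this, TensorProduct.smul_tmul]
    | add z w hz hw =>
      obtain ⟨x, rfl⟩ := hz
      obtain ⟨y, rfl⟩ := hw
      exact ⟨x + y, by rw [TensorProduct.tmul_add]⟩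
  rw [injective_iff_map_eq_zero]
  intro z hz
  obtain ⟨x, rfl⟩ := hform z
  rw [LinearMap.rTensor_tmul] at hz
  have hz' := congrArg (TensorProduct.lid (ZMod (p ^ n)) H) hz
  simp only [Submodule.subtype_apply, TensorProduct.lid_tmul, map_zero] at hz'
  have hxk : x ∈ LinearMap.ker (((p : ZMod (p ^ n)) ^ j) • (LinearMap.id : H →ₗ[ZMod (p ^ n)] H)) := by
    rw [LinearMap.mem_ker, LinearMap.smul_apply, LinearMap.id_apply]
    exact hz'
  rw [h j hj] at hxk
  obtain ⟨y, hy⟩ := hxk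
  rw [LinearMap.smul_apply, LinearMap.id_apply] at hy
  rw [← hy, ← TensorProduct.smul_tmul]
  have : ((p : ZMod (p ^ n)) ^ (n - j)) • t = 0 := by
    apply Subtype.ext
    simp only [t, SetLike.mk_smul_mk, smul_eq_mul, ZeroMemClass.coe_zero]
    rw [← pow_add]
    have : n - j + j = n := by omega
    rw [this, pow_n_eq_zero]
  rw [this, TensorProduct.zero_tmul]

theorem main :
    Module.Flat (ZMod (p ^ n)) H ↔
      ∀ i : ℕ, i ≤ n →
        LinearMap.ker ((p ^ i : ZMod (p ^ n)) • (LinearMap.id : H →ₗ[ZMod (p ^ n)] H)) =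
          LinearMap.range ((p ^ (n - i) : ZMod (p ^ n)) • (LinearMap.id : H →ₗ[ZMod (p ^ n)] H)) :=
  ⟨fun _ i hi => forward p n H i hi, backward p n H⟩

end Groth.Agent.Helper26.ZPFlat
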