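import Mathlib

namespace Groth.Agent.Helper26.ZnGen

open Finset

theorem exists_gen (n : ℕ) :
    ∃ s : Finset (Fin n → ℤ), s.card = n + 1 ∧ AddSubmonoid.closure (s : Set (Fin n → ℤ)) = ⊤ := by
  classical
  let e : Fin n → (Fin n → ℤ) := fun i => Pi.single i 1
  let w : Fin n → ℤ := fun _ => -1
  have he_inj : Function.Injective e := by
    intro i j hij
    by_contra hne
    have := congrFun hij i
    simp [e, Pi.single_apply, hne] at this
  have hw : w ∉ Finset.univ.image e := by
    intro h
    obtain ⟨i, _, hi⟩ := Finset.mem_image.1 h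
    have := congrFun hi i
    simp [e, w] at this
  refine ⟨insert w (Finset.univ.image e), ?_, ?_⟩
  · rw [Finset.card_insert_of_notMem hw, Finset.card_image_of_injective _ he_inj]
    simp
  · rw [eq_top_iff]
    intro x _
    let c : ℕ := ∑ i, (x i).natAbs
    have hc : ∀ i, 0 ≤ x i + c := by
      intro i
      have h1 : (x i).natAbs ≤ c := Finset.single_le_sum (f := fun i => (x i).natAbs)
        (fun _ _ => Nat.zero_le _) (Finset.mem_univ i)
      have h2 : -((x i).natAbs : ℤ) ≤ x i := by
        have := neg_abs_le (x i)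
        rwa [Int.abs_eq_natAbs] at this
      have h3 : ((x i).natAbs : ℤ) ≤ c := by exact_mod_cast h1
      linarith
    have hx : x = ∑ i, (x i + c).toNat • e i + c • w := by
      ext j
      simp only [Pi.add_apply, Finset.sum_apply, Pi.smul_apply, e, w, Pi.single_apply]
      simp only [nsmul_eq_mul, mul_ite, mul_one, mul_zero]
      rw [Finset.sum_eq_single j (fun b _ hb => by simp [Ne.symm hb]) (fun h => absurd (Finset.mem_univ j) h)]
      simp only [if_true]
      rw [Int.toNat_of_nonneg (hc j)]
      ring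
    rw [hx]
    refine add_mem (sum_mem fun i _ => ?_) ?_
    · refine nsmul_mem (AddSubmonoid.subset_closure ?_) _
      simp only [Finset.coe_insert, Finset.coe_image, Finset.coe_univ, Set.image_univ,
        Set.mem_insert_iff, Set.mem_range]
      exact Or.inr ⟨i, rfl⟩
    · refine nsmul_mem (AddSubmonoid.subset_closure ?_) _
      simp

theorem card_ge (n : ℕ) (hn : 1 ≤ n) (s : Finset (Fin n → ℤ))
    (hs : AddSubmonoid.closure (s : Set (Fin n → ℤ)) = ⊤) : n + 1 ≤ s.card := by
  classical
  by_contra hcon
  push Not at hcon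
  have hcard : s.card ≤ n := by omega
  let ι : (Fin n → ℤ) →+ (Fin n → ℚ) :=
    { toFun := fun x i => (x i : ℚ)
      map_zero' := by ext; simp
      map_add' := by intro x y; ext; simp }
  -- key: a functional nonnegative on `s`
  have key : ∃ g : (Fin n → ℚ) →ₗ[ℚ] ℚ, g ≠ 0 ∧ ∀ x ∈ s, 0 ≤ g (ι x) := by
    have hfr : Module.finrank ℚ (Fin n → ℚ) = n := by simp
    rcases s.eq_empty_or_nonempty with rfl | ⟨a, ha⟩
    · have : (⊥ : Submodule ℚ (Fin n → ℚ)) < ⊤ := by
        rw [bot_lt_iff_ne_bot]
        intro h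
        have h1 := congrArg (fun W : Submodule ℚ (Fin n → ℚ) => Module.finrank ℚ W) h
        simp only [finrank_top, finrank_bot] at h1
        omega
      obtain ⟨f, hf, _⟩ := Submodule.exists_le_ker_of_lt_top _ this
      exact ⟨f, hf, by simp⟩
    · let s' := s.erase a
      have hs' : s'.card ≤ n - 1 := by
        rw [Finset.card_erase_of_mem ha]; omega
      let W : Submodule ℚ (Fin n → ℚ) := Submodule.span ℚ ((s'.image ι : Finset (Fin n → ℚ)) : Set (Fin n → ℚ))
      have hW : W < ⊤ := by
        rw [lt_top_iff_ne_top]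
        intro h
        have h1 : Module.finrank ℚ W ≤ (s'.image ι).card := finrank_span_finset_le_card _
        have h2 : (s'.image ι).card ≤ s'.card := Finset.card_image_le
        have h3 : Module.finrank ℚ W = n := by
          rw [h]; simp
        omega
      obtain ⟨f, hf, hfW⟩ := Submodule.exists_le_ker_of_lt_top _ hW
      have hfs' : ∀ x ∈ s', f (ι x) = 0 := by
        intro x hx
        have : ι x ∈ W := Submodule.subset_span (by
          simp only [Finset.coe_image, Set.mem_image, Finset.mem_coe]
          exact ⟨x, hx, rfl⟩)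
        exact hfW this
      rcases le_total 0 (f (ι a)) with h0 | h0
      · refine ⟨f, hf, fun x hx => ?_⟩
        by_cases hxa : x = a
        · rw [hxa]; exact h0
        · rw [hfs' x (Finset.mem_erase.2 ⟨hxa, hx⟩)]
      · refine ⟨-f, neg_ne_zero.2 hf, fun x hx => ?_⟩
        by_cases hxa : x = a
        · rw [hxa, LinearMap.neg_apply]; linarith
        · rw [LinearMap.neg_apply, hfs' x (Finset.mem_erase.2 ⟨hxa, hx⟩)]; simp
  obtain ⟨g, hg, hgs⟩ := key
  have hall : ∀ x : Fin n → ℤ, 0 ≤ g (ι x) := by
    intro x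
    have hx : x ∈ AddSubmonoid.closure (s : Set (Fin n → ℤ)) := hs ▸ AddSubmonoid.mem_top x
    induction hx using AddSubmonoid.closure_induction with
    | mem x hx => exact hgs x hx
    | zero => simp
    | add x y _ _ hx hy =>
      rw [map_add, map_add]
      exact add_nonneg hx hy
  apply hg
  apply LinearMap.pi_ext
  intro i c
  have h1 := hall (Pi.single i 1)
  have h2 := hall (-(Pi.single i 1))
  rw [map_neg, map_neg] at h2
  have h3 : g (ι (Pi.single i 1)) = 0 := by linarith
  have h4 : ι (Pi.single i (1 : ℤ)) = Pi.single i (1 : ℚ) := by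
    ext j
    simp [ι, Pi.single_apply]
  rw [h4] at h3
  have h5 : (Pi.single i c : Fin n → ℚ) = c • Pi.single i (1 : ℚ) := by
    ext j
    simp [Pi.single_apply]
  rw [h5, map_smul, h3]
  simp

theorem main (n : ℕ) (hn : 1 ≤ n) :
    (∃ s : Finset (Fin n → ℤ), s.card = n + 1 ∧ AddSubmonoid.closure (s : Set (Fin n → ℤ)) = ⊤) ∧
    ∀ s : Finset (Fin n → ℤ), AddSubmonoid.closure (s : Set (Fin n → ℤ)) = ⊤ → n + 1 ≤ s.card :=
  ⟨exists_gen n, card_ge n hn⟩

end Groth.Agent.Helper26.ZnGen
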